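/-
Transvections as elements of GL(ι, F), the special linear group is generated by them.
-/
import Mathlib
import Cfsg.Prelude.Def_GeometricClasses

set_option autoImplicit false

namespace Cfsg.Agent.MaxCl

open scoped MatrixGroups Matrix

variable {ι : Type} [Fintype ι] [DecidableEq ι] {F : Type*} [Field F]

/-- the linear map of an element of GL -/
def act (g : GL ι F) : (ι → F) →ₗ[F] (ι → F) := Matrix.toLin' (g : Matrix ι ι F)

theorem act_apply (g : GL ι F) (x : ι → F) : act g x = (g : Matrix ι ι F) *ᵥ x :=
  Matrix.toLin'_apply _ _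

theorem toLin'_eq_act (g : GL ι F) : Matrix.toLin' (g : Matrix ι ι F) = act g := rfl

theorem act_mul (g h : GL ι F) (x : ι → F) : act (g * h) x = act g (act h x) := by
  simp [act_apply, Matrix.mulVec_mulVec]

theorem act_one (x : ι → F) : act (1 : GL ι F) x = x := by simp [act_apply]

theorem act_inv_act (g : GL ι F) (x : ι → F) : act g⁻¹ (act g x) = x := by
  rw [← act_mul, inv_mul_cancel, act_one]

theorem act_act_inv (g : GL ι F) (x : ι → F) : act g (act g⁻¹ x) = x := by
  rw [← act_mul, mul_inv_cancel, act_one]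

theorem act_injective (g : GL ι F) : Function.Injective (act g) :=
  Function.LeftInverse.injective (act_inv_act g)

theorem gl_ext {g h : GL ι F} (H : ∀ x, act g x = act h x) : g = h :=
  Units.ext (Matrix.toLin'.injective (LinearMap.ext H))

/-- `x ↦ x + φ x • v`, or the identity when `φ v ≠ 0` -/
noncomputable def tv (φ : (ι → F) →ₗ[F] F) (v : ι → F) : GL ι F := by
  classical
  exact if h : φ v = 0 then
    { val := LinearMap.toMatrix' (LinearMap.id + φ.smulRight v)
      inv := LinearMap.toMatrix' (LinearMap.id - φ.smulRight v)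
      val_inv := by
        rw [← LinearMap.toMatrix'_comp, ← LinearMap.toMatrix'_id (R := F) (n := ι)]
        congr 1
        apply LinearMap.ext
        intro x
        simp only [LinearMap.comp_apply, LinearMap.add_apply, LinearMap.sub_apply, LinearMap.id_apply,
          LinearMap.smulRight_apply, map_add, map_sub, map_smul, h, smul_eq_mul, mul_zero, zero_smul]
        module
      inv_val := by
        rw [← LinearMap.toMatrix'_comp, ← LinearMap.toMatrix'_id (R := F) (n := ι)]
        congr 1
        apply LinearMap.ext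
        intro x
        simp only [LinearMap.comp_apply, LinearMap.add_apply, LinearMap.sub_apply, LinearMap.id_apply,
          LinearMap.smulRight_apply, map_add, map_sub, map_smul, h, smul_eq_mul, mul_zero, zero_smul]
        module }
  else 1

theorem act_tv {φ : (ι → F) →ₗ[F] F} {v : ι → F} (h : φ v = 0) (x : ι → F) :
    act (tv φ v) x = x + φ x • v := by
  simp [tv, h, act_apply, ← Matrix.toLin'_apply]

theorem tv_smul_swap (φ : (ι → F) →ₗ[F] F) (v : ι → F) (a : F) (h : φ v = 0) :
    tv (a • φ) v = tv φ (a • v) := by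
  apply gl_ext; intro x
  rw [act_tv (by simp [h]), act_tv (by simp [h]), smul_smul]
  simp [mul_comm]

theorem tv_zero_left (v : ι → F) : tv (0 : (ι → F) →ₗ[F] F) v = 1 := by
  apply gl_ext; intro x
  rw [act_tv (by simp)]; simp [act_one]

theorem conj_tv (g : GL ι F) {φ : (ι → F) →ₗ[F] F} {v : ι → F} (h : φ v = 0) :
    g * tv φ v * g⁻¹ = tv (φ ∘ₗ act g⁻¹) (act g v) := by
  apply gl_ext; intro x
  have h' : (φ ∘ₗ act g⁻¹) (act g v) = 0 := by rw [LinearMap.comp_apply, act_inv_act, h]
  rw [act_tv h', act_mul, act_mul, act_tv h, map_add, map_smul, act_act_inv, LinearMap.comp_apply]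

theorem tv_add (φ ψ : (ι → F) →ₗ[F] F) (v : ι → F) (h : φ v = 0) (h' : ψ v = 0) :
    tv φ v * tv ψ v = tv (φ + ψ) v := by
  apply gl_ext; intro x
  rw [act_mul, act_tv h, act_tv h', act_tv (by simp [h, h'])]
  simp [h, add_smul]
  abel

theorem tv_add_right (φ : (ι → F) →ₗ[F] F) (v w : ι → F) (h : φ v = 0) (h' : φ w = 0) :
    tv φ v * tv φ w = tv φ (v + w) := by
  apply gl_ext; intro x
  rw [act_mul, act_tv h, act_tv h', act_tv (by simp [h, h'])]
  simp [h', smul_add]
  abel

theorem exists_dual (W : Submodule F (ι → F)) {v : ι → F} (hv : v ∉ W) :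
    ∃ φ : (ι → F) →ₗ[F] F, (∀ w ∈ W, φ w = 0) ∧ φ v = 1 := by
  have hv' : W.mkQ v ≠ 0 := by simpa [Submodule.Quotient.mk_eq_zero] using hv
  obtain ⟨ψ, hψ⟩ := Module.Projective.exists_dual_ne_zero F hv'
  refine ⟨(ψ (W.mkQ v))⁻¹ • ψ ∘ₗ W.mkQ, fun w hw => ?_, ?_⟩
  · simp [(Submodule.Quotient.mk_eq_zero W).2 hw]
  · simp only [LinearMap.smul_apply, LinearMap.comp_apply, smul_eq_mul]
    exact inv_mul_cancel₀ hψ

theorem exists_notMem_two (A B : Submodule F (ι → F)) (hA : A ≠ ⊤) (hB : B ≠ ⊤) :
    ∃ z, z ∉ A ∧ z ∉ B := by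
  obtain ⟨a, ha⟩ : ∃ a, a ∉ A := by
    by_contra h; push Not at h; exact hA (eq_top_iff.2 fun x _ => h x)
  obtain ⟨b, hb⟩ : ∃ b, b ∉ B := by
    by_contra h; push Not at h; exact hB (eq_top_iff.2 fun x _ => h x)
  by_cases ha' : a ∈ B
  · by_cases hb' : b ∈ A
    · exact ⟨a + b, fun h => ha (by simpa using A.sub_mem h hb'), fun h => hb (by simpa using B.sub_mem h ha')⟩
    · exact ⟨b, hb', hb⟩
  · exact ⟨a, ha, ha'⟩

/-- transvection moving `a` to `b`, fixing `W` pointwise -/
theorem exists_tv_move (W : Submodule F (ι → F)) (a b : ι → F) (hb : b ∉ W ⊔ F ∙ (b - a)) :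
    ∃ (φ : (ι → F) →ₗ[F] F) (v : ι → F), φ v = 0 ∧ act (tv φ v) a = b ∧ ∀ w ∈ W, act (tv φ v) w = w := by
  obtain ⟨φ, h0, h1⟩ := exists_dual _ hb
  have hd : φ (b - a) = 0 := h0 _ (Submodule.mem_sup_right (Submodule.mem_span_singleton_self _))
  have ha : φ a = 1 := by
    have := hd
    rw [map_sub, h1, sub_eq_zero] at this
    exact this.symm
  refine ⟨φ, b - a, hd, ?_, fun w hw => ?_⟩
  · rw [act_tv hd, ha]; simp
  · rw [act_tv hd, h0 w (Submodule.mem_sup_left hw)]; simp

theorem det_eq_of_fix_hyperplane {g : GL ι F} {φ : (ι → F) →ₗ[F] F} {v : ι → F}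
    (h : ∀ x, act g x = x + φ x • v) : (g : Matrix ι ι F).det = 1 + φ v := by
  have hg : (g : Matrix ι ι F) = 1 + Matrix.replicateCol Unit v * Matrix.replicateRow Unit (fun i => φ (Pi.single i 1)) := by
    apply Matrix.toLin'.injective
    apply (Pi.basisFun F ι).ext; intro i
    have := h (Pi.single i 1)
    rw [act_apply] at this
    simp only [Pi.basisFun_apply, Matrix.toLin'_apply, Matrix.add_mulVec, Matrix.one_mulVec, this]
    congr 1
    ext j
    simp [Matrix.mulVec_single, Matrix.mul_apply, mul_comm]
  rw [hg, Matrix.det_one_add_replicateCol_mul_replicateRow]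
  congr 1
  rw [dotProduct]
  conv_rhs => rw [← Finset.univ_sum_single v, map_sum]
  refine Finset.sum_congr rfl fun i _ => ?_
  have : (Pi.single i (v i) : ι → F) = v i • Pi.single i 1 := by
    ext j; simp [Pi.single_apply]
  rw [this, map_smul, smul_eq_mul, mul_comm]

/-- A subgroup containing every transvection contains every matrix of determinant one. -/
theorem specialLinear_le_of_transvections (M : Subgroup (GL ι F))
    (hM : ∀ (φ : (ι → F) →ₗ[F] F) (v : ι → F), φ v = 0 → tv φ v ∈ M) :
    Cfsg.Geo.specialLinear ι F ≤ M := by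
  suffices H : ∀ (k : ℕ) (W : Submodule F (ι → F)) (g : GL ι F),
      Fintype.card ι ≤ Module.finrank F W + k → g ∈ Cfsg.Geo.specialLinear ι F →
      (∀ w ∈ W, act g w = w) → g ∈ M by
    intro g hg
    exact H _ ⊥ g (Nat.le_add_left _ _) hg (fun w hw => by simp [(Submodule.mem_bot F).1 hw])
  intro k
  induction k with
  | zero =>
    intro W g hk _ hW
    have : W = ⊤ := Submodule.eq_top_of_finrank_eq (by
      rw [Module.finrank_pi]; exact le_antisymm (by simpa using Submodule.finrank_le W) (by simpa using hk))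
    subst this
    have : g = 1 := gl_ext fun x => by rw [hW x trivial, act_one]
    rw [this]; exact M.one_mem
  | succ k ih =>
    intro W g hk hg hW
    by_cases hWtop : W = ⊤
    · subst hWtop
      have : g = 1 := gl_ext fun x => by rw [hW x trivial, act_one]
      rw [this]; exact M.one_mem
    obtain ⟨v, hv, -⟩ := exists_notMem_two W W hWtop hWtop
    by_cases hv' : W ⊔ F ∙ v = ⊤
    · -- `W` is a hyperplane
      obtain ⟨φ, h0, h1⟩ := exists_dual W hv
      have hform : ∀ x, act g x = x + φ x • (act g v - v) := by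
        intro x
        have hx : x ∈ W ⊔ F ∙ v := hv' ▸ Submodule.mem_top
        obtain ⟨w, hw, y, hy, rfl⟩ := Submodule.mem_sup.1 hx
        obtain ⟨a, rfl⟩ := Submodule.mem_span_singleton.1 hy
        simp only [map_add, map_smul, hW w hw, h0 w hw, h1, smul_sub, smul_eq_mul, mul_one, zero_add]
        module
      have hdet : (g : Matrix ι ι F).det = 1 := by
        have := congrArg Units.val (MonoidHom.mem_ker.1 hg)
        simpa using this
      have hz : φ (act g v - v) = 0 := by
        simpa [det_eq_of_fix_hyperplane hform] using hdet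
      have : g = tv φ (act g v - v) := gl_ext fun x => by rw [act_tv hz, hform]
      rw [this]; exact hM _ _ hz
    · have hgv : act g v ∉ W := by
        intro h
        apply hv
        have := hW _ h
        rw [← act_injective g this]; exact h
      have hg' : W ⊔ F ∙ act g v ≠ ⊤ := by
        intro h
        apply hv'
        apply Submodule.eq_top_of_finrank_eq
        have e1 : ∀ u, u ∉ W → Module.finrank F ↥(W ⊔ F ∙ u) = Module.finrank F W + 1 :=
          fun u hu => Submodule.finrank_sup_span_singleton hu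
        rw [e1 v hv, ← e1 _ hgv, h, finrank_top]
      obtain ⟨z, hz1, hz2⟩ := exists_notMem_two _ _ hv' hg'
      have m1 : z ∉ W ⊔ F ∙ (z - act g v) := by
        intro h
        obtain ⟨w, hw, y, hy, e⟩ := Submodule.mem_sup.1 h
        obtain ⟨a, rfl⟩ := Submodule.mem_span_singleton.1 hy
        rcases eq_or_ne a 1 with rfl | ha
        · exact hgv (by
            have : act g v = w := by rw [one_smul] at e; linear_combination (norm := module) -e
            rw [this]; exact hw)
        · apply hz2
          have : z = (1 - a)⁻¹ • (w - a • act g v) := by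
            have h' : (1 - a) • z = w - a • act g v := by linear_combination (norm := module) -e
            rw [← h', inv_smul_smul₀ (sub_ne_zero.2 (Ne.symm ha))]
          rw [this]
          exact Submodule.smul_mem _ _ (Submodule.sub_mem _ (Submodule.mem_sup_left hw)
            (Submodule.mem_sup_right (Submodule.smul_mem _ _ (Submodule.mem_span_singleton_self _))))
      have m2 : v ∉ W ⊔ F ∙ (v - z) := by
        intro h
        obtain ⟨w, hw, y, hy, e⟩ := Submodule.mem_sup.1 h
        obtain ⟨a, rfl⟩ := Submodule.mem_span_singleton.1 hy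
        rcases eq_or_ne a 0 with rfl | ha
        · exact hv (by simp only [zero_smul, add_zero] at e; rw [← e]; exact hw)
        · apply hz1
          have : z = a⁻¹ • (w - (1 - a) • v) := by
            have h' : a • z = w - (1 - a) • v := by linear_combination (norm := module) -e
            rw [← h', inv_smul_smul₀ ha]
          rw [this]
          exact Submodule.smul_mem _ _ (Submodule.sub_mem _ (Submodule.mem_sup_left hw)
            (Submodule.mem_sup_right (Submodule.smul_mem _ _ (Submodule.mem_span_singleton_self _))))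
      obtain ⟨φ₁, u₁, k₁, mv₁, fx₁⟩ := exists_tv_move W (act g v) z m1
      obtain ⟨φ₂, u₂, k₂, mv₂, fx₂⟩ := exists_tv_move W z v m2
      have hsl : ∀ φ u, φ u = 0 → tv φ u ∈ Cfsg.Geo.specialLinear ι F := by
        intro φ u h
        apply MonoidHom.mem_ker.2
        apply Units.ext
        simpa [det_eq_of_fix_hyperplane (act_tv h)] using h
      have hmem : tv φ₂ u₂ * tv φ₁ u₁ * g ∈ M := by
        refine ih (W ⊔ F ∙ v) _ ?_ (mul_mem (mul_mem (hsl _ _ k₂) (hsl _ _ k₁)) hg) ?_
        · rw [Submodule.finrank_sup_span_singleton hv]; omega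
        · intro x hx
          obtain ⟨w, hw, y, hy, rfl⟩ := Submodule.mem_sup.1 hx
          obtain ⟨a, rfl⟩ := Submodule.mem_span_singleton.1 hy
          simp only [act_mul, map_add, map_smul, hW w hw, fx₁ w hw, fx₂ w hw, mv₁, mv₂]
      exact (mul_mem_cancel_left (mul_mem (hM _ _ k₂) (hM _ _ k₁))).1 hmem

end Cfsg.Agent.MaxCl
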