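/-
Orthogonal groups at matrix level: Siegel elements and reflections, generation of the isometry group, the derived
group equals the group generated by the Siegel elements, transitivity of the latter, and the closure property of
full root groups.
-/
import Cfsg.Agent.Lib.MaxCl.Transvection
import Cfsg.Agent.Lib.Forms.Witt

set_option autoImplicit false

namespace Cfsg.Agent.MaxCl.Orth

open scoped MatrixGroups Matrix commutatorElement
open Module (finrank)

variable {ι : Type} [Fintype ι] [DecidableEq ι] {F : Type*} [Field F] (Q : QuadraticForm F (ι → F))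

set_option quotPrecheck false in
local notation "B" => QuadraticMap.polar (⇑Q)

/-! ### The polar form -/

theorem B_comm (x y : ι → F) : B x y = B y x := QuadraticMap.polar_comm _ x y

theorem B_add_left (x x' y : ι → F) : B (x + x') y = B x y + B x' y := QuadraticMap.polar_add_left Q x x' y

theorem B_add_right (x y y' : ι → F) : B x (y + y') = B x y + B x y' := QuadraticMap.polar_add_right Q x y y'

theorem B_smul_left (a : F) (x y : ι → F) : B (a • x) y = a * B x y := QuadraticMap.polar_smul_left Q a x y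

theorem B_smul_right (a : F) (x y : ι → F) : B x (a • y) = a * B x y := QuadraticMap.polar_smul_right Q a x y

theorem B_sub_left (x x' y : ι → F) : B (x - x') y = B x y - B x' y := QuadraticMap.polar_sub_left Q x x' y

theorem B_sub_right (x y y' : ι → F) : B x (y - y') = B x y - B x y' := QuadraticMap.polar_sub_right Q x y y'

theorem B_neg_left (x y : ι → F) : B (-x) y = -B x y := QuadraticMap.polar_neg_left Q x y

theorem B_neg_right (x y : ι → F) : B x (-y) = -B x y := QuadraticMap.polar_neg_right Q x y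

theorem B_zero_left (y : ι → F) : B 0 y = 0 := QuadraticMap.polar_zero_left Q y

theorem B_zero_right (x : ι → F) : B x 0 = 0 := QuadraticMap.polar_zero_right Q x

theorem B_self (x : ι → F) : B x x = 2 * Q x := by
  rw [QuadraticMap.polar_self, two_nsmul, two_mul]

theorem B_self_of_singular {x : ι → F} (h : Q x = 0) : B x x = 0 := by rw [B_self Q, h, mul_zero]

theorem Q_add (x y : ι → F) : Q (x + y) = Q x + Q y + B x y := QuadraticMap.map_add _ x y

theorem Q_smul (a : F) (x : ι → F) : Q (a • x) = a * a * Q x := QuadraticMap.map_smul Q a x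

theorem Q_neg (x : ι → F) : Q (-x) = Q x := QuadraticMap.map_neg Q x

theorem Q_sub (x y : ι → F) : Q (x - y) = Q x + Q y - B x y := by
  rw [sub_eq_add_neg, Q_add Q, Q_neg Q, B_neg_right Q]; ring

/-! ### The isometry group -/

theorem mem_iso {g : GL ι F} : g ∈ isometryGroup F Q ↔ ∀ x, Q (act g x) = Q x := by
  simp only [act_apply]
  exact ⟨fun h x => h x x, fun h u _ => h u⟩

variable {Q}

theorem Q_act {g : GL ι F} (hg : g ∈ isometryGroup F Q) (x : ι → F) : Q (act g x) = Q x := (mem_iso Q).1 hg x

theorem B_act {g : GL ι F} (hg : g ∈ isometryGroup F Q) (x y : ι → F) : B (act g x) (act g y) = B x y := by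
  simp only [QuadraticMap.polar, ← map_add, Q_act hg]

theorem omega_le_iso : Cfsg.Geo.omegaGL Q ≤ isometryGroup F Q := Subgroup.map_subtype_le _

theorem commutator_mem_omega {g h : GL ι F} (hg : g ∈ isometryGroup F Q) (hh : h ∈ isometryGroup F Q) :
    g * h * g⁻¹ * h⁻¹ ∈ Cfsg.Geo.omegaGL Q :=
  ⟨⁅(⟨g, hg⟩ : isometryGroup F Q), ⟨h, hh⟩⁆,
    Subgroup.commutator_mem_commutator (Subgroup.mem_top _) (Subgroup.mem_top _), rfl⟩

variable (Q)

/-! ### Siegel elements and reflections -/

/-- The map `x ↦ x + B(u,x) w - (B(w,x) + Q(w) B(u,x)) u`. -/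
noncomputable def sgLin (u w : ι → F) : (ι → F) →ₗ[F] (ι → F) :=
  LinearMap.id + (QuadraticMap.polarBilin Q u).smulRight w
    - (QuadraticMap.polarBilin Q w + Q w • QuadraticMap.polarBilin Q u).smulRight u

theorem sgLin_apply (u w x : ι → F) : sgLin Q u w x = x + B u x • w - (B w x + Q w * B u x) • u := by
  simp [sgLin]

theorem sgLin_comp {u w w' : ι → F} (hu : Q u = 0) (h : B u w = 0) (h' : B u w' = 0) (x : ι → F) :
    sgLin Q u w (sgLin Q u w' x) = sgLin Q u (w + w') x := by
  have hwu : B w u = 0 := (B_comm Q w u).trans h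
  simp only [sgLin_apply, B_add_right Q, B_sub_right Q, B_smul_right Q, B_add_left Q, Q_add Q, h', hwu,
    B_self_of_singular Q hu]
  match_scalars <;> ring

theorem sgLin_zero (u x : ι → F) : sgLin Q u 0 x = x := by
  simp [sgLin_apply, B_zero_left Q]

/-- The Siegel element of a singular `u` and `w` orthogonal to `u`; the identity otherwise. -/
noncomputable def sg (u w : ι → F) : GL ι F := by
  classical
  exact if h : Q u = 0 ∧ B u w = 0 then
    { val := LinearMap.toMatrix' (sgLin Q u w)
      inv := LinearMap.toMatrix' (sgLin Q u (-w))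
      val_inv := by
        rw [← LinearMap.toMatrix'_comp, ← LinearMap.toMatrix'_id (R := F) (n := ι)]
        congr 1
        apply LinearMap.ext
        intro x
        rw [LinearMap.comp_apply, sgLin_comp Q h.1 h.2 (by rw [B_neg_right Q, h.2, neg_zero]),
          add_neg_cancel, sgLin_zero, LinearMap.id_apply]
      inv_val := by
        rw [← LinearMap.toMatrix'_comp, ← LinearMap.toMatrix'_id (R := F) (n := ι)]
        congr 1
        apply LinearMap.ext
        intro x
        rw [LinearMap.comp_apply, sgLin_comp Q h.1 (by rw [B_neg_right Q, h.2, neg_zero]) h.2,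
          neg_add_cancel, sgLin_zero, LinearMap.id_apply] }
  else 1

theorem act_sg {u w : ι → F} (hu : Q u = 0) (h : B u w = 0) (x : ι → F) :
    act (sg Q u w) x = x + B u x • w - (B w x + Q w * B u x) • u := by
  rw [← sgLin_apply]
  simp [sg, hu, h, act_apply, ← Matrix.toLin'_apply]

theorem sg_of_not {u w : ι → F} (h : ¬ (Q u = 0 ∧ B u w = 0)) : sg Q u w = 1 := by simp [sg, h]

theorem sg_mem_iso (u w : ι → F) : sg Q u w ∈ isometryGroup F Q := by
  by_cases h : Q u = 0 ∧ B u w = 0
  · rw [mem_iso]
    intro x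
    rw [act_sg Q h.1 h.2, Q_sub Q, Q_add Q, B_add_left Q]
    simp only [Q_smul Q, B_smul_left Q, B_smul_right Q, h.1, B_comm Q x w, B_comm Q x u, (B_comm Q w u).trans h.2]
    ring
  · rw [sg_of_not Q h]; exact one_mem _

theorem sg_zero (u : ι → F) : sg Q u 0 = 1 := by
  by_cases h : Q u = 0
  · apply gl_ext; intro x
    rw [act_sg Q h (B_zero_right Q u), ← sgLin_apply, sgLin_zero, act_one]
  · exact sg_of_not Q fun h' => h h'.1

theorem sg_add {u w w' : ι → F} (hu : Q u = 0) (h : B u w = 0) (h' : B u w' = 0) :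
    sg Q u w * sg Q u w' = sg Q u (w + w') := by
  apply gl_ext; intro x
  have h'' : B u (w + w') = 0 := by rw [B_add_right Q, h, h', add_zero]
  rw [act_mul, act_sg Q hu h, act_sg Q hu h', act_sg Q hu h'', ← sgLin_apply, ← sgLin_apply, ← sgLin_apply,
    sgLin_comp Q hu h h']

theorem sg_neg {u w : ι → F} (hu : Q u = 0) (h : B u w = 0) : sg Q u (-w) = (sg Q u w)⁻¹ := by
  refine eq_inv_of_mul_eq_one_right ?_
  rw [sg_add Q hu h (by rw [B_neg_right Q, h, neg_zero]), add_neg_cancel, sg_zero]

theorem sg_add_smul {u w : ι → F} (hu : Q u = 0) (h : B u w = 0) (a : F) :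
    sg Q u (w + a • u) = sg Q u w := by
  apply gl_ext; intro x
  have h' : B u (w + a • u) = 0 := by
    rw [B_add_right Q, B_smul_right Q, h, B_self_of_singular Q hu, mul_zero, add_zero]
  rw [act_sg Q hu h, act_sg Q hu h', B_add_left Q, B_smul_left Q, Q_add Q, Q_smul Q, B_smul_right Q, hu,
    (B_comm Q w u).trans h]
  module

theorem sg_smul_left {u w : ι → F} (hu : Q u = 0) (h : B u w = 0) (a : F) :
    sg Q (a • u) w = sg Q u (a • w) := by
  apply gl_ext; intro x
  rw [act_sg Q (by rw [Q_smul Q, hu, mul_zero]) (by rw [B_smul_left Q, h, mul_zero]),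
    act_sg Q hu (by rw [B_smul_right Q, h, mul_zero])]
  simp only [B_smul_left Q, Q_smul Q]
  module

theorem conj_sg {g : GL ι F} (hg : g ∈ isometryGroup F Q) (u w : ι → F) :
    g * sg Q u w * g⁻¹ = sg Q (act g u) (act g w) := by
  by_cases h : Q u = 0 ∧ B u w = 0
  · apply gl_ext; intro x
    obtain ⟨y, rfl⟩ : ∃ y, x = act g y := ⟨_, (act_act_inv g x).symm⟩
    rw [act_mul, act_mul, act_inv_act, act_sg Q h.1 h.2, act_sg Q (by rw [Q_act hg, h.1])
      (by rw [B_act hg, h.2]), B_act hg, B_act hg, Q_act hg, map_sub, map_add, map_smul, map_smul]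
  · rw [sg_of_not Q h, sg_of_not Q, mul_one, mul_inv_cancel]
    rwa [Q_act hg, B_act hg]

theorem act_sg_fix {u w x : ι → F} (hu : Q u = 0) (h : B u w = 0) (h1 : B u x = 0) (h2 : B w x = 0) :
    act (sg Q u w) x = x := by
  rw [act_sg Q hu h, h1, h2]; simp

/-- The reflection (orthogonal transvection in characteristic two) of a nonsingular vector. -/
noncomputable def refl (a : ι → F) : GL ι F := by
  classical
  exact if h : Q a ≠ 0 then
    { val := LinearMap.toMatrix' (LinearMap.id - ((Q a)⁻¹ • QuadraticMap.polarBilin Q a).smulRight a)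
      inv := LinearMap.toMatrix' (LinearMap.id - ((Q a)⁻¹ • QuadraticMap.polarBilin Q a).smulRight a)
      val_inv := by
        rw [← LinearMap.toMatrix'_comp, ← LinearMap.toMatrix'_id (R := F) (n := ι)]
        congr 1
        apply LinearMap.ext
        intro x
        simp only [LinearMap.comp_apply, LinearMap.sub_apply, LinearMap.id_apply, LinearMap.smulRight_apply,
          LinearMap.smul_apply, QuadraticMap.polarBilin_apply_apply, smul_eq_mul, B_sub_right Q, B_smul_right Q,
          B_self Q]
        match_scalars <;> field_simp <;> ring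
      inv_val := by
        rw [← LinearMap.toMatrix'_comp, ← LinearMap.toMatrix'_id (R := F) (n := ι)]
        congr 1
        apply LinearMap.ext
        intro x
        simp only [LinearMap.comp_apply, LinearMap.sub_apply, LinearMap.id_apply, LinearMap.smulRight_apply,
          LinearMap.smul_apply, QuadraticMap.polarBilin_apply_apply, smul_eq_mul, B_sub_right Q, B_smul_right Q,
          B_self Q]
        match_scalars <;> field_simp <;> ring }
  else 1

theorem act_refl {a : ι → F} (h : Q a ≠ 0) (x : ι → F) :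
    act (refl Q a) x = x - ((Q a)⁻¹ * B a x) • a := by
  simp [refl, h, act_apply, ← Matrix.toLin'_apply]

theorem act_refl_self {a : ι → F} (h : Q a ≠ 0) : act (refl Q a) a = -a := by
  rw [act_refl Q h, B_self Q]
  match_scalars
  field_simp
  ring

theorem act_refl_fix {a x : ι → F} (h : Q a ≠ 0) (h' : B a x = 0) : act (refl Q a) x = x := by
  rw [act_refl Q h, h']; simp

theorem refl_of_singular {a : ι → F} (h : Q a = 0) : refl Q a = 1 := by simp [refl, h]

theorem refl_mem_iso (a : ι → F) : refl Q a ∈ isometryGroup F Q := by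
  by_cases h : Q a = 0
  · rw [refl_of_singular Q h]; exact one_mem _
  · rw [mem_iso]
    intro x
    rw [act_refl Q h, Q_sub Q, Q_smul Q, B_smul_right Q, B_comm Q x a]
    field_simp
    ring

theorem refl_mul_self (a : ι → F) : refl Q a * refl Q a = 1 := by
  by_cases h : Q a = 0
  · rw [refl_of_singular Q h, one_mul]
  · apply gl_ext; intro x
    rw [act_mul, act_one, act_refl Q h, act_refl Q h, B_sub_right Q, B_smul_right Q, B_self Q]
    match_scalars <;> field_simp <;> ring

theorem refl_inv (a : ι → F) : (refl Q a)⁻¹ = refl Q a := inv_eq_of_mul_eq_one_right (refl_mul_self Q a)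

theorem conj_refl {g : GL ι F} (hg : g ∈ isometryGroup F Q) (a : ι → F) :
    g * refl Q a * g⁻¹ = refl Q (act g a) := by
  by_cases h : Q a = 0
  · rw [refl_of_singular Q h, refl_of_singular Q (by rw [Q_act hg, h]), mul_one, mul_inv_cancel]
  · apply gl_ext; intro x
    obtain ⟨y, rfl⟩ : ∃ y, x = act g y := ⟨_, (act_act_inv g x).symm⟩
    rw [act_mul, act_mul, act_inv_act, act_refl Q h, act_refl Q (by rwa [Q_act hg]), B_act hg, Q_act hg,
      map_sub, map_smul]

theorem refl_commute {a b : ι → F} (h : B a b = 0) : Commute (refl Q a) (refl Q b) := by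
  by_cases hb : Q b = 0
  · rw [refl_of_singular Q hb]; exact Commute.one_right _
  by_cases ha : Q a = 0
  · rw [refl_of_singular Q ha]; exact Commute.one_left _
  · have e := conj_refl Q (refl_mem_iso Q a) b
    rw [act_refl_fix Q ha h] at e
    exact mul_inv_eq_iff_eq_mul.1 e

/-! ### Orthogonal complements and existence of vectors -/

/-- The orthogonal complement. -/
noncomputable def perp (W : Submodule F (ι → F)) : Submodule F (ι → F) :=
  LinearMap.BilinForm.orthogonal (QuadraticMap.polarBilin Q) W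

theorem mem_perp {W : Submodule F (ι → F)} {x : ι → F} : x ∈ perp Q W ↔ ∀ w ∈ W, B w x = 0 := Iff.rfl

theorem mem_perp_span {s : Set (ι → F)} {x : ι → F} :
    x ∈ perp Q (Submodule.span F s) ↔ ∀ w ∈ s, B w x = 0 := by
  refine ⟨fun h w hw => h w (Submodule.subset_span hw), fun h w hw => ?_⟩
  induction hw using Submodule.span_induction with
  | mem y hy => exact h y hy
  | zero => exact B_zero_left Q x
  | add y z _ _ hy hz => exact (B_add_left Q y z x).trans (by rw [show B y x = 0 from hy, show B z x = 0 from hz, add_zero])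
  | smul a y _ hy => exact (B_smul_left Q a y x).trans (by rw [show B y x = 0 from hy, mul_zero])

theorem finrank_span_list_le {n : ℕ} (f : Fin n → (ι → F)) : finrank F (Submodule.span F (Set.range f)) ≤ n :=
  (finrank_range_le_card f).trans_eq (Fintype.card_fin n)

theorem exists_singular [Finite F] {D : Submodule F (ι → F)} (h : 3 ≤ finrank F D) :
    ∃ x ∈ D, x ≠ 0 ∧ Q x = 0 := by
  haveI := Fintype.ofFinite F
  by_contra hne
  push Not at hne
  -- `hne : ∀ x ∈ D, x ≠ 0 → Q x ≠ 0`
  have indep : ∀ P : Submodule F (ι → F), finrank F P + 1 ≤ finrank F D →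
      ∀ s : Finset (ι → F), finrank F P + s.card + 1 ≤ finrank F D →
        ∃ y ∈ D, y ∉ P ∧ ∀ a ∈ s, B a y = 0 := by
    intro P _ s hs
    by_contra hc
    push Not at hc
    have hle : D ⊓ perp Q (Submodule.span F (s : Set (ι → F))) ≤ P := by
      intro y hy
      by_contra hyP
      obtain ⟨a, ha, hne⟩ := hc y hy.1 hyP
      exact hne ((mem_perp_span Q).1 hy.2 a ha)
    have h1 := Submodule.finrank_mono hle
    let f : D →ₗ[F] (s → F) := LinearMap.pi fun a => (QuadraticMap.polarBilin Q a.1).domRestrict D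
    have h2 := LinearMap.finrank_range_add_finrank_ker f
    have h3 := Submodule.finrank_le (LinearMap.range f)
    rw [Module.finrank_fintype_fun_eq_card, Fintype.card_coe] at h3
    have h4 : (LinearMap.ker f).map D.subtype ≤ D ⊓ perp Q (Submodule.span F (s : Set (ι → F))) := by
      rintro _ ⟨y, hy, rfl⟩
      exact ⟨y.2, (mem_perp_span Q).2 fun a ha => congrFun (LinearMap.mem_ker.1 hy) ⟨a, ha⟩⟩
    have h5 := Submodule.finrank_mono h4
    rw [Submodule.finrank_map_subtype_eq] at h5
    omega
  obtain ⟨x, hx, hx0, -⟩ := indep ⊥ (by rw [finrank_bot]; omega) ∅ (by rw [finrank_bot, Finset.card_empty]; omega)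
  have hx0' : x ≠ 0 := fun e => hx0 (by simp [e])
  obtain ⟨y, hy, hyP, hxy⟩ := indep (F ∙ x) (by rw [finrank_span_singleton hx0']; omega) {x}
    (by rw [finrank_span_singleton hx0']; simp; omega)
  have hxy : B x y = 0 := hxy x (Finset.mem_singleton_self x)
  by_cases h2 : (2 : F) = 0
  · haveI : CharP F 2 := CharTwo.of_one_ne_zero_of_two_eq_zero one_ne_zero h2
    obtain ⟨c, hc⟩ := FiniteField.isSquare_of_char_two (ringChar.eq F 2) (Q y * (Q x)⁻¹)
    have hm : y + c • x ∈ D := D.add_mem hy (D.smul_mem _ hx)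
    have hz : y + c • x ≠ 0 := fun e => hyP (by
      rw [eq_neg_of_add_eq_zero_left e]; exact Submodule.neg_mem _ (Submodule.smul_mem _ _
        (Submodule.mem_span_singleton_self x)))
    refine hne _ hm hz ?_
    rw [Q_add Q, Q_smul Q, B_smul_right Q, B_comm Q y x, hxy, ← hc, mul_assoc, inv_mul_cancel₀ (hne x hx hx0')]
    linear_combination Q y * h2
  · have hQx := hne x hx hx0'
    have hy0 : y ≠ 0 := fun e => hyP (by simp [e])
    have hQy := hne y hy hy0
    obtain ⟨z, hz, hzP, hxyz⟩ : ∃ z ∈ D, z ≠ 0 ∧ (B x z = 0 ∧ B y z = 0) := by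
      classical
      obtain ⟨z, hz, hzP, hxyz⟩ := indep ⊥ (by rw [finrank_bot]; omega) {x, y} (by
        have := Finset.card_le_two (a := x) (b := y)
        rw [finrank_bot]; omega)
      exact ⟨z, hz, fun e => hzP (by simp [e]), hxyz x (by simp), hxyz y (by simp)⟩
    obtain ⟨a, b, hab⟩ := FiniteField.exists_root_sum_quadratic
      (f := Polynomial.C (Q x) * Polynomial.X ^ 2) (g := Polynomial.C (Q y) * Polynomial.X ^ 2 + Polynomial.C (Q z))
      (Polynomial.degree_C_mul_X_pow 2 hQx)
      (by rw [Polynomial.degree_add_C (by rw [Polynomial.degree_C_mul_X_pow 2 hQy]; decide),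
        Polynomial.degree_C_mul_X_pow 2 hQy]; rfl)
      (FiniteField.odd_card_of_char_ne_two fun hc => h2 (by
        haveI := ringChar.of_eq hc
        exact CharTwo.two_eq_zero))
    simp only [Polynomial.eval_mul, Polynomial.eval_C, Polynomial.eval_pow, Polynomial.eval_X,
      Polynomial.eval_add] at hab
    have hw0 : a • x + b • y + z ≠ 0 := by
      intro e
      have := congrArg (B z) e
      rw [B_add_right Q, B_add_right Q, B_smul_right Q, B_smul_right Q, B_comm Q z x, B_comm Q z y, hxyz.1,
        hxyz.2, B_zero_right Q, B_self Q] at this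
      exact hne z hz hzP (by simpa [h2] using this)
    refine hne _ (D.add_mem (D.add_mem (D.smul_mem _ hx) (D.smul_mem _ hy)) hz) hw0 ?_
    rw [Q_add Q, Q_add Q, B_add_left Q, Q_smul Q, Q_smul Q, B_smul_left Q, B_smul_left Q, B_smul_left Q,
      B_smul_right Q, hxy, hxyz.1, hxyz.2]
    linear_combination hab

theorem exists_singular_notMem [Finite F] {D E : Submodule F (ι → F)}
    (h : finrank F E + 3 ≤ finrank F D) : ∃ x ∈ D, x ∉ E ∧ Q x = 0 := by
  obtain ⟨C, hC⟩ := Submodule.exists_isCompl E
  have h1 := Submodule.finrank_sup_add_finrank_inf_eq D C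
  have h2 := Submodule.finrank_le (D ⊔ C)
  have h3 := Submodule.finrank_add_eq_of_isCompl hC
  obtain ⟨x, hx, hx0, hQx⟩ := exists_singular Q (D := D ⊓ C) (by omega)
  exact ⟨x, hx.1, fun hxE => hx0 ((Submodule.disjoint_def.1 hC.disjoint) x hxE hx.2), hQx⟩

/-- A singular vector with a non-orthogonal vector in a subspace has a singular partner there. -/
theorem exists_partner {W : Submodule F (ι → F)} {u z : ι → F} (hu : Q u = 0) (huW : u ∈ W) (hz : z ∈ W)
    (h : B u z ≠ 0) : ∃ v ∈ W, Q v = 0 ∧ B u v = 1 := by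
  refine ⟨(B u z)⁻¹ • z - (Q ((B u z)⁻¹ • z)) • u, W.sub_mem (W.smul_mem _ hz) (W.smul_mem _ huW), ?_, ?_⟩
  · simp only [Q_sub Q, Q_smul Q, B_smul_left Q, B_smul_right Q, hu, B_comm Q z u]
    field_simp
    ring
  · simp only [B_sub_right Q, B_smul_right Q, B_self_of_singular Q hu, mul_zero, sub_zero]
    exact inv_mul_cancel₀ h

variable {Q}
variable (hQ : (QuadraticMap.polarBilin Q).Nondegenerate)
include hQ

theorem finrank_perp (W : Submodule F (ι → F)) : finrank F (perp Q W) = Fintype.card ι - finrank F W := by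
  rw [perp, LinearMap.BilinForm.finrank_orthogonal hQ, Module.finrank_pi]

theorem perp_perp (W : Submodule F (ι → F)) : perp Q (perp Q W) = W :=
  LinearMap.BilinForm.orthogonal_orthogonal hQ (fun x y h => (B_comm Q y x).trans h) W

theorem exists_B_ne_zero {x : ι → F} (hx : x ≠ 0) : ∃ y, B x y ≠ 0 := by
  by_contra h
  push Not at h
  exact hx (hQ.1 x h)

/-- A vector orthogonal to a subspace with value one on a vector outside it. -/
theorem exists_perp_one {P : Submodule F (ι → F)} {v : ι → F} (hv : v ∉ P) :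
    ∃ z ∈ perp Q P, B v z = 1 := by
  obtain ⟨z, hz, hz1⟩ := Forms.quadratic_exists_perp hQ hv
  exact ⟨z, fun w hw => (B_comm Q w z).trans (hz w hw), (B_comm Q v z).trans hz1⟩

theorem two_mul_finrank_le_of_singular {D : Submodule F (ι → F)} (hD : ∀ x ∈ D, Q x = 0) :
    2 * finrank F D ≤ Fintype.card ι := by
  have hle : D ≤ perp Q D := fun x hx w hw => by
    have := Q_add Q w x
    rw [hD _ (D.add_mem hw hx), hD w hw, hD x hx] at this
    simpa using this.symm
  have h1 := Submodule.finrank_mono hle
  rw [finrank_perp hQ] at h1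
  have h2 : finrank F D ≤ Fintype.card ι := (Submodule.finrank_le D).trans_eq (Module.finrank_pi F)
  omega

theorem exists_nonsingular {D : Submodule F (ι → F)} (h : Fintype.card ι < 2 * finrank F D) :
    ∃ x ∈ D, Q x ≠ 0 := by
  by_contra hne
  push Not at hne
  exact absurd (two_mul_finrank_le_of_singular hQ hne) (by omega)

/-! ### The group generated by Siegel elements -/

omit hQ in
variable (Q) in
/-- The subgroup generated by all Siegel elements. -/
noncomputable def sgGroup : Subgroup (GL ι F) :=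
  Subgroup.closure (Set.range fun p : (ι → F) × (ι → F) => sg Q p.1 p.2)

omit hQ in
theorem sg_mem_sgGroup (u w : ι → F) : sg Q u w ∈ sgGroup Q := Subgroup.subset_closure ⟨(u, w), rfl⟩

omit hQ in
theorem sgGroup_le_iso : sgGroup Q ≤ isometryGroup F Q := by
  rw [sgGroup, Subgroup.closure_le]
  rintro _ ⟨⟨u, w⟩, rfl⟩
  exact sg_mem_iso Q u w

omit hQ in
theorem conj_mem_sgGroup {g s : GL ι F} (hg : g ∈ isometryGroup F Q) (hs : s ∈ sgGroup Q) :
    g * s * g⁻¹ ∈ sgGroup Q := by
  induction hs using Subgroup.closure_induction with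
  | mem x hx =>
    obtain ⟨⟨u, w⟩, rfl⟩ := hx
    rw [conj_sg Q hg]
    exact sg_mem_sgGroup _ _
  | one => simp
  | mul x y _ _ hx hy =>
    rw [show g * (x * y) * g⁻¹ = (g * x * g⁻¹) * (g * y * g⁻¹) by group]
    exact mul_mem hx hy
  | inv x _ hx =>
    rw [show g * x⁻¹ * g⁻¹ = (g * x * g⁻¹)⁻¹ by group]
    exact inv_mem hx

/-- The isometry group is generated by Siegel elements and reflections (any field). -/
theorem mem_closure_sg_refl {g : GL ι F} (hg : g ∈ isometryGroup F Q) :
    g ∈ sgGroup Q ⊔ Subgroup.closure (Set.range (refl Q)) := by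
  suffices H : ∀ (k : ℕ) (g : GL ι F), g ∈ isometryGroup F Q →
      Fintype.card ι ≤ finrank F (LinearMap.eqLocus (act g) LinearMap.id) + k →
      g ∈ sgGroup Q ⊔ Subgroup.closure (Set.range (refl Q)) from H _ g hg (Nat.le_add_left _ _)
  intro k
  induction k with
  | zero =>
    intro g _ hk
    have htop : LinearMap.eqLocus (act g) LinearMap.id = ⊤ := Submodule.eq_top_of_finrank_eq (by
      have := Submodule.finrank_le (LinearMap.eqLocus (act g) LinearMap.id)
      rw [Module.finrank_pi] at this ⊢
      omega)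
    have : g = 1 := gl_ext fun x => by
      have hx : x ∈ LinearMap.eqLocus (act g) LinearMap.id := htop ▸ Submodule.mem_top
      rw [act_one]; exact hx
    rw [this]; exact one_mem _
  | succ k ih =>
    intro g hg hk
    let Fx := LinearMap.eqLocus (act g) LinearMap.id
    by_cases hall : ∀ x, act g x = x
    · rw [show g = 1 from gl_ext fun x => by rw [hall, act_one]]; exact one_mem _
    push Not at hall
    have key : ∀ s : GL ι F, s ∈ sgGroup Q ⊔ Subgroup.closure (Set.range (refl Q)) →
        s ∈ isometryGroup F Q → (∀ y, act g y = y → act s y = y) →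
        (∃ x, act g x ≠ x ∧ act s (act g x) = x) →
        g ∈ sgGroup Q ⊔ Subgroup.closure (Set.range (refl Q)) := by
      rintro s hs hs' hfix ⟨x, hx, hsx⟩
      refine (mul_mem_cancel_left hs).1 (ih (s * g) (mul_mem hs' hg) ?_)
      have hlt : Fx < LinearMap.eqLocus (act (s * g)) LinearMap.id := by
        refine lt_of_le_of_ne (fun y (hy : act g y = y) => ?_) fun e => ?_
        · show act (s * g) y = y
          rw [act_mul, hy, hfix y hy]
        · have : x ∈ Fx := e ▸ (show act (s * g) x = x by rw [act_mul, hsx])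
          exact hx this
      have := Submodule.finrank_lt_finrank_of_lt hlt
      show Fintype.card ι ≤ _
      change Fintype.card ι ≤ finrank F Fx + (k + 1) at hk
      omega
    -- vectors `g x - x` are orthogonal to the fixed space
    have hperp : ∀ x y, act g y = y → B (act g x - x) y = 0 := fun x y hy => by
      rw [B_sub_left Q, sub_eq_zero]
      conv_lhs => rw [← hy, B_act hg]
    by_cases hsing : ∀ x, Q (act g x - x) = 0
    · -- the image of `g - 1` is totally singular
      obtain ⟨x, hx⟩ := hall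
      set d := act g x - x with hd
      have hB2 : ∀ a b, B (act g a - a) (act g b - b) = 0 := fun a b => by
        have h := hsing (a + b)
        rw [map_add, show act g a + act g b - (a + b) = (act g a - a) + (act g b - b) by abel, Q_add Q,
          hsing a, hsing b] at h
        simpa using h
      obtain ⟨z, hz⟩ : ∃ z, B x (act g z - z) ≠ 0 := by
        by_contra hc
        push Not at hc
        refine sub_ne_zero.2 hx (hQ.1 _ fun y => ?_)
        show B d y = 0
        have h1 := hB2 x y
        have h2 := hc y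
        have h3 : B (act g x) (act g y) = B x y := B_act hg x y
        simp only [hd, B_sub_left Q, B_sub_right Q] at h1 h2 ⊢
        linear_combination h3 - h1 - h2
      set u := (B x (act g z - z))⁻¹ • (act g z - z) with hu
      have hQu : Q u = 0 := by rw [hu, Q_smul Q, hsing, mul_zero]
      have hud : B u d = 0 := by rw [hu, B_smul_left Q, hB2, mul_zero]
      have hud' : B u (-d) = 0 := by rw [B_neg_right Q, hud, neg_zero]
      refine key (sg Q u (-d)) (Subgroup.mem_sup_left (sg_mem_sgGroup _ _)) (sg_mem_iso Q _ _)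
        (fun y hy => act_sg_fix Q hQu hud' ?_ ?_) ⟨x, hx, ?_⟩
      · rw [hu, B_smul_left Q, hperp z y hy, mul_zero]
      · rw [B_neg_left Q, hperp x y hy, neg_zero]
      · have e : act g x = x + d := by rw [hd]; abel
        have hux : B u x = 1 := by rw [hu, B_smul_left Q, B_comm Q _ x, inv_mul_cancel₀ hz]
        have hdx : B d x = 0 := by
          have h := Q_act hg x
          rw [e, Q_add Q, hsing x, B_comm Q] at h
          linear_combination h
        rw [e, act_sg Q hQu hud', B_add_right Q, hux, hud, B_neg_left Q, B_add_right Q, hdx,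
          B_self_of_singular Q (hsing x), Q_neg Q, hsing x]
        module
    · push Not at hsing
      obtain ⟨x, hx⟩ := hsing
      set d := act g x - x with hd
      refine key (refl Q d) (Subgroup.mem_sup_right (Subgroup.subset_closure ⟨d, rfl⟩)) (refl_mem_iso Q d)
        (fun y hy => act_refl_fix Q hx (hperp x y hy)) ⟨x, fun e => hx (by rw [hd, e, sub_self, map_zero]), ?_⟩
      have e : act g x = x + d := by rw [hd]; abel
      have h := Q_act hg x
      rw [e, Q_add Q, B_comm Q] at h
      rw [e, act_refl Q hx, B_add_right Q, B_self Q]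
      match_scalars <;> field_simp
      all_goals first | linear_combination h | linear_combination -h

section Finite

variable [Finite F] (hn : 5 ≤ Fintype.card ι)
include hn

theorem sg_mem_omega (u w : ι → F) : sg Q u w ∈ Cfsg.Geo.omegaGL Q := by
  by_cases huw : Q u = 0 ∧ B u w = 0
  swap
  · rw [sg_of_not Q huw]; exact one_mem _
  obtain ⟨hu, huw⟩ := huw
  have main : ∀ a, B u a = 0 → Q a ≠ 0 → sg Q u a ∈ Cfsg.Geo.omegaGL Q := by
    intro a hua ha
    obtain ⟨z, hz, hz1⟩ := exists_perp_one hQ (P := F ∙ u) (v := a) (fun h => by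
      obtain ⟨c, rfl⟩ := Submodule.mem_span_singleton.1 h
      exact ha (by rw [Q_smul Q, hu, mul_zero]))
    have huz : B u z = 0 := hz u (Submodule.mem_span_singleton_self u)
    have hk : B u ((-Q a) • z) = 0 := by rw [B_smul_right Q, huz, mul_zero]
    have hk' : B u (-((-Q a) • z)) = 0 := by rw [B_neg_right Q, hk, neg_zero]
    have hmem := commutator_mem_omega (refl_mem_iso Q a) (sg_mem_iso Q u ((-Q a) • z))
    rw [conj_sg Q (refl_mem_iso Q a), act_refl_fix Q ha ((B_comm Q a u).trans hua),
      ← sg_neg Q hu hk, sg_add Q hu (by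
        rw [act_refl Q ha, B_sub_right Q, B_smul_right Q, B_smul_right Q, huz, hua]; ring) hk',
      act_refl Q ha, B_smul_right Q, hz1] at hmem
    convert hmem using 2
    match_scalars <;> field_simp <;> ring
  by_cases hw : Q w ≠ 0
  · exact main w huw hw
  push Not at hw
  obtain ⟨c, hc, hcne⟩ := exists_nonsingular hQ (D := perp Q (Submodule.span F (Set.range ![u, w]))) (by
    have := finrank_span_list_le ![u, w]
    rw [finrank_perp hQ]; omega)
  rw [mem_perp_span] at hc
  have huc : B u c = 0 := hc u ⟨0, rfl⟩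
  have hwc : B w c = 0 := hc w ⟨1, rfl⟩
  have h1 : B u (c + w) = 0 := by rw [B_add_right Q, huc, huw, add_zero]
  have h2 : B u (-c) = 0 := by rw [B_neg_right Q, huc, neg_zero]
  rw [show w = (c + w) + -c by abel, ← sg_add Q hu h1 h2]
  exact mul_mem (main _ h1 (by rwa [Q_add Q, hw, B_comm Q c w, hwc, add_zero, add_zero]))
    (main _ h2 (by rwa [Q_neg Q]))

/-- Two orthogonal hyperbolic pairs. -/
theorem exists_two_pairs : ∃ u v u' v' : ι → F, Q u = 0 ∧ Q v = 0 ∧ Q u' = 0 ∧ Q v' = 0 ∧ B u v = 1 ∧
    B u' v' = 1 ∧ B u u' = 0 ∧ B u v' = 0 ∧ B v u' = 0 ∧ B v v' = 0 := by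
  obtain ⟨u, -, hu0, hu⟩ := exists_singular Q (D := (⊤ : Submodule F (ι → F))) (by
    rw [finrank_top, Module.finrank_pi]; omega)
  obtain ⟨z, hz⟩ := exists_B_ne_zero hQ hu0
  obtain ⟨v, -, hv, huv⟩ := exists_partner Q (W := ⊤) hu trivial trivial hz
  have hD := finrank_span_list_le ![u, v]
  obtain ⟨u', hu', hu0', hQu'⟩ := exists_singular Q (D := perp Q (Submodule.span F (Set.range ![u, v]))) (by
    rw [finrank_perp hQ]; omega)
  obtain ⟨z', hz', hz1⟩ := exists_perp_one hQ (P := Submodule.span F (Set.range ![u, v])) (v := u') (fun h => by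
    rw [Submodule.mem_span_range_iff_exists_fun] at h
    obtain ⟨c, hc⟩ := h
    simp only [Fin.sum_univ_two, Matrix.cons_val_zero, Matrix.cons_val_one] at hc
    rw [mem_perp_span] at hu'
    have h1 := hu' u ⟨0, rfl⟩
    have h2 := hu' v ⟨1, rfl⟩
    rw [← hc, B_add_right Q, B_smul_right Q, B_smul_right Q, B_self_of_singular Q hu, huv] at h1
    rw [← hc, B_add_right Q, B_smul_right Q, B_smul_right Q, B_self_of_singular Q hv, B_comm Q v u, huv] at h2
    simp only [mul_zero, mul_one, zero_add, add_zero] at h1 h2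
    exact hu0' (by rw [← hc, h1, h2, zero_smul, zero_smul, add_zero]))
  obtain ⟨v', hv', hQv', huv'⟩ := exists_partner Q hQu' hu' hz' (by rw [hz1]; exact one_ne_zero)
  rw [mem_perp_span] at hu' hv'
  exact ⟨u, v, u', v', hu, hv, hQu', hQv', huv, huv', hu' u ⟨0, rfl⟩, hv' u ⟨0, rfl⟩, hu' v ⟨1, rfl⟩,
    hv' v ⟨1, rfl⟩⟩

omit hn [Finite F] in
/-- Moving a vector into a hyperbolic plane by Siegel elements. -/
theorem exists_move_plane {u v : ι → F} (hu : Q u = 0) (hv : Q v = 0) (huv : B u v = 1) {a : ι → F}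
    (ha : a ≠ 0) : ∃ s ∈ sgGroup Q, ∃ α β : F, act s a = α • u + β • v := by
  have step : ∀ u v : ι → F, Q u = 0 → Q v = 0 → B u v = 1 → ∀ a, B u a ≠ 0 →
      ∃ s ∈ sgGroup Q, ∃ α β : F, act s a = α • u + β • v := by
    intro u v hu hv huv a hβ
    set z := -(B u a)⁻¹ • (a - B v a • u - B u a • v) with hz
    have huz : B u z = 0 := by
      rw [hz, B_smul_right Q, B_sub_right Q, B_sub_right Q, B_smul_right Q, B_smul_right Q, huv,
        B_self_of_singular Q hu]
      ring
    refine ⟨_, sg_mem_sgGroup u z, B v a - (B z a + Q z * B u a), B u a, ?_⟩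
    rw [act_sg Q hu huz]
    conv_lhs => arg 1; arg 2; rw [hz, smul_smul, mul_neg, mul_inv_cancel₀ hβ]
    module
  rcases ne_or_eq (B u a) 0 with hβ | hβ
  · exact step u v hu hv huv a hβ
  rcases ne_or_eq (B v a) 0 with hα | hα
  · obtain ⟨s, hs, α, β, e⟩ := step v u hv hu ((B_comm Q v u).trans huv) a hα
    exact ⟨s, hs, β, α, by rw [e, add_comm]⟩
  obtain ⟨z, hz, hz1⟩ := exists_perp_one hQ (P := Submodule.span F (Set.range ![u, v])) (v := a) (fun h => by
    rw [Submodule.mem_span_range_iff_exists_fun] at h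
    obtain ⟨c, hc⟩ := h
    simp only [Fin.sum_univ_two, Matrix.cons_val_zero, Matrix.cons_val_one] at hc
    rw [← hc, B_add_right Q, B_smul_right Q, B_smul_right Q, B_self_of_singular Q hu, huv] at hβ
    rw [← hc, B_add_right Q, B_smul_right Q, B_smul_right Q, B_self_of_singular Q hv, B_comm Q v u, huv] at hα
    simp only [mul_zero, mul_one, zero_add, add_zero] at hβ hα
    exact ha (by rw [← hc, hβ, hα, zero_smul, zero_smul, add_zero]))
  rw [mem_perp_span] at hz
  have huz : B u z = 0 := hz u ⟨0, rfl⟩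
  have hva : B v (act (sg Q u z) a) ≠ 0 := by
    rw [act_sg Q hu huz, hβ, B_comm Q z a, hz1, B_sub_right Q, B_add_right Q, B_smul_right Q,
      B_smul_right Q, hα, B_comm Q v u, huv]
    simp
  obtain ⟨s, hs, α, β, e⟩ := step v u hv hu ((B_comm Q v u).trans huv) _ hva
  exact ⟨s * sg Q u z, mul_mem hs (sg_mem_sgGroup _ _), β, α, by rw [act_mul, e, add_comm]⟩

/-- The Siegel group is transitive on the vectors of each non-zero value. -/
theorem exists_move_value {a b : ι → F} (h : Q a = Q b) (ha : Q a ≠ 0) :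
    ∃ s ∈ sgGroup Q, act s a = b := by
  obtain ⟨u, v, u', v', hu, hv, hu', hv', huv, huv', h1, h2, h3, h4⟩ := exists_two_pairs hQ hn
  obtain ⟨s, hs, α, β, hsa⟩ := exists_move_plane hQ hu hv huv (a := a) (fun e => ha (by rw [e, map_zero]))
  obtain ⟨t, ht, α', β', htb⟩ := exists_move_plane hQ hu hv huv (a := b)
    (fun e => ha (by rw [h, e, map_zero]))
  have hval : ∀ c d : F, Q (c • u + d • v) = c * d := fun c d => by
    rw [Q_add Q, Q_smul Q, Q_smul Q, B_smul_left Q, B_smul_right Q, hu, hv, huv]; ring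
  have ea : α * β = Q a := by rw [← hval, ← hsa, Q_act (sgGroup_le_iso hs)]
  have eb : α' * β' = Q a := by rw [← hval, ← htb, Q_act (sgGroup_le_iso ht), h]
  have hβ : β ≠ 0 := fun e => ha (by rw [← ea, e, mul_zero])
  have hα' : α' ≠ 0 := fun e => ha (by rw [← eb, e, zero_mul])
  set c := (α - α') / β
  set z := u' + c • v' with hz
  have hQz : Q z = c := by rw [hz, Q_add Q, Q_smul Q, B_smul_right Q, hu', hv', huv']; ring
  have huz : B u z = 0 := by rw [hz, B_add_right Q, B_smul_right Q, h1, h2]; ring
  have hvz : B v z = 0 := by rw [hz, B_add_right Q, B_smul_right Q, h3, h4]; ring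
  have hvz' : B v ((-β / α') • z) = 0 := by rw [B_smul_right Q, hvz, mul_zero]
  obtain ⟨r, hr, hrab⟩ : ∃ r ∈ sgGroup Q, act r (α • u + β • v) = α' • u + β' • v := by
    refine ⟨sg Q v ((-β / α') • z) * sg Q u z, mul_mem (sg_mem_sgGroup _ _) (sg_mem_sgGroup _ _), ?_⟩
    have hbb : β' = Q a / α' := by rw [← eb]; field_simp
    rw [act_mul, act_sg Q hu huz]
    simp only [act_sg Q hv hvz', B_add_right Q, B_sub_right Q, B_smul_right Q, B_smul_left Q, Q_smul Q,
      B_self_of_singular Q hu, B_self_of_singular Q hv, huv, (B_comm Q v u).trans huv, huz, hvz,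
      (B_comm Q z u).trans huz, (B_comm Q z v).trans hvz, B_self Q z, hQz]
    rw [hbb, ← ea]
    match_scalars <;> · simp only [c]; field_simp; ring
  refine ⟨t⁻¹ * r * s, mul_mem (mul_mem (inv_mem ht) hr) hs, ?_⟩
  rw [act_mul, act_mul, hsa, hrab, ← htb, act_inv_act]

theorem refl_mul_refl_mem {a b : ι → F} (h : Q a = Q b) : refl Q a * refl Q b ∈ sgGroup Q := by
  by_cases ha : Q a = 0
  · rw [refl_of_singular Q ha, refl_of_singular Q (h ▸ ha), one_mul]; exact one_mem _
  obtain ⟨s, hs, rfl⟩ := exists_move_value hQ hn h ha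
  rw [← conj_refl Q (sgGroup_le_iso hs)]
  have := mul_mem (conj_mem_sgGroup (refl_mem_iso Q a) hs) (inv_mem hs)
  rw [refl_inv] at this
  convert this using 1
  group

theorem omega_eq_sgGroup : Cfsg.Geo.omegaGL Q = sgGroup Q := by
  refine le_antisymm ?_ ?_
  swap
  · rw [sgGroup, Subgroup.closure_le]
    rintro _ ⟨⟨u, w⟩, rfl⟩
    exact sg_mem_omega hQ hn u w
  rw [Cfsg.Geo.omegaGL, Subgroup.map_le_iff_le_comap]
  set N := (sgGroup Q).comap (isometryGroup F Q).subtype with hN
  haveI : N.Normal := ⟨fun x hx g => conj_mem_sgGroup g.2 hx⟩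
  let π := QuotientGroup.mk' N
  let R : Set (isometryGroup F Q ⧸ N) :=
    Set.range fun a : ι → F => π ⟨refl Q a, refl_mem_iso Q a⟩
  have hgen : ∀ g, π g ∈ Subgroup.closure R := by
    rintro ⟨g, hg⟩
    have hle : sgGroup Q ⊔ Subgroup.closure (Set.range (refl Q)) ≤
        ((Subgroup.closure R).comap π).map (isometryGroup F Q).subtype := by
      refine sup_le (fun s hs => ?_) ?_
      · refine ⟨⟨s, sgGroup_le_iso hs⟩, ?_, rfl⟩
        show π _ ∈ Subgroup.closure R
        have h1 : π ⟨s, sgGroup_le_iso hs⟩ = 1 := (QuotientGroup.eq_one_iff _).2 hs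
        rw [h1]; exact one_mem _
      · rw [Subgroup.closure_le]
        rintro _ ⟨a, rfl⟩
        exact ⟨⟨refl Q a, refl_mem_iso Q a⟩, Subgroup.subset_closure ⟨a, rfl⟩, rfl⟩
    obtain ⟨⟨g', _⟩, hg', rfl⟩ := hle (mem_closure_sg_refl hQ hg)
    exact hg'
  have hcomm : ∀ x ∈ R, ∀ y ∈ R, Commute x y := by
    rintro _ ⟨a, rfl⟩ _ ⟨b, rfl⟩
    by_cases ha : Q a = 0
    · simp only [refl_of_singular Q ha]
      rw [show (⟨1, _⟩ : isometryGroup F Q) = 1 from rfl, map_one]
      exact Commute.one_left _
    by_cases hb : Q b = 0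
    · simp only [refl_of_singular Q hb]
      rw [show (⟨1, _⟩ : isometryGroup F Q) = 1 from rfl, map_one]
      exact Commute.one_right _
    obtain ⟨u, v, u', v', hu, hv, hu', hv', huv, huv', h1, h2, h3, h4⟩ := exists_two_pairs hQ hn
    obtain ⟨s, hs, α, β, hsa⟩ := exists_move_plane hQ hu hv huv (a := a) (fun e => ha (by rw [e, map_zero]))
    obtain ⟨t, ht, α', β', htb⟩ := exists_move_plane hQ hu' hv' huv' (a := b)
      (fun e => hb (by rw [e, map_zero]))
    have key : ∀ s (hs : s ∈ sgGroup Q) (a : ι → F),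
        π ⟨refl Q a, refl_mem_iso Q a⟩ = π ⟨refl Q (act s a), refl_mem_iso Q _⟩ := by
      intro s hs a
      have h1 : π ⟨s, sgGroup_le_iso hs⟩ = 1 := (QuotientGroup.eq_one_iff _).2 hs
      have e : (⟨refl Q (act s a), refl_mem_iso Q _⟩ : isometryGroup F Q) =
          ⟨s, sgGroup_le_iso hs⟩ * ⟨refl Q a, refl_mem_iso Q a⟩ * ⟨s, sgGroup_le_iso hs⟩⁻¹ :=
        Subtype.ext (conj_refl Q (sgGroup_le_iso hs) a).symm
      rw [e, map_mul, map_mul, map_inv, h1, one_mul, inv_one, mul_one]
    show Commute (π _) (π _)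
    rw [key s hs a, key t ht b, hsa, htb]
    refine (Commute.map ?_ π)
    refine Subtype.ext (refl_commute Q ?_).eq
    simp only [B_add_left Q, B_add_right Q, B_smul_left Q, B_smul_right Q, h1, h2, h3, h4]
    ring
  refine Subgroup.commutator_le.2 fun g _ h _ => (QuotientGroup.eq_one_iff _).1 ?_
  show π ⁅g, h⁆ = 1
  rw [map_commutatorElement, commutatorElement_eq_one_iff_mul_comm]
  have : ∀ x ∈ Subgroup.closure R, ∀ y ∈ Subgroup.closure R, Commute x y := by
    intro x hx y hy
    induction hx, hy using Subgroup.closure_induction₂ with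
    | mem x y hx hy => exact hcomm x hx y hy
    | one_left x _ => exact Commute.one_left _
    | one_right x _ => exact Commute.one_right _
    | mul_left x y z _ _ _ hxz hyz => exact hxz.mul_left hyz
    | mul_right x y z _ _ _ hxy hxz => exact hxy.mul_right hxz
    | inv_left x y _ _ h => exact h.inv_left
    | inv_right x y _ _ h => exact h.inv_right
  exact (this _ (hgen g) _ (hgen h)).eq

/-! ### Full root groups -/

omit hQ hn [Finite F] in
variable (Q) in
/-- All Siegel elements at `u` lie in `M`. -/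
def Full (M : Subgroup (GL ι F)) (u : ι → F) : Prop := ∀ w, B u w = 0 → sg Q u w ∈ M

omit hQ hn [Finite F] in
theorem Full.smul {M : Subgroup (GL ι F)} {u : ι → F} (h : Full Q M u) (hu : Q u = 0) (a : F) :
    Full Q M (a • u) := fun w hw => by
  rcases eq_or_ne a 0 with rfl | ha
  · by_cases hw0 : Q ((0 : F) • u) = 0 ∧ B ((0 : F) • u) w = 0
    · have : sg Q ((0 : F) • u) w = 1 := by
        apply gl_ext; intro x
        rw [act_sg Q hw0.1 hw0.2, act_one]
        simp [B_zero_left Q]
      rw [this]; exact one_mem _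
    · rw [sg_of_not Q hw0]; exact one_mem _
  · rw [B_smul_left Q, mul_eq_zero] at hw
    rw [sg_smul_left Q hu (hw.resolve_left ha)]
    exact h _ (by rw [B_smul_right Q, hw.resolve_left ha, mul_zero])

omit hQ hn [Finite F] in
theorem Full.act {M : Subgroup (GL ι F)} {u : ι → F} (h : Full Q M u) {g : GL ι F} (hgM : g ∈ M)
    (hg : g ∈ isometryGroup F Q) : Full Q M (act g u) := fun w hw => by
  rw [show w = MaxCl.act g (MaxCl.act g⁻¹ w) from (act_act_inv g w).symm, ← conj_sg Q hg]
  refine mul_mem (mul_mem hgM (h _ ?_)) (inv_mem hgM)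
  rwa [← B_act hg, act_act_inv]

/-- Two non-orthogonal full root groups generate the derived group. -/
theorem omega_le_of_full {M : Subgroup (GL ι F)} {x y : ι → F} (hx : Q x = 0) (hy : Q y = 0)
    (hxy : B x y ≠ 0) (fx : Full Q M x) (fy : Full Q M y) : Cfsg.Geo.omegaGL Q ≤ M := by
  have star : ∀ u v : ι → F, Q u = 0 → Q v = 0 → B u v ≠ 0 → Full Q M u → Full Q M v →
      ∀ z, Q z = 0 → B z v ≠ 0 → Full Q M z := by
    intro u v hu hv huv fu fv z hz hzv
    set z' := (B u v / B z v) • z with hz'
    set w := (B u v)⁻¹ • (z' - u) with hw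
    have hz'v : B z' v = B u v := by rw [hz', B_smul_left Q]; field_simp
    have hQz' : Q z' = 0 := by rw [hz', Q_smul Q, hz, mul_zero]
    have hvw : B v w = 0 := by
      rw [hw, B_smul_right Q, B_sub_right Q, B_comm Q v z', hz'v, B_comm Q v u, sub_self, mul_zero]
    have e : MaxCl.act (sg Q v w) u = z' := by
      rw [act_sg Q hv hvw, B_comm Q v u]
      have : (B w u + Q w * B u v) = 0 := by
        rw [hw, B_smul_left Q, Q_smul Q, B_sub_left Q, Q_sub Q, hQz', hu, B_self_of_singular Q hu]
        field_simp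
        ring
      rw [this, zero_smul, sub_zero, hw, smul_smul, mul_inv_cancel₀ huv, one_smul]
      abel
    have fz' := fu.act (fv w hvw) (sg_mem_iso Q v w)
    rw [e] at fz'
    have : z = (B u v / B z v)⁻¹ • z' := by
      rw [hz', smul_smul, inv_mul_cancel₀ (div_ne_zero huv hzv), one_smul]
    rw [this]
    exact fz'.smul hQz' _
  have all : ∀ z, Q z = 0 → Full Q M z := by
    intro z hz
    by_cases h1 : B z y ≠ 0
    · exact star x y hx hy hxy fx fy z hz h1
    by_cases h2 : B z x ≠ 0
    · exact star y x hy hx (by rwa [B_comm Q]) fy fx z hz h2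
    push Not at h1 h2
    rcases eq_or_ne z 0 with rfl | hz0
    · have := fx.smul hx 0; rwa [zero_smul] at this
    obtain ⟨z₀, hz₀, hz1⟩ := exists_perp_one hQ (P := Submodule.span F (Set.range ![x, y])) (v := z) (fun h => by
      rw [Submodule.mem_span_range_iff_exists_fun] at h
      obtain ⟨c, hc⟩ := h
      simp only [Fin.sum_univ_two, Matrix.cons_val_zero, Matrix.cons_val_one] at hc
      rw [← hc, B_add_left Q, B_smul_left Q, B_smul_left Q, B_self_of_singular Q hx, B_comm Q y x] at h2
      rw [← hc, B_add_left Q, B_smul_left Q, B_smul_left Q, B_self_of_singular Q hy] at h1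
      simp only [mul_zero, zero_add, add_zero, mul_eq_zero, hxy, or_false] at h1 h2
      exact hz0 (by rw [← hc, h1, h2, zero_smul, zero_smul, add_zero]))
    rw [mem_perp_span] at hz₀
    obtain ⟨z', hz', hQz', hzz'⟩ := exists_partner Q
      (W := perp Q (Submodule.span F (Set.range ![x, y]))) hz
      (by rw [mem_perp_span]; rintro w ⟨i, rfl⟩; fin_cases i <;> simpa [B_comm Q _ z])
      (by rw [mem_perp_span]; exact hz₀) (by rw [hz1]; exact one_ne_zero)
    rw [mem_perp_span] at hz'
    have hxz' : B x z' = 0 := hz' x ⟨0, rfl⟩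
    have hyz' : B y z' = 0 := hz' y ⟨1, rfl⟩
    have hQw : Q (y + z') = 0 := by rw [Q_add Q, hy, hQz', hyz']; ring
    have hxw : B x (y + z') ≠ 0 := by rwa [B_add_right Q, hxz', add_zero]
    have fw := star y x hy hx (by rwa [B_comm Q]) fy fx _ hQw (by rwa [B_comm Q])
    exact star x _ hx hQw hxw fx fw z hz (by rw [B_add_right Q, h1, hzz', zero_add]; exact one_ne_zero)
  rw [omega_eq_sgGroup hQ hn, sgGroup, Subgroup.closure_le]
  rintro _ ⟨⟨u, w⟩, rfl⟩
  by_cases h : Q u = 0 ∧ B u w = 0
  · exact all u h.1 w h.2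
  · simp only [SetLike.mem_coe]
    rw [sg_of_not Q h]; exact one_mem _

end Finite

end Cfsg.Agent.MaxCl.Orth
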