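/-
Symplectic transvections and the subgroups containing full root groups of them.
-/
import Mathlib
import Cfsg.Prelude.Def_GeometricClasses
import Cfsg.Agent.Lib.MaxCl.Transvection

set_option autoImplicit false

namespace Cfsg.Agent.MaxCl

open scoped MatrixGroups Matrix

variable {ι : Type} [Fintype ι] [DecidableEq ι] {F : Type*} [Field F]
variable {f : (ι → F) → (ι → F) → F}

/-- a bilinear form given as a function, bundled -/
def toBil (hb : Cfsg.Geo.IsBilinearForm f) : LinearMap.BilinForm F (ι → F) :=
  LinearMap.mk₂ F f hb.add_left hb.smul_left hb.add_right hb.smul_right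

theorem toBil_apply (hb : Cfsg.Geo.IsBilinearForm f) (x y : ι → F) : toBil hb x y = f x y := rfl

/-- `x ↦ f x u` -/
def flin (hb : Cfsg.Geo.IsBilinearForm f) (u : ι → F) : (ι → F) →ₗ[F] F := (toBil hb).flip u

theorem flin_apply (hb : Cfsg.Geo.IsBilinearForm f) (u x : ι → F) : flin hb u x = f x u := rfl

theorem sympForm_isSymplectic (m : ℕ) (F : Type*) [Field F] :
    Cfsg.Geo.IsSymplecticForm (Cfsg.sympForm m F) := by
  have key : ∀ u v : Fin m ⊕ Fin m → F, Cfsg.sympForm m F u v
      = ∑ i : Fin m, (u (Sum.inr i) * v (Sum.inl i) - u (Sum.inl i) * v (Sum.inr i)) := by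
    intro u v
    simp only [Cfsg.sympForm, Matrix.J, dotProduct, Fintype.sum_sum_type, Matrix.mulVec,
      Matrix.fromBlocks_apply₁₁, Matrix.fromBlocks_apply₁₂, Matrix.fromBlocks_apply₂₁,
      Matrix.fromBlocks_apply₂₂, Matrix.zero_apply, Matrix.neg_apply, Matrix.one_apply,
      zero_mul, Finset.sum_const_zero, zero_add, add_zero, neg_mul, ite_mul, one_mul,
      Finset.sum_neg_distrib, Finset.sum_ite_eq, Finset.mem_univ, if_true, mul_neg,
      Finset.sum_sub_distrib]
    ring
  refine ⟨⟨?_, ?_, ?_, ?_⟩, ?_, ?_, ?_⟩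
  · intro x y v; rw [key, key, key, ← Finset.sum_add_distrib]
    exact Finset.sum_congr rfl fun i _ => by simp; ring
  · intro c x v; rw [key, key, Finset.mul_sum]
    exact Finset.sum_congr rfl fun i _ => by simp; ring
  · intro v x y; rw [key, key, key, ← Finset.sum_add_distrib]
    exact Finset.sum_congr rfl fun i _ => by simp; ring
  · intro c v x; rw [key, key, Finset.mul_sum]
    exact Finset.sum_congr rfl fun i _ => by simp; ring
  · intro v w; rw [key, key, ← Finset.sum_neg_distrib]
    exact Finset.sum_congr rfl fun i _ => by ring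
  · intro v; rw [key]
    exact Finset.sum_eq_zero fun i _ => by ring
  · intro v hv
    have h2 : ∃ x, Cfsg.sympForm m F v x ≠ 0 := by
      obtain ⟨j, hj⟩ := Function.ne_iff.1 hv
      rcases j with j | j
      · refine ⟨Pi.single (Sum.inr j) 1, ?_⟩
        rw [key]
        simpa [Pi.single_apply, Finset.sum_ite_eq'] using hj
      · refine ⟨Pi.single (Sum.inl j) 1, ?_⟩
        rw [key]
        simpa [Pi.single_apply, Finset.sum_ite_eq'] using hj
    obtain ⟨x, hx⟩ := h2
    refine ⟨⟨x, ?_⟩, ⟨x, hx⟩⟩
    intro h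
    apply hx
    have : Cfsg.sympForm m F v x = -Cfsg.sympForm m F x v := by
      rw [key, key, ← Finset.sum_neg_distrib]
      exact Finset.sum_congr rfl fun i _ => by ring
    rw [this, h, neg_zero]

/-- the isometry group of a two-argument form -/
abbrev isoGroup (f : (ι → F) → (ι → F) → F) : Subgroup (GL ι F) :=
  Cfsg.preserving (Cfsg.glToMat ι F) f

theorem mem_isoGroup {g : GL ι F} : g ∈ isoGroup f ↔ ∀ x y, f (act g x) (act g y) = f x y := by
  simp only [act_apply]; rfl

variable (hf : Cfsg.Geo.IsSymplecticForm f)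
include hf

theorem f_self (u : ι → F) : f u u = 0 := hf.alternating u

theorem f_skew (u v : ι → F) : f u v = - f v u := hf.skew u v

theorem f_ne_symm {u v : ι → F} (h : f u v ≠ 0) : f v u ≠ 0 := by
  rw [f_skew hf]; exact neg_ne_zero.2 h

theorem f_eq_zero_symm {u v : ι → F} (h : f u v = 0) : f v u = 0 := by
  rw [f_skew hf, h, neg_zero]

theorem f_add_left (x y v : ι → F) : f (x + y) v = f x v + f y v := hf.bilinear.add_left x y v
theorem f_add_right (v x y : ι → F) : f v (x + y) = f v x + f v y := hf.bilinear.add_right v x y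
theorem f_smul_left (c : F) (x v : ι → F) : f (c • x) v = c * f x v := hf.bilinear.smul_left c x v
theorem f_smul_right (c : F) (v x : ι → F) : f v (c • x) = c * f v x := hf.bilinear.smul_right c v x
theorem f_zero_left (v : ι → F) : f 0 v = 0 := by
  simpa using f_smul_left hf 0 0 v
theorem f_zero_right (v : ι → F) : f v 0 = 0 := by
  simpa using f_smul_right hf 0 v 0
theorem f_sub_left (x y v : ι → F) : f (x - y) v = f x v - f y v := by
  rw [← flin_apply hf.bilinear, map_sub]; rfl
theorem f_sub_right (v x y : ι → F) : f v (x - y) = f v x - f v y :=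
  map_sub (toBil hf.bilinear v) x y

/-- kernel of `x ↦ f x u` is proper -/
theorem ker_flin_ne_top {u : ι → F} (hu : u ≠ 0) : LinearMap.ker (flin hf.bilinear u) ≠ ⊤ := by
  intro h
  obtain ⟨x, hx⟩ := (hf.nondegenerate u hu).1
  exact hx (LinearMap.mem_ker.1 (h ▸ Submodule.mem_top : x ∈ LinearMap.ker (flin hf.bilinear u)))

theorem exists_f_ne_two {u v : ι → F} (hu : u ≠ 0) (hv : v ≠ 0) : ∃ z, f z u ≠ 0 ∧ f z v ≠ 0 := by
  obtain ⟨z, h1, h2⟩ := exists_notMem_two _ _ (ker_flin_ne_top hf hu) (ker_flin_ne_top hf hv)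
  exact ⟨z, by simpa [flin_apply] using h1, by simpa [flin_apply] using h2⟩

theorem flin_injective : Function.Injective (flin (f := f) hf.bilinear) := by
  intro u v h
  by_contra hne
  obtain ⟨x, hx⟩ := (hf.nondegenerate (u - v) (sub_ne_zero.2 hne)).1
  apply hx
  rw [f_sub_right hf, ← flin_apply hf.bilinear u, ← flin_apply hf.bilinear v, h, sub_self]

theorem exists_repr (φ : (ι → F) →ₗ[F] F) : ∃ w, ∀ x, φ x = f x w := by
  have hinj : Function.Injective (toBil hf.bilinear).flip := flin_injective hf
  have hs : Function.Surjective (toBil hf.bilinear).flip := by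
    have hd : Module.finrank F (ι → F) = Module.finrank F ((ι → F) →ₗ[F] F) :=
      Subspace.dual_finrank_eq.symm
    exact (LinearMap.injective_iff_surjective_of_finrank_eq_finrank hd).1 hinj
  obtain ⟨w, hw⟩ := hs φ
  exact ⟨w, fun x => by rw [← hw]; rfl⟩

/-- the symplectic transvection `x ↦ x + c f(x, u) u` -/
noncomputable def stv (hf : Cfsg.Geo.IsSymplecticForm f) (u : ι → F) (c : F) : GL ι F :=
  tv (c • flin hf.bilinear u) u

theorem stv_ker (u : ι → F) (c : F) : (c • flin hf.bilinear u) u = 0 := by
  simp [flin_apply, f_self hf]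

theorem act_stv (u : ι → F) (c : F) (x : ι → F) : act (stv hf u c) x = x + (c * f x u) • u := by
  rw [stv, act_tv (stv_ker hf u c)]; simp [flin_apply]

theorem stv_mem (u : ι → F) (c : F) : stv hf u c ∈ isoGroup f := by
  rw [mem_isoGroup]; intro x y
  simp only [act_stv hf, f_add_left hf, f_add_right hf, f_smul_left hf, f_smul_right hf,
    f_self hf, f_skew hf u y]
  ring

theorem stv_smul (u : ι → F) (a c : F) : stv hf (a • u) c = stv hf u (a ^ 2 * c) := by
  apply gl_ext; intro x
  rw [act_stv hf, act_stv hf, f_smul_right hf, smul_smul]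
  congr 2; ring

theorem stv_add (u : ι → F) (c d : F) : stv hf u c * stv hf u d = stv hf u (c + d) := by
  rw [stv, stv, stv, tv_add _ _ _ (stv_ker hf u c) (stv_ker hf u d), add_smul]

theorem stv_zero (u : ι → F) : stv hf u 0 = 1 := by
  rw [stv, zero_smul, tv_zero_left]

theorem conj_stv {g : GL ι F} (hg : g ∈ isoGroup f) (u : ι → F) (c : F) :
    g * stv hf u c * g⁻¹ = stv hf (act g u) c := by
  rw [stv, stv, conj_tv g (stv_ker hf u c)]
  congr 1
  apply LinearMap.ext; intro x
  simp only [LinearMap.comp_apply, LinearMap.smul_apply, flin_apply, smul_eq_mul]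
  conv_rhs => rw [← act_act_inv g x, mem_isoGroup.1 hg]

/-- `M` contains the whole root group of `u` -/
def Full (hf : Cfsg.Geo.IsSymplecticForm f) (M : Subgroup (GL ι F)) (u : ι → F) : Prop :=
  ∀ c : F, stv hf u c ∈ M

theorem full_zero (M : Subgroup (GL ι F)) : Full hf M 0 := by
  intro c
  have : stv hf (0 : ι → F) c = 1 := by
    apply gl_ext; intro x; rw [act_stv hf, act_one]; simp
  rw [this]; exact M.one_mem

theorem full_conj {M : Subgroup (GL ι F)} {g : GL ι F} (hg : g ∈ M) (hgf : g ∈ isoGroup f)
    {u : ι → F} (hu : Full hf M u) : Full hf M (act g u) := by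
  intro c
  rw [← conj_stv hf hgf]
  exact M.mul_mem (M.mul_mem hg (hu c)) (M.inv_mem hg)

theorem full_smul {M : Subgroup (GL ι F)} {u : ι → F} (hu : Full hf M u) (a : F) :
    Full hf M (a • u) := fun c => by rw [stv_smul]; exact hu _

theorem full_add {M : Subgroup (GL ι F)} {u v : ι → F} (hu : Full hf M u) (hv : Full hf M v)
    (h : f v u ≠ 0) (a : F) : Full hf M (v + a • u) := by
  have := full_conj hf (hu (a / f v u)) (stv_mem hf u _) hv
  rwa [act_stv hf, div_mul_cancel₀ _ h] at this

/-- vectors joined by a step of `full_add`: if `u - v` is in a set of full vectors and `f v u ≠ 0` -/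
theorem full_step {M : Subgroup (GL ι F)} {u v : ι → F} (hd : Full hf M (u - v)) (hv : Full hf M v)
    (h : f v u ≠ 0) : Full hf M u := by
  have h' : f v (u - v) ≠ 0 := by rwa [f_sub_right hf, f_self hf, sub_zero]
  simpa using full_add hf hd hv h' 1

/-- a subgroup with all root groups contains the isometry group -/
theorem isoGroup_le_of_full (M : Subgroup (GL ι F)) (hM : ∀ u, Full hf M u) : isoGroup f ≤ M := by
  suffices H : ∀ (k : ℕ) (W : Submodule F (ι → F)) (g : GL ι F),
      Fintype.card ι ≤ Module.finrank F W + k → g ∈ isoGroup f →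
      (∀ w ∈ W, act g w = w) → g ∈ M by
    intro g hg
    exact H _ ⊥ g (Nat.le_add_left _ _) hg (fun w hw => by simp [(Submodule.mem_bot F).1 hw])
  intro k
  induction k with
  | zero =>
    intro W g hk _ hW
    have : W = ⊤ := Submodule.eq_top_of_finrank_eq (by
      rw [Module.finrank_pi]; exact le_antisymm (by simpa using Submodule.finrank_le W) (by simpa using hk))
    subst this
    have : g = 1 := gl_ext fun x => by rw [hW x trivial, act_one]
    rw [this]; exact M.one_mem
  | succ k ih =>
    intro W g hk hg hW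
    by_cases hWtop : W = ⊤
    · subst hWtop
      have : g = 1 := gl_ext fun x => by rw [hW x trivial, act_one]
      rw [this]; exact M.one_mem
    -- the case with a vector not orthogonal to its image
    have main : ∀ g : GL ι F, g ∈ isoGroup f → (∀ w ∈ W, act g w = w) →
        ∀ v, f (act g v) v ≠ 0 → g ∈ M := by
      intro g hg hW v hv
      have hvW : v ∉ W := fun h => hv (by rw [hW v h, f_self hf])
      set u := v - act g v with hu
      set t := stv hf u (1 / f (act g v) v) with ht
      have hperp : ∀ w ∈ W, f w u = 0 := by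
        intro w hw
        have : f w (act g v) = f w v := by
          conv_lhs => rw [← hW w hw]
          exact mem_isoGroup.1 hg w v
        rw [hu, f_sub_right hf, this, sub_self]
      have hmem : t * g ∈ M := by
        refine ih (W ⊔ F ∙ v) _ ?_ (mul_mem (stv_mem hf _ _) hg) ?_
        · rw [Submodule.finrank_sup_span_singleton hvW]; omega
        · have tv' : act (t * g) v = v := by
            rw [act_mul, ht, act_stv hf, hu, f_sub_right hf, f_self hf, sub_zero,
              one_div_mul_cancel hv, one_smul]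
            abel
          intro x hx
          obtain ⟨w, hw, y, hy, rfl⟩ := Submodule.mem_sup.1 hx
          obtain ⟨a, rfl⟩ := Submodule.mem_span_singleton.1 hy
          rw [map_add, map_smul, tv', act_mul, hW w hw, ht, act_stv hf, hperp w hw]
          simp
      exact (mul_mem_cancel_left (hM u _)).1 hmem
    by_cases hex : ∃ v, f (act g v) v ≠ 0
    · obtain ⟨v, hv⟩ := hex
      exact main g hg hW v hv
    push Not at hex
    -- multiply by a transvection fixing `W`
    obtain ⟨u, hu0, huW⟩ : ∃ u, u ≠ 0 ∧ ∀ w ∈ W, f w u = 0 := by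
      obtain ⟨v, hv, -⟩ := exists_notMem_two W W hWtop hWtop
      obtain ⟨φ, h0, h1⟩ := exists_dual W hv
      obtain ⟨u, hu⟩ := exists_repr hf φ
      refine ⟨u, fun h => ?_, fun w hw => by rw [← hu, h0 w hw]⟩
      rw [hu v, h, f_zero_right hf] at h1
      exact zero_ne_one h1
    have hu1 : act g⁻¹ u ≠ 0 := fun h => hu0 (by rw [← act_act_inv g u, h, map_zero])
    obtain ⟨v, hv1, hv2⟩ := exists_f_ne_two hf hu1 hu0
    have hv1' : f (act g v) u ≠ 0 := by
      rw [← act_act_inv g u, mem_isoGroup.1 hg]; exact hv1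
    have hmem : stv hf u 1 * g ∈ M := by
      refine main _ (mul_mem (stv_mem hf u 1) hg) (fun w hw => ?_) v ?_
      · rw [act_mul, hW w hw, act_stv hf, huW w hw]; simp
      · rw [act_mul, act_stv hf, f_add_left hf, f_smul_left hf, hex v, zero_add, one_mul]
        exact mul_ne_zero hv1' (f_ne_symm hf hv2)
    exact (mul_mem_cancel_left (hM u 1)).1 hmem

/-- symplectic transvections are transitive on non-zero vectors -/
theorem full_all_of_one {M : Subgroup (GL ι F)} (hM : ∀ u c, stv hf u c ∈ M) {P : (ι → F) → Prop}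
    (hP : ∀ (g : GL ι F), g ∈ M → g ∈ isoGroup f → ∀ v, P v → P (act g v))
    {v : ι → F} (hv : v ≠ 0) (h0 : P v) {w : ι → F} (hw : w ≠ 0) : P w := by
  have step : ∀ a b, f a b ≠ 0 → P a → P b := by
    intro a b hab ha
    have := hP _ (hM (b - a) (1 / f a b)) (stv_mem hf _ _) a ha
    rwa [act_stv hf, f_sub_right hf, f_self hf, sub_zero, one_div_mul_cancel hab, one_smul,
      add_sub_cancel] at this
  obtain ⟨z, h1, h2⟩ := exists_f_ne_two hf hv hw
  exact step z w h2 (step v z (f_ne_symm hf h1) h0)

end Cfsg.Agent.MaxCl
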