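/-
Orthogonal complements for a symplectic form, and the transvections in subspace stabilisers.
-/
import Mathlib
import Cfsg.Prelude.Def_GeometricClasses
import Cfsg.Agent.Lib.MaxCl.Symplectic

set_option autoImplicit false

namespace Cfsg.Agent.MaxCl

open scoped MatrixGroups Matrix

variable {ι : Type} [Fintype ι] [DecidableEq ι] {F : Type*} [Field F]
variable {f : (ι → F) → (ι → F) → F}

theorem mem_subspaceStabilizer {g : GL ι F} {W : Submodule F (ι → F)} :
    g ∈ Cfsg.Geo.subspaceStabilizer W ↔ ∀ v, v ∈ W ↔ act g v ∈ W := by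
  simp only [act_apply]; rfl

/-- for a finite dimensional subspace it is enough to map it into itself -/
theorem mem_subspaceStabilizer_of_le {g : GL ι F} {W : Submodule F (ι → F)}
    (h : ∀ v ∈ W, act g v ∈ W) : g ∈ Cfsg.Geo.subspaceStabilizer W := by
  rw [mem_subspaceStabilizer]
  refine fun v => ⟨h v, fun hv => ?_⟩
  have hle : W.map (act g) ≤ W := Submodule.map_le_iff_le_comap.2 h
  have heq : W.map (act g) = W := Submodule.eq_of_le_of_finrank_eq hle
    (Submodule.equivMapOfInjective (act g) (act_injective g) W).finrank_eq.symm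
  rw [← heq] at hv
  obtain ⟨w, hw, e⟩ := Submodule.mem_map.1 hv
  exact act_injective g e ▸ hw

theorem finrank_map_act (g : GL ι F) (W : Submodule F (ι → F)) :
    Module.finrank F (W.map (act g)) = Module.finrank F W :=
  (Submodule.equivMapOfInjective (act g) (act_injective g) W).finrank_eq.symm

variable (hf : Cfsg.Geo.IsSymplecticForm f)
include hf

/-- orthogonal complement -/
def perp (hf : Cfsg.Geo.IsSymplecticForm f) (W : Submodule F (ι → F)) : Submodule F (ι → F) :=
  (toBil hf.bilinear).orthogonal W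

theorem toBil_nondegenerate : (toBil hf.bilinear).Nondegenerate := by
  refine ⟨fun x hx => ?_, fun x hx => ?_⟩ <;> by_contra h
  · obtain ⟨y, hy⟩ := (hf.nondegenerate x h).2; exact hy (hx y)
  · obtain ⟨y, hy⟩ := (hf.nondegenerate x h).1; exact hy (hx y)

theorem toBil_isRefl : (toBil hf.bilinear).IsRefl := fun _ _ h => f_eq_zero_symm hf h

theorem mem_perp {W : Submodule F (ι → F)} {v : ι → F} : v ∈ perp hf W ↔ ∀ w ∈ W, f v w = 0 := by
  simp only [perp, LinearMap.BilinForm.mem_orthogonal_iff]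
  exact ⟨fun h w hw => f_eq_zero_symm hf (h w hw), fun h w hw => f_eq_zero_symm hf (h w hw)⟩

theorem finrank_perp (W : Submodule F (ι → F)) :
    Module.finrank F (perp hf W) = Fintype.card ι - Module.finrank F W := by
  rw [perp, LinearMap.BilinForm.finrank_orthogonal (toBil_nondegenerate hf),
    Module.finrank_pi]

theorem perp_perp (W : Submodule F (ι → F)) : perp hf (perp hf W) = W :=
  LinearMap.BilinForm.orthogonal_orthogonal (toBil_nondegenerate hf) (toBil_isRefl hf) W

theorem map_perp {g : GL ι F} (hg : g ∈ isoGroup f) (W : Submodule F (ι → F)) :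
    (perp hf W).map (act g) = perp hf (W.map (act g)) := by
  ext v
  simp only [Submodule.mem_map, mem_perp hf]
  constructor
  · rintro ⟨u, hu, rfl⟩ _ ⟨w, hw, rfl⟩
    rw [mem_isoGroup.1 hg]; exact hu w hw
  · intro h
    refine ⟨act g⁻¹ v, fun w hw => ?_, act_act_inv g v⟩
    rw [← mem_isoGroup.1 hg, act_act_inv]
    exact h _ ⟨w, hw, rfl⟩

theorem stv_mem_stabilizer {W : Submodule F (ι → F)} {u : ι → F} (hu : u ∈ W ∨ u ∈ perp hf W)
    (c : F) : stv hf u c ∈ Cfsg.Geo.subspaceStabilizer W := by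
  refine mem_subspaceStabilizer_of_le fun v hv => ?_
  rw [act_stv hf]
  rcases hu with hu | hu
  · exact W.add_mem hv (W.smul_mem _ hu)
  · rw [f_eq_zero_symm hf ((mem_perp hf).1 hu v hv)]; simpa using hv

theorem exists_f_ne_two_on {W : Submodule F (ι → F)} (hW : Cfsg.Geo.IsNondegenerateOn f W)
    {u v : ι → F} (hu : u ∈ W) (hu0 : u ≠ 0) (hv : v ∈ W) (hv0 : v ≠ 0) :
    ∃ z ∈ W, f z u ≠ 0 ∧ f z v ≠ 0 := by
  obtain ⟨a, ha, hau⟩ := (hW u hu hu0).1
  obtain ⟨b, hb, hbv⟩ := (hW v hv hv0).1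
  by_cases h1 : f a v = 0
  · by_cases h2 : f b u = 0
    · refine ⟨a + b, W.add_mem ha hb, ?_, ?_⟩
      · rw [f_add_left hf, h2, add_zero]; exact hau
      · rw [f_add_left hf, h1, zero_add]; exact hbv
    · exact ⟨b, hb, h2, hbv⟩
  · exact ⟨a, ha, hau, h1⟩

/-- moving the component of a full vector inside a non-degenerate subspace -/
theorem full_move_in {M : Subgroup (GL ι F)} {W : Submodule F (ι → F)}
    (hW : Cfsg.Geo.IsNondegenerateOn f W) (hWf : ∀ u ∈ W, Full hf M u) {a b : ι → F}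
    (ha : a ∈ W) (ha0 : a ≠ 0) (hb : ∀ w ∈ W, f b w = 0) (h : Full hf M (a + b))
    {a' : ι → F} (ha' : a' ∈ W) (ha'0 : a' ≠ 0) : Full hf M (a' + b) := by
  have step : ∀ x ∈ W, ∀ y ∈ W, f x y ≠ 0 → Full hf M (x + b) → Full hf M (y + b) := by
    intro x hx y hy hxy hfx
    refine full_step hf (v := x + b) ?_ hfx ?_
    · rw [add_sub_add_right_eq_sub]; exact hWf _ (W.sub_mem hy hx)
    · rw [f_add_left hf, f_add_right hf, f_add_right hf, f_self hf, hb y hy,
        f_eq_zero_symm hf (hb x hx)]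
      simpa using hxy
  obtain ⟨z, hz, h1, h2⟩ := exists_f_ne_two_on hf hW ha ha0 ha' ha'0
  exact step z hz a' ha' h2 (step a ha z hz (f_ne_symm hf h1) h)

end Cfsg.Agent.MaxCl
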