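/-
Stabilisers of totally singular subspaces are maximal in `omegaGL`, and the bridge from quadratic forms given as
functions.
-/
import Cfsg.Agent.Lib.MaxCl.OrthBase
import Cfsg.Agent.Lib.MaxCl.SympStab
import Cfsg.Agent.Lib.Forms.Quad

set_option autoImplicit false

namespace Cfsg.Agent.MaxCl.Orth

open scoped MatrixGroups Matrix
open Module (finrank)

variable {ι : Type} [Fintype ι] [DecidableEq ι] {F : Type*} [Field F]

/-- A quadratic form given as a function is the coercion of a `QuadraticForm`. -/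
theorem exists_form {Q : (ι → F) → F} (h : Cfsg.Geo.IsNondegenerateQuadraticForm Q) :
    ∃ q : QuadraticForm F (ι → F), ⇑q = Q ∧ (QuadraticMap.polarBilin q).Nondegenerate := by
  refine ⟨QuadraticMap.ofPolar Q (fun a x => by rw [h.smul, smul_eq_mul, sq]) h.polar_bilinear.add_left
    (fun a x y => by rw [h.polar_bilinear.smul_left, smul_eq_mul]), rfl, ?_, ?_⟩
  · intro x hx
    by_contra hne
    obtain ⟨y, hy⟩ := (h.nondegenerate x hne).2
    exact hy (hx y)
  · intro x hx
    by_contra hne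
    obtain ⟨y, hy⟩ := (h.nondegenerate x hne).1
    exact hy (hx y)

/-- The standard odd-dimensional form as a `QuadraticForm`. -/
theorem exists_form_odd [Fintype F] (hodd : Odd (Fintype.card F)) (m : ℕ) :
    ∃ q : QuadraticForm F (Unit ⊕ (Fin m ⊕ Fin m) → F),
      ⇑q = quadFormOdd m F ∧ (QuadraticMap.polarBilin q).Nondegenerate := by
  refine ⟨Forms.quadOdd m F, funext Forms.quadOdd_apply, Forms.quadOdd_nondegenerate (Ring.two_ne_zero ?_) m⟩
  intro hc
  obtain ⟨k, hk⟩ := hodd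
  have := (FiniteField.even_card_iff_char_two.1 hc)
  omega

theorem card_odd_index (m : ℕ) : Fintype.card (Unit ⊕ (Fin m ⊕ Fin m)) = 2 * m + 1 := by
  simp only [Fintype.card_sum, Fintype.card_unique, Fintype.card_fin]; omega

theorem isMaximalIn_inf {K S : Subgroup (GL ι F)} (hout : ∃ g ∈ K, g ∉ S)
    (hmax : ∀ M : Subgroup (GL ι F), S ⊓ K ≤ M → M ≤ K → (∃ g ∈ M, g ∉ S) → K ≤ M) :
    Cfsg.Geo.IsMaximalIn K (S ⊓ K) := by
  obtain ⟨g, hgK, hgS⟩ := hout
  refine ⟨lt_of_le_of_ne inf_le_right fun e => hgS (e.ge hgK).1, fun M h1 h2 => ?_⟩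
  by_cases hM : M ≤ S
  · exact Or.inl (le_antisymm (le_inf hM h2) h1)
  · exact Or.inr (le_antisymm h2 (hmax M h1 h2 (SetLike.not_le_iff_exists.1 hM)))

theorem exists_act_notMem {W : Submodule F (ι → F)} {g : GL ι F}
    (h : g ∉ Cfsg.Geo.subspaceStabilizer W) : ∃ w ∈ W, act g w ∉ W := by
  by_contra hc
  push Not at hc
  exact h (mem_subspaceStabilizer_of_le hc)

variable {Q : QuadraticForm F (ι → F)}

set_option quotPrecheck false in
local notation "B" => QuadraticMap.polar (⇑Q)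

theorem B_eq_zero_of_singular {W : Submodule F (ι → F)} (hW : ∀ w ∈ W, Q w = 0) {x y : ι → F}
    (hx : x ∈ W) (hy : y ∈ W) : B x y = 0 := by
  have := Q_add Q x y
  rw [hW _ (W.add_mem hx hy), hW x hx, hW y hy] at this
  simpa using this.symm

theorem singular_sup_span {W : Submodule F (ι → F)} (hW : ∀ w ∈ W, Q w = 0) {x : ι → F} (hx : Q x = 0)
    (h : ∀ w ∈ W, B w x = 0) : ∀ y ∈ W ⊔ F ∙ x, Q y = 0 := by
  intro y hy
  obtain ⟨w, hw, z, hz, rfl⟩ := Submodule.mem_sup.1 hy
  obtain ⟨a, rfl⟩ := Submodule.mem_span_singleton.1 hz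
  rw [Q_add Q, Q_smul Q, B_smul_right Q, hW w hw, hx, h w hw]; ring

variable (hQ : (QuadraticMap.polarBilin Q).Nondegenerate) [Finite F] (hn : 5 ≤ Fintype.card ι)
include hQ hn

/-- A Siegel element moving a non-zero singular vector out of every totally singular subspace containing it. -/
theorem exists_sg_move {x : ι → F} (hx0 : x ≠ 0) (hx : Q x = 0) :
    ∃ g ∈ Cfsg.Geo.omegaGL Q, B x (act g x) ≠ 0 := by
  obtain ⟨z, hz⟩ := exists_B_ne_zero hQ hx0
  obtain ⟨u, -, hu, hxu⟩ := exists_partner Q (W := ⊤) hx trivial trivial hz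
  obtain ⟨w, hw, hwne⟩ := exists_nonsingular hQ (D := perp Q (Submodule.span F (Set.range ![x, u]))) (by
    have := finrank_span_list_le ![x, u]
    rw [finrank_perp hQ]; omega)
  rw [mem_perp_span] at hw
  have hxw : B x w = 0 := hw x ⟨0, rfl⟩
  have huw : B u w = 0 := hw u ⟨1, rfl⟩
  refine ⟨sg Q u w, sg_mem_omega hQ hn u w, ?_⟩
  rw [act_sg Q hu huw, B_sub_right Q, B_add_right Q, B_smul_right Q, B_smul_right Q,
    B_self_of_singular Q hx, hxw, hxu, B_comm Q u x, hxu, B_comm Q w x, hxw]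
  simpa using hwne

theorem parabolic_maximal {W : Submodule F (ι → F)} (hW0 : W ≠ ⊥) (hW : ∀ w ∈ W, Q w = 0)
    (hex : ∀ U : Submodule F (ι → F), (∀ w ∈ U, Q w = 0) → 2 * finrank F U = Fintype.card ι →
      2 * (finrank F W + 1) ≠ Fintype.card ι) :
    Cfsg.Geo.IsMaximalIn (Cfsg.Geo.omegaGL Q) (Cfsg.Geo.subspaceStabilizer W ⊓ Cfsg.Geo.omegaGL Q) := by
  refine isMaximalIn_inf ?_ fun M hM hMK hout => ?_
  · obtain ⟨x, hx, hx0⟩ := Submodule.exists_mem_ne_zero_of_ne_bot hW0
    obtain ⟨g, hg, hne⟩ := exists_sg_move hQ hn hx0 (hW x hx)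
    exact ⟨g, hg, fun h => hne (B_eq_zero_of_singular hW hx (act_mem_of_stab h hx))⟩
  obtain ⟨g, hgM, hgS⟩ := hout
  obtain ⟨w₀, hw₀, hx⟩ := exists_act_notMem hgS
  have hgI := omega_le_iso (hMK hgM)
  have full : ∀ u ∈ W, Full Q M u := fun u hu w hw => hM ⟨mem_subspaceStabilizer_of_le fun y hy => by
    rw [act_sg Q (hW u hu) hw, B_eq_zero_of_singular hW hu hy, zero_smul, add_zero]
    exact W.sub_mem hy (W.smul_mem _ hu), sg_mem_omega hQ hn u w⟩
  set x := act g w₀ with hxdef
  have hQx : Q x = 0 := by rw [hxdef, Q_act hgI, hW w₀ hw₀]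
  have fx : Full Q M x := (full w₀ hw₀).act hgM hgI
  by_cases hne : ∃ y ∈ W, B y x ≠ 0
  · obtain ⟨y, hy, hyx⟩ := hne
    exact omega_le_of_full hQ hn (hW y hy) hQx hyx (full y hy) fx
  push Not at hne
  obtain ⟨z, hz, hxz⟩ := exists_perp_one hQ hx
  obtain ⟨u, hu, hQu, hxu⟩ := exists_partner Q (W := perp Q W) hQx ((mem_perp Q).2 hne) hz
    (by rw [hxz]; exact one_ne_zero)
  set P := W ⊔ Submodule.span F (Set.range ![x, u]) with hP
  have hxP : x ∈ P := Submodule.mem_sup_right (Submodule.subset_span ⟨0, rfl⟩)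
  have huP : u ∈ P := Submodule.mem_sup_right (Submodule.subset_span ⟨1, rfl⟩)
  obtain ⟨w, hw, hwne⟩ : ∃ w ∈ perp Q P, Q w ≠ 0 := by
    by_contra hc
    push Not at hc
    have h1 := two_mul_finrank_le_of_singular hQ
      (singular_sup_span hc hQx fun y hy => (B_comm Q y x).trans ((mem_perp Q).1 hy x hxP))
    have h2 := singular_sup_span hW hQx hne
    have h2' := two_mul_finrank_le_of_singular hQ h2
    have h3 : x ∉ perp Q P := fun h => by
      have := (mem_perp Q).1 h u huP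
      rw [B_comm Q, hxu] at this
      exact one_ne_zero this
    rw [Submodule.finrank_sup_span_singleton h3, finrank_perp hQ] at h1
    rw [Submodule.finrank_sup_span_singleton hx] at h2'
    have h4 := Submodule.finrank_sup_add_finrank_inf_eq W (Submodule.span F (Set.range ![x, u]))
    rw [← hP] at h4
    have h5 := finrank_span_list_le ![x, u]
    have he : 2 * (finrank F W + 1) = Fintype.card ι := by omega
    exact hex _ h2 (by rw [Submodule.finrank_sup_span_singleton hx, he]) he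
  have huw : B u w = 0 := hw u huP
  have hmem : sg Q u w ∈ M := hM ⟨mem_subspaceStabilizer_of_le fun y hy => by
    rwa [act_sg_fix Q hQu huw ((B_comm Q u y).trans (hu y hy))
      ((B_comm Q w y).trans (hw y (Submodule.mem_sup_left hy)))], sg_mem_omega hQ hn u w⟩
  refine omega_le_of_full hQ hn hQx (by rw [Q_act (sg_mem_iso Q u w), hQx] : Q (act (sg Q u w) x) = 0) ?_ fx
    (fx.act hmem (sg_mem_iso Q u w))
  have hxw : B x w = 0 := hw x hxP
  rw [act_sg Q hQu huw, B_sub_right Q, B_add_right Q, B_smul_right Q, B_smul_right Q,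
    B_self_of_singular Q hQx, hxw, hxu, B_comm Q u x, hxu, B_comm Q w x, hxw]
  simpa using hwne
where
  act_mem_of_stab {W : Submodule F (ι → F)} {g : GL ι F} (h : g ∈ Cfsg.Geo.subspaceStabilizer W)
      {w : ι → F} (hw : w ∈ W) : act g w ∈ W := (mem_subspaceStabilizer.1 h w).1 hw

end Cfsg.Agent.MaxCl.Orth
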