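/-
Stabilisers of non-degenerate subspaces, and of a nonsingular point in characteristic two, are maximal in `omegaGL`.
-/
import Cfsg.Agent.Lib.MaxCl.OrthParabolic

set_option autoImplicit false

namespace Cfsg.Agent.MaxCl.Orth

open scoped MatrixGroups Matrix
open Module (finrank)

variable {ι : Type} [Fintype ι] [DecidableEq ι] {F : Type*} [Field F] {Q : QuadraticForm F (ι → F)}

set_option quotPrecheck false in
local notation "B" => QuadraticMap.polar (⇑Q)

variable (Q) in
/-- The polar form is non-degenerate on `W`. -/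
def NonDeg (W : Submodule F (ι → F)) : Prop := ∀ x ∈ W, (∀ y ∈ W, B x y = 0) → x = 0

theorem nonDeg_of_isNondegenerateOn {W : Submodule F (ι → F)}
    (h : Cfsg.Geo.IsNondegenerateOn (QuadraticMap.polar Q) W) : NonDeg Q W := by
  intro x hx hxy
  by_contra hne
  obtain ⟨y, hy, hyne⟩ := (h x hx hne).2
  exact hyne (hxy y hy)

theorem mem_span_pair_iff_range {x y z : ι → F} :
    z ∈ Submodule.span F (Set.range ![x, y]) ↔ ∃ a b : F, a • x + b • y = z := by
  rw [Submodule.mem_span_range_iff_exists_fun]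
  constructor
  · rintro ⟨c, hc⟩
    exact ⟨c 0, c 1, by simpa [Fin.sum_univ_two] using hc⟩
  · rintro ⟨a, b, h⟩
    exact ⟨![a, b], by simpa [Fin.sum_univ_two] using h⟩

/-- The defining property of `perp`, in terms of `polar`. -/
theorem orth {W : Submodule F (ι → F)} {x w : ι → F} (hx : x ∈ perp Q W) (hw : w ∈ W) : B w x = 0 := hx w hw

section Decomp

variable (hQ : (QuadraticMap.polarBilin Q).Nondegenerate) {W : Submodule F (ι → F)} (hW : NonDeg Q W)
include hQ hW

omit hQ in
theorem inf_perp : W ⊓ perp Q W = ⊥ := by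
  rw [eq_bot_iff]
  rintro x ⟨hx, hx'⟩
  exact hW x hx fun y hy => (B_comm Q x y).trans (hx' y hy)

theorem sup_perp : W ⊔ perp Q W = ⊤ := by
  apply Submodule.eq_top_of_finrank_eq
  have h := Submodule.finrank_sup_add_finrank_inf_eq W (perp Q W)
  have h2 : finrank F W ≤ Fintype.card ι := (Submodule.finrank_le W).trans_eq (Module.finrank_pi F)
  rw [inf_perp hW, finrank_bot, finrank_perp hQ] at h
  rw [Module.finrank_pi]
  omega

theorem exists_split (x : ι → F) : ∃ x₁ ∈ W, ∃ x₂ ∈ perp Q W, x = x₁ + x₂ := by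
  have : x ∈ W ⊔ perp Q W := by rw [sup_perp hQ hW]; trivial
  obtain ⟨a, ha, b, hb, e⟩ := Submodule.mem_sup.1 this
  exact ⟨a, ha, b, hb, e.symm⟩

theorem nonDeg_perp : NonDeg Q (perp Q W) := by
  intro x hx h
  refine hQ.1 x fun y => ?_
  obtain ⟨y₁, hy₁, y₂, hy₂, rfl⟩ := exists_split hQ hW y
  show B x (y₁ + y₂) = 0
  rw [B_add_right Q, h y₂ hy₂, B_comm Q, orth hx hy₁, add_zero]

/-- A vector in `W` orthogonal to `P` with value one on `v`. -/
theorem exists_one_in {P : Submodule F (ι → F)} {v : ι → F} (hPW : P ≤ W) (hvW : v ∈ W) (hv : v ∉ P) :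
    ∃ z ∈ W, (∀ p ∈ P, B p z = 0) ∧ B v z = 1 := by
  obtain ⟨z, hz, hz1⟩ := exists_perp_one hQ hv
  obtain ⟨z₁, hz₁, z₂, hz₂, rfl⟩ := exists_split hQ hW z
  refine ⟨z₁, hz₁, fun p hp => ?_, ?_⟩
  · have := (mem_perp Q).1 hz p hp
    rwa [B_add_right Q, orth hz₂ (hPW hp), add_zero] at this
  · rwa [B_add_right Q, orth hz₂ hvW, add_zero] at hz1

end Decomp

section Finite

variable [Finite F] (hQ : (QuadraticMap.polarBilin Q).Nondegenerate) {W : Submodule F (ι → F)}
  (hW : NonDeg Q W)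
include hQ

theorem exists_singular_in {P E : Submodule F (ι → F)} (h : finrank F P + finrank F E + 3 ≤ finrank F W) :
    ∃ x ∈ W, (∀ p ∈ P, B p x = 0) ∧ x ∉ E ∧ Q x = 0 := by
  have h1 := Submodule.finrank_sup_add_finrank_inf_eq W (perp Q P)
  have h2 : finrank F ↥(W ⊔ perp Q P) ≤ Fintype.card ι := (Submodule.finrank_le _).trans_eq (Module.finrank_pi F)
  have h3 : finrank F P ≤ Fintype.card ι := (Submodule.finrank_le P).trans_eq (Module.finrank_pi F)
  rw [finrank_perp hQ] at h1
  obtain ⟨x, hx, hxE, hQx⟩ := exists_singular_notMem Q (D := W ⊓ perp Q P) (E := E) (by omega)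
  exact ⟨x, hx.1, (mem_perp Q).1 hx.2, hxE, hQx⟩

include hW

theorem exists_pair_in (h : 3 ≤ finrank F W) :
    ∃ s ∈ W, ∃ t ∈ W, Q s = 0 ∧ Q t = 0 ∧ B s t = 1 := by
  obtain ⟨s, hs, hs0, hQs⟩ := exists_singular Q h
  obtain ⟨z, hz, -, hz1⟩ := exists_one_in hQ hW (P := ⊥) bot_le hs (by simpa using hs0)
  obtain ⟨t, ht, hQt, hst⟩ := exists_partner Q hQs hs hz (by rw [hz1]; exact one_ne_zero)
  exact ⟨s, hs, t, ht, hQs, hQt, hst⟩

theorem le_of_singular_le (h : 3 ≤ finrank F W) {N : Submodule F (ι → F)}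
    (hN : ∀ x ∈ W, Q x = 0 → x ∈ N) : W ≤ N := by
  obtain ⟨s, hs, t, ht, hQs, hQt, hst⟩ := exists_pair_in hQ hW h
  intro w hw
  set w' := w - B t w • s - B s w • t with hw'
  have hw'W : w' ∈ W := W.sub_mem (W.sub_mem hw (W.smul_mem _ hs)) (W.smul_mem _ ht)
  have h1 : B s w' = 0 := by
    rw [hw', B_sub_right Q, B_sub_right Q, B_smul_right Q, B_smul_right Q, B_self_of_singular Q hQs, hst]; ring
  have h2 : B t w' = 0 := by
    rw [hw', B_sub_right Q, B_sub_right Q, B_smul_right Q, B_smul_right Q, B_self_of_singular Q hQt,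
      B_comm Q t s, hst]; ring
  have hs' : s + w' - Q w' • t ∈ N := hN _ (W.sub_mem (W.add_mem hs hw'W) (W.smul_mem _ ht)) (by
    rw [Q_sub Q, Q_add Q, Q_smul Q, B_smul_right Q, B_add_left Q, hQs, hQt, h1, hst, B_comm Q w' t, h2]; ring)
  have e : w = (s + w' - Q w' • t) + (B t w - 1) • s + (Q w' + B s w) • t := by rw [hw']; module
  rw [e]
  exact N.add_mem (N.add_mem hs' (N.smul_mem _ (hN s hs hQs))) (N.smul_mem _ (hN t ht hQt))

variable (hn : 5 ≤ Fintype.card ι) (h7 : 6 ≤ finrank F W) {M : Subgroup (GL ι F)}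
  (hS : ∀ u ∈ W, ∀ w ∈ W, sg Q u w ∈ M)
include h7 hS

/-- The Siegel elements supported on `W` move singular vectors of `W` transitively and fix `perp W`. -/
theorem exists_move_in {x y : ι → F} (hx : x ∈ W) (hy : y ∈ W) (hx0 : x ≠ 0) (hy0 : y ≠ 0) (hQx : Q x = 0)
    (hQy : Q y = 0) :
    ∃ g ∈ M, g ∈ isometryGroup F Q ∧ act g x = y ∧ ∀ a ∈ perp Q W, act g a = a := by
  have step : ∀ x ∈ W, ∀ y ∈ W, Q x = 0 → Q y = 0 → B x y = 0 → x ∉ F ∙ y → y ∉ F ∙ x →
      ∃ g ∈ M, g ∈ isometryGroup F Q ∧ act g x = y ∧ ∀ a ∈ perp Q W, act g a = a := by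
    intro x hx y hy hQx hQy hxy hx' hy'
    obtain ⟨z₁, hz₁, h1, h1'⟩ := exists_one_in hQ hW
      ((Submodule.span_singleton_le_iff_mem _ _).2 hy) hx hx'
    obtain ⟨z₂, hz₂, h2, h2'⟩ := exists_one_in hQ hW
      ((Submodule.span_singleton_le_iff_mem _ _).2 hx) hy hy'
    have hy1 := h1 y (Submodule.mem_span_singleton_self y)
    have hx2 := h2 x (Submodule.mem_span_singleton_self x)
    set z := z₁ + z₂ - Q (z₁ + z₂) • x with hz
    have hxz : B x z = 1 := by
      rw [hz, B_sub_right Q, B_add_right Q, B_smul_right Q, B_self_of_singular Q hQx, h1', hx2]; ring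
    have hyz : B y z = 1 := by
      rw [hz, B_sub_right Q, B_add_right Q, B_smul_right Q, B_comm Q y x, hxy, hy1, h2']; ring
    have hQz : Q z = 0 := by
      rw [hz, Q_sub Q, Q_smul Q, B_smul_right Q, hQx, B_add_left Q, B_comm Q z₁ x, B_comm Q z₂ x, h1', hx2]
      ring
    have hzW : z ∈ W := W.sub_mem (W.add_mem hz₁ hz₂) (W.smul_mem _ hx)
    have hzw : B z (y - x) = 0 := by rw [B_sub_right Q, B_comm Q z y, B_comm Q z x, hxz, hyz, sub_self]
    refine ⟨sg Q z (y - x), hS z hzW _ (W.sub_mem hy hx), sg_mem_iso Q _ _, ?_, fun a ha => ?_⟩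
    · rw [act_sg Q hQz hzw, B_comm Q z x, hxz, B_sub_left Q, B_comm Q y x, hxy, B_self_of_singular Q hQx,
        Q_sub Q, hQx, hQy, B_comm Q y x, hxy]
      module
    · exact act_sg_fix Q hQz hzw (ha z hzW) (ha _ (W.sub_mem hy hx))
  by_cases hperp : B x y = 0 ∧ x ∉ F ∙ y ∧ y ∉ F ∙ x
  · exact step x hx y hy hQx hQy hperp.1 hperp.2.1 hperp.2.2
  have hD := finrank_span_list_le ![x, y]
  obtain ⟨w, hw, hwP, hwE, hQw⟩ : ∃ w ∈ W, (∀ p ∈ Submodule.span F (Set.range ![x, y]), B p w = 0) ∧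
      w ∉ Submodule.span F (Set.range ![x, y]) ∧ Q w = 0 := by
    by_cases hxy : B x y = 0
    · -- `x` and `y` are proportional
      have hsp : ∃ z : ι → F, z ≠ 0 ∧ Submodule.span F (Set.range ![x, y]) ≤ F ∙ z := by
        by_cases h : y ∈ F ∙ x
        · exact ⟨x, hx0, Submodule.span_le.2 (by
            rintro _ ⟨i, rfl⟩; fin_cases i; exacts [Submodule.mem_span_singleton_self x, h])⟩
        · have h' : x ∈ F ∙ y := by tauto
          exact ⟨y, hy0, Submodule.span_le.2 (by
            rintro _ ⟨i, rfl⟩; fin_cases i; exacts [h', Submodule.mem_span_singleton_self y])⟩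
      obtain ⟨z, hz0, hz⟩ := hsp
      have := (Submodule.finrank_mono hz).trans_eq (finrank_span_singleton hz0)
      exact exists_singular_in hQ (by omega)
    · obtain ⟨w, hw, hwP, hw0, hQw⟩ := exists_singular_in hQ (W := W)
        (P := Submodule.span F (Set.range ![x, y])) (E := ⊥) (by rw [finrank_bot]; omega)
      refine ⟨w, hw, hwP, fun h => hw0 ?_, hQw⟩
      obtain ⟨a, b, rfl⟩ := mem_span_pair_iff_range.1 h
      have h1 := hwP x (Submodule.subset_span ⟨0, rfl⟩)
      have h2 := hwP y (Submodule.subset_span ⟨1, rfl⟩)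
      rw [B_add_right Q, B_smul_right Q, B_smul_right Q, B_self_of_singular Q hQx] at h1
      rw [B_add_right Q, B_smul_right Q, B_smul_right Q, B_self_of_singular Q hQy, B_comm Q y x] at h2
      have hb : b = 0 := (mul_eq_zero.1 (by simpa using h1)).resolve_right hxy
      have ha : a = 0 := (mul_eq_zero.1 (by simpa using h2)).resolve_right hxy
      simp [ha, hb]
  have hxw := hwP x (Submodule.subset_span ⟨0, rfl⟩)
  have hyw := hwP y (Submodule.subset_span ⟨1, rfl⟩)
  have n1 : w ∉ F ∙ x := fun h => hwE (Submodule.span_mono (by rintro _ rfl; exact ⟨0, rfl⟩) h)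
  have n2 : w ∉ F ∙ y := fun h => hwE (Submodule.span_mono (by rintro _ rfl; exact ⟨1, rfl⟩) h)
  have n3 : ∀ z : ι → F, z ≠ 0 → w ∉ F ∙ z → z ∉ F ∙ w := by
    intro z hz0 hwz h
    obtain ⟨c, rfl⟩ := Submodule.mem_span_singleton.1 h
    refine hwz (Submodule.mem_span_singleton.2 ⟨c⁻¹, ?_⟩)
    rw [smul_smul, inv_mul_cancel₀ (fun e => hz0 (by rw [e, zero_smul])), one_smul]
  obtain ⟨g, hgM, hgI, hgx, hgf⟩ := step x hx w hw hQx hQw hxw (n3 x hx0 n1) n1
  obtain ⟨h, hhM, hhI, hhw, hhf⟩ := step w hw y hy hQw hQy ((B_comm Q w y).trans hyw) n2 (n3 y hy0 n2)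
  exact ⟨h * g, mul_mem hhM hgM, mul_mem hhI hgI, by rw [act_mul, hgx, hhw],
    fun a ha => by rw [act_mul, hgf a ha, hhf a ha]⟩

omit hQ hW [Finite F] h7 hS in
variable (Q W M) in
/-- Vectors `a` orthogonal to `W` such that `sg u a ∈ M` for all singular `u ∈ W`. -/
def transferSet : Set (ι → F) := {a | a ∈ perp Q W ∧ ∀ u ∈ W, Q u = 0 → sg Q u a ∈ M}

/-- One Siegel element suffices. -/
theorem mem_transferSet {u a : ι → F} (hu : u ∈ W) (hu0 : u ≠ 0) (hQu : Q u = 0) (ha : a ∈ perp Q W)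
    (h : sg Q u a ∈ M) : a ∈ transferSet Q W M := by
  refine ⟨ha, fun v hv hQv => ?_⟩
  rcases eq_or_ne v 0 with rfl | hv0
  · have : sg Q 0 a = 1 := gl_ext fun x => by
      rw [act_sg Q hQv (B_zero_left Q a), act_one, B_zero_left Q]; simp
    rw [this]; exact one_mem _
  obtain ⟨g, hgM, hgI, hgu, hgf⟩ := exists_move_in hQ hW h7 hS hu hv hu0 hv0 hQu hQv
  have := mul_mem (mul_mem hgM h) (inv_mem hgM)
  rwa [conj_sg Q hgI, hgu, hgf a ha] at this

omit hQ hW [Finite F] h7 hS in
theorem transferSet_add {a b : ι → F} (ha : a ∈ transferSet Q W M) (hb : b ∈ transferSet Q W M) :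
    a + b ∈ transferSet Q W M :=
  ⟨(perp Q W).add_mem ha.1 hb.1, fun u hu hQu => by
    rw [← sg_add Q hQu (ha.1 u hu) (hb.1 u hu)]; exact mul_mem (ha.2 u hu hQu) (hb.2 u hu hQu)⟩

omit hQ hW [Finite F] h7 hS in
theorem transferSet_smul {a : ι → F} (c : F) (ha : a ∈ transferSet Q W M) :
    c • a ∈ transferSet Q W M :=
  ⟨(perp Q W).smul_mem c ha.1, fun u hu hQu => by
    rw [← sg_smul_left Q hQu (ha.1 u hu)]
    exact ha.2 _ (W.smul_mem c hu) (by rw [Q_smul Q, hQu, mul_zero])⟩

include hn in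
theorem omega_le_of_transfer (hT : perp Q W ≤ Submodule.span F (transferSet Q W M)) :
    Cfsg.Geo.omegaGL Q ≤ M := by
  have hall : ∀ a ∈ perp Q W, ∀ u ∈ W, Q u = 0 → sg Q u a ∈ M := by
    intro a ha
    have hTa := hT ha
    have key : a = 0 ∨ a ∈ transferSet Q W M := by
      clear ha
      induction hTa using Submodule.span_induction with
      | mem y hy => exact Or.inr hy
      | zero => exact Or.inl rfl
      | add y z _ _ hy hz =>
        rcases hy with rfl | hy
        · rwa [zero_add]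
        rcases hz with rfl | hz
        · rw [add_zero]; exact Or.inr hy
        · exact Or.inr (transferSet_add hy hz)
      | smul c y _ hy =>
        rcases hy with rfl | hy
        · exact Or.inl (smul_zero c)
        · exact Or.inr (transferSet_smul c hy)
    rcases key with rfl | h
    · intro u _ _
      rw [sg_zero]; exact one_mem _
    · exact h.2
  have full : ∀ u ∈ W, Q u = 0 → Full Q M u := by
    intro u hu hQu w hw
    obtain ⟨w₁, hw₁, w₂, hw₂, rfl⟩ := exists_split hQ hW w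
    have h2 : B u w₂ = 0 := hw₂ u hu
    have h1 : B u w₁ = 0 := by rw [B_add_right Q, h2, add_zero] at hw; exact hw
    rw [← sg_add Q hQu h1 h2]
    exact mul_mem (hS u hu w₁ hw₁) (hall w₂ hw₂ u hu hQu)
  obtain ⟨s, hs, t, ht, hQs, hQt, hst⟩ := exists_pair_in hQ hW (by omega)
  exact omega_le_of_full hQ hn hQs hQt (by rw [hst]; exact one_ne_zero) (full s hs hQs) (full t ht hQt)

omit hW [Finite F] h7 hS in
/-- Conjugating a Siegel element by another one produces a transfer. -/
theorem sg_sub_mem {x b u t : ι → F} (hQx : Q x = 0) (hxb : B x b = 0) (hr : sg Q x b ∈ M) (hQu : Q u = 0)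
    (hut : B u t = 0) (hs : sg Q u t ∈ M) (hxu : B x u = 0) (hbu : B b u = 0) :
    sg Q u (B x t • b - (B b t + Q b * B x t) • x) ∈ M := by
  have hconj := mul_mem (inv_mem hs) (mul_mem (mul_mem hr hs) (inv_mem hr))
  rw [conj_sg Q (sg_mem_iso Q x b), act_sg_fix Q hQx hxb hxu hbu, ← sg_neg Q hQu hut, sg_add Q hQu
    (by rw [B_neg_right Q, hut, neg_zero]) (by
      rw [act_sg Q hQx hxb, B_sub_right Q, B_add_right Q, B_smul_right Q, B_smul_right Q, hut,
        B_comm Q u b, hbu, B_comm Q u x, hxu]; ring), act_sg Q hQx hxb] at hconj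
  convert hconj using 2
  module

/-- A transfer from a Siegel element `sg x b` of `M` outside `W`. -/
theorem transfer_of_sg {x b x₁ x₂ b₁ b₂ t : ι → F} (hQx : Q x = 0) (hxb : B x b = 0) (hr : sg Q x b ∈ M)
    (hx₁ : x₁ ∈ W) (hx₂ : x₂ ∈ perp Q W) (hxe : x = x₁ + x₂) (hb₁ : b₁ ∈ W) (hb₂ : b₂ ∈ perp Q W)
    (hbe : b = b₁ + b₂) (ht : t ∈ W) :
    B x₁ t • b₂ - (B b₁ t + Q b * B x₁ t) • x₂ ∈ transferSet Q W M := by
  have hP := finrank_span_list_le ![t, x₁, b₁]
  obtain ⟨u, hu, huP, hu0, hQu⟩ := exists_singular_in hQ (W := W) (P := Submodule.span F (Set.range ![t, x₁, b₁]))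
    (E := ⊥) (by rw [finrank_bot]; omega)
  rw [Submodule.mem_bot] at hu0
  have hut : B u t = 0 := (B_comm Q u t).trans (huP t (Submodule.subset_span ⟨0, rfl⟩))
  have hx1u : B x₁ u = 0 := huP x₁ (Submodule.subset_span ⟨1, rfl⟩)
  have hb1u : B b₁ u = 0 := huP b₁ (Submodule.subset_span ⟨2, rfl⟩)
  have hxu : B x u = 0 := by rw [hxe, B_add_left Q, hx1u, B_comm Q x₂, orth hx₂ hu, add_zero]
  have hbu : B b u = 0 := by rw [hbe, B_add_left Q, hb1u, B_comm Q b₂, orth hb₂ hu, add_zero]
  have hxt : B x t = B x₁ t := by rw [hxe, B_add_left Q, B_comm Q x₂, orth hx₂ ht, add_zero]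
  have hbt : B b t = B b₁ t := by rw [hbe, B_add_left Q, B_comm Q b₂, orth hb₂ ht, add_zero]
  have key := sg_sub_mem hQ hQx hxb hr hQu hut (hS u hu t ht) hxu hbu
  rw [hxt, hbt] at key
  set a := B x₁ t • b₂ - (B b₁ t + Q b * B x₁ t) • x₂ with ha
  set w₁ := B x₁ t • b₁ - (B b₁ t + Q b * B x₁ t) • x₁ with hw₁
  have haP : a ∈ perp Q W :=
    (perp Q W).sub_mem ((perp Q W).smul_mem _ hb₂) ((perp Q W).smul_mem _ hx₂)
  have hw₁W : w₁ ∈ W := W.sub_mem (W.smul_mem _ hb₁) (W.smul_mem _ hx₁)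
  have hua : B u a = 0 := haP u hu
  have huw : B u w₁ = 0 := by
    rw [hw₁, B_sub_right Q, B_smul_right Q, B_smul_right Q, B_comm Q u b₁, hb1u, B_comm Q u x₁, hx1u]; ring
  have e : B x₁ t • b - (B b₁ t + Q b * B x₁ t) • x = w₁ + a := by
    rw [ha, hw₁, hxe, hbe]; module
  rw [e, ← sg_add Q hQu huw hua] at key
  exact mem_transferSet hQ hW h7 hS hu hu0 hQu haP ((mul_mem_cancel_left (hS u hu w₁ hw₁W)).1 key)

omit hS in
include hn in
theorem exists_sg_notMem_stab (hW2 : perp Q W ≠ ⊥) :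
    ∃ g ∈ Cfsg.Geo.omegaGL Q, g ∉ Cfsg.Geo.subspaceStabilizer W := by
  obtain ⟨a, ha, ha0⟩ := Submodule.exists_mem_ne_zero_of_ne_bot hW2
  obtain ⟨s, hs, t, ht, hQs, -, hst⟩ := exists_pair_in hQ hW (by omega)
  refine ⟨sg Q s a, sg_mem_omega hQ hn s a, fun h => ha0 ?_⟩
  have h1 := (mem_subspaceStabilizer.1 h t).1 ht
  rw [act_sg Q hQs (orth ha hs), hst, B_comm Q a t, orth ha ht] at h1
  have : a ∈ W := by
    have e : a = (t + (1 : F) • a - (0 + Q a * 1) • s) - t + Q a • s := by module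
    rw [e]; exact W.add_mem (W.sub_mem h1 ht) (W.smul_mem _ hs)
  exact (Submodule.eq_bot_iff _).1 (inf_perp hW) a ⟨this, ha⟩

end Finite

section Nondeg

variable [Fintype F] (hQ : (QuadraticMap.polarBilin Q).Nondegenerate) {W : Submodule F (ι → F)}
  (hW : NonDeg Q W)
include hQ hW

theorem stab_inf_omega_perp :
    Cfsg.Geo.subspaceStabilizer (perp Q W) ⊓ Cfsg.Geo.omegaGL Q =
      Cfsg.Geo.subspaceStabilizer W ⊓ Cfsg.Geo.omegaGL Q := by
  have key : ∀ W : Submodule F (ι → F), ∀ g ∈ Cfsg.Geo.omegaGL Q,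
      g ∈ Cfsg.Geo.subspaceStabilizer W → g ∈ Cfsg.Geo.subspaceStabilizer (perp Q W) := by
    intro W g hg h
    refine mem_subspaceStabilizer_of_le fun x hx w hw => ?_
    show B w (act g x) = 0
    rw [← act_act_inv g w, B_act (omega_le_iso hg)]
    refine hx _ ((mem_subspaceStabilizer.1 h _).2 ?_)
    rwa [act_act_inv]
  ext g
  refine ⟨fun h => ⟨?_, h.2⟩, fun h => ⟨key W g h.2 h.1, h.2⟩⟩
  have := key _ g h.2 h.1
  rwa [perp_perp hQ] at this

/-- Two reflections of equal value, one in `W` and one in `perp W`, lie in the stabiliser. -/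
theorem refl_pair_mem (hn : 5 ≤ Fintype.card ι) {h a : ι → F} (hh : h ∈ W) (ha : a ∈ perp Q W)
    (e : Q h = Q a) (ha0 : Q a ≠ 0) :
    refl Q h * refl Q a ∈ Cfsg.Geo.subspaceStabilizer W ⊓ Cfsg.Geo.omegaGL Q := by
  refine ⟨mem_subspaceStabilizer_of_le fun w hw => ?_, ?_⟩
  · rw [act_mul, act_refl_fix Q ha0 ((B_comm Q a w).trans (ha w hw)), act_refl Q (e ▸ ha0)]
    exact W.sub_mem hw (W.smul_mem _ hh)
  · rw [omega_eq_sgGroup hQ hn]; exact refl_mul_refl_mem hQ hn e

/-- Stabilisers of non-degenerate subspaces, stated for the larger summand. -/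
theorem nondeg_maximal (h7 : 6 ≤ finrank F W) (hW2 : perp Q W ≠ ⊥)
    (hle : finrank F (perp Q W) ≤ finrank F W)
    (hex : ¬ (Fintype.card F ≤ 3 ∧ finrank F (perp Q W) = 2 ∧
      ∃ s ∈ perp Q W, s ≠ 0 ∧ Q s = 0))
    (hiso : ∀ g ∈ isometryGroup F Q, W.map (act g) ≠ perp Q W) :
    Cfsg.Geo.IsMaximalIn (Cfsg.Geo.omegaGL Q) (Cfsg.Geo.subspaceStabilizer W ⊓ Cfsg.Geo.omegaGL Q) := by
  have hn : 5 ≤ Fintype.card ι := by
    have := (Submodule.finrank_le W).trans_eq (Module.finrank_pi F); omega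
  refine isMaximalIn_inf (exists_sg_notMem_stab hQ hW hn h7 hW2) fun M hM hMK hout => ?_
  obtain ⟨g, hgM, hgS⟩ := hout
  have hgI := omega_le_iso (hMK hgM)
  have hS : ∀ u ∈ W, ∀ w ∈ W, sg Q u w ∈ M := by
    intro u hu w hw
    by_cases h : Q u = 0 ∧ B u w = 0
    · refine hM ⟨mem_subspaceStabilizer_of_le fun y hy => ?_, sg_mem_omega hQ hn u w⟩
      rw [act_sg Q h.1 h.2]
      exact W.sub_mem (W.add_mem hy (W.smul_mem _ hw)) (W.smul_mem _ hu)
    · rw [sg_of_not Q h]; exact one_mem _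
  have hdisj : ∀ a ∈ W, a ∈ perp Q W → a = 0 := fun a h1 h2 =>
    (Submodule.eq_bot_iff _).1 (inf_perp hW) a ⟨h1, h2⟩
  -- a non-zero transfer
  obtain ⟨a, haT, ha0⟩ : ∃ a ∈ transferSet Q W M, a ≠ 0 := by
    by_contra hnone
    push Not at hnone
    have main : ∀ u ∈ W, Q u = 0 → u ≠ 0 → act g u ∉ W →
        act g u ∈ perp Q W ∧ ∀ b ∈ W, B u b = 0 → act g b ∈ perp Q W := by
      intro u hu hQu hu0 hx
      set x := act g u with hxdef
      have hQx : Q x = 0 := by rw [hxdef, Q_act hgI, hQu]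
      obtain ⟨x₁, hx₁, x₂, hx₂, hxe⟩ := exists_split hQ hW x
      have hx20 : x₂ ≠ 0 := fun e => hx (by rw [hxe, e, add_zero]; exact hx₁)
      have L : ∀ b₀ ∈ W, B u b₀ = 0 → B x (act g b₀) = 0 ∧ sg Q x (act g b₀) ∈ M := by
        intro b₀ hb₀ h0
        refine ⟨by rw [hxdef, B_act hgI, h0], ?_⟩
        have := mul_mem (mul_mem hgM (hS u hu b₀ hb₀)) (inv_mem hgM)
        rwa [conj_sg Q hgI] at this
      have hx10 : x₁ = 0 := by
        by_contra hx10
        obtain ⟨t, ht, -, hxt⟩ := exists_one_in hQ hW (P := ⊥) bot_le hx₁ (by simpa using hx10)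
        have hdim : finrank F (Submodule.span F (Set.range ![u, act g⁻¹ x₂])) + 1 + 1 ≤ finrank F W := by
          have := finrank_span_list_le ![u, act g⁻¹ x₂]; omega
        obtain ⟨b₀, hb₀, hbu, hbE⟩ : ∃ b₀ ∈ W, B u b₀ = 0 ∧
            b₀ ∉ Submodule.span F (Set.range ![u, act g⁻¹ x₂]) := by
          obtain ⟨b₀, hb, hbP, hbE, -⟩ := exists_singular_in hQ (W := W) (P := F ∙ u)
            (E := Submodule.span F (Set.range ![u, act g⁻¹ x₂])) (by
              have := finrank_span_list_le ![u, act g⁻¹ x₂]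
              rw [finrank_span_singleton hu0]; omega)
          exact ⟨b₀, hb, hbP u (Submodule.mem_span_singleton_self u), hbE⟩
        obtain ⟨hxb, hr⟩ := L b₀ hb₀ hbu
        obtain ⟨b₁, hb₁, b₂, hb₂, hbe⟩ := exists_split hQ hW (act g b₀)
        by_cases hb1 : b₁ ∈ F ∙ x₁
        · obtain ⟨c, hc⟩ := Submodule.mem_span_singleton.1 hb1
          have h0 := hnone _ (transfer_of_sg hQ hW h7 hS hQx hxb hr hx₁ hx₂ hxe hb₁ hb₂ hbe ht)
          rw [hxt, one_smul, sub_eq_zero] at h0
          apply hbE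
          rw [mem_span_pair_iff_range]
          refine ⟨c, B b₁ t + Q (act g b₀) * 1 - c, act_injective g ?_⟩
          rw [map_add, map_smul, map_smul, act_act_inv, ← hxdef]
          conv_rhs => rw [hbe, h0]
          rw [hxe, ← hc]
          module
        · obtain ⟨t', ht', ht0, hbt⟩ := exists_one_in hQ hW
            ((Submodule.span_singleton_le_iff_mem _ _).2 hx₁) hb₁ hb1
          have h0 := hnone _ (transfer_of_sg hQ hW h7 hS hQx hxb hr hx₁ hx₂ hxe hb₁ hb₂ hbe ht')
          rw [ht0 x₁ (Submodule.mem_span_singleton_self x₁), hbt] at h0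
          exact hx20 (by simpa using h0)
      subst hx10
      refine ⟨by rw [hxe, zero_add]; exact hx₂, fun b₀ hb₀ hbu => ?_⟩
      obtain ⟨hxb, hr⟩ := L b₀ hb₀ hbu
      obtain ⟨b₁, hb₁, b₂, hb₂, hbe⟩ := exists_split hQ hW (act g b₀)
      rcases eq_or_ne b₁ 0 with rfl | hb10
      · rw [hbe, zero_add]; exact hb₂
      obtain ⟨t, ht, -, hbt⟩ := exists_one_in hQ hW (P := ⊥) bot_le hb₁ (by simpa using hb10)
      have h0 := hnone _ (transfer_of_sg hQ hW h7 hS hQx hxb hr hx₁ hx₂ hxe hb₁ hb₂ hbe ht)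
      rw [B_zero_left Q, hbt] at h0
      exact absurd (by simpa using h0) hx20
    obtain ⟨u, hu, hQu, hx⟩ : ∃ u ∈ W, Q u = 0 ∧ act g u ∉ W := by
      by_contra hc
      push Not at hc
      exact hgS (mem_subspaceStabilizer_of_le
        (le_of_singular_le hQ hW (by omega) (N := W.comap (act g)) hc))
    have hu0 : u ≠ 0 := fun e => hx (by rw [e, map_zero]; exact W.zero_mem)
    obtain ⟨hgu, hperp⟩ := main u hu hQu hu0 hx
    obtain ⟨z, hz, -, huz⟩ := exists_one_in hQ hW (P := ⊥) bot_le hu (by simpa using hu0)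
    obtain ⟨v, hv, hQv, huv⟩ := exists_partner Q hQu hu hz (by rw [huz]; exact one_ne_zero)
    have hgv : act g v ∈ perp Q W := by
      refine (main v hv hQv (fun e => one_ne_zero (α := F) ?_) fun h => ?_).1
      · rw [← huv, e, B_zero_right Q]
      · have := (mem_perp Q).1 hgu _ h
        rw [B_comm Q, B_act hgI, huv] at this
        exact one_ne_zero this
    refine hiso g hgI (Submodule.eq_of_le_of_finrank_le ?_ ?_)
    · rintro _ ⟨w, hw, rfl⟩
      have h1 := hperp (w - B u w • v) (W.sub_mem hw (W.smul_mem _ hv))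
        (by rw [B_sub_right Q, B_smul_right Q, huv]; ring)
      rw [map_sub, map_smul] at h1
      simpa using (perp Q W).add_mem h1 ((perp Q W).smul_mem (B u w) hgv)
    · rwa [finrank_map_act]
  -- the transfers form an invariant subspace
  let N : Submodule F (ι → F) := {
    carrier := transferSet Q W M
    add_mem' := fun ha hb => transferSet_add ha hb
    zero_mem' := ⟨(perp Q W).zero_mem, fun u _ _ => by rw [sg_zero]; exact one_mem _⟩
    smul_mem' := fun c _ ha => transferSet_smul c ha }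
  have hNle : N ≤ perp Q W := fun y hy => hy.1
  have hinv : ∀ h ∈ Cfsg.Geo.subspaceStabilizer W ⊓ Cfsg.Geo.omegaGL Q, ∀ y ∈ N, act h y ∈ N := by
    intro h hh y hy
    have hhI := omega_le_iso hh.2
    have hh' : h ∈ Cfsg.Geo.subspaceStabilizer (perp Q W) := ((stab_inf_omega_perp hQ hW).ge hh).1
    refine ⟨(mem_subspaceStabilizer.1 hh' y).1 hy.1, fun u hu hQu => ?_⟩
    have hu' : act h⁻¹ u ∈ W := (mem_subspaceStabilizer.1 hh.1 _).2 (by rwa [act_act_inv])
    have := mul_mem (mul_mem (hM hh) (hy.2 _ hu'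
      (by rw [← Q_act hhI (act h⁻¹ u), act_act_inv, hQu]))) (inv_mem (hM hh))
    rwa [conj_sg Q hhI, act_act_inv] at this
  suffices hN : perp Q W ≤ N by
    refine omega_le_of_transfer hQ hW hn h7 hS fun y hy => Submodule.subset_span (hN hy)
  have hW' := nonDeg_perp hQ hW
  rcases Nat.lt_or_ge (finrank F (perp Q W)) 3 with hlt | hge
  swap
  · have step : ∀ x ∈ N, ∀ s ∈ perp Q W, Q s = 0 → B s x = 0 → x ∉ F ∙ s → s ∈ N := by
      intro x hx s hs hQs hsx hxs
      obtain ⟨w, hw, hws, hxw⟩ := exists_one_in hQ hW' ((Submodule.span_singleton_le_iff_mem _ _).2 hs)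
        (hNle hx) hxs
      have hsw : B s w = 0 := hws s (Submodule.mem_span_singleton_self s)
      have h1 := hinv _ ⟨mem_subspaceStabilizer_of_le fun y hy => by
        rwa [act_sg_fix Q hQs hsw ((B_comm Q s y).trans (hs y hy)) ((B_comm Q w y).trans (hw y hy))],
        sg_mem_omega hQ hn s w⟩ x hx
      rw [act_sg Q hQs hsw, hsx, B_comm Q w x, hxw] at h1
      have h2 := N.sub_mem hx h1
      simpa using h2
    refine le_of_singular_le hQ hW' hge fun s hs hQs => ?_
    rcases eq_or_ne s 0 with rfl | hs0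
    · exact N.zero_mem
    by_cases has : a ∈ F ∙ s
    · obtain ⟨c, rfl⟩ := Submodule.mem_span_singleton.1 has
      have hc : c ≠ 0 := fun e => ha0 (by rw [e, zero_smul])
      simpa [smul_smul, inv_mul_cancel₀ hc] using N.smul_mem c⁻¹ (show c • s ∈ N from haT)
    rcases eq_or_ne (B s a) 0 with h0 | h0
    · exact step a haT s hs hQs h0 has
    obtain ⟨w, hw, hwP, hwE⟩ : ∃ w ∈ perp Q W, B s w = 0 ∧ w ∉ F ∙ s := by
      by_contra hc
      push Not at hc
      have h1 := Submodule.finrank_sup_add_finrank_inf_eq (perp Q W) (perp Q (F ∙ s))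
      have h2 : finrank F ↥(perp Q W ⊔ perp Q (F ∙ s)) ≤ Fintype.card ι :=
        (Submodule.finrank_le _).trans_eq (Module.finrank_pi F)
      rw [finrank_perp hQ (F ∙ s), finrank_span_singleton hs0] at h1
      have h3 : finrank F ↥(perp Q W ⊓ perp Q (F ∙ s)) ≤ 1 :=
        (Submodule.finrank_mono (fun w (hw : w ∈ perp Q W ⊓ perp Q (F ∙ s)) => hc w hw.1
          ((mem_perp Q).1 hw.2 s (Submodule.mem_span_singleton_self s)))).trans_eq (finrank_span_singleton hs0)
      omega
    have h1 := N.sub_mem (hinv _ ⟨mem_subspaceStabilizer_of_le fun y hy => by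
        rwa [act_sg_fix Q hQs hwP ((B_comm Q s y).trans (hs y hy)) ((B_comm Q w y).trans (hw y hy))],
        sg_mem_omega hQ hn s w⟩ a haT) (show a ∈ N from haT)
    rw [act_sg Q hQs hwP] at h1
    refine step _ h1 s hs hQs ?_ fun hm => hwE ?_
    · simp only [B_sub_right Q, B_add_right Q, B_smul_right Q, hwP, B_self_of_singular Q hQs]
      ring
    · obtain ⟨c, hc⟩ := Submodule.mem_span_singleton.1 hm
      refine Submodule.mem_span_singleton.2 ⟨(B s a)⁻¹ * (c + (B w a + Q w * B s a)), ?_⟩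
      rw [← smul_smul, add_smul, hc]
      match_scalars <;> field_simp <;> ring
  -- small complement
  have hpos : finrank F N ≤ finrank F (perp Q W) := Submodule.finrank_mono hNle
  have hN1 : 1 ≤ finrank F N := by
    rw [← finrank_span_singleton (K := F) ha0]
    exact Submodule.finrank_mono ((Submodule.span_singleton_le_iff_mem _ _).2 haT)
  rcases Nat.lt_or_ge (finrank F N) (finrank F (perp Q W)) with hlt' | hge'
  swap
  · exact (Submodule.eq_of_le_of_finrank_le hNle hge').ge
  exfalso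
  have hN : N = F ∙ a := (Submodule.eq_of_le_of_finrank_le
    ((Submodule.span_singleton_le_iff_mem _ _).2 haT) (by rw [finrank_span_singleton ha0]; omega)).symm
  obtain ⟨b, hb, hbN, hba, hQb⟩ : ∃ b ∈ perp Q W, b ∉ F ∙ a ∧ B b a ≠ 0 ∧ Q b ≠ 0 := by
    have hA : F ∙ a ≤ perp Q W := (Submodule.span_singleton_le_iff_mem _ _).2 haT.1
    obtain ⟨y, hy, -, hay⟩ := exists_one_in hQ hW' (P := ⊥) bot_le haT.1 (by simpa using ha0)
    have hya : B y a ≠ 0 := by rw [B_comm Q, hay]; exact one_ne_zero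
    obtain ⟨z, hz, hzA⟩ : ∃ z ∈ perp Q W, z ∉ F ∙ a := SetLike.not_le_iff_exists.1 fun h => by
      have := (Submodule.finrank_mono h).trans_eq (finrank_span_singleton ha0); omega
    by_cases hiso' : ∃ s ∈ perp Q W, s ≠ 0 ∧ Q s = 0
    · obtain ⟨s, hs, hs0, hQs⟩ := hiso'
      obtain ⟨t₀, ht₀, -, hst₀⟩ := exists_one_in hQ hW' (P := ⊥) bot_le hs (by simpa using hs0)
      obtain ⟨t, ht, hQt, hst⟩ := exists_partner Q hQs hs ht₀ (by rw [hst₀]; exact one_ne_zero)
      by_contra hc
      push Not at hc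
      have hq : ¬ Fintype.card F ≤ 3 := fun hq => hex ⟨hq, by omega, s, hs, hs0, hQs⟩
      classical
      have hcases : ∀ c : F, c ≠ 0 → s + c • t ∈ F ∙ a ∨ B (s + c • t) a = 0 := by
        intro c hc0
        by_contra h
        push Not at h
        refine hc0 ?_
        have := hc _ ((perp Q W).add_mem hs ((perp Q W).smul_mem c ht)) h.1 h.2
        rwa [Q_add Q, Q_smul Q, B_smul_right Q, hQs, hQt, hst, mul_zero, zero_add, zero_add, mul_one] at this
      have huniq1 : ∀ c d : F, s + c • t ∈ F ∙ a → s + d • t ∈ F ∙ a → c = d := by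
        intro c d h1 h2
        by_contra hne
        have h3 : (c - d) • t ∈ F ∙ a := by
          have := (F ∙ a).sub_mem h1 h2
          rwa [show s + c • t - (s + d • t) = (c - d) • t by module] at this
        have ht' : t ∈ F ∙ a := by
          simpa [smul_smul, inv_mul_cancel₀ (sub_ne_zero.2 hne)] using (F ∙ a).smul_mem (c - d)⁻¹ h3
        have hs' : s ∈ F ∙ a := by simpa using (F ∙ a).sub_mem h1 ((F ∙ a).smul_mem c ht')
        obtain ⟨α, rfl⟩ := Submodule.mem_span_singleton.1 hs'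
        obtain ⟨β, rfl⟩ := Submodule.mem_span_singleton.1 ht'
        have hα : α ≠ 0 := fun e => hs0 (by rw [e, zero_smul])
        rw [Q_smul Q, mul_eq_zero, mul_eq_zero, or_self] at hQs
        rw [B_smul_left Q, B_smul_right Q, B_self_of_singular Q (hQs.resolve_left hα)] at hst
        simp at hst
      have huniq2 : ∀ c d : F, B (s + c • t) a = 0 → B (s + d • t) a = 0 → c = d := by
        intro c d h1 h2
        by_contra hne
        rw [B_add_left Q, B_smul_left Q] at h1 h2
        have hta : B t a = 0 := by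
          have : (c - d) * B t a = 0 := by linear_combination h1 - h2
          exact (mul_eq_zero.1 this).resolve_left (sub_ne_zero.2 hne)
        have hsa : B s a = 0 := by rw [hta] at h1; linear_combination h1
        -- `s, t` span the plane
        have hspan : Submodule.span F (Set.range ![s, t]) = perp Q W := by
          refine Submodule.eq_of_le_of_finrank_le (Submodule.span_le.2 ?_) ?_
          · rintro _ ⟨i, rfl⟩; fin_cases i <;> assumption
          · have hli : LinearIndependent F ![s, t] := by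
              refine LinearIndependent.pair_iff.2 fun p r hpr => ?_
              have e1 := congrArg (B s) hpr
              have e2 := congrArg (B t) hpr
              simp only [B_add_right Q, B_smul_right Q, B_self_of_singular Q hQs, B_self_of_singular Q hQt,
                B_comm Q t s, hst, B_zero_right Q, mul_zero, mul_one, zero_add, add_zero] at e1 e2
              exact ⟨e2, e1⟩
            rw [finrank_span_eq_card hli, Fintype.card_fin]; omega
        have := (hspan.ge hy : y ∈ Submodule.span F (Set.range ![s, t]))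
        obtain ⟨p, r, rfl⟩ := mem_span_pair_iff_range.1 this
        rw [B_add_left Q, B_smul_left Q, B_smul_left Q, hsa, hta] at hya
        simp at hya
      have hcard : (Finset.univ.filter fun c : F => c ≠ 0).card ≤ 2 := by
        have hsub : (Finset.univ.filter fun c : F => c ≠ 0) ⊆
            (Finset.univ.filter fun c : F => s + c • t ∈ F ∙ a) ∪
              (Finset.univ.filter fun c : F => B (s + c • t) a = 0) := by
          intro c hc'
          simpa using hcases c (by simpa using hc')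
        refine (Finset.card_le_card hsub).trans ((Finset.card_union_le _ _).trans ?_)
        have c1 : (Finset.univ.filter fun c : F => s + c • t ∈ F ∙ a).card ≤ 1 :=
          Finset.card_le_one.2 fun x hx y hy => huniq1 x y (by simpa using hx) (by simpa using hy)
        have c2 : (Finset.univ.filter fun c : F => B (s + c • t) a = 0).card ≤ 1 :=
          Finset.card_le_one.2 fun x hx y hy => huniq2 x y (by simpa using hx) (by simpa using hy)
        omega
      rw [Finset.filter_ne', Finset.card_erase_of_mem (Finset.mem_univ _), Finset.card_univ] at hcard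
      omega
    · push Not at hiso'
      -- a vector outside two proper subspaces
      by_cases hyA : y ∈ F ∙ a
      · by_cases hza : B z a = 0
        · have hm : z + y ∉ F ∙ a := fun h => hzA (by simpa using (F ∙ a).sub_mem h hyA)
          exact ⟨z + y, (perp Q W).add_mem hz hy, hm, by rwa [B_add_left Q, hza, zero_add],
            hiso' _ ((perp Q W).add_mem hz hy) fun e => hm (by rw [e]; exact zero_mem _)⟩
        · exact ⟨z, hz, hzA, hza, hiso' z hz fun e => hzA (by rw [e]; exact zero_mem _)⟩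
      · exact ⟨y, hy, hyA, hya, hiso' y hy fun e => hyA (by rw [e]; exact zero_mem _)⟩
  obtain ⟨s, hs, t, ht, hQs, hQt, hst⟩ := exists_pair_in hQ hW (by omega)
  have h1 := hinv _ (refl_pair_mem hQ hW hn (W.add_mem hs (W.smul_mem (Q b) ht)) hb
    (by rw [Q_add Q, Q_smul Q, B_smul_right Q, hQs, hQt, hst]; ring) hQb) a haT
  rw [act_mul, act_refl Q hQb, map_sub, map_smul] at h1
  have hQh : Q (s + Q b • t) = Q b := by rw [Q_add Q, Q_smul Q, B_smul_right Q, hQs, hQt, hst]; ring
  have hfix : ∀ y ∈ perp Q W, act (refl Q (s + Q b • t)) y = y := fun y hy =>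
    act_refl_fix Q (by rwa [hQh]) (hy _ (W.add_mem hs (W.smul_mem _ ht)))
  rw [hfix a haT.1, hfix b hb, hN] at h1
  apply hbN
  have h2 := (F ∙ a).sub_mem (Submodule.mem_span_singleton_self a) h1
  rw [sub_sub_cancel] at h2
  have h3 := (F ∙ a).smul_mem ((Q b)⁻¹ * B b a)⁻¹ h2
  rwa [smul_smul, inv_mul_cancel₀ (mul_ne_zero (inv_ne_zero hQb) hba), one_smul] at h3

end Nondeg

section Wrap

variable [Fintype F] (hQ : (QuadraticMap.polarBilin Q).Nondegenerate) {W : Submodule F (ι → F)}
  (hW : NonDeg Q W)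
include hQ hW

omit [Fintype F] hQ in
theorem isNondegenerateOn_of_nonDeg : Cfsg.Geo.IsNondegenerateOn (QuadraticMap.polar Q) W := by
  intro w hw hw0
  obtain ⟨y, hy, hne⟩ : ∃ y ∈ W, B w y ≠ 0 := by
    by_contra h
    push Not at h
    exact hw0 (hW w hw h)
  exact ⟨⟨y, hy, by rwa [B_comm Q]⟩, y, hy, hne⟩

omit [Fintype F] hQ hW in
theorem isPlusTypeOn_of_singular {U : Submodule F (ι → F)} (hU : finrank F U = 2) {s : ι → F} (hs : s ∈ U)
    (hs0 : s ≠ 0) (hQs : Q s = 0) : Cfsg.Geo.IsPlusTypeOn Q U := by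
  refine ⟨F ∙ s, (Submodule.span_singleton_le_iff_mem _ _).2 hs, fun y hy => ?_, ?_⟩
  · obtain ⟨c, rfl⟩ := Submodule.mem_span_singleton.1 hy
    rw [Q_smul Q, hQs, mul_zero]
  · rw [finrank_span_singleton hs0, hU]

/-- Maximality of the stabiliser of a non-degenerate subspace, both summands allowed. -/
theorem nondeg_maximal_any (hn : 11 ≤ Fintype.card ι) (h0 : W ≠ ⊥) (h1 : W ≠ ⊤)
    (hex : ¬ (Fintype.card F ≤ 3 ∧ ∃ U : Submodule F (ι → F), finrank F U = 2 ∧
      Cfsg.Geo.IsNondegenerateOn (QuadraticMap.polar Q) U ∧ Cfsg.Geo.IsPlusTypeOn Q U ∧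
      (U = W ∨ U = perp Q W)))
    (hiso : 2 * finrank F W = Fintype.card ι → ∀ g ∈ isometryGroup F Q, W.map (act g) ≠ perp Q W) :
    Cfsg.Geo.IsMaximalIn (Cfsg.Geo.omegaGL Q) (Cfsg.Geo.subspaceStabilizer W ⊓ Cfsg.Geo.omegaGL Q) := by
  have hk : finrank F W ≤ Fintype.card ι := (Submodule.finrank_le W).trans_eq (Module.finrank_pi F)
  have hp := finrank_perp hQ W
  have hW' := nonDeg_perp hQ hW
  have hperp0 : perp Q W ≠ ⊥ := fun e => h1 (by
    have := sup_perp hQ hW; rwa [e, sup_bot_eq] at this)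
  rcases Nat.lt_or_ge (finrank F W) (finrank F (perp Q W)) with hlt | hge
  swap
  · refine nondeg_maximal hQ hW (by omega) hperp0 hge ?_ fun g hg e => ?_
    · rintro ⟨hq, h2, s, hs, hs0, hQs⟩
      exact hex ⟨hq, _, h2, isNondegenerateOn_of_nonDeg hW',
        isPlusTypeOn_of_singular h2 hs hs0 hQs, Or.inr rfl⟩
    · have := finrank_map_act g W
      rw [e] at this
      exact hiso (by omega) g hg e
  · rw [← stab_inf_omega_perp hQ hW]
    refine nondeg_maximal hQ hW' (by omega) (by rwa [perp_perp hQ]) (by rw [perp_perp hQ]; omega) ?_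
      fun g hg e => ?_
    · rw [perp_perp hQ]
      rintro ⟨hq, h2, s, hs, hs0, hQs⟩
      exact hex ⟨hq, _, h2, isNondegenerateOn_of_nonDeg hW,
        isPlusTypeOn_of_singular h2 hs hs0 hQs, Or.inl rfl⟩
    · rw [perp_perp hQ] at e
      have := finrank_map_act g (perp Q W)
      rw [e] at this
      omega

end Wrap

section Similitude

variable [Finite F]

theorem exists_neg_similitude {W : Submodule F (ι → F)} (hW : NonDeg Q W) (hev : Even (finrank F W)) :
    ∃ m : (ι → F) →ₗ[F] (ι → F), ∀ w ∈ W, m w ∈ W ∧ Q (m w) = -Q w := by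
  haveI := Fintype.ofFinite F
  by_cases h2 : (2 : F) = 0
  · exact ⟨LinearMap.id, fun w hw => ⟨hw, by
      show Q w = -Q w
      linear_combination Q w * h2⟩⟩
  suffices H : ∀ (k : ℕ) (W : Submodule F (ι → F)), NonDeg Q W → finrank F W = 2 * k →
      ∃ m : (ι → F) →ₗ[F] (ι → F), ∀ w ∈ W, m w ∈ W ∧ Q (m w) = -Q w by
    obtain ⟨k, hk⟩ := hev
    exact H k W hW (by omega)
  intro k
  induction k with
  | zero =>
    intro W _ hk
    have hbot : W = ⊥ := Submodule.finrank_eq_zero.1 hk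
    subst hbot
    exact ⟨0, fun w hw => by rw [(Submodule.mem_bot F).1 hw]; simp⟩
  | succ k ih =>
    intro W hW hk
    have split : ∀ W : Submodule F (ι → F), NonDeg Q W → 1 ≤ finrank F W → ∃ a ∈ W, Q a ≠ 0 ∧
        NonDeg Q (W ⊓ perp Q (F ∙ a)) ∧ finrank F ↥(W ⊓ perp Q (F ∙ a)) + 1 = finrank F W ∧
        ∀ w ∈ W, w - (B a w / (2 * Q a)) • a ∈ W ⊓ perp Q (F ∙ a) := by
      intro W hW h1
      obtain ⟨a, ha, hQa⟩ : ∃ a ∈ W, Q a ≠ 0 := by
        by_contra hc
        push Not at hc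
        obtain ⟨x, hx, hx0⟩ := Submodule.exists_mem_ne_zero_of_ne_bot (p := W) (fun e => by
          rw [e, finrank_bot] at h1; omega)
        exact hx0 (hW x hx fun y hy => B_eq_zero_of_singular hc hx hy)
      have hproj : ∀ w ∈ W, w - (B a w / (2 * Q a)) • a ∈ W ⊓ perp Q (F ∙ a) := fun w hw =>
        ⟨W.sub_mem hw (W.smul_mem _ ha), (mem_perp_span Q).2 fun y hy => by
          rw [Set.mem_singleton_iff.1 hy, B_sub_right Q, B_smul_right Q, B_self Q,
            div_mul_cancel₀ _ (mul_ne_zero h2 hQa), sub_self]⟩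
      have hanot : a ∉ W ⊓ perp Q (F ∙ a) := fun h => by
        have := orth h.2 (Submodule.mem_span_singleton_self a)
        rw [B_self Q] at this
        exact mul_ne_zero h2 hQa this
      have hsup : W ⊓ perp Q (F ∙ a) ⊔ F ∙ a = W := le_antisymm
        (sup_le inf_le_left ((Submodule.span_singleton_le_iff_mem _ _).2 ha)) fun w hw =>
        Submodule.mem_sup.2 ⟨_, hproj w hw, _, Submodule.smul_mem _ (B a w / (2 * Q a))
          (Submodule.mem_span_singleton_self a), sub_add_cancel _ _⟩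
      refine ⟨a, ha, hQa, fun x hx h => hW x hx.1 fun y hy => ?_, ?_, hproj⟩
      · have := h _ (hproj y hy)
        rwa [B_sub_right Q, B_smul_right Q, B_comm Q x a,
          orth hx.2 (Submodule.mem_span_singleton_self a), mul_zero, sub_zero] at this
      · conv_rhs => rw [← hsup]
        rw [Submodule.finrank_sup_span_singleton hanot]
    obtain ⟨a, ha, hQa, hW₁, hd₁, hp₁⟩ := split W hW (by omega)
    obtain ⟨b, hb, hQb, hW₂, hd₂, hp₂⟩ := split _ hW₁ (by omega)
    obtain ⟨m, hm⟩ := ih _ hW₂ (by omega)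
    have hab : B a b = 0 := orth hb.2 (Submodule.mem_span_singleton_self a)
    obtain ⟨x, y, hxy⟩ := FiniteField.exists_root_sum_quadratic
      (f := Polynomial.C (Q a) * Polynomial.X ^ 2) (g := Polynomial.C (Q b) * Polynomial.X ^ 2 + Polynomial.C (Q a))
      (Polynomial.degree_C_mul_X_pow 2 hQa)
      (by rw [Polynomial.degree_add_C (by rw [Polynomial.degree_C_mul_X_pow 2 hQb]; decide),
        Polynomial.degree_C_mul_X_pow 2 hQb]; rfl)
      (FiniteField.odd_card_of_char_ne_two fun hc => h2 (by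
        haveI := ringChar.of_eq hc
        exact CharTwo.two_eq_zero))
    simp only [Polynomial.eval_mul, Polynomial.eval_C, Polynomial.eval_pow, Polynomial.eval_X,
      Polynomial.eval_add] at hxy
    let α : (ι → F) →ₗ[F] F := (2 * Q a)⁻¹ • QuadraticMap.polarBilin Q a
    let β : (ι → F) →ₗ[F] F := (2 * Q b)⁻¹ • QuadraticMap.polarBilin Q b
    let r : (ι → F) →ₗ[F] (ι → F) := LinearMap.id - α.smulRight a - β.smulRight b
    set a' := x • a + y • b with ha'
    set b' := x • b - (y * Q b / Q a) • a with hb'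
    refine ⟨α.smulRight a' + β.smulRight b' + m ∘ₗ r, fun w hw => ?_⟩
    have hα : α w = B a w / (2 * Q a) := by simp [α, div_eq_inv_mul]
    have hβ : β w = B b w / (2 * Q b) := by simp [β, div_eq_inv_mul]
    have h1 := hp₁ w hw
    have h2' := hp₂ _ h1
    have hβ' : B b (w - (B a w / (2 * Q a)) • a) / (2 * Q b) = B b w / (2 * Q b) := by
      rw [B_sub_right Q, B_smul_right Q, B_comm Q b a, hab, mul_zero, sub_zero]
    rw [hβ', ← hα, ← hβ] at h2'
    have hr : r w = w - α w • a - β w • b := by simp [r]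
    rw [← hr] at h2'
    obtain ⟨hmW, hmQ⟩ := hm _ h2'
    have ha'W : a' ∈ W := W.add_mem (W.smul_mem _ ha) (W.smul_mem _ hb.1)
    have hb'W : b' ∈ W := W.sub_mem (W.smul_mem _ hb.1) (W.smul_mem _ ha)
    simp only [LinearMap.add_apply, LinearMap.smulRight_apply, LinearMap.comp_apply]
    refine ⟨W.add_mem (W.add_mem (W.smul_mem _ ha'W) (W.smul_mem _ hb'W)) hmW.1.1, ?_⟩
    have e1 : B a (m (r w)) = 0 := orth hmW.1.2 (Submodule.mem_span_singleton_self a)
    have e2 : B b (m (r w)) = 0 := orth hmW.2 (Submodule.mem_span_singleton_self b)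
    have e3 : B a (r w) = 0 := orth h2'.1.2 (Submodule.mem_span_singleton_self a)
    have e4 : B b (r w) = 0 := orth h2'.2 (Submodule.mem_span_singleton_self b)
    have ew : w = α w • a + β w • b + r w := by rw [hr]; abel
    conv_rhs => rw [ew]
    simp only [ha', hb', Q_add Q, Q_sub Q, Q_smul Q, B_add_left Q, B_add_right Q, B_sub_left Q,
      B_sub_right Q, B_smul_left Q, B_smul_right Q, B_self Q, hab, B_comm Q b a, e1, e2, e3, e4, hmQ]
    field_simp
    linear_combination (α w ^ 2 * Q a + β w ^ 2 * Q b) * hxy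

/-- A space split into two isometric halves of even dimension is of plus type. -/
theorem isPlusType_of_map_perp {W : Submodule F (ι → F)} (hW : NonDeg Q W) (hev : Even (finrank F W))
    (hd : 2 * finrank F W = Fintype.card ι) {g : GL ι F} (hg : g ∈ isometryGroup F Q)
    (h : W.map (act g) = perp Q W) : Cfsg.Geo.IsPlusTypeOn Q ⊤ := by
  obtain ⟨m, hm⟩ := exists_neg_similitude hW hev
  let f : W →ₗ[F] (ι → F) := (LinearMap.id + act g ∘ₗ m).domRestrict W
  have hmem : ∀ w ∈ W, act g (m w) ∈ perp Q W := fun w hw => h ▸ Submodule.mem_map_of_mem (hm w hw).1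
  refine ⟨LinearMap.range f, le_top, ?_, ?_⟩
  · rintro _ ⟨⟨w, hw⟩, rfl⟩
    show Q (w + act g (m w)) = 0
    rw [Q_add Q, Q_act hg, (hm w hw).2, orth (hmem w hw) hw]; ring
  · rw [LinearMap.finrank_range_of_inj (f := f), finrank_top, Module.finrank_pi, hd]
    rw [injective_iff_map_eq_zero]
    rintro ⟨w, hw⟩ he
    have he' : w + act g (m w) = 0 := he
    refine Subtype.ext ((Submodule.eq_bot_iff _).1 (inf_perp hW) w ⟨hw, ?_⟩)
    rw [eq_neg_of_add_eq_zero_left he']
    exact (perp Q W).neg_mem (hmem w hw)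

end Similitude

section Point

variable [Fintype F] (hQ : (QuadraticMap.polarBilin Q).Nondegenerate)
include hQ

/-- In characteristic two the stabiliser of a nonsingular point is maximal. -/
theorem point_maximal (h2 : (2 : F) = 0) (hn : 9 ≤ Fintype.card ι) {v : ι → F} (hv : Q v ≠ 0) :
    Cfsg.Geo.IsMaximalIn (Cfsg.Geo.omegaGL Q)
      (Cfsg.Geo.subspaceStabilizer (F ∙ v) ⊓ Cfsg.Geo.omegaGL Q) := by
  have hv0 : v ≠ 0 := fun e => hv (by rw [e, map_zero])
  have hvv : B v v = 0 := by rw [B_self Q, h2, zero_mul]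
  obtain ⟨v', hv'⟩ : ∃ v', B v v' = 1 := by
    obtain ⟨y, hy⟩ := exists_B_ne_zero hQ hv0
    exact ⟨(B v y)⁻¹ • y, by rw [B_smul_right Q, inv_mul_cancel₀ hy]⟩
  set P := Submodule.span F (Set.range ![v, v']) with hP
  have hvP : v ∈ P := Submodule.subset_span ⟨0, rfl⟩
  have hv'P : v' ∈ P := Submodule.subset_span ⟨1, rfl⟩
  have hPnd : NonDeg Q P := by
    intro x hx h
    obtain ⟨p, r, rfl⟩ := mem_span_pair_iff_range.1 hx
    have e1 := h v hvP
    have e2 := h v' hv'P
    simp only [B_add_left Q, B_smul_left Q, hvv, B_comm Q v' v, hv', B_self Q v', h2, zero_mul, mul_zero,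
      mul_one, zero_add, add_zero] at e1 e2
    rw [e1, e2]; simp
  set W := perp Q P with hWdef
  have hW : NonDeg Q W := nonDeg_perp hQ hPnd
  have hWP : perp Q W = P := perp_perp hQ P
  have hdimW : 6 ≤ finrank F W := by
    have := finrank_span_list_le ![v, v']
    rw [← hP] at this
    rw [hWdef, finrank_perp hQ]; omega
  have hfix : ∀ g ∈ Cfsg.Geo.omegaGL Q, act g v ∈ F ∙ v → act g v = v := by
    intro g hg h
    obtain ⟨c, hc⟩ := Submodule.mem_span_singleton.1 h
    have := Q_act (omega_le_iso hg) v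
    rw [← hc, Q_smul Q] at this
    have h1 : (c - 1) * (c - 1) = 0 := by
      have h0 : c * c = 1 := mul_right_cancel₀ hv (by linear_combination this)
      linear_combination h0 + (1 - c) * h2
    rw [← hc, sub_eq_zero.1 (mul_self_eq_zero.1 h1), one_smul]
  refine isMaximalIn_inf ?_ fun M hM hMK hout => ?_
  · obtain ⟨s, hs, t, ht, hQs, -, hst⟩ := exists_pair_in hQ hW (by omega)
    have hsv' : B s v' = 0 := (B_comm Q s v').trans (orth hs hv'P)
    refine ⟨sg Q s v', sg_mem_omega hQ (by omega) s v', fun h => ?_⟩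
    have h1 := hfix _ (sg_mem_omega hQ (by omega) s v')
      ((mem_subspaceStabilizer.1 h v).1 (Submodule.mem_span_singleton_self v))
    rw [act_sg Q hQs hsv', B_comm Q s v, orth hs hvP, B_comm Q v' v, hv'] at h1
    have h3 : B t s = 0 := by
      have := congrArg (B t) h1
      simp only [B_sub_right Q, B_add_right Q, B_smul_right Q] at this
      linear_combination -this
    rw [B_comm Q, hst] at h3
    exact one_ne_zero h3
  obtain ⟨g, hgM, hgS⟩ := hout
  have hgI := omega_le_iso (hMK hgM)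
  have hn5 : 5 ≤ Fintype.card ι := by omega
  have hE : ∀ u w, B u v = 0 → B w v = 0 → sg Q u w ∈ M := by
    intro u w hu hw
    by_cases h : Q u = 0 ∧ B u w = 0
    · refine hM ⟨mem_subspaceStabilizer_of_le fun y hy => ?_, sg_mem_omega hQ hn5 u w⟩
      obtain ⟨c, rfl⟩ := Submodule.mem_span_singleton.1 hy
      rw [map_smul, act_sg_fix Q h.1 h.2 hu hw]
      exact Submodule.smul_mem _ _ (Submodule.mem_span_singleton_self v)
    · rw [sg_of_not Q h]; exact one_mem _
  have hWv : ∀ w ∈ W, B w v = 0 := fun w hw => (B_comm Q w v).trans (orth hw hvP)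
  have hS : ∀ u ∈ W, ∀ w ∈ W, sg Q u w ∈ M := fun u hu w hw => hE u w (hWv u hu) (hWv w hw)
  -- a singular vector of `v⊥` moved out of `v⊥`
  obtain ⟨e, hev, hQe, hge⟩ : ∃ e, B e v = 0 ∧ Q e = 0 ∧ B (act g e) v ≠ 0 := by
    by_contra hc
    push Not at hc
    have hWker : ∀ w ∈ W, B (act g w) v = 0 := by
      intro w hw
      have := le_of_singular_le hQ hW (by omega)
        (N := LinearMap.ker ((QuadraticMap.polarBilin Q v) ∘ₗ act g))
        (fun e he hQe => (B_comm Q v (act g e)).trans (hc e (hWv e he) hQe)) hw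
      exact (B_comm Q (act g w) v).trans this
    obtain ⟨s, hs, t, ht, hQs, hQt, hst⟩ := exists_pair_in hQ hW (by omega)
    have hgv : B (act g v) v = 0 := by
      have h1 := hc (v + s + Q v • t)
        (by rw [B_add_left Q, B_add_left Q, B_smul_left Q, hvv, hWv s hs, hWv t ht]; ring)
        (by rw [Q_add Q, Q_add Q, B_add_left Q, Q_smul Q, B_smul_right Q, B_smul_right Q, hQs, hQt, hst,
              B_comm Q v s, hWv s hs, B_comm Q v t, hWv t ht]
            linear_combination Q v * h2)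
      rwa [map_add, map_add, map_smul, B_add_left Q, B_add_left Q, B_smul_left Q, hWker s hs, hWker t ht,
        mul_zero, add_zero, add_zero] at h1
    apply hgS
    refine mem_subspaceStabilizer_of_le fun y hy => ?_
    obtain ⟨c, rfl⟩ := Submodule.mem_span_singleton.1 hy
    rw [map_smul]
    refine Submodule.smul_mem _ _ ?_
    have hperp : F ∙ v = perp Q (perp Q (F ∙ v)) := (perp_perp hQ _).symm
    rw [hperp]
    intro x hx
    have hxv : B v x = 0 := orth hx (Submodule.mem_span_singleton_self v)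
    obtain ⟨p, hp, w, hw, hxe⟩ := exists_split hQ hPnd x
    obtain ⟨i, j, rfl⟩ := mem_span_pair_iff_range.1 hp
    have hj : j = 0 := by
      rw [hxe, B_add_right Q, B_add_right Q, B_smul_right Q, B_smul_right Q, hvv, hv', orth hw hvP] at hxv
      simpa using hxv
    subst hj
    show B x (act g v) = 0
    have hgw : ∀ y, B v y = 0 → B (act g y) v = 0 := by
      intro y hy
      obtain ⟨p', hp', w', hw', hye⟩ := exists_split hQ hPnd y
      obtain ⟨i', j', rfl⟩ := mem_span_pair_iff_range.1 hp'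
      rw [hye, B_add_right Q, B_add_right Q, B_smul_right Q, B_smul_right Q, hvv, hv', orth hw' hvP] at hy
      have hj' : j' = 0 := by simpa using hy
      subst hj'
      rw [hye, map_add, map_add, map_smul, map_smul, B_add_left Q, B_add_left Q, B_smul_left Q,
        B_smul_left Q, hgv, hWker w' hw']
      ring
    -- `g` maps `v⊥` onto itself
    have hle : (perp Q (F ∙ v)).map (act g) ≤ perp Q (F ∙ v) := by
      rintro _ ⟨y, hy, rfl⟩
      refine (mem_perp_span Q).2 fun z hz => ?_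
      rw [Set.mem_singleton_iff.1 hz, B_comm Q]
      exact hgw y (orth hy (Submodule.mem_span_singleton_self v))
    have heq := Submodule.eq_of_le_of_finrank_eq hle (finrank_map_act g _)
    obtain ⟨y, hy, rfl⟩ := (heq.ge hx : x ∈ (perp Q (F ∙ v)).map (act g))
    rw [B_act hgI, B_comm Q]
    exact orth hy (Submodule.mem_span_singleton_self v)
  set x := act g e with hxdef
  have hQx : Q x = 0 := by rw [hxdef, Q_act hgI, hQe]
  have hxne : x ∉ F ∙ v := fun h => by
    obtain ⟨c, hc⟩ := Submodule.mem_span_singleton.1 h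
    rw [← hc, B_smul_left Q, hvv, mul_zero] at hge
    exact hge rfl
  obtain ⟨b₀, hb₀, hbE⟩ : ∃ b₀, (B e b₀ = 0 ∧ B b₀ v = 0) ∧
      act g b₀ ∉ Submodule.span F (Set.range ![x, v]) := by
    by_contra hc
    push Not at hc
    have hle : (perp Q (Submodule.span F (Set.range ![e, v]))).map (act g) ≤
        Submodule.span F (Set.range ![x, v]) := by
      rintro _ ⟨y, hy, rfl⟩
      rw [SetLike.mem_coe, mem_perp_span] at hy
      exact hc y ⟨hy e ⟨0, rfl⟩, (B_comm Q y v).trans (hy v ⟨1, rfl⟩)⟩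
    have h1 := Submodule.finrank_mono hle
    have h3 := finrank_span_list_le ![e, v]
    have h4 := finrank_span_list_le ![x, v]
    rw [finrank_map_act, finrank_perp hQ] at h1
    omega
  set b := act g b₀ with hbdef
  have hxb : B x b = 0 := by rw [hxdef, hbdef, B_act hgI, hb₀.1]
  have hr : sg Q x b ∈ M := by
    have := mul_mem (mul_mem hgM (hE e b₀ hev hb₀.2)) (inv_mem hgM)
    rwa [conj_sg Q hgI] at this
  obtain ⟨t, ht, hbt⟩ := exists_perp_one hQ hbE
  rw [mem_perp_span] at ht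
  have hxt : B x t = 0 := ht x ⟨0, rfl⟩
  have htv : B t v = 0 := (B_comm Q t v).trans (ht v ⟨1, rfl⟩)
  have hP3 := finrank_span_list_le ![x, b, t]
  obtain ⟨u, hu, huP, hu0, hQu⟩ := exists_singular_in hQ (W := W) (P := Submodule.span F (Set.range ![x, b, t]))
    (E := ⊥) (by rw [finrank_bot]; omega)
  rw [Submodule.mem_bot] at hu0
  have hut : B u t = 0 := (B_comm Q u t).trans (huP t (Submodule.subset_span ⟨2, rfl⟩))
  have hxu : B x u = 0 := huP x (Submodule.subset_span ⟨0, rfl⟩)
  have hbu : B b u = 0 := huP b (Submodule.subset_span ⟨1, rfl⟩)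
  have key := sg_sub_mem hQ hQx hxb hr hQu hut (hE u t (hWv u hu) htv) hxu hbu
  rw [hxt, hbt] at key
  obtain ⟨x₁, hx₁, x₂, hx₂, hxe⟩ := exists_split hQ hW x
  have hux1 : B u x₁ = 0 := by
    have := hxu
    rw [hxe, B_add_left Q, B_comm Q x₂, orth hx₂ hu, add_zero] at this
    rwa [B_comm Q]
  have hmem : -x₂ ∈ transferSet Q W M := by
    refine mem_transferSet hQ hW hdimW hS hu hu0 hQu ((perp Q W).neg_mem hx₂) ?_
    rw [show (0 : F) • b - (1 + Q b * 0) • x = -x₁ + -x₂ by rw [hxe]; module,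
      ← sg_add Q hQu (by rw [B_neg_right Q, hux1, neg_zero])
        (by rw [B_neg_right Q, orth hx₂ hu, neg_zero])] at key
    exact (mul_mem_cancel_left (hS u hu _ (W.neg_mem hx₁))).1 key
  have hvT : v ∈ transferSet Q W M := ⟨by rw [hWP]; exact hvP, fun u hu _ => hE u v (hWv u hu) hvv⟩
  refine omega_le_of_transfer hQ hW hn5 hdimW hS ?_
  rw [hWP]
  have hx2P : x₂ ∈ P := hWP ▸ hx₂
  obtain ⟨i, j, hij⟩ := mem_span_pair_iff_range.1 hx2P
  have hj : j ≠ 0 := by
    intro e0
    apply hge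
    rw [hxe, B_add_left Q, hWv x₁ hx₁, ← hij, e0, B_add_left Q, B_smul_left Q, B_smul_left Q, hvv]
    ring
  refine Submodule.span_le.2 ?_
  rintro _ ⟨idx, rfl⟩
  fin_cases idx
  · exact Submodule.subset_span hvT
  · show v' ∈ Submodule.span F (transferSet Q W M)
    have : v' = j⁻¹ • (-(-x₂) - i • v) := by
      rw [neg_neg, ← hij, show i • v + j • v' - i • v = j • v' by module, smul_smul, inv_mul_cancel₀ hj,
        one_smul]
    rw [this]
    exact Submodule.smul_mem _ _ (Submodule.sub_mem _ (Submodule.neg_mem _ (Submodule.subset_span hmem))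
      (Submodule.smul_mem _ _ (Submodule.subset_span hvT)))

end Point

end Cfsg.Agent.MaxCl.Orth
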