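/-
Subgroups strictly between a geometric stabiliser and `omegaGL`: planes of plus type over tiny fields, totally
singular subspaces of dimension one less than maximal, and pairs of complementary maximal totally singular subspaces.
-/
import Cfsg.Agent.Lib.MaxCl.OrthNondeg
import Cfsg.Agent.Lib.QForm.MaximalSingular

set_option autoImplicit false

namespace Cfsg.Agent.MaxCl.Orth

open scoped MatrixGroups Matrix
open Module (finrank)

variable {ι : Type} [Fintype ι] [DecidableEq ι] {F : Type*} [Field F]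

theorem exists_between {T S K : Subgroup (GL ι F)} (hle : ∀ g ∈ T, g ∈ K → g ∈ S)
    (hin : ∃ g ∈ K, g ∈ S ∧ g ∉ T) (hout : ∃ g ∈ K, g ∉ S) :
    ∃ L : Subgroup (GL ι F), T ⊓ K < L ∧ L < K := by
  obtain ⟨a, haK, haS, haT⟩ := hin
  obtain ⟨b, hbK, hbS⟩ := hout
  exact ⟨S ⊓ K, lt_of_le_of_ne (fun g hg => ⟨hle g hg.1 hg.2, hg.2⟩) fun e => haT (e.ge ⟨haS, haK⟩).1,
    lt_of_le_of_ne inf_le_right fun e => hbS (e.ge hbK).1⟩

theorem mem_stabilizing_of_forward [Finite F] {X : Set (ι → F)} {g : GL ι F} (h : ∀ x ∈ X, act g x ∈ X) :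
    g ∈ Cfsg.stabilizing (glToMat ι F) X := by
  have hf : X.Finite := Set.toFinite X
  have heq : act g '' X = X :=
    Set.eq_of_subset_of_ncard_le (Set.image_subset_iff.2 h)
      (Set.ncard_image_of_injective X (act_injective g)).ge hf
  intro x
  show x ∈ X ↔ (g : Matrix ι ι F) *ᵥ x ∈ X
  rw [← act_apply]
  refine ⟨h x, fun hx => ?_⟩
  rw [← heq] at hx
  obtain ⟨y, hy, e⟩ := hx
  exact act_injective g e ▸ hy

theorem mem_stabilizing_iff {X : Set (ι → F)} {g : GL ι F} :
    g ∈ Cfsg.stabilizing (glToMat ι F) X ↔ ∀ x, x ∈ X ↔ act g x ∈ X := by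
  simp only [act_apply]; exact Iff.rfl

variable {Q : QuadraticForm F (ι → F)}

set_option quotPrecheck false in
local notation "B" => QuadraticMap.polar (⇑Q)

variable [Fintype F] (hQ : (QuadraticMap.polarBilin Q).Nondegenerate)
include hQ

/-- A plus-type plane over a field with at most three elements. -/
theorem plane_between (hn : 5 ≤ Fintype.card ι) (hq : Fintype.card F ≤ 3) {W : Submodule F (ι → F)}
    (hW : NonDeg Q W) (hd : finrank F W = 2) (hplus : Cfsg.Geo.IsPlusTypeOn Q W) :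
    ∃ K : Subgroup (GL ι F),
      Cfsg.Geo.subspaceStabilizer W ⊓ Cfsg.Geo.omegaGL Q < K ∧ K < Cfsg.Geo.omegaGL Q := by
  obtain ⟨U, hUW, hU, hUd⟩ := hplus
  obtain ⟨s, hsU, hs0⟩ := Submodule.exists_mem_ne_zero_of_ne_bot (p := U) (fun e => by
    rw [e, finrank_bot, hd] at hUd; omega)
  have hQs : Q s = 0 := hU s hsU
  have hs : s ∈ W := hUW hsU
  obtain ⟨z, hz, -, hsz⟩ := exists_one_in hQ hW (P := ⊥) bot_le hs (by simpa using hs0)
  obtain ⟨t, ht, hQt, hst⟩ := exists_partner Q hQs hs hz (by rw [hsz]; exact one_ne_zero)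
  have hts : B t s = 1 := (B_comm Q t s).trans hst
  have hQst : Q (s + t) = 1 := by rw [Q_add Q, hQs, hQt, hst]; ring
  have hst0 : s + t ≠ 0 := fun e => one_ne_zero (α := F) (by rw [← hQst, e, map_zero])
  obtain ⟨u, hu, hu0, hQu⟩ := exists_singular Q (D := perp Q W) (by rw [finrank_perp hQ, hd]; omega)
  have hspan : Submodule.span F (Set.range ![s, t]) = W := by
    refine Submodule.eq_of_le_of_finrank_le (Submodule.span_le.2 ?_) ?_
    · rintro _ ⟨i, rfl⟩; fin_cases i <;> assumption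
    · have hli : LinearIndependent F ![s, t] := by
        refine LinearIndependent.pair_iff.2 fun p r hpr => ?_
        have e1 := congrArg (B s) hpr
        have e2 := congrArg (B t) hpr
        simp only [B_add_right Q, B_smul_right Q, B_self_of_singular Q hQs, B_self_of_singular Q hQt,
          hts, hst, B_zero_right Q, mul_zero, mul_one, zero_add, add_zero] at e1 e2
        exact ⟨e2, e1⟩
      rw [finrank_span_eq_card hli, Fintype.card_fin, hd]
  have hsu : B u s = 0 := (B_comm Q u s).trans (orth hu hs)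
  have htu : B u t = 0 := (B_comm Q u t).trans (orth hu ht)
  refine exists_between (S := Cfsg.Geo.subspaceStabilizer (F ∙ (s + t))) (fun g hg hgΩ => ?_) ?_ ?_
  · refine mem_subspaceStabilizer_of_le fun y hy => ?_
    obtain ⟨c, rfl⟩ := Submodule.mem_span_singleton.1 hy
    rw [map_smul]
    refine Submodule.smul_mem _ _ ?_
    have hgW : act g (s + t) ∈ Submodule.span F (Set.range ![s, t]) := by
      rw [hspan]; exact (mem_subspaceStabilizer.1 hg _).1 (W.add_mem hs ht)
    obtain ⟨α, β, he⟩ := mem_span_pair_iff_range.1 hgW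
    have hab : α * β = 1 := by
      have := Q_act (omega_le_iso hgΩ) (s + t)
      rw [← he, hQst, Q_add Q, Q_smul Q, Q_smul Q, B_smul_left Q, B_smul_right Q, hQs, hQt, hst] at this
      linear_combination this
    have hα : α ≠ 0 := fun e => one_ne_zero (α := F) (by rw [← hab, e, zero_mul])
    have hα2 : α * α = 1 := by
      have h1 := FiniteField.pow_card_sub_one_eq_one α hα
      have h2 : Fintype.card F = 2 ∨ Fintype.card F = 3 := by
        have := Fintype.one_lt_card (α := F); omega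
      rcases h2 with e | e <;> rw [e] at h1
      · rw [pow_one] at h1; rw [h1, one_mul]
      · rwa [← sq]
    have hβ : β = α := mul_left_cancel₀ hα (hab.trans hα2.symm)
    exact Submodule.mem_span_singleton.2 ⟨α, by rw [← he, hβ, smul_add]⟩
  · have hw : B u (s - t) = 0 := by rw [B_sub_right Q, hsu, htu, sub_zero]
    refine ⟨sg Q u (s - t), sg_mem_omega hQ hn _ _, mem_subspaceStabilizer_of_le fun y hy => ?_, fun h => ?_⟩
    · obtain ⟨c, rfl⟩ := Submodule.mem_span_singleton.1 hy
      rw [map_smul, act_sg_fix Q hQu hw (by rw [B_add_right Q, hsu, htu, add_zero]) (by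
        rw [B_sub_left Q, B_add_right Q, B_add_right Q, B_self_of_singular Q hQs,
          B_self_of_singular Q hQt, hst, hts]; ring)]
      exact Submodule.smul_mem _ _ (Submodule.mem_span_singleton_self _)
    · have h1 := (mem_subspaceStabilizer.1 h s).1 hs
      rw [act_sg Q hQu hw, hsu, B_sub_left Q, B_self_of_singular Q hQs, hts] at h1
      simp only [zero_smul, add_zero, mul_zero, zero_sub, neg_smul, one_smul, sub_neg_eq_add] at h1
      exact hu0 ((Submodule.eq_bot_iff _).1 (inf_perp hW) u ⟨by simpa using W.sub_mem h1 hs, hu⟩)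
  · refine ⟨sg Q u s, sg_mem_omega hQ hn _ _, fun h => ?_⟩
    have h1 := (mem_subspaceStabilizer.1 h _).1 (Submodule.mem_span_singleton_self (s + t))
    rw [act_sg Q hQu hsu, B_add_right Q, B_add_right Q, hsu, htu, B_self_of_singular Q hQs, hst] at h1
    simp only [add_zero, zero_smul, mul_zero, zero_add, one_smul] at h1
    have h2 := (F ∙ (s + t)).sub_mem (Submodule.mem_span_singleton_self (s + t)) h1
    rw [sub_sub_cancel] at h2
    obtain ⟨c, hc⟩ := Submodule.mem_span_singleton.1 h2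
    exact hu0 ((Submodule.eq_bot_iff _).1 (inf_perp hW) u ⟨hc ▸ W.smul_mem c (W.add_mem hs ht), hu⟩)

variable {m : ℕ} (hm : Fintype.card ι = 2 * m)
include hm

omit [Fintype F] in
theorem card_eq_finrank : finrank F (ι → F) = 2 * m := by rw [Module.finrank_pi, hm]

omit [Fintype F] in
/-- The family parity is preserved by the derived group. -/
theorem family_parity {U : Submodule F (ι → F)} (hU : ∀ x ∈ U, Q x = 0) (hUm : finrank F U = m)
    {g : GL ι F} (hg : g ∈ Cfsg.Geo.omegaGL Q) :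
    finrank F ↥(U.map (act g) ⊓ U) % 2 = m % 2 := by
  let d : GL ι F → ℕ := fun g => finrank F ↥(U.map (act g) ⊓ U)
  have hTS : ∀ g ∈ isometryGroup F Q, QForm.TotallySingular Q (U.map (act g)) := by
    rintro g hg _ ⟨x, hx, rfl⟩
    rw [Q_act hg, hU x hx]
  have hcomp : ∀ g h : GL ι F, g ∈ isometryGroup F Q → h ∈ isometryGroup F Q →
      (d (g * h) + d g + d h) % 2 = m % 2 := by
    intro g h hg hh
    have key := QForm.finrank_inf_parity hQ (card_eq_finrank hQ hm) (hTS (g * h) (mul_mem hg hh))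
      ((finrank_map_act _ U).trans hUm) (hTS g hg) ((finrank_map_act _ U).trans hUm) hU hUm
    have e : U.map (act (g * h)) ⊓ U.map (act g) = (U.map (act h) ⊓ U).map (act g) := by
      rw [Submodule.map_inf _ (act_injective g), ← Submodule.map_comp]
      congr 2
      exact LinearMap.ext fun x => act_mul g h x
    rw [e, finrank_map_act] at key
    show (finrank F ↥(U.map (act (g * h)) ⊓ U) + finrank F ↥(U.map (act g) ⊓ U) +
      finrank F ↥(U.map (act h) ⊓ U)) % 2 = m % 2
    omega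
  let P : Subgroup (isometryGroup F Q) :=
    { carrier := {g | d g % 2 = m % 2}
      one_mem' := by
        have : U.map (act (1 : GL ι F)) = U := by
          rw [show act (1 : GL ι F) = LinearMap.id from LinearMap.ext act_one, Submodule.map_id]
        show finrank F ↥(U.map (act (1 : GL ι F)) ⊓ U) % 2 = m % 2
        rw [this, inf_idem, hUm]
      mul_mem' := fun {a b} ha hb => by
        have := hcomp a b a.2 b.2
        simp only [Set.mem_setOf_eq, Subgroup.coe_mul] at ha hb ⊢
        omega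
      inv_mem' := fun {a} ha => by
        have := hcomp a a⁻¹ a.2 (inv_mem a.2)
        have h1 : d 1 = m := by
          show finrank F ↥(U.map (act (1 : GL ι F)) ⊓ U) = m
          rw [show act (1 : GL ι F) = LinearMap.id from LinearMap.ext act_one, Submodule.map_id, inf_idem, hUm]
        rw [mul_inv_cancel, h1] at this
        simp only [Set.mem_setOf_eq, Subgroup.coe_inv] at ha ⊢
        omega }
  have hle : commutator (isometryGroup F Q) ≤ P := by
    rw [commutator_def, Subgroup.commutator_le]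
    rintro ⟨a, ha⟩ _ ⟨b, hb⟩ _
    show d (a * b * a⁻¹ * b⁻¹) % 2 = m % 2
    have h1 := hcomp (a * b * a⁻¹) b⁻¹ (mul_mem (mul_mem ha hb) (inv_mem ha)) (inv_mem hb)
    have h2 := hcomp (a * b) a⁻¹ (mul_mem ha hb) (inv_mem ha)
    have h3 := hcomp a b ha hb
    have h4 := hcomp a a⁻¹ ha (inv_mem ha)
    have h5 := hcomp b b⁻¹ hb (inv_mem hb)
    rw [mul_inv_cancel] at h4 h5
    omega
  obtain ⟨x, hx, rfl⟩ := hg
  exact hle hx

theorem submaximal_between (hn : 5 ≤ Fintype.card ι) {W : Submodule F (ι → F)} (hW : ∀ w ∈ W, Q w = 0)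
    (hWd : finrank F W + 1 = m) (hplus : Cfsg.Geo.IsPlusTypeOn Q ⊤) :
    ∃ K : Subgroup (GL ι F),
      Cfsg.Geo.subspaceStabilizer W ⊓ Cfsg.Geo.omegaGL Q < K ∧ K < Cfsg.Geo.omegaGL Q := by
  obtain ⟨X, -, hX, hXd⟩ := hplus
  rw [finrank_top, card_eq_finrank hQ hm] at hXd
  obtain ⟨U, hU, hUm, hWU, -⟩ := QForm.exists_extension hQ (card_eq_finrank hQ hm) hW hWd hX (by omega)
  have hWlt : ¬ U ≤ W := fun h => by have := Submodule.finrank_mono h; omega
  obtain ⟨x₁, hx₁, hx₁W⟩ := SetLike.not_le_iff_exists.1 hWlt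
  refine exists_between (S := Cfsg.Geo.subspaceStabilizer U) (fun g hg hgΩ => ?_) ?_ ?_
  · refine mem_subspaceStabilizer_of_le fun y hy => ?_
    have hd := finrank_map_act g U
    by_cases e : U.map (act g) = U
    · exact e.le ⟨y, hy, rfl⟩
    exfalso
    have h1 : W ≤ U.map (act g) ⊓ U := by
      refine le_inf (fun w hw => ?_) hWU
      exact ⟨act g⁻¹ w, hWU ((mem_subspaceStabilizer.1 hg _).2 (by rwa [act_act_inv])), act_act_inv g w⟩
    have h1' := Submodule.finrank_mono h1
    have h2 : U.map (act g) ⊓ U < U := lt_of_le_of_ne inf_le_right fun h =>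
      e (Submodule.eq_of_le_of_finrank_eq (inf_eq_right.1 h) hd.symm).symm
    have h2' := Submodule.finrank_lt_finrank_of_lt h2
    have h3 := family_parity hQ hm hU hUm hgΩ
    omega
  · obtain ⟨x, hx, hx0⟩ := Submodule.exists_mem_ne_zero_of_ne_bot (p := W) (fun e => by
      rw [e, finrank_bot] at hWd; omega)
    have hxx : x ∉ F ∙ x₁ := fun h => by
      obtain ⟨c, rfl⟩ := Submodule.mem_span_singleton.1 h
      have hc : c ≠ 0 := fun e => hx0 (by rw [e, zero_smul])
      exact hx₁W (by simpa [smul_smul, inv_mul_cancel₀ hc] using W.smul_mem c⁻¹ hx)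
    obtain ⟨w, hw, hw1⟩ := exists_perp_one hQ hxx
    have huw : B x₁ w = 0 := orth hw (Submodule.mem_span_singleton_self x₁)
    have hU0 : ∀ y ∈ U, act (sg Q x₁ w) y = y - B w y • x₁ := fun y hy => by
      rw [act_sg Q (hU x₁ hx₁) huw, B_eq_zero_of_singular hU hx₁ hy]; simp
    refine ⟨sg Q x₁ w, sg_mem_omega hQ hn _ _, mem_subspaceStabilizer_of_le fun y hy => ?_, fun h => hx₁W ?_⟩
    · rw [hU0 y hy]; exact U.sub_mem hy (U.smul_mem _ hx₁)
    · have h1 := (mem_subspaceStabilizer.1 h x).1 hx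
      rw [hU0 x (hWU hx), B_comm Q w x, hw1, one_smul] at h1
      simpa using W.sub_mem hx h1
  · obtain ⟨x, hx, hx0⟩ := Submodule.exists_mem_ne_zero_of_ne_bot (p := U) (fun e => by
      rw [e, finrank_bot] at hUm; omega)
    obtain ⟨g, hg, hne⟩ := exists_sg_move hQ hn hx0 (hU x hx)
    exact ⟨g, hg, fun h => hne (B_eq_zero_of_singular hU hx ((mem_subspaceStabilizer.1 h x).1 hx))⟩

theorem singular_pair_between (hn : 5 ≤ Fintype.card ι) (hmo : Odd m) (D : Fin 2 → Submodule F (ι → F))
    (hD : Cfsg.Geo.IsMDecomposition m D) (hts : ∀ i, ∀ x ∈ D i, Q x = 0) :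
    ∃ K : Subgroup (GL ι F),
      Cfsg.Geo.decompositionStabilizer D ⊓ Cfsg.Geo.omegaGL Q < K ∧ K < Cfsg.Geo.omegaGL Q := by
  have hdisj : Disjoint (D 1) (D 0) := (hD.indep 1).mono_right (le_iSup₂_of_le 0 (by decide) le_rfl)
  have hsup : ∀ x, ∃ a ∈ D 0, ∃ b ∈ D 1, x = a + b := by
    intro x
    have h : (⊤ : Submodule F (ι → F)) ≤ D 0 ⊔ D 1 := hD.iSup_eq_top ▸ iSup_le fun i => by
      fin_cases i <;> [exact le_sup_left; exact le_sup_right]
    obtain ⟨a, ha, b, hb, e⟩ := Submodule.mem_sup.1 (h (Submodule.mem_top (x := x)))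
    exact ⟨a, ha, b, hb, e.symm⟩
  refine exists_between (S := Cfsg.Geo.subspaceStabilizer (D 0)) (fun g hg hgΩ => ?_) ?_ ?_
  · obtain ⟨σ, hσ⟩ := hg
    have hσ0 : σ 0 = 0 := by
      by_contra h
      have h1 : σ 0 = 1 := (Fin.exists_fin_two.1 ⟨σ 0, rfl⟩ : σ 0 = 0 ∨ σ 0 = 1).resolve_left h
      have h2 := family_parity hQ hm (hts 0) (hD.finrank_eq 0) hgΩ
      rw [show (D 0).map (act g) = D 1 from (hσ 0).trans (by rw [h1]), disjoint_iff.1 hdisj, finrank_bot] at h2
      obtain ⟨k, hk⟩ := hmo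
      omega
    refine mem_subspaceStabilizer_of_le fun y hy => ?_
    have := hσ 0
    rw [hσ0] at this
    exact this.le ⟨y, hy, rfl⟩
  · obtain ⟨u, hu, hu0⟩ := Submodule.exists_mem_ne_zero_of_ne_bot (p := D 0) (fun e => by
      have := hD.finrank_eq 0; rw [e, finrank_bot] at this; omega)
    obtain ⟨w, hw, hwu⟩ : ∃ w ∈ D 0, w ∉ F ∙ u := SetLike.not_le_iff_exists.1 fun h => by
      have := (Submodule.finrank_mono h).trans_eq (finrank_span_singleton hu0)
      rw [hD.finrank_eq 0] at this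
      omega
    have huw : B u w = 0 := B_eq_zero_of_singular (hts 0) hu hw
    obtain ⟨z, hz⟩ := exists_B_ne_zero hQ hu0
    obtain ⟨a, ha, x, hx, rfl⟩ := hsup z
    rw [B_add_right Q, B_eq_zero_of_singular (hts 0) hu ha, zero_add] at hz
    refine ⟨sg Q u w, sg_mem_omega hQ hn u w, mem_subspaceStabilizer_of_le fun y hy => ?_, ?_⟩
    · rwa [act_sg_fix Q (hts 0 u hu) huw (B_eq_zero_of_singular (hts 0) hu hy)
        (B_eq_zero_of_singular (hts 0) hw hy)]
    rintro ⟨σ, hσ⟩
    have hfix : (D 0).map (act (sg Q u w)) ≤ D 0 := by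
      rintro _ ⟨y, hy, rfl⟩
      rwa [act_sg_fix Q (hts 0 u hu) huw (B_eq_zero_of_singular (hts 0) hu hy)
        (B_eq_zero_of_singular (hts 0) hw hy)]
    have hne : ∀ i, D i ≠ ⊥ := fun i e => by
      have := hD.finrank_eq i; rw [e, finrank_bot] at this; omega
    have hσ0 : σ 0 = 0 := by
      by_contra h
      have h1 : σ 0 = 1 := (Fin.exists_fin_two.1 ⟨σ 0, rfl⟩ : σ 0 = 0 ∨ σ 0 = 1).resolve_left h
      have h2 : D 1 ≤ D 0 := by
        rw [← show (D 0).map (act (sg Q u w)) = D 1 from (hσ 0).trans (by rw [h1])]; exact hfix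
      exact hne 1 ((disjoint_iff.1 hdisj) ▸ (inf_eq_left.2 h2).symm)
    have hσ1 : σ 1 = 1 := by
      by_contra h
      have h1 : σ 1 = 0 := (Fin.exists_fin_two.1 ⟨σ 1, rfl⟩ : σ 1 = 0 ∨ σ 1 = 1).resolve_right h
      exact absurd (σ.injective (hσ0.trans h1.symm)) (by decide)
    have hxm : act (sg Q u w) x ∈ D 1 := by
      have := hσ 1
      rw [hσ1] at this
      exact this.le ⟨x, hx, rfl⟩
    rw [act_sg Q (hts 0 u hu) huw, hts 0 w hw, zero_mul, add_zero] at hxm
    have h3 : B u x • w - B w x • u = 0 := (Submodule.disjoint_def.1 hdisj) _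
      (by simpa [add_sub_assoc] using (D 1).sub_mem hxm hx)
      ((D 0).sub_mem ((D 0).smul_mem _ hw) ((D 0).smul_mem _ hu))
    refine hwu (Submodule.mem_span_singleton.2 ⟨B w x / B u x, ?_⟩)
    rw [sub_eq_zero] at h3
    rw [div_eq_inv_mul, ← smul_smul, ← h3, smul_smul, inv_mul_cancel₀ hz, one_smul]
  · obtain ⟨x, hx, hx0⟩ := Submodule.exists_mem_ne_zero_of_ne_bot (p := D 0) (fun e => by
      have := hD.finrank_eq 0; rw [e, finrank_bot] at this; omega)
    obtain ⟨g, hg, hne⟩ := exists_sg_move hQ hn hx0 (hts 0 x hx)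
    exact ⟨g, hg, fun h => hne (B_eq_zero_of_singular (hts 0) hx ((mem_subspaceStabilizer.1 h x).1 hx))⟩

end Cfsg.Agent.MaxCl.Orth
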