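/-
Root groups of an extension field group inside GL(ι, F): the coefficient spaces and the passage from one
rank one coefficient to all transvections.
-/
import Mathlib
import Cfsg.Prelude.Def_GeometricClasses
import Cfsg.Agent.Lib.MaxCl.Transvection

set_option autoImplicit false
set_option maxHeartbeats 800000

namespace Cfsg.Agent.MaxCl.ExtF

open scoped MatrixGroups Matrix
open Module

variable {ι : Type} [Fintype ι] [DecidableEq ι] {F : Type*} [Field F]
  {K : Type*} [Field K] [Algebra F K] [Module K (ι → F)] [IsScalarTower F K (ι → F)]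

/-- the element of GL of a linear automorphism -/
noncomputable def ofEquiv (e : (ι → F) ≃ₗ[F] (ι → F)) : GL ι F where
  val := LinearMap.toMatrix' e.toLinearMap
  inv := LinearMap.toMatrix' e.symm.toLinearMap
  val_inv := by
    rw [← LinearMap.toMatrix'_comp, ← LinearMap.toMatrix'_id (R := F) (n := ι)]
    congr 1
    ext x : 1
    simp
  inv_val := by
    rw [← LinearMap.toMatrix'_comp, ← LinearMap.toMatrix'_id (R := F) (n := ι)]
    congr 1
    ext x : 1
    simp

theorem act_ofEquiv (e : (ι → F) ≃ₗ[F] (ι → F)) (x : ι → F) : act (ofEquiv e) x = e x := by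
  simp [ofEquiv, act_apply, ← Matrix.toLin'_apply]

theorem det_eq (g : GL ι F) : (g : Matrix ι ι F).det = LinearMap.det (act g) := by
  simp [act, LinearMap.det_toLin']

theorem mem_sl_iff (g : GL ι F) :
    g ∈ Cfsg.Geo.specialLinear ι F ↔ LinearMap.det (act g) = 1 := by
  rw [← det_eq]
  exact ⟨fun h => by simpa using congrArg Units.val (MonoidHom.mem_ker.1 h),
    fun h => MonoidHom.mem_ker.2 (Units.ext (by simpa using h))⟩

theorem det_add_comp {P Q : Type*} [AddCommGroup P] [Module F P] [AddCommGroup Q] [Module F Q]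
    [Module.Finite F P] [Module.Finite F Q] (U : Q →ₗ[F] P) (W : P →ₗ[F] Q) :
    LinearMap.det (LinearMap.id + U ∘ₗ W) = LinearMap.det (LinearMap.id + W ∘ₗ U) := by
  classical
  let b := Module.finBasis F P
  let c := Module.finBasis F Q
  rw [← LinearMap.det_toMatrix b, ← LinearMap.det_toMatrix c, map_add, map_add, LinearMap.toMatrix_id,
    LinearMap.toMatrix_id, LinearMap.toMatrix_comp b c b, LinearMap.toMatrix_comp c b c,
    Matrix.det_one_add_mul_comm]

/-- `x ↦ C (φ x) • b` -/
def cmap (φ : (ι → F) →ₗ[K] K) (b : ι → F) (C : K →ₗ[F] K) : (ι → F) →ₗ[F] (ι → F) :=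
  (LinearMap.toSpanSingleton K (ι → F) b).restrictScalars F ∘ₗ C ∘ₗ φ.restrictScalars F

omit [DecidableEq ι] [Fintype ι] in
theorem cmap_apply (φ : (ι → F) →ₗ[K] K) (b : ι → F) (C : K →ₗ[F] K) (x : ι → F) :
    cmap φ b C x = C (φ x) • b := rfl

omit [DecidableEq ι] in
theorem exists_phi (P : Submodule K (ι → F)) {w : ι → F} (hw : w ∉ P) :
    ∃ φ : (ι → F) →ₗ[K] K, (∀ x ∈ P, φ x = 0) ∧ φ w = 1 := by
  obtain ⟨f, hf, hle⟩ := Submodule.exists_le_ker_of_notMem hw
  refine ⟨(f w)⁻¹ • f, fun x hx => ?_, by simp [inv_mul_cancel₀ hf]⟩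
  simp [LinearMap.mem_ker.1 (hle hx)]

omit [DecidableEq ι] [Fintype ι] in
theorem exists_notMem (P : Submodule K (ι → F)) (hP : P ≠ ⊤) : ∃ w, w ∉ P := by
  by_contra h
  push Not at h
  exact hP (eq_top_iff.2 fun x _ => h x)

omit [DecidableEq ι] in
theorem span_ne_top (hm : 2 ≤ finrank K (ι → F)) (a : ι → F) : (K ∙ a) ≠ ⊤ := by
  intro h
  rcases eq_or_ne a 0 with rfl | ha
  · rw [Submodule.span_zero_singleton] at h
    have := finrank_top K (ι → F)
    rw [← h, finrank_bot] at this
    omega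
  · have := finrank_top K (ι → F)
    rw [← h, finrank_span_singleton ha] at this
    omega

/-- what is assumed of a group between the extension field group and GL -/
structure Setup (H : Subgroup (GL ι F)) : Prop where
  rPrime : (finrank F K).Prime
  two_le : 2 ≤ finrank K (ι → F)
  lin_mem : ∀ g : GL ι F, g ∈ Cfsg.Geo.specialLinear ι F →
    (∀ (k : K) (x : ι → F), act g (k • x) = k • act g x) → g ∈ H

variable {H : Subgroup (GL ι F)}

theorem exists_trans [Finite F] (hS : Setup (K := K) H) (ψ : (ι → F) →ₗ[K] K) (c : ι → F)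
    (hc : ψ c = 0) : ∃ h ∈ H, ∀ x, act h x = x + ψ x • c := by
  let e : (ι → F) ≃ₗ[F] (ι → F) :=
    { toLinearMap := LinearMap.id + cmap ψ c LinearMap.id
      invFun := fun x => x - ψ x • c
      left_inv := fun x => by simp [cmap_apply, map_add, hc]
      right_inv := fun x => by simp [cmap_apply, map_sub, hc] }
  have he : ∀ x, act (ofEquiv e) x = x + ψ x • c := fun x => act_ofEquiv e x
  refine ⟨ofEquiv e, hS.lin_mem _ ?_ ?_, he⟩
  · rw [mem_sl_iff]
    have h : act (ofEquiv e) = LinearMap.id +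
        (LinearMap.toSpanSingleton K (ι → F) c).restrictScalars F ∘ₗ ψ.restrictScalars F :=
      LinearMap.ext he
    haveI : Module.Finite F K := Module.finite_of_finrank_pos hS.rPrime.pos
    rw [h, det_add_comp]
    have : ψ.restrictScalars F ∘ₗ (LinearMap.toSpanSingleton K (ι → F) c).restrictScalars F = 0 := by
      ext k; simp [hc]
    rw [this, add_zero, LinearMap.det_id]
  · intro k x
    rw [he, he, map_smul, smul_add, smul_smul, smul_eq_mul]

theorem exists_scaleGL [Module.Finite F K] (φ : (ι → F) →ₗ[K] K) (b : ι → F)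
    (hb : φ b = 1) (η : K) (hη0 : η ≠ 0) :
    ∃ h : GL ι F, (∀ (k : K) (x : ι → F), act h (k • x) = k • act h x) ∧
      LinearMap.det (act h) = Algebra.norm F η ∧ ∀ x, act h x = x + ((η - 1) * φ x) • b := by
  let e : (ι → F) ≃ₗ[F] (ι → F) :=
    { toLinearMap := LinearMap.id + cmap φ b (LinearMap.mulLeft F (η - 1))
      invFun := fun x => x + ((η⁻¹ - 1) * φ x) • b
      left_inv := fun x => by
        simp only [LinearMap.toFun_eq_coe, LinearMap.add_apply, LinearMap.id_apply, cmap_apply,
          LinearMap.mulLeft_apply, map_add, map_smul, hb, smul_eq_mul, mul_one]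
        rw [add_assoc, ← add_smul]
        rw [add_eq_left]
        try rw [← add_smul]
        rw [smul_eq_zero]
        left
        field_simp
        ring
      right_inv := fun x => by
        simp only [LinearMap.toFun_eq_coe, LinearMap.add_apply, LinearMap.id_apply, cmap_apply,
          LinearMap.mulLeft_apply, map_add, map_smul, hb, smul_eq_mul, mul_one]
        rw [add_assoc, ← add_smul]
        rw [add_eq_left]
        try rw [← add_smul]
        rw [smul_eq_zero]
        left
        field_simp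
        ring }
  have he : ∀ x, act (ofEquiv e) x = x + ((η - 1) * φ x) • b := fun x => act_ofEquiv e x
  refine ⟨ofEquiv e, ?_, ?_, he⟩
  · intro k x
    rw [he, he, map_smul, smul_add, smul_smul, smul_eq_mul]
    ring_nf
  · have h : act (ofEquiv e) = LinearMap.id +
        (LinearMap.toSpanSingleton K (ι → F) b).restrictScalars F ∘ₗ
          (LinearMap.mulLeft F (η - 1) ∘ₗ φ.restrictScalars F) := LinearMap.ext he
    rw [h, det_add_comp]
    have : LinearMap.id + (LinearMap.mulLeft F (η - 1) ∘ₗ φ.restrictScalars F) ∘ₗ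
        (LinearMap.toSpanSingleton K (ι → F) b).restrictScalars F = Algebra.lmul F K η := by
      ext k
      simp [hb]
      ring
    rw [this, ← Algebra.norm_apply]

theorem exists_scaling [Finite F] (hS : Setup (K := K) H) (φ : (ι → F) →ₗ[K] K) (b : ι → F)
    (hb : φ b = 1) (η : K) (hη : Algebra.norm F η = 1) :
    ∃ h ∈ H, ∀ x, act h x = x + ((η - 1) * φ x) • b := by
  haveI : Module.Finite F K := Module.finite_of_finrank_pos hS.rPrime.pos
  have hη0 : η ≠ 0 := by
    rintro rfl
    rw [Algebra.norm_zero] at hη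
    exact zero_ne_one hη
  obtain ⟨h, hlin, hdet, hh⟩ := exists_scaleGL φ b hb η hη0
  exact ⟨h, hS.lin_mem h ((mem_sl_iff h).2 (hdet.trans hη)) hlin, hh⟩

/-- every element has norm one, up to the subring they generate -/
theorem normOne_generate [Fintype F] (hr : (finrank F K).Prime) (S : Subring K)
    (hS : ∀ η : K, Algebra.norm F η = 1 → η ∈ S) (x : K) : x ∈ S := by
  classical
  haveI : Module.Finite F K := Module.finite_of_finrank_pos hr.pos
  haveI : Finite K := Module.finite_of_finite F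
  haveI : Finite S := Finite.of_injective _ Subtype.val_injective
  have hSf : IsField S := Finite.isDomain_to_isField S
  letI : Field S := hSf.toField
  haveI : Fintype K := Fintype.ofFinite K
  haveI : Fintype S := Fintype.ofFinite S
  set q := Nat.card F
  set r := finrank F K
  have hq : 2 ≤ q := Finite.one_lt_card
  have hr2 : 2 ≤ r := hr.two_le
  have hK : Nat.card K = q ^ r := Module.natCard_eq_pow_finrank
  have hKu : Nat.card Kˣ = q ^ r - 1 := by rw [Nat.card_units, hK]
  have hFu : Nat.card Fˣ = q - 1 := Nat.card_units F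
  let N : Kˣ →* Fˣ := Units.map (Algebra.norm F (S := K))
  have hN : Function.Surjective N := FiniteField.unitsMap_norm_surjective F K
  have h1 : Nat.card N.ker * (q - 1) = q ^ r - 1 := by
    rw [← hKu, ← hFu, ← Subgroup.card_mul_index N.ker, Subgroup.index_ker,
      MonoidHom.range_eq_top.2 hN, Subgroup.card_top]
  have h2 : q ^ (r - 1) < Nat.card N.ker := by
    by_contra hc
    push Not at hc
    have := Nat.mul_le_mul_right (q - 1) hc
    rw [h1, Nat.mul_sub_one, ← pow_succ, Nat.sub_add_cancel (by omega : 1 ≤ r)] at this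
    have : 2 ≤ q ^ (r - 1) := hq.trans (Nat.le_self_pow (by omega) q)
    have := Nat.pow_le_pow_right (by omega : 0 < q) (Nat.sub_le r 1)
    omega
  have h3 : Nat.card N.ker ≤ Nat.card S := by
    refine Nat.card_le_card_of_injective (fun η => ⟨((η : Kˣ) : K), hS _ ?_⟩) ?_
    · have := congrArg Units.val (MonoidHom.mem_ker.1 η.2)
      simpa [N] using this
    · intro a b h
      exact Subtype.ext (Units.ext (Subtype.ext_iff.1 h))
  have h4 : Nat.card K = Nat.card S ^ finrank S K := Module.natCard_eq_pow_finrank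
  have hd : finrank S K = 1 := by
    have hpos : 0 < finrank S K := Module.finrank_pos
    by_contra hne
    have h5 : Nat.card S ^ 2 ≤ q ^ r := by
      rw [← hK, h4]
      exact Nat.pow_le_pow_right Nat.card_pos (by omega)
    have h6 : (q ^ (r - 1) + 1) ^ 2 ≤ Nat.card S ^ 2 := Nat.pow_le_pow_left (by omega) 2
    have h7 : q ^ r ≤ (q ^ (r - 1)) ^ 2 := by
      rw [← pow_mul]
      exact Nat.pow_le_pow_right (by omega) (by omega)
    have := Nat.pow_lt_pow_left (show q ^ (r - 1) < q ^ (r - 1) + 1 by omega) two_ne_zero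
    omega
  rw [hd, pow_one] at h4
  have hb := (Fintype.bijective_iff_injective_and_card (Subtype.val : S → K)).2
    ⟨Subtype.val_injective, by simpa [Nat.card_eq_fintype_card] using h4.symm⟩
  obtain ⟨y, rfl⟩ := hb.2 x
  exact y.2

/-- `C` is a coefficient of the root group of `(φ, a)` inside `H` -/
def Coef (H : Subgroup (GL ι F)) (φ : (ι → F) →ₗ[K] K) (a : ι → F) (C : K →ₗ[F] K) : Prop :=
  ∃ g ∈ H, ∀ x, act g x = x + C (φ x) • a

section
variable {φ : (ι → F) →ₗ[K] K} {a : ι → F}

theorem Coef.add (ha : φ a = 0) {C C' : K →ₗ[F] K} (h : Coef H φ a C) (h' : Coef H φ a C') :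
    Coef H φ a (C + C') := by
  obtain ⟨g, hg, hga⟩ := h
  obtain ⟨g', hg', hga'⟩ := h'
  refine ⟨g * g', mul_mem hg hg', fun x => ?_⟩
  rw [act_mul, hga, hga', map_add, map_smul, ha, smul_zero, add_zero, LinearMap.add_apply, add_smul]
  abel

theorem Coef.zero : Coef H φ a 0 := ⟨1, H.one_mem, fun x => by simp [act_one]⟩

theorem Coef.neg (ha : φ a = 0) {C : K →ₗ[F] K} (h : Coef H φ a C) : Coef H φ a (-C) := by
  obtain ⟨g, hg, hga⟩ := h
  refine ⟨g⁻¹, inv_mem hg, fun x => ?_⟩
  apply act_injective g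
  rw [act_act_inv, hga, map_add, map_smul, ha, smul_zero, add_zero, LinearMap.neg_apply, neg_smul]
  abel

theorem coef_mulLeft [Finite F] (hS : Setup (K := K) H) (ha : φ a = 0) (k : K) :
    Coef H φ a (LinearMap.mulLeft F k) := by
  obtain ⟨h, hh, hha⟩ := exists_trans hS φ (k • a) (by rw [map_smul, ha, smul_zero])
  refine ⟨h, hh, fun x => ?_⟩
  rw [hha, smul_smul, LinearMap.mulLeft_apply, mul_comm]

/-- transport by a `K`-linear element of `H` -/
theorem Coef.conj {C : K →ₗ[F] K} (h : Coef H φ a C) {u : GL ι F} (hu : u ∈ H)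
    {φ' : (ι → F) →ₗ[K] K} {a' : ι → F} {C' : K →ₗ[F] K}
    (he : ∀ x, act u (C (φ x) • a) = C' (φ' (act u x)) • a') : Coef H φ' a' C' := by
  obtain ⟨g, hg, hga⟩ := h
  refine ⟨u * g * u⁻¹, mul_mem (mul_mem hu hg) (inv_mem hu), fun x => ?_⟩
  rw [act_mul, act_mul, hga, map_add, act_act_inv, he, act_act_inv]

/-- the multipliers of all coefficient spaces on both sides -/
def multipliers (H : Subgroup (GL ι F)) (φ : (ι → F) →ₗ[K] K) (a : ι → F) (ha : φ a = 0) :
    Subring K where
  carrier := {k | ∀ C, Coef H φ a C →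
    Coef H φ a (C ∘ₗ LinearMap.mulLeft F k) ∧ Coef H φ a (LinearMap.mulLeft F k ∘ₗ C)}
  mul_mem' {k l} hk hl := fun C hC => by
    refine ⟨?_, ?_⟩
    · have := (hl _ (hk C hC).1).1
      rwa [LinearMap.comp_assoc, ← LinearMap.mulLeft_mul] at this
    · have := (hk _ (hl C hC).2).2
      rwa [← LinearMap.comp_assoc, ← LinearMap.mulLeft_mul] at this
  one_mem' := fun C hC => ⟨by simpa using hC, by simpa using hC⟩
  add_mem' {k l} hk hl := fun C hC => by
    refine ⟨?_, ?_⟩
    · have := (hk C hC).1.add ha (hl C hC).1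
      convert this using 1
      ext x; simp [add_mul]
    · have := (hk C hC).2.add ha (hl C hC).2
      convert this using 1
      ext x; simp [add_mul]
  zero_mem' := fun C _ => by simpa using Coef.zero
  neg_mem' {k} hk := fun C hC => by
    refine ⟨?_, ?_⟩
    · have := (hk C hC).1.neg ha
      convert this using 1
      ext x; simp
    · have := (hk C hC).2.neg ha
      convert this using 1
      ext x; simp

theorem Coef.bimodule [Fintype F] (hS : Setup (K := K) H) (ha : φ a = 0) (hφ : φ ≠ 0)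
    (ha0 : a ≠ 0) {C : K →ₗ[F] K} (hC : Coef H φ a C) (k : K) :
    Coef H φ a (C ∘ₗ LinearMap.mulLeft F k) ∧ Coef H φ a (LinearMap.mulLeft F k ∘ₗ C) := by
  suffices h : k ∈ multipliers H φ a ha by
    exact (show ∀ C : K →ₗ[F] K, Coef H φ a C →
    Coef H φ a (C ∘ₗ LinearMap.mulLeft F k) ∧ Coef H φ a (LinearMap.mulLeft F k ∘ₗ C) from h) C hC
  refine normOne_generate hS.rPrime (multipliers H φ a ha) ?_ k
  intro η hη
  show ∀ C : K →ₗ[F] K, Coef H φ a C →
    Coef H φ a (C ∘ₗ LinearMap.mulLeft F η) ∧ Coef H φ a (LinearMap.mulLeft F η ∘ₗ C)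
  intro C hC
  obtain ⟨z, hz⟩ : ∃ z, φ z ≠ 0 := by
    by_contra hc; push Not at hc; exact hφ (LinearMap.ext hc)
  set b := (φ z)⁻¹ • z
  have hb : φ b = 1 := by simp [b, inv_mul_cancel₀ hz]
  obtain ⟨ψ, hψ, hψa⟩ := exists_phi (K ∙ b) (w := a) (by
    intro h
    obtain ⟨c, rfl⟩ := Submodule.mem_span_singleton.1 h
    rw [map_smul, hb, smul_eq_mul, mul_one] at ha
    exact ha0 (by rw [ha, zero_smul]))
  haveI : Module.Finite F K := Module.finite_of_finrank_pos hS.rPrime.pos
  have hη0 : η ≠ 0 := by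
    rintro rfl
    rw [Algebra.norm_zero] at hη
    exact zero_ne_one hη
  have hη' : Algebra.norm F η⁻¹ = 1 := by
    have := map_mul (Algebra.norm F) η⁻¹ η
    rw [inv_mul_cancel₀ hη0, map_one, hη, mul_one] at this
    exact this.symm
  refine ⟨?_, ?_⟩
  · obtain ⟨u, hu, hua⟩ := exists_scaling hS φ b hb η⁻¹ hη'
    refine hC.conj hu fun x => ?_
    rw [hua, hua, map_smul φ (C (φ x)) a, ha, smul_zero, mul_zero, zero_smul, add_zero,
      LinearMap.comp_apply, LinearMap.mulLeft_apply, map_add, map_smul, hb, smul_eq_mul, mul_one]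
    congr 2
    field_simp
    ring
  · obtain ⟨u, hu, hua⟩ := exists_scaling hS ψ a hψa η hη
    refine hC.conj hu fun x => ?_
    rw [hua, hua, map_smul ψ (C (φ x)) a, hψa, smul_eq_mul, mul_one, ← add_smul, map_add, map_smul, ha,
      smul_zero, add_zero, LinearMap.comp_apply, LinearMap.mulLeft_apply]
    congr 1
    ring

/-- the coefficient spaces of any two root groups agree -/
theorem Coef.transfer [Fintype F] (hS : Setup (K := K) H) {C : K →ₗ[F] K} (hC : Coef H φ a C)
    (ha : φ a = 0) (hφ : φ ≠ 0) (ha0 : a ≠ 0) {φ' : (ι → F) →ₗ[K] K} {a' : ι → F}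
    (ha' : φ' a' = 0) (hφ' : φ' ≠ 0) (ha0' : a' ≠ 0) : Coef H φ' a' C := by
  -- moving the centre to an independent vector
  have step : ∀ (φ : (ι → F) →ₗ[K] K) (a a' : ι → F), φ a = 0 → φ ≠ 0 → a' ∉ (K ∙ a) → a ≠ 0 →
      Coef H φ a C → ∃ ψ : (ι → F) →ₗ[K] K, ψ a' = 0 ∧ ψ ≠ 0 ∧ Coef H ψ a' C := by
    intro φ a a' ha hφ hind ha0 hC
    obtain ⟨χ, hχ, hχa⟩ := exists_phi (K ∙ (a' - a)) (w := a) (by
      intro h
      obtain ⟨c, hc⟩ := Submodule.mem_span_singleton.1 h
      apply hind
      rcases eq_or_ne c 0 with rfl | hc0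
      · rw [zero_smul] at hc; exact absurd hc.symm ha0
      · refine Submodule.mem_span_singleton.2 ⟨c⁻¹ * (1 + c), ?_⟩
        rw [mul_smul, add_smul, one_smul]
        nth_rw 1 [← hc]
        rw [smul_sub, sub_add_cancel, smul_smul, inv_mul_cancel₀ hc0, one_smul])
    have hc : χ (a' - a) = 0 := hχ _ (Submodule.mem_span_singleton_self _)
    obtain ⟨u, hu, hua⟩ := exists_trans hS χ (a' - a) hc
    let ψ : (ι → F) →ₗ[K] K := φ - φ (a' - a) • χ
    have hψ : ∀ x, ψ (x + χ x • (a' - a)) = φ x := by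
      intro x
      simp only [ψ, LinearMap.sub_apply, LinearMap.smul_apply, map_add, map_smul, hc, smul_eq_mul]
      ring
    have hua' : act u a = a' := by rw [hua, hχa, one_smul, add_sub_cancel]
    refine ⟨ψ, ?_, fun h => hφ (LinearMap.ext fun x => ?_), hC.conj hu fun x => ?_⟩
    · rw [← hua', hua, hψ, ha]
    · rw [← hψ x, h, LinearMap.zero_apply, LinearMap.zero_apply]
    · rw [hua, hua x, hψ, map_smul, hχa, smul_eq_mul, mul_one, ← smul_add, add_sub_cancel]
  obtain ⟨ψ, hψa, hψ, hC'⟩ : ∃ ψ : (ι → F) →ₗ[K] K, ψ a' = 0 ∧ ψ ≠ 0 ∧ Coef H ψ a' C := by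
    by_cases h : a' ∈ (K ∙ a)
    · obtain ⟨c, hc⟩ := exists_notMem _ (span_ne_top hS.two_le a)
      obtain ⟨ψ, hψc, hψ, hC'⟩ := step φ a c ha hφ hc ha0 hC
      refine step ψ c a' hψc hψ ?_ (fun h0 => hc (h0 ▸ zero_mem _)) hC'
      intro h'
      obtain ⟨k, hk⟩ := Submodule.mem_span_singleton.1 h
      obtain ⟨l, hl⟩ := Submodule.mem_span_singleton.1 h'
      have hl0 : l ≠ 0 := by rintro rfl; rw [zero_smul] at hl; exact ha0' hl.symm
      apply hc
      refine Submodule.mem_span_singleton.2 ⟨l⁻¹ * k, ?_⟩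
      rw [mul_smul, hk, ← hl, smul_smul, inv_mul_cancel₀ hl0, one_smul]
    · exact step φ a a' ha hφ h ha0 hC
  -- moving the axis
  by_cases hp : ∃ k : K, φ' = k • ψ
  · obtain ⟨k, rfl⟩ := hp
    have hk : k ≠ 0 := by rintro rfl; exact hφ' (zero_smul _ _)
    obtain ⟨g, hg, hga⟩ := (hC'.bimodule hS hψa hψ ha0' k).1
    refine ⟨g, hg, fun x => ?_⟩
    rw [hga]; rfl
  · push Not at hp
    obtain ⟨z, hz, hz'⟩ : ∃ z, ψ z = 1 ∧ φ' z = 1 := by
      obtain ⟨w, hw⟩ : ∃ w, ψ w ≠ 0 := by
        by_contra hc; push Not at hc; exact hψ (LinearMap.ext hc)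
      set w₁ := (ψ w)⁻¹ • w
      have hw₁ : ψ w₁ = 1 := by simp [w₁, inv_mul_cancel₀ hw]
      obtain ⟨y, hy⟩ : ∃ y, φ' y ≠ φ' w₁ * ψ y := by
        by_contra hc; push Not at hc
        exact hp (φ' w₁) (LinearMap.ext fun y => by simpa using hc y)
      set y₁ := y - ψ y • w₁
      have hy₁ : ψ y₁ = 0 := by simp [y₁, hw₁]
      have hy₂ : φ' y₁ ≠ 0 := by
        intro h0
        apply hy
        simp only [y₁, map_sub, map_smul, smul_eq_mul, sub_eq_zero] at h0
        rw [h0, mul_comm]
      refine ⟨w₁ + ((1 - φ' w₁) / φ' y₁) • y₁, by simp [hw₁, hy₁], ?_⟩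
      rw [map_add, map_smul φ' ((1 - φ' w₁) / φ' y₁) y₁, smul_eq_mul, div_mul_cancel₀ _ hy₂]
      ring
    -- u⁻¹ turns `ψ` into `φ'`
    obtain ⟨u, hu, hua⟩ := exists_trans hS (ψ - φ') z (by simp [hz, hz'])
    refine hC'.conj hu fun x => ?_
    rw [hua, hua x, map_smul, LinearMap.sub_apply, hψa, ha', sub_zero, smul_zero, zero_smul, add_zero,
      map_add, map_smul, hz', LinearMap.sub_apply, smul_eq_mul, mul_one, add_sub_cancel]

end

/-- one rank one coefficient gives all of the special linear group -/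
theorem sl_le_of_rankOne [Fintype F] (hS : Setup (K := K) H) {φ : (ι → F) →ₗ[K] K} {a : ι → F}
    (ha : φ a = 0) (hφ : φ ≠ 0) (ha0 : a ≠ 0) (l : K →ₗ[F] F) (hl : l ≠ 0) (d : K) (hd : d ≠ 0)
    (hC : Coef H φ a (l.smulRight d)) : Cfsg.Geo.specialLinear ι F ≤ H := by
  haveI : Module.Finite F K := Module.finite_of_finrank_pos hS.rPrime.pos
  -- every functional of `K` is `l (k * ·)`
  let e : K →ₗ[F] (K →ₗ[F] F) :=
    { toFun := fun k => l ∘ₗ LinearMap.mulLeft F k
      map_add' := fun k k' => by ext x; simp [add_mul]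
      map_smul' := fun c k => by ext x; simp }
  have he : Function.Injective e := by
    rw [injective_iff_map_eq_zero]
    intro k hk
    by_contra h0
    apply hl
    ext x
    have := LinearMap.congr_fun hk (k⁻¹ * x)
    simpa [e, ← mul_assoc, mul_inv_cancel₀ h0] using this
  have hes : Function.Surjective e :=
    (LinearMap.injective_iff_surjective_of_finrank_eq_finrank
      (by exact (Subspace.dual_finrank_eq (K := F) (V := K)).symm)).1 he
  -- transvections whose axis contains the line of the centre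
  have basic : ∀ (f : (ι → F) →ₗ[F] F) (v : ι → F), (∀ k : K, f (k • v) = 0) → tv f v ∈ H := by
    intro f v hv
    rcases eq_or_ne v 0 with rfl | hv0
    · have : tv f (0 : ι → F) = 1 := gl_ext fun x => by rw [act_tv (map_zero f)]; simp [act_one]
      rw [this]; exact H.one_mem
    let g : (ι → F) → K →ₗ[F] F := fun x => f ∘ₗ (LinearMap.toSpanSingleton K (ι → F) x).restrictScalars F
    choose u hu using fun x => hes (g x)
    have hu' : ∀ x k, l (u x * k) = f (k • x) := fun x k => LinearMap.congr_fun (hu x) k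
    let φ' : (ι → F) →ₗ[K] K :=
      { toFun := u
        map_add' := fun x y => he (LinearMap.ext fun k => by
          simp [e, hu', add_mul, smul_add])
        map_smul' := fun c x => he (LinearMap.ext fun k => by
          show l (u (c • x) * k) = l (c * u x * k)
          rw [hu', smul_smul, ← hu', mul_comm c (u x), mul_assoc, mul_comm c k]) }
    have hf : ∀ x, f x = l (φ' x) := fun x => by
      have := hu' x 1
      rw [mul_one, one_smul] at this
      exact this.symm
    have hv' : φ' v = 0 := he (LinearMap.ext fun k => by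
      show l (u v * k) = e 0 k
      rw [hu', hv, map_zero, LinearMap.zero_apply])
    by_cases hφ' : φ' = 0
    · have : f = 0 := LinearMap.ext fun x => by simp [hf, hφ']
      rw [this, tv_zero_left]; exact H.one_mem
    obtain ⟨g', hg', hga⟩ := ((hC.bimodule hS ha hφ ha0 d⁻¹).2).transfer hS ha hφ ha0 hv' hφ' hv0
    have : tv f v = g' := gl_ext fun x => by
      rw [act_tv (by simpa using hv 1), hga, hf, LinearMap.comp_apply, LinearMap.smulRight_apply,
        LinearMap.mulLeft_apply, mul_smul_comm, inv_mul_cancel₀ hd]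
      congr 1
      rw [smul_assoc, one_smul]
    rw [this]; exact hg'
  apply specialLinear_le_of_transvections
  intro f v hv
  by_cases hfv : ∀ k : K, f (k • v) = 0
  · exact basic f v hfv
  obtain ⟨k₀, hk₀⟩ := not_forall.1 hfv
  -- a line inside the kernel of `f`
  obtain ⟨v₁, hv₁0, hv₁⟩ : ∃ v₁ : ι → F, v₁ ≠ 0 ∧ ∀ k : K, f (k • v₁) = 0 := by
    let g : (ι → F) → K →ₗ[F] F := fun x => f ∘ₗ (LinearMap.toSpanSingleton K (ι → F) x).restrictScalars F
    choose u hu using fun x => hes (g x)
    have hu' : ∀ x k, l (u x * k) = f (k • x) := fun x k => LinearMap.congr_fun (hu x) k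
    obtain ⟨w, hw⟩ := exists_notMem _ (span_ne_top hS.two_le v)
    have huv : u v ≠ 0 := fun h => hk₀ (by rw [← hu', h, zero_mul, map_zero])
    refine ⟨w - (u w / u v) • v, fun h => hw ?_, fun k => ?_⟩
    · rw [sub_eq_zero] at h
      rw [h]; exact Submodule.smul_mem _ _ (Submodule.mem_span_singleton_self _)
    · rw [smul_sub, map_sub, smul_smul, ← hu', ← hu']
      have : u v * (k * (u w / u v)) = u w * k := by field_simp
      rw [this, sub_self]
  have hnot : v₁ ∉ ((K ∙ v).restrictScalars F) := by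
    intro h
    obtain ⟨c, hc⟩ := Submodule.mem_span_singleton.1 h
    have hc0 : c ≠ 0 := by rintro rfl; rw [zero_smul] at hc; exact hv₁0 hc.symm
    apply hk₀
    have := hv₁ (k₀ * c⁻¹)
    rwa [← hc, smul_smul, mul_assoc, inv_mul_cancel₀ hc0, mul_one] at this
  obtain ⟨f₁, hf₁, hf₁v⟩ := exists_dual _ hnot
  have hs : tv f₁ v ∈ H := basic f₁ v fun k =>
    hf₁ _ (Submodule.smul_mem _ k (Submodule.mem_span_singleton_self v))
  have ht : tv f v₁ ∈ H := basic f v₁ hv₁
  have hf1v : f₁ v = 0 := hf₁ _ (Submodule.mem_span_singleton_self v)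
  have hfv₁ : f v₁ = 0 := by simpa using hv₁ 1
  have hconj : tv f₁ v * tv f v₁ * (tv f₁ v)⁻¹ = tv f v₁ * tv f v := by
    rw [conj_tv _ hfv₁, tv_add_right f v₁ v hfv₁ hv]
    have hinv : ∀ x, f (act (tv f₁ v)⁻¹ x) = f x := fun x => by
      conv_rhs => rw [← act_act_inv (tv f₁ v) x]
      rw [act_tv hf1v, map_add, map_smul, hv, smul_zero, add_zero]
    congr 1
    · exact LinearMap.ext hinv
    · rw [act_tv hf1v, hf₁v, one_smul]
  have : tv f v = (tv f v₁)⁻¹ * (tv f₁ v * tv f v₁ * (tv f₁ v)⁻¹) := by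
    rw [hconj, inv_mul_cancel_left]
  rw [this]
  exact mul_mem (inv_mem ht) (mul_mem (mul_mem hs ht) (inv_mem hs))

end Cfsg.Agent.MaxCl.ExtF
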