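/-
A group between the K-linear group and GL(ι, F) that has an element which is not semilinear over K contains
the special linear group (K/F of prime degree, K-dimension at least two).
-/
import Mathlib
import Cfsg.Agent.Lib.MaxCl.ExtFieldRoot

set_option autoImplicit false
set_option maxHeartbeats 1600000

namespace Cfsg.Agent.MaxCl.ExtF

open scoped MatrixGroups Matrix
open Module

variable {ι : Type} [Fintype ι] [DecidableEq ι] {F : Type*} [Field F]
  {K : Type*} [Field K] [Algebra F K] [Module K (ι → F)] [IsScalarTower F K (ι → F)]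
  {H : Subgroup (GL ι F)}

/-- `g` is semilinear over `K` -/
def IsSemi (K : Type*) [Field K] [Module K (ι → F)] (g : GL ι F) : Prop :=
  ∀ k : K, ∃ k' : K, ∀ x : ι → F, act g (k • x) = k' • act g x

theorem exists_line_not_line [Finite K] (hm : 2 ≤ finrank K (ι → F)) {g : GL ι F}
    (hg : ¬ IsSemi K g) :
    ∃ (a : ι → F) (k : K), act g (k • a) ∉ (K ∙ act g a) := by
  by_contra hc
  push Not at hc
  apply hg
  choose σ hσ using fun a k => Submodule.mem_span_singleton.1 (hc a k)
  have hσ' : ∀ a k, act g (k • a) = σ a k • act g a := fun a k => (hσ a k).symm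
  have hsur : ∀ a, a ≠ 0 → Function.Surjective (σ a) := by
    intro a ha
    apply Finite.surjective_of_injective
    intro k l h
    exact smul_left_injective K ha (act_injective g (by show act g (k • a) = act g (l • a); rw [hσ', hσ', h]))
  have heq : ∀ a b : ι → F, a ≠ 0 → b ∉ (K ∙ a) → σ a = σ b := by
    intro a b ha hb
    funext k
    have hga : act g a ≠ 0 := fun h => ha (act_injective g (by rw [h, map_zero]))
    have h1 : (σ (a + b) k - σ a k) • act g a + (σ (a + b) k - σ b k) • act g b = 0 := by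
      have h := hσ' (a + b) k
      rw [smul_add, map_add, map_add, hσ', hσ', smul_add] at h
      linear_combination (norm := module) -h
    by_cases h2 : σ (a + b) k - σ b k = 0
    · rw [h2, zero_smul, add_zero, smul_eq_zero, or_iff_left hga, sub_eq_zero] at h1
      rw [← h1, ← sub_eq_zero]; exact h2
    · exfalso
      obtain ⟨l, hl⟩ := hsur a ha (-((σ (a + b) k - σ b k)⁻¹ * (σ (a + b) k - σ a k)))
      apply hb
      refine Submodule.mem_span_singleton.2 ⟨l, act_injective g ?_⟩
      rw [hσ', hl, neg_smul, mul_smul, eq_neg_of_add_eq_zero_left h1, smul_neg, neg_neg,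
        inv_smul_smul₀ h2]
  obtain ⟨a₀, ha₀⟩ := exists_notMem (⊥ : Submodule K (ι → F))
    (by intro h; have := finrank_top K (ι → F); rw [← h, finrank_bot] at this; omega)
  have ha₀' : a₀ ≠ 0 := fun h => ha₀ (h ▸ zero_mem _)
  intro k
  refine ⟨σ a₀ k, fun x => ?_⟩
  rcases eq_or_ne x 0 with rfl | hx
  · simp
  by_cases hx' : x ∈ (K ∙ a₀)
  · obtain ⟨c, hc'⟩ := exists_notMem _ (span_ne_top hm a₀)
    rw [hσ', heq a₀ c ha₀' hc', heq x c hx fun h => hc' ?_]
    obtain ⟨l, rfl⟩ := Submodule.mem_span_singleton.1 hx'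
    obtain ⟨j, rfl⟩ := Submodule.mem_span_singleton.1 h
    exact Submodule.mem_span_singleton.2 ⟨j * l, by rw [mul_smul]⟩
  · rw [hσ', heq a₀ x ha₀' hx']

/-- all root groups at a point are the linear ones -/
def LinCase (H : Subgroup (GL ι F)) (K : Type*) [Field K] [Module K (ι → F)] : Prop :=
  ∀ a : ι → F, a ≠ 0 → ∀ g ∈ H, (∀ k : K, act g (k • a) = k • a) →
    (∀ x, act g x - x ∈ (K ∙ a)) → ∀ (k : K) (x : ι → F), act g (k • x) = k • act g x

theorem exists_nonlinear_coef [Finite F] (hS : Setup (K := K) H) (h : ¬ LinCase H K) :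
    ∃ (φ : (ι → F) →ₗ[K] K) (a : ι → F) (C : K →ₗ[F] K),
      φ a = 0 ∧ φ ≠ 0 ∧ a ≠ 0 ∧ Coef H φ a C ∧ ∃ k, C k ≠ k * C 1 := by
  simp only [LinCase] at h
  push Not at h
  obtain ⟨a, ha, g, hg, hfix, him, k₀, x₀, hx₀⟩ := h
  choose L hL using fun x => Submodule.mem_span_singleton.1 (him x)
  have hL' : ∀ x, act g x = x + L x • a := fun x => by rw [hL]; abel
  let Λ : (ι → F) →ₗ[F] K :=
    { toFun := L
      map_add' := fun x y => smul_left_injective K ha (by
        show L (x + y) • a = (L x + L y) • a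
        rw [add_smul, hL, hL, hL, map_add]; abel)
      map_smul' := fun c x => smul_left_injective K ha (by
        show L (c • x) • a = (c • L x) • a
        rw [hL, map_smul, smul_assoc, hL, smul_sub]) }
  have hΛ : ∀ x, act g x = x + Λ x • a := hL'
  have hΛa : ∀ k : K, Λ (k • a) = 0 := fun k => smul_left_injective K ha (by
    show Λ (k • a) • a = (0 : K) • a
    have := hΛ (k • a)
    rw [hfix, left_eq_add] at this
    rw [this, zero_smul])
  obtain ⟨b, k₁, hb⟩ : ∃ (b : ι → F) (k : K), Λ (k • b) ≠ k * Λ b := by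
    refine ⟨x₀, k₀, fun h => hx₀ ?_⟩
    rw [hΛ, hΛ, h, mul_smul, smul_add]
  let C : K →ₗ[F] K := Λ ∘ₗ (LinearMap.toSpanSingleton K (ι → F) b).restrictScalars F
  have hC : ∀ j, C j = Λ (j • b) := fun j => rfl
  have hnl : ∃ k, C k ≠ k * C 1 := ⟨k₁, by rwa [hC, hC, one_smul]⟩
  have hba : b ∉ (K ∙ a) := by
    intro h
    obtain ⟨c, rfl⟩ := Submodule.mem_span_singleton.1 h
    apply hb
    rw [smul_smul, hΛa, hΛa, mul_zero]
  by_cases htop : Submodule.span K ({a, b} : Set (ι → F)) = ⊤
  · obtain ⟨φ, hφ, hφb⟩ := exists_phi _ hba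
    have hφa : φ a = 0 := hφ a (Submodule.mem_span_singleton_self a)
    refine ⟨φ, a, C, hφa, fun h0 => by simp [h0] at hφb, ha, ⟨g, hg, fun x => ?_⟩, hnl⟩
    obtain ⟨α, β, hx⟩ := Submodule.mem_span_pair.1 (htop ▸ Submodule.mem_top : x ∈ _)
    rw [hΛ, hC, ← hx]
    simp [map_add, hΛa, hφa, hφb]
  · obtain ⟨w, hw⟩ := exists_notMem _ htop
    obtain ⟨φ, hφ, hφw⟩ := exists_phi _ hw
    have hφa : φ a = 0 := hφ a (Submodule.subset_span (Set.mem_insert _ _))
    have hφb : φ b = 0 := hφ b (Submodule.subset_span (Set.mem_insert_of_mem _ rfl))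
    obtain ⟨u, hu, hua⟩ := exists_trans hS φ b hφb
    refine ⟨φ, a, C, hφa, fun h0 => by simp [h0] at hφw, ha,
      ⟨g * u * g⁻¹ * u⁻¹, mul_mem (mul_mem (mul_mem hg hu) (inv_mem hg)) (inv_mem hu), fun y => ?_⟩, hnl⟩
    obtain ⟨x, rfl⟩ : ∃ x, act u (act g x) = y := ⟨act g⁻¹ (act u⁻¹ y), by rw [act_act_inv, act_act_inv]⟩
    rw [act_mul, act_inv_act, act_mul, act_inv_act, act_mul, hΛ, hua, hua, hΛ, map_add φ, map_smul, hφa,
      smul_zero, add_zero, map_add φ, map_add φ, map_smul, map_smul, hφa, hφb, map_add Λ, hC, add_smul]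
    simp only [smul_zero, add_zero]
    abel

/-- the data produced by maximising the intersection of a member with a line -/
structure Config (H : Subgroup (GL ι F)) (K : Type*) [Field K] [Algebra F K] [Module K (ι → F)]
    [IsScalarTower F K (ι → F)] (g : GL ι F) (a₀ w₁ : ι → F) (D : Submodule F K) : Prop where
  mem : g ∈ H
  ne : a₀ ≠ 0
  D_iff : ∀ k : K, k ∈ D ↔ ∃ j : K, act g (j • a₀) = k • act g a₀
  w_mem : ∃ j : K, act g (j • a₀) = w₁
  w_not : w₁ ∉ (K ∙ act g a₀)
  W_eq : ∀ j : K, ∃ (t : F) (d : K), d ∈ D ∧ act g (j • a₀) = t • w₁ + d • act g a₀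

/-- the scalars `k` with `k • g a` in the image of the line of `a` -/
def lineD (K : Type*) [Field K] [Algebra F K] [Module K (ι → F)] [IsScalarTower F K (ι → F)]
    (g : GL ι F) (a : ι → F) : Submodule F K :=
  (((K ∙ a).restrictScalars F).map (act g)).comap
    ((LinearMap.toSpanSingleton K (ι → F) (act g a)).restrictScalars F)

theorem mem_lineD (g : GL ι F) (a : ι → F) (k : K) :
    k ∈ lineD K g a ↔ ∃ j : K, act g (j • a) = k • act g a := by
  simp only [lineD, Submodule.mem_comap, Submodule.mem_map, LinearMap.coe_restrictScalars,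
    LinearMap.toSpanSingleton_apply, Submodule.restrictScalars_mem, Submodule.mem_span_singleton]
  exact ⟨fun ⟨_, ⟨j, hj⟩, hy⟩ => ⟨j, by rw [hj]; exact hy⟩, fun ⟨j, hj⟩ => ⟨_, ⟨j, rfl⟩, hj⟩⟩

theorem exists_config [Fintype F] (hS : Setup (K := K) H) {g : GL ι F} (hg : g ∈ H)
    (hns : ¬ IsSemi K g) :
    ∃ (g : GL ι F) (a₀ w₁ : ι → F) (D : Submodule F K), Config H K g a₀ w₁ D := by
  classical
  haveI : Module.Finite F K := Module.finite_of_finrank_pos hS.rPrime.pos
  haveI : Finite K := Module.finite_of_finite F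
  let S : Set ℕ := {n | ∃ g ∈ H, ∃ (a₀ : ι → F) (k : K), act g (k • a₀) ∉ (K ∙ act g a₀) ∧
    finrank F (lineD K g a₀) = n}
  have hSne : ∃ n, n ∈ S := by
    obtain ⟨a, k, h⟩ := exists_line_not_line hS.two_le hns
    exact ⟨_, g, hg, a, k, h, rfl⟩
  have hbound : ∀ n ∈ S, n ≤ finrank F K := by
    rintro n ⟨g, -, a, k, -, rfl⟩
    exact Submodule.finrank_le _
  obtain ⟨n₀, hn₀⟩ := hSne
  obtain ⟨g, hg, a₀, k₁, hk₁, hfin⟩ : Nat.findGreatest (· ∈ S) (finrank F K) ∈ S :=
    Nat.findGreatest_spec (hbound n₀ hn₀) hn₀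
  have hmax : ∀ n ∈ S, n ≤ finrank F (lineD K g a₀) := fun n hn => by
    rw [hfin]; exact Nat.le_findGreatest (hbound n hn) hn
  have ha₀ : a₀ ≠ 0 := by
    rintro rfl
    simp at hk₁
  set D := lineD K g a₀
  set a := act g a₀ with hadef
  have hane : a ≠ 0 := fun h => ha₀ (act_injective g (by rw [← hadef, h, map_zero]))
  have h1D : (1 : K) ∈ D := (mem_lineD g a₀ 1).2 ⟨1, by rw [one_smul, one_smul]⟩
  set w₁ := act g (k₁ • a₀) with hw₁
  refine ⟨g, a₀, w₁, D, hg, ha₀, mem_lineD g a₀, ⟨k₁, rfl⟩, hk₁, ?_⟩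
  have hDtop : D ≠ ⊤ := by
    intro h
    -- then the whole line goes into the line
    let f : K →ₗ[F] (ι → F) := act g ∘ₗ (LinearMap.toSpanSingleton K (ι → F) a₀).restrictScalars F
    have hsub : (⊤ : Submodule F K).map ((LinearMap.toSpanSingleton K (ι → F) a).restrictScalars F) ≤
        LinearMap.range f := by
      rintro _ ⟨k, -, rfl⟩
      obtain ⟨j, hj⟩ := (mem_lineD g a₀ k).1 (by rw [show lineD K g a₀ = ⊤ from h]; trivial)
      exact ⟨j, hj⟩
    have hle : finrank F (LinearMap.range f) ≤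
        finrank F ((⊤ : Submodule F K).map ((LinearMap.toSpanSingleton K (ι → F) a).restrictScalars F)) := by
      refine (LinearMap.finrank_range_le f).trans (le_of_eq ?_)
      rw [Submodule.map_top, LinearMap.finrank_range_of_inj]
      exact smul_left_injective K hane
    have : f k₁ ∈ (⊤ : Submodule F K).map
        ((LinearMap.toSpanSingleton K (ι → F) a).restrictScalars F) := by
      rw [Submodule.eq_of_le_of_finrank_le hsub hle]; exact ⟨k₁, rfl⟩
    obtain ⟨k, -, hk⟩ := this
    exact hk₁ (Submodule.mem_span_singleton.2 ⟨k, hk⟩)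
  -- no translation increases the intersection
  have key : ∀ (φ : (ι → F) →ₗ[K] K), φ a = 0 → φ w₁ ∈ D → φ w₁ ≠ 0 → ∀ j : K, φ (act g (j • a₀)) ∈ D := by
    intro φ hφa hd hd0 j
    by_contra hj
    obtain ⟨u, hu, hua⟩ := exists_trans hS φ a hφa
    have huinv : ∀ x, act u⁻¹ x = x - φ x • a := fun x => act_injective u (by
      rw [act_act_inv, hua, map_sub, map_smul, hφa, smul_zero, sub_zero, sub_add_cancel])
    let g' := g⁻¹ * u * g
    have hg' : g' ∈ H := mul_mem (mul_mem (inv_mem hg) hu) hg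
    have hg'a : act g' a₀ = a₀ := by
      rw [act_mul, act_mul, ← hadef, hua, hφa, zero_smul, add_zero, hadef, act_inv_act]
    have hE : ∀ k i : K, act u⁻¹ (act g (k • a₀)) = act g (i • a₀) → k ∈ lineD K g' a₀ := by
      intro k i h
      refine (mem_lineD _ _ _).2 ⟨i, ?_⟩
      rw [hg'a, act_mul, act_mul, ← h, act_act_inv, act_inv_act]
    have hnot : ∀ i : K, act u⁻¹ (act g (j • a₀)) ≠ act g (i • a₀) := by
      intro i h
      rw [huinv] at h
      apply hj
      refine (mem_lineD g a₀ _).2 ⟨j - i, ?_⟩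
      rw [sub_smul, map_sub, ← h, sub_sub_cancel]
    have hk : ∃ k : K, act g' (k • a₀) ∉ (K ∙ act g' a₀) := by
      by_contra hc
      push Not at hc
      let f : K →ₗ[F] (ι → F) := act g' ∘ₗ (LinearMap.toSpanSingleton K (ι → F) a₀).restrictScalars F
      choose τ hτ using fun k => Submodule.mem_span_singleton.1 (hc k)
      have hτi : Function.Injective τ := fun k l h => smul_left_injective K ha₀ (act_injective g' (by
        show act g' (k • a₀) = act g' (l • a₀)
        rw [← hτ, ← hτ, h]))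
      obtain ⟨i, hi⟩ := Finite.surjective_of_injective hτi j
      have h2 : act g' (i • a₀) = j • a₀ := by rw [← hτ, hi, hg'a]
      rw [act_mul, act_mul] at h2
      apply hnot i
      rw [← h2, act_act_inv, act_inv_act]
    obtain ⟨k, hk⟩ := hk
    have hle := hmax _ ⟨g', hg', a₀, k, hk, rfl⟩
    -- the old intersection sits properly inside the new one
    let A : Submodule F K := ((K ∙ a).restrictScalars F).comap
      (act g ∘ₗ (LinearMap.toSpanSingleton K (ι → F) a₀).restrictScalars F)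
    have hA : A ≤ lineD K g' a₀ := by
      intro i hi
      obtain ⟨c, hc⟩ := Submodule.mem_span_singleton.1 hi
      have hc' : act g (i • a₀) = c • a := hc.symm
      refine hE i i ?_
      rw [huinv, hc', map_smul, hφa, smul_zero, zero_smul, sub_zero]
    have hk₁mem : k₁ ∈ lineD K g' a₀ := by
      obtain ⟨i, hi⟩ := (mem_lineD g a₀ _).1 hd
      refine hE k₁ (k₁ - i) ?_
      rw [huinv, sub_smul, map_sub, hi]
    have hk₁A : k₁ ∉ A := fun h => hk₁ h
    have hlt : finrank F A < finrank F (lineD K g' a₀) :=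
      Submodule.finrank_lt_finrank_of_lt (lt_of_le_of_ne hA (fun h => hk₁A (h ▸ hk₁mem)))
    have hAD : finrank F D ≤ finrank F A := by
      have h1 : finrank F A = finrank F (A.map (act g ∘ₗ (LinearMap.toSpanSingleton K (ι → F) a₀).restrictScalars F)) :=
        ((Submodule.equivMapOfInjective _ (fun x y h => smul_left_injective K ha₀ (act_injective g h)) A).finrank_eq)
      have h2 : finrank F D = finrank F (D.map ((LinearMap.toSpanSingleton K (ι → F) a).restrictScalars F)) :=
        ((Submodule.equivMapOfInjective _ (smul_left_injective K hane) D).finrank_eq)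
      rw [h1, h2]
      refine Submodule.finrank_mono ?_
      rintro _ ⟨d, hd, rfl⟩
      obtain ⟨i, hi⟩ := (mem_lineD g a₀ d).1 hd
      refine ⟨i, Submodule.mem_span_singleton.2 ⟨d, hi.symm⟩, hi⟩
    omega
  -- hence the member lies in `F • w₁ + D • a`
  intro j
  obtain ⟨φ, hφ, hφw⟩ := exists_phi _ hk₁
  have hφa : φ a = 0 := hφ a (Submodule.mem_span_singleton_self a)
  have hw : act g (j • a₀) ∈ Submodule.span K ({a, w₁} : Set (ι → F)) := by
    by_contra hcon
    obtain ⟨ψ, hψ, hψw⟩ := exists_phi _ hcon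
    obtain ⟨c, hc⟩ : ∃ c, c ∉ D := by
      by_contra h; push Not at h; exact hDtop (eq_top_iff.2 fun x _ => h x)
    have hψa : ψ a = 0 := hψ a (Submodule.subset_span (Set.mem_insert _ _))
    have hψw₁ : ψ w₁ = 0 := hψ w₁ (Submodule.subset_span (Set.mem_insert_of_mem _ rfl))
    have := key (φ + (c - φ (act g (j • a₀))) • ψ) (by simp [hφa, hψa]) (by simpa [hφw, hψw₁] using h1D)
      (by simp [hφw, hψw₁]) j
    simp [hψw, hc] at this
  obtain ⟨α, β, hαβ⟩ := Submodule.mem_span_pair.1 hw
  -- `β` stabilises `D`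
  let Stab : Subalgebra F K :=
    { carrier := {c | ∀ d ∈ D, c * d ∈ D}
      mul_mem' := fun {x y} hx hy d hd => by rw [mul_assoc]; exact hx _ (hy d hd)
      one_mem' := fun d hd => by rwa [one_mul]
      add_mem' := fun {x y} hx hy d hd => by rw [add_mul]; exact D.add_mem (hx d hd) (hy d hd)
      zero_mem' := fun d _ => by rw [zero_mul]; exact D.zero_mem
      algebraMap_mem' := fun c d hd => by rw [← Algebra.smul_def]; exact D.smul_mem c hd }
  have hβ : β ∈ Stab := by
    intro d hd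
    rcases eq_or_ne d 0 with rfl | hd0
    · rw [mul_zero]; exact D.zero_mem
    have := key (d • φ) (by simp [hφa]) (by simpa [hφw] using hd) (by simp [hφw, hd0]) j
    rw [← hαβ, LinearMap.smul_apply, map_add, map_smul, map_smul, hφa, hφw, smul_zero, zero_add,
      smul_eq_mul, smul_eq_mul, mul_one, mul_comm] at this
    exact this
  haveI := Subalgebra.isSimpleOrder_of_finrank_prime F K hS.rPrime
  rcases IsSimpleOrder.eq_bot_or_eq_top Stab with hb | hb
  · obtain ⟨t, rfl⟩ := Algebra.mem_bot.1 (hb ▸ hβ)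
    refine ⟨t, α, (mem_lineD g a₀ α).2 ⟨j - t • k₁, ?_⟩, ?_⟩
    · rw [sub_smul, map_sub, smul_assoc, (act g).map_smul t, ← hw₁, ← hαβ, algebraMap_smul, add_sub_cancel_right]
    · rw [← hαβ, algebraMap_smul, add_comm]
  · exfalso
    apply hDtop
    refine eq_top_iff.2 fun c _ => ?_
    have := (hb ▸ Algebra.mem_top : c ∈ Stab) 1 h1D
    rwa [mul_one] at this

section
variable {g : GL ι F} {a₀ w₁ : ι → F} {D : Submodule F K}

/-- the elements of the root group at the member which fix the line -/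
theorem Config.root [Fintype F] (hS : Setup (K := K) H) (c : Config H K g a₀ w₁ D) :
    ∃ (k₁ : K) (l : K →ₗ[F] F) (φ₀ : (ι → F) →ₗ[K] K),
      l k₁ = 1 ∧ (∀ d ∈ D, l d = 0) ∧ (∀ k, k - l k • k₁ ∈ D) ∧ φ₀ a₀ = 0 ∧ finrank F D + 1 = finrank F K ∧
      (∀ κ : K, ∃ s ∈ H, (∀ x, act s x = x + act g ((φ₀ (act g⁻¹ x) * κ) • a₀)) ∧
        ∀ k, act s (k • act g a₀) = k • act g a₀ + l k • act g (κ • a₀)) := by
  classical
  haveI : Module.Finite F K := Module.finite_of_finrank_pos hS.rPrime.pos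
  set a := act g a₀ with hadef
  have hane : a ≠ 0 := fun h => c.ne (act_injective g (by rw [← hadef, h, map_zero]))
  let f : K →ₗ[F] (ι → F) := act g ∘ₗ (LinearMap.toSpanSingleton K (ι → F) a₀).restrictScalars F
  have hf : Function.Injective f := fun x y h => smul_left_injective K c.ne (act_injective g h)
  let T := (LinearMap.toSpanSingleton K (ι → F) a).restrictScalars F
  have hT : Function.Injective T := smul_left_injective K hane
  have hrange : LinearMap.range f ≤ D.map T ⊔ F ∙ w₁ := by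
    rintro _ ⟨j, rfl⟩
    obtain ⟨t, d, hd, h⟩ := c.W_eq j
    have : f j = t • w₁ + d • a := h
    rw [this]
    exact add_mem (Submodule.mem_sup_right (Submodule.smul_mem _ _ (Submodule.mem_span_singleton_self _)))
      (Submodule.mem_sup_left ⟨d, hd, rfl⟩)
  have hge : finrank F K ≤ finrank F D + 1 := by
    rw [← LinearMap.finrank_range_of_inj hf]
    refine (Submodule.finrank_mono hrange).trans ((Submodule.finrank_add_le_finrank_add_finrank _ _).trans ?_)
    refine add_le_add (le_of_eq (Submodule.equivMapOfInjective T hT D).finrank_eq.symm) ?_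
    refine (finrank_span_le_card ({w₁} : Set (ι → F))).trans ?_
    simp
  obtain ⟨k₁, hk₁⟩ : ∃ k, k ∉ D := by
    by_contra h
    push Not at h
    have hle : D.map T ≤ LinearMap.range f := by
      rintro _ ⟨d, hd, rfl⟩
      obtain ⟨j, hj⟩ := (c.D_iff d).1 hd
      exact ⟨j, hj⟩
    have heq : D.map T = LinearMap.range f := Submodule.eq_of_le_of_finrank_le hle (by
      rw [LinearMap.finrank_range_of_inj hf, ← (Submodule.equivMapOfInjective T hT D).finrank_eq,
        show D = ⊤ from eq_top_iff.2 fun x _ => h x, finrank_top])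
    obtain ⟨j, hj⟩ := c.w_mem
    obtain ⟨d, -, hd⟩ : w₁ ∈ D.map T := heq ▸ ⟨j, hj⟩
    exact c.w_not (Submodule.mem_span_singleton.2 ⟨d, hd⟩)
  have hsup : D ⊔ F ∙ k₁ = ⊤ := by
    apply Submodule.eq_top_of_finrank_eq
    have := Submodule.finrank_sup_span_singleton (K := F) hk₁
    have := Submodule.finrank_le (D ⊔ F ∙ k₁)
    omega
  have hDr : finrank F D + 1 = finrank F K := by
    rw [← Submodule.finrank_sup_span_singleton hk₁, hsup, finrank_top]
  obtain ⟨l₀, hl₀, hle⟩ := Submodule.exists_le_ker_of_notMem hk₁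
  let l : K →ₗ[F] F := (l₀ k₁)⁻¹ • l₀
  have hl1 : l k₁ = 1 := by simp [l, inv_mul_cancel₀ hl₀]
  have hlD : ∀ d ∈ D, l d = 0 := fun d hd => by simp [l, LinearMap.mem_ker.1 (hle hd)]
  have hdec : ∀ k, k - l k • k₁ ∈ D := by
    intro k
    obtain ⟨d, hd, y, hy, rfl⟩ := Submodule.mem_sup.1 (hsup ▸ Submodule.mem_top : k ∈ D ⊔ F ∙ k₁)
    obtain ⟨t, rfl⟩ := Submodule.mem_span_singleton.1 hy
    simpa [hlD d hd, hl1] using hd
  have hnot : act g⁻¹ (k₁ • a) ∉ (K ∙ a₀) := by
    intro h
    obtain ⟨j, hj⟩ := Submodule.mem_span_singleton.1 h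
    exact hk₁ ((c.D_iff k₁).2 ⟨j, by rw [hj, act_act_inv]⟩)
  obtain ⟨φ₀, hφ₀, hφ₀1⟩ := exists_phi _ hnot
  have hφa₀ : φ₀ a₀ = 0 := hφ₀ a₀ (Submodule.mem_span_singleton_self _)
  refine ⟨k₁, l, φ₀, hl1, hlD, hdec, hφa₀, hDr, fun κ => ?_⟩
  obtain ⟨u, hu, hua⟩ := exists_trans hS φ₀ (κ • a₀) (by rw [map_smul, hφa₀, smul_zero])
  have hs : ∀ x, act (g * u * g⁻¹) x = x + act g ((φ₀ (act g⁻¹ x) * κ) • a₀) := fun x => by
    rw [act_mul, act_mul, hua, map_add, act_act_inv, smul_smul]
  refine ⟨g * u * g⁻¹, mul_mem (mul_mem c.mem hu) (inv_mem c.mem), hs, fun k => ?_⟩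
  have hval : φ₀ (act g⁻¹ (k • a)) = algebraMap F K (l k) := by
    obtain ⟨j, hj⟩ := (c.D_iff _).1 (hdec k)
    have hk : k • a = act g (j • a₀) + l k • k₁ • a := by
      rw [hj, ← smul_assoc, ← add_smul, sub_add_cancel]
    rw [hk, map_add, act_inv_act, map_add, map_smul φ₀ j a₀, hφa₀, smul_zero, zero_add, map_smul,
      ← algebraMap_smul K (l k) (act g⁻¹ (k₁ • a)), map_smul, hφ₀1, smul_eq_mul, mul_one]
  rw [hs, hval, ← smul_smul, algebraMap_smul, map_smul]

/-- outside the plane case a rank one coefficient appears at once -/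
theorem Config.sl_le_of_span [Fintype F] (hS : Setup (K := K) H) (c : Config H K g a₀ w₁ D)
    (hsp : Submodule.span K ({act g a₀, w₁} : Set (ι → F)) ≠ ⊤) :
    Cfsg.Geo.specialLinear ι F ≤ H := by
  set a := act g a₀ with hadef
  have hane : a ≠ 0 := fun h => c.ne (act_injective g (by rw [← hadef, h, map_zero]))
  obtain ⟨w, hw⟩ := exists_notMem _ hsp
  obtain ⟨ψ, hψ, hψw⟩ := exists_phi _ hw
  have hψa : ψ a = 0 := hψ a (Submodule.subset_span (Set.mem_insert _ _))
  have hψw₁ : ψ w₁ = 0 := hψ w₁ (Submodule.subset_span (Set.mem_insert_of_mem _ rfl))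
  obtain ⟨k₁, l, φ₀, hl1, -, -, -, -, hroot⟩ := c.root hS
  obtain ⟨s, hs, hsx, hsa⟩ := hroot 1
  obtain ⟨t, ht, hta⟩ := exists_trans hS ψ (k₁ • a) (by rw [map_smul, hψa, smul_zero])
  have hWψ : ∀ j : K, ψ (act g (j • a₀)) = 0 := by
    intro j
    obtain ⟨t', d, -, h⟩ := c.W_eq j
    rw [h, map_add, ← algebraMap_smul K t' w₁, map_smul, map_smul, hψa, hψw₁, smul_zero, smul_zero,
      add_zero]
  have hψ0 : ψ ≠ 0 := fun h => by simp [h] at hψw
  refine sl_le_of_rankOne hS hψa hψ0 hane (l ∘ₗ LinearMap.mulRight F k₁) ?_ 1 one_ne_zero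
    ⟨s * t * s⁻¹ * t⁻¹, mul_mem (mul_mem (mul_mem hs ht) (inv_mem hs)) (inv_mem ht), fun y => ?_⟩
  · intro h
    have := LinearMap.congr_fun h 1
    simp [hl1] at this
  obtain ⟨x, rfl⟩ : ∃ x, act t (act s x) = y := ⟨act s⁻¹ (act t⁻¹ y), by rw [act_act_inv, act_act_inv]⟩
  have hψs : ψ (act s x) = ψ x := by rw [hsx, map_add, hWψ, add_zero]
  rw [act_mul, act_inv_act, act_mul, act_inv_act, act_mul, hta, hta (act s x), map_add, map_add ψ,
    map_smul ψ, map_smul ψ k₁ a, hψa, smul_zero, smul_zero, add_zero, smul_smul, hsa, one_smul, hψs]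
  simp [smul_smul, add_assoc, hadef]

/-- in the plane case a non-linear coefficient gives one of rank one -/
theorem Config.sl_le_of_nonlinear [Fintype F] (hS : Setup (K := K) H) (c : Config H K g a₀ w₁ D)
    (hlin : ¬ LinCase H K) : Cfsg.Geo.specialLinear ι F ≤ H := by
  set a := act g a₀ with hadef
  have hane : a ≠ 0 := fun h => c.ne (act_injective g (by rw [← hadef, h, map_zero]))
  obtain ⟨φ', a', C, hφa', hφ', ha', hC, k, hk⟩ := exists_nonlinear_coef hS hlin
  obtain ⟨φ, hφ, hφw⟩ := exists_phi _ c.w_not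
  have hφa : φ a = 0 := hφ a (Submodule.mem_span_singleton_self a)
  have hφ0 : φ ≠ 0 := fun h => by simp [h] at hφw
  have hC₁ := hC.transfer hS hφa' hφ' ha' hφa hφ0 hane
  let C₀ : K →ₗ[F] K := C + -(LinearMap.mulLeft F (C 1))
  have hC₀ : Coef H φ a C₀ := hC₁.add hφa ((coef_mulLeft hS hφa (C 1)).neg hφa)
  have hC₀1 : C₀ 1 = 0 := by simp [C₀]
  have hC₀k : C₀ k ≠ 0 := by
    simp only [C₀, ← sub_eq_add_neg, LinearMap.sub_apply, LinearMap.mulLeft_apply]
    rw [sub_ne_zero, mul_comm]
    exact hk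
  obtain ⟨k₁, l, φ₀, hl1, -, -, -, -, hroot⟩ := c.root hS
  obtain ⟨s, hs, hsx, hsa⟩ := hroot 1
  let C₂ : K →ₗ[F] K := LinearMap.mulLeft F (k₁ / C₀ k) ∘ₗ C₀
  have hC₂ : Coef H φ a C₂ := (hC₀.bimodule hS hφa hφ0 hane _).2
  have hC₂1 : C₂ 1 = 0 := by simp [C₂, hC₀1]
  have hC₂k : C₂ k = k₁ := by simp [C₂, div_mul_cancel₀ _ hC₀k]
  let C₃ : K →ₗ[F] K := C₂ + (l ∘ₗ C₂).smulRight 1
  have hC₃ : Coef H φ a C₃ := hC₂.conj hs fun x => by
    obtain ⟨t, d, -, h⟩ := c.W_eq (φ₀ (act g⁻¹ x) * 1)
    have h1 : φ (act s x) = φ x + algebraMap F K t := by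
      rw [hsx, h, map_add, map_add, ← algebraMap_smul K t w₁, map_smul, map_smul, hφa, hφw, smul_zero,
        add_zero, smul_eq_mul, mul_one]
    have h2 : ∀ t : F, C₂ (algebraMap F K t) = 0 := fun t => by
      rw [Algebra.algebraMap_eq_smul_one, map_smul, hC₂1, smul_zero]
    rw [hsa, one_smul, h1]
    simp only [C₃, map_add, LinearMap.add_apply, LinearMap.smulRight_apply, LinearMap.comp_apply, h2,
      map_zero, add_zero, zero_smul, add_smul, smul_assoc, one_smul, hadef]
  refine sl_le_of_rankOne hS hφa hφ0 hane (l ∘ₗ C₂) ?_ 1 one_ne_zero ?_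
  · intro h
    have := LinearMap.congr_fun h k
    simp [hC₂k, hl1] at this
  · have := hC₃.add hφa (hC₂.neg hφa)
    convert this using 1
    simp [C₃]

/-- if all root groups are linear then `F` has two elements and `K` four -/
theorem Config.small [Fintype F] (hS : Setup (K := K) H) (c : Config H K g a₀ w₁ D)
    (hlin : LinCase H K) :
    ∃ k₁ : K, k₁ * k₁ = k₁ + 1 ∧ (∀ t : F, t = 0 ∨ t = 1) ∧ k₁ ∉ D ∧
      (∀ k : K, ∃ s t : F, k = algebraMap F K s + t • k₁) ∧
      ∃ (l : K →ₗ[F] F) (φ₀ : (ι → F) →ₗ[K] K), l k₁ = 1 ∧ l 1 = 0 ∧ φ₀ a₀ = 0 ∧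
        (∀ κ : K, ∃ s ∈ H, (∀ x, act s x = x + act g ((φ₀ (act g⁻¹ x) * κ) • a₀)) ∧
          ∀ k, act s (k • act g a₀) = k • act g a₀ + l k • act g (κ • a₀)) := by
  classical
  haveI : Module.Finite F K := Module.finite_of_finrank_pos hS.rPrime.pos
  haveI : Finite K := Module.finite_of_finite F
  obtain ⟨k₁, l, φ₀, hl1, hlD, hdec, hφa₀, hDr, hroot⟩ := c.root hS
  set a := act g a₀ with hadef
  have hane : a ≠ 0 := fun h => c.ne (act_injective g (by rw [← hadef, h, map_zero]))
  have hk₁D : k₁ ∉ D := fun h => by simpa [hl1] using hlD k₁ h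
  have h1D : (1 : K) ∈ D := (c.D_iff 1).2 ⟨1, by rw [one_smul, one_smul]⟩
  have hl10 : l 1 = 0 := hlD 1 h1D
  obtain ⟨φ, hφ, hφw⟩ := exists_phi _ c.w_not
  have hφa : φ a = 0 := hφ a (Submodule.mem_span_singleton_self a)
  -- the transvections of the line are multiplicative
  have hmul : ∀ d ∈ D, ∀ i j : K,
      i * j + l (i * j) • d = (i + l i • d) * (j + l j • d) := by
    intro d hd
    obtain ⟨κ₀, hκ₀⟩ := (c.D_iff d).1 hd
    obtain ⟨s, hs, hsx, hsa⟩ := hroot κ₀
    let X : K →ₗ[F] K := LinearMap.id + l.smulRight d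
    have hX : ∀ k, X k = k + l k • d := fun k => rfl
    have hsX : ∀ k, act s (k • a) = X k • a := fun k => by
      rw [hadef, hsa, hκ₀, hX, add_smul, smul_assoc]
    have hXi : Function.Injective X := fun x y h => by
      exact smul_left_injective K hane (act_injective s (by show act s (x • a) = act s (y • a); rw [hsX, hsX, h]))
    have hXs : Function.Surjective X := Finite.surjective_of_injective hXi
    have hX1 : X 1 = 1 := by rw [hX, hl10, zero_smul, add_zero]
    have hsa1 : act s a = a := by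
      have := hsX 1
      rwa [hX1, one_smul] at this
    let L : K → (ι → F) → K := fun κ x => X (κ * φ (act s⁻¹ x))
    have hLlin : ∀ κ (k : K) (x : ι → F), L κ (k • x) = k * L κ x := by
      intro κ
      obtain ⟨u, hu, hua⟩ := exists_trans hS φ (κ • a) (by rw [map_smul, hφa, smul_zero])
      have hg' : ∀ x, act (s * u * s⁻¹) x = x + L κ x • a := fun x => by
        rw [act_mul, act_mul, hua, map_add, act_act_inv, smul_smul, hsX, mul_comm]
      have hfix : ∀ k : K, act (s * u * s⁻¹) (k • a) = k • a := fun k => by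
        obtain ⟨i, rfl⟩ := hXs k
        rw [← hsX, act_mul, act_mul, act_inv_act, hua, map_smul φ, hφa, smul_zero, zero_smul, add_zero]
      have := hlin a hane _ (mul_mem (mul_mem hs hu) (inv_mem hs)) hfix
        (fun x => by rw [hg', add_sub_cancel_left]; exact Submodule.smul_mem _ _ (Submodule.mem_span_singleton_self a))
      intro k x
      refine smul_left_injective K hane ?_
      have h := this k x
      rw [hg', hg', smul_add, add_right_inj, smul_smul] at h
      exact h
    have hLsub : ∀ κ x y, L κ (x - y) = L κ x - L κ y := fun κ x y => by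
      simp only [L, map_sub, mul_sub]
    set z := act s w₁
    have hLz : ∀ κ, L κ z = X κ := fun κ => by simp only [L, z, act_inv_act, hφw, mul_one]
    have hrel : ∀ κ x, L κ x = L 1 x * X κ := by
      intro κ x
      have h0 : L 1 (x - L 1 x • z) = 0 := by rw [hLsub, hLlin, hLz, hX1, mul_one, sub_self]
      have h1 : φ (act s⁻¹ (x - L 1 x • z)) = 0 := by
        apply hXi
        rw [map_zero, ← h0]
        simp only [L, one_mul]
      have h2 : L κ (x - L 1 x • z) = 0 := by simp only [L, h1, mul_zero, map_zero]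
      rwa [hLsub, hLlin, hLz, sub_eq_zero] at h2
    intro i j
    have h := hrel i (act s (j • w₁))
    simp only [L, act_inv_act, map_smul φ, hφw, smul_eq_mul, mul_one, one_mul] at h
    rw [← hX, ← hX, ← hX, h, mul_comm]
  -- the fixed field is the prime one
  let Fix : Subalgebra F K :=
    { carrier := {k | l k = 0}
      mul_mem' := fun {x y} hx hy => by
        have h := hmul 1 h1D x y
        simp only [Set.mem_setOf_eq] at hx hy ⊢
        rw [hx, hy, zero_smul, add_zero, add_zero, add_eq_left] at h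
        simpa using h
      one_mem' := hl10
      add_mem' := fun {x y} hx hy => by
        simp only [Set.mem_setOf_eq] at hx hy ⊢
        rw [map_add, hx, hy, add_zero]
      zero_mem' := map_zero l
      algebraMap_mem' := fun t => by
        simp only [Set.mem_setOf_eq]
        rw [Algebra.algebraMap_eq_smul_one, map_smul, hl10, smul_zero] }
  haveI := Subalgebra.isSimpleOrder_of_finrank_prime F K hS.rPrime
  have hbot : Fix = ⊥ := by
    rcases IsSimpleOrder.eq_bot_or_eq_top Fix with h | h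
    · exact h
    · exfalso
      have : k₁ ∈ Fix := h ▸ Algebra.mem_top
      exact one_ne_zero (hl1.symm.trans (this : l k₁ = 0))
  have hDF : ∀ d ∈ D, ∃ t : F, algebraMap F K t = d := fun d hd =>
    Algebra.mem_bot.1 (hbot ▸ (hlD d hd : d ∈ Fix))
  have hsplit : ∀ k : K, ∃ s t : F, k = algebraMap F K s + t • k₁ := fun k => by
    obtain ⟨s, hs⟩ := hDF _ (hdec k)
    exact ⟨s, l k, by rw [hs, sub_add_cancel]⟩
  have hFD : ∀ t : F, algebraMap F K t ∈ D := fun t => by
    rw [Algebra.algebraMap_eq_smul_one]; exact D.smul_mem t h1D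
  -- the square of `k₁`
  have hal : ∀ t : F, t ≠ 0 → l (k₁ * k₁) • (1 : K) = 2 * k₁ + algebraMap F K t := by
    intro t ht
    have h := hmul _ (hFD t) k₁ k₁
    rw [hl1, one_smul, Algebra.smul_def] at h
    have ht' : algebraMap F K t ≠ 0 := (map_ne_zero _).2 ht
    rw [Algebra.smul_def, mul_one]
    apply mul_right_cancel₀ ht'
    linear_combination h
  have hF2 : ∀ t : F, t = 0 ∨ t = 1 := by
    intro t
    by_contra hc
    push Not at hc
    have h1 := hal 1 one_ne_zero
    rw [hal t hc.1, map_one, add_right_inj] at h1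
    exact hc.2 ((algebraMap F K).injective (h1.trans (map_one _).symm))
  have hF2' : (1 : F) + 1 = 0 := by
    rcases hF2 (1 + 1) with h | h
    · exact h
    · exfalso
      rw [add_eq_left] at h
      exact one_ne_zero h
  have hK2 : (2 : K) = 0 := by
    have := congrArg (algebraMap F K) hF2'
    rwa [map_add, map_one, map_zero, one_add_one_eq_two] at this
  have hl2 : l (k₁ * k₁) = 1 := by
    rcases hF2 (l (k₁ * k₁)) with h | h
    · exfalso
      have := hal 1 one_ne_zero
      rw [h, zero_smul, hK2, zero_mul, zero_add, map_one] at this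
      exact zero_ne_one this
    · exact h
  obtain ⟨t, ht⟩ := hDF _ (hdec (k₁ * k₁))
  rw [hl2, one_smul] at ht
  refine ⟨k₁, ?_, hF2, hk₁D, hsplit, l, φ₀, hl1, hl10, hφa₀, hroot⟩
  rcases hF2 t with rfl | rfl
  · exfalso
    rw [map_zero, eq_comm, sub_eq_zero] at ht
    have h0 : k₁ ≠ 0 := fun h => hk₁D (h ▸ D.zero_mem)
    have h1 : k₁ = 1 := mul_left_cancel₀ h0 (by rw [mul_one]; exact ht)
    exact hk₁D (h1 ▸ h1D)
  · rw [map_one, eq_sub_iff_add_eq] at ht
    rw [← ht, add_comm]

/-- the plane over the field of four elements -/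
theorem Config.not_linCase [Fintype F] (hS : Setup (K := K) H) (c : Config H K g a₀ w₁ D)
    (hsp : Submodule.span K ({act g a₀, w₁} : Set (ι → F)) = ⊤) : ¬ LinCase H K := by
  classical
  intro hlin
  haveI : Module.Finite F K := Module.finite_of_finrank_pos hS.rPrime.pos
  obtain ⟨k, hkk, hF2, hkD, hsplit, l, φ₀, hl1, hl10, hφa₀, hroot⟩ := c.small hS hlin
  set a := act g a₀ with hadef
  have hane : a ≠ 0 := fun h => c.ne (act_injective g (by rw [← hadef, h, map_zero]))
  have hone : ∀ t : F, t ≠ 0 → t = 1 := fun t ht => (hF2 t).resolve_left ht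
  have hK2 : (2 : K) = 0 := by
    rcases hF2 (1 + 1) with h | h
    · have := congrArg (algebraMap F K) h
      rwa [map_add, map_one, map_zero, one_add_one_eq_two] at this
    · exfalso
      rw [add_eq_left] at h
      exact one_ne_zero h
  have hv2 : ∀ x : ι → F, x + x = 0 := fun x => by
    rw [← two_smul K x, hK2, zero_smul]
  have hk0 : k ≠ 0 := fun h => hkD (h ▸ D.zero_mem)
  have hdecV : ∀ x, ∃ α β : K, α • a + β • w₁ = x := fun x =>
    Submodule.mem_span_pair.1 (hsp ▸ Submodule.mem_top)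
  -- the element of the member moving `k • a` by `w₁`
  obtain ⟨j, hj⟩ := c.w_mem
  have hj0 : j ≠ 0 := fun h => c.w_not (by rw [← hj, h, zero_smul, map_zero]; exact zero_mem _)
  obtain ⟨S, hSm, hSx, hSa⟩ := hroot j
  have S1 : act S a = a := by
    have := hSa 1
    rwa [hl10, one_smul, zero_smul, add_zero] at this
  have S2 : act S (k • a) = k • a + w₁ := by rw [hSa, hl1, one_smul, hj]
  have hsq : ∀ x ∈ LinearMap.range (act g ∘ₗ (LinearMap.toSpanSingleton K (ι → F) a₀).restrictScalars F),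
      ∀ y, act g⁻¹ x ∈ (K ∙ a₀) ∧ (y = act g⁻¹ x → φ₀ y = 0) := by
    rintro _ ⟨i, rfl⟩ y
    refine ⟨?_, fun hy => ?_⟩
    · rw [LinearMap.comp_apply, act_inv_act]
      exact Submodule.mem_span_singleton.2 ⟨i, rfl⟩
    · rw [hy, LinearMap.comp_apply, act_inv_act]
      show φ₀ (i • a₀) = 0
      rw [map_smul, hφa₀, smul_zero]
  have S3 : act S w₁ = w₁ := by
    rw [hSx, (hsq w₁ ⟨j, hj⟩ _).2 rfl, zero_mul, zero_smul, map_zero, add_zero]
  -- the kernel of the displacement is the member
  have hker : ∀ x, act S x = x → ∃ i : K, x = act g (i • a₀) := by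
    intro x hx
    rw [hSx, add_eq_left] at hx
    have h0 : φ₀ (act g⁻¹ x) = 0 := by
      have := act_injective g (hx.trans (map_zero (act g)).symm)
      rw [smul_eq_zero, or_iff_left c.ne, mul_eq_zero, or_iff_left hj0] at this
      exact this
    by_contra hne
    have hni : act g⁻¹ x ∉ (K ∙ a₀) := fun h => by
      obtain ⟨i, hi⟩ := Submodule.mem_span_singleton.1 h
      exact hne ⟨i, by rw [hi, act_act_inv]⟩
    -- then `φ₀` vanishes everywhere
    have hall : ∀ y, φ₀ y = 0 := by
      intro y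
      obtain ⟨χ, hχ, hχx⟩ := exists_phi _ hni
      have hχa : χ a₀ = 0 := hχ _ (Submodule.mem_span_singleton_self _)
      by_contra hy
      have hp : act g⁻¹ x ∉ LinearMap.ker φ₀ → False := fun h => h h0
      have hsub : (LinearMap.ker φ₀) ≠ ⊤ := fun h => hy (LinearMap.mem_ker.1 (h ▸ Submodule.mem_top))
      have hle : Submodule.span K ({a₀, act g⁻¹ x} : Set (ι → F)) ≤ LinearMap.ker φ₀ := by
        rw [Submodule.span_le]
        rintro z (rfl | rfl)
        · exact hφa₀
        · exact h0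
      apply hsub
      refine Submodule.eq_top_of_finrank_eq (le_antisymm (Submodule.finrank_le _) ?_)
      refine le_trans ?_ (Submodule.finrank_mono hle)
      have h2 : finrank K (ι → F) ≤ 2 := by
        rw [← finrank_top K (ι → F), ← hsp]
        refine (finrank_span_le_card _).trans ?_
        rw [Set.toFinset_insert, Set.toFinset_singleton]
        exact Finset.card_le_two
      refine h2.trans (le_of_eq ?_)
      have hli : LinearIndependent K ![a₀, act g⁻¹ x] := by
        rw [LinearIndependent.pair_iff' c.ne]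
        intro i hi
        exact hni (Submodule.mem_span_singleton.2 ⟨i, hi⟩)
      have := finrank_span_eq_card hli
      rw [Matrix.range_cons, Matrix.range_cons, Matrix.range_empty, Set.union_empty,
        Set.singleton_union, Fintype.card_fin] at this
      exact this.symm
    have := hSa k
    rw [hSx, hall, zero_mul, zero_smul, map_zero, hl1, one_smul, add_right_inj] at this
    exact c.w_not (by rw [← hj, ← this]; exact zero_mem _)
  have hnotW : ∀ y, k • y ≠ 0 → (∃ β : F, y = β • a + w₁) → act S (k • y) ≠ k • y := by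
    rintro y - ⟨β, rfl⟩ h
    obtain ⟨i, hi⟩ := hker _ h
    obtain ⟨t, d, hd, he⟩ := c.W_eq i
    rw [he] at hi
    have he2 : (k - algebraMap F K t) • w₁ = (d - k * algebraMap F K β) • a := by
      rw [smul_add, ← algebraMap_smul K β a, smul_smul, ← algebraMap_smul K t w₁] at hi
      rw [sub_smul, sub_smul]
      linear_combination (norm := module) hi
    by_cases h0 : k - algebraMap F K t = 0
    · exact hkD (by
        rw [sub_eq_zero.1 h0, Algebra.algebraMap_eq_smul_one]
        exact D.smul_mem t ((c.D_iff 1).2 ⟨1, by rw [one_smul, one_smul]⟩))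
    · exact c.w_not (Submodule.mem_span_singleton.2
        ⟨(k - algebraMap F K t)⁻¹ * (d - k * algebraMap F K β), by
          rw [mul_smul, ← he2, inv_smul_smul₀ h0]⟩)
  -- the image of `k • w₁`
  obtain ⟨u, hu, S4⟩ : ∃ u, (u = a ∨ u = a + w₁) ∧ act S (k • w₁) = k • w₁ + u := by
    obtain ⟨t, d, hd, he⟩ := c.W_eq (φ₀ (act g⁻¹ (k • w₁)) * j)
    refine ⟨_, ?_, hSx _⟩
    obtain ⟨s, t', hd'⟩ := hsplit d
    have ht' : t' = 0 := by
      by_contra h
      rw [hone t' h, one_smul] at hd'
      apply hkD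
      rw [show k = d - algebraMap F K s by rw [hd']; ring]
      refine D.sub_mem hd ?_
      rw [Algebra.algebraMap_eq_smul_one]
      exact D.smul_mem s ((c.D_iff 1).2 ⟨1, by rw [one_smul, one_smul]⟩)
    rw [ht', zero_smul, add_zero] at hd'
    rw [hd', algebraMap_smul] at he
    have hs0 : s ≠ 0 := by
      intro hs
      rw [hs, zero_smul, add_zero] at he
      rcases hF2 t with rfl | rfl
      · exact hnotW w₁ (smul_ne_zero hk0 fun h => c.w_not (h ▸ zero_mem _)) ⟨0, by rw [zero_smul, zero_add]⟩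
          (by rw [hSx, he, zero_smul, add_zero])
      · refine hnotW (a + w₁) ?_ ⟨1, by rw [one_smul]⟩ ?_
        · refine smul_ne_zero hk0 fun h => c.w_not ?_
          rw [eq_neg_of_add_eq_zero_right h]
          exact Submodule.neg_mem _ (Submodule.mem_span_singleton_self _)
        · rw [smul_add, map_add, S2, hSx (k • w₁), he, one_smul]
          linear_combination (norm := module) hv2 w₁
    rw [hone s hs0, one_smul] at he
    rcases hF2 t with rfl | rfl
    · left; rw [he, zero_smul, zero_add]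
    · right; rw [he, one_smul, add_comm]
  -- generators of the linear group
  obtain ⟨φ, hφ, hφw⟩ := exists_phi _ c.w_not
  have hφa : φ a = 0 := hφ a (Submodule.mem_span_singleton_self a)
  have hw0 : w₁ ≠ 0 := fun h => c.w_not (h ▸ zero_mem _)
  obtain ⟨ψ, hψ, hψa⟩ := exists_phi (K ∙ w₁) (w := a) (by
    intro h
    obtain ⟨i, hi⟩ := Submodule.mem_span_singleton.1 h
    have hi0 : i ≠ 0 := by rintro rfl; rw [zero_smul] at hi; exact hane hi.symm
    exact c.w_not (Submodule.mem_span_singleton.2 ⟨i⁻¹, by show i⁻¹ • a = w₁; rw [← hi, inv_smul_smul₀ hi0]⟩))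
  have hψw : ψ w₁ = 0 := hψ w₁ (Submodule.mem_span_singleton_self _)
  obtain ⟨Ta, hTa, ta⟩ := exists_trans hS φ a hφa
  obtain ⟨Tk, hTk, tk⟩ := exists_trans hS φ (k • a) (by rw [map_smul, hφa, smul_zero])
  obtain ⟨Tw, hTw, tw⟩ := exists_trans hS ψ w₁ hψw
  have hnorm : ∀ x : K, x ≠ 0 → Algebra.norm F x = 1 := fun x hx => hone _ (Algebra.norm_ne_zero_iff.2 hx)
  have hk1 : k + 1 ≠ 0 := by
    rw [← hkk]; exact mul_ne_zero hk0 hk0
  obtain ⟨Sw, hSw, sw⟩ := exists_scaling hS φ w₁ hφw k (hnorm k hk0)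
  obtain ⟨Sw2, hSw2, sw2⟩ := exists_scaling hS φ w₁ hφw (k + 1) (hnorm _ hk1)
  have hkv : ∀ x : ι → F, k • k • x = k • x + x := fun x => by rw [smul_smul, hkk, add_smul, one_smul]
  have hc1 : ∀ x y : ι → F, x + (x + y) = y := fun x y => by rw [← add_assoc, hv2, zero_add]
  have hneg : ∀ x : ι → F, -x = x := fun x => neg_eq_of_add_eq_zero_left (hv2 x)
  have A1 : act Ta a = a ∧ act Ta (k • a) = k • a ∧ act Ta w₁ = w₁ + a ∧ act Ta (k • w₁) = k • w₁ + k • a := by
    refine ⟨?_, ?_, ?_, ?_⟩ <;> rw [ta] <;> simp [hφa, hφw]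
  have A2 : act Tk a = a ∧ act Tk (k • a) = k • a ∧ act Tk w₁ = w₁ + k • a ∧
      act Tk (k • w₁) = k • w₁ + (k • a + a) := by
    refine ⟨?_, ?_, ?_, ?_⟩ <;> rw [tk] <;> simp [hφa, hφw, hkv]
  have A3 : act Tw a = a + w₁ ∧ act Tw (k • a) = k • a + k • w₁ ∧ act Tw w₁ = w₁ ∧
      act Tw (k • w₁) = k • w₁ := by
    refine ⟨?_, ?_, ?_, ?_⟩ <;> rw [tw] <;> simp [hψa, hψw]
  have A4 : act Sw a = a ∧ act Sw (k • a) = k • a ∧ act Sw w₁ = k • w₁ ∧
      act Sw (k • w₁) = k • w₁ + w₁ := by
    refine ⟨?_, ?_, ?_, ?_⟩ <;> rw [sw] <;>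
      simp [hφa, hφw, sub_smul, sub_eq_add_neg, hneg, add_smul, mul_smul, hkv, add_comm, add_left_comm, hc1, hv2]
  have A5 : act Sw2 a = a ∧ act Sw2 (k • a) = k • a ∧ act Sw2 w₁ = k • w₁ + w₁ ∧
      act Sw2 (k • w₁) = w₁ := by
    refine ⟨?_, ?_, ?_, ?_⟩ <;> rw [sw2] <;>
      simp [hφa, hφw, sub_smul, sub_eq_add_neg, hneg, add_smul, mul_smul, hkv, add_comm, add_left_comm, hc1, hv2]
  -- a word fixing the line pointwise which is not linear
  obtain ⟨M, hM, hMa, hMka, p, hMkw⟩ : ∃ M ∈ H, act M a = a ∧ act M (k • a) = k • a ∧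
      ∃ p q : K, act M w₁ = w₁ + p • a ∧ act M (k • w₁) = k • w₁ + q • a ∧ q ≠ k * p := by
    rcases hu with rfl | rfl
    · refine ⟨Tw * Tk * Sw * S * Tk * Sw * S * Tw, by
        repeat' first | apply mul_mem | assumption, ?_, ?_, 0, k + 1, ?_, ?_, ?_⟩
      · simp only [act_mul, map_add, S1, S2, S3, S4, A2, A3, A4]
        simp [hv2, hc1, add_comm, add_left_comm, add_assoc]
      · simp only [act_mul, map_add, S1, S2, S3, S4, A2, A3, A4]
        simp [hv2, hc1, add_comm, add_left_comm, add_assoc]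
      · simp only [act_mul, map_add, S1, S2, S3, S4, A2, A3, A4]
        simp [hv2, hc1, add_comm, add_left_comm, add_assoc]
      · simp only [act_mul, map_add, S1, S2, S3, S4, A2, A3, A4]
        simp [hv2, hc1, add_comm, add_left_comm, add_assoc, add_smul]
      · rw [mul_zero]; exact hk1
    · refine ⟨Tw * Ta * Sw * S * Sw * Tw * Sw2 * Tk * S * Sw, by
        repeat' first | apply mul_mem | assumption, ?_, ?_, k, k, ?_, ?_, ?_⟩
      · simp only [act_mul, map_add, S1, S2, S3, S4, A1, A2, A3, A4, A5]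
        simp [hv2, hc1, add_comm, add_left_comm, add_assoc]
      · simp only [act_mul, map_add, S1, S2, S3, S4, A1, A2, A3, A4, A5]
        simp [hv2, hc1, add_comm, add_left_comm, add_assoc]
      · simp only [act_mul, map_add, S1, S2, S3, S4, A1, A2, A3, A4, A5]
        simp [hv2, hc1, add_comm, add_left_comm, add_assoc]
      · simp only [act_mul, map_add, S1, S2, S3, S4, A1, A2, A3, A4, A5]
        simp [hv2, hc1, add_comm, add_left_comm, add_assoc]
      · intro h
        rw [hkk, left_eq_add] at h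
        exact one_ne_zero h
  obtain ⟨q, hMw, hMkw, hne⟩ := hMkw
  have hsm : ∀ (i : K) (y : ι → F), ∃ s t : F, i • y = s • y + t • k • y := fun i y => by
    obtain ⟨s, t, rfl⟩ := hsplit i
    exact ⟨s, t, by rw [add_smul, algebraMap_smul, smul_assoc]⟩
  have hfix : ∀ i : K, act M (i • a) = i • a := fun i => by
    obtain ⟨s, t, h⟩ := hsm i a
    rw [h, map_add, map_smul, map_smul, hMa, hMka]
  have him : ∀ x, act M x - x ∈ (K ∙ a) := fun x => by
    obtain ⟨α, β, rfl⟩ := hdecV x
    obtain ⟨s, t, h⟩ := hsm β w₁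
    rw [map_add, hfix, add_sub_add_left_eq_sub, h, map_add, map_smul, map_smul, hMw, hMkw, smul_add,
      smul_add]
    refine Submodule.mem_span_singleton.2 ⟨s • p + t • q, ?_⟩
    rw [add_smul, smul_assoc, smul_assoc]
    abel
  have h := hlin a hane M hM hfix him k w₁
  rw [hMkw, hMw, smul_add, add_right_inj, smul_smul] at h
  exact hne (smul_left_injective K hane h)

end

/-- **The semilinear group is maximal.** -/
theorem sl_le [Fintype F] (hS : Setup (K := K) H) {g : GL ι F} (hg : g ∈ H) (hns : ¬ IsSemi K g) :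
    Cfsg.Geo.specialLinear ι F ≤ H := by
  obtain ⟨g', a₀, w₁, D, c⟩ := exists_config hS hg hns
  by_cases hsp : Submodule.span K ({act g' a₀, w₁} : Set (ι → F)) = ⊤
  · exact c.sl_le_of_nonlinear hS (c.not_linCase hS hsp)
  · exact c.sl_le_of_span hS hsp

end Cfsg.Agent.MaxCl.ExtF
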