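/-
The normaliser of a field subalgebra consists of the maps which are semilinear over it.
-/
import Mathlib
import Cfsg.Agent.Lib.MaxCl.ExtFieldMax

set_option autoImplicit false

namespace Cfsg.Agent.MaxCl.ExtF

open scoped MatrixGroups Matrix
open Module

variable {ι : Type} [Fintype ι] [DecidableEq ι] {F : Type*} [Field F]

/-- The normaliser of a subalgebra acting on the vectors is the group of semilinear maps. -/
theorem mem_normalizer_iff [Finite F] (A : Subalgebra F (Matrix ι ι F)) (g : GL ι F) :
    g ∈ Cfsg.Geo.subalgebraNormalizer A ↔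
      ∀ k : A, ∃ k' : A, ∀ x : ι → F, act g ((k : Matrix ι ι F) *ᵥ x) = (k' : Matrix ι ι F) *ᵥ act g x := by
  haveI : Finite A := Finite.of_injective (fun a : A => (a : Matrix ι ι F)) Subtype.val_injective
  constructor
  · intro hg k
    refine ⟨⟨_, (hg k.1).1 k.2⟩, fun x => ?_⟩
    simp only [act_apply, Matrix.mulVec_mulVec, mul_assoc, ← Units.val_mul, inv_mul_cancel,
      Units.val_one, mul_one]
  · intro hg
    choose τ hτ using hg
    have hmat : ∀ k : A, (g : Matrix ι ι F) * k * ((g⁻¹ : GL ι F) : Matrix ι ι F) = τ k := by
      intro k
      have : (g : Matrix ι ι F) * k = τ k * (g : Matrix ι ι F) := by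
        apply Matrix.toLin'.injective
        apply LinearMap.ext
        intro x
        have := hτ k x
        simp only [act_apply, Matrix.mulVec_mulVec] at this
        simpa using this
      rw [this, mul_assoc, ← Units.val_mul, mul_inv_cancel, Units.val_one, mul_one]
    have hinj : Function.Injective τ := by
      intro k l h
      have h' := (hmat k).trans ((congrArg Subtype.val h).trans (hmat l).symm)
      rw [Units.mul_left_inj, Units.mul_right_inj] at h'
      exact Subtype.ext h'
    intro k
    constructor
    · intro hk
      rw [hmat ⟨k, hk⟩]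
      exact (τ _).2
    · intro hk
      obtain ⟨l, hl⟩ := Finite.surjective_of_injective hinj ⟨_, hk⟩
      have h' := (congrArg Subtype.val hl).symm.trans (hmat l).symm
      rw [Units.mul_left_inj, Units.mul_right_inj] at h'
      rw [h']
      exact l.2

/-- An element of a field of degree at least two which is not a scalar. -/
theorem exists_not_scalar {K : Type*} [Field K] [Algebra F K] (h : 1 < finrank F K) :
    ∃ k : K, ∀ c : F, algebraMap F K c ≠ k := by
  by_contra hc
  push Not at hc
  have h1 : (⊥ : Subalgebra F K) = ⊤ := eq_top_iff.2 fun x _ => by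
    obtain ⟨c, hc⟩ := hc x
    exact Algebra.mem_bot.2 ⟨c, hc⟩
  have := Subalgebra.finrank_bot (F := F) (E := K)
  rw [h1, (Subalgebra.topEquiv (R := F) (A := K)).toLinearEquiv.finrank_eq] at this
  omega

end Cfsg.Agent.MaxCl.ExtF
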