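/-
Vectors of a prescribed value in a small non-degenerate subspace: existence, prescribed pairing, and connectedness
of the non-orthogonality relation among them.
-/
import Cfsg.Agent.Lib.MaxCl.OrthNondeg

set_option autoImplicit false

namespace Cfsg.Agent.MaxCl.Orth

open scoped MatrixGroups Matrix
open Module (finrank)

variable {ι : Type} [Fintype ι] [DecidableEq ι] {F : Type*} [Field F] [Fintype F] {Q : QuadraticForm F (ι → F)}

set_option quotPrecheck false in
local notation "B" => QuadraticMap.polar (⇑Q)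

omit [Fintype ι] [DecidableEq ι] in
theorem exists_two_squares (h2 : (2 : F) ≠ 0) {a b : F} (ha : a ≠ 0) (hb : b ≠ 0) (c : F) :
    ∃ x y : F, a * (x * x) + b * (y * y) = c := by
  obtain ⟨x, y, h⟩ := FiniteField.exists_root_sum_quadratic
    (f := Polynomial.C a * Polynomial.X ^ 2) (g := Polynomial.C b * Polynomial.X ^ 2 + Polynomial.C (-c))
    (Polynomial.degree_C_mul_X_pow 2 ha)
    (by rw [Polynomial.degree_add_C (by rw [Polynomial.degree_C_mul_X_pow 2 hb]; decide),
      Polynomial.degree_C_mul_X_pow 2 hb]; rfl)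
    (FiniteField.odd_card_of_char_ne_two fun hc => h2 (by
      have := ringChar.of_eq hc
      exact CharTwo.two_eq_zero))
  simp only [Polynomial.eval_mul, Polynomial.eval_C, Polynomial.eval_pow, Polynomial.eval_X,
    Polynomial.eval_add] at h
  exact ⟨x, y, by linear_combination h⟩

omit [Fintype ι] [DecidableEq ι] in
theorem exists_scale_two (h2 : (2 : F) = 0) {a : F} (ha : a ≠ 0) (c : F) : ∃ l : F, l * l * a = c := by
  have : CharP F 2 := CharTwo.of_one_ne_zero_of_two_eq_zero one_ne_zero h2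
  obtain ⟨l, hl⟩ := FiniteField.isSquare_of_char_two (ringChar.eq F 2) (c * a⁻¹)
  exact ⟨l, by rw [← hl, mul_assoc, inv_mul_cancel₀ ha, mul_one]⟩

omit [Fintype ι] [DecidableEq ι] in
theorem exists_ne_sq (h : 4 ≤ Fintype.card F) : ∃ g : F, g ≠ 0 ∧ g * g ≠ 1 := by
  classical
  obtain ⟨g, hg⟩ := Finset.exists_mem_notMem_of_card_lt_card (s := ({0, 1, -1} : Finset F)) (t := Finset.univ)
    (by
      have := Finset.card_le_three (a := (0 : F)) (b := 1) (c := -1)
      rw [Finset.card_univ]; omega)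
  simp only [Finset.mem_insert, Finset.mem_singleton, not_or] at hg
  exact ⟨g, hg.2.1, fun e => (mul_self_eq_one_iff.1 e).elim hg.2.2.1 hg.2.2.2⟩

section

variable (hQ : (QuadraticMap.polarBilin Q).Nondegenerate)
include hQ

omit [Fintype F] in
theorem le_finrank_inf_perp (W P : Submodule F (ι → F)) :
    finrank F W ≤ finrank F ↥(W ⊓ perp Q P) + finrank F P := by
  have h1 := Submodule.finrank_sup_add_finrank_inf_eq W (perp Q P)
  have h2 : finrank F ↥(W ⊔ perp Q P) ≤ Fintype.card ι := (Submodule.finrank_le _).trans_eq (Module.finrank_pi F)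
  rw [finrank_perp hQ] at h1
  omega

omit [Fintype F] in
theorem le_finrank_inf_perp_one (W : Submodule F (ι → F)) (x : ι → F) :
    finrank F W ≤ finrank F ↥(W ⊓ perp Q (F ∙ x)) + 1 :=
  (le_finrank_inf_perp hQ W (F ∙ x)).trans (Nat.add_le_add_left ((finrank_span_le_card _).trans (by simp)) _)

omit [Fintype F] in
/-- A totally singular subspace of a non-degenerate subspace has at most half its dimension. -/
theorem exists_nonsingular_in {W S : Submodule F (ι → F)} (hW : NonDeg Q W) (hS : S ≤ W)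
    (h : finrank F W < 2 * finrank F S) : ∃ x ∈ S, Q x ≠ 0 := by
  by_contra hc
  push Not at hc
  have hle : S ≤ W ⊓ perp Q S := fun x hx => ⟨hS hx, fun w hw => B_eq_zero_of_singular hc hw hx⟩
  have h1 := Submodule.finrank_mono hle
  have h2 := Submodule.finrank_sup_add_finrank_inf_eq W (perp Q S)
  have h3 : W ⊔ perp Q S = ⊤ := by
    rw [eq_top_iff, ← sup_perp hQ hW]
    exact sup_le_sup_left (fun x hx w hw => hx w (hS hw)) W
  have h4 : finrank F S ≤ finrank F W := Submodule.finrank_mono hS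
  have h5 : finrank F W ≤ Fintype.card ι := (Submodule.finrank_le _).trans_eq (Module.finrank_pi F)
  rw [h3, finrank_top, Module.finrank_pi, finrank_perp hQ] at h2
  omega

variable {W : Submodule F (ι → F)} (hW : NonDeg Q W)
include hW

/-- Non-degenerate subspaces of dimension at least two represent every value. -/
theorem exists_value (hk : 2 ≤ finrank F W) (c : F) : ∃ x ∈ W, Q x = c := by
  obtain ⟨x, hx, hQx⟩ := exists_nonsingular_in hQ hW le_rfl (by omega)
  by_cases h2 : (2 : F) = 0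
  · obtain ⟨l, hl⟩ := exists_scale_two h2 hQx c
    exact ⟨l • x, W.smul_mem _ hx, by rw [Q_smul Q, hl]⟩
  obtain ⟨y, ⟨hy, hxy⟩, hy0⟩ := Submodule.exists_mem_ne_zero_of_ne_bot (p := W ⊓ perp Q (F ∙ x)) (fun e => by
    have := le_finrank_inf_perp_one hQ W x
    rw [e, finrank_bot] at this; omega)
  by_cases hQy : Q y = 0
  · obtain ⟨z, hz, -, hz1⟩ := exists_one_in hQ hW (P := ⊥) bot_le hy (by simpa using hy0)
    obtain ⟨t, ht, hQt, hyt⟩ := exists_partner Q hQy hy hz (by rw [hz1]; exact one_ne_zero)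
    refine ⟨y + c • t, W.add_mem hy (W.smul_mem _ ht), ?_⟩
    rw [Q_add Q, Q_smul Q, B_smul_right Q, hQy, hQt, hyt]; ring
  obtain ⟨a, b, hab⟩ := exists_two_squares h2 hQx hQy c
  refine ⟨a • x + b • y, W.add_mem (W.smul_mem _ hx) (W.smul_mem _ hy), ?_⟩
  rw [Q_add Q, Q_smul Q, Q_smul Q, B_smul_left Q, B_smul_right Q, orth hxy (Submodule.mem_span_singleton_self x)]
  linear_combination hab

omit hQ [Fintype F] in
theorem nonDeg_inf_perp_one (h2 : (2 : F) ≠ 0) {v : ι → F} (hv : v ∈ W) (hQv : Q v ≠ 0) :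
    NonDeg Q (W ⊓ perp Q (F ∙ v)) := by
  intro x hx h
  refine hW x hx.1 fun y hy => ?_
  have hm : y - (B v y / (2 * Q v)) • v ∈ W ⊓ perp Q (F ∙ v) :=
    ⟨W.sub_mem hy (W.smul_mem _ hv), (mem_perp_span Q).2 fun z hz => by
      rw [Set.mem_singleton_iff.1 hz, B_sub_right Q, B_smul_right Q, B_self Q,
        div_mul_cancel₀ _ (mul_ne_zero h2 hQv), sub_self]⟩
  have := h _ hm
  rwa [B_sub_right Q, B_smul_right Q, B_comm Q x v, orth hx.2 (Submodule.mem_span_singleton_self v),
    mul_zero, sub_zero] at this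

/-- A vector of given value with given pairing with a non-zero vector. -/
theorem exists_pairing (h2 : (2 : F) ≠ 0) (hk : 3 ≤ finrank F W) {v : ι → F} (hv : v ∈ W) (hv0 : v ≠ 0)
    (c : F) {β : F} (hβ : β ≠ 0) : ∃ a ∈ W, Q a = c ∧ B v a = β := by
  by_cases hQv : Q v = 0
  · obtain ⟨z, hz, -, hz1⟩ := exists_one_in hQ hW (P := ⊥) bot_le hv (by simpa using hv0)
    refine ⟨β • z + ((c - β * β * Q z) / β) • v, W.add_mem (W.smul_mem _ hz) (W.smul_mem _ hv), ?_, ?_⟩
    · rw [Q_add Q, Q_smul Q, Q_smul Q, B_smul_left Q, B_smul_right Q, B_comm Q z v, hz1, hQv]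
      field_simp
      ring
    · rw [B_add_right Q, B_smul_right Q, B_smul_right Q, hz1, B_self_of_singular Q hQv]; ring
  have hY := nonDeg_inf_perp_one hW h2 hv hQv
  have hd := le_finrank_inf_perp_one hQ W v
  obtain ⟨y, ⟨hy, hvy⟩, hQy⟩ := exists_value hQ hY (by omega) (c - (β / (2 * Q v)) * (β / (2 * Q v)) * Q v)
  have hvy' : B v y = 0 := orth hvy (Submodule.mem_span_singleton_self v)
  refine ⟨(β / (2 * Q v)) • v + y, W.add_mem (W.smul_mem _ hv) hy, ?_, ?_⟩
  · rw [Q_add Q, Q_smul Q, B_smul_left Q, hQy, hvy']; ring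
  · rw [B_add_right Q, B_smul_right Q, B_self Q, hvy', add_zero, div_mul_cancel₀ _ (mul_ne_zero h2 hQv)]

omit hQ [Fintype F] in
theorem nonDeg_inf_perp_pair {s t : ι → F} (hs : s ∈ W) (ht : t ∈ W) (hQs : Q s = 0) (hQt : Q t = 0)
    (hst : B s t = 1) : NonDeg Q (W ⊓ perp Q (Submodule.span F (Set.range ![s, t]))) := by
  intro x hx h
  refine hW x hx.1 fun y hy => ?_
  have hm : y - B t y • s - B s y • t ∈ W ⊓ perp Q (Submodule.span F (Set.range ![s, t])) := by
    refine ⟨W.sub_mem (W.sub_mem hy (W.smul_mem _ hs)) (W.smul_mem _ ht), ?_⟩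
    rw [SetLike.mem_coe, mem_perp_span]
    rintro w ⟨i, rfl⟩
    fin_cases i
    · show B s _ = 0
      rw [B_sub_right Q, B_sub_right Q, B_smul_right Q, B_smul_right Q, B_self_of_singular Q hQs, hst]; ring
    · show B t _ = 0
      rw [B_sub_right Q, B_sub_right Q, B_smul_right Q, B_smul_right Q, B_self_of_singular Q hQt,
        B_comm Q t s, hst]; ring
  have := h _ hm
  rwa [B_sub_right Q, B_sub_right Q, B_smul_right Q, B_smul_right Q, B_comm Q x s, B_comm Q x t,
    show B s x = 0 from orth hx.2 (Submodule.subset_span ⟨0, rfl⟩),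
    show B t x = 0 from orth hx.2 (Submodule.subset_span ⟨1, rfl⟩),
    mul_zero, mul_zero, sub_zero, sub_zero] at this

/-- A set of vectors of value `c` closed under non-orthogonality spans the subspace. -/
theorem value_conn (hk : 3 ≤ finrank F W) (h3 : finrank F W = 3 → (2 : F) ≠ 0 ∧ 5 ≤ Fintype.card F)
    (h4 : finrank F W = 4 → Fintype.card F = 2 → ¬ Cfsg.Geo.IsPlusTypeOn Q W) {c : F} (hc : c ≠ 0)
    {N : Submodule F (ι → F)} {a : ι → F} (ha : a ∈ W) (hQa : Q a = c) (haN : a ∈ N)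
    (hN : ∀ e ∈ W, ∀ e' ∈ W, Q e = c → Q e' = c → e ∈ N → B e e' ≠ 0 → e' ∈ N) : W ≤ N := by
  set N₀ := Submodule.span F {e | e ∈ W ∧ Q e = c ∧ e ∈ N} with hN₀
  suffices h : W ≤ N₀ from h.trans (Submodule.span_le.2 fun e he => he.2.2)
  have haN₀ : a ∈ N₀ := Submodule.subset_span ⟨ha, hQa, haN⟩
  have conn : ∀ e ∈ W, Q e = c → ∀ x ∈ N₀, B x e ≠ 0 → e ∈ N₀ := by
    intro e he hQe x hx hne
    by_contra hno
    refine hne ((mem_perp_span Q).2 (fun y hy => ?_) x hx)
    by_contra hye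
    exact hno (Submodule.subset_span ⟨he, hQe, hN y hy.1 e he hy.2.1 hQe hy.2.2 hye⟩)
  rcases Nat.lt_or_ge (finrank F W) 4 with hlt | hge
  · obtain ⟨h2, h5⟩ := h3 (by omega)
    obtain ⟨α, hα0, hα1⟩ := exists_ne_sq (F := F) (by omega)
    set U := W ⊓ perp Q (F ∙ a) with hU
    have hQa0 : Q a ≠ 0 := hQa ▸ hc
    have hUnd : NonDeg Q U := nonDeg_inf_perp_one hW h2 ha hQa0
    have hUd := le_finrank_inf_perp_one hQ W a
    rw [← hU] at hUd
    set d := c * (1 - α * α) with hd
    have hd0 : d ≠ 0 := mul_ne_zero hc (sub_ne_zero.2 (Ne.symm hα1))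
    have key : ∀ y ∈ U, Q y = d → y ∈ N₀ := by
      rintro y ⟨hy, hay⟩ hQy
      have hay' : B a y = 0 := orth hay (Submodule.mem_span_singleton_self a)
      have he := conn (α • a + y) (W.add_mem (W.smul_mem _ ha) hy)
        (by rw [Q_add Q, Q_smul Q, B_smul_left Q, hQa, hQy, hay', hd]; ring) a haN₀
        (by
          rw [B_add_right Q, B_smul_right Q, B_self Q, hQa, hay', add_zero]
          exact mul_ne_zero hα0 (mul_ne_zero h2 hc))
      simpa using N₀.sub_mem he (N₀.smul_mem α haN₀)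
    obtain ⟨y, hy, hQy⟩ := exists_value hQ hUnd (by omega) d
    have hy0 : Q y ≠ 0 := hQy ▸ hd0
    have hyN := key y hy hQy
    have hUN : U ⊓ perp Q (F ∙ y) ≤ N₀ := by
      rintro z ⟨hz, hyz⟩
      have hyz' : B y z = 0 := orth hyz (Submodule.mem_span_singleton_self y)
      obtain ⟨ε, hε0, hQf⟩ : ∃ ε : F, ε ≠ 0 ∧ Q (y + ε • z) ≠ 0 := by
        obtain ⟨g, hg0, hg1⟩ := exists_ne_sq (F := F) (by omega)
        by_contra hno
        push Not at hno
        have e1 := hno 1 one_ne_zero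
        have e2 := hno g hg0
        rw [Q_add Q, Q_smul Q, B_smul_right Q, hyz'] at e1 e2
        have hz : (g * g - 1) * Q z = 0 := by linear_combination e2 - e1
        exact hy0 (by linear_combination e1 - (mul_eq_zero.1 hz).resolve_left (sub_ne_zero.2 hg1))
      have hf : y + ε • z ∈ U := U.add_mem hy (U.smul_mem _ hz)
      have hR := key (act (refl Q (y + ε • z)) y)
        (by rw [act_refl Q hQf]; exact U.sub_mem hy (U.smul_mem _ hf)) (by rw [Q_act (refl_mem_iso Q _), hQy])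
      rw [act_refl Q hQf, B_add_left Q, B_smul_left Q, B_self Q, B_comm Q z y, hyz'] at hR
      have hne : (Q (y + ε • z))⁻¹ * (2 * Q y + ε * 0) ≠ 0 :=
        mul_ne_zero (inv_ne_zero hQf) (by rw [mul_zero, add_zero]; exact mul_ne_zero h2 hy0)
      have hh := N₀.sub_mem hyN hR
      rw [sub_sub_cancel] at hh
      have hfN := (Submodule.smul_mem_iff _ hne).1 hh
      have h' : ε • z ∈ N₀ := by simpa using N₀.sub_mem hfN hyN
      exact (Submodule.smul_mem_iff _ hε0).1 h'
    intro w hw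
    have hw' : w - (B a w / (2 * Q a)) • a ∈ U := ⟨W.sub_mem hw (W.smul_mem _ ha), (mem_perp_span Q).2
      fun z hz => by
        rw [Set.mem_singleton_iff.1 hz, B_sub_right Q, B_smul_right Q, B_self Q,
          div_mul_cancel₀ _ (mul_ne_zero h2 hQa0), sub_self]⟩
    set u := w - (B a w / (2 * Q a)) • a with hu
    have hu' : u - (B y u / (2 * Q y)) • y ∈ U ⊓ perp Q (F ∙ y) := ⟨U.sub_mem hw' (U.smul_mem _ hy),
      (mem_perp_span Q).2 fun z hz => by
        rw [Set.mem_singleton_iff.1 hz, B_sub_right Q, B_smul_right Q, B_self Q,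
          div_mul_cancel₀ _ (mul_ne_zero h2 hy0), sub_self]⟩
    have huN : u ∈ N₀ := by simpa using N₀.add_mem (hUN hu') (N₀.smul_mem (B y u / (2 * Q y)) hyN)
    simpa [hu] using N₀.add_mem huN (N₀.smul_mem (B a w / (2 * Q a)) haN₀)
  -- a hyperbolic pair containing `a` in its span
  obtain ⟨s₀, hs₀, hQs₀, has₀⟩ : ∃ s ∈ W, Q s = 0 ∧ B a s ≠ 0 := by
    by_contra hno
    push Not at hno
    have hall := le_of_singular_le hQ hW hk (N := perp Q (F ∙ a)) fun x hx hQx =>
      (mem_perp_span Q).2 fun z hz => by rw [Set.mem_singleton_iff.1 hz]; exact hno x hx hQx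
    exact hc (by rw [← hQa, hW a ha fun y hy => orth (hall hy) (Submodule.mem_span_singleton_self a), map_zero])
  obtain ⟨s, hsdef⟩ : ∃ s, s = (c / B a s₀) • s₀ := ⟨_, rfl⟩
  have hs : s ∈ W := hsdef ▸ W.smul_mem _ hs₀
  have hQs : Q s = 0 := by rw [hsdef, Q_smul Q, hQs₀, mul_zero]
  have has : B a s = c := by rw [hsdef, B_smul_right Q, div_mul_cancel₀ _ has₀]
  obtain ⟨t, htdef⟩ : ∃ t, t = c⁻¹ • (a - s) := ⟨_, rfl⟩
  have ht : t ∈ W := htdef ▸ W.smul_mem _ (W.sub_mem ha hs)
  have hQt : Q t = 0 := by rw [htdef, Q_smul Q, Q_sub Q, hQa, hQs, has]; ring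
  have hst : B s t = 1 := by
    rw [htdef, B_smul_right Q, B_sub_right Q, B_comm Q s a, has, B_self_of_singular Q hQs, sub_zero,
      inv_mul_cancel₀ hc]
  have hat : a = s + c • t := by rw [htdef, smul_smul, mul_inv_cancel₀ hc, one_smul]; abel
  set W' := W ⊓ perp Q (Submodule.span F (Set.range ![s, t])) with hW'
  have hW'nd : NonDeg Q W' := nonDeg_inf_perp_pair hW hs ht hQs hQt hst
  have hW'd := le_finrank_inf_perp hQ W (Submodule.span F (Set.range ![s, t]))
  have hd2 := finrank_span_list_le ![s, t]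
  rw [← hW'] at hW'd
  have hperp : ∀ w ∈ W', B s w = 0 ∧ B t w = 0 ∧ B a w = 0 := fun w hw => by
    have e1 : B s w = 0 := orth hw.2 (Submodule.subset_span ⟨0, rfl⟩)
    have e2 : B t w = 0 := orth hw.2 (Submodule.subset_span ⟨1, rfl⟩)
    exact ⟨e1, e2, by rw [hat, B_add_left Q, B_smul_left Q, e1, e2, mul_zero, add_zero]⟩
  obtain ⟨w₀, hw₀, hQw₀⟩ := exists_value hQ hW'nd (by omega) c
  have hplus : ∀ w ∈ W', Q w = c → ∀ l : F, l ≠ 0 → l • s + w ∈ N₀ := by
    intro w hw hQw l hl
    refine conn _ (W.add_mem (W.smul_mem _ hs) hw.1)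
      (by rw [Q_add Q, Q_smul Q, B_smul_left Q, hQs, hQw, (hperp w hw).1]; ring) a haN₀ ?_
    rw [B_add_right Q, B_smul_right Q, has, (hperp w hw).2.2, add_zero]
    exact mul_ne_zero hl hc
  have hsN : s ∈ N₀ := by
    by_cases hq : ∃ l : F, l ≠ 0 ∧ l ≠ 1
    · obtain ⟨l, hl0, hl1⟩ := hq
      have h := N₀.sub_mem (hplus w₀ hw₀ hQw₀ l hl0) (hplus w₀ hw₀ hQw₀ 1 one_ne_zero)
      rw [one_smul, add_sub_add_right_eq_sub, show l • s - s = (l - 1) • s by module] at h
      exact (Submodule.smul_mem_iff _ (sub_ne_zero.2 hl1)).1 h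
    push Not at hq
    have hc1 : c = 1 := hq c hc
    by_cases hpair : ∃ w ∈ W', ∃ w' ∈ W', Q w = c ∧ Q w' = c ∧ B w w' ≠ 0
    · obtain ⟨w, hw, w', hw', hQw, hQw', hne⟩ := hpair
      have hw'N : w' ∈ N₀ := conn w' hw'.1 hQw' _ (hplus w hw hQw 1 one_ne_zero) (by
        rwa [one_smul, B_add_left Q, (hperp w' hw').1, zero_add])
      simpa using N₀.sub_mem (hplus w' hw' hQw' 1 one_ne_zero) hw'N
    exfalso
    push Not at hpair
    have hw₀0 : w₀ ≠ 0 := fun e => hc (by rw [← hQw₀, e, map_zero])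
    obtain ⟨z, hz, -, hz1⟩ := exists_one_in hQ hW'nd (P := ⊥) bot_le hw₀ (by simpa using hw₀0)
    have hsing : ∀ z' ∈ W', B w₀ z' ≠ 0 → Q z' = 0 := fun z' hz' hne => by
      by_contra hne'
      exact hne (hpair w₀ hw₀ z' hz' hQw₀ (by rw [hc1]; exact hq _ hne'))
    have hQz : Q z = 0 := hsing z hz (by rw [hz1]; exact one_ne_zero)
    set U := W' ⊓ perp Q (F ∙ w₀) with hU
    have hQU : ∀ y ∈ U, Q y = -B z y := by
      intro y hy
      have h0 : B w₀ y = 0 := orth hy.2 (Submodule.mem_span_singleton_self w₀)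
      have := hsing (z + y) (W'.add_mem hz hy.1) (by rw [B_add_right Q, hz1, h0, add_zero]; exact one_ne_zero)
      rw [Q_add Q, hQz, zero_add] at this
      exact eq_neg_of_add_eq_zero_left this
    have hbot : U ⊓ perp Q (F ∙ z) = ⊥ := by
      rw [eq_bot_iff]
      rintro x ⟨hx, hxz⟩
      refine hW'nd x hx.1 fun w hw => ?_
      have hu : w - B w₀ w • z ∈ U := ⟨W'.sub_mem hw (W'.smul_mem _ hz), (mem_perp_span Q).2 fun v hv => by
        rw [Set.mem_singleton_iff.1 hv, B_sub_right Q, B_smul_right Q, hz1, mul_one, sub_self]⟩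
      have e := hQU _ (U.add_mem hx hu)
      rw [Q_add Q, hQU _ hx, hQU _ hu, B_add_right Q] at e
      have hxu : B x (w - B w₀ w • z) = 0 := by linear_combination e
      rwa [B_sub_right Q, B_smul_right Q, B_comm Q x z, orth hxz (Submodule.mem_span_singleton_self z),
        mul_zero, sub_zero] at hxu
    have e1 := le_finrank_inf_perp_one hQ U z
    rw [hbot, finrank_bot] at e1
    have e2 := le_finrank_inf_perp_one hQ W' w₀
    rw [← hU] at e2
    refine h4 (by omega) ?_ ⟨Submodule.span F (Set.range ![s, z]), Submodule.span_le.2 ?_, ?_, ?_⟩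
    · classical
      have hu : (Finset.univ : Finset F) = {0, 1} := Finset.ext fun x => by
        simp only [Finset.mem_univ, Finset.mem_insert, Finset.mem_singleton, true_iff]
        exact or_iff_not_imp_left.2 (hq x)
      rw [← Finset.card_univ, hu, Finset.card_pair zero_ne_one]
    · rintro _ ⟨i, rfl⟩; fin_cases i <;> [exact hs; exact hz.1]
    · intro x hx
      obtain ⟨p, r, rfl⟩ := mem_span_pair_iff_range.1 hx
      rw [Q_add Q, Q_smul Q, Q_smul Q, B_smul_left Q, B_smul_right Q, hQs, hQz, (hperp z hz).1]; ring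
    · rw [finrank_span_eq_card, Fintype.card_fin]
      · omega
      refine LinearIndependent.pair_iff.2 fun p r hpr => ?_
      have f1 := congrArg (B t) hpr
      have f2 := congrArg (B w₀) hpr
      simp only [B_add_right Q, B_smul_right Q, B_comm Q t s, hst, (hperp z hz).2.1, hz1, B_comm Q w₀ s,
        (hperp w₀ hw₀).1, B_zero_right Q, mul_zero, mul_one, add_zero, zero_add] at f1 f2
      exact ⟨f1, f2⟩
  have htN : t ∈ N₀ := by
    rw [htdef]
    exact N₀.smul_mem _ (N₀.sub_mem haN₀ hsN)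
  intro w hw
  set w' := w - B t w • s - B s w • t with hw'
  have hw'm : w' ∈ W := W.sub_mem (W.sub_mem hw (W.smul_mem _ hs)) (W.smul_mem _ ht)
  have h1 : B s w' = 0 := by
    rw [hw', B_sub_right Q, B_sub_right Q, B_smul_right Q, B_smul_right Q, B_self_of_singular Q hQs, hst]; ring
  have h2' : B t w' = 0 := by
    rw [hw', B_sub_right Q, B_sub_right Q, B_smul_right Q, B_smul_right Q, B_self_of_singular Q hQt,
      B_comm Q t s, hst]; ring
  have he := conn (s + (c - Q w') • t + w') (W.add_mem (W.add_mem hs (W.smul_mem _ ht)) hw'm)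
    (by rw [Q_add Q, Q_add Q, Q_smul Q, B_add_left Q, B_smul_left Q, B_smul_right Q, hQs, hQt, hst, h1, h2']; ring)
    t htN (by
      rw [B_add_right Q, B_add_right Q, B_smul_right Q, B_comm Q t s, hst, B_self_of_singular Q hQt, h2']
      simp)
  have hw'N : w' ∈ N₀ := by simpa using N₀.sub_mem he (N₀.add_mem hsN (N₀.smul_mem (c - Q w') htN))
  rw [show w = w' + B t w • s + B s w • t by rw [hw']; abel]
  exact N₀.add_mem (N₀.add_mem hw'N (N₀.smul_mem (B t w) hsN)) (N₀.smul_mem (B s w) htN)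

/-- A vector of value `c` in the subspace that is not orthogonal to a given one. -/
theorem exists_value_B (hk : 3 ≤ finrank F W) (h3 : finrank F W = 3 → (2 : F) ≠ 0 ∧ 5 ≤ Fintype.card F)
    (h4 : finrank F W = 4 → Fintype.card F = 2 → ¬ Cfsg.Geo.IsPlusTypeOn Q W) {c : F} (hc : c ≠ 0)
    {v : ι → F} (hv : v ∈ W) (hv0 : v ≠ 0) : ∃ e ∈ W, Q e = c ∧ B e v ≠ 0 := by
  by_contra hno
  push Not at hno
  obtain ⟨a, ha, hQa⟩ := exists_value hQ hW (by omega) c
  have h := value_conn hQ hW hk h3 h4 hc (N := perp Q (F ∙ v)) ha hQa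
    ((mem_perp_span Q).2 fun z hz => by rw [Set.mem_singleton_iff.1 hz, B_comm Q]; exact hno a ha hQa)
    fun e _ e' he' _ hQe' _ _ =>
      (mem_perp_span Q).2 fun z hz => by rw [Set.mem_singleton_iff.1 hz, B_comm Q]; exact hno e' he' hQe'
  exact hv0 (hW v hv fun y hy => orth (h hy) (Submodule.mem_span_singleton_self v))

end

/-- A second vector of the same value in a subspace. -/
theorem exists_second (hQ : (QuadraticMap.polarBilin Q).Nondegenerate) {U : Submodule F (ι → F)}
    (hU : (2 : F) ≠ 0 ∧ 5 ≤ Fintype.card F ∧ 2 ≤ finrank F U ∨ 3 ≤ finrank F U) {a : ι → F} (ha : a ∈ U)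
    (hQa : Q a ≠ 0) : ∃ a' ∈ U, Q a' = Q a ∧ a' ∉ F ∙ a := by
  by_cases h2 : (2 : F) = 0
  · have hU3 : 3 ≤ finrank F U := hU.resolve_left fun h => h.1 h2
    obtain ⟨y, hy, hya, hQy⟩ : ∃ y ∈ U, y ∉ F ∙ a ∧ Q y ≠ 0 := by
      by_contra hno
      push Not at hno
      have hB : ∀ y ∈ U, y ∉ F ∙ a → B y a = -Q a := fun y hy hya => by
        have := hno (y + a) (U.add_mem hy ha) fun h =>
          hya (by simpa using (F ∙ a).sub_mem h (Submodule.mem_span_singleton_self a))
        rw [Q_add Q, hno y hy hya, zero_add] at this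
        exact eq_neg_of_add_eq_zero_right this
      obtain ⟨y, hy, hya⟩ := SetLike.not_le_iff_exists.1 fun hle : U ≤ F ∙ a => by
        have := Submodule.finrank_mono hle
        have : finrank F (F ∙ a) ≤ 1 := (finrank_span_le_card _).trans (by simp)
        omega
      obtain ⟨z, hz, hzn⟩ := SetLike.not_le_iff_exists.1
          fun hle : U ≤ Submodule.span F (Set.range ![a, y]) => by
        have := Submodule.finrank_mono hle
        have := finrank_span_list_le ![a, y]
        omega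
      have hza : z ∉ F ∙ a := fun h => hzn (Submodule.span_mono (by rintro _ rfl; exact ⟨0, rfl⟩) h)
      have hyz : y + z ∉ F ∙ a := fun h => hzn (by
        obtain ⟨p, hp⟩ := Submodule.mem_span_singleton.1 h
        exact mem_span_pair_iff_range.2 ⟨p, -1, by rw [hp]; module⟩)
      have e := hB _ (U.add_mem hy hz) hyz
      rw [B_add_left Q, hB y hy hya, hB z hz hza] at e
      exact hQa (by linear_combination -e)
    obtain ⟨l, hl⟩ := exists_scale_two h2 hQy (Q a)
    have hl0 : l ≠ 0 := fun e => hQa (by rw [← hl, e, zero_mul, zero_mul])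
    exact ⟨l • y, U.smul_mem _ hy, by rw [Q_smul Q, hl], fun h => hya ((Submodule.smul_mem_iff _ hl0).1 h)⟩
  have indep : ∀ y : ι → F, B a y = 0 → y ≠ 0 → y ∉ F ∙ a := by
    intro y hay hy0 h
    obtain ⟨p, rfl⟩ := Submodule.mem_span_singleton.1 h
    rw [B_smul_right Q, B_self Q] at hay
    exact hy0 (by rw [(mul_eq_zero.1 hay).resolve_right (mul_ne_zero h2 hQa), zero_smul])
  obtain ⟨y, ⟨hy, hay⟩, hy0⟩ := Submodule.exists_mem_ne_zero_of_ne_bot (p := U ⊓ perp Q (F ∙ a)) (fun e => by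
    have := le_finrank_inf_perp_one hQ U a
    rw [e, finrank_bot] at this; omega)
  have hay' : B a y = 0 := orth hay (Submodule.mem_span_singleton_self a)
  have add : ∀ y ∈ U, B a y = 0 → y ≠ 0 → Q y = 0 → ∃ a' ∈ U, Q a' = Q a ∧ a' ∉ F ∙ a := fun y hy hay hy0 hQy =>
    ⟨a + y, U.add_mem ha hy, by rw [Q_add Q, hQy, hay, add_zero, add_zero], fun h => indep y hay hy0 (by
      simpa using (F ∙ a).sub_mem h (Submodule.mem_span_singleton_self a))⟩
  by_cases hQy : Q y = 0
  · exact add y hy hay' hy0 hQy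
  by_cases h5 : 5 ≤ Fintype.card F
  · obtain ⟨g, hg0, hg1⟩ := exists_ne_sq (F := F) (by omega)
    obtain ⟨ε, hε0, hQf⟩ : ∃ ε : F, ε ≠ 0 ∧ Q (a + ε • y) ≠ 0 := by
      by_contra hno
      push Not at hno
      have e1 := hno 1 one_ne_zero
      have e2 := hno g hg0
      rw [Q_add Q, Q_smul Q, B_smul_right Q, hay'] at e1 e2
      have : (g * g - 1) * Q y = 0 := by linear_combination e2 - e1
      exact hQy ((mul_eq_zero.1 this).resolve_left (sub_ne_zero.2 hg1))
    refine ⟨_, ?_, Q_act (refl_mem_iso Q (a + ε • y)) a, fun h => indep (ε • y)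
      (by rw [B_smul_right Q, hay', mul_zero]) (smul_ne_zero hε0 hy0) ?_⟩
    · rw [act_refl Q hQf]
      exact U.sub_mem ha (U.smul_mem _ (U.add_mem ha (U.smul_mem _ hy)))
    rw [act_refl Q hQf, B_add_left Q, B_smul_left Q, B_self Q, B_comm Q y a, hay'] at h
    have hne : (Q (a + ε • y))⁻¹ * (2 * Q a + ε * 0) ≠ 0 :=
      mul_ne_zero (inv_ne_zero hQf) (by rw [mul_zero, add_zero]; exact mul_ne_zero h2 hQa)
    have hh := (F ∙ a).sub_mem (Submodule.mem_span_singleton_self a) h
    rw [sub_sub_cancel] at hh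
    have := (Submodule.smul_mem_iff _ hne).1 hh
    simpa using (F ∙ a).sub_mem this (Submodule.mem_span_singleton_self a)
  -- the field has three elements
  have hq3 : Fintype.card F = 3 := by
    have h1 := Fintype.one_lt_card (α := F)
    have ho : Fintype.card F % 2 = 1 := Nat.odd_iff.1 (Nat.odd_iff.2 (FiniteField.odd_card_of_char_ne_two fun hc =>
      h2 (by have := ringChar.of_eq hc; exact CharTwo.two_eq_zero)))
    omega
  have h30 : (3 : F) = 0 := by
    have := FiniteField.cast_card_eq_zero F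
    rw [hq3] at this
    exact_mod_cast this
  have val : ∀ y : ι → F, Q y ≠ 0 → Q y = Q a ∨ Q y = -Q a := fun y hy => by
    have h1 := FiniteField.pow_card_sub_one_eq_one (Q y / Q a) (div_ne_zero hy hQa)
    rw [hq3] at h1
    rcases sq_eq_one_iff.1 h1 with e | e
    · exact Or.inl (by rw [div_eq_one_iff_eq hQa] at e; exact e)
    · exact Or.inr (by rw [div_eq_iff hQa, neg_one_mul] at e; exact e)
  rcases val y hQy with e | e
  · exact ⟨y, hy, e, indep y hay' hy0⟩
  have hU3 : 3 ≤ finrank F U := hU.resolve_left fun h => h5 h.2.1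
  obtain ⟨z, ⟨⟨hz, haz⟩, hyz⟩, hz0⟩ := Submodule.exists_mem_ne_zero_of_ne_bot
      (p := U ⊓ perp Q (F ∙ a) ⊓ perp Q (F ∙ y)) (fun e => by
    have h1 := le_finrank_inf_perp_one hQ U a
    have h2 := le_finrank_inf_perp_one hQ (U ⊓ perp Q (F ∙ a)) y
    rw [e, finrank_bot] at h2; omega)
  have haz' : B a z = 0 := orth haz (Submodule.mem_span_singleton_self a)
  have hyz' : B y z = 0 := orth hyz (Submodule.mem_span_singleton_self y)
  by_cases hQz : Q z = 0
  · exact add z hz haz' hz0 hQz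
  rcases val z hQz with e' | e'
  · exact ⟨z, hz, e', indep z haz' hz0⟩
  have hQyz : Q (y + z) = Q a := by
    rw [Q_add Q, e, e', hyz']
    linear_combination (-Q a) * h30
  exact ⟨y + z, U.add_mem hy hz, hQyz, indep _ (by rw [B_add_right Q, hay', haz', add_zero])
    fun h => hQa (by rw [← hQyz, h, map_zero])⟩

end Cfsg.Agent.MaxCl.Orth
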