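/-
A group between a symplectic group over an extension field of prime degree and the symplectic group over the
ground field which has an element that is not semilinear contains every symplectic transvection.

An element with the largest intersection of the image of a line with a line sends some line to the sum of a
hyperplane `D` of a line `K a` and one further vector; the translations of this image along `D a` are realised
by elements of the small group, and conjugating a root element of the image by them gives a transvection.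
-/
import Cfsg.Agent.Lib.MaxCl.Symplectic
import Cfsg.Agent.Lib.MaxCl.ExtFieldMax

set_option autoImplicit false
set_option linter.unusedSectionVars false
set_option maxHeartbeats 800000

namespace Cfsg.Agent.MaxCl.SpExt

open scoped MatrixGroups Matrix
open Module (finrank)

variable {ι : Type} [Fintype ι] [DecidableEq ι] {F : Type*} [Field F]
  {K : Type*} [Field K] [Algebra F K] [Module K (ι → F)] [IsScalarTower F K (ι → F)]
variable {f : (ι → F) → (ι → F) → F}

section Trace

variable [Finite F] [Module.Finite F K]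

theorem trace_nondeg : (Algebra.traceForm F K).Nondegenerate := traceForm_nondegenerate F K

theorem ext_trace {a b : K} (h : ∀ c : K, Algebra.trace F K (c * a) = Algebra.trace F K (c * b)) : a = b := by
  rw [← sub_eq_zero]
  refine (trace_nondeg (F := F) (K := K)).1 _ fun c => ?_
  rw [Algebra.traceForm_apply, mul_comm, mul_sub, map_sub, h, sub_self]

/-- every functional on `K` is given by the trace -/
theorem exists_trace_repr (l : K →ₗ[F] F) : ∃ a : K, ∀ c, l c = Algebra.trace F K (c * a) := by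
  obtain ⟨a, ha⟩ := ((Algebra.traceForm F K).toDual trace_nondeg).surjective l
  refine ⟨a, fun c => ?_⟩
  rw [← ha, LinearMap.BilinForm.toDual_def, Algebra.traceForm_apply, mul_comm]

theorem exists_trace_eq (t : F) : ∃ c : K, Algebra.trace F K c = t := by
  exact Algebra.trace_surjective F K t

end Trace

/-- `Φ` is an alternating `K`-form with `trace ∘ Φ = f` -/
structure KForm (f : (ι → F) → (ι → F) → F) (Φ : (ι → F) →ₗ[K] (ι → F) →ₗ[K] K) : Prop where
  trace : ∀ x y, Algebra.trace F K (Φ x y) = f x y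
  alt : ∀ x, Φ x x = 0

/-- a self-adjoint field gives a form over the field -/
theorem exists_kform [Finite F] [Module.Finite F K] (hf : Cfsg.Geo.IsSymplecticForm f)
    (hsa : ∀ (k : K) (x y : ι → F), f (k • x) y = f x (k • y))
    (halt : ∀ (k : K) (x : ι → F), f (k • x) x = 0) :
    ∃ Φ : (ι → F) →ₗ[K] (ι → F) →ₗ[K] K, KForm f Φ := by
  have hex : ∀ x y : ι → F, ∃ a : K, ∀ c : K, f (c • x) y = Algebra.trace F K (c * a) := fun x y =>
    exists_trace_repr
      { toFun := fun c : K => f (c • x) y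
        map_add' := fun c d => by rw [add_smul, f_add_left hf]
        map_smul' := fun t c => by rw [smul_assoc, f_smul_left hf, RingHom.id_apply, smul_eq_mul] }
  choose φ hφ using hex
  refine ⟨LinearMap.mk₂ K φ ?_ ?_ ?_ ?_, fun x y => ?_, fun x => ?_⟩
  · intro x₁ x₂ y
    refine ext_trace (F := F) fun c => ?_
    rw [← hφ, mul_add, map_add, ← hφ, ← hφ, smul_add, f_add_left hf]
  · intro k x y
    refine ext_trace (F := F) fun c => ?_
    rw [← hφ, smul_eq_mul, ← mul_assoc, ← hφ, smul_smul]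
  · intro x y₁ y₂
    refine ext_trace (F := F) fun c => ?_
    rw [← hφ, mul_add, map_add, ← hφ, ← hφ, f_add_right hf]
  · intro k x y
    refine ext_trace (F := F) fun c => ?_
    rw [← hφ, smul_eq_mul, ← mul_assoc, ← hφ, mul_comm c k, mul_smul, hsa k]
  · rw [LinearMap.mk₂_apply, ← one_mul (φ x y), ← hφ, one_smul]
  · rw [LinearMap.mk₂_apply]
    refine ext_trace (F := F) fun c => ?_
    rw [← hφ, mul_zero, map_zero, halt]

variable {Φ : (ι → F) →ₗ[K] (ι → F) →ₗ[K] K} (hΦ : KForm f Φ)
include hΦ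

theorem skew (x y : ι → F) : Φ x y = -Φ y x := by
  have h := hΦ.alt (x + y)
  simp only [map_add, LinearMap.add_apply, hΦ.alt, zero_add, add_zero] at h
  exact eq_neg_of_add_eq_zero_right h

theorem eq_zero_symm {x y : ι → F} (h : Φ x y = 0) : Φ y x = 0 := by rw [skew hΦ, h, neg_zero]

theorem trace_mul (c : K) (x y : ι → F) : Algebra.trace F K (c * Φ x y) = f (c • x) y := by
  rw [← hΦ.trace, map_smul, LinearMap.smul_apply, smul_eq_mul]

theorem adjoint (c : K) (x y : ι → F) : f (c • x) y = f x (c • y) := by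
  rw [← hΦ.trace, ← hΦ.trace, LinearMap.map_smul Φ c x, LinearMap.smul_apply, LinearMap.map_smul (Φ x) c y]

theorem f_line (a : ι → F) (c d : K) : f (c • a) (d • a) = 0 := by
  rw [← hΦ.trace, LinearMap.map_smul Φ c a, LinearMap.smul_apply, LinearMap.map_smul (Φ a) d a, hΦ.alt, smul_zero, smul_zero, map_zero]

theorem f_eq_zero_of {x y : ι → F} (h : Φ x y = 0) (c d : K) : f (c • x) (d • y) = 0 := by
  rw [← hΦ.trace, LinearMap.map_smul Φ c x, LinearMap.smul_apply, LinearMap.map_smul (Φ x) d y, h, smul_zero, smul_zero, map_zero]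

variable (hf : Cfsg.Geo.IsSymplecticForm f)
include hf

theorem exists_ne {x : ι → F} (hx : x ≠ 0) : ∃ y, Φ x y ≠ 0 := by
  obtain ⟨y, hy⟩ := (hf.nondegenerate x hx).2
  exact ⟨y, fun h => hy (by rw [← hΦ.trace, h, map_zero])⟩

/-- a vector orthogonal to `a` but not to `w` -/
theorem exists_separate {a w : ι → F} (ha : a ≠ 0) (hw : w ∉ (K ∙ a)) :
    ∃ v, Φ a v = 0 ∧ Φ w v ≠ 0 := by
  obtain ⟨v₀, hv₀⟩ := exists_ne hΦ hf ha
  have hne : w - (Φ w v₀ / Φ a v₀) • a ≠ 0 := fun h =>
    hw (Submodule.mem_span_singleton.2 ⟨_, (sub_eq_zero.1 h).symm⟩)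
  obtain ⟨y, hy⟩ := exists_ne hΦ hf hne
  refine ⟨y - (Φ a y / Φ a v₀) • v₀, ?_, fun h => hy ?_⟩
  · rw [map_sub, map_smul, smul_eq_mul, div_mul_cancel₀ _ hv₀, sub_self]
  · rw [map_sub, map_smul, smul_eq_mul] at h
    rw [map_sub, map_smul, LinearMap.sub_apply, LinearMap.smul_apply, smul_eq_mul, ← h]
    ring

variable {M : Subgroup (GL ι F)}
variable (hlin : ∀ g : GL ι F, g ∈ isoGroup f → (∀ (k : K) x, act g (k • x) = k • act g x) → g ∈ M)
include hlin

/-- transvections over `K` -/
theorem exists_ktrans (v : ι → F) (k : K) :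
    ∃ h ∈ M, h ∈ isoGroup f ∧ (∀ x, act h x = x + (k * Φ x v) • v) ∧
      ∀ (c : K) x, act h (c • x) = c • act h x := by
  let e : (ι → F) ≃ₗ[F] (ι → F) :=
    { toFun := fun x => x + (k * Φ x v) • v
      map_add' := fun x y => by simp only [map_add, LinearMap.add_apply, mul_add, add_smul]; abel
      map_smul' := fun t x => by
        rw [← algebraMap_smul K t x, map_smul, LinearMap.smul_apply, RingHom.id_apply, smul_eq_mul,
          mul_left_comm, mul_smul, ← smul_add, algebraMap_smul]
      invFun := fun x => x - (k * Φ x v) • v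
      left_inv := fun x => by simp [hΦ.alt]
      right_inv := fun x => by simp [hΦ.alt] }
  obtain ⟨h, hh⟩ : ∃ h, h = ExtF.ofEquiv e := ⟨_, rfl⟩
  have hact : ∀ x, act h x = x + (k * Φ x v) • v := fun x => by rw [hh, ExtF.act_ofEquiv]; rfl
  have hc : ∀ (c : K) x, act h (c • x) = c • act h x := fun c x => by
    rw [hact, hact, map_smul, LinearMap.smul_apply, smul_eq_mul, mul_left_comm, mul_smul, smul_add]
  have hiso : h ∈ isoGroup f := by
    rw [mem_isoGroup]
    intro x y
    rw [hact, hact, ← hΦ.trace, ← hΦ.trace]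
    congr 1
    simp only [map_add, map_smul, LinearMap.add_apply, LinearMap.smul_apply, hΦ.alt, smul_eq_mul]
    rw [skew hΦ v y]
    ring
  exact ⟨h, hlin h hiso hc, hiso, hact, hc⟩

theorem exists_cross {a v : ι → F} (hav : Φ a v = 0) (k : K) :
    ∃ h ∈ M, ∀ x, act h x = x + (k * Φ x v) • a + (k * Φ x a) • v := by
  obtain ⟨h₁, hm₁, -, ha₁, -⟩ := exists_ktrans hΦ hf hlin (a + v) k
  obtain ⟨h₂, hm₂, -, ha₂, -⟩ := exists_ktrans hΦ hf hlin a (-k)
  obtain ⟨h₃, hm₃, -, ha₃, -⟩ := exists_ktrans hΦ hf hlin v (-k)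
  refine ⟨h₁ * h₂ * h₃, M.mul_mem (M.mul_mem hm₁ hm₂) hm₃, fun x => ?_⟩
  rw [act_mul, act_mul, ha₃, ha₂, ha₁]
  simp only [map_add, map_smul, LinearMap.add_apply, LinearMap.smul_apply, hΦ.alt, hav, eq_zero_symm hΦ hav,
    smul_eq_mul, mul_zero, add_zero]
  module

/-- the small group is transitive on non-zero vectors -/
theorem exists_move {a b : ι → F} (ha : a ≠ 0) (hb : b ≠ 0) :
    ∃ h ∈ M, h ∈ isoGroup f ∧ act h a = b ∧ ∀ (c : K) x, act h (c • x) = c • act h x := by
  have step : ∀ {a b : ι → F}, Φ a b ≠ 0 →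
      ∃ h ∈ M, h ∈ isoGroup f ∧ act h a = b ∧ ∀ (c : K) x, act h (c • x) = c • act h x := by
    intro a b hab
    obtain ⟨h, hm, hiso, hact, hc⟩ := exists_ktrans hΦ hf hlin (b - a) (Φ a b)⁻¹
    refine ⟨h, hm, hiso, ?_, hc⟩
    rw [hact, map_sub, hΦ.alt, sub_zero, inv_mul_cancel₀ hab, one_smul, add_sub_cancel]
  obtain ⟨y₁, hy₁⟩ := exists_ne hΦ hf ha
  obtain ⟨y₂, hy₂⟩ := exists_ne hΦ hf hb
  obtain ⟨c, h1, h2⟩ : ∃ c, Φ a c ≠ 0 ∧ Φ b c ≠ 0 := by
    by_cases h : Φ b y₁ = 0
    · by_cases h' : Φ a y₂ = 0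
      · exact ⟨y₁ + y₂, by rwa [map_add, h', add_zero], by rwa [map_add, h, zero_add]⟩
      · exact ⟨y₂, h', hy₂⟩
    · exact ⟨y₁, hy₁, h⟩
  obtain ⟨u, hu, hui, hua, huc⟩ := step h1
  obtain ⟨v, hv, hvi, hva, hvc⟩ := step (show Φ c b ≠ 0 from fun h => h2 (eq_zero_symm hΦ h))
  exact ⟨v * u, M.mul_mem hv hu, Subgroup.mul_mem _ hvi hui, by rw [act_mul, hua, hva],
    fun k x => by rw [act_mul, act_mul, huc, hvc]⟩

variable [Finite F] [Module.Finite F K]

/-- an image of a line which is a hyperplane of a line and one more vector, with its translations -/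
theorem exists_config (hr : (finrank F K).Prime) (hm : 2 ≤ finrank K (ι → F)) {g₀ : GL ι F} (hg₀ : g₀ ∈ M)
    (hns : ¬ ExtF.IsSemi K g₀) :
    ∃ g ∈ M, ∃ (a₀ : ι → F) (j₁ : K) (l : K →ₗ[F] F) (D : Submodule F K),
      a₀ ≠ 0 ∧ finrank F D + 1 = finrank F K ∧ (1 : K) ∈ D ∧ l j₁ = 1 ∧
      act g (j₁ • a₀) ∉ (K ∙ act g a₀) ∧
      (∀ d ∈ D, ∃ i : K, l i = 0 ∧ act g (i • a₀) = d • act g a₀) ∧
      ∀ e ∈ D, ∃ u ∈ M, ∀ j : K, act u (act g (j • a₀)) = act g (j • a₀) + l j • (e • act g a₀) := by
  classical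
  haveI : Finite K := Module.finite_of_finite F
  let S : Set ℕ := {n | ∃ g ∈ M, ∃ (a₀ : ι → F) (k : K), act g (k • a₀) ∉ (K ∙ act g a₀) ∧
    finrank F (ExtF.lineD K g a₀) = n}
  obtain ⟨n₀, hn₀⟩ : ∃ n, n ∈ S := by
    obtain ⟨a, k, h⟩ := ExtF.exists_line_not_line hm hns
    exact ⟨_, g₀, hg₀, a, k, h, rfl⟩
  have hbound : ∀ n ∈ S, n ≤ finrank F K := by
    rintro n ⟨g, -, a, k, -, rfl⟩
    exact Submodule.finrank_le _
  obtain ⟨g, hg, a₀, k₁, hk₁, hfin⟩ : Nat.findGreatest (· ∈ S) (finrank F K) ∈ S :=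
    Nat.findGreatest_spec (hbound n₀ hn₀) hn₀
  have hmax : ∀ n ∈ S, n ≤ finrank F (ExtF.lineD K g a₀) := fun n hn => by
    rw [hfin]; exact Nat.le_findGreatest (hbound n hn) hn
  have ha₀ : a₀ ≠ 0 := by
    rintro rfl
    simp at hk₁
  set D := ExtF.lineD K g a₀ with hD
  set a := act g a₀ with hadef
  have hane : a ≠ 0 := fun h => ha₀ (act_injective g (by rw [← hadef, h, map_zero]))
  have h1D : (1 : K) ∈ D := (ExtF.mem_lineD g a₀ 1).2 ⟨1, by rw [one_smul, one_smul]⟩
  -- the map of the line and the preimage of the line of `a`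
  let L : K →ₗ[F] (ι → F) := act g ∘ₗ (LinearMap.toSpanSingleton K (ι → F) a₀).restrictScalars F
  have hL : Function.Injective L := fun x y h => smul_left_injective K ha₀ (act_injective g h)
  let A₀ : Submodule F K := ((K ∙ a).restrictScalars F).comap L
  have hDA : finrank F D ≤ finrank F A₀ := by
    have h1 : finrank F A₀ = finrank F (A₀.map L) := (Submodule.equivMapOfInjective L hL A₀).finrank_eq
    have h2 : finrank F D = finrank F (D.map ((LinearMap.toSpanSingleton K (ι → F) a).restrictScalars F)) :=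
      ((Submodule.equivMapOfInjective _ (smul_left_injective K hane) D).finrank_eq)
    rw [h1, h2]
    refine Submodule.finrank_mono ?_
    rintro _ ⟨d, hd, rfl⟩
    obtain ⟨i, hi⟩ := (ExtF.mem_lineD g a₀ d).1 hd
    exact ⟨i, Submodule.mem_span_singleton.2 ⟨d, hi.symm⟩, hi⟩
  have hA₀ : finrank F A₀ < finrank F K := Submodule.finrank_lt fun h =>
    hk₁ (Submodule.eq_top_iff'.1 h k₁)
  -- a family of translations along `a`
  obtain ⟨φ, hφa, hφne, htr⟩ : ∃ φ : (ι → F) →ₗ[K] K, φ a = 0 ∧ (∃ j, φ (L j) ≠ 0) ∧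
      ∀ k : K, ∃ u ∈ M, ∀ j, act u (L j) = L j + (k * φ (L j)) • a := by
    by_cases hA : ∃ j, Φ (L j) a ≠ 0
    · refine ⟨Φ.flip a, hΦ.alt a, hA, fun k => ?_⟩
      obtain ⟨u, hu, -, hact, -⟩ := exists_ktrans hΦ hf hlin a k
      exact ⟨u, hu, fun j => hact _⟩
    · push Not at hA
      obtain ⟨v, hav, hwv⟩ := exists_separate hΦ hf hane hk₁
      refine ⟨Φ.flip v, hav, ⟨k₁, hwv⟩, fun k => ?_⟩
      obtain ⟨u, hu, hact⟩ := exists_cross hΦ hf hlin hav k
      refine ⟨u, hu, fun j => ?_⟩
      rw [hact, hA, mul_zero, zero_smul, add_zero]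
      rfl
  obtain ⟨ψ, hψ⟩ : ∃ ψ : K →ₗ[F] K, ∀ j, ψ j = φ (L j) := ⟨φ.restrictScalars F ∘ₗ L, fun j => rfl⟩
  have hker : A₀ ≤ LinearMap.ker ψ := fun j hj => by
    obtain ⟨c, hc⟩ := Submodule.mem_span_singleton.1 (show L j ∈ (K ∙ a) from hj)
    rw [LinearMap.mem_ker, hψ, ← hc, map_smul, hφa, smul_zero]
  -- no translation increases the intersection
  have key : ∀ k : K, (∃ j, k * ψ j ∉ D) →
      finrank F (D.comap (LinearMap.mulLeft F k ∘ₗ ψ)) ≤ finrank F D := by
    rintro k ⟨j₀, hj₀⟩
    obtain ⟨u, hu, hua⟩ := htr k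
    have hua' : ∀ j, act u (act g (j • a₀)) = act g (j • a₀) + (k * ψ j) • a := fun j => by
      rw [hψ]; exact hua j
    have hga : act (g⁻¹ * u * g) a₀ = a₀ := by
      have h1 : ψ 1 = 0 := LinearMap.mem_ker.1 (hker (by
        show L 1 ∈ (K ∙ a)
        refine Submodule.mem_span_singleton.2 ⟨1, ?_⟩
        show _ = act g ((1 : K) • a₀)
        rw [one_smul, one_smul]))
      have h2 := hua' 1
      rw [h1, mul_zero, zero_smul, add_zero, one_smul] at h2
      rw [act_mul, act_mul, h2, act_inv_act]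
    have hmove : act (g⁻¹ * u * g) (j₀ • a₀) ∉ (K ∙ act (g⁻¹ * u * g) a₀) := by
      rw [hga]
      intro h
      obtain ⟨i, hi⟩ := Submodule.mem_span_singleton.1 h
      apply hj₀
      refine (ExtF.mem_lineD g a₀ _).2 ⟨i - j₀, ?_⟩
      have h2 := congrArg (act g) hi
      rw [act_mul, act_mul, act_act_inv, hua'] at h2
      rw [sub_smul, map_sub, h2, add_sub_cancel_left]
    refine le_trans ?_ (hmax _ ⟨g⁻¹ * u * g, M.mul_mem (M.mul_mem (M.inv_mem hg) hu) hg, a₀, j₀, hmove, rfl⟩)
    let T : K →ₗ[F] (ι → F) := act (g⁻¹ * u * g) ∘ₗ (LinearMap.toSpanSingleton K (ι → F) a₀).restrictScalars F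
    have hT : Function.Injective T := fun x y h => smul_left_injective K ha₀ (act_injective _ h)
    rw [(Submodule.equivMapOfInjective T hT _).finrank_eq,
      (Submodule.equivMapOfInjective ((LinearMap.toSpanSingleton K (ι → F) a₀).restrictScalars F)
        (smul_left_injective K ha₀) (ExtF.lineD K (g⁻¹ * u * g) a₀)).finrank_eq]
    refine Submodule.finrank_mono ?_
    rintro _ ⟨j, hj, rfl⟩
    obtain ⟨i, hi⟩ := (ExtF.mem_lineD g a₀ _).1 (show k * ψ j ∈ D from hj)
    refine ⟨j + i, (ExtF.mem_lineD _ _ _).2 ⟨j, ?_⟩, ?_⟩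
    · rw [hga, act_mul, act_mul, hua', ← hi, ← map_add, ← add_smul, act_inv_act]
    · simp only [LinearMap.coe_restrictScalars, LinearMap.toSpanSingleton_apply, T, LinearMap.comp_apply]
      rw [act_mul, act_mul, hua', ← hi, ← map_add, ← add_smul, act_inv_act]
  obtain ⟨j₂, hj₂⟩ := hφne
  rw [← hψ] at hj₂
  have hDtop : D ≠ ⊤ := fun h => by
    rw [h, finrank_top] at hDA
    omega
  let Stab : Subalgebra F K :=
    { carrier := {c | ∀ d ∈ D, c * d ∈ D}
      mul_mem' := fun {x y} hx hy d hd => by rw [mul_assoc]; exact hx _ (hy d hd)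
      one_mem' := fun d hd => by rwa [one_mul]
      add_mem' := fun {x y} hx hy d hd => by rw [add_mul]; exact D.add_mem (hx d hd) (hy d hd)
      zero_mem' := fun d _ => by rw [zero_mul]; exact D.zero_mem
      algebraMap_mem' := fun c d hd => by rw [← Algebra.smul_def]; exact D.smul_mem c hd }
  have hStab : Stab = ⊥ := by
    haveI := Subalgebra.isSimpleOrder_of_finrank_prime F K hr
    refine (IsSimpleOrder.eq_bot_or_eq_top Stab).resolve_right fun hb => hDtop ?_
    refine eq_top_iff.2 fun c _ => ?_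
    have := (hb ▸ Algebra.mem_top : c ∈ Stab) 1 h1D
    rwa [mul_one] at this
  have hline : ∀ j, ∃ t : F, ψ j = t • ψ j₂ := by
    intro j
    have hmem : ψ j / ψ j₂ ∈ Stab := by
      intro d hd
      rcases eq_or_ne d 0 with rfl | hd0
      · rw [mul_zero]; exact D.zero_mem
      by_contra hnot
      have hle := key (d / ψ j₂) ⟨j, by rwa [div_mul_eq_mul_div, mul_comm d, ← div_mul_eq_mul_div]⟩
      have hlt : finrank F A₀ < finrank F (D.comap (LinearMap.mulLeft F (d / ψ j₂) ∘ₗ ψ)) := by
        refine Submodule.finrank_lt_finrank_of_lt (lt_of_le_of_ne (fun i hi => ?_) fun h => hj₂ ?_)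
        · show d / ψ j₂ * ψ i ∈ D
          rw [LinearMap.mem_ker.1 (hker hi), mul_zero]; exact D.zero_mem
        · refine LinearMap.mem_ker.1 (hker (h ▸ ?_))
          show d / ψ j₂ * ψ j₂ ∈ D
          rwa [div_mul_cancel₀ _ hj₂]
      omega
    obtain ⟨t, ht⟩ := Algebra.mem_bot.1 (hStab ▸ hmem)
    exact ⟨t, by rw [Algebra.smul_def, ht, div_mul_cancel₀ _ hj₂]⟩
  choose t ht using hline
  have hinj : Function.Injective fun s : F => s • ψ j₂ := smul_left_injective F hj₂
  let l : K →ₗ[F] F :=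
    { toFun := t
      map_add' := fun x y => hinj (by simp only [add_smul, ← ht, map_add])
      map_smul' := fun c x => hinj (by simp only [RingHom.id_apply, smul_eq_mul, mul_smul, ← ht, map_smul]) }
  have hl : ∀ j, ψ j = l j • ψ j₂ := ht
  have hl1 : l j₂ = 1 := hinj (by show l j₂ • ψ j₂ = (1 : F) • ψ j₂; rw [one_smul, ← hl])
  -- the dimensions
  have hkerl : LinearMap.ker l = LinearMap.ker ψ := by
    ext j
    rw [LinearMap.mem_ker, LinearMap.mem_ker, hl, smul_eq_zero, or_iff_left hj₂]
  have hrange : finrank F (LinearMap.range l) ≤ 1 := (Submodule.finrank_le _).trans_eq (Module.finrank_self F)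
  have hkerψ : finrank F (LinearMap.ker ψ) ≤ finrank F D := by
    obtain ⟨c, hc⟩ : ∃ c, c ∉ D := by
      by_contra h; push Not at h; exact hDtop (eq_top_iff.2 fun x _ => h x)
    refine le_trans (Submodule.finrank_mono fun i hi => ?_)
      (key (c / ψ j₂) ⟨j₂, by rwa [div_mul_cancel₀ _ hj₂]⟩)
    show c / ψ j₂ * ψ i ∈ D
    rw [LinearMap.mem_ker.1 hi, mul_zero]; exact D.zero_mem
  have hrn := LinearMap.finrank_range_add_finrank_ker l
  rw [hkerl] at hrn
  have hAker : A₀ = LinearMap.ker ψ := Submodule.eq_of_le_of_finrank_le hker (hkerψ.trans hDA)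
  refine ⟨g, hg, a₀, j₂, l, D, ha₀, ?_, h1D, hl1, fun h => ?_, fun d hd => ?_, fun e he => ?_⟩
  · omega
  · exact hj₂ (LinearMap.mem_ker.1 (hker h))
  · obtain ⟨i, hi⟩ := (ExtF.mem_lineD g a₀ d).1 hd
    refine ⟨i, ?_, hi⟩
    rw [← LinearMap.mem_ker, hkerl]
    exact hker (Submodule.mem_span_singleton.2 ⟨d, hi.symm⟩)
  · obtain ⟨u, hu, hua⟩ := htr (e / ψ j₂)
    refine ⟨u, hu, fun j => (hua j).trans ?_⟩
    rw [← hψ, hl j, mul_smul_comm, div_mul_cancel₀ _ hj₂, smul_assoc]
    rfl

variable (hM : M ≤ isoGroup f)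
include hM

/-- `x ↦ f (x, y) • z` -/
noncomputable def bmap (hf : Cfsg.Geo.IsSymplecticForm f) (y z : ι → F) : (ι → F) →ₗ[F] (ι → F) :=
  (flin hf.bilinear y).smulRight z

omit hΦ hlin hM in
theorem bmap_apply (y z x : ι → F) : bmap hf y z x = f x y • z := rfl

/-- `x ↦ f (x, y) • z + f (x, z) • y` -/
noncomputable def short (hf : Cfsg.Geo.IsSymplecticForm f) (y z : ι → F) : (ι → F) →ₗ[F] (ι → F) :=
  bmap hf y z + bmap hf z y

/-- `1 + N` is in `M` -/
def InM (M : Subgroup (GL ι F)) (N : (ι → F) →ₗ[F] (ι → F)) : Prop := ∃ h ∈ M, ∀ x, act h x = x + N x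

omit hΦ hf hlin hM in
theorem InM.zero : InM M (0 : (ι → F) →ₗ[F] (ι → F)) := ⟨1, M.one_mem, fun x => by simp [act_one]⟩

omit hΦ hf hlin hM in
theorem InM.add {N N' : (ι → F) →ₗ[F] (ι → F)} (h : InM M N) (h' : InM M N') (h0 : ∀ x, N (N' x) = 0) :
    InM M (N + N') := by
  obtain ⟨p, hp, hpx⟩ := h
  obtain ⟨q, hq, hqx⟩ := h'
  refine ⟨p * q, M.mul_mem hp hq, fun x => ?_⟩
  rw [act_mul, hqx, hpx, map_add, h0, add_zero, LinearMap.add_apply]
  abel

omit hΦ hlin in
theorem InM.conj {N : (ι → F) →ₗ[F] (ι → F)} (h : InM M N) {u : GL ι F} (hu : u ∈ M)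
    {N' : (ι → F) →ₗ[F] (ι → F)} (hN : ∀ x, act u (N x) = N' (act u x)) : InM M N' := by
  obtain ⟨p, hp, hpx⟩ := h
  refine ⟨u * p * u⁻¹, M.mul_mem (M.mul_mem hu hp) (M.inv_mem hu), fun x => ?_⟩
  rw [act_mul, act_mul, hpx, map_add, hN, act_act_inv]

omit hΦ hlin hM in
theorem full_of_inM {z : ι → F} (h : ∀ c : F, InM M (c • bmap hf z z)) : Full hf M z := by
  intro c
  obtain ⟨p, hp, hpx⟩ := h c
  have : stv hf z c = p := gl_ext fun x => by
    rw [act_stv hf, hpx, LinearMap.smul_apply, bmap_apply, smul_smul]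
  rwa [this]

omit hΦ hlin hM in
theorem short_conj {u : GL ι F} (hu : u ∈ isoGroup f) (y z x : ι → F) :
    act u (short hf y z x) = short hf (act u y) (act u z) (act u x) := by
  simp only [short, LinearMap.add_apply, bmap_apply, map_add, map_smul, mem_isoGroup.1 hu]

/-- one full vector suffices -/
theorem le_of_full {z : ι → F} (hz : z ≠ 0) (h : Full hf M z) : isoGroup f ≤ M := by
  refine isoGroup_le_of_full hf M fun v => ?_
  rcases eq_or_ne v 0 with rfl | hv
  · exact full_zero hf M
  obtain ⟨u, hu, hui, hua, -⟩ := exists_move hΦ hf hlin hz hv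
  exact hua ▸ full_conj hf hu hui h

/-- The extension field group is maximal; the dimension condition is only needed over the field of two
elements. -/
theorem iso_le_of_scalars [Fintype F] (hr : (finrank F K).Prime) (hm : 2 ≤ finrank K (ι → F))
    (hbig : (∀ t : F, t = 0 ∨ t = 1) → finrank F K = 2 → 3 ≤ finrank K (ι → F)) {g₀ : GL ι F}
    (hg₀ : g₀ ∈ M) (hns : ¬ ExtF.IsSemi K g₀) : isoGroup f ≤ M := by
  classical
  haveI : Finite K := Module.finite_of_finite F
  obtain ⟨g, hg, a₀, j₁, l, D, ha₀, hD, h1D, hl1, hw, hDl, htr⟩ := exists_config hΦ hf hlin hr hm hg₀ hns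
  set a := act g a₀ with hadef
  have hane : a ≠ 0 := fun h => ha₀ (act_injective g (by rw [← hadef, h, map_zero]))
  have hgf := mem_isoGroup.1 (hM hg)
  have hLiso : ∀ i j : K, f (act g (i • a₀)) (act g (j • a₀)) = 0 := fun i j => by
    rw [hgf, f_line hΦ]
  have hinL : ∀ e ∈ D, ∃ i : K, e • a = act g (i • a₀) := fun e he => by
    obtain ⟨i, -, hi⟩ := hDl e he
    exact ⟨i, hi.symm⟩
  have haL : a = act g ((1 : K) • a₀) := by rw [one_smul]
  -- conjugating a root element of the image by a translation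
  have hX : ∀ e ∈ D, ∀ i : K,
      InM M (short hf (e • a) (act g (i • a₀)) + l i • bmap hf (e • a) (e • a)) := by
    intro e he i
    obtain ⟨u, hu, hua⟩ := htr e he
    obtain ⟨c₁, hc₁⟩ := exists_trace_repr l
    have hc0 : c₁ ≠ 0 := by
      intro h
      have := hc₁ j₁
      rw [h, mul_zero, map_zero, hl1] at this
      exact one_ne_zero this
    set k := i / c₁ with hk
    have hkc : k * c₁ = i := div_mul_cancel₀ i hc0
    obtain ⟨t, ht, -, htx, -⟩ := exists_ktrans hΦ hf hlin a₀ k
    set η : (ι → F) → K := fun x => Φ (act g⁻¹ x) a₀ with hη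
    have hp : ∀ x, act (g * t * g⁻¹) x = x + act g ((k * η x) • a₀) := fun x => by
      rw [act_mul, act_mul, htx, map_add, act_act_inv]
    have hpinv : ∀ x, act (g * t * g⁻¹)⁻¹ x = x - act g ((k * η x) • a₀) := fun x =>
      act_injective (g * t * g⁻¹) (by
        rw [act_act_inv, hp]
        simp only [hη, map_sub, LinearMap.sub_apply, act_inv_act, map_smul, LinearMap.smul_apply, hΦ.alt,
          smul_zero, sub_zero, sub_add_cancel])
    have huf := mem_isoGroup.1 (hM hu)
    have hηu : ∀ x, η (act u⁻¹ x) = η x + f x (e • a) • c₁ := by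
      intro x
      refine ext_trace (F := F) fun c => ?_
      have h1 : ∀ y, Algebra.trace F K (c * η y) = f y (act g (c • a₀)) := fun y => by
        rw [hη, trace_mul hΦ, adjoint hΦ, ← hgf, act_act_inv]
      rw [mul_add, map_add, h1, h1, mul_smul_comm, (Algebra.trace F K).map_smul, ← hc₁, ← huf, act_act_inv, hua, f_add_right hf,
        f_smul_right hf, smul_eq_mul]
      ring
    refine ⟨u * (g * t * g⁻¹) * u⁻¹ * (g * t * g⁻¹)⁻¹, M.mul_mem (M.mul_mem (M.mul_mem hu
      (M.mul_mem (M.mul_mem hg ht) (M.inv_mem hg))) (M.inv_mem hu))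
      (M.inv_mem (M.mul_mem (M.mul_mem hg ht) (M.inv_mem hg))), fun x => ?_⟩
    obtain ⟨e', he'⟩ := hinL e he
    have hzero : η (act g ((k * η x) • a₀)) = 0 := by
      simp only [hη, act_inv_act, map_smul, LinearMap.smul_apply, hΦ.alt, smul_zero]
    have hs : f (x - act g ((k * η x) • a₀)) (e • a) = f x (e • a) := by
      rw [f_sub_left hf, he', hLiso, sub_zero]
    have hη' : η (x - act g ((k * η x) • a₀)) = η x := by
      have : η (x - act g ((k * η x) • a₀)) = η x - η (act g ((k * η x) • a₀)) := by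
        simp only [hη, map_sub, LinearMap.sub_apply]
      rw [this, hzero, sub_zero]
    have hlη : l (k * η x * 1) = l (k * η x) := by rw [mul_one]
    have hb : f x (act g (i • a₀)) = l (k * η x) := by
      rw [hc₁, mul_right_comm, hkc, hη, trace_mul hΦ, adjoint hΦ, ← hgf (act g⁻¹ x), act_act_inv]
    have himg : act u (act g ((k * (η x + f x (e • a) • c₁)) • a₀)) =
        act g ((k * η x) • a₀) + f x (e • a) • act g (i • a₀) +
          (f x (act g (i • a₀)) + f x (e • a) * l i) • (e • a) := by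
      rw [hua, mul_add, mul_smul_comm, hkc, l.map_add, l.map_smul, hb, add_smul, smul_assoc, (act g).map_add,
        (act g).map_smul, smul_eq_mul]
    rw [act_mul, act_mul, act_mul, hpinv, hp, map_add, act_act_inv, hηu, hη', hs, himg]
    simp only [LinearMap.add_apply, LinearMap.smul_apply, short, bmap_apply]
    module
  -- the short root elements on the line
  have hshortD : ∀ d ∈ D, ∀ e ∈ D, InM M (short hf (e • a) (d • a)) := by
    intro d hd e he
    obtain ⟨i, hli, hi⟩ := hDl d hd
    have := hX e he i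
    rwa [hi, hli, zero_smul, add_zero] at this
  by_cases hF : ∃ t : F, t ≠ 0 ∧ t ≠ 1
  · -- at least three scalars
    obtain ⟨t, ht0, ht1⟩ := hF
    refine le_of_full hΦ hf hlin hM hane (full_of_inM hf fun c => ?_)
    have htt : t * t - t ≠ 0 := by
      rw [show t * t - t = t * (t - 1) by ring]
      exact mul_ne_zero ht0 (sub_ne_zero.2 ht1)
    set i := (c / (t * t - t)) • j₁ with hi
    have hli : (t * t - t) * l i = c := by
      rw [hi, map_smul, hl1, smul_eq_mul, mul_one, mul_div_cancel₀ _ htt]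
    obtain ⟨p, hp, hpx⟩ := hX (t • 1) (D.smul_mem t h1D) i
    obtain ⟨q, hq, hqx⟩ := hX 1 h1D (t • i)
    refine ⟨p * q⁻¹, M.mul_mem hp (M.inv_mem hq), fun x => ?_⟩
    obtain ⟨y, rfl⟩ : ∃ y, act q y = x := ⟨act q⁻¹ x, act_act_inv q x⟩
    have hfa : f (act q y) a = f y a := by
      rw [hqx, f_add_left hf]
      simp only [short, LinearMap.add_apply, LinearMap.smul_apply, bmap_apply, one_smul, f_add_left hf,
        f_smul_left hf, f_self hf]
      rw [haL, hLiso]
      ring
    rw [act_mul, act_inv_act, hpx, LinearMap.smul_apply, bmap_apply, hfa, hqx]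
    simp only [short, LinearMap.add_apply, LinearMap.smul_apply, bmap_apply, one_smul, smul_assoc,
      (act g).map_smul, map_smul, f_smul_right hf, smul_eq_mul]
    rw [← hli]
    module
  push Not at hF
  have hF2 : ∀ t : F, t = 0 ∨ t = 1 := fun t => (em (t = 0)).imp_right (hF t)
  have h2 : (1 : F) + 1 = 0 := (hF2 (1 + 1)).resolve_right fun h => one_ne_zero (add_eq_left.1 h)
  have hneg : ∀ c : F, -c = c := fun c => by
    rcases hF2 c with rfl | rfl
    · rw [neg_zero]
    · exact (eq_neg_of_add_eq_zero_left h2).symm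
  rcases eq_or_ne (finrank F K) 2 with h2r | h2r
  · -- the field of degree two over the field of two elements
    set w := act g (j₁ • a₀) with hwdef
    have hfaw : f a w = 0 := by rw [haL]; exact hLiso _ _
    obtain ⟨v, hav, hva, hwv⟩ : ∃ v, Φ a v = 0 ∧ v ∉ (K ∙ a) ∧ Φ w v ≠ 0 := by
      obtain ⟨v₁, h1, h1'⟩ := exists_separate hΦ hf hane hw
      by_cases hin : v₁ ∈ (K ∙ a)
      swap
      · exact ⟨v₁, h1, hin, h1'⟩
      obtain ⟨v₂, h2a, h2'⟩ : ∃ v₂, v₂ ∈ LinearMap.ker (Φ a) ∧ v₂ ∉ (K ∙ a) := by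
        by_contra hcon
        push Not at hcon
        have h3 := Submodule.finrank_mono (s := LinearMap.ker (Φ a)) (t := (K ∙ a)) hcon
        rw [finrank_span_singleton hane] at h3
        have h4 := LinearMap.finrank_range_add_finrank_ker (Φ a)
        have h5 := (Submodule.finrank_le (LinearMap.range (Φ a))).trans_eq (Module.finrank_self K)
        have := hbig hF2 h2r
        omega
      by_cases h6 : Φ w v₂ = 0
      · exact ⟨v₁ + v₂, by rw [map_add, h1, LinearMap.mem_ker.1 h2a, add_zero],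
          fun h => h2' (((K ∙ a).add_mem_iff_right hin).1 h), by rwa [map_add, h6, add_zero]⟩
      · exact ⟨v₂, LinearMap.mem_ker.1 h2a, h2', h6⟩
    set φ := Φ w v with hφ
    set z := φ⁻¹ • v with hz
    have haz : Φ a z = 0 := by rw [hz, map_smul, hav, smul_zero]
    have hza : z ∉ (K ∙ a) := fun h => hva (by simpa [hz, hwv] using (K ∙ a).smul_mem φ h)
    have hfaz : f a z = 0 := by simpa using f_eq_zero_of hΦ haz 1 1
    have hfwz : f w z = 0 := by
      rw [← hΦ.trace, hz, map_smul, ← hφ, smul_eq_mul, inv_mul_cancel₀ hwv,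
        ← map_one (algebraMap F K), Algebra.trace_algebraMap, h2r, two_nsmul, h2]
    obtain ⟨u, hu, hui, hux, -⟩ := exists_ktrans hΦ hf hlin v (φ * φ)⁻¹
    have hua : act u a = a := by rw [hux, hav, mul_zero, zero_smul, add_zero]
    have huw : act u w = w + z := by
      rw [hux, hz, ← hφ, mul_inv, mul_assoc, inv_mul_cancel₀ hwv, mul_one]
    -- a short root element with orthogonal ends
    have hS : InM M (short hf a z) := by
      have hX1 := hX 1 h1D j₁
      rw [← hwdef, one_smul, hl1, one_smul] at hX1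
      have hX2 : InM M (short hf a (w + z) + bmap hf a a) :=
        InM.conj hf hM hX1 hu fun x => by
          simp only [short, LinearMap.add_apply, bmap_apply, map_add, map_smul, hua, huw,
            ← mem_isoGroup.1 hui x, hua, huw]
      have h3 := InM.add hX1 hX2 fun x => by
        simp only [short, LinearMap.add_apply, bmap_apply, f_add_left hf, f_smul_left hf, f_self hf, hfaw,
          f_eq_zero_symm hf hfaw, hfwz, f_eq_zero_symm hf hfwz, hfaz, f_eq_zero_symm hf hfaz, mul_zero, add_zero,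
          zero_smul]
      convert h3 using 1
      refine LinearMap.ext fun x => ?_
      simp only [short, LinearMap.add_apply, bmap_apply, f_add_right hf, smul_add, add_smul]
      have hd : ∀ y : ι → F, y + y = 0 := fun y => by rw [← two_smul F y, ← one_add_one_eq_two, h2, zero_smul]
      have e1 := hd (f x a • w)
      have e2 := hd (f x w • a)
      have e3 := hd (f x a • a)
      linear_combination (norm := module) -e1 - e2 - e3
    -- conjugate a transvection over the extension field by it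
    obtain ⟨v₂, hav₂, hzv₂⟩ := exists_separate hΦ hf hane hza
    set φ₂ := Φ z v₂ with hφ₂
    obtain ⟨c, hc⟩ := exists_trace_eq (F := F) (K := K) 1
    have hc0 : c ≠ 0 := fun h => by rw [h, map_zero] at hc; exact zero_ne_one hc
    set k := c / (φ₂ * φ₂) with hk
    set z₂ := (k * φ₂) • v₂ with hz₂
    have hzz₂ : Φ z z₂ = c := by
      rw [hz₂, map_smul, ← hφ₂, smul_eq_mul, mul_assoc, hk, div_mul_cancel₀ _ (mul_ne_zero hzv₂ hzv₂)]
    have haz₂ : Φ a z₂ = 0 := by rw [hz₂, map_smul, hav₂, smul_zero]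
    obtain ⟨h, hh, hhi, hha, hhb⟩ : ∃ h ∈ M, h ∈ isoGroup f ∧ act h a = a ∧ act h z = z₂ := by
      obtain ⟨h, hh, hhi, hhx, -⟩ := exists_ktrans hΦ hf hlin (z₂ - z) (Φ z z₂)⁻¹
      refine ⟨h, hh, hhi, ?_, ?_⟩
      · rw [hhx, map_sub, haz₂, haz, sub_zero, mul_zero, zero_smul, add_zero]
      · rw [hhx, map_sub, hΦ.alt, sub_zero, inv_mul_cancel₀ (hzz₂.symm ▸ hc0), one_smul, add_sub_cancel]
    have hS₂ : InM M (short hf a z₂) := InM.conj hf hM hS hh fun x => by
      rw [short_conj hf hhi, hha, hhb]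
    obtain ⟨s, hs, hsx⟩ := hS
    obtain ⟨s₂, hs₂, hs₂x⟩ := hS₂
    obtain ⟨T, hT, -, hTx, -⟩ := exists_ktrans hΦ hf hlin v₂ k
    refine le_of_full hΦ hf hlin hM hane fun d => ?_
    rcases hF2 d with rfl | rfl
    · rw [stv_zero]; exact M.one_mem
    have hmem : s * T * s ∈ M := M.mul_mem (M.mul_mem hs hT) hs
    have heq : s * T * s = stv hf a 1 * (s₂ * T) := by
      refine gl_ext fun x => ?_
      have hfav₂ : ∀ q : K, f (q • v₂) a = 0 := fun q => by
        rw [← hΦ.trace, LinearMap.map_smul Φ q v₂, LinearMap.smul_apply, eq_zero_symm hΦ hav₂, smul_zero, map_zero]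
      have hq : ∀ q : K, f (q • v₂) z = Algebra.trace F K (q * φ₂) := fun q => by
        rw [← hΦ.trace, LinearMap.map_smul Φ q v₂, LinearMap.smul_apply, skew hΦ, ← hφ₂, smul_eq_mul, mul_neg,
          map_neg, hneg]
      have hν : k * Φ (act s x) v₂ = k * Φ x v₂ + f x a • (k * φ₂) := by
        rw [hsx]
        simp only [short, LinearMap.add_apply, bmap_apply]
        rw [← algebraMap_smul K (f x a) z, ← algebraMap_smul K (f x z) a]
        simp only [map_add, map_smul, LinearMap.add_apply, LinearMap.smul_apply, hav₂, smul_eq_mul, mul_zero,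
          add_zero, ← hφ₂]
        rw [Algebra.smul_def]
        ring
      have hTs : act s (act s x) = x := by
        rw [hsx x, hsx]
        simp only [short, LinearMap.add_apply, bmap_apply, f_add_left hf, f_smul_left hf, f_self hf, hfaz,
          f_eq_zero_symm hf hfaz, mul_zero, add_zero]
        have hd : ∀ y : ι → F, y + y = 0 := fun y => by rw [← two_smul F y, ← one_add_one_eq_two, h2, zero_smul]
        linear_combination (norm := module) hd (f x a • z) + hd (f x z • a)
      have e1 : Algebra.trace F K (k * Φ x v₂ * φ₂) = f x z₂ := by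
        rw [mul_right_comm, trace_mul hΦ, adjoint hΦ, hz₂]
      have e2 : Algebra.trace F K ((f x a • (k * φ₂)) * φ₂) = f x a := by
        rw [smul_mul_assoc, (Algebra.trace F K).map_smul, mul_assoc, hk, div_mul_cancel₀ _ (mul_ne_zero hzv₂ hzv₂), hc, smul_eq_mul,
          mul_one]
      have hfz₂a : f z₂ a = 0 := by rw [hz₂]; exact hfav₂ _
      have hfz₂z₂ : f z₂ z₂ = 0 := f_self hf z₂
      have hfTa : f (act T x) a = f x a := by rw [hTx, f_add_left hf, hfav₂, add_zero]
      have hfTz : f (act T x) z₂ = f x z₂ := by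
        rw [hTx, f_add_left hf, hz₂, f_line hΦ, add_zero]
      rw [act_mul, act_mul, hTx, map_add, hTs, hsx, hν]
      simp only [short, LinearMap.add_apply, bmap_apply, hfav₂, hq, zero_smul, zero_add, add_mul, map_add, e1, e2]
      rw [act_mul, act_mul, act_stv hf, hs₂x]
      simp only [short, LinearMap.add_apply, bmap_apply, f_add_left hf, f_smul_left hf, hfz₂a, f_self hf, hfTa,
        hfTz, mul_zero, add_zero]
      rw [hTx, hz₂]
      simp only [add_smul, smul_assoc]
      module
    have : stv hf a 1 = s * T * s * (s₂ * T)⁻¹ := by rw [heq, mul_inv_cancel_right]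
    rw [this]
    exact M.mul_mem hmem (M.inv_mem (M.mul_mem hs₂ hT))
  -- all short root elements on the line
  have h3 : 3 ≤ finrank F K := by have := hr.two_le; omega
  have hshort : ∀ x y : K, InM M (short hf (x • a) (y • a)) := by
    intro x y
    obtain ⟨κ, hκ, hκ0⟩ : ∃ κ ∈ D.comap (LinearMap.mulLeft F x) ⊓ D.comap (LinearMap.mulLeft F y),
        κ ≠ 0 := by
      refine Submodule.exists_mem_ne_zero_of_ne_bot fun h => ?_
      have hc : ∀ z : K, finrank F D ≤ finrank F (D.comap (LinearMap.mulLeft F z)) := by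
        intro z
        rcases eq_or_ne z 0 with rfl | hz
        · exact Submodule.finrank_mono fun d _ => by simp
        · have hsurj : LinearMap.range (LinearMap.mulLeft F z) = ⊤ := LinearMap.range_eq_top.2 fun d =>
            ⟨z⁻¹ * d, by simp [hz]⟩
          have := Submodule.map_comap_eq_self (f := LinearMap.mulLeft F z) (q := D) (hsurj ▸ le_top)
          conv_lhs => rw [← this]
          exact Submodule.finrank_map_le _ _
      have h4 := Submodule.finrank_sup_add_finrank_inf_eq (D.comap (LinearMap.mulLeft F x))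
        (D.comap (LinearMap.mulLeft F y))
      rw [h, finrank_bot] at h4
      have h5 := Submodule.finrank_le (D.comap (LinearMap.mulLeft F x) ⊔ D.comap (LinearMap.mulLeft F y))
      have := hc x
      have := hc y
      omega
    obtain ⟨u, hu, hui, hua, huc⟩ := exists_move hΦ hf hlin hane
      (b := κ⁻¹ • a) (smul_ne_zero (inv_ne_zero hκ0) hane)
    refine InM.conj hf hM (hshortD (y * κ) (by simpa [mul_comm] using hκ.2) (x * κ) (by simpa [mul_comm] using hκ.1))
      hu fun v => ?_
    rw [short_conj hf hui, huc, huc, hua, smul_smul, smul_smul, mul_inv_cancel_right₀ hκ0,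
      mul_inv_cancel_right₀ hκ0]
  -- a transvection over `K` is a sum of one transvection and short root elements
  let bs := Module.finBasis F K
  let vs : Fin (finrank F K) → (ι → F) := fun i => bs i • a
  -- forms on the line form a commutative group
  let Sums : AddSubmonoid ((ι → F) →ₗ[F] (ι → F)) :=
    { carrier := {N | InM M N ∧ (∀ c : K, N (c • a) = 0) ∧ ∀ x, ∃ c : K, N x = c • a}
      add_mem' := by
        rintro N N' ⟨h, hk, hi⟩ ⟨h', hk', hi'⟩
        refine ⟨InM.add h h' fun x => ?_, fun c => by rw [LinearMap.add_apply, hk, hk', add_zero], fun x => ?_⟩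
        · obtain ⟨c, hc⟩ := hi' x
          rw [hc, hk]
        · obtain ⟨c, hc⟩ := hi x
          obtain ⟨c', hc'⟩ := hi' x
          exact ⟨c + c', by rw [LinearMap.add_apply, hc, hc', add_smul]⟩
      zero_mem' := ⟨InM.zero, fun c => rfl, fun x => ⟨0, (zero_smul K a).symm⟩⟩ }
  have hshort' : ∀ x y : K, short hf (x • a) (y • a) ∈ Sums := fun x y =>
    ⟨hshort x y, fun c => by rw [short, LinearMap.add_apply, bmap_apply, bmap_apply, f_line hΦ, f_line hΦ]; simp,
      fun v => ⟨f v (x • a) • y + f v (y • a) • x, by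
        rw [short, LinearMap.add_apply, bmap_apply, bmap_apply, add_smul, smul_assoc, smul_assoc]⟩⟩
  have hdouble : ∀ N : (ι → F) →ₗ[F] (ι → F), N + N = 0 := fun N => by
    rw [← two_smul F N, ← one_add_one_eq_two, h2, zero_smul]
  choose w hw' using fun i => exists_trace_repr (bs.coord i)
  obtain ⟨c, hc⟩ := exists_trace_eq (F := F) (K := K) 1
  let i₀ : Fin (finrank F K) := ⟨0, hr.pos⟩
  have hw0 : w i₀ ≠ 0 := fun h => by
    have := hw' i₀ (bs i₀)
    rw [h, mul_zero, map_zero] at this
    simp at this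
  set k := c / (w i₀ * w i₀) with hk
  set G : Fin (finrank F K) → Fin (finrank F K) → F := fun i j => Algebra.trace F K (k * w i * w j) with hG
  obtain ⟨T, hT, -, hTx, -⟩ := exists_ktrans hΦ hf hlin a k
  let tot : Finset (Fin (finrank F K)) → ((ι → F) →ₗ[F] (ι → F)) := fun s =>
    ∑ i ∈ s, ∑ j ∈ s, G i j • bmap hf (vs j) (vs i)
  let dia : Finset (Fin (finrank F K)) → (ι → F) := fun s => ∑ i ∈ s.filter (fun i => G i i = 1), vs i
  have hTtot : InM M (tot Finset.univ) := by
    refine ⟨T, hT, fun x => ?_⟩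
    rw [hTx]
    congr 1
    conv_lhs => rw [← bs.sum_repr (k * Φ x a), Finset.sum_smul]
    simp only [tot, LinearMap.sum_apply, LinearMap.smul_apply, bmap_apply, smul_smul, ← Finset.sum_smul, smul_assoc,
      vs]
    refine Finset.sum_congr rfl fun i _ => ?_
    congr 1
    rw [← Module.Basis.coord_apply, hw', mul_right_comm, trace_mul hΦ, adjoint hΦ]
    conv_lhs => rw [← bs.sum_repr (k * w i), Finset.sum_smul]
    rw [← toBil_apply hf.bilinear, map_sum]
    refine Finset.sum_congr rfl fun j _ => ?_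
    rw [toBil_apply, smul_assoc, f_smul_right hf, ← Module.Basis.coord_apply, hw', mul_comm]
  have hsplit : ∀ s, ∃ N ∈ Sums, tot s + N = bmap hf (dia s) (dia s) := by
    intro s
    induction s using Finset.induction_on with
    | empty =>
      refine ⟨0, Sums.zero_mem, LinearMap.ext fun x => ?_⟩
      simp [tot, dia, bmap_apply]
    | @insert p s hp ih =>
      obtain ⟨N, hN, hNeq⟩ := ih
      have hdia : ∃ y : K, dia s = y • a := ⟨∑ i ∈ s.filter (fun i => G i i = 1), bs i, by
        simp only [dia, vs, Finset.sum_smul]⟩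
      obtain ⟨y, hy⟩ := hdia
      have hsum : (∑ j ∈ s, G p j • short hf (vs j) (vs p)) ∈ Sums := by
        refine Sums.sum_mem fun j _ => ?_
        rcases hF2 (G p j) with h | h <;> rw [h]
        · rw [zero_smul]; exact Sums.zero_mem
        · rw [one_smul]; exact hshort' _ _
      have htot : tot (insert p s) = tot s + (∑ j ∈ s, G p j • short hf (vs j) (vs p)) +
          G p p • bmap hf (vs p) (vs p) := by
        simp only [tot, Finset.sum_insert hp, Finset.sum_add_distrib, short, smul_add]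
        rw [Finset.sum_congr rfl fun j _ => show G j p • bmap hf (vs p) (vs j) = G p j • bmap hf (vs p) (vs j) by
          simp only [hG, mul_right_comm]]
        abel
      rcases hF2 (G p p) with h | h
      · refine ⟨N + ∑ j ∈ s, G p j • short hf (vs j) (vs p), Sums.add_mem hN hsum, ?_⟩
        have : dia (insert p s) = dia s := by
          simp only [dia, Finset.filter_insert, h, zero_ne_one, if_false]
        rw [this, ← hNeq, htot, h, zero_smul, add_zero]
        linear_combination (norm := module) hdouble (∑ j ∈ s, G p j • short hf (vs j) (vs p))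
      · refine ⟨N + (∑ j ∈ s, G p j • short hf (vs j) (vs p)) + short hf (vs p) (dia s),
          Sums.add_mem (Sums.add_mem hN hsum) (hy ▸ hshort' _ _), ?_⟩
        have : dia (insert p s) = vs p + dia s := by
          simp only [dia, Finset.filter_insert, h, if_true]
          rw [Finset.sum_insert fun hmem => hp (Finset.mem_filter.1 hmem).1]
        have hbm : bmap hf (vs p + dia s) (vs p + dia s) =
            bmap hf (vs p) (vs p) + bmap hf (dia s) (dia s) + short hf (vs p) (dia s) :=
          LinearMap.ext fun x => by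
            simp only [short, LinearMap.add_apply, bmap_apply, f_add_right hf]
            module
        rw [this, hbm, ← hNeq, htot, h, one_smul]
        linear_combination (norm := module) hdouble (∑ j ∈ s, G p j • short hf (vs j) (vs p))
  obtain ⟨N, ⟨hN, hNk, hNi⟩, hNeq⟩ := hsplit Finset.univ
  obtain ⟨y, hy⟩ : ∃ y : K, dia Finset.univ = y • a := ⟨∑ i ∈ Finset.univ.filter (fun i => G i i = 1), bs i, by
    simp only [dia, vs, Finset.sum_smul]⟩
  have hy0 : y ≠ 0 := by
    intro h0
    have hsum : ∑ i ∈ Finset.univ.filter (fun i => G i i = 1), bs i = 0 := by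
      refine smul_left_injective K hane ?_
      show _ • a = (0 : K) • a
      rw [← h0, ← hy]
      simp only [dia, vs, Finset.sum_smul]
    have hmem : i₀ ∈ Finset.univ.filter (fun i => G i i = 1) := by
      rw [Finset.mem_filter]
      refine ⟨Finset.mem_univ _, ?_⟩
      simp only [hG]
      rw [hk, mul_assoc, div_mul_cancel₀ _ (mul_ne_zero hw0 hw0), hc]
    have := congrArg (bs.coord i₀) hsum
    rw [map_sum, map_zero, Finset.sum_eq_single_of_mem i₀ hmem fun b _ hb => by simp [Finsupp.single_eq_of_ne hb.symm]]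
      at this
    simp at this
  refine le_of_full hΦ hf hlin hM (smul_ne_zero hy0 hane) (full_of_inM hf fun d => ?_)
  rcases hF2 d with rfl | rfl
  · rw [zero_smul]; exact InM.zero
  rw [one_smul, ← hy, ← hNeq]
  refine InM.add hTtot hN fun x => ?_
  obtain ⟨c', hc'⟩ := hNi x
  rw [hc']
  simp only [tot, LinearMap.sum_apply, LinearMap.smul_apply, bmap_apply, vs, f_line hΦ, zero_smul, smul_zero,
    Finset.sum_const_zero]

/-- **The extension field group is maximal.** -/
theorem iso_le [Fintype F] (hr : (finrank F K).Prime) (hm : 2 ≤ finrank K (ι → F))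
    (hbig : finrank F K = 2 → 3 ≤ finrank K (ι → F)) {g₀ : GL ι F} (hg₀ : g₀ ∈ M)
    (hns : ¬ ExtF.IsSemi K g₀) : isoGroup f ≤ M :=
  iso_le_of_scalars hΦ hf hlin hM hr hm (fun _ => hbig) hg₀ hns

end Cfsg.Agent.MaxCl.SpExt
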