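/-
A symmetric form over an extension field whose trace is the polar form of a quadratic form in odd characteristic:
vectors of prescribed value, Siegel elements over the extension field, transitivity on singular vectors, and the
maps permuting the singular lines are semilinear.
-/
import Cfsg.Agent.Lib.MaxCl.OrthParabolic
import Cfsg.Agent.Lib.MaxCl.SympExtField

set_option autoImplicit false
set_option linter.unusedSectionVars false
set_option maxHeartbeats 800000

namespace Cfsg.Agent.MaxCl.OExt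

open scoped MatrixGroups Matrix
open Module (finrank)

variable {ι : Type} [Fintype ι] [DecidableEq ι] {F : Type*} [Field F] [Finite F]
  {K : Type*} [Field K] [Algebra F K] [Module K (ι → F)] [IsScalarTower F K (ι → F)] [Module.Finite F K]
variable {Q : QuadraticForm F (ι → F)} {Φ : (ι → F) →ₗ[K] (ι → F) →ₗ[K] K} {M : Subgroup (GL ι F)}

set_option quotPrecheck false in
local notation "B" => QuadraticMap.polar (⇑Q)

/-- `Φ` is a symmetric `K`-form with trace the polar form of `Q`, and `M` contains the linear part of the derived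
group of the isometry group -/
structure Amb (Q : QuadraticForm F (ι → F)) (Φ : (ι → F) →ₗ[K] (ι → F) →ₗ[K] K)
    (M : Subgroup (GL ι F)) : Prop where
  trace : ∀ x y, Algebra.trace F K (Φ x y) = QuadraticMap.polar (⇑Q) x y
  symm : ∀ x y, Φ x y = Φ y x
  nondeg : (QuadraticMap.polarBilin Q).Nondegenerate
  two : (2 : F) ≠ 0
  five : 5 ≤ Fintype.card ι
  lin : ∀ g : GL ι F, g ∈ Cfsg.Geo.omegaGL Q → (∀ (k : K) x, act g (k • x) = k • act g x) → g ∈ M
  le : M ≤ Cfsg.Geo.omegaGL Q

/-- a self-adjoint field gives a symmetric form over the field -/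
theorem exists_kform (hsa : ∀ (k : K) (x y : ι → F), B (k • x) y = B x (k • y)) :
    ∃ Φ : (ι → F) →ₗ[K] (ι → F) →ₗ[K] K,
      (∀ x y, Algebra.trace F K (Φ x y) = B x y) ∧ ∀ x y, Φ x y = Φ y x := by
  have hex : ∀ x y : ι → F, ∃ a : K, ∀ c : K, B (c • x) y = Algebra.trace F K (c * a) := fun x y =>
    SpExt.exists_trace_repr
      { toFun := fun c : K => B (c • x) y
        map_add' := fun c d => by rw [add_smul, Orth.B_add_left Q]
        map_smul' := fun t c => by rw [smul_assoc, Orth.B_smul_left Q, RingHom.id_apply, smul_eq_mul] }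
  choose φ hφ using hex
  have hsym : ∀ x y, φ x y = φ y x := fun x y => SpExt.ext_trace (F := F) fun c => by
    rw [← hφ, ← hφ, hsa, Orth.B_comm Q]
  refine ⟨LinearMap.mk₂ K φ ?_ ?_ ?_ ?_, fun x y => ?_, fun x y => ?_⟩
  · intro x₁ x₂ y
    refine SpExt.ext_trace (F := F) fun c => ?_
    rw [← hφ, mul_add, map_add, ← hφ, ← hφ, smul_add, Orth.B_add_left Q]
  · intro k x y
    refine SpExt.ext_trace (F := F) fun c => ?_
    rw [← hφ, smul_eq_mul, ← mul_assoc, ← hφ, smul_smul]
  · intro x y₁ y₂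
    refine SpExt.ext_trace (F := F) fun c => ?_
    rw [← hφ, mul_add, map_add, ← hφ, ← hφ, Orth.B_add_right Q]
  · intro k x y
    refine SpExt.ext_trace (F := F) fun c => ?_
    rw [← hφ, smul_eq_mul, ← mul_assoc, ← hφ, mul_comm c k, mul_smul, hsa k]
  · rw [LinearMap.mk₂_apply, ← one_mul (φ x y), ← hφ, one_smul]
  · rw [LinearMap.mk₂_apply, LinearMap.mk₂_apply, hsym]

variable (hA : Amb Q Φ M)
include hA

theorem two_ne : (2 : K) ≠ 0 := by
  rw [← map_ofNat (algebraMap F K) 2]
  exact (map_ne_zero _).2 hA.two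

theorem trace_mul (c : K) (x y : ι → F) : Algebra.trace F K (c * Φ x y) = B (c • x) y := by
  rw [← hA.trace, map_smul, LinearMap.smul_apply, smul_eq_mul]

theorem trace_mul' (c : K) (x y : ι → F) : Algebra.trace F K (c * Φ x y) = B x (c • y) := by
  rw [← hA.trace, map_smul, smul_eq_mul]

theorem two_mul_Q (x : ι → F) : 2 * Q x = Algebra.trace F K (Φ x x) := by rw [hA.trace, Orth.B_self Q]

theorem Q_of_singular {x : ι → F} (h : Φ x x = 0) : Q x = 0 := by
  have := two_mul_Q hA x
  rw [h, map_zero] at this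
  exact (mul_eq_zero.1 this).resolve_left hA.two

theorem B_of_perp {x y : ι → F} (h : Φ x y = 0) (c d : K) : B (c • x) (d • y) = 0 := by
  rw [← hA.trace]
  simp [h]

theorem perp_of_B {x y : ι → F} (h : ∀ c : K, B (c • x) y = 0) : Φ x y = 0 :=
  SpExt.ext_trace (F := F) fun c => by rw [trace_mul hA, h, mul_zero, map_zero]

theorem exists_ne {x : ι → F} (hx : x ≠ 0) : ∃ y, Φ x y ≠ 0 := by
  obtain ⟨y, hy⟩ := Orth.exists_B_ne_zero hA.nondeg hx
  exact ⟨y, fun h => hy (by rw [← hA.trace, h, map_zero])⟩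

theorem iso_of_mem {g : GL ι F} (hg : g ∈ M) : g ∈ isometryGroup F Q := Orth.omega_le_iso (hA.le hg)

theorem smul_mem_perp {x y : ι → F} (k : K) (h : Φ x y = 0) : Φ x (k • y) = 0 := by rw [map_smul, h, smul_zero]

/-! ### Subspaces without radical -/

omit hA in
/-- no vector of `W` is orthogonal to `W` -/
def NDeg (Φ : (ι → F) →ₗ[K] (ι → F) →ₗ[K] K) (W : Submodule K (ι → F)) : Prop :=
  ∀ x ∈ W, x ≠ 0 → ∃ y ∈ W, Φ x y ≠ 0

theorem ndeg_top : NDeg Φ ⊤ := fun x _ hx => by
  obtain ⟨y, hy⟩ := exists_ne hA hx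
  exact ⟨y, trivial, hy⟩

theorem ndeg_perp {W : Submodule K (ι → F)} (hW : NDeg Φ W) {z : ι → F} (hz : z ∈ W) (hne : Φ z z ≠ 0) :
    NDeg Φ (W ⊓ LinearMap.ker (Φ z)) := by
  intro x hx hx0
  obtain ⟨y, hy, hxy⟩ := hW x hx.1 hx0
  have hzx : Φ z x = 0 := hx.2
  refine ⟨y - (Φ z y / Φ z z) • z, ⟨W.sub_mem hy (W.smul_mem _ hz), ?_⟩, ?_⟩
  · rw [SetLike.mem_coe, LinearMap.mem_ker, map_sub, map_smul, smul_eq_mul, div_mul_cancel₀ _ hne, sub_self]
  · rwa [map_sub, map_smul, hA.symm x z, hzx, smul_zero, sub_zero]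

theorem ndeg_pair {a b : ι → F} (ha : Φ a a = 0) (hb : Φ b b = 0) (hab : Φ a b ≠ 0) :
    NDeg Φ (LinearMap.ker (Φ a) ⊓ LinearMap.ker (Φ b)) := by
  rintro x ⟨hxa, hxb⟩ hx0
  replace hxa : Φ a x = 0 := hxa
  replace hxb : Φ b x = 0 := hxb
  obtain ⟨y, hy⟩ := exists_ne hA hx0
  have hba : Φ b a ≠ 0 := by rwa [hA.symm]
  refine ⟨y - (Φ b y / Φ b a) • a - (Φ a y / Φ a b) • b, ⟨?_, ?_⟩, ?_⟩
  · show Φ a _ = 0
    rw [map_sub, map_sub, map_smul, map_smul, ha, smul_eq_mul, smul_eq_mul, mul_zero, sub_zero,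
      div_mul_cancel₀ _ hab, sub_self]
  · show Φ b _ = 0
    rw [map_sub, map_sub, map_smul, map_smul, hb, smul_eq_mul, smul_eq_mul, mul_zero, sub_zero,
      div_mul_cancel₀ _ hba, sub_self]
  · rwa [map_sub, map_sub, map_smul, map_smul, hA.symm x a, hA.symm x b, hxa, hxb, smul_zero, smul_zero,
      sub_zero, sub_zero]

omit hA in
theorem finrank_inf_ker_ge (W : Submodule K (ι → F)) (f : (ι → F) →ₗ[K] K) :
    finrank K W ≤ finrank K ↥(W ⊓ LinearMap.ker f) + 1 := by
  haveI : Module.Finite K (ι → F) := Module.Finite.right F K (ι → F)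
  have h1 := LinearMap.finrank_range_add_finrank_ker f
  have h2 := (Submodule.finrank_le (LinearMap.range f)).trans_eq (Module.finrank_self K)
  have h3 := Submodule.finrank_sup_add_finrank_inf_eq W (LinearMap.ker f)
  have h4 := Submodule.finrank_le (W ⊔ LinearMap.ker f)
  omega

omit hA in
theorem finrank_ker_ge (f : (ι → F) →ₗ[K] K) : finrank K (ι → F) ≤ finrank K (LinearMap.ker f) + 1 := by
  have h := finrank_inf_ker_ge ⊤ f
  rwa [top_inf_eq, finrank_top] at h

theorem exists_nonsingular {W : Submodule K (ι → F)} (hW : NDeg Φ W) (h : 1 ≤ finrank K W) :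
    ∃ z ∈ W, Φ z z ≠ 0 := by
  obtain ⟨x, hx, hx0⟩ := Submodule.exists_mem_ne_zero_of_ne_bot (p := W) fun e => by
    rw [e, finrank_bot] at h; omega
  obtain ⟨y, hy, hxy⟩ := hW x hx hx0
  by_contra hc
  push Not at hc
  have h3 := hc _ (W.add_mem hx hy)
  simp only [map_add, LinearMap.add_apply, hc x hx, hc y hy, hA.symm y x, zero_add, add_zero] at h3
  exact hxy ((mul_eq_zero.1 (show (2 : K) * Φ x y = 0 by linear_combination h3)).resolve_left (two_ne hA))

omit hA in
theorem binary_value [Finite K] (h2 : (2 : K) ≠ 0) {a b : K} (ha : a ≠ 0) (hb : b ≠ 0) (c : K) :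
    ∃ x y, a * x ^ 2 + b * y ^ 2 = c := by
  haveI := Fintype.ofFinite K
  obtain ⟨x, y, h⟩ := FiniteField.exists_root_sum_quadratic
    (f := Polynomial.C a * Polynomial.X ^ 2) (g := Polynomial.C b * Polynomial.X ^ 2 + Polynomial.C (-c))
    (Polynomial.degree_C_mul_X_pow 2 ha)
    (by rw [Polynomial.degree_add_C (by rw [Polynomial.degree_C_mul_X_pow 2 hb]; decide),
      Polynomial.degree_C_mul_X_pow 2 hb]; rfl)
    (FiniteField.odd_card_of_char_ne_two fun hc => h2 (by
      haveI := ringChar.of_eq hc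
      exact CharTwo.two_eq_zero))
  simp only [Polynomial.eval_mul, Polynomial.eval_C, Polynomial.eval_pow, Polynomial.eval_X,
    Polynomial.eval_add] at h
  exact ⟨x, y, by linear_combination h⟩

/-- every value occurs on a subspace of dimension two without radical -/
theorem exists_value {W : Submodule K (ι → F)} (hW : NDeg Φ W) (h : 2 ≤ finrank K W) (c : K) :
    ∃ z ∈ W, Φ z z = c := by
  haveI : Finite K := Module.finite_of_finite F
  obtain ⟨z₁, hz₁, hne₁⟩ := exists_nonsingular hA hW (by omega)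
  obtain ⟨z₂, hz₂, hne₂⟩ := exists_nonsingular hA (ndeg_perp hA hW hz₁ hne₁) (by
    have := finrank_inf_ker_ge W (Φ z₁)
    omega)
  obtain ⟨x, y, hxy⟩ := binary_value (two_ne hA) hne₁ hne₂ c
  refine ⟨x • z₁ + y • z₂, W.add_mem (W.smul_mem _ hz₁) (W.smul_mem _ hz₂.1), ?_⟩
  have h12 : Φ z₁ z₂ = 0 := hz₂.2
  simp only [map_add, map_smul, LinearMap.add_apply, LinearMap.smul_apply, smul_eq_mul, h12, hA.symm z₂ z₁]
  linear_combination hxy

theorem exists_singular {W : Submodule K (ι → F)} (hW : NDeg Φ W) (h : 3 ≤ finrank K W) :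
    ∃ s ∈ W, s ≠ 0 ∧ Φ s s = 0 := by
  obtain ⟨z₁, hz₁, hne₁⟩ := exists_nonsingular hA hW (by omega)
  obtain ⟨z, hz, hzz⟩ := exists_value hA (ndeg_perp hA hW hz₁ hne₁) (by
    have := finrank_inf_ker_ge W (Φ z₁)
    omega) (-Φ z₁ z₁)
  have h12 : Φ z₁ z = 0 := hz.2
  refine ⟨z₁ + z, W.add_mem hz₁ hz.1, fun e => hne₁ ?_, ?_⟩
  · have := congrArg (Φ z₁) e
    rwa [map_add, h12, add_zero, map_zero] at this
  · simp only [map_add, LinearMap.add_apply, h12, hA.symm z z₁, hzz]
    ring

theorem exists_partner {W : Submodule K (ι → F)} (hW : NDeg Φ W) {s : ι → F} (hs : s ∈ W) (hs0 : s ≠ 0)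
    (hss : Φ s s = 0) : ∃ t ∈ W, Φ t t = 0 ∧ Φ s t = 1 := by
  obtain ⟨y, hy, hsy⟩ := hW s hs hs0
  refine ⟨(Φ s y)⁻¹ • y - (Φ y y / (2 * Φ s y * Φ s y)) • s, W.sub_mem (W.smul_mem _ hy) (W.smul_mem _ hs), ?_, ?_⟩
  · simp only [map_sub, map_smul, LinearMap.sub_apply, LinearMap.smul_apply, smul_eq_mul, hss, hA.symm y s]
    have := two_ne hA
    field_simp
    ring
  · rw [map_sub, map_smul, map_smul, hss, smul_eq_mul, smul_zero, sub_zero, inv_mul_cancel₀ hsy]

/-- the singular vectors of a subspace with a non-zero singular vector span it -/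
theorem singular_span {W : Submodule K (ι → F)} (hW : NDeg Φ W) {s : ι → F} (hs : s ∈ W) (hs0 : s ≠ 0)
    (hss : Φ s s = 0) {N : Submodule K (ι → F)} (hN : ∀ x ∈ W, Φ x x = 0 → x ∈ N) {x : ι → F}
    (hx : x ∈ W) : x ∈ N := by
  obtain ⟨t, ht, htt, hst⟩ := exists_partner hA hW hs hs0 hss
  set z := x - Φ t x • s - Φ s x • t with hz
  have hzW : z ∈ W := W.sub_mem (W.sub_mem hx (W.smul_mem _ hs)) (W.smul_mem _ ht)
  have h1 : Φ s z = 0 := by simp [hz, hss, hst]
  have h2 : Φ t z = 0 := by simp [hz, htt, hA.symm t s, hst]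
  have h4 : s + z - (Φ z z / 2) • t ∈ N := by
    refine hN _ (W.sub_mem (W.add_mem hs hzW) (W.smul_mem _ ht)) ?_
    simp only [map_add, map_sub, map_smul, LinearMap.add_apply, LinearMap.sub_apply, LinearMap.smul_apply,
      smul_eq_mul, hss, htt, hst, hA.symm t s, h1, hA.symm z s, h2, hA.symm z t]
    have := two_ne hA
    field_simp
    ring
  have e : x = (s + z - (Φ z z / 2) • t) + (Φ t x - 1) • s + (Φ s x + Φ z z / 2) • t := by
    simp only [hz]
    module
  rw [e]
  exact N.add_mem (N.add_mem h4 (N.smul_mem _ (hN s hs hss))) (N.smul_mem _ (hN t ht htt))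

theorem exists_singular_not_perp {W : Submodule K (ι → F)} (hW : NDeg Φ W) {s₀ : ι → F} (hs : s₀ ∈ W)
    (hs0 : s₀ ≠ 0) (hss : Φ s₀ s₀ = 0) {l : ι → F} {x : ι → F} (hx : x ∈ W) (hxl : Φ x l ≠ 0) :
    ∃ s ∈ W, Φ s s = 0 ∧ Φ s l ≠ 0 := by
  by_contra hc
  push Not at hc
  have := singular_span hA hW hs hs0 hss (N := LinearMap.ker (Φ.flip l)) (fun y hy h => hc y hy h) hx
  exact hxl this

/-- a vector orthogonal to `a` but not to `w` -/
theorem exists_separate {a w : ι → F} (ha : a ≠ 0) (hw : w ∉ (K ∙ a)) :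
    ∃ v, Φ a v = 0 ∧ Φ w v ≠ 0 := by
  obtain ⟨v₀, hv₀⟩ := exists_ne hA ha
  have hne : w - (Φ w v₀ / Φ a v₀) • a ≠ 0 := fun h =>
    hw (Submodule.mem_span_singleton.2 ⟨_, (sub_eq_zero.1 h).symm⟩)
  obtain ⟨y, hy⟩ := exists_ne hA hne
  refine ⟨y - (Φ a y / Φ a v₀) • v₀, ?_, fun h => hy ?_⟩
  · rw [map_sub, map_smul, smul_eq_mul, div_mul_cancel₀ _ hv₀, sub_self]
  · rw [map_sub, map_smul, smul_eq_mul] at h
    rw [map_sub, map_smul, LinearMap.sub_apply, LinearMap.smul_apply, smul_eq_mul, ← h]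
    ring

/-- a singular vector not orthogonal to two singular vectors -/
theorem exists_common_partner {a b : ι → F} (ha : a ≠ 0) (haa : Φ a a = 0) (hb : b ≠ 0) (hbb : Φ b b = 0)
    (hab : Φ a b = 0) : ∃ c, Φ c c = 0 ∧ Φ a c ≠ 0 ∧ Φ b c ≠ 0 := by
  obtain ⟨a', -, ha', haa'⟩ := exists_partner hA (ndeg_top hA) (Submodule.mem_top (x := a)) ha haa
  obtain ⟨b', -, hb', hbb'⟩ := exists_partner hA (ndeg_top hA) (Submodule.mem_top (x := b)) hb hbb
  by_cases h1 : Φ b a' = 0
  · by_cases h2 : Φ a b' = 0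
    · refine ⟨a' + b' - Φ a' b' • a, ?_, ?_, ?_⟩
      · simp only [map_add, map_sub, map_smul, LinearMap.add_apply, LinearMap.sub_apply, LinearMap.smul_apply,
          smul_eq_mul, haa, ha', hb', haa', hA.symm a' a, h2, hA.symm b' a, hA.symm b' a']
        ring
      · simp [haa', h2, haa]
      · simp [h1, hbb', hA.symm b a, hab]
    · exact ⟨b', hb', h2, by rw [hbb']; exact one_ne_zero⟩
  · exact ⟨a', ha', by rw [haa']; exact one_ne_zero, h1⟩

/-! ### The elements of `M` -/

theorem sq_mem_omega {g : GL ι F} (hg : g ∈ isometryGroup F Q) : g * g ∈ Cfsg.Geo.omegaGL Q := by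
  let S : Subgroup (GL ι F) :=
    { carrier := {g | g ∈ isometryGroup F Q ∧ g * g ∈ Cfsg.Geo.omegaGL Q}
      one_mem' := ⟨one_mem _, by rw [one_mul]; exact one_mem _⟩
      mul_mem' := fun {x y} hx hy => ⟨mul_mem hx.1 hy.1, by
        rw [show x * y * (x * y) = x * x * (x⁻¹ * y * (x⁻¹)⁻¹ * y⁻¹) * (y * y) by group]
        exact mul_mem (mul_mem hx.2 (Orth.commutator_mem_omega (inv_mem hx.1) hy.1)) hy.2⟩
      inv_mem' := fun {x} hx => ⟨inv_mem hx.1, by rw [← mul_inv_rev]; exact inv_mem hx.2⟩ }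
  have hle : Orth.sgGroup Q ⊔ Subgroup.closure (Set.range (Orth.refl Q)) ≤ S := by
    refine sup_le ?_ ?_
    · rw [Orth.sgGroup, Subgroup.closure_le]
      rintro _ ⟨⟨u, w⟩, rfl⟩
      exact ⟨Orth.sg_mem_iso Q u w,
        mul_mem (Orth.sg_mem_omega hA.nondeg hA.five u w) (Orth.sg_mem_omega hA.nondeg hA.five u w)⟩
    · rw [Subgroup.closure_le]
      rintro _ ⟨a, rfl⟩
      exact ⟨Orth.refl_mem_iso Q a, by rw [Orth.refl_mul_self Q]; exact one_mem _⟩
  exact (hle (Orth.mem_closure_sg_refl hA.nondeg hg)).2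

/-- Siegel elements over the extension field -/
theorem exists_E {a v : ι → F} (haa : Φ a a = 0) (hav : Φ a v = 0) :
    ∃ h ∈ M, (∀ x, act h x = x + Φ a x • v - (Φ v x + Φ v v / 2 * Φ a x) • a) ∧
      ∀ (c : K) x, act h (c • x) = c • act h x := by
  have key : ∀ v : ι → F, Φ a v = 0 → ∃ h : GL ι F,
      (∀ x, act h x = x + Φ a x • v - (Φ v x + Φ v v / 2 * Φ a x) • a) := by
    intro v hav
    let T : (ι → F) → (ι → F) := fun x => x + Φ a x • v - (Φ v x + Φ v v / 2 * Φ a x) • a
    let T' : (ι → F) → (ι → F) := fun x => x - Φ a x • v - (-Φ v x + Φ v v / 2 * Φ a x) • a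
    let e : (ι → F) ≃ₗ[F] (ι → F) :=
      { toFun := T
        map_add' := fun x y => by simp only [T, map_add]; module
        map_smul' := fun t x => by
          simp only [T, RingHom.id_apply, ← algebraMap_smul K t, map_smul, smul_eq_mul]
          module
        invFun := T'
        left_inv := fun x => by
          have := two_ne hA
          simp only [T, T', map_add, map_sub, map_smul, smul_eq_mul, haa, hav, hA.symm v a]
          match_scalars <;> field_simp <;> ring
        right_inv := fun x => by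
          have := two_ne hA
          simp only [T, T', map_add, map_sub, map_smul, smul_eq_mul, haa, hav, hA.symm v a]
          match_scalars <;> field_simp <;> ring }
    exact ⟨ExtF.ofEquiv e, fun x => by rw [ExtF.act_ofEquiv]; rfl⟩
  obtain ⟨h, hh⟩ := key ((2 : K)⁻¹ • v) (by rw [map_smul, hav, smul_zero])
  have h2 := two_ne hA
  have hlin : ∀ (c : K) x, act h (c • x) = c • act h x := fun c x => by
    rw [hh, hh, map_smul, map_smul (Φ _) c, smul_eq_mul, smul_eq_mul]
    module
  have hiso : h ∈ isometryGroup F Q := by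
    rw [Orth.mem_iso Q]
    intro x
    refine mul_left_cancel₀ hA.two ?_
    rw [two_mul_Q hA, two_mul_Q hA, hh]
    congr 1
    simp only [map_add, map_sub, map_smul, LinearMap.add_apply, LinearMap.sub_apply, LinearMap.smul_apply,
      smul_eq_mul, haa, hav, hA.symm v a, hA.symm x v, hA.symm x a]
    field_simp
    ring
  refine ⟨h * h, hA.lin _ (sq_mem_omega hA hiso) (fun c x => by rw [act_mul, act_mul, hlin, hlin]),
    fun x => ?_, fun c x => by rw [act_mul, act_mul, hlin, hlin]⟩
  rw [act_mul, hh, hh]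
  simp only [map_add, map_sub, map_smul, LinearMap.add_apply, LinearMap.sub_apply, LinearMap.smul_apply,
    smul_eq_mul, haa, hav, hA.symm v a]
  match_scalars <;> field_simp <;> ring

/-- the linear part is transitive on non-zero singular vectors -/
theorem exists_move (hd : 4 ≤ finrank K (ι → F)) {a b : ι → F} (ha : a ≠ 0) (haa : Φ a a = 0) (hb : b ≠ 0)
    (hbb : Φ b b = 0) : ∃ h ∈ M, act h a = b ∧ ∀ (c : K) x, act h (c • x) = c • act h x := by
  have step : ∀ {a b : ι → F}, Φ a a = 0 → Φ b b = 0 → Φ a b ≠ 0 →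
      ∃ h ∈ M, act h a = b ∧ ∀ (c : K) x, act h (c • x) = c • act h x := by
    intro a b haa hbb hab
    obtain ⟨z, ⟨hza, hzb⟩, hzz⟩ := exists_value hA (ndeg_pair hA haa hbb hab) (by
      have h1 := finrank_inf_ker_ge (LinearMap.ker (Φ a)) (Φ b)
      have h2 := finrank_ker_ge (Φ a)
      omega) (-2 * Φ a b)
    replace hza : Φ a z = 0 := hza
    replace hzb : Φ b z = 0 := hzb
    have hcc : Φ (a + b + z) (a + b + z) = 0 := by
      simp only [map_add, LinearMap.add_apply, haa, hbb, hza, hzb, hA.symm z a, hA.symm z b, hA.symm b a, hzz]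
      ring
    obtain ⟨h, hm, hx, hc⟩ := exists_E hA hcc (v := (Φ a b)⁻¹ • (b - a)) (by
      simp only [map_add, map_sub, map_smul, LinearMap.add_apply, smul_eq_mul, haa, hbb, hA.symm z a, hza,
        hA.symm z b, hzb, hA.symm b a]
      ring)
    refine ⟨h, hm, ?_, hc⟩
    rw [hx]
    simp only [map_add, map_sub, map_smul, LinearMap.add_apply, LinearMap.sub_apply, LinearMap.smul_apply,
      smul_eq_mul, haa, hbb, hA.symm z a, hza, hA.symm b a]
    have := two_ne hA
    match_scalars <;> field_simp <;> ring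
  by_cases hab : Φ a b = 0
  swap
  · exact step haa hbb hab
  obtain ⟨c, hcc, h1, h2⟩ := exists_common_partner hA ha haa hb hbb hab
  obtain ⟨u, hu, hua, huc⟩ := step haa hcc h1
  obtain ⟨v, hv, hva, hvc⟩ := step hcc hbb (show Φ c b ≠ 0 by rwa [hA.symm])
  exact ⟨v * u, M.mul_mem hv hu, by rw [act_mul, hua, hva], fun k x => by rw [act_mul, act_mul, huc, hvc]⟩

/-- a map sending singular lines to lines is semilinear -/
theorem isSemi_of_lines (hd : 3 ≤ finrank K (ι → F)) {g : GL ι F}
    (hl : ∀ a, Φ a a = 0 → ∀ k : K, act g (k • a) ∈ (K ∙ act g a)) : ExtF.IsSemi K g := by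
  haveI : Module.Finite K (ι → F) := Module.Finite.right F K (ι → F)
  haveI : Finite K := Module.finite_of_finite F
  have hex : ∀ (a : ι → F) (k : K), ∃ s : K, Φ a a = 0 → act g (k • a) = s • act g a := by
    intro a k
    by_cases h : Φ a a = 0
    · obtain ⟨s, hs⟩ := Submodule.mem_span_singleton.1 (hl a h k)
      exact ⟨s, fun _ => hs.symm⟩
    · exact ⟨0, fun h' => absurd h' h⟩
  choose σ hσ using hex
  have hsur : ∀ a, Φ a a = 0 → a ≠ 0 → Function.Surjective (σ a) := fun a h ha =>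
    Finite.surjective_of_injective fun k k' e => smul_left_injective K ha (act_injective g (by
      show act g (k • a) = act g (k' • a)
      rw [hσ a k h, hσ a k' h, e]))
  have hbase : ∀ a b z, Φ a a = 0 → Φ b b = 0 → Φ a b ≠ 0 → Φ a z = 0 → Φ b z = 0 → Φ z z = -2 * Φ a b →
      ∀ k, σ b k = σ a k := by
    intro a b z haa hbb hab hza hzb hzz k
    have ha : a ≠ 0 := by rintro rfl; simp at hab
    have hb : b ≠ 0 := by rintro rfl; simp at hab
    have hc1 : Φ (a + b + z) (a + b + z) = 0 := by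
      simp only [map_add, LinearMap.add_apply, haa, hbb, hza, hzb, hA.symm z a, hA.symm z b, hA.symm b a, hzz]
      ring
    have hc2 : Φ (a + b - z) (a + b - z) = 0 := by
      simp only [map_add, map_sub, LinearMap.add_apply, LinearMap.sub_apply, haa, hbb, hza, hzb, hA.symm z a,
        hA.symm z b, hA.symm b a, hzz]
      ring
    -- the images of the two lines and of `z` are independent
    have hind : ∀ p q s : K, p • act g a + q • act g b + s • act g z = 0 → p = 0 ∧ q = 0 ∧ s = 0 := by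
      intro p q s h
      have hs : s = 0 := by
        by_contra hs
        obtain ⟨i, hi⟩ := hsur a haa ha (-(s⁻¹ * p))
        obtain ⟨j, hj⟩ := hsur b hbb hb (-(s⁻¹ * q))
        have e : z = i • a + j • b := act_injective g (by
          rw [map_add, hσ a i haa, hσ b j hbb, hi, hj]
          refine smul_right_injective _ hs ?_
          simp only [smul_add, smul_smul, mul_neg, mul_inv_cancel_left₀ hs]
          linear_combination (norm := module) h)
        have e1 : Φ a z = j * Φ a b := by rw [e]; simp [haa]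
        have e2 : Φ b z = i * Φ a b := by rw [e]; simp [hbb, hA.symm b a]
        rw [hza, eq_comm, mul_eq_zero, or_iff_left hab] at e1
        rw [hzb, eq_comm, mul_eq_zero, or_iff_left hab] at e2
        rw [e, e1, e2, zero_smul, zero_smul, add_zero, map_zero] at hzz
        simp only [neg_mul, zero_eq_neg, mul_eq_zero, hab, two_ne hA, or_false, map_zero, LinearMap.zero_apply] at hzz
      subst hs
      rw [zero_smul, add_zero] at h
      have hga : act g a ≠ 0 := fun e => ha (act_injective g (by rw [e, map_zero]))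
      have hgb : act g b ≠ 0 := fun e => hb (act_injective g (by rw [e, map_zero]))
      have hq : q = 0 := by
        by_contra hq
        obtain ⟨i, hi⟩ := hsur a haa ha (-(q⁻¹ * p))
        have e : b = i • a := act_injective g (by
          rw [hσ a i haa, hi]
          refine smul_right_injective _ hq ?_
          simp only [smul_smul, mul_neg, mul_inv_cancel_left₀ hq]
          linear_combination (norm := module) h)
        exact hab (by rw [e, map_smul, haa, smul_zero])
      subst hq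
      rw [zero_smul, add_zero, smul_eq_zero, or_iff_left hga] at h
      exact ⟨h, rfl, rfl⟩
    have e1 := hσ _ k hc1
    have e2 := hσ _ k hc2
    simp only [smul_add, smul_sub, map_add, map_sub, hσ a k haa, hσ b k hbb] at e1 e2
    obtain ⟨h1, h2, -⟩ := hind (2 * σ a k - σ (a + b + z) k - σ (a + b - z) k)
      (2 * σ b k - σ (a + b + z) k - σ (a + b - z) k) (σ (a + b - z) k - σ (a + b + z) k) (by
        linear_combination (norm := module) e1 + e2)
    exact mul_left_cancel₀ (two_ne hA) (by linear_combination h2 - h1)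
  have hpair : ∀ a b, Φ a a = 0 → Φ b b = 0 → Φ a b ≠ 0 → ∀ k, σ b k = σ a k := by
    intro a b haa hbb hab k
    obtain ⟨z, ⟨hza, hzb⟩, hzz⟩ := exists_nonsingular hA (ndeg_pair hA haa hbb hab) (by
      have h1 := finrank_inf_ker_ge (LinearMap.ker (Φ a)) (Φ b)
      have h2 := finrank_ker_ge (Φ a)
      omega)
    replace hza : Φ a z = 0 := hza
    replace hzb : Φ b z = 0 := hzb
    have h2K := two_ne hA
    set c := -(Φ z z) / (2 * Φ a b) with hc
    have hc0 : c ≠ 0 := div_ne_zero (neg_ne_zero.2 hzz) (mul_ne_zero h2K hab)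
    set b' := c • b with hb'
    have hb'b : Φ b' b' = 0 := by simp [hb', hbb]
    have hb'0 : b' ≠ 0 := smul_ne_zero hc0 (by rintro rfl; simp at hab)
    have hgb' : act g b' ≠ 0 := fun e => hb'0 (act_injective g (by rw [e, map_zero]))
    have hscale : ∀ (e : K) i j, σ b' (i * e) = j → σ (e • b') i * σ b' e = j := by
      intro e i j h
      rw [← h]
      refine smul_left_injective K hgb' ?_
      show (σ (e • b') i * σ b' e) • act g b' = σ b' (i * e) • act g b'
      rw [mul_smul, ← hσ b' e hb'b, ← hσ (e • b') i (by simp [hb'b]), ← hσ b' (i * e) hb'b, mul_smul]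
    have hsq : ∀ x : K, x ≠ 0 → ∀ i, σ ((x * x) • b') i = σ a i := by
      intro x hx i
      refine hbase a ((x * x) • b') (x • z) haa (by simp [hb'b]) ?_ ?_ ?_ ?_ i
      · rw [map_smul, smul_eq_mul, hb', map_smul, smul_eq_mul]
        exact mul_ne_zero (mul_ne_zero hx hx) (mul_ne_zero hc0 hab)
      · rw [map_smul, hza, smul_zero]
      · simp [hb', hzb]
      · simp only [hb', map_smul, LinearMap.smul_apply, smul_eq_mul, hc]
        field_simp
    have hab' : ∀ i, σ b' i = σ a i := fun i => by simpa using hsq 1 one_ne_zero i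
    have hadd : ∀ i j, σ b' (i + j) = σ b' i + σ b' j := fun i j => smul_left_injective K hgb' (by
      show σ b' (i + j) • act g b' = (σ b' i + σ b' j) • act g b'
      rw [add_smul, ← hσ b' _ hb'b, ← hσ b' _ hb'b, ← hσ b' _ hb'b, add_smul, map_add])
    have hzero : σ b' 0 = 0 := by simpa using hadd 0 0
    have hmulsq : ∀ x i, σ b' (i * (x * x)) = σ b' i * σ b' (x * x) := by
      intro x i
      rcases eq_or_ne x 0 with rfl | hx
      · simp [hzero]
      rw [← hscale (x * x) i _ rfl, hsq x hx, ← hab']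
    have hmul : ∀ m i, σ b' (i * m) = σ b' i * σ b' m := by
      intro m i
      set x := m / 2 with hx
      have e : (x + 1) * (x + 1) = m + (x * x + 1 * 1) := by rw [hx]; field_simp; ring
      have h1 := hmulsq (x + 1) i
      rw [e, mul_add, hadd, hadd, mul_add i, hadd, hadd, hmulsq, hmulsq] at h1
      linear_combination h1
    have hm := hscale c⁻¹ k _ (hmul c⁻¹ k)
    have hbc : c⁻¹ • b' = b := by rw [hb', inv_smul_smul₀ hc0]
    rw [hbc, hab' k] at hm
    refine mul_right_cancel₀ (fun e => inv_ne_zero hc0 ?_) hm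
    refine smul_left_injective K hb'0 (act_injective g ?_)
    show act g (c⁻¹ • b') = act g ((0 : K) • b')
    rw [hσ _ _ hb'b, e, zero_smul, zero_smul, map_zero]
  obtain ⟨s₀, -, hs₀, hss₀⟩ := exists_singular hA (ndeg_top hA) (by rw [finrank_top]; omega)
  have hall : ∀ b, Φ b b = 0 → ∀ k, act g (k • b) = σ s₀ k • act g b := by
    intro b hbb k
    rcases eq_or_ne b 0 with rfl | hb
    · simp
    rw [hσ b k hbb]
    congr 1
    by_cases h : Φ s₀ b = 0
    · obtain ⟨c, hcc, h1, h2⟩ := exists_common_partner hA hs₀ hss₀ hb hbb h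
      rw [hpair c b hcc hbb (by rwa [hA.symm]), hpair s₀ c hss₀ hcc h1]
    · exact hpair s₀ b hss₀ hbb h k
  intro k
  refine ⟨σ s₀ k, fun x => ?_⟩
  obtain ⟨t, -, htt, hst⟩ := exists_partner hA (ndeg_top hA) (Submodule.mem_top (x := s₀)) hs₀ hss₀
  -- decompose by hand
  set z := x - Φ t x • s₀ - Φ s₀ x • t with hz
  have hzz : Φ (s₀ + z - (Φ z z / 2) • t) (s₀ + z - (Φ z z / 2) • t) = 0 := by
    have h1 : Φ s₀ z = 0 := by simp [hz, hss₀, hst]
    have h2 : Φ t z = 0 := by simp [hz, htt, hA.symm t s₀, hst]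
    simp only [map_add, map_sub, map_smul, LinearMap.add_apply, LinearMap.sub_apply, LinearMap.smul_apply,
      smul_eq_mul, hss₀, htt, hst, hA.symm t s₀, h1, hA.symm z s₀, h2, hA.symm z t]
    have := two_ne hA
    field_simp
    ring
  have hm : ∀ (p : K) {y : ι → F}, Φ y y = 0 → Φ (p • y) (p • y) = 0 := fun p y h => by simp [h]
  have e : x = (s₀ + z - (Φ z z / 2) • t) + (Φ t x - 1) • s₀ + (Φ s₀ x + Φ z z / 2) • t := by
    simp only [hz]
    module
  rw [e, smul_add, smul_add, map_add, map_add, hall _ hzz, hall _ (hm _ hss₀), hall _ (hm _ htt),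
    ← smul_add, ← smul_add, ← map_add, ← map_add]

end Cfsg.Agent.MaxCl.OExt
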