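/-
Isometries exchanging two orthogonal non-degenerate subspaces.
-/
import Mathlib
import Cfsg.Prelude.Def_GeometricClasses
import Cfsg.Agent.Lib.MaxCl.SympStab

set_option autoImplicit false

namespace Cfsg.Agent.MaxCl

open scoped MatrixGroups Matrix

variable {ι : Type} [Fintype ι] [DecidableEq ι] {F : Type*} [Field F]
variable {f : (ι → F) → (ι → F) → F}

/-- an element of GL from an injective linear map -/
theorem exists_gl_of_injective (L : (ι → F) →ₗ[F] (ι → F)) (hL : Function.Injective L) :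
    ∃ g : GL ι F, ∀ x, act g x = L x := by
  have hu : IsUnit (LinearMap.toMatrix' L) := by
    rw [← Matrix.mulVec_injective_iff_isUnit]
    intro x y h
    apply hL
    rw [← Matrix.toLin'_toMatrix' L, Matrix.toLin'_apply, Matrix.toLin'_apply]
    exact h
  refine ⟨hu.unit, fun x => ?_⟩
  rw [act_apply, IsUnit.unit_spec, ← Matrix.toLin'_apply, Matrix.toLin'_toMatrix']

variable (hf : Cfsg.Geo.IsSymplecticForm f)
include hf

theorem exists_plane_swap {x y x' y' : ι → F} (h1 : f x y = 1) (h2 : f x' y' = 1) (h3 : f x x' = 0)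
    (h4 : f x y' = 0) (h5 : f y x' = 0) (h6 : f y y' = 0) :
    ∃ g ∈ isoGroup f, act g x = x' ∧ act g x' = x ∧ act g y = y' ∧ act g y' = y ∧
      ∀ z, f z x = 0 → f z y = 0 → f z x' = 0 → f z y' = 0 → act g z = z := by
  let L : (ι → F) →ₗ[F] (ι → F) :=
    LinearMap.id + (flin hf.bilinear y - flin hf.bilinear y').smulRight (x' - x)
      + (flin hf.bilinear x' - flin hf.bilinear x).smulRight (y' - y)
  have h1' : f y x = -1 := by rw [f_skew hf, h1]
  have h2' : f y' x' = -1 := by rw [f_skew hf, h2]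
  have h3' := f_eq_zero_symm hf h3
  have h4' := f_eq_zero_symm hf h4
  have h5' := f_eq_zero_symm hf h5
  have h6' := f_eq_zero_symm hf h6
  have hL : ∀ z, L z = z + (f z y - f z y') • (x' - x) + (f z x' - f z x) • (y' - y) := fun z => rfl
  have hiso : ∀ u v, f (L u) (L v) = f u v := by
    intro u v
    simp only [hL, f_add_left hf, f_add_right hf, f_sub_left hf, f_sub_right hf, f_smul_left hf,
      f_smul_right hf, f_self hf, h1, h2, h3, h4, h5, h6, h1', h2', h3', h4', h5', h6',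
      f_skew hf x v, f_skew hf y v, f_skew hf x' v, f_skew hf y' v]
    ring
  have hinj : Function.Injective L := by
    intro u v h
    apply flin_injective hf
    apply LinearMap.ext; intro z
    simp only [flin_apply]
    rw [← hiso z u, ← hiso z v, h]
  obtain ⟨g, hg⟩ := exists_gl_of_injective L hinj
  refine ⟨g, mem_isoGroup.2 fun u v => by rw [hg, hg, hiso], ?_, ?_, ?_, ?_, ?_⟩
  · rw [hg, hL, h1, h4, h3, f_self hf]; simp
  · rw [hg, hL, h5', h2, f_self hf, h3']; simp
  · rw [hg, hL, f_self hf, h6, h5, h1']; simp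
  · rw [hg, hL, h6', f_self hf, h2', h4']; simp
  · intro z e1 e2 e3 e4
    rw [hg, hL, e1, e2, e3, e4]; simp

/-- splitting a hyperbolic plane off a non-degenerate subspace -/
theorem exists_split_plane {A : Submodule F (ι → F)} (hA : Cfsg.Geo.IsNondegenerateOn f A) {k : ℕ}
    (hk : Module.finrank F A = k + 1) :
    ∃ x y, ∃ A' : Submodule F (ι → F), x ∈ A ∧ y ∈ A ∧ f x y = 1 ∧ A' ≤ A ∧
      (∀ z ∈ A', f z x = 0 ∧ f z y = 0) ∧ Cfsg.Geo.IsNondegenerateOn f A' ∧
      Module.finrank F A' = k - 1 ∧ 1 ≤ k ∧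
      ∀ v ∈ A, ∃ a b : F, ∃ z ∈ A', v = a • x + b • y + z := by
  obtain ⟨x, hx, hx0⟩ : ∃ x ∈ A, x ≠ 0 := Submodule.exists_mem_ne_zero_of_ne_bot (by
    intro h; rw [h, finrank_bot] at hk; omega)
  obtain ⟨y₀, hy₀, hxy₀⟩ := (hA x hx hx0).2
  obtain ⟨y, hy⟩ : ∃ y, y = (f x y₀)⁻¹ • y₀ := ⟨_, rfl⟩
  have hxy : f x y = 1 := by rw [hy, f_smul_right hf, inv_mul_cancel₀ hxy₀]
  have hyA : y ∈ A := hy ▸ A.smul_mem _ hy₀
  have hyx : f y x = -1 := by rw [f_skew hf, hxy]
  let A' := A ⊓ (LinearMap.ker (flin hf.bilinear x) ⊓ LinearMap.ker (flin hf.bilinear y))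
  have hdec : ∀ v ∈ A, ∃ a b : F, ∃ z ∈ A', v = a • x + b • y + z := by
    intro v hv
    refine ⟨f v y, -f v x, v - f v y • x - (-f v x) • y, ⟨?_, ?_, ?_⟩, by abel⟩
    · exact A.sub_mem (A.sub_mem hv (A.smul_mem _ hx)) (A.smul_mem _ hyA)
    · rw [SetLike.mem_coe, LinearMap.mem_ker, flin_apply, f_sub_left hf, f_sub_left hf, f_smul_left hf,
        f_smul_left hf, f_self hf, hyx]
      ring
    · rw [SetLike.mem_coe, LinearMap.mem_ker, flin_apply, f_sub_left hf, f_sub_left hf, f_smul_left hf,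
        f_smul_left hf, f_self hf, hxy]
      ring
  have hnd : Cfsg.Geo.IsNondegenerateOn f A' := by
    intro w hw hw0
    obtain ⟨u, hu, hu'⟩ := (hA w hw.1 hw0).1
    obtain ⟨a, b, z, hz, rfl⟩ := hdec u hu
    have e1 : f x w = 0 := f_eq_zero_symm hf (LinearMap.mem_ker.1 hw.2.1)
    have e2 : f y w = 0 := f_eq_zero_symm hf (LinearMap.mem_ker.1 hw.2.2)
    have hzw : f z w ≠ 0 := by simpa [f_add_left hf, f_smul_left hf, e1, e2] using hu'
    exact ⟨⟨z, hz, hzw⟩, ⟨z, hz, f_ne_symm hf hzw⟩⟩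
  have hind : LinearIndependent F ![x, y] := by
    rw [LinearIndependent.pair_iff]
    intro a b h
    have e1 := congrArg (flin hf.bilinear y) h
    have e2 := congrArg (flin hf.bilinear x) h
    simp only [flin_apply, f_add_left hf, f_smul_left hf, f_self hf, hxy, hyx, f_zero_left hf,
      mul_one, mul_zero, add_zero, zero_add, mul_neg, neg_eq_zero] at e1 e2
    exact ⟨e1, e2⟩
  have hdim : Module.finrank F A' + 2 = k + 1 := by
    have hP : Module.finrank F (Submodule.span F (Set.range ![x, y])) = 2 := by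
      rw [finrank_span_eq_card hind]; simp
    have hsup : Submodule.span F (Set.range ![x, y]) ⊔ A' = A := by
      refine le_antisymm (sup_le (Submodule.span_le.2 ?_) inf_le_left) fun v hv => ?_
      · rintro _ ⟨i, rfl⟩; fin_cases i <;> [exact hx; exact hyA]
      · obtain ⟨a, b, z, hz, rfl⟩ := hdec v hv
        refine Submodule.add_mem_sup ?_ hz
        exact Submodule.add_mem _ (Submodule.smul_mem _ _ (Submodule.subset_span ⟨0, rfl⟩))
          (Submodule.smul_mem _ _ (Submodule.subset_span ⟨1, rfl⟩))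
    have hinf : Submodule.span F (Set.range ![x, y]) ⊓ A' = ⊥ := by
      rw [Submodule.eq_bot_iff]
      intro v hv
      obtain ⟨hv1, hv2⟩ := hv
      rw [Matrix.range_cons, Matrix.range_cons, Matrix.range_empty, Set.union_empty,
        Set.singleton_union] at hv1
      obtain ⟨a, b, rfl⟩ := Submodule.mem_span_pair.1 hv1
      have e1 : f (a • x + b • y) y = 0 := LinearMap.mem_ker.1 hv2.2.2
      have e2 : f (a • x + b • y) x = 0 := LinearMap.mem_ker.1 hv2.2.1
      simp only [f_add_left hf, f_smul_left hf, f_self hf, hxy, hyx, mul_one, mul_zero, add_zero,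
        zero_add, mul_neg, neg_eq_zero] at e1 e2
      simp [e1, e2]
    have h := Submodule.finrank_sup_add_finrank_inf_eq (Submodule.span F (Set.range ![x, y])) A'
    rw [hsup, hinf, finrank_bot, hP, hk] at h
    omega
  exact ⟨x, y, A', hx, hyA, hxy, inf_le_left, fun z hz => ⟨hz.2.1, hz.2.2⟩, hnd, by omega, by omega, hdec⟩

/-- an isometry exchanging two orthogonal non-degenerate subspaces of the same dimension -/
theorem exists_swap : ∀ (k : ℕ) (A B : Submodule F (ι → F)), Module.finrank F A = k →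
    Module.finrank F B = k → Cfsg.Geo.IsNondegenerateOn f A → Cfsg.Geo.IsNondegenerateOn f B →
    Cfsg.Geo.AreOrthogonalFor f A B →
    ∃ g ∈ isoGroup f, (∀ a ∈ A, act g a ∈ B) ∧ (∀ b ∈ B, act g b ∈ A) ∧
      ∀ z, (∀ a ∈ A, f z a = 0) → (∀ b ∈ B, f z b = 0) → act g z = z := by
  intro k
  induction k using Nat.strongRecOn with
  | _ k ih =>
    intro A B hA hB hnA hnB hperp
    rcases k with _ | k
    · refine ⟨1, one_mem _, fun a ha => ?_, fun b hb => ?_, fun z _ _ => act_one z⟩
      · rw [Submodule.finrank_eq_zero.1 hA, Submodule.mem_bot] at ha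
        simp [ha]
      · rw [Submodule.finrank_eq_zero.1 hB, Submodule.mem_bot] at hb
        simp [hb]
    obtain ⟨x, y, A', hx, hy, hxy, hA'le, hA'p, hA'n, hA'k, hk1, hAd⟩ := exists_split_plane hf hnA hA
    obtain ⟨x', y', B', hx', hy', hxy', hB'le, hB'p, hB'n, hB'k, -, hBd⟩ := exists_split_plane hf hnB hB
    obtain ⟨g₀, hg₀, gx, gx', gy, gy', gfix⟩ := exists_plane_swap hf hxy hxy'
      (hperp x hx x' hx') (hperp x hx y' hy') (hperp y hy x' hx') (hperp y hy y' hy')
    obtain ⟨g₁, hg₁, h1A, h1B, h1fix⟩ := ih (k - 1) (by omega) A' B' hA'k hB'k hA'n hB'n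
      (fun a ha b hb => hperp a (hA'le ha) b (hB'le hb))
    have fx : act g₁ x = x := h1fix x (fun a ha => f_eq_zero_symm hf (hA'p a ha).1)
      (fun b hb => hperp x hx b (hB'le hb))
    have fy : act g₁ y = y := h1fix y (fun a ha => f_eq_zero_symm hf (hA'p a ha).2)
      (fun b hb => hperp y hy b (hB'le hb))
    have fx' : act g₁ x' = x' := h1fix x' (fun a ha => f_eq_zero_symm hf (hperp a (hA'le ha) x' hx'))
      (fun b hb => f_eq_zero_symm hf (hB'p b hb).1)
    have fy' : act g₁ y' = y' := h1fix y' (fun a ha => f_eq_zero_symm hf (hperp a (hA'le ha) y' hy'))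
      (fun b hb => f_eq_zero_symm hf (hB'p b hb).2)
    have f0A : ∀ a ∈ A', act g₀ a = a := fun a ha =>
      gfix a (hA'p a ha).1 (hA'p a ha).2 (hperp a (hA'le ha) x' hx') (hperp a (hA'le ha) y' hy')
    have f0B : ∀ b ∈ B', act g₀ b = b := fun b hb =>
      gfix b (f_eq_zero_symm hf (hperp x hx b (hB'le hb))) (f_eq_zero_symm hf (hperp y hy b (hB'le hb)))
        (hB'p b hb).1 (hB'p b hb).2
    refine ⟨g₀ * g₁, mul_mem hg₀ hg₁, ?_, ?_, ?_⟩
    · intro v hv
      obtain ⟨a, b, z, hz, rfl⟩ := hAd v hv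
      simp only [act_mul, map_add, map_smul, fx, fy, gx, gy, f0B _ (h1A z hz)]
      exact B.add_mem (B.add_mem (B.smul_mem _ hx') (B.smul_mem _ hy')) (hB'le (h1A z hz))
    · intro v hv
      obtain ⟨a, b, z, hz, rfl⟩ := hBd v hv
      simp only [act_mul, map_add, map_smul, fx', fy', gx', gy', f0A _ (h1B z hz)]
      exact A.add_mem (A.add_mem (A.smul_mem _ hx) (A.smul_mem _ hy)) (hA'le (h1B z hz))
    · intro z hzA hzB
      rw [act_mul, h1fix z (fun a ha => hzA a (hA'le ha)) (fun b hb => hzB b (hB'le hb))]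
      exact gfix z (hzA x hx) (hzA y hy) (hzB x' hx') (hzB y' hy')

end Cfsg.Agent.MaxCl
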