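/-
Short root elements `x ↦ x + f x a • b + f x b • a` of a symplectic group.
-/
import Mathlib
import Cfsg.Prelude.Def_GeometricClasses
import Cfsg.Agent.Lib.MaxCl.SympSwap

set_option autoImplicit false

namespace Cfsg.Agent.MaxCl

open scoped MatrixGroups Matrix

variable {ι : Type} [Fintype ι] [DecidableEq ι] {F : Type*} [Field F]
variable {f : (ι → F) → (ι → F) → F}
variable (hf : Cfsg.Geo.IsSymplecticForm f)
include hf

/-- short root element of a pair of orthogonal vectors -/
noncomputable def root (hf : Cfsg.Geo.IsSymplecticForm f) (a b : ι → F) : GL ι F :=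
  stv hf (a + b) 1 * stv hf a (-1) * stv hf b (-1)

theorem root_mem (a b : ι → F) : root hf a b ∈ isoGroup f :=
  mul_mem (mul_mem (stv_mem hf _ _) (stv_mem hf _ _)) (stv_mem hf _ _)

theorem act_root {a b : ι → F} (hab : f a b = 0) (z : ι → F) :
    act (root hf a b) z = z + f z a • b + f z b • a := by
  simp only [root, act_mul, act_stv hf, f_add_left hf, f_smul_left hf, f_add_right hf,
    f_self hf, hab, f_eq_zero_symm hf hab]
  match_scalars <;> ring

theorem conj_root {g : GL ι F} (hg : g ∈ isoGroup f) (a b : ι → F) :
    g * root hf a b * g⁻¹ = root hf (act g a) (act g b) := by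
  rw [root, root, ← map_add, ← conj_stv hf hg, ← conj_stv hf hg, ← conj_stv hf hg]
  group

theorem root_comm {a b : ι → F} (hab : f a b = 0) : root hf a b = root hf b a := by
  apply gl_ext; intro z
  rw [act_root hf hab, act_root hf (f_eq_zero_symm hf hab)]
  abel

end Cfsg.Agent.MaxCl
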