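/-
The isometries of a symplectic form preserving a form over a subfield of prime index form a maximal subgroup.
-/
import Mathlib
import Cfsg.Prelude.Def_GeometricClasses
import Cfsg.Agent.Lib.MaxCl.SympRoot

set_option autoImplicit false

namespace Cfsg.Agent.MaxCl

open scoped MatrixGroups Matrix

variable {ι : Type} [Fintype ι] [DecidableEq ι] {F : Type*} [Field F]

/-- the image under `P` of the vectors with coordinates in `F₀` -/
def ratVec (F₀ : Subfield F) (P : GL ι F) : Submodule F₀ (ι → F) where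
  carrier := {x | ∃ u : ι → F, (∀ i, u i ∈ F₀) ∧ act P u = x}
  add_mem' := by
    rintro _ _ ⟨u, hu, rfl⟩ ⟨v, hv, rfl⟩
    exact ⟨u + v, fun i => F₀.add_mem (hu i) (hv i), map_add _ _ _⟩
  zero_mem' := ⟨0, fun i => F₀.zero_mem, map_zero _⟩
  smul_mem' := by
    rintro c _ ⟨u, hu, rfl⟩
    exact ⟨(c : F) • u, fun i => F₀.mul_mem c.2 (hu i), map_smul _ _ _⟩

theorem ratVec_basis (F₀ : Subfield F) (P : GL ι F) (i : ι) : act P (Pi.single i 1) ∈ ratVec F₀ P :=
  ⟨Pi.single i 1, fun j => by by_cases h : j = i <;> simp [h, F₀.one_mem, F₀.zero_mem], rfl⟩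

theorem ratVec_smul {F₀ : Subfield F} {P : GL ι F} {c : F} (hc : c ∈ F₀) {x : ι → F}
    (hx : x ∈ ratVec F₀ P) : c • x ∈ ratVec F₀ P :=
  (ratVec F₀ P).smul_mem (⟨c, hc⟩ : F₀) hx

theorem ext_of_ratVec (F₀ : Subfield F) (P : GL ι F) {φ ψ : (ι → F) →ₗ[F] F}
    (h : ∀ x ∈ ratVec F₀ P, φ x = ψ x) : φ = ψ := by
  refine LinearMap.ext fun x => ?_
  have e : φ ∘ₗ act P = ψ ∘ₗ act P :=
    (Pi.basisFun F ι).ext fun i => by
      simpa using h _ (ratVec_basis F₀ P i)
  have := LinearMap.congr_fun e (act P⁻¹ x)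
  simpa [act_act_inv] using this

/-- a matrix mapping the rational vectors into a multiple of themselves lies in the subfield group -/
theorem mem_subfieldSubgroup (F₀ : Subfield F) (P : GL ι F) {g : GL ι F} {γ : F} (hγ : γ ≠ 0)
    (h : ∀ x ∈ ratVec F₀ P, γ⁻¹ • act g x ∈ ratVec F₀ P) : g ∈ Cfsg.Geo.subfieldSubgroup F₀ P := by
  classical
  let s : GL ι F := (Units.map (Matrix.scalar ι : F →+* Matrix ι ι F).toMonoidHom) (Units.mk0 γ hγ)
  have hs : ∀ x, act s x = γ • x := by
    intro x; ext i
    simp [s, act_apply, Matrix.mulVec_diagonal]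
  have hsi : ∀ x, act s⁻¹ x = γ⁻¹ • x := by
    intro x
    apply act_injective s
    rw [act_act_inv, hs, smul_inv_smul₀ hγ]
  let A₁ : GL ι F := s⁻¹ * (P⁻¹ * g * P)
  have hA₁ : ∀ x, act A₁ x = γ⁻¹ • act P⁻¹ (act g (act P x)) := by
    intro x; simp only [A₁, act_mul, hsi]
  have hent : ∀ i j, (A₁ : Matrix ι ι F) i j ∈ F₀ := by
    intro i j
    obtain ⟨u, hu, he⟩ := h _ (ratVec_basis F₀ P j)
    have : act A₁ (Pi.single j 1) = u := by
      rw [hA₁, ← map_smul, ← he, act_inv_act]
    rw [act_apply, Matrix.mulVec_single_one] at this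
    have h2 := congrFun this i
    simp only [Matrix.col_apply] at h2
    rw [h2]; exact hu i
  let A : Matrix ι ι F₀ := fun i j => ⟨(A₁ : Matrix ι ι F) i j, hent i j⟩
  have hA : A.map (F₀.subtype) = (A₁ : Matrix ι ι F) := by ext i j; rfl
  have hdet : A.det ≠ 0 := by
    intro h0
    have h1 : (A₁ : Matrix ι ι F).det ≠ 0 := ((Matrix.isUnit_iff_isUnit_det _).1 A₁.isUnit).ne_zero
    apply h1
    rw [← hA, ← RingHom.mapMatrix_apply, ← RingHom.map_det, h0, map_zero]
  have hrange : A₁ ∈ (Matrix.GeneralLinearGroup.map (F₀.subtype : F₀ →+* F)).range :=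
    ⟨((Matrix.isUnit_iff_isUnit_det A).2 (isUnit_iff_ne_zero.2 hdet)).unit, Units.ext (by
      simp only [Matrix.GeneralLinearGroup.map, Units.coe_map, IsUnit.unit_spec]
      exact hA)⟩
  refine ⟨s * A₁, mul_mem (Subgroup.mem_sup_right ⟨Units.mk0 γ hγ, rfl⟩) (Subgroup.mem_sup_left hrange), ?_⟩
  simp only [A₁, MulEquiv.coe_toMonoidHom, MulAut.conj_apply]
  group

/-- an element of the subfield group multiplies the rational vectors by one scalar -/
theorem exists_of_mem_subfieldSubgroup (F₀ : Subfield F) (P : GL ι F) {g : GL ι F}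
    (hg : g ∈ Cfsg.Geo.subfieldSubgroup F₀ P) :
    ∃ γ : F, ∀ x ∈ ratVec F₀ P, ∃ y ∈ ratVec F₀ P, act g x = γ • y := by
  obtain ⟨B, hB, rfl⟩ := hg
  suffices H : ∃ γ : F, ∀ u : ι → F, (∀ i, u i ∈ F₀) → ∃ w : ι → F, (∀ i, w i ∈ F₀) ∧ act B u = γ • w by
    obtain ⟨γ, hγ⟩ := H
    refine ⟨γ, ?_⟩
    rintro _ ⟨u, hu, rfl⟩
    obtain ⟨w, hw, e⟩ := hγ u hu
    refine ⟨act P w, ⟨w, hw, rfl⟩, ?_⟩
    simp only [MulEquiv.coe_toMonoidHom, MulAut.conj_apply, act_mul, act_inv_act]
    rw [e, map_smul]
  obtain ⟨a, ha, c, hc, rfl⟩ := Subgroup.mem_sup_of_normal_right.1 hB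
  obtain ⟨c', hc'⟩ := (Cfsg.Geo.mem_scalars_iff c).1 hc
  obtain ⟨A, rfl⟩ := ha
  refine ⟨(c' : F), fun u hu => ⟨act (Matrix.GeneralLinearGroup.map (F₀.subtype : F₀ →+* F) A) u, ?_, ?_⟩⟩
  rotate_left
  · rw [act_mul, show act c u = (c' : F) • u by rw [act_apply, hc', Matrix.smul_mulVec, Matrix.one_mulVec],
      map_smul]
  · intro i
    rw [act_apply]
    exact F₀.sum_mem fun j _ => F₀.mul_mem ((A : Matrix ι ι F₀) i j).2 (hu j)

variable {f : (ι → F) → (ι → F) → F}

theorem root_add_right (hf : Cfsg.Geo.IsSymplecticForm f) {x r r' : ι → F} (h : f x r = 0)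
    (h' : f x r' = 0) (hr : f r r' = 0) : root hf x r * root hf x r' = root hf x (r + r') := by
  apply gl_ext; intro z
  rw [act_mul, act_root hf h, act_root hf h', act_root hf (by rw [f_add_right hf, h, h', add_zero])]
  simp only [f_add_left hf, f_add_right hf, f_smul_left hf, f_self hf, f_eq_zero_symm hf h', h,
    f_eq_zero_symm hf hr]
  match_scalars <;> ring

theorem root_smul_comm (hf : Cfsg.Geo.IsSymplecticForm f) (x y : ι → F) (s : F) (h : f x y = 0) :
    root hf (s • x) y = root hf x (s • y) := by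
  apply gl_ext; intro z
  rw [act_root hf (by rw [f_smul_left hf, h, mul_zero]), act_root hf (by rw [f_smul_right hf, h, mul_zero]),
    f_smul_right hf, f_smul_right hf]
  match_scalars <;> ring

theorem stv_neg' (hf : Cfsg.Geo.IsSymplecticForm f) (u : ι → F) (c : F) :
    stv hf u (-c) = (stv hf u c)⁻¹ :=
  eq_inv_of_mul_eq_one_left (by rw [stv_add, neg_add_cancel, stv_zero])

theorem exists_sum_two_squares (K : Type*) [Field K] [Fintype K] (c : K) :
    ∃ a b : K, a * a + b * b = c := by
  by_cases h : ringChar K = 2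
  · obtain ⟨a, ha⟩ := FiniteField.isSquare_of_char_two h c
    exact ⟨a, 0, by rw [mul_zero, add_zero, ← ha]⟩
  · obtain ⟨a, b, hab⟩ := FiniteField.exists_root_sum_quadratic (f := (Polynomial.X : Polynomial K) ^ 2)
      (g := Polynomial.X ^ 2 - Polynomial.C c) (Polynomial.degree_X_pow 2)
      (Polynomial.degree_X_pow_sub_C (by norm_num) _) (FiniteField.odd_card_of_char_ne_two h)
    refine ⟨a, b, ?_⟩
    simp only [Polynomial.eval_pow, Polynomial.eval_X, Polynomial.eval_sub, Polynomial.eval_C] at hab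
    linear_combination hab

theorem root_four (hf : Cfsg.Geo.IsSymplecticForm f) {x s q : ι → F} (hs : f x s = 0) (hq : f x q = 0) :
    root hf x (s + q) * root hf x (-s) * root hf x (-s) * root hf x (s + q) = root hf x ((2 : F) • q) := by
  have hn : ∀ a, f x a = 0 → f x ((-1 : F) • a) = 0 := fun a ha => by rw [f_smul_right hf, ha, mul_zero]
  have hsq : f x (s + q) = 0 := by rw [f_add_right hf, hs, hq, add_zero]
  rw [show -s = (-1 : F) • s by simp]
  apply gl_ext; intro z
  rw [act_mul, act_mul, act_mul, act_root hf hsq, act_root hf (hn s hs), act_root hf (hn s hs),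
    act_root hf hsq, act_root hf (by rw [f_smul_right hf, hq, mul_zero])]
  simp only [f_add_left hf, f_add_right hf, f_smul_left hf, f_smul_right hf, f_self hf, hs, hq,
    f_eq_zero_symm hf hs, f_eq_zero_symm hf hq, f_skew hf q s]
  match_scalars <;> ring

/-- The core statement, for a form which is `F₀`-valued on rational vectors. -/
theorem subfield_maximal_any [Fintype F] (hf : Cfsg.Geo.IsSymplecticForm f) (hn : 4 ≤ Fintype.card ι)
    (h6 : (2 : F) = 0 → 6 ≤ Fintype.card ι)
    (F₀ : Subfield F) (r : ℕ) (hr : r.Prime) (hcard : Fintype.card F = Nat.card F₀ ^ r) (P : GL ι F)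
    (hP : ∀ x ∈ ratVec F₀ P, ∀ y ∈ ratVec F₀ P, f x y ∈ F₀) :
    Cfsg.Geo.IsMaximalIn (isoGroup f) (Cfsg.Geo.subfieldSubgroup F₀ P ⊓ isoGroup f) := by
  classical
  haveI : Fintype F₀ := Fintype.ofFinite _
  have hrank : Module.finrank F₀ F = r := by
    have e := Module.natCard_eq_pow_finrank (K := F₀) (V := F)
    rw [Nat.card_eq_fintype_card (α := F), hcard] at e
    exact (Nat.pow_right_injective (Finite.one_lt_card (α := F₀)) e).symm
  set L := ratVec F₀ P with hL
  let f₀ : (ι → F₀) → (ι → F₀) → F₀ := fun u v =>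
    ⟨f (act P fun i => (u i : F)) (act P fun i => (v i : F)),
      hP _ ⟨_, fun i => (u i).2, rfl⟩ _ ⟨_, fun i => (v i).2, rfl⟩⟩
  let emb : (ι → F₀) → (ι → F) := fun u => act P fun i => (u i : F)
  have hembL : ∀ u, emb u ∈ L := fun u => ⟨_, fun i => (u i).2, rfl⟩
  have hLemb : ∀ x ∈ L, ∃ u, emb u = x := by
    rintro _ ⟨u, hu, rfl⟩; exact ⟨fun i => ⟨u i, hu i⟩, rfl⟩
  have hembadd : ∀ u v, emb (u + v) = emb u + emb v := fun u v => by
    simp only [emb, ← map_add]; rfl
  have hembsmul : ∀ (c : F₀) u, emb (c • u) = (c : F) • emb u := fun c u => by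
    simp only [emb, ← map_smul]; rfl
  have hf₀ : Cfsg.Geo.IsSymplecticForm f₀ := by
    refine ⟨⟨fun x y v => ?_, fun c x v => ?_, fun v x y => ?_, fun c v x => ?_⟩, fun v w => ?_,
      fun v => ?_, ?_⟩
    · apply Subtype.ext; change f (emb (x + y)) (emb v) = f (emb x) (emb v) + f (emb y) (emb v)
      rw [hembadd, f_add_left hf]
    · apply Subtype.ext; change f (emb (c • x)) (emb v) = (c : F) * f (emb x) (emb v)
      rw [hembsmul, f_smul_left hf]
    · apply Subtype.ext; change f (emb v) (emb (x + y)) = f (emb v) (emb x) + f (emb v) (emb y)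
      rw [hembadd, f_add_right hf]
    · apply Subtype.ext; change f (emb v) (emb (c • x)) = (c : F) * f (emb v) (emb x)
      rw [hembsmul, f_smul_right hf]
    · apply Subtype.ext; exact f_skew hf (emb v) (emb w)
    · apply Subtype.ext; exact f_self hf (emb v)
    · intro v hv
      have hv' : emb v ≠ 0 := by
        intro h; apply hv
        have h' := act_injective P (h.trans (map_zero _).symm)
        funext i; exact Subtype.ext (congrFun h' i)
      have key : ∃ x, f₀ x v ≠ 0 := by
        by_contra hno; push Not at hno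
        obtain ⟨x, hx⟩ := (hf.nondegenerate _ hv').1
        have e : flin hf.bilinear (emb v) = 0 := ext_of_ratVec F₀ P fun y hy => by
          obtain ⟨u, rfl⟩ := hLemb y hy
          simpa [flin_apply, f₀, emb] using congrArg Subtype.val (hno u)
        exact hx (by rw [← flin_apply hf.bilinear, e]; rfl)
      obtain ⟨x, hx⟩ := key
      refine ⟨⟨x, hx⟩, ⟨x, fun h => hx ?_⟩⟩
      apply Subtype.ext
      have : f (emb v) (emb x) = 0 := congrArg Subtype.val h
      exact f_eq_zero_symm hf this
  -- prescribed products with rational vectors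
  have hdual : ∀ (a : ι → F) (s : Finset (ι → F)), a ∈ L → (∀ x ∈ s, x ∈ L) →
      a ∉ Submodule.span F₀ (s : Set (ι → F)) →
      ∃ c ∈ L, f a c = 1 ∧ ∀ x ∈ s, f x c = 0 := by
    intro a s ha hs hnot
    obtain ⟨a₀, rfl⟩ := hLemb a ha
    let E : (ι → F₀) →ₗ[F₀] (ι → F) :=
      { toFun := emb, map_add' := hembadd, map_smul' := fun c u => hembsmul c u }
    obtain ⟨φ, h0, h1⟩ := exists_dual (W := (Submodule.span F₀ (s : Set (ι → F))).comap E) (v := a₀) hnot
    obtain ⟨w, hw⟩ := exists_repr hf₀ φ
    refine ⟨emb w, hembL w, ?_, fun x hx => ?_⟩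
    · have := (hw a₀).symm.trans h1
      exact congrArg Subtype.val this
    · obtain ⟨x₀, rfl⟩ := hLemb x (hs x hx)
      have := (hw x₀).symm.trans (h0 x₀ (Submodule.subset_span hx))
      exact congrArg Subtype.val this
  have hrat : ∀ x, (∀ y ∈ L, f y x ∈ F₀) → x ∈ L := by
    intro x hx
    let φ : (ι → F₀) →ₗ[F₀] F₀ :=
      { toFun := fun u => ⟨f (emb u) x, hx _ (hembL u)⟩
        map_add' := fun u v => Subtype.ext (by
          change f (emb (u + v)) x = f (emb u) x + f (emb v) x
          rw [hembadd, f_add_left hf])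
        map_smul' := fun c u => Subtype.ext (by
          change f (emb (c • u)) x = (c : F) * f (emb u) x
          rw [hembsmul, f_smul_left hf]) }
    obtain ⟨w, hw⟩ := exists_repr hf₀ φ
    have e : x = emb w := flin_injective hf (ext_of_ratVec F₀ P fun y hy => by
      obtain ⟨u, rfl⟩ := hLemb y hy
      exact congrArg Subtype.val (hw u))
    rw [e]; exact hembL w
  have hLdim : ∀ s : Finset (ι → F), (∀ y ∈ s, y ∈ L) → s.card < Fintype.card ι →
      ∃ x ∈ L, (∀ y ∈ s, f y x = 0) ∧ x ≠ 0 := by
    intro s hsL hs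
    let Φ₁ : (ι → F₀) →ₗ[F₀] (s → F₀) :=
      { toFun := fun u y => ⟨f (emb u) y, hP _ (hembL u) _ (hsL _ y.2)⟩
        map_add' := fun u v => funext fun y => Subtype.ext (by
          change f (emb (u + v)) y = f (emb u) y + f (emb v) y
          rw [hembadd, f_add_left hf])
        map_smul' := fun c u => funext fun y => Subtype.ext (by
          change f (emb (c • u)) y = (c : F) * f (emb u) y
          rw [hembsmul, f_smul_left hf]) }
    have hker : LinearMap.ker Φ₁ ≠ ⊥ := by
      apply LinearMap.ker_ne_bot_of_finrank_lt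
      simpa [Module.finrank_pi] using hs
    obtain ⟨u, hu, hu0⟩ := Submodule.exists_mem_ne_zero_of_ne_bot hker
    refine ⟨emb u, hembL u, fun y hy => ?_, fun h => hu0 ?_⟩
    · exact f_eq_zero_symm hf (congrArg Subtype.val (congrFun (LinearMap.mem_ker.1 hu) ⟨y, hy⟩))
    · have h' := act_injective P (h.trans (map_zero _).symm)
      funext i; exact Subtype.ext (congrFun h' i)
  have hone : (1 : F) ∈ F₀ := F₀.one_mem
  have hdual1 : ∀ a ∈ L, a ≠ 0 → ∃ c ∈ L, f a c = 1 := by
    intro a ha ha0
    obtain ⟨c, hc, h1, -⟩ := hdual a ∅ ha (by simp) (by simpa using ha0)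
    exact ⟨c, hc, h1⟩
  -- independent rational vectors: duals
  have hdual2 : ∀ a ∈ L, ∀ b ∈ L, a ≠ 0 → (∀ e ∈ F₀, b ≠ e • a) →
      ∃ c ∈ L, f b c = 1 ∧ f a c = 0 := by
    intro a ha b hb ha0 hab
    obtain ⟨c, hc, h1, h2⟩ := hdual b {a} hb (by simpa using ha) (by
      simp only [Finset.coe_singleton, Submodule.mem_span_singleton, not_exists]
      exact fun e he => hab (e : F) e.2 he.symm)
    exact ⟨c, hc, h1, h2 a (Finset.mem_singleton_self a)⟩
  have hscal : ∀ x ∈ L, x ≠ 0 → ∀ s : F, s • x ∈ L → s ∈ F₀ := by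
    intro x hx hx0 s hs
    obtain ⟨c, hc, h1⟩ := hdual1 x hx hx0
    have := hP _ hs c hc
    rwa [f_smul_left hf, h1, mul_one] at this
  -- elements of the subgroup
  have hH : ∀ g, g ∈ isoGroup f → (∀ x ∈ L, act g x ∈ L) →
      g ∈ Cfsg.Geo.subfieldSubgroup F₀ P ⊓ isoGroup f := fun g hg h =>
    ⟨mem_subfieldSubgroup F₀ P one_ne_zero (fun x hx => by simpa using h x hx), hg⟩
  have hstvH : ∀ l ∈ L, ∀ c ∈ F₀, stv hf l c ∈ Cfsg.Geo.subfieldSubgroup F₀ P ⊓ isoGroup f := by
    intro l hl c hc
    refine hH _ (stv_mem hf l c) fun x hx => ?_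
    rw [act_stv hf]
    exact L.add_mem hx (ratVec_smul (F₀.mul_mem hc (hP x hx l hl)) hl)
  have hrootH : ∀ a ∈ L, ∀ b ∈ L, f a b = 0 → root hf a b ∈ Cfsg.Geo.subfieldSubgroup F₀ P ⊓ isoGroup f := by
    intro a ha b hb hab
    refine hH _ (root_mem hf a b) fun x hx => ?_
    rw [act_root hf hab]
    exact L.add_mem (L.add_mem hx (ratVec_smul (hP x hx a ha) hb)) (ratVec_smul (hP x hx b hb) ha)
  obtain ⟨l₀, hl₀, -, hl₀0⟩ := hLdim ∅ (by simp) (by simp only [Finset.card_empty]; omega)
  -- strictness
  have hlt : Cfsg.Geo.subfieldSubgroup F₀ P ⊓ isoGroup f < isoGroup f := by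
    refine lt_of_le_of_ne inf_le_right fun heq => ?_
    obtain ⟨c, hc⟩ : ∃ c : F, c ∉ F₀ := by
      by_contra h; push Not at h
      have e : Nat.card F₀ = Nat.card F :=
        Nat.card_congr (Equiv.subtypeUnivEquiv h)
      rw [Nat.card_eq_fintype_card (α := F), hcard] at e
      have h1 := hr.two_le
      have h2 : Nat.card F₀ ^ 1 < Nat.card F₀ ^ r := Nat.pow_lt_pow_right Finite.one_lt_card (by omega)
      rw [pow_one] at h2
      omega
    obtain ⟨γ, hγ⟩ := exists_of_mem_subfieldSubgroup F₀ P ((inf_eq_right.1 heq) (stv_mem hf l₀ c))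
    obtain ⟨y, hy, e⟩ := hγ l₀ hl₀
    rw [act_stv hf, f_self hf, mul_zero, zero_smul, add_zero] at e
    have hγ0 : γ ≠ 0 := by rintro rfl; exact hl₀0 (by rw [e, zero_smul])
    have hγF : γ ∈ F₀ := by
      have := hscal l₀ hl₀ hl₀0 γ⁻¹ (by rw [e, inv_smul_smul₀ hγ0]; exact hy)
      simpa using F₀.inv_mem this
    obtain ⟨x, hx, hx1⟩ := hdual1 l₀ hl₀ hl₀0
    obtain ⟨y', hy', e'⟩ := hγ x hx
    rw [act_stv hf, f_skew hf x l₀, hx1] at e'
    apply hc
    have h3 : (c * -1) • l₀ ∈ L := by
      rw [show (c * -1) • l₀ = γ • y' - x by rw [← e']; abel]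
      exact L.sub_mem (ratVec_smul hγF hy') hx
    simpa using F₀.neg_mem (hscal l₀ hl₀ hl₀0 _ h3)
  refine ⟨hlt, ?_⟩
  intro M hM1 hM2
  by_cases hsub : M ≤ Cfsg.Geo.subfieldSubgroup F₀ P
  · exact Or.inl (le_antisymm (le_inf hsub hM2) hM1)
  right
  obtain ⟨g, hgM, hg⟩ := SetLike.not_le_iff_exists.1 hsub
  have hgf : g ∈ isoGroup f := hM2 hgM
  have hstvM : ∀ l ∈ L, ∀ c ∈ F₀, stv hf l c ∈ M := fun l hl c hc => hM1 (hstvH l hl c hc)
  have hrootM : ∀ a ∈ L, ∀ b ∈ L, f a b = 0 → root hf a b ∈ M := fun a ha b hb h => hM1 (hrootH a ha b hb h)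
  have hconj : ∀ {h u : GL ι F}, h ∈ M → u ∈ M → h * u * h⁻¹ ∈ M := fun hh hu =>
    M.mul_mem (M.mul_mem hh hu) (M.inv_mem hh)
  -- configurations of rational vectors
  have hconf : (2 : F) = 0 → ∀ a ∈ L, ∀ d ∈ L, a ≠ 0 → f a d = 0 → (∀ e ∈ F₀, d ≠ e • a) →
      ∃ b ∈ L, ∃ b' ∈ L, f b b' = 1 ∧ f a b = 0 ∧ f a b' = 0 ∧ f d b = 0 ∧ f d b' = 0 := by
    intro hh2 a ha d hd ha0 had hind
    have := h6 hh2
    obtain ⟨d', hd', hdd, had'⟩ := hdual2 a ha d hd ha0 hind
    obtain ⟨a', ha', h1⟩ := hdual1 a ha ha0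
    let a'' := a' - f d a' • d'
    have ha'' : a'' ∈ L := L.sub_mem ha' (ratVec_smul (hP d hd a' ha') hd')
    have e1 : f a a'' = 1 := by simp only [a'', f_sub_right hf, f_smul_right hf, had', h1]; ring
    have e2 : f d a'' = 0 := by simp only [a'', f_sub_right hf, f_smul_right hf, hdd]; ring
    obtain ⟨b, hb, hbo, hb0⟩ := hLdim {a, d, a'', d'} (by simp [ha, hd, ha'', hd']) (by
      refine lt_of_le_of_lt Finset.card_le_four ?_; omega)
    obtain ⟨b₀, hb₀, hbb⟩ := hdual1 b hb hb0
    have o1 : f a b = 0 := hbo a (by simp)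
    have o2 : f d b = 0 := hbo d (by simp)
    have o3 : f b a'' = 0 := f_eq_zero_symm hf (hbo a'' (by simp))
    have o4 : f b d' = 0 := f_eq_zero_symm hf (hbo d' (by simp))
    refine ⟨b, hb, b₀ - f a b₀ • a'' - f d b₀ • d',
      L.sub_mem (L.sub_mem hb₀ (ratVec_smul (hP a ha b₀ hb₀) ha'')) (ratVec_smul (hP d hd b₀ hb₀) hd'),
      ?_, o1, ?_, o2, ?_⟩
    · simp only [f_sub_right hf, f_smul_right hf, o3, o4, hbb]; ring
    · simp only [f_sub_right hf, f_smul_right hf, e1, had']; ring
    · simp only [f_sub_right hf, f_smul_right hf, e2, hdd]; ring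
  -- an irrational coefficient at a rational point
  obtain ⟨l₁, c₁, hl₁, hl₁0, hc₁, hlM⟩ : ∃ l c, l ∈ L ∧ l ≠ 0 ∧ c ∉ F₀ ∧ stv hf l c ∈ M := by
    by_cases hpts : ∀ x ∈ L, ∃ (s : F) (y : ι → F), y ∈ L ∧ act g x = s • y
    · choose! s y hy hgxy using hpts
      have hne : ∀ x ∈ L, x ≠ 0 → s x ≠ 0 ∧ y x ≠ 0 := by
        intro x hx hx0
        have h1 : act g x ≠ 0 := fun h => hx0 (act_injective g (h.trans (map_zero _).symm))
        rw [hgxy x hx] at h1
        exact smul_ne_zero_iff.1 h1
      by_cases hsq : ∃ x ∈ L, x ≠ 0 ∧ s x ^ 2 ∉ F₀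
      · obtain ⟨x, hx, hx0, hx2⟩ := hsq
        refine ⟨y x, s x ^ 2, hy x hx, (hne x hx hx0).2, hx2, ?_⟩
        have := hconj hgM (hstvM x hx 1 hone)
        rwa [conj_stv hf hgf, hgxy x hx, stv_smul, mul_one] at this
      exfalso; apply hg
      obtain ⟨hs1, hy1⟩ := hne l₀ hl₀ hl₀0
      refine mem_subfieldSubgroup F₀ P hs1 fun x hx => ?_
      suffices h : ∃ e ∈ F₀, ∃ z ∈ L, act g x = (s l₀ * e) • z by
        obtain ⟨e, he, z, hz, h⟩ := h
        rw [h, smul_smul, ← mul_assoc, inv_mul_cancel₀ hs1, one_mul]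
        exact ratVec_smul he hz
      by_cases hdep : ∃ e ∈ F₀, x = e • l₀
      · obtain ⟨e, he, rfl⟩ := hdep
        exact ⟨e, he, y l₀, hy l₀ hl₀, by rw [map_smul, hgxy l₀ hl₀, smul_smul, mul_comm]⟩
      push Not at hdep
      have hx0 : x ≠ 0 := fun h => hdep 0 F₀.zero_mem (by rw [h, zero_smul])
      have hind : ∀ e ∈ F₀, y x ≠ e • y l₀ := by
        intro e he h
        have h1 : x = (s x * e / s l₀) • l₀ := by
          apply act_injective g
          rw [map_smul, hgxy l₀ hl₀, hgxy x hx, h, smul_smul, smul_smul]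
          congr 1; field_simp
        exact hdep _ (hscal l₀ hl₀ hl₀0 _ (h1 ▸ hx)) h1
      have hind' : ∀ e ∈ F₀, y l₀ ≠ e • y x := by
        intro e he h
        have he0 : e ≠ 0 := by rintro rfl; exact hy1 (by rw [h, zero_smul])
        exact hind e⁻¹ (F₀.inv_mem he) (by rw [h, inv_smul_smul₀ he0])
      obtain ⟨c, hc, c1, c0⟩ := hdual2 _ (hy l₀ hl₀) _ (hy x hx) hy1 hind
      obtain ⟨c', hc', c1', c0'⟩ := hdual2 _ (hy x hx) _ (hy l₀ hl₀) (hne x hx hx0).2 hind'
      have hsum : x + l₀ ∈ L := L.add_mem hx hl₀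
      have h3 := hgxy _ hsum
      rw [map_add, hgxy x hx, hgxy l₀ hl₀] at h3
      have k1 : s x = s (x + l₀) * f (y (x + l₀)) c := by
        have := congrArg (flin hf.bilinear c) h3
        simpa [flin_apply, f_add_left hf, f_smul_left hf, c1, c0] using this
      have k2 : s l₀ = s (x + l₀) * f (y (x + l₀)) c' := by
        have := congrArg (flin hf.bilinear c') h3
        simpa [flin_apply, f_add_left hf, f_smul_left hf, c1', c0'] using this
      refine ⟨s x / s l₀, ?_, y x, hy x hx, by rw [mul_div_cancel₀ _ hs1, hgxy x hx]⟩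
      have h0 : s (x + l₀) ≠ 0 := fun h => hs1 (by rw [k2, h, zero_mul])
      rw [k1, k2, mul_div_mul_left _ _ h0]
      exact F₀.div_mem (hP _ (hy _ hsum) _ hc) (hP _ (hy _ hsum) _ hc')
    push Not at hpts
    obtain ⟨x, hx, hxirr⟩ := hpts
    obtain ⟨v, hvdef⟩ : ∃ v, v = act g x := ⟨_, rfl⟩
    have hvM : stv hf v 1 ∈ M := by
      have := hconj hgM (hstvM x hx 1 hone)
      rwa [conj_stv hf hgf, ← hvdef] at this
    have hvirr : ∀ s : F, s ≠ 0 → s • v ∉ L := fun s hs h =>
      hxirr s⁻¹ _ h (by rw [hvdef, inv_smul_smul₀ hs])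
    by_cases h2 : (2 : F) = 0
    · haveI : CharP F 2 := CharTwo.of_one_ne_zero_of_two_eq_zero one_ne_zero h2
      have hsame : ∀ {u w : ι → F}, f u w = f w u := fun {u w} => by
        rw [f_skew hf, CharTwo.neg_eq]
      obtain ⟨a, ha, hA⟩ : ∃ a ∈ L, f v a ∉ F₀ := by
        by_contra h; push Not at h
        exact hvirr 1 one_ne_zero (by rw [one_smul]; exact hrat v fun y hy => hsame ▸ h y hy)
      have ha0 : a ≠ 0 := fun h => hA (by rw [h, f_zero_right hf]; exact F₀.zero_mem)
      obtain ⟨A, hAdef⟩ : ∃ A, A = f v a := ⟨_, rfl⟩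
      let W : (ι → F) → (ι → F) := fun b => A • b + f v b • a
      have hE : ∀ b ∈ L, f a b = 0 → stv hf (v + W b) 1 ∈ M := by
        intro b hb hab
        have := hconj (hrootM a ha b hb hab) hvM
        rwa [conj_stv hf (root_mem hf a b), act_root hf hab, ← hAdef, add_assoc] at this
      have hR : ∀ b ∈ L, f a b = 0 → (∀ e ∈ F₀, b ≠ e • a) → root hf a ((A * A) • b) ∈ M := by
        intro b hb hab hind
        obtain ⟨b', hb', c, hc, hbc, hab', hac, hbb', hbc'⟩ := hconf h2 a ha b hb ha0 hab hind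
        have hW : ∀ u, f a u = 0 → ∀ z, f (W u) z = A * f u z + f v u * f a z := fun u _ z => by
          simp only [W, f_add_left hf, f_smul_left hf]
        have hWW : f (W b) (W b') = 0 := by
          simp only [W, f_add_left hf, f_add_right hf, f_smul_left hf, f_smul_right hf, f_self hf, hbb',
            hab', f_eq_zero_symm hf hab]
          ring
        have hvW : ∀ u, f v (W u) = 0 := by
          intro u
          simp only [W, f_add_right hf, f_smul_right hf, ← hAdef]
          linear_combination A * f v u * h2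
        have hadd : W (b + b') = W b + W b' := by
          simp only [W, f_add_right hf, smul_add, add_smul]; abel
        have h4 : root hf (W b) (W b') = stv hf v 1 * stv hf (v + W b) 1 * stv hf (v + W b') 1 *
            stv hf (v + W (b + b')) 1 := by
          apply gl_ext; intro z
          rw [hadd, act_root hf hWW, act_mul, act_mul, act_mul, act_stv hf, act_stv hf, act_stv hf,
            act_stv hf]
          simp only [f_add_left hf, f_add_right hf, f_self hf]
          have hvw := hvW b
          have hvw' := hvW b'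
          generalize W b = w at hWW hvw ⊢
          generalize W b' = w' at hWW hvw' ⊢
          simp only [f_smul_left hf, f_self hf, f_eq_zero_symm hf hWW, hWW, hvw, hvw',
            f_eq_zero_symm hf hvw, f_eq_zero_symm hf hvw', f_add_left hf, f_add_right hf]
          match_scalars <;> ring_nf <;> simp [CharTwo.two_eq_zero, show (4 : F) = 0 by linear_combination 2 * h2]
        have hroot : root hf (W b) (W b') ∈ M := h4 ▸ M.mul_mem (M.mul_mem (M.mul_mem hvM (hE b hb hab))
          (hE b' hb' hab')) (hE _ (L.add_mem hb hb') (by rw [f_add_right hf, hab, hab', add_zero]))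
        have hmv1 : act (root hf a c) (W b) = W b := by
          rw [act_root hf hac, hW b hab a, hW b hab c, hbc', hac, f_eq_zero_symm hf hab, f_self hf]
          simp
        have hmv2 : act (root hf a c) (W b') = W b' + A • a := by
          rw [act_root hf hac, hW b' hab' a, hW b' hab' c, hbc, hac, f_eq_zero_symm hf hab', f_self hf]
          simp
        have h5 := hconj (hrootM a ha c hc hac) hroot
        rw [conj_root hf (root_mem hf a c), hmv1, hmv2] at h5
        have hWa : f (W b) (A • a) = 0 := by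
          rw [f_smul_right hf, hW b hab a, f_eq_zero_symm hf hab, f_self hf]; ring
        rw [← root_add_right hf hWW hWa (by
          rw [f_smul_right hf, hW b' hab' a, f_eq_zero_symm hf hab', f_self hf]; ring)] at h5
        have h6 := (mul_mem_cancel_left hroot).1 h5
        have e : root hf (W b) (A • a) = root hf a ((A * A) • b) := by
          apply gl_ext; intro z
          rw [act_root hf hWa, act_root hf (by rw [f_smul_right hf, hab, mul_zero])]
          simp only [W, f_add_right hf, f_smul_right hf]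
          match_scalars
          · ring
          · linear_combination A * f v b * f z a * h2
          · ring
        rwa [e] at h6
      obtain ⟨a', ha', haa'⟩ := hdual1 a ha ha0
      obtain ⟨b, hb, hbo, hb0⟩ := hLdim {a, a'} (by simp [ha, ha']) (by
        refine lt_of_le_of_lt Finset.card_le_two ?_; omega)
      obtain ⟨b₀, hb₀, hbb⟩ := hdual1 b hb hb0
      let z := b₀ - f a b₀ • a'
      have hz : z ∈ L := L.sub_mem hb₀ (ratVec_smul (hP a ha b₀ hb₀) ha')
      have hab : f a b = 0 := hbo a (by simp)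
      have hba' : f b a' = 0 := f_eq_zero_symm hf (hbo a' (by simp))
      have hbz : f b z = 1 := by simp only [z, f_sub_right hf, f_smul_right hf, hba', hbb]; ring
      have haz : f a z = 0 := by simp only [z, f_sub_right hf, f_smul_right hf, haa']; ring
      have hindb : ∀ e ∈ F₀, b ≠ e • a := fun e _ h => one_ne_zero (α := F) (by
        rw [← hbz, h, f_smul_left hf, haz, mul_zero])
      have hindz : ∀ e ∈ F₀, z ≠ e • a := fun e _ h => one_ne_zero (α := F) (by
        rw [← hbz, h, f_smul_right hf, f_eq_zero_symm hf hab, mul_zero])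
      refine ⟨a, (A * A) * (A * A), ha, ha0, ?_, ?_⟩
      · intro hmem
        have hsqrt : ∀ t : F, t * t ∈ F₀ → t ∈ F₀ := by
          intro t ht
          obtain ⟨y, hy⟩ := FiniteField.isSquare_of_char_two (F := F₀)
            (ringChar.eq_iff.2 (CharTwo.of_one_ne_zero_of_two_eq_zero one_ne_zero
              (Subtype.ext (h2 : (2 : F) = 0)))) ⟨t * t, ht⟩
          have e : t * t = (y : F) * (y : F) := congrArg Subtype.val hy
          have : (t - (y : F)) * (t - (y : F)) = 0 := by
            linear_combination e + ((y : F) * (y : F) - t * (y : F)) * h2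
          rw [sub_eq_zero.1 (mul_self_eq_zero.1 this)]; exact y.2
        exact hA (hAdef ▸ hsqrt A (hsqrt _ hmem))
      · set t := A * A with ht
        have hk : f a (t • b) = 0 := by rw [f_smul_right hf, hab, mul_zero]
        have h7 := hconj (hR b hb hab hindb) (hstvM z hz 1 hone)
        rw [conj_stv hf (root_mem hf _ _), act_root hf hk, f_smul_right hf, f_eq_zero_symm hf haz,
          hsame (u := z), hbz, zero_smul, add_zero, mul_one] at h7
        have e : stv hf (z + t • a) 1 = stv hf z 1 * root hf a (t • z) * stv hf a (t * t) := by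
          apply gl_ext; intro x
          rw [act_mul, act_mul, act_stv hf, act_stv hf, act_stv hf,
            act_root hf (by rw [f_smul_right hf, haz, mul_zero])]
          simp only [f_add_left hf, f_add_right hf, f_smul_left hf, f_smul_right hf, f_self hf, haz,
            f_eq_zero_symm hf haz]
          match_scalars <;> ring
        rw [e] at h7
        exact (mul_mem_cancel_left (M.mul_mem (hstvM z hz 1 hone) (hR z hz haz hindz))).1 h7
    · have h2F : ∀ {t : F}, 2 * t ∈ F₀ → t ∈ F₀ := fun {t} h => by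
        have h2' : (2 : F) ∈ F₀ := by rw [← one_add_one_eq_two]; exact F₀.add_mem hone hone
        simpa [h2] using F₀.mul_mem (F₀.inv_mem h2') h
      obtain ⟨a, ha, a', ha', haa, ha0, hind, hAA⟩ : ∃ a ∈ L, ∃ a' ∈ L, f a a' = 0 ∧ a ≠ 0 ∧
          (∀ e ∈ F₀, a' ≠ e • a) ∧ f v a * f v a' ∉ F₀ := by
        by_contra hno; push Not at hno
        have hdiag : ∀ a ∈ L, f v a * f v a ∈ F₀ := by
          intro a ha
          rcases eq_or_ne a 0 with rfl | ha0
          · rw [f_zero_right hf, mul_zero]; exact F₀.zero_mem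
          obtain ⟨c, hc, hac⟩ := hdual1 a ha ha0
          obtain ⟨z, hz, hzo, hz0⟩ := hLdim {a, c} (by simp [ha, hc]) (by
            refine lt_of_le_of_lt Finset.card_le_two ?_; omega)
          have haz : f a z = 0 := hzo a (by simp)
          have hindz : ∀ e ∈ F₀, z ≠ e • a := by
            intro e _ h
            have hcz := hzo c (by simp)
            rw [h, f_smul_right hf, f_skew hf c, hac, mul_neg, mul_one, neg_eq_zero] at hcz
            exact hz0 (by rw [h, hcz, zero_smul])
          have k1 := hno a ha z hz haz ha0 hindz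
          have k2 := hno a ha (a + z) (L.add_mem ha hz) (by rw [f_add_right hf, f_self hf, haz, add_zero])
            ha0 (fun e he h => hindz (e - 1) (F₀.sub_mem he hone) (by rw [sub_smul, one_smul, ← h]; abel))
          have := F₀.sub_mem k2 k1
          rw [f_add_right hf, mul_add, add_sub_cancel_right] at this
          exact this
        have hall : ∀ a ∈ L, ∀ b ∈ L, f v a * f v b ∈ F₀ := by
          intro a ha b hb
          apply h2F
          have := F₀.sub_mem (F₀.sub_mem (hdiag (a + b) (L.add_mem ha hb)) (hdiag a ha)) (hdiag b hb)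
          rw [f_add_right hf] at this
          convert this using 1; ring
        obtain ⟨a, ha, hfa⟩ : ∃ a ∈ L, f v a ≠ 0 := by
          by_contra h; push Not at h
          exact hvirr 1 one_ne_zero (by
            rw [one_smul]; exact hrat v fun y hy => by rw [f_eq_zero_symm hf (h y hy)]; exact F₀.zero_mem)
        refine hvirr _ hfa (hrat _ fun y hy => ?_)
        rw [f_smul_right hf, f_skew hf y v, mul_neg]
        exact F₀.neg_mem (hall a ha y hy)
      have ha'0 : a' ≠ 0 := fun h => hind 0 F₀.zero_mem (by rw [h, zero_smul])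
      have hind' : ∀ e ∈ F₀, a ≠ e • a' := by
        intro e he h
        have he0 : e ≠ 0 := by rintro rfl; exact ha0 (by rw [h, zero_smul])
        exact hind e⁻¹ (F₀.inv_mem he) (by rw [h, inv_smul_smul₀ he0])
      obtain ⟨c, hc, hac, ha'c⟩ := hdual2 a' ha' a ha ha'0 hind'
      obtain ⟨c₀, hc₀, hac₀, ha'c₀⟩ := hdual2 a ha a' ha' ha0 hind
      let c' := c₀ + f c c₀ • a
      have hc' : c' ∈ L := L.add_mem hc₀ (ratVec_smul (hP c hc c₀ hc₀) ha)
      have q1 : f a' c' = 1 := by
        simp only [c', f_add_right hf, f_smul_right hf, f_eq_zero_symm hf haa, hac₀]; ring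
      have q2 : f a c' = 0 := by simp only [c', f_add_right hf, f_smul_right hf, f_self hf, ha'c₀]; ring
      have q3 : f c c' = 0 := by
        simp only [c', f_add_right hf, f_smul_right hf, f_skew hf c a, hac]; ring
      -- the involution of a plane
      have hJ : ∀ a ∈ L, ∀ c ∈ L, f a c = 1 → ∃ j ∈ M, j ∈ isoGroup f ∧
          ∀ x, act j x = x - (2 * f x c) • a + (2 * f x a) • c := by
        intro a ha c hc hac
        have hca : f c a = -1 := by rw [f_skew hf, hac]
        let J : (ι → F) →ₗ[F] (ι → F) :=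
          LinearMap.id - ((2 : F) • flin hf.bilinear c).smulRight a + ((2 : F) • flin hf.bilinear a).smulRight c
        have hJx : ∀ x, J x = x - (2 * f x c) • a + (2 * f x a) • c := fun x => rfl
        have hJJ : ∀ x, J (J x) = x := by
          intro x
          simp only [hJx, f_add_left hf, f_sub_left hf, f_smul_left hf, f_self hf, hac, hca]
          match_scalars <;> ring
        obtain ⟨j, hj⟩ := exists_gl_of_injective J (Function.LeftInverse.injective hJJ)
        have hjf : j ∈ isoGroup f := mem_isoGroup.2 fun x y => by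
          rw [hj, hj, hJx, hJx]
          simp only [f_add_left hf, f_add_right hf, f_sub_left hf, f_sub_right hf, f_smul_left hf,
            f_smul_right hf, f_self hf, hac, hca, f_skew hf a y, f_skew hf c y]
          ring
        have h2' : (2 : F) ∈ F₀ := by rw [← one_add_one_eq_two]; exact F₀.add_mem hone hone
        refine ⟨j, hM1 (hH j hjf fun x hx => ?_), hjf, fun x => by rw [hj, hJx]⟩
        rw [hj, hJx]
        exact L.add_mem (L.sub_mem hx (ratVec_smul (F₀.mul_mem h2' (hP x hx c hc)) ha))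
          (ratVec_smul (F₀.mul_mem h2' (hP x hx a ha)) hc)
      obtain ⟨j, hjM, hjf, hj⟩ := hJ a ha c hc hac
      obtain ⟨j', hj'M, hj'f, hj'⟩ := hJ a' ha' c' hc' q1
      obtain ⟨p, hpdef⟩ : ∃ p, p = f v c • a - f v a • c := ⟨_, rfl⟩
      obtain ⟨p', hp'def⟩ : ∃ p', p' = f v c' • a' - f v a' • c' := ⟨_, rfl⟩
      have hca : f c a = -1 := by rw [f_skew hf, hac]
      have hc'a' : f c' a' = -1 := by rw [f_skew hf, q1]
      have fp : ∀ z, f p z = f v c * f a z - f v a * f c z := fun z => by
        rw [hpdef, f_sub_left hf, f_smul_left hf, f_smul_left hf]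
      have fp' : ∀ z, f p' z = f v c' * f a' z - f v a' * f c' z := fun z => by
        rw [hp'def, f_sub_left hf, f_smul_left hf, f_smul_left hf]
      have e_pa : f p a = f v a := by rw [fp, f_self hf, hca]; ring
      have e_pc : f p c = f v c := by rw [fp, f_self hf, hac]; ring
      have e_pa' : f p a' = 0 := by rw [fp, haa, f_eq_zero_symm hf ha'c]; ring
      have e_pc' : f p c' = 0 := by rw [fp, q2, q3]; ring
      have e_p'a' : f p' a' = f v a' := by rw [fp', f_self hf, hc'a']; ring
      have e_p'c' : f p' c' = f v c' := by rw [fp', f_self hf, q1]; ring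
      have e_p'a : f p' a = 0 := by rw [fp', f_eq_zero_symm hf haa, f_eq_zero_symm hf q2]; ring
      have e_p'c : f p' c = 0 := by rw [fp', ha'c, f_eq_zero_symm hf q3]; ring
      have e_pp' : f p p' = 0 := by
        rw [hp'def, f_sub_right hf, f_smul_right hf, f_smul_right hf, e_pa', e_pc']; ring
      have e_pv : f p v = 0 := by rw [fp, f_skew hf a v, f_skew hf c v]; ring
      have e_p'v : f p' v = 0 := by rw [fp', f_skew hf a' v, f_skew hf c' v]; ring
      obtain ⟨r', hr'def⟩ : ∃ r', r' = v - p := ⟨_, rfl⟩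
      have e_pr : f ((2 : F) • p) r' = 0 := by
        rw [hr'def, f_smul_left hf, f_sub_right hf, e_pv, f_self hf]; ring
      have hR1 : root hf ((2 : F) • p) r' ∈ M := by
        have h1 := hconj hjM hvM
        rw [conj_stv hf hjf, hj, show v - (2 * f v c) • a + (2 * f v a) • c = r' - p from by
          rw [hr'def, hpdef]; module] at h1
        have hrp : f r' p = 0 := by
          rw [hr'def, f_sub_left hf, f_eq_zero_symm hf e_pv, f_self hf, sub_zero]
        have e : stv hf v 1 = stv hf (r' - p) 1 * root hf ((2 : F) • p) r' := by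
          have hv : v = r' + p := by rw [hr'def]; abel
          apply gl_ext; intro x
          rw [act_mul, act_stv hf, act_stv hf, act_root hf e_pr, hv]
          simp only [f_add_left hf, f_add_right hf, f_sub_right hf, f_sub_left hf, f_smul_left hf,
            f_smul_right hf, f_self hf, hrp, f_eq_zero_symm hf hrp]
          match_scalars <;> ring
        rw [e] at hvM
        exact (mul_mem_cancel_left h1).1 hvM
      have hR2 : root hf ((2 : F) • p) ((2 : F) • p') ∈ M := by
        have h1 := hconj hj'M hR1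
        have m1 : act j' ((2 : F) • p) = (2 : F) • p := by
          rw [hj', f_smul_left hf, f_smul_left hf, e_pa', e_pc']; simp
        have m2 : act j' r' = r' - (2 : F) • p' := by
          rw [hj', hr'def, f_sub_left hf, f_sub_left hf, e_pa', e_pc', hp'def]; module
        rw [conj_root hf hj'f, m1, m2] at h1
        have k1 : f ((2 : F) • p) (r' - (2 : F) • p') = 0 := by
          rw [f_sub_right hf, e_pr, f_smul_left hf, f_smul_right hf, e_pp']; ring
        have k2 : f ((2 : F) • p) ((2 : F) • p') = 0 := by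
          rw [f_smul_left hf, f_smul_right hf, e_pp']; ring
        have k3 : f (r' - (2 : F) • p') ((2 : F) • p') = 0 := by
          rw [f_smul_right hf, f_sub_left hf, f_smul_left hf, f_self hf, hr'def, f_sub_left hf,
            f_eq_zero_symm hf e_p'v, e_pp']; ring
        have e := root_add_right hf k1 k2 k3
        rw [sub_add_cancel] at e
        rw [← e] at hR1
        exact (mul_mem_cancel_left h1).1 hR1
      obtain ⟨A, hA⟩ : ∃ A, A = f v a := ⟨_, rfl⟩
      obtain ⟨A', hA'⟩ : ∃ A', A' = f v a' := ⟨_, rfl⟩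
      have hjp : act j p = (-1 : F) • p := by rw [hj, e_pc, e_pa, hpdef]; module
      have hjp' : act j p' = p' := by rw [hj, e_p'a, e_p'c]; simp
      have hj'p' : act j' p' = (-1 : F) • p' := by rw [hj', e_p'c', e_p'a', hp'def]; module
      have hj'a : act j' a = a := by rw [hj', haa, q2]; simp
      have k0 : f ((2 : F) • p) ((2 : F) • p') = 0 := by rw [f_smul_left hf, f_smul_right hf, e_pp']; ring
      have k1 : f ((2 : F) • p') ((2 : F) • p) = 0 := f_eq_zero_symm hf k0
      have k2 : f ((2 : F) • p') ((2 * A) • a) = 0 := by rw [f_smul_left hf, f_smul_right hf, e_p'a]; ring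
      have hS1 : root hf ((2 : F) • p') ((2 : F) • ((2 * A) • a)) ∈ M := by
        rw [root_comm hf k0] at hR2
        have h1 := hconj (hstvM a ha 1 hone) hR2
        rw [conj_root hf (stv_mem hf _ _), act_stv hf, act_stv hf, f_smul_left hf, f_smul_left hf, e_p'a,
          e_pa, ← hA, mul_zero, mul_zero, zero_smul, add_zero, one_mul] at h1
        have h2' := hconj hjM hR2
        rw [conj_root hf hjf, map_smul, map_smul, hjp, hjp', smul_comm (2 : F) (-1 : F), neg_one_smul] at h2'
        rw [← root_four hf k1 k2]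
        exact M.mul_mem (M.mul_mem (M.mul_mem h1 h2') h2') h1
      have k3 : f a ((8 * A) • p') = 0 := by rw [f_smul_right hf, f_eq_zero_symm hf e_p'a, mul_zero]
      have e1 : root hf ((2 : F) • p') ((2 : F) • ((2 * A) • a)) = root hf a ((8 * A) • p') := by
        apply gl_ext; intro x
        rw [act_root hf k3, act_root hf (by rw [f_smul_right hf, k2, mul_zero])]
        simp only [f_smul_right hf]
        match_scalars <;> ring
      rw [e1] at hS1
      have k4 : f a ((8 * A * A') • a') = 0 := by rw [f_smul_right hf, haa, mul_zero]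
      obtain ⟨k, hk⟩ : ∃ k, k = 16 * (A * A') := ⟨_, rfl⟩
      have k5 : f a (k • a') = 0 := by rw [f_smul_right hf, haa, mul_zero]
      have hS2 : root hf a (k • a') ∈ M := by
        have h1 := hconj (hstvM a' ha' 1 hone) hS1
        rw [conj_root hf (stv_mem hf _ _), act_stv hf, act_stv hf, haa, f_smul_left hf, e_p'a', ← hA',
          mul_zero, zero_smul, add_zero, one_mul] at h1
        have h2' := hconj hj'M hS1
        rw [conj_root hf hj'f, map_smul, hj'a, hj'p', smul_comm (8 * A) (-1 : F), neg_one_smul] at h2'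
        have h3 := root_four hf k3 k4
        rw [smul_smul, show (2 : F) * (8 * A * A') = k by rw [hk]; ring] at h3
        rw [← h3]
        exact M.mul_mem (M.mul_mem (M.mul_mem h1 h2') h2') h1
      refine ⟨a', 2 * k, ha', ha'0, fun h => hAA ?_, ?_⟩
      · have : 2 * (2 * (2 * (2 * (2 * (f v a * f v a'))))) ∈ F₀ := by
          convert h using 1; rw [hk, hA, hA']; ring
        exact h2F (h2F (h2F (h2F (h2F this))))
      · have h1 := hconj (hrootM a' ha' c hc ha'c) hS2
        have m1 : act (root hf a' c) a = a + a' := by rw [act_root hf ha'c, haa, hac]; simp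
        have m2 : act (root hf a' c) (k • a') = k • a' := by
          rw [act_root hf ha'c, f_smul_left hf, f_smul_left hf, f_self hf, ha'c]; simp
        rw [conj_root hf (root_mem hf _ _), m1, m2] at h1
        have e : root hf (a + a') (k • a') = root hf a (k • a') * stv hf a' (2 * k) := by
          apply gl_ext; intro x
          rw [act_mul, act_stv hf, act_root hf k5,
            act_root hf (by rw [f_add_left hf, k5, f_smul_right hf, f_self hf, mul_zero, add_zero])]
          simp only [f_add_left hf, f_add_right hf, f_smul_left hf, f_smul_right hf, f_self hf,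
            f_eq_zero_symm hf haa]
          match_scalars <;> ring
        rw [e] at h1
        exact (mul_mem_cancel_left hS2).1 h1
  -- the coefficients form a field
  have htrans : ∀ c, stv hf l₁ c ∈ M → ∀ x ∈ L, stv hf x c ∈ M := by
    intro c hc x hx
    rcases eq_or_ne x 0 with rfl | hx0
    · have : stv hf (0 : ι → F) c = 1 := by
        apply gl_ext; intro y; rw [act_stv hf, act_one]; simp
      rw [this]; exact M.one_mem
    have step : ∀ a ∈ L, ∀ b ∈ L, f a b ≠ 0 → stv hf a c ∈ M → stv hf b c ∈ M := by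
      intro a ha b hb hab h
      have := hconj (hstvM (b - a) (L.sub_mem hb ha) (1 / f a b) (F₀.div_mem hone (hP a ha b hb))) h
      rwa [conj_stv hf (stv_mem hf _ _), act_stv hf, f_sub_right hf, f_self hf, sub_zero,
        one_div_mul_cancel hab, one_smul, add_sub_cancel] at this
    obtain ⟨z, hz, hz1, hz2⟩ : ∃ z ∈ L, f l₁ z ≠ 0 ∧ f z x ≠ 0 := by
      by_cases hdep : ∃ e ∈ F₀, x = e • l₁
      · obtain ⟨e, he, rfl⟩ := hdep
        obtain ⟨z, hz, hz1⟩ := hdual1 l₁ hl₁ hl₁0
        have he0 : e ≠ 0 := by rintro rfl; simp at hx0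
        refine ⟨z, hz, by rw [hz1]; exact one_ne_zero, ?_⟩
        rw [f_smul_right hf, f_skew hf z, hz1]; simpa using he0
      · push Not at hdep
        obtain ⟨z₁, hz₁, u1, u2⟩ := hdual2 l₁ hl₁ x hx hl₁0 hdep
        have hdep' : ∀ e ∈ F₀, l₁ ≠ e • x := by
          intro e he h
          have he0 : e ≠ 0 := by rintro rfl; exact hl₁0 (by rw [h, zero_smul])
          exact hdep e⁻¹ (F₀.inv_mem he) (by rw [h, inv_smul_smul₀ he0])
        obtain ⟨z₂, hz₂, w1, w2⟩ := hdual2 x hx l₁ hl₁ hx0 hdep'
        refine ⟨z₁ + z₂, L.add_mem hz₁ hz₂, ?_, ?_⟩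
        · rw [f_add_right hf, u2, w1, zero_add]; exact one_ne_zero
        · apply f_ne_symm hf; rw [f_add_right hf, u1, w2, add_zero]; exact one_ne_zero
    exact step z hz x hx hz2 (step l₁ hl₁ z hz hz1 hc)
  let C : Set F := {c | ∀ x ∈ L, stv hf x c ∈ M}
  have hC₀ : ∀ e ∈ F₀, e ∈ C := fun e he x hx => hstvM x hx e he
  have hCadd : ∀ s t, s ∈ C → t ∈ C → s + t ∈ C := fun s t hs ht x hx => by
    rw [← stv_add]; exact M.mul_mem (hs x hx) (ht x hx)
  have hCneg : ∀ s, s ∈ C → -s ∈ C := fun s hs x hx => by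
    rw [stv_neg']; exact M.inv_mem (hs x hx)
  have hrootC : ∀ a ∈ L, ∀ b ∈ L, f a b = 0 → ∀ t ∈ C, root hf a (t • b) ∈ M := by
    intro a ha b hb hab t ht
    have e : root hf a (t • b) = stv hf (a + b) t * stv hf a (-t) * stv hf b (-t) := by
      apply gl_ext; intro x
      rw [act_mul, act_mul, act_stv hf, act_stv hf, act_stv hf,
        act_root hf (by rw [f_smul_right hf, hab, mul_zero])]
      simp only [f_add_left hf, f_add_right hf, f_smul_left hf, f_smul_right hf, f_self hf, hab,
        f_eq_zero_symm hf hab]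
      match_scalars <;> ring
    rw [e]
    exact M.mul_mem (M.mul_mem (ht _ (L.add_mem ha hb)) (hCneg t ht a ha)) (hCneg t ht b hb)
  have hCsmul : ∀ e ∈ F₀, ∀ c ∈ C, e * c ∈ C := by
    intro e he c hc x hx
    obtain ⟨α, β, hαβ⟩ := exists_sum_two_squares F₀ ⟨e, he⟩
    have hk : e * c = (α : F) ^ 2 * c + (β : F) ^ 2 * c := by
      have := congrArg Subtype.val hαβ
      simp only [Subfield.coe_add, Subfield.coe_mul] at this
      linear_combination -c * this
    rw [hk, ← stv_add, ← stv_smul, ← stv_smul]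
    exact M.mul_mem (hc _ (ratVec_smul α.2 hx)) (hc _ (ratVec_smul β.2 hx))
  have hrootCC : ∀ a ∈ L, ∀ d ∈ L, a ≠ 0 → f a d = 0 → (∀ e ∈ F₀, d ≠ e • a) → ∀ s t, s ∈ C → t ∈ C →
      root hf a ((s * t) • d) ∈ M := by
    intro a ha d hd ha0 had hind s t hs ht
    by_cases h2 : (2 : F) = 0
    swap
    · have hd0 : d ≠ 0 := fun h => hind 0 F₀.zero_mem (by rw [h, zero_smul])
      obtain ⟨a', ha', haa', hda'⟩ := hdual2 d hd a ha hd0 fun e he h => by
        have he0 : e ≠ 0 := by rintro rfl; exact ha0 (by rw [h, zero_smul])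
        exact hind e⁻¹ (F₀.inv_mem he) (by rw [h, inv_smul_smul₀ he0])
      have h2' : (2 : F) ∈ F₀ := by rw [← one_add_one_eq_two]; exact F₀.add_mem hone hone
      have hs2 : 2⁻¹ * s ∈ C := hCsmul _ (F₀.inv_mem h2') s hs
      have hcj : ∀ t ∈ C, stv hf (a + t • d) (2⁻¹ * s) ∈ M := by
        intro t ht
        have hk : f d (t • a') = 0 := by rw [f_smul_right hf, hda', mul_zero]
        have h1 := hconj (hrootC d hd a' ha' hda' t ht) (hs2 a ha)
        rwa [conj_stv hf (root_mem hf _ _), act_root hf hk, had, f_smul_right hf, haa', mul_one, zero_smul,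
          add_zero] at h1
      have e : stv hf (a + t • d) (2⁻¹ * s) =
          root hf a ((s * t) • d) * stv hf (a + (-t) • d) (2⁻¹ * s) := by
        apply gl_ext; intro x
        rw [act_mul, act_stv hf, act_stv hf, act_root hf (by rw [f_smul_right hf, had, mul_zero])]
        simp only [f_add_left hf, f_add_right hf, f_smul_left hf, f_smul_right hf, f_self hf, had,
          f_eq_zero_symm hf had]
        match_scalars <;> field_simp <;> ring
      have h1 := hcj t ht
      rw [e] at h1
      exact (mul_mem_cancel_right (hcj (-t) (hCneg t ht))).1 h1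
    obtain ⟨b, hb, b', hb', hbb, hab, hab', hdb, hdb'⟩ := hconf h2 a ha d hd ha0 had hind
    have h0 := hrootC a ha b hb hab s hs
    have hk : f d (t • b') = 0 := by rw [f_smul_right hf, hdb', mul_zero]
    have h1 := hconj (hrootC d hd b' hb' hdb' t ht) h0
    have m1 : act (root hf d (t • b')) a = a := by
      rw [act_root hf hk, f_smul_right hf, had, hab']; simp
    have m2 : act (root hf d (t • b')) (s • b) = s • b + (s * t) • d := by
      rw [act_root hf hk, f_smul_left hf, f_smul_left hf, f_smul_right hf, f_eq_zero_symm hf hdb, hbb]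
      simp
    have k1 : f a (s • b) = 0 := by rw [f_smul_right hf, hab, mul_zero]
    have k2 : f a ((s * t) • d) = 0 := by rw [f_smul_right hf, had, mul_zero]
    rw [conj_root hf (root_mem hf _ _), m1, m2, ← root_add_right hf k1 k2 (by
      rw [f_smul_left hf, f_smul_right hf, f_eq_zero_symm hf hdb]; ring)] at h1
    exact (mul_mem_cancel_left h0).1 h1
  obtain ⟨d₀, hd₀, hd₀o, hd₀0⟩ : ∃ d ∈ L, f l₁ d = 0 ∧ d ≠ 0 ∧ ∀ e ∈ F₀, d ≠ e • l₁ := by
    obtain ⟨c, hc, hlc⟩ := hdual1 l₁ hl₁ hl₁0
    obtain ⟨d, hd, hdo, hd0⟩ := hLdim {l₁, c} (by simp [hl₁, hc]) (by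
      refine lt_of_le_of_lt Finset.card_le_two ?_; omega)
    refine ⟨d, hd, hdo l₁ (by simp), hd0, fun e _ h => hd0 ?_⟩
    have hcd := hdo c (by simp)
    rw [h, f_smul_right hf, f_skew hf c, hlc, mul_neg, mul_one, neg_eq_zero] at hcd
    rw [h, hcd, zero_smul]
  obtain ⟨hd₀0, hd₀ind⟩ := hd₀0
  have hCmul : ∀ s t, s ∈ C → t ∈ C → s * t ∈ C := by
    have hd₀ind' : ∀ e ∈ F₀, l₁ ≠ e • d₀ := by
      intro e he h
      have he0 : e ≠ 0 := by rintro rfl; exact hl₁0 (by rw [h, zero_smul])
      exact hd₀ind e⁻¹ (F₀.inv_mem he) (by rw [h, inv_smul_smul₀ he0])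
    obtain ⟨z, hz, hzd, hzl⟩ := hdual2 l₁ hl₁ d₀ hd₀ hl₁0 hd₀ind
    by_cases h2 : (2 : F) = 0
    · haveI : CharP F 2 := CharTwo.of_one_ne_zero_of_two_eq_zero one_ne_zero h2
      have hsquare : ∀ s t, s ∈ C → t ∈ C → (s * t) * (s * t) ∈ C := by
        intro s t hs ht
        refine fun x hx => htrans _ ?_ x hx
        set u := s * t with hu
        have hindz : ∀ e ∈ F₀, z ≠ e • l₁ := fun e _ h => one_ne_zero (α := F) (by
          rw [← hzd, h, f_smul_right hf, f_eq_zero_symm hf hd₀o, mul_zero])
        have hkl : f l₁ (u • d₀) = 0 := by rw [f_smul_right hf, hd₀o, mul_zero]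
        have h7 := hconj (hrootCC l₁ hl₁ d₀ hd₀ hl₁0 hd₀o hd₀ind s t hs ht) (hstvM z hz 1 hone)
        rw [← hu, conj_stv hf (root_mem hf _ _), act_root hf hkl, f_smul_right hf,
          f_eq_zero_symm hf hzl, f_skew hf z d₀, hzd, zero_smul, add_zero, CharTwo.neg_eq, mul_one] at h7
        have e : stv hf (z + u • l₁) 1 = stv hf z 1 * root hf l₁ (u • z) * stv hf l₁ (u * u) := by
          apply gl_ext; intro x
          rw [act_mul, act_mul, act_stv hf, act_stv hf, act_stv hf,
            act_root hf (by rw [f_smul_right hf, hzl, mul_zero])]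
          simp only [f_add_left hf, f_add_right hf, f_smul_left hf, f_smul_right hf, f_self hf, hzl,
            f_eq_zero_symm hf hzl]
          match_scalars <;> ring
        rw [e] at h7
        exact (mul_mem_cancel_left (M.mul_mem (hstvM z hz 1 hone)
          (hrootCC l₁ hl₁ z hz hl₁0 hzl hindz s t hs ht))).1 h7
      intro s t hs ht
      let sq : C → C := fun c => ⟨(c : F) * c, by
        have := hsquare _ 1 c.2 (hC₀ 1 hone)
        rwa [mul_one] at this⟩
      have hinj : Function.Injective sq := by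
        rintro ⟨a, ha⟩ ⟨b, hb⟩ h
        have e : a * a = b * b := congrArg Subtype.val h
        apply Subtype.ext
        exact sub_eq_zero.1 (mul_self_eq_zero.1 (by linear_combination e + (b * b - a * b) * h2))
      obtain ⟨⟨s', hs'⟩, es⟩ := (Finite.injective_iff_surjective.1 hinj) ⟨s, hs⟩
      obtain ⟨⟨t', ht'⟩, et⟩ := (Finite.injective_iff_surjective.1 hinj) ⟨t, ht⟩
      have es' : s' * s' = s := congrArg Subtype.val es
      have et' : t' * t' = t := congrArg Subtype.val et
      rw [← es', ← et', mul_mul_mul_comm]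
      exact hsquare s' t' hs' ht'
    · intro s t hs ht
      obtain ⟨d', hd', hld', hd₀d'⟩ := hdual2 d₀ hd₀ l₁ hl₁ hd₀0 hd₀ind'
      set u := s * t with hu
      have h0 := hrootCC l₁ hl₁ d₀ hd₀ hl₁0 hd₀o hd₀ind s t hs ht
      have h1 := hconj (hrootM d₀ hd₀ d' hd' hd₀d') h0
      have m1 : act (root hf d₀ d') l₁ = l₁ + d₀ := by
        rw [act_root hf hd₀d', hd₀o, hld']; simp
      have m2 : act (root hf d₀ d') (u • d₀) = u • d₀ := by
        rw [act_root hf hd₀d', f_smul_left hf, f_smul_left hf, f_self hf, hd₀d']; simp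
      rw [← hu] at h1 h0
      rw [conj_root hf (root_mem hf _ _), m1, m2] at h1
      have e : root hf (l₁ + d₀) (u • d₀) = root hf l₁ (u • d₀) * stv hf d₀ (2 * u) := by
        apply gl_ext; intro x
        rw [act_mul, act_stv hf,
          act_root hf (show f (l₁ + d₀) (u • d₀) = 0 by
            rw [f_smul_right hf, f_add_left hf, hd₀o, f_self hf, add_zero, mul_zero]),
          act_root hf (show f l₁ (u • d₀) = 0 by rw [f_smul_right hf, hd₀o, mul_zero])]
        simp only [f_add_left hf, f_add_right hf, f_smul_left hf, f_smul_right hf, f_self hf,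
          f_eq_zero_symm hf hd₀o]
        match_scalars <;> ring
      rw [e] at h1
      have h3 := (mul_mem_cancel_left h0).1 h1
      have h4 : ∀ x ∈ L, stv hf x (2 * u) ∈ M := by
        intro x hx
        refine htrans _ ?_ x hx
        obtain ⟨y, hy⟩ : ∃ y, y = z + d' := ⟨_, rfl⟩
        have hyL : y ∈ L := hy ▸ L.add_mem hz hd'
        have hdy : f d₀ y = 1 := by rw [hy, f_add_right hf, hzd, hd₀d', add_zero]
        have hyl : f y l₁ = -1 := by rw [f_skew hf, hy, f_add_right hf, hzl, hld', zero_add]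
        have := hconj (hstvM (y - d₀) (L.sub_mem hyL hd₀) 1 hone) h3
        rw [conj_stv hf (stv_mem hf _ _), act_stv hf, f_sub_right hf, f_self hf, hdy, sub_zero,
          one_mul, one_smul, add_sub_cancel] at this
        have h5 := hconj (hstvM (l₁ - y) (L.sub_mem hl₁ hyL) (-1) (F₀.neg_mem hone)) this
        rwa [conj_stv hf (stv_mem hf _ _), act_stv hf, f_sub_right hf, f_self hf, hyl, sub_zero,
          neg_one_mul, neg_neg, one_smul, add_sub_cancel] at h5
      have h2' : (2 : F) ∈ F₀ := by rw [← one_add_one_eq_two]; exact F₀.add_mem hone hone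
      have := hCsmul _ (F₀.inv_mem h2') _ h4
      rwa [← mul_assoc, inv_mul_cancel₀ h2, one_mul] at this
  have hCall : ∀ c : F, c ∈ C := by
    let S : Subalgebra F₀ F :=
      { carrier := C
        mul_mem' := fun {a b} => hCmul a b
        one_mem' := hC₀ 1 hone
        add_mem' := fun {a b} => hCadd a b
        zero_mem' := hC₀ 0 F₀.zero_mem
        algebraMap_mem' := fun e => hC₀ (e : F) e.2 }
    haveI := Subalgebra.isSimpleOrder_of_finrank_prime F₀ F (hrank ▸ hr)
    rcases IsSimpleOrder.eq_bot_or_eq_top S with h | h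
    · exfalso
      have : c₁ ∈ S := htrans c₁ hlM
      rw [h, Algebra.mem_bot] at this
      obtain ⟨e, he⟩ := this
      exact hc₁ (he ▸ e.2)
    · intro c
      have : c ∈ S := h ▸ trivial
      exact this
  -- every vector is full
  have hLfull : ∀ x ∈ L, ∀ s : F, Full hf M (s • x) := fun x hx s =>
    full_smul hf (fun c => hCall c x hx) s
  have hshift : ∀ u, Full hf M u → ∀ l ∈ L, ∀ α : F, Full hf M (u + α • l) := by
    intro u hu l hl α
    by_cases h0 : f u l = 0
    swap
    · exact full_add hf (by simpa using hLfull l hl 1) hu h0 α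
    by_cases hFL : ∃ s : F, ∃ x ∈ L, u + α • l = s • x
    · obtain ⟨s, x, hx, e⟩ := hFL
      rw [e]; exact hLfull x hx s
    rcases eq_or_ne α 0 with rfl | hα
    · simpa using hu
    rcases eq_or_ne l 0 with rfl | hl0
    · simpa using hu
    obtain ⟨y, hy, y1, y2, y3⟩ : ∃ y ∈ L, f u y ≠ 0 ∧ f y l ≠ 0 ∧ f u y + α * f l y ≠ 0 := by
      by_contra hno; push Not at hno
      apply hFL
      obtain ⟨y₀, hy₀, hy₁⟩ := hdual1 l hl hl0
      have main : ∀ y ∈ L, f l y ≠ 0 → f y u / α ∈ F₀ := by
        intro y hy hly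
        rw [f_skew hf y u]
        by_cases h : f u y = 0
        · rw [h, neg_zero, zero_div]; exact F₀.zero_mem
        · rw [eq_neg_of_add_eq_zero_left (hno y hy h (f_ne_symm hf hly)), neg_neg,
            mul_div_cancel_left₀ _ hα]
          exact hP l hl y hy
      have hall : ∀ y ∈ L, f y u / α ∈ F₀ := by
        intro y hy
        by_cases hly : f l y = 0
        · have k1 := main (y + y₀) (L.add_mem hy hy₀) (by
            rw [f_add_right hf, hly, hy₁, zero_add]; exact one_ne_zero)
          have k2 := main y₀ hy₀ (by rw [hy₁]; exact one_ne_zero)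
          have := F₀.sub_mem k1 k2
          rwa [f_add_left hf, add_div, add_sub_cancel_right] at this
        · exact main y hy hly
      have hw : α⁻¹ • u ∈ L := hrat _ fun y hy => by
        rw [f_smul_right hf, inv_mul_eq_div]; exact hall y hy
      exact ⟨α, α⁻¹ • u + l, L.add_mem hw hl, by rw [smul_add, smul_inv_smul₀ hα]⟩
    have hyf : Full hf M y := by simpa using hLfull y hy 1
    have hlf : Full hf M l := by simpa using hLfull l hl 1
    have s1 := full_add hf hyf hu y1 1
    have s2 := full_add hf hlf s1 (by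
      rw [f_add_left hf, f_smul_left hf, h0, zero_add, one_mul]; exact y2) α
    have s3 := full_add hf hyf s2 (by
      simp only [f_add_left hf, f_smul_left hf, f_self hf, mul_zero, add_zero]; exact y3) (-1)
    convert s3 using 1
    module
  refine le_antisymm hM2 (isoGroup_le_of_full hf M fun v => ?_)
  have key : ∀ s : Finset ι, Full hf M (∑ i ∈ s, (act P⁻¹ v) i • act P (Pi.single i 1)) := by
    intro s
    induction s using Finset.induction_on with
    | empty => simpa using full_zero hf M
    | insert i s his ih =>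
      rw [Finset.sum_insert his, add_comm]
      exact hshift _ ih _ (ratVec_basis F₀ P i) _
  have e : v = ∑ i, (act P⁻¹ v) i • act P (Pi.single i 1) := by
    conv_lhs => rw [← act_act_inv P v, pi_eq_sum_univ' (act P⁻¹ v), map_sum]
    exact Finset.sum_congr rfl fun i _ => by rw [map_smul]
  rw [e]; exact key _

/-- The core statement in large dimension. -/
theorem subfield_maximal [Fintype F] (hf : Cfsg.Geo.IsSymplecticForm f) (hn : 6 ≤ Fintype.card ι)
    (F₀ : Subfield F) (r : ℕ) (hr : r.Prime) (hcard : Fintype.card F = Nat.card F₀ ^ r) (P : GL ι F)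
    (hP : ∀ x ∈ ratVec F₀ P, ∀ y ∈ ratVec F₀ P, f x y ∈ F₀) :
    Cfsg.Geo.IsMaximalIn (isoGroup f) (Cfsg.Geo.subfieldSubgroup F₀ P ⊓ isoGroup f) :=
  subfield_maximal_any hf (by omega) (fun _ => hn) F₀ r hr hcard P hP

end Cfsg.Agent.MaxCl
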