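/-
A rational structure over a subfield for a quadratic form: existence of rational singular vectors with prescribed
orthogonality and the descent of vectors with rational pairings.
-/
import Cfsg.Agent.Lib.MaxCl.OrthNondeg
import Cfsg.Agent.Lib.MaxCl.SympSubfield

set_option autoImplicit false

namespace Cfsg.Agent.MaxCl.Orth

open scoped MatrixGroups Matrix
open Module (finrank)

variable {ι : Type} [Fintype ι] [DecidableEq ι] {F : Type*} [Field F] {Q : QuadraticForm F (ι → F)}
  {F₀ : Subfield F} {P : GL ι F}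

set_option quotPrecheck false in
local notation "B" => QuadraticMap.polar (⇑Q)

variable (F₀ P) in
/-- The inclusion of the coordinate vectors over the subfield. -/
noncomputable def emb : (ι → F₀) →ₗ[F₀] (ι → F) where
  toFun u := act P fun i => (u i : F)
  map_add' u v := by rw [← map_add]; rfl
  map_smul' c u := by
    have : (fun i => ((c • u) i : F)) = (c : F) • fun i => (u i : F) := rfl
    rw [this, map_smul]; rfl

theorem emb_mem (u : ι → F₀) : emb F₀ P u ∈ ratVec F₀ P := ⟨_, fun i => (u i).2, rfl⟩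

theorem exists_emb {x : ι → F} (hx : x ∈ ratVec F₀ P) : ∃ u, emb F₀ P u = x := by
  obtain ⟨u, hu, rfl⟩ := hx
  exact ⟨fun i => ⟨u i, hu i⟩, rfl⟩

theorem emb_injective : Function.Injective (emb F₀ P) := fun u v h => by
  funext i
  exact Subtype.ext (congrFun (act_injective P h) i)

theorem rat_neg {x : ι → F} (hx : x ∈ ratVec F₀ P) : -x ∈ ratVec F₀ P := (ratVec F₀ P).neg_mem hx

theorem smul_rat_mem {a : F} {x : ι → F} (hx : x ∈ ratVec F₀ P) (hx0 : x ≠ 0) (h : a • x ∈ ratVec F₀ P) :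
    a ∈ F₀ := by
  obtain ⟨u, rfl⟩ := exists_emb hx
  obtain ⟨v, hv⟩ := exists_emb h
  obtain ⟨i, hi⟩ : ∃ i, u i ≠ 0 := Function.ne_iff.1 fun e => hx0 (by rw [show u = 0 from e, map_zero])
  have hact : (fun j => (v j : F)) = a • fun j => (u j : F) := act_injective P (by rw [map_smul]; exact hv)
  have e : (v i : F) = a * (u i : F) := congrFun hact i
  have hi' : (u i : F) ≠ 0 := fun e => hi (Subtype.ext e)
  rw [show a = (v i : F) / (u i : F) by rw [e, mul_div_cancel_right₀ _ hi']]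
  exact F₀.div_mem (v i).2 (u i).2

/-- Every vector is a combination of rational vectors with coefficients independent over the subfield. -/
theorem exists_decomp [Finite F] (x : ι → F) : ∃ (m : ℕ) (c : Fin m → F) (z : Fin m → ι → F),
    LinearIndependent F₀ c ∧ (∀ j, z j ∈ ratVec F₀ P) ∧ x = ∑ j, c j • z j := by
  haveI := Fintype.ofFinite F
  let b := Module.finBasis F₀ F
  refine ⟨_, b, fun j => emb F₀ P fun i => b.repr (act P⁻¹ x i) j, b.linearIndependent, fun j => emb_mem _, ?_⟩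
  conv_lhs => rw [← act_act_inv P x]
  simp only [emb, LinearMap.coe_mk, AddHom.coe_mk, ← map_smul, ← map_sum]
  congr 1
  funext i
  conv_lhs => rw [← b.sum_repr (act P⁻¹ x i)]
  simp [Finset.sum_apply, Subfield.smul_def, mul_comm]

theorem coeff_zero {m : ℕ} {c : Fin m → F} (hc : LinearIndependent F₀ c) {a : Fin m → F}
    (ha : ∀ j, a j ∈ F₀) (h : ∑ j, a j * c j = 0) (j : Fin m) : a j = 0 := by
  have := Fintype.linearIndependent_iff.1 hc (fun j => ⟨a j, ha j⟩) (by simpa [Subfield.smul_def] using h) j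
  exact congrArg Subtype.val this

theorem B_span_eq_zero' {α : Type} {v : α → ι → F} {x u : ι → F} (hx : x ∈ Submodule.span F (Set.range v))
    (h : ∀ i, B (v i) u = 0) : B x u = 0 := by
  have : u ∈ perp Q (Submodule.span F (Set.range v)) := (mem_perp_span Q).2 (by rintro _ ⟨i, rfl⟩; exact h i)
  exact this x hx

variable (hP : ∀ x ∈ ratVec F₀ P, Q x ∈ F₀)
include hP

theorem B_rat {x y : ι → F} (hx : x ∈ ratVec F₀ P) (hy : y ∈ ratVec F₀ P) : B x y ∈ F₀ :=
  F₀.sub_mem (F₀.sub_mem (hP _ ((ratVec F₀ P).add_mem hx hy)) (hP x hx)) (hP y hy)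

/-- The form over the subfield. -/
noncomputable def formSub : QuadraticForm F₀ (ι → F₀) :=
  QuadraticMap.ofPolar (fun u => ⟨Q (emb F₀ P u), hP _ (emb_mem u)⟩)
    (fun a u => Subtype.ext (by
      show Q (emb F₀ P (a • u)) = _
      rw [map_smul, Subfield.smul_def, Q_smul Q]; rfl))
    (fun u u' v => Subtype.ext (by
      show Q (emb F₀ P (u + u' + v)) - Q (emb F₀ P (u + u')) - Q (emb F₀ P v) =
        (Q (emb F₀ P (u + v)) - Q (emb F₀ P u) - Q (emb F₀ P v)) +
          (Q (emb F₀ P (u' + v)) - Q (emb F₀ P u') - Q (emb F₀ P v))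
      simp only [map_add]
      exact B_add_left Q _ _ _))
    (fun a u v => Subtype.ext (by
      show Q (emb F₀ P (a • u + v)) - Q (emb F₀ P (a • u)) - Q (emb F₀ P v) =
        (a : F) * (Q (emb F₀ P (u + v)) - Q (emb F₀ P u) - Q (emb F₀ P v))
      simp only [map_add, map_smul, Subfield.smul_def]
      exact B_smul_left Q _ _ _))

theorem formSub_apply (u : ι → F₀) : (formSub hP u : F) = Q (emb F₀ P u) := rfl

theorem formSub_polar (u v : ι → F₀) :
    ((QuadraticMap.polar (⇑(formSub hP)) u v : F₀) : F) = B (emb F₀ P u) (emb F₀ P v) := by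
  simp only [QuadraticMap.polar, Subfield.coe_sub, formSub_apply, map_add]

variable [Finite F] (hQ : (QuadraticMap.polarBilin Q).Nondegenerate)
include hQ

omit hP in
theorem eq_zero_of_rat_perp {x : ι → F} (h : ∀ z ∈ ratVec F₀ P, B x z = 0) : x = 0 := by
  refine hQ.1 x fun y => ?_
  obtain ⟨m, c, z, -, hz, rfl⟩ := exists_decomp (F₀ := F₀) (P := P) y
  simp [h _ (hz _)]

theorem formSub_nondegenerate : (QuadraticMap.polarBilin (formSub hP)).Nondegenerate := by
  have key : ∀ u, (∀ v, QuadraticMap.polar (formSub hP) u v = 0) → u = 0 := fun u h => by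
    refine emb_injective (F₀ := F₀) (P := P) ((eq_zero_of_rat_perp (F₀ := F₀) (P := P) hQ fun z hz => ?_).trans (map_zero _).symm)
    obtain ⟨v, rfl⟩ := exists_emb hz
    rw [← formSub_polar hP, h v]; rfl
  exact ⟨key, fun v h => key v fun u => (B_comm _ v u).trans (h u)⟩

/-- A rational vector outside the span of others has a rational dual. -/
theorem exists_rat_dual {α : Type} (v : α → ι → F) (hv : ∀ i, v i ∈ ratVec F₀ P) {w : ι → F}
    (hw : w ∈ ratVec F₀ P) (h : w ∉ Submodule.span F (Set.range v)) :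
    ∃ z ∈ ratVec F₀ P, (∀ i, B (v i) z = 0) ∧ B w z = 1 := by
  obtain ⟨y, hy, hy1⟩ := exists_perp_one hQ h
  rw [mem_perp_span] at hy
  obtain ⟨m, c, z, hc, hz, rfl⟩ := exists_decomp (F₀ := F₀) (P := P) y
  have hsum : ∀ x, B x (∑ j, c j • z j) = ∑ j, B x (z j) * c j := fun x => by
    show QuadraticMap.polarBilin Q x _ = _
    simp [map_sum, mul_comm]
  have hzero : ∀ i j, B (v i) (z j) = 0 := fun i j =>
    coeff_zero hc (fun j => B_rat hP (hv i) (hz j)) ((hsum _).symm.trans (hy _ ⟨i, rfl⟩)) j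
  obtain ⟨j, hj⟩ : ∃ j, B w (z j) ≠ 0 := by
    by_contra hne
    push Not at hne
    rw [hsum] at hy1
    simp [hne] at hy1
  refine ⟨(B w (z j))⁻¹ • z j, ratVec_smul (F₀.inv_mem (B_rat hP hw (hz j))) (hz j), fun i => ?_, ?_⟩
  · rw [B_smul_right Q, hzero, mul_zero]
  · rw [B_smul_right Q, inv_mul_cancel₀ hj]

omit hP hQ [Finite F] in
theorem span_emb {α : Type} (e : α → ι → F₀) {u : ι → F₀}
    (h : emb F₀ P u ∈ Submodule.span F (Set.range fun i => emb F₀ P (e i))) :
    u ∈ Submodule.span F₀ (Set.range e) := by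
  by_contra hu
  obtain ⟨φ, h0, h1⟩ := exists_dual _ hu
  let ψ : (ι → F) →ₗ[F] F := ∑ i, (φ (Pi.single i 1) : F) • LinearMap.proj i
  have key : ∀ w : ι → F₀, ψ (act P⁻¹ (emb F₀ P w)) = φ w := by
    intro w
    have hw : φ w = ∑ i, w i * φ (Pi.single i 1) := by
      conv_lhs => rw [pi_eq_sum_univ' w, map_sum]
      exact Finset.sum_congr rfl fun i _ => by rw [map_smul, smul_eq_mul]
    simp only [emb, LinearMap.coe_mk, AddHom.coe_mk, act_inv_act, ψ, LinearMap.sum_apply,
      LinearMap.smul_apply, LinearMap.proj_apply, smul_eq_mul]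
    rw [hw]
    push_cast
    exact Finset.sum_congr rfl fun i _ => mul_comm _ _
  have hle : Submodule.span F (Set.range fun i => emb F₀ P (e i)) ≤ LinearMap.ker (ψ ∘ₗ act P⁻¹) := by
    rw [Submodule.span_le]
    rintro _ ⟨i, rfl⟩
    rw [SetLike.mem_coe, LinearMap.mem_ker, LinearMap.comp_apply, key, h0 _ (Submodule.subset_span ⟨i, rfl⟩)]
    rfl
  have := LinearMap.mem_ker.1 (hle h)
  rw [LinearMap.comp_apply, key, h1] at this
  exact one_ne_zero this

theorem exists_rat_singular {k l : ℕ} (v : Fin k → ι → F) (hv : ∀ i, v i ∈ ratVec F₀ P) (e : Fin l → ι → F)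
    (he : ∀ i, e i ∈ ratVec F₀ P) (h : k + l + 3 ≤ Fintype.card ι) :
    ∃ u ∈ ratVec F₀ P, Q u = 0 ∧ u ≠ 0 ∧ (∀ i, B (v i) u = 0) ∧ u ∉ Submodule.span F (Set.range e) := by
  choose v' hv' using fun i => exists_emb (hv i)
  choose e' he' using fun i => exists_emb (he i)
  have h1 := finrank_span_list_le v'
  have h2 := finrank_span_list_le e'
  obtain ⟨u, hu, hue, hQu⟩ := exists_singular_notMem (formSub hP)
    (D := perp (formSub hP) (Submodule.span F₀ (Set.range v'))) (E := Submodule.span F₀ (Set.range e')) (by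
      rw [finrank_perp (formSub_nondegenerate hP hQ)]; omega)
  refine ⟨emb F₀ P u, emb_mem u, ?_, fun e => hue ?_, fun i => ?_, fun h => hue ?_⟩
  · rw [← formSub_apply hP, hQu]; rfl
  · rw [emb_injective (F₀ := F₀) (P := P) (e.trans (map_zero _).symm)]; exact Submodule.zero_mem _
  · rw [mem_perp_span] at hu
    rw [← hv', ← formSub_polar hP, hu _ ⟨i, rfl⟩]; rfl
  · refine span_emb e' (P := P) ?_
    rwa [show (fun i => emb F₀ P (e' i)) = e from funext he']

/-- The rational vectors orthogonal to `v` are generated by the singular ones. -/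
theorem le_of_singular_rat_all {k : ℕ} (v : Fin k → ι → F) (hv : ∀ i, v i ∈ ratVec F₀ P)
    (h : 2 * k + 3 ≤ Fintype.card ι) (N : Submodule F₀ (ι → F))
    (all : ∀ u ∈ ratVec F₀ P, Q u = 0 → (∀ i, B (v i) u = 0) → u ∈ N) :
    ∀ y ∈ ratVec F₀ P, (∀ i, B (v i) y = 0) → y ∈ N := by
  obtain ⟨s, hs, hQs, hs0, hsv, hsn⟩ := exists_rat_singular hP hQ v hv v hv (by omega)
  obtain ⟨z, hz, hzv, hsz⟩ := exists_rat_dual hP hQ v hv hs hsn
  set t := z - Q z • s with ht
  have htL : t ∈ ratVec F₀ P := (ratVec F₀ P).sub_mem hz (ratVec_smul (hP z hz) hs)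
  have hQt : Q t = 0 := by
    rw [ht, Q_sub Q, Q_smul Q, B_smul_right Q, hQs, B_comm Q z s, hsz]; ring
  have hst : B s t = 1 := by rw [ht, B_sub_right Q, B_smul_right Q, hsz, B_self_of_singular Q hQs]; ring
  have htv : ∀ i, B (v i) t = 0 := fun i => by
    rw [ht, B_sub_right Q, B_smul_right Q, hzv, hsv]; ring
  intro y hy hyv
  have hts : B t s = 1 := (B_comm Q t s).trans hst
  set w := y - B t y • s - B s y • t with hw
  have hwL : w ∈ ratVec F₀ P := (ratVec F₀ P).sub_mem ((ratVec F₀ P).sub_mem hy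
    (ratVec_smul (B_rat hP htL hy) hs)) (ratVec_smul (B_rat hP hs hy) htL)
  have hsw : B s w = 0 := by
    rw [hw, B_sub_right Q, B_sub_right Q, B_smul_right Q, B_smul_right Q, B_self_of_singular Q hQs, hst]; ring
  have htw : B t w = 0 := by
    rw [hw, B_sub_right Q, B_sub_right Q, B_smul_right Q, B_smul_right Q, B_self_of_singular Q hQt, hts]; ring
  have hwv : ∀ i, B (v i) w = 0 := fun i => by
    rw [hw, B_sub_right Q, B_sub_right Q, B_smul_right Q, B_smul_right Q, hyv, hsv, htv]; ring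
  have hmem : s + w - Q w • t ∈ N := by
    refine all _ ((ratVec F₀ P).sub_mem ((ratVec F₀ P).add_mem hs hwL) (ratVec_smul (hP w hwL) htL)) ?_
      fun i => ?_
    · rw [Q_sub Q, Q_add Q, Q_smul Q, B_smul_right Q, B_add_left Q, hQs, hQt, hsw, hst, B_comm Q w t, htw]; ring
    · rw [B_sub_right Q, B_add_right Q, B_smul_right Q, hsv, hwv, htv]; ring
  have hsm : ∀ (a : F) (x : ι → F), a ∈ F₀ → x ∈ N → a • x ∈ N := fun a x ha hx => N.smul_mem (⟨a, ha⟩ : F₀) hx
  have e : y = (s + w - Q w • t) + (B t y - 1) • s + (Q w + B s y) • t := by rw [hw]; module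
  rw [e]
  exact N.add_mem (N.add_mem hmem (hsm _ _ (F₀.sub_mem (B_rat hP htL hy) F₀.one_mem) (all s hs hQs hsv)))
    (hsm _ _ (F₀.add_mem (hP w hwL) (B_rat hP hs hy)) (all t htL hQt htv))

/-- Two non-orthogonal rational vectors orthogonal to few given ones. -/
theorem exists_rat_pair {k : ℕ} (v : Fin k → ι → F) (hv : ∀ i, v i ∈ ratVec F₀ P)
    (h : 2 * k + 1 ≤ Fintype.card ι) :
    ∃ w ∈ ratVec F₀ P, ∃ w' ∈ ratVec F₀ P, (∀ i, B (v i) w = 0) ∧ (∀ i, B (v i) w' = 0) ∧ B w w' ≠ 0 := by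
  choose v' hv' using fun i => exists_emb (hv i)
  by_contra hno
  push Not at hno
  set D := perp (formSub hP) (Submodule.span F₀ (Set.range v')) with hDdef
  have hmem : ∀ a ∈ D, ∀ i, B (v i) (emb F₀ P a) = 0 := fun a ha i => by
    rw [← hv', ← formSub_polar hP, (mem_perp_span (formSub hP)).1 ha _ ⟨i, rfl⟩]; rfl
  have hle : D ≤ perp (formSub hP) D := fun b hb a ha => Subtype.ext (by
    show ((QuadraticMap.polar (⇑(formSub hP)) a b : F₀) : F) = 0
    rw [formSub_polar hP]
    exact hno _ (emb_mem a) _ (emb_mem b) (hmem a ha) (hmem b hb))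
  have h1 := finrank_span_list_le v'
  have h2 := Submodule.finrank_mono hle
  have h3 : finrank F₀ D = Fintype.card ι - finrank F₀ (Submodule.span F₀ (Set.range v')) :=
    finrank_perp (formSub_nondegenerate hP hQ) _
  have h4 : finrank F₀ ↥(perp (formSub hP) D) = Fintype.card ι - finrank F₀ D :=
    finrank_perp (formSub_nondegenerate hP hQ) _
  omega


/-- The rational vectors orthogonal to `v` are generated by the singular ones outside the span of `v`. -/
theorem le_of_singular_rat {k : ℕ} (v : Fin k → ι → F) (hv : ∀ i, v i ∈ ratVec F₀ P)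
    (h : 2 * k + 3 ≤ Fintype.card ι) (N : Submodule F₀ (ι → F))
    (hN : ∀ u ∈ ratVec F₀ P, Q u = 0 → u ≠ 0 → (∀ i, B (v i) u = 0) →
      u ∉ Submodule.span F (Set.range v) → u ∈ N) :
    ∀ y ∈ ratVec F₀ P, (∀ i, B (v i) y = 0) → y ∈ N := by
  have all : ∀ u ∈ ratVec F₀ P, Q u = 0 → (∀ i, B (v i) u = 0) → u ∈ N := by
    intro u hu hQu huv
    by_cases hspan : u ∈ Submodule.span F (Set.range v)
    · obtain ⟨s, hs, hQs, hs0, hsv, hsn⟩ := exists_rat_singular hP hQ v hv v hv (by omega)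
      have hus : B u s = 0 := B_span_eq_zero' hspan hsv
      have h1 : u + s ∉ Submodule.span F (Set.range v) := fun h => hsn (by
        have := Submodule.sub_mem _ h hspan; rwa [add_sub_cancel_left] at this)
      have h2 := hN (u + s) ((ratVec F₀ P).add_mem hu hs) (by rw [Q_add Q, hQu, hQs, hus]; ring)
        (fun e => h1 (by rw [e]; exact Submodule.zero_mem _))
        (fun i => by rw [B_add_right Q, huv, hsv, add_zero]) h1
      have := N.sub_mem h2 (hN s hs hQs hs0 hsv hsn)
      rwa [add_sub_cancel_right] at this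
    · exact hN u hu hQu (fun e => hspan (by rw [e]; exact Submodule.zero_mem _)) huv hspan
  exact le_of_singular_rat_all hP hQ v hv (by omega) N all

omit hP hQ in
/-- A subspace of dimension two on which the polar form vanishes contains a singular vector. -/
theorem exists_singular_isotropic {q : QuadraticForm F₀ (ι → F₀)} {U : Submodule F₀ (ι → F₀)}
    (hU1 : 1 ≤ finrank F₀ U) (hU2 : 2 ≤ finrank F₀ U ∨ (2 : F₀) ≠ 0)
    (h : ∀ a ∈ U, ∀ b ∈ U, QuadraticMap.polar q a b = 0) :
    ∃ s ∈ U, s ≠ 0 ∧ q s = 0 := by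
  haveI := Fintype.ofFinite F₀
  have hU0 : U ≠ ⊥ := fun e => by rw [e, finrank_bot] at hU1; omega
  obtain ⟨x, hx, hx0⟩ := Submodule.exists_mem_ne_zero_of_ne_bot hU0
  by_cases h2 : (2 : F₀) = 0
  swap
  · exact ⟨x, hx, hx0, (mul_eq_zero.1 ((B_self q x).symm.trans (h x hx x hx))).resolve_left h2⟩
  have hU := hU2.resolve_right (not_not_intro h2)
  obtain ⟨y, hy, hyx⟩ : ∃ y ∈ U, y ∉ F₀ ∙ x := SetLike.not_le_iff_exists.1 fun hle => by
    have := (Submodule.finrank_mono hle).trans_eq (finrank_span_singleton hx0); omega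
  rcases eq_or_ne (q x) 0 with hqx | hqx
  · exact ⟨x, hx, hx0, hqx⟩
  obtain ⟨t, ht⟩ := FiniteField.isSquare_of_char_two (F := F₀)
    (ringChar.eq_iff.2 (CharTwo.of_one_ne_zero_of_two_eq_zero one_ne_zero h2)) (q y / q x)
  refine ⟨t • x + y, U.add_mem (U.smul_mem t hx) hy, fun e => hyx (Submodule.mem_span_singleton.2 ⟨-t, ?_⟩), ?_⟩
  · rw [neg_smul]; exact (eq_neg_of_add_eq_zero_right e).symm
  · rw [Q_add q, Q_smul q, h _ (U.smul_mem t hx) _ hy, ← ht, div_mul_cancel₀ _ hqx]
    linear_combination q y * h2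

/-- A rational singular vector orthogonal to few given vectors, with two non-orthogonal rational vectors
orthogonal to all of them. -/
theorem exists_rat_admissible {k : ℕ} (v : Fin k → ι → F) (hv : ∀ i, v i ∈ ratVec F₀ P)
    (h3 : k + 3 ≤ Fintype.card ι) (h4 : k + 4 ≤ Fintype.card ι ∨ (2 : F) ≠ 0)
    (hpair : ∃ a ∈ ratVec F₀ P, ∃ b ∈ ratVec F₀ P, (∀ i, B (v i) a = 0) ∧ (∀ i, B (v i) b = 0) ∧ B a b ≠ 0) :
    ∃ s ∈ ratVec F₀ P, ∃ w ∈ ratVec F₀ P, ∃ w' ∈ ratVec F₀ P, Q s = 0 ∧ s ≠ 0 ∧ (∀ i, B (v i) s = 0) ∧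
      (∀ i, B (v i) w = 0) ∧ (∀ i, B (v i) w' = 0) ∧ B s w = 0 ∧ B s w' = 0 ∧ B w w' ≠ 0 := by
  choose v' hv' using fun i => exists_emb (hv i)
  set q := formSub hP with hqdef
  have hq : (QuadraticMap.polarBilin q).Nondegenerate := formSub_nondegenerate hP hQ
  by_contra hno
  push Not at hno
  set D := perp q (Submodule.span F₀ (Set.range v')) with hDdef
  have hmem : ∀ a ∈ D, ∀ i, B (v i) (emb F₀ P a) = 0 := fun a ha i => by
    rw [← hv', ← formSub_polar hP, (mem_perp_span q).1 ha _ ⟨i, rfl⟩]; rfl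
  have key : ∀ s ∈ D, s ≠ 0 → q s = 0 → ∀ a ∈ D, ∀ b ∈ D, QuadraticMap.polar q s a = 0 →
      QuadraticMap.polar q s b = 0 → QuadraticMap.polar q a b = 0 := by
    intro s hs hs0 hqs a ha b hb hsa hsb
    refine Subtype.ext ?_
    rw [formSub_polar hP]
    refine hno _ (emb_mem s) _ (emb_mem a) _ (emb_mem b) (by rw [← formSub_apply hP, ← hqdef, hqs]; rfl)
      (fun e => hs0 (emb_injective (F₀ := F₀) (P := P) (e.trans (map_zero _).symm))) (hmem s hs) (hmem a ha)
      (hmem b hb) ?_ ?_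
    · rw [← formSub_polar hP, ← hqdef, hsa]; rfl
    · rw [← formSub_polar hP, ← hqdef, hsb]; rfl
  have hD : Fintype.card ι - k ≤ finrank F₀ D := by
    rw [hDdef, finrank_perp hq]
    have := finrank_span_list_le v'
    omega
  have notiso : ¬ D ≤ perp q D := fun hle => by
    obtain ⟨a, ha, b, hb, hav, hbv, hab⟩ := hpair
    obtain ⟨a', rfl⟩ := exists_emb ha
    obtain ⟨b', rfl⟩ := exists_emb hb
    have hD' : ∀ a', (∀ i, B (v i) (emb F₀ P a') = 0) → a' ∈ D := fun a' h => by
      rw [hDdef, mem_perp_span]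
      rintro _ ⟨i, rfl⟩
      exact Subtype.ext (by rw [formSub_polar hP, hv', h]; rfl)
    refine hab ?_
    rw [← formSub_polar hP, ← hqdef]
    have : QuadraticMap.polar q a' b' = 0 := hle (hD' b' hbv) a' (hD' a' hav)
    rw [this]; rfl
  obtain ⟨s, hs, hs0, hqs⟩ := exists_singular q (D := D) (by omega)
  set T := D ⊓ perp q (F₀ ∙ s) with hTdef
  have hT : finrank F₀ D ≤ finrank F₀ T + 1 := by
    have h1 := Submodule.finrank_sup_add_finrank_inf_eq D (perp q (F₀ ∙ s))
    have h2 : finrank F₀ ↥(D ⊔ perp q (F₀ ∙ s)) ≤ Fintype.card ι :=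
      (Submodule.finrank_le _).trans_eq (Module.finrank_pi F₀)
    rw [finrank_perp hq (F₀ ∙ s), finrank_span_singleton hs0, ← hTdef] at h1
    omega
  have hsT : ∀ a ∈ T, QuadraticMap.polar q s a = 0 := fun a ha => ha.2 s (Submodule.mem_span_singleton_self s)
  have hTT : ∀ a ∈ T, ∀ b ∈ T, QuadraticMap.polar q a b = 0 := fun a ha b hb =>
    key s hs hs0 hqs a ha.1 b hb.1 (hsT a ha) (hsT b hb)
  obtain ⟨d, hd, hdT⟩ : ∃ d ∈ D, d ∉ T := SetLike.not_le_iff_exists.1 fun hle =>
    notiso fun b hb a ha => hTT a (hle ha) b (hle hb)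
  have hsup : T ⊔ F₀ ∙ d = D := by
    refine Submodule.eq_of_le_of_finrank_le (sup_le inf_le_left ((Submodule.span_singleton_le_iff_mem _ _).2 hd)) ?_
    have hlt : T < T ⊔ F₀ ∙ d := lt_of_le_of_ne le_sup_left fun e => hdT (e ▸
      Submodule.mem_sup_right (Submodule.mem_span_singleton_self d))
    have := Submodule.finrank_lt_finrank_of_lt hlt
    omega
  set U := T ⊓ perp q (F₀ ∙ d) with hUdef
  have hU : finrank F₀ D ≤ finrank F₀ U + 2 := by
    have h1 := Submodule.finrank_sup_add_finrank_inf_eq T (perp q (F₀ ∙ d))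
    have h2 : finrank F₀ ↥(T ⊔ perp q (F₀ ∙ d)) ≤ Fintype.card ι :=
      (Submodule.finrank_le _).trans_eq (Module.finrank_pi F₀)
    rw [finrank_perp hq (F₀ ∙ d), finrank_span_singleton (fun e : d = 0 => hdT (e ▸ T.zero_mem)), ← hUdef] at h1
    omega
  obtain ⟨u, hu, hu0, hqu⟩ := exists_singular_isotropic (U := U) (q := q) (by omega)
    (h4.imp (fun h => by omega) fun h e => h (congrArg Subtype.val e)) fun a ha b hb => hTT a ha.1 b hb.1
  have huD : ∀ a ∈ D, QuadraticMap.polar q u a = 0 := by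
    intro a ha
    obtain ⟨a', ha', e, he, rfl⟩ := Submodule.mem_sup.1 (hsup.ge ha)
    obtain ⟨c, rfl⟩ := Submodule.mem_span_singleton.1 he
    have hdu : QuadraticMap.polar q d u = 0 := hu.2 d (Submodule.mem_span_singleton_self d)
    rw [B_add_right q, B_smul_right q, hTT u hu.1 a' ha', B_comm q u d, hdu, mul_zero, add_zero]
  exact notiso fun b hb a ha => key u hu.1.1 hu0 hqu a ha b hb (huD a ha) (huD b hb)

/-- A vector orthogonal to the rational singular vectors orthogonal to `v` is in the span of `v`. -/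
theorem mem_span_of_rat {k : ℕ} (v : Fin k → ι → F) (hv : ∀ i, v i ∈ ratVec F₀ P)
    (h : 2 * k + 3 ≤ Fintype.card ι) {x : ι → F}
    (hx : ∀ u ∈ ratVec F₀ P, Q u = 0 → u ≠ 0 → (∀ i, B (v i) u = 0) →
      u ∉ Submodule.span F (Set.range v) → B x u = 0) :
    x ∈ Submodule.span F (Set.range v) := by
  by_contra hxv
  obtain ⟨y, hy, hy1⟩ := exists_perp_one hQ hxv
  rw [mem_perp_span] at hy
  obtain ⟨m, c, z, hc, hz, rfl⟩ := exists_decomp (F₀ := F₀) (P := P) y
  have hsum : ∀ x, B x (∑ j, c j • z j) = ∑ j, B x (z j) * c j := fun x => by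
    show QuadraticMap.polarBilin Q x _ = _
    simp [map_sum, mul_comm]
  have hzero : ∀ i j, B (v i) (z j) = 0 := fun i j =>
    coeff_zero hc (fun j => B_rat hP (hv i) (hz j)) ((hsum _).symm.trans (hy _ ⟨i, rfl⟩)) j
  let N : Submodule F₀ (ι → F) :=
    (LinearMap.ker (QuadraticMap.polarBilin Q x)).restrictScalars F₀
  have hall := le_of_singular_rat hP hQ v hv h N fun u hu hQu hu0 huv hun => hx u hu hQu hu0 huv hun
  rw [hsum] at hy1
  have : ∀ j, B x (z j) = 0 := fun j => hall (z j) (hz j) fun i => hzero i j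
  simp [this] at hy1

/-- Rational pairings descend. -/
theorem mem_rat_of_pairing {x : ι → F} (hx : ∀ y ∈ ratVec F₀ P, B y x ∈ F₀) : x ∈ ratVec F₀ P := by
  refine ⟨act P⁻¹ x, fun i => ?_, act_act_inv P x⟩
  let v : ι → ι → F := fun j => if j = i then 0 else act P (Pi.single j 1)
  have hv : ∀ j, v j ∈ ratVec F₀ P := fun j => by
    simp only [v]; split
    · exact (ratVec F₀ P).zero_mem
    · exact ratVec_basis F₀ P j
  have hnot : act P (Pi.single i 1) ∉ Submodule.span F (Set.range v) := fun h => by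
    have hle : Submodule.span F (Set.range v) ≤ LinearMap.ker ((LinearMap.proj i) ∘ₗ act P⁻¹) := by
      rw [Submodule.span_le]
      rintro _ ⟨j, rfl⟩
      simp only [v]; split
      · simp
      · rename_i hji
        rw [SetLike.mem_coe, LinearMap.mem_ker, LinearMap.comp_apply, act_inv_act]
        simp [Ne.symm hji]
    have := hle h
    rw [LinearMap.mem_ker, LinearMap.comp_apply, act_inv_act] at this
    simp at this
  obtain ⟨z, hz, hzv, hz1⟩ := exists_rat_dual hP hQ v hv (ratVec_basis F₀ P i) hnot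
  have key : act P⁻¹ x i = B z x := by
    conv_rhs => rw [← act_act_inv P x, pi_eq_sum_univ' (act P⁻¹ x), map_sum]
    show _ = QuadraticMap.polarBilin Q z _
    rw [map_sum, Finset.sum_eq_single i]
    · rw [map_smul, map_smul, QuadraticMap.polarBilin_apply_apply, B_comm Q z, hz1, smul_eq_mul, mul_one]
    · intro j _ hj
      have := hzv j
      simp only [v, if_neg hj] at this
      rw [map_smul, map_smul, QuadraticMap.polarBilin_apply_apply, B_comm Q z, this, smul_zero]
    · simp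
  rw [key]; exact hx z hz

end Cfsg.Agent.MaxCl.Orth
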