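/-
Subfield groups of prime index are maximal in `omegaGL`.

If an overgroup `M` contains no Siegel element at a rational point with irrational parameter, then an element of `M`
carrying a rational singular point into the span of a few rational vectors lies in the subfield group. Conjugates of
five rational long root elements outnumber the cosets, so two of them differ by a rational element, whose support is a
rational subspace of dimension at most four; this produces such an element of `M`. Two commutators with rational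
Siegel elements fixing a point of that support reduce a parameter there to a seed.
-/
import Cfsg.Agent.Lib.MaxCl.OrthRational

set_option autoImplicit false

namespace Cfsg.Agent.MaxCl.Orth

open scoped MatrixGroups Matrix
open Module (finrank)

variable {ι : Type} [Fintype ι] [DecidableEq ι] {F : Type*} [Field F] {Q : QuadraticForm F (ι → F)}
  {F₀ : Subfield F} {P : GL ι F}

set_option quotPrecheck false in
local notation "B" => QuadraticMap.polar (⇑Q)

variable (Q) in
theorem omega_congr {Q' : (ι → F) → F} (h : isometryGroup F Q' = isometryGroup F Q) :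
    Cfsg.Geo.omegaGL Q' = Cfsg.Geo.omegaGL Q := by
  simp only [Cfsg.Geo.omegaGL, Omega, Subgroup.map_subtype_commutator, h]

theorem B_span_eq_zero {α : Type} {v : α → ι → F} {x u : ι → F} (hx : x ∈ Submodule.span F (Set.range v))
    (h : ∀ i, B (v i) u = 0) : B x u = 0 := by
  have : u ∈ perp Q (Submodule.span F (Set.range v)) := (mem_perp_span Q).2 (by rintro _ ⟨i, rfl⟩; exact h i)
  exact this x hx

theorem act_sg_long {x y : ι → F} (hx : Q x = 0) (hy : Q y = 0) (h : B x y = 0) (z : ι → F) :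
    act (sg Q x y) z = z + B x z • y - B y z • x := by
  rw [act_sg Q hx h, hy, zero_mul, add_zero]

theorem sg_antisymm {x y : ι → F} (hx : Q x = 0) (hy : Q y = 0) (h : B x y = 0) :
    sg Q x y = sg Q y (-x) := by
  apply gl_ext; intro z
  rw [act_sg_long hx hy h, act_sg_long hy (by rw [Q_neg Q, hx])
    (by rw [B_neg_right Q, B_comm Q y x, h, neg_zero]), B_neg_left Q]
  module

/-- Commutator of a Siegel element with one fixing its point. -/
theorem sg_diff_mem {M : Subgroup (GL ι F)} {x b : ι → F} {h : GL ι F} (hI : h ∈ isometryGroup F Q) (hM : h ∈ M)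
    (hx : Q x = 0) (hxb : B x b = 0) (hr : sg Q x b ∈ M) (hfix : act h x = x) :
    B x (act h b - b) = 0 ∧ sg Q x (act h b - b) ∈ M := by
  have hxh : B x (act h b) = 0 := by
    conv_lhs => rw [← hfix]
    rw [B_act hI, hxb]
  refine ⟨by rw [B_sub_right Q, hxh, hxb, sub_zero], ?_⟩
  have := mul_mem (mul_mem (mul_mem hM hr) (inv_mem hM)) (inv_mem hr)
  rwa [conj_sg Q hI, hfix, ← sg_neg Q hx hxb, sg_add Q hx hxh (by rw [B_neg_right Q, hxb, neg_zero]),
    ← sub_eq_add_neg] at this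

variable (Q F₀ P) in
/-- A Siegel element of `M` at a rational point with irrational parameter. -/
def Seed (M : Subgroup (GL ι F)) : Prop :=
  ∃ u ∈ ratVec F₀ P, ∃ w, Q u = 0 ∧ u ≠ 0 ∧ B u w = 0 ∧ sg Q u w ∈ M ∧ ∀ c : F, w + c • u ∉ ratVec F₀ P

variable [Finite F] (hP : ∀ x ∈ ratVec F₀ P, Q x ∈ F₀) (hQ : (QuadraticMap.polarBilin Q).Nondegenerate)
  (hn : 7 ≤ Fintype.card ι) {M : Subgroup (GL ι F)}
  (hS : ∀ u ∈ ratVec F₀ P, ∀ w ∈ ratVec F₀ P, sg Q u w ∈ M)
include hP hQ hn hS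

omit hn hS in
theorem exists_rat_partner {k : ℕ} {v : Fin k → ι → F} (hv : ∀ i, v i ∈ ratVec F₀ P) {t : ι → F}
    (ht : t ∈ ratVec F₀ P) (hQt : Q t = 0) (htv : ∀ i, B (v i) t = 0)
    (h : t ∉ Submodule.span F (Set.range v)) :
    ∃ s ∈ ratVec F₀ P, Q s = 0 ∧ (∀ i, B (v i) s = 0) ∧ B t s = 1 := by
  obtain ⟨z, hz, hzv, htz⟩ := exists_rat_dual hP hQ v hv ht h
  refine ⟨z - Q z • t, (ratVec F₀ P).sub_mem hz (ratVec_smul (hP z hz) ht), ?_, fun i => ?_, ?_⟩
  · rw [Q_sub Q, Q_smul Q, B_smul_right Q, hQt, B_comm Q z t, htz]; ring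
  · rw [B_sub_right Q, B_smul_right Q, hzv, htv]; ring
  · rw [B_sub_right Q, B_smul_right Q, htz, B_self_of_singular Q hQt]; ring

variable (Q F₀ P) in
omit [Finite F] hP hQ hn hS in
/-- Some rational singular vector and two non-orthogonal rational vectors are orthogonal to all of `v`, the first
also to the other two. -/
def Wide {k : ℕ} (v : Fin k → ι → F) : Prop :=
  ∃ s ∈ ratVec F₀ P, ∃ w ∈ ratVec F₀ P, ∃ w' ∈ ratVec F₀ P, Q s = 0 ∧ s ≠ 0 ∧ (∀ i, B (v i) s = 0) ∧
    (∀ i, B (v i) w = 0) ∧ (∀ i, B (v i) w' = 0) ∧ B s w = 0 ∧ B s w' = 0 ∧ B w w' ≠ 0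

omit hS in
theorem wide_of_le {k : ℕ} {v : Fin k → ι → F} (hv : ∀ i, v i ∈ ratVec F₀ P)
    (hk : 2 * k + 1 ≤ Fintype.card ι) : Wide Q F₀ P v :=
  exists_rat_admissible hP hQ v hv (by omega) (Or.inl (by omega)) (exists_rat_pair hP hQ v hv hk)

/-! ### A seed spreads to everything -/

variable (Q F₀ P) in
omit [Finite F] hP hQ hn hS in
/-- A pair spanning a rational totally singular line. -/
def IsRatLine (u t : ι → F) : Prop :=
  u ∈ ratVec F₀ P ∧ t ∈ ratVec F₀ P ∧ Q u = 0 ∧ Q t = 0 ∧ B u t = 0 ∧ u ≠ 0 ∧ t ∉ F ∙ u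

omit [Finite F] hP hQ hn hS in
theorem IsRatLine.symm {u t : ι → F} (h : IsRatLine Q F₀ P u t) : IsRatLine Q F₀ P t u := by
  obtain ⟨hu, ht, hQu, hQt, hut, hu0, hn⟩ := h
  refine ⟨ht, hu, hQt, hQu, (B_comm Q t u).trans hut, fun e => hn (by rw [e]; exact Submodule.zero_mem _),
    fun hmem => ?_⟩
  obtain ⟨c, rfl⟩ := Submodule.mem_span_singleton.1 hmem
  rcases eq_or_ne c 0 with rfl | hc
  · exact hu0 (zero_smul F t)
  · exact hn (Submodule.mem_span_singleton.2 ⟨c⁻¹, by rw [smul_smul, inv_mul_cancel₀ hc, one_smul]⟩)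

omit [Finite F] hP hQ hn hS in
theorem swap_mem {u t : ι → F} (h : IsRatLine Q F₀ P u t) {c : F} (hc : sg Q u (c • t) ∈ M) :
    sg Q t (c • u) ∈ M := by
  obtain ⟨hu, ht, hQu, hQt, hut, -, -⟩ := h
  have h1 : B t (c • u) = 0 := by rw [B_smul_right Q, B_comm Q t u, hut, mul_zero]
  rw [← sg_smul_left Q hQu hut, sg_antisymm (by rw [Q_smul Q, hQu, mul_zero]) hQt
    (by rw [B_smul_left Q, hut, mul_zero]), sg_neg Q hQt h1] at hc
  simpa using inv_mem hc

/-- Moving the parameter of `sg u (c • t)` by a rational element or by one with parameter `d`. -/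
theorem hop_mem {u t s t' : ι → F} (hQu : Q u = 0) (hQt : Q t = 0) (hut : B u t = 0) (hQs : Q s = 0)
    (hus : B u s = 0) (hts : B t s = 1) (hQt' : Q t' = 0) (hut' : B u t' = 0) (hst' : B s t' = 0)
    (htt' : B t t' = 0) {c d : F} (hc : sg Q u (c • t) ∈ M) (hd : sg Q s (d • t') ∈ M) :
    sg Q u ((c * d) • t') ∈ M := by
  have hsd : B s (d • t') = 0 := by rw [B_smul_right Q, hst', mul_zero]
  have hfix : act (sg Q s (d • t')) u = u :=
    act_sg_fix Q hQs hsd ((B_comm Q s u).trans hus) (by rw [B_smul_left Q, B_comm Q t' u, hut', mul_zero])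
  have h := (sg_diff_mem (sg_mem_iso Q s _) hd hQu (by rw [B_smul_right Q, hut, mul_zero]) hc hfix).2
  rw [act_sg Q hQs hsd, B_smul_right Q, B_comm Q s t, hts, B_smul_left Q, B_smul_right Q, B_comm Q t' t, htt',
    Q_smul Q, hQt'] at h
  convert h using 2
  module

theorem coef_step {u t t₂ : ι → F} (h : IsRatLine Q F₀ P u t) (h₂ : IsRatLine Q F₀ P u t₂) (htt : B t t₂ = 0)
    (hind : t ∉ Submodule.span F (Set.range ![u, t₂])) {c : F} (hc : sg Q u (c • t) ∈ M) :
    sg Q u (c • t₂) ∈ M := by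
  obtain ⟨hu, ht, hQu, hQt, hut, -, -⟩ := h
  obtain ⟨-, ht₂, -, hQt₂, hut₂, -, -⟩ := h₂
  obtain ⟨s, hs, hQs, hsv, hts⟩ := exists_rat_partner hP hQ (v := ![u, t₂])
    (by intro i; fin_cases i <;> assumption) ht hQt
    (by intro i; fin_cases i <;> simp [hut, B_comm Q t₂ t, htt]) hind
  have h1 := hop_mem hP hQ hn hS hQu hQt hut hQs (hsv 0) hts hQt₂ hut₂
    ((B_comm Q s t₂).trans (hsv 1)) htt hc (d := 1) (by rw [one_smul]; exact hS s hs t₂ ht₂)
  rwa [mul_one] at h1

theorem coef_same {u t t₂ : ι → F} (h : IsRatLine Q F₀ P u t) (h₂ : IsRatLine Q F₀ P u t₂) {c : F}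
    (hc : sg Q u (c • t) ∈ M) : sg Q u (c • t₂) ∈ M := by
  obtain ⟨hu, ht, hQu, hQt, hut, hu0, htu⟩ := id h
  obtain ⟨-, ht₂, -, hQt₂, hut₂, -, ht₂u⟩ := id h₂
  by_cases hgood : B t t₂ = 0 ∧ t ∉ Submodule.span F (Set.range ![u, t₂])
  · exact coef_step hP hQ hn hS h h₂ hgood.1 hgood.2 hc
  obtain ⟨m, hm, hQm, hum, htm, ht₂m, hmt, hmt₂, hmu⟩ : ∃ m ∈ ratVec F₀ P, Q m = 0 ∧ B u m = 0 ∧ B t m = 0 ∧
      B t₂ m = 0 ∧ t ∉ Submodule.span F (Set.range ![u, m]) ∧ m ∉ Submodule.span F (Set.range ![u, t₂]) ∧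
      m ∉ F ∙ u := by
    have hflip : ∀ {p m : ι → F}, p ∉ F ∙ u → m ∉ Submodule.span F (Set.range ![u, p]) →
        p ∉ Submodule.span F (Set.range ![u, m]) := by
      intro p m hp hmp e
      obtain ⟨a, b, hab⟩ := mem_span_pair_iff_range.1 e
      rcases eq_or_ne b 0 with rfl | hb
      · exact hp (Submodule.mem_span_singleton.2 ⟨a, by rw [← hab, zero_smul, add_zero]⟩)
      · refine hmp (mem_span_pair_iff_range.2 ⟨-(b⁻¹ * a), b⁻¹, ?_⟩)
        rw [← hab, smul_add, smul_smul, smul_smul, inv_mul_cancel₀ hb, one_smul, neg_smul]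
        abel
    by_cases hB : B t t₂ = 0
    · have hdep : t ∈ Submodule.span F (Set.range ![u, t₂]) := by
        by_contra h'
        exact hgood ⟨hB, h'⟩
      have hv : ∀ i, ![u, t₂] i ∈ ratVec F₀ P := by intro i; fin_cases i <;> assumption
      obtain ⟨m, hm, hQm, -, hmv, hmn⟩ := exists_rat_singular hP hQ ![u, t₂] hv ![u, t₂] hv (by omega)
      have hle : Submodule.span F (Set.range ![u, t]) ≤ Submodule.span F (Set.range ![u, t₂]) := by
        rw [Submodule.span_le]
        rintro _ ⟨i, rfl⟩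
        fin_cases i
        · exact Submodule.subset_span ⟨0, rfl⟩
        · exact hdep
      obtain ⟨a, b, hab⟩ := mem_span_pair_iff_range.1 hdep
      refine ⟨m, hm, hQm, hmv 0, ?_, hmv 1, hflip htu fun h' => hmn (hle h'), hmn, fun e => hmn ?_⟩
      · rw [← hab, B_add_left Q, B_smul_left Q, B_smul_left Q]
        rw [show B u m = 0 from hmv 0, show B t₂ m = 0 from hmv 1]; ring
      · exact Submodule.span_mono (by rintro _ rfl; exact ⟨0, rfl⟩) e
    have hv : ∀ i, ![u, t, t₂] i ∈ ratVec F₀ P := by intro i; fin_cases i <;> assumption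
    obtain ⟨m, hm, hQm, -, hmv, hmn⟩ := exists_rat_singular hP hQ ![u, t, t₂] hv ![u]
      (fun i => by fin_cases i; exact hu) (by omega)
    have hnot : ∀ p, B p p = 0 → B u p = 0 → ∀ q, B p q ≠ 0 → B u q = 0 → B q m = 0 →
        m ∉ Submodule.span F (Set.range ![u, p]) := by
      intro p _ _ q hpq huq hqm e
      obtain ⟨a, b, hab⟩ := mem_span_pair_iff_range.1 e
      rw [← hab, B_add_right Q, B_smul_right Q, B_smul_right Q, B_comm Q q u, huq, mul_zero, zero_add,
        B_comm Q q p, mul_eq_zero, or_iff_left hpq] at hqm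
      subst hqm
      exact hmn (Submodule.mem_span_range_iff_exists_fun _ |>.2 ⟨fun _ => a, by
        simpa using hab⟩)
    refine ⟨m, hm, hQm, hmv 0, hmv 1, hmv 2,
      hflip htu (hnot t (B_self_of_singular Q hQt) hut t₂ hB hut₂ (hmv 2)),
      hnot t₂ (B_self_of_singular Q hQt₂) hut₂ t (by rwa [B_comm Q]) hut (hmv 1),
      fun e => hmn (Submodule.span_mono (by rintro _ rfl; exact ⟨0, rfl⟩) e)⟩
  have hline : IsRatLine Q F₀ P u m := ⟨hu, hm, hQu, hQm, hum, hu0, hmu⟩
  exact coef_step hP hQ hn hS hline h₂ ((B_comm Q m t₂).trans ht₂m) hmt₂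
    (coef_step hP hQ hn hS h hline htm hmt hc)

theorem coef_all {u t u' t' : ι → F} (h : IsRatLine Q F₀ P u t) (h' : IsRatLine Q F₀ P u' t') {c : F}
    (hc : sg Q u (c • t) ∈ M) : sg Q u' (c • t') ∈ M := by
  have hv : ∀ i, ![u, u'] i ∈ ratVec F₀ P := by
    intro i; fin_cases i
    · exact h.1
    · exact h'.1
  obtain ⟨m, hm, hQm, hm0, hmv, hmn⟩ := exists_rat_singular hP hQ ![u, u'] hv ![u, u'] hv (by omega)
  have hline : IsRatLine Q F₀ P u m := ⟨h.1, hm, h.2.2.1, hQm, hmv 0, h.2.2.2.2.2.1,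
    fun e => hmn (Submodule.span_mono (by rintro _ rfl; exact ⟨0, rfl⟩) e)⟩
  have hline' : IsRatLine Q F₀ P u' m := ⟨h'.1, hm, h'.2.2.1, hQm, hmv 1, h'.2.2.2.2.2.1,
    fun e => hmn (Submodule.span_mono (by rintro _ rfl; exact ⟨1, rfl⟩) e)⟩
  exact coef_same hP hQ hn hS hline' h' (swap_mem hline'.symm
    (coef_same hP hQ hn hS hline.symm hline'.symm (swap_mem hline (coef_same hP hQ hn hS h hline hc))))

omit hS in
theorem exists_rat_line : ∃ u t, IsRatLine Q F₀ P u t := by
  obtain ⟨u, hu, hQu, hu0, -, -⟩ := exists_rat_singular hP hQ (![] : Fin 0 → ι → F) (fun i => i.elim0)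
    (![] : Fin 0 → ι → F) (fun i => i.elim0) (by omega)
  obtain ⟨t, ht, hQt, -, htv, htn⟩ := exists_rat_singular hP hQ ![u] (fun i => by fin_cases i; exact hu) ![u]
    (fun i => by fin_cases i; exact hu) (by omega)
  exact ⟨u, t, hu, ht, hQu, hQt, htv 0, hu0, fun e => htn (Submodule.span_mono (by rintro _ rfl; exact ⟨0, rfl⟩) e)⟩

/-- A seed yields an irrational coefficient on a rational line. -/
theorem exists_coef_of_seed (hseed : Seed Q F₀ P M) :
    ∃ c : F, c ∉ F₀ ∧ ∀ u t, IsRatLine Q F₀ P u t → sg Q u (c • t) ∈ M := by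
  obtain ⟨u, hu, w, hQu, hu0, huw, hw, hirr⟩ := hseed
  have hu1 : ∀ i, ![u] i ∈ ratVec F₀ P := fun i => by fin_cases i; exact hu
  obtain ⟨s, hs, hQs, hs0, hus, hsu, hsw⟩ : ∃ s ∈ ratVec F₀ P, Q s = 0 ∧ s ≠ 0 ∧ B u s = 0 ∧
      s ∉ Submodule.span F (Set.range ![u]) ∧ B s w ∉ F₀ := by
    by_contra hno
    push Not at hno
    obtain ⟨v, hv, hv1, huv⟩ := exists_rat_dual hP hQ (![] : Fin 0 → ι → F) (fun i => i.elim0) hu
      (by simpa using hu0)
    let N : Submodule F₀ (ι → F) :=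
      { carrier := {y | B y w ∈ F₀}
        add_mem' := fun {a b} ha hb => by
          show B (a + b) w ∈ F₀
          rw [B_add_left Q]; exact F₀.add_mem ha hb
        zero_mem' := by show B 0 w ∈ F₀; rw [B_zero_left Q]; exact F₀.zero_mem
        smul_mem' := fun a y hy => by
          show B ((a : F) • y) w ∈ F₀
          rw [B_smul_left Q]; exact F₀.mul_mem a.2 hy }
    have hall := le_of_singular_rat hP hQ ![u] hu1 (by omega) N fun y hy hQy hy0 huy hyn =>
      hno y hy hQy hy0 (huy 0) hyn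
    refine hirr (-B v w) (mem_rat_of_pairing hP hQ fun y hy => ?_)
    have h1 : B (y - B u y • v) w ∈ F₀ := hall _ ((ratVec F₀ P).sub_mem hy (ratVec_smul (B_rat hP hu hy) hv))
      fun i => by
        fin_cases i
        show B u (y - B u y • v) = 0
        rw [B_sub_right Q, B_smul_right Q, huv]; ring
    rw [B_sub_left Q, B_smul_left Q] at h1
    rw [B_add_right Q, B_smul_right Q, B_comm Q y u]
    convert h1 using 1; ring
  have hv2 : ∀ i, ![u, s] i ∈ ratVec F₀ P := by intro i; fin_cases i <;> assumption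
  obtain ⟨t, ht, hQt, -, htv, htn⟩ := exists_rat_singular hP hQ ![u, s] hv2 ![u, s] hv2 (by omega)
  have hut : B u t = 0 := htv 0
  have hst : B s t = 0 := htv 1
  have hd := sg_diff_mem (sg_mem_iso Q s t) (hS s hs t ht) hQu huw hw
    (act_sg_fix Q hQs hst ((B_comm Q s u).trans hus) ((B_comm Q t u).trans hut))
  rw [act_sg_long hQs hQt hst] at hd
  obtain ⟨s', hs', hQs', hsv', hts'⟩ := exists_rat_partner hP hQ hv2 ht hQt htv htn
  have hs's : B s' s = 0 := (B_comm Q s' s).trans (hsv' 1)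
  have hd' := sg_diff_mem (sg_mem_iso Q s' s) (hS s' hs' s hs) hQu hd.1 hd.2
    (act_sg_fix Q hQs' hs's ((B_comm Q s' u).trans (hsv' 0)) ((B_comm Q s u).trans hus))
  refine ⟨B s w, hsw, fun u' t'' h => coef_all hP hQ hn hS (u := u) (t := s) ⟨hu, hs, hQu, hQs, hus, hu0,
    fun e => hsu (Submodule.span_mono (by rintro _ rfl; exact ⟨0, rfl⟩) e)⟩ h ?_⟩
  convert hd'.2 using 2
  rw [act_sg_long hQs' hQs hs's]
  simp only [B_add_right Q, B_sub_right Q, B_smul_right Q, B_comm Q s' t, hts', hs's, hst,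
    B_self_of_singular Q hQs]
  module

theorem omega_le_of_seed (r : ℕ) (hr : r.Prime) (hcard : Nat.card F = Nat.card F₀ ^ r)
    (hseed : Seed Q F₀ P M) : Cfsg.Geo.omegaGL Q ≤ M := by
  obtain ⟨c, hc, hcM⟩ := exists_coef_of_seed hP hQ hn hS hseed
  let C : Subalgebra F₀ F :=
    { carrier := {c | ∀ u t, IsRatLine Q F₀ P u t → sg Q u (c • t) ∈ M}
      add_mem' := fun {a b} ha hb u t h => by
        rw [add_smul, ← sg_add Q h.2.2.1 (by rw [B_smul_right Q, h.2.2.2.2.1, mul_zero])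
          (by rw [B_smul_right Q, h.2.2.2.2.1, mul_zero])]
        exact mul_mem (ha u t h) (hb u t h)
      mul_mem' := fun {a b} ha hb u t h => by
        obtain ⟨hu, ht, hQu, hQt, hut, hu0, htu⟩ := id h
        have hv : ∀ i, ![u, t] i ∈ ratVec F₀ P := by intro i; fin_cases i <;> assumption
        obtain ⟨m, hm, hQm, -, hmv, hmn⟩ := exists_rat_singular hP hQ ![u, t] hv ![u, t] hv (by omega)
        obtain ⟨s, hs, hQs, hsv, hms⟩ := exists_rat_partner hP hQ hv hm hQm hmv hmn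
        refine hop_mem hP hQ hn hS hQu hQm (hmv 0) hQs (hsv 0) hms hQt hut ((B_comm Q s t).trans (hsv 1))
          ((B_comm Q m t).trans (hmv 1)) (ha u m ⟨hu, hm, hQu, hQm, hmv 0, hu0,
            fun e => hmn (Submodule.span_mono (by rintro _ rfl; exact ⟨0, rfl⟩) e)⟩)
          (hb s t ⟨hs, ht, hQs, hQt, (B_comm Q s t).trans (hsv 1), fun e => ?_, fun e => ?_⟩)
        · rw [e, B_zero_right Q] at hms; exact zero_ne_one hms
        · obtain ⟨d, hd⟩ := Submodule.mem_span_singleton.1 e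
          have h1 : B m (d • s) = 0 := by rw [hd, B_comm Q m t]; exact hmv 1
          rw [B_smul_right Q, hms, mul_one] at h1
          rw [h1, zero_smul] at hd
          exact htu (hd ▸ Submodule.zero_mem _)
      algebraMap_mem' := fun e u t h => hS u h.1 _ (ratVec_smul e.2 h.2.1) }
  haveI := Fintype.ofFinite F₀
  have hrank : finrank F₀ F = r := by
    have e := Module.natCard_eq_pow_finrank (K := F₀) (V := F)
    rw [hcard] at e
    exact (Nat.pow_right_injective (Finite.one_lt_card (α := F₀)) e).symm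
  haveI := Subalgebra.isSimpleOrder_of_finrank_prime F₀ F (hrank ▸ hr)
  have hC : C = ⊤ := (IsSimpleOrder.eq_bot_or_eq_top C).resolve_left fun h => hc (by
    have : c ∈ C := hcM
    rw [h, Algebra.mem_bot] at this
    obtain ⟨e, rfl⟩ := this
    exact e.2)
  have full : ∀ u ∈ ratVec F₀ P, Q u = 0 → u ≠ 0 → Full Q M u := by
    intro u hu hQu hu0 w hw
    let N : Submodule F (ι → F) :=
      { carrier := {y | B u y = 0 ∧ ∀ c : F, sg Q u (c • y) ∈ M}
        add_mem' := fun {a b} ha hb => ⟨by rw [B_add_right Q, ha.1, hb.1, add_zero], fun c => by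
          rw [smul_add, ← sg_add Q hQu (by rw [B_smul_right Q, ha.1, mul_zero])
            (by rw [B_smul_right Q, hb.1, mul_zero])]
          exact mul_mem (ha.2 c) (hb.2 c)⟩
        zero_mem' := ⟨B_zero_right Q u, fun c => by rw [smul_zero, sg_zero]; exact one_mem _⟩
        smul_mem' := fun a y hy => ⟨by rw [B_smul_right Q, hy.1, mul_zero], fun c => by
          rw [smul_smul]; exact hy.2 _⟩ }
    have hall := le_of_singular_rat hP hQ ![u] (fun i => by fin_cases i; exact hu) (by omega)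
      (N.restrictScalars F₀) fun y hy hQy hy0 huy hyn => ⟨huy 0, fun d =>
        (hC ▸ Algebra.mem_top : d ∈ C) u y ⟨hu, hy, hQu, hQy, huy 0, hu0,
          fun e => hyn (Submodule.span_mono (by rintro _ rfl; exact ⟨0, rfl⟩) e)⟩⟩
    obtain ⟨m, d, z, hd, hz, rfl⟩ := exists_decomp (F₀ := F₀) (P := P) w
    have hz0 : ∀ j, B u (z j) = 0 := fun j => coeff_zero hd (fun j => B_rat hP hu (hz j)) (by
      rw [← hw]
      show _ = QuadraticMap.polarBilin Q u _
      simp [map_sum, mul_comm]) j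
    have hmem : ∑ j, d j • z j ∈ N := N.sum_mem fun j _ => N.smul_mem _ (hall (z j) (hz j) fun i => by
      fin_cases i; exact hz0 j)
    have := hmem.2 1
    rwa [one_smul] at this
  obtain ⟨u, hu, hQu, hu0, -, -⟩ := exists_rat_singular hP hQ (![] : Fin 0 → ι → F) (fun i => i.elim0)
    (![] : Fin 0 → ι → F) (fun i => i.elim0) (by omega)
  obtain ⟨v, hv, hQv, -, huv⟩ := exists_rat_partner hP hQ (v := (![] : Fin 0 → ι → F)) (fun i => i.elim0) hu hQu
    (fun i => i.elim0) (by simpa using hu0)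
  exact omega_le_of_full hQ (by omega) hQu hQv (by rw [huv]; exact one_ne_zero) (full u hu hQu hu0)
    (full v hv hQv fun e => by rw [e, B_zero_right Q] at huv; exact zero_ne_one huv)

/-! ### Without a seed -/

variable (hns : ¬ Seed Q F₀ P M)
include hns

omit [Finite F] hP hQ hn hS in
theorem rat_of_noSeed {u w : ι → F} (hu : u ∈ ratVec F₀ P) (hQu : Q u = 0) (hu0 : u ≠ 0) (huw : B u w = 0)
    (h : sg Q u w ∈ M) : ∃ c : F, w + c • u ∈ ratVec F₀ P := by
  by_contra hc
  push Not at hc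
  exact hns ⟨u, hu, w, hQu, hu0, huw, h, hc⟩

/-- A parameter of `M` at an irrational point is orthogonal to a rational singular vector `s` moving it. -/
theorem sg_param_perp {x b s w w' : ι → F} (hQx : Q x = 0) (hxb : B x b = 0) (hr : sg Q x b ∈ M)
    (hs : s ∈ ratVec F₀ P) (hQs : Q s = 0) (hs0 : s ≠ 0) (hxs : B x s = 0)
    (hw : w ∈ ratVec F₀ P) (hsw : B s w = 0) (hxw : B x w = 0)
    (hw' : w' ∈ ratVec F₀ P) (hsw' : B s w' = 0) (hxw' : B x w' = 0) (hww : B w w' ≠ 0)
    (hx2 : ∀ r ∈ ratVec F₀ P, ∀ a c : F, a • s + c • r ≠ x) : B s b = 0 := by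
  by_contra hne
  obtain ⟨h1, hm1⟩ := sg_diff_mem (sg_mem_iso Q s w) (hS s hs w hw) hQx hxb hr
    (act_sg_fix Q hQs hsw ((B_comm Q s x).trans hxs) ((B_comm Q w x).trans hxw))
  obtain ⟨h2, hm2⟩ := sg_diff_mem (sg_mem_iso Q s w') (hS s hs w' hw') hQx h1 hm1
    (act_sg_fix Q hQs hsw' ((B_comm Q s x).trans hxs) ((B_comm Q w' x).trans hxw'))
  set γ := B s b * B w' w with hγdef
  have hγ : γ ≠ 0 := mul_ne_zero hne (by rwa [B_comm Q])
  have hm : sg Q x ((-γ) • s) ∈ M := by
    convert hm2 using 2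
    rw [hγdef, act_sg Q hQs hsw', act_sg Q hQs hsw]
    simp only [B_add_right Q, B_sub_right Q, B_smul_right Q, B_self_of_singular Q hQs, hsw,
      B_comm Q w' s, hsw']
    module
  rw [← sg_smul_left Q hQx hxs, sg_antisymm (by rw [Q_smul Q, hQx, mul_zero]) hQs
    (by rw [B_smul_left Q, hxs, mul_zero])] at hm
  have hsx : B s (-((-γ) • x)) = 0 := by
    rw [B_neg_right Q, B_smul_right Q, B_comm Q s x, hxs, mul_zero, neg_zero]
  obtain ⟨c, hc⟩ := rat_of_noSeed hns hs hQs hs0 hsx hm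
  refine hx2 _ hc (-(γ⁻¹ * c)) γ⁻¹ ?_
  match_scalars <;> field_simp <;> ring

/-- A parameter of `M` at an irrational point in the span of few rational vectors, against a rational singular
vector orthogonal to that span and outside it. -/
theorem sg_param_perp_of_notMem {k : ℕ} (hk : k ≤ 2) {v : Fin k → ι → F}
    (hv : ∀ i, v i ∈ ratVec F₀ P) {x b : ι → F} (hx : x ∈ Submodule.span F (Set.range v)) (hQx : Q x = 0)
    (hirr : ∀ c : F, c ≠ 0 → c • x ∉ ratVec F₀ P) (hxb : B x b = 0) (hr : sg Q x b ∈ M) {s : ι → F}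
    (hs : s ∈ ratVec F₀ P) (hQs : Q s = 0) (hs0 : s ≠ 0) (hsv : ∀ i, B (v i) s = 0)
    (hsn : s ∉ Submodule.span F (Set.range v)) : B s b = 0 := by
  have hvs : ∀ i, (Fin.cons s v : Fin (k + 1) → ι → F) i ∈ ratVec F₀ P := Fin.forall_fin_succ.2 ⟨hs, hv⟩
  obtain ⟨w, hw, w', hw', hwv, hwv', hww⟩ := exists_rat_pair hP hQ _ hvs (by omega)
  rw [Fin.forall_fin_succ] at hwv hwv'
  simp only [Fin.cons_zero, Fin.cons_succ] at hwv hwv'
  refine sg_param_perp hP hQ hn hS hns hQx hxb hr hs hQs hs0 (B_span_eq_zero hx hsv) hw hwv.1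
    (B_span_eq_zero hx hwv.2) hw' hwv'.1 (B_span_eq_zero hx hwv'.2) hww fun r hr' a c e => ?_
  obtain ⟨z, hz, hzv, hsz⟩ := exists_rat_dual hP hQ v hv hs hsn
  have h0 : a + c * B r z = 0 := by
    have := B_span_eq_zero hx hzv
    rwa [← e, B_add_left Q, B_smul_left Q, B_smul_left Q, hsz, mul_one] at this
  have hxe : x = c • (r - B r z • s) := by
    rw [← e, eq_neg_of_add_eq_zero_left h0]; module
  rcases eq_or_ne c 0 with rfl | hc
  · have hx0 : x = 0 := by rw [hxe, zero_smul]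
    exact hirr 1 one_ne_zero (by rw [hx0, smul_zero]; exact (ratVec F₀ P).zero_mem)
  · refine hirr c⁻¹ (inv_ne_zero hc) ?_
    rw [hxe, smul_smul, inv_mul_cancel₀ hc, one_smul]
    exact (ratVec F₀ P).sub_mem hr' (ratVec_smul (B_rat hP hr' hz) hs)

omit hn hS hns [Finite F] hQ hP in
theorem exists_pair_span {x : ι → F} (h : ¬ ∀ r ∈ ratVec F₀ P, ∀ r' ∈ ratVec F₀ P, ∀ a c : F, a • r + c • r' ≠ x) :
    ∃ v : Fin 2 → ι → F, (∀ i, v i ∈ ratVec F₀ P) ∧ x ∈ Submodule.span F (Set.range v) := by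
  push Not at h
  obtain ⟨r, hr, r', hr', a, c, e⟩ := h
  exact ⟨![r, r'], fun i => by fin_cases i <;> assumption, mem_span_pair_iff_range.2 ⟨a, c, e⟩⟩

theorem exists_smul_rat {g : GL ι F} (hg : g ∈ M) (hgI : g ∈ isometryGroup F Q) {u : ι → F}
    (hu : u ∈ ratVec F₀ P) (hQu : Q u = 0) (hu0 : u ≠ 0) {k : ℕ} {v : Fin k → ι → F} (hk : Wide Q F₀ P v)
    (hv : ∀ i, v i ∈ ratVec F₀ P) (hgu : act g u ∈ Submodule.span F (Set.range v)) :
    ∃ c : F, c ≠ 0 ∧ c • act g u ∈ ratVec F₀ P := by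
  by_contra hno
  push Not at hno
  have hgu0 : act g u ≠ 0 := fun e => hu0 (act_injective g (e.trans (map_zero _).symm))
  have hQgu : Q (act g u) = 0 := by rw [Q_act hgI, hQu]
  -- one rational vector orthogonal to all parameters at `act g u` is enough
  suffices hs : ∃ s ∈ ratVec F₀ P, s ≠ 0 ∧
      ∀ b, B (act g u) b = 0 → sg Q (act g u) b ∈ M → B s b = 0 by
    obtain ⟨s, hs, hs0, hsb⟩ := hs
    have hsu : act g⁻¹ s ∈ F ∙ u := by
      rw [← perp_perp hQ (F ∙ u), mem_perp]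
      intro y hy
      have huy : B u y = 0 := hy u (Submodule.mem_span_singleton_self u)
      obtain ⟨m, d, z, hd, hz, rfl⟩ := exists_decomp (F₀ := F₀) (P := P) y
      have hz0 : ∀ j, B (z j) (act g⁻¹ s) = 0 := fun j => by
        have huz : B u (z j) = 0 := coeff_zero hd (fun j => B_rat hP hu (hz j)) (by
          rw [← huy]
          show _ = QuadraticMap.polarBilin Q u _
          simp [map_sum, mul_comm]) j
        rw [← B_act hgI, act_act_inv, B_comm Q]
        refine hsb _ (by rw [B_act hgI, huz]) ?_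
        rw [← conj_sg Q hgI]
        exact mul_mem (mul_mem hg (hS u hu _ (hz j))) (inv_mem hg)
      show QuadraticMap.polarBilin Q _ _ = 0
      simp [map_sum, hz0]
    obtain ⟨d, hd⟩ := Submodule.mem_span_singleton.1 hsu
    have hds : d • act g u = s := by rw [← map_smul, hd, act_act_inv]
    exact hno d (fun e => hs0 (by rw [← hds, e, zero_smul])) (hds.symm ▸ hs)
  by_cases h2 : ∀ r ∈ ratVec F₀ P, ∀ r' ∈ ratVec F₀ P, ∀ a c : F, a • r + c • r' ≠ act g u
  · obtain ⟨s, hs, w, hw, w', hw', hQs, hs0, hsv, hwv, hwv', hsw, hsw', hww⟩ := hk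
    exact ⟨s, hs, hs0, fun b hxb hr => sg_param_perp hP hQ hn hS hns hQgu hxb hr hs hQs hs0
      (B_span_eq_zero hgu hsv) hw hsw (B_span_eq_zero hgu hwv) hw' hsw' (B_span_eq_zero hgu hwv') hww
      fun r hr' a c => h2 s hs r hr' a c⟩
  · obtain ⟨v', hv', hgu'⟩ := exists_pair_span h2
    obtain ⟨s, hs, hQs, hs0, hsv, hsn⟩ := exists_rat_singular hP hQ v' hv' v' hv' (by omega)
    exact ⟨s, hs, hs0, fun b hxb hr => sg_param_perp_of_notMem hP hQ hn hS hns le_rfl hv' hgu' hQgu hno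
      hxb hr hs hQs hs0 hsv hsn⟩

/-- The parameters of `M` at an irrational point of the span of at most two rational vectors lie in that span. -/
theorem mem_span_of_sg {k : ℕ} (hk : k ≤ 2) {v : Fin k → ι → F} (hv : ∀ i, v i ∈ ratVec F₀ P)
    {x b : ι → F} (hx : x ∈ Submodule.span F (Set.range v)) (hQx : Q x = 0)
    (hirr : ∀ c : F, c ≠ 0 → c • x ∉ ratVec F₀ P) (hxb : B x b = 0) (hr : sg Q x b ∈ M) :
    b ∈ Submodule.span F (Set.range v) := by
  refine mem_span_of_rat hP hQ v hv (by omega) fun s hs hQs hs0 hsv hsn => ?_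
  rw [B_comm Q b s]
  exact sg_param_perp_of_notMem hP hQ hn hS hns hk hv hx hQx hirr hxb hr hs hQs hs0 hsv hsn

/-- An element of `M` mapping a rational singular point into a small rational subspace is in the subfield group. -/
theorem mem_subfield_of_point {g : GL ι F} (hg : g ∈ M) (hgI : g ∈ isometryGroup F Q) {u : ι → F}
    (hu : u ∈ ratVec F₀ P) (hQu : Q u = 0) (hu0 : u ≠ 0) {k : ℕ} {v : Fin k → ι → F} (hk : Wide Q F₀ P v)
    (hv : ∀ i, v i ∈ ratVec F₀ P) (hgu : act g u ∈ Submodule.span F (Set.range v)) :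
    g ∈ Cfsg.Geo.subfieldSubgroup F₀ P := by
  obtain ⟨c, hc0, hcu⟩ := exists_smul_rat hP hQ hn hS hns hg hgI hu hQu hu0 hk hv hgu
  have step : ∀ u v, u ∈ ratVec F₀ P → Q u = 0 → u ≠ 0 → v ∈ ratVec F₀ P → Q v = 0 → B u v = 0 →
      v ∉ F ∙ u → ∀ c : F, c ≠ 0 → c • act g u ∈ ratVec F₀ P → c⁻¹ • act g v ∈ ratVec F₀ P := by
    intro u v hu hQu hu0 hv hQv huv hvu c hc hcu
    set u' := c • act g u with hu'
    have hgu' : act g u = c⁻¹ • u' := by rw [hu', smul_smul, inv_mul_cancel₀ hc, one_smul]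
    have hu'0 : u' ≠ 0 :=
      smul_ne_zero hc fun e => hu0 (act_injective g (e.trans (map_zero _).symm))
    have hQu' : Q u' = 0 := by rw [hu', Q_smul Q, Q_act hgI, hQu, mul_zero]
    have hu'v : B u' (act g v) = 0 := by rw [hu', B_smul_left Q, B_act hgI, huv, mul_zero]
    have hmem : sg Q u' (c⁻¹ • act g v) ∈ M := by
      rw [← sg_smul_left Q hQu' hu'v, ← hgu', ← conj_sg Q hgI]
      exact mul_mem (mul_mem hg (hS u hu v hv)) (inv_mem hg)
    obtain ⟨e, hy⟩ := rat_of_noSeed hns hcu hQu' hu'0 (by rw [B_smul_right Q, hu'v, mul_zero]) hmem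
    set y := c⁻¹ • act g v + e • u' with hydef
    have hgv : act g v = c • y + (-(c * e)) • u' := by
      rw [hydef, smul_add, smul_smul, smul_smul, mul_inv_cancel₀ hc, one_smul]; module
    have hrat : ∀ i, ![y, u'] i ∈ ratVec F₀ P := by intro i; fin_cases i <;> assumption
    obtain ⟨a, ha, haL⟩ := exists_smul_rat hP hQ hn hS hns hg hgI hv hQv
      (fun e0 => hvu (by rw [e0]; exact Submodule.zero_mem _)) (k := 2) (wide_of_le hP hQ hn hrat (by omega)) hrat
      (mem_span_pair_iff_range.2 ⟨c, -(c * e), hgv.symm⟩)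
    have hyu : y ∉ Submodule.span F (Set.range ![u']) := by
      intro hm
      obtain ⟨d, hd⟩ : ∃ d : F, d • u' = y := by simpa [Submodule.mem_span_singleton] using hm
      apply hvu
      refine Submodule.mem_span_singleton.2 ⟨(c * d - c * e) * c, act_injective g ?_⟩
      rw [map_smul, hgv, ← hd, hu', smul_smul, smul_smul, smul_smul, ← add_smul]
      congr 1; ring
    have huy : u' ∉ Submodule.span F (Set.range ![y]) := by
      intro hm
      obtain ⟨d, hd⟩ : ∃ d : F, d • y = u' := by simpa [Submodule.mem_span_singleton] using hm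
      refine hyu (Submodule.mem_span_range_iff_exists_fun _ |>.2 ⟨fun _ => d⁻¹, ?_⟩)
      have hd0 : d ≠ 0 := fun e => hu'0 (by rw [← hd, e, zero_smul])
      simp [← hd, smul_smul, inv_mul_cancel₀ hd0]
    obtain ⟨z, hz, hzu, hzy⟩ := exists_rat_dual hP hQ ![u'] (fun i => by fin_cases i; exact hcu) hy hyu
    obtain ⟨z', hz', hzy', hzu'⟩ := exists_rat_dual hP hQ ![y] (fun i => by fin_cases i; exact hy) hcu huy
    have h1 := B_rat hP haL hz
    have h2 := B_rat hP haL hz'
    have e1 : B u' z = 0 := hzu 0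
    have e2 : B y z' = 0 := hzy' 0
    simp only [hgv, smul_add, B_add_left Q, B_smul_left Q, e1, e2, hzy, hzu', mul_one, mul_zero, add_zero,
      zero_add] at h1 h2
    have heF : e ∈ F₀ := by
      have := F₀.neg_mem (F₀.div_mem h2 h1)
      rwa [show -(a * -(c * e) / (a * c)) = e by field_simp] at this
    have := (ratVec F₀ P).sub_mem hy (ratVec_smul heF hcu)
    rwa [hydef, add_sub_cancel_right] at this
  have hall : ∀ w ∈ ratVec F₀ P, Q w = 0 → c • act g w ∈ ratVec F₀ P := by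
    intro w hw hQw
    rcases eq_or_ne w 0 with rfl | hw0
    · simp [(ratVec F₀ P).zero_mem]
    have huw : ∀ i, ![u, w] i ∈ ratVec F₀ P := by intro i; fin_cases i <;> assumption
    obtain ⟨m, hm, hQm, hm0, hmv, hmn⟩ := exists_rat_singular hP hQ ![u, w] huw ![u, w] huw (by omega)
    have h1 := step u m hu hQu hu0 hm hQm (hmv 0)
      (fun e => hmn (Submodule.span_mono (by rintro _ rfl; exact ⟨0, rfl⟩) e)) c hc0 hcu
    have h2 := step m w hm hQm hm0 hw hQw ((B_comm Q m w).trans (hmv 1)) (fun e => ?_) c⁻¹ (inv_ne_zero hc0) h1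
    · rwa [inv_inv] at h2
    · obtain ⟨d, rfl⟩ := Submodule.mem_span_singleton.1 e
      have hd : d ≠ 0 := fun e => hw0 (by rw [e, zero_smul])
      apply hmn
      have : d • m ∈ Submodule.span F (Set.range ![u, d • m]) := Submodule.subset_span ⟨1, rfl⟩
      have := Submodule.smul_mem _ d⁻¹ this
      rwa [smul_smul, inv_mul_cancel₀ hd, one_smul] at this
  refine mem_subfieldSubgroup F₀ P (inv_ne_zero hc0) fun x hx => ?_
  rw [inv_inv]
  let N : Submodule F₀ (ι → F) := (ratVec F₀ P).comap ((c • act g).restrictScalars F₀)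
  exact le_of_singular_rat hP hQ (![] : Fin 0 → ι → F) (fun i => i.elim0) (by omega) N
    (fun y hy hQy _ _ _ => hall y hy hQy) x hx fun i => i.elim0

end Cfsg.Agent.MaxCl.Orth
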