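/-
Orthogonal decompositions into blocks of dimension at least three: an overgroup of the stabiliser inside `omegaGL`
contains a transfer.

An overgroup element outside the stabiliser yields a product of two reflections `R_v R_a` with `v` in no block and `a`
in a block; this gives a Siegel element at a singular block vector with parameter outside the block, whose orbit under
the stabiliser exhausts the whole root group.
-/
import Cfsg.Agent.Lib.MaxCl.OrthBlockVal
import Cfsg.Agent.Lib.MaxCl.OrthFrame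
import Cfsg.Agent.Lib.MaxCl.OrthSubfield

set_option autoImplicit false

namespace Cfsg.Agent.MaxCl.Orth

open scoped MatrixGroups Matrix
open Module (finrank)

variable {ι : Type} [Fintype ι] [DecidableEq ι] {F : Type*} [Field F] {Q : QuadraticForm F (ι → F)}

set_option quotPrecheck false in
local notation "B" => QuadraticMap.polar (⇑Q)

variable {t k : ℕ} {D : Fin t → Submodule F (ι → F)}

theorem isSquare_div_three [Fintype F] (h2 : (2 : F) ≠ 0) (a b c : F) :
    IsSquare (b / a) ∨ IsSquare (c / a) ∨ IsSquare (c / b) := by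
  classical
  by_contra h
  push Not at h
  obtain ⟨h1, h3, h4⟩ := h
  have hF : ringChar F ≠ 2 := fun h => h2 (by
    have := CharP.cast_eq_zero F (ringChar F)
    rwa [h, Nat.cast_ofNat] at this)
  have hb0 : b ≠ 0 := fun e => h1 (by rw [e, zero_div]; exact IsSquare.zero)
  have ha0 : a ≠ 0 := fun e => h1 (by rw [e, div_zero]; exact IsSquare.zero)
  have hc0 : c ≠ 0 := fun e => h3 (by rw [e, zero_div]; exact IsSquare.zero)
  have e1 := quadraticChar_neg_one_iff_not_isSquare.2 h1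
  have e2 := quadraticChar_neg_one_iff_not_isSquare.2 h3
  have e3 := quadraticChar_neg_one_iff_not_isSquare.2 h4
  rw [show c / a = (c / b) * (b / a) by field_simp, map_mul, e1, e3] at e2
  norm_num at e2

section Sum

variable (hD : Cfsg.Geo.IsOrthogonalMDecomposition Q k D)
include hD

theorem exists_comps (x : ι → F) : ∃ f : Fin t → ι → F, (∀ i, f i ∈ D i) ∧ x = ∑ i, f i := by
  have hx : x ∈ iSup D := by rw [hD.decomp.decomp.iSup_eq_top]; exact Submodule.mem_top
  obtain ⟨f, hf, hfx⟩ := (Submodule.mem_iSup_iff_exists_finsupp D x).1 hx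
  exact ⟨f, hf, by rw [← hfx, Finsupp.sum_fintype]; simp⟩

theorem B_sum_comps {f : Fin t → ι → F} (hf : ∀ i, f i ∈ D i) {z : ι → F} {i : Fin t} (hz : z ∈ D i) :
    B z (∑ l, f l) = B z (f i) := by
  rw [← QuadraticMap.polarBilin_apply_apply, map_sum, Finset.sum_eq_single i]
  · rfl
  · intro l _ hl; exact block_orth hD hz (hf l) hl.symm
  · simp

theorem comps_unique {f g : Fin t → ι → F} (hf : ∀ i, f i ∈ D i) (hg : ∀ i, g i ∈ D i)
    (h : ∑ l, f l = ∑ l, g l) (i : Fin t) : f i = g i := by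
  rw [← sub_eq_zero]
  refine block_nonDeg hD i _ ((D i).sub_mem (hf i) (hg i)) fun z hz => ?_
  rw [B_sub_left Q, B_comm Q (f i) z, B_comm Q (g i) z, ← B_sum_comps hD hf hz, ← B_sum_comps hD hg hz, h,
    sub_self]

theorem Q_sum_comps {f : Fin t → ι → F} (hf : ∀ i, f i ∈ D i) : Q (∑ l, f l) = ∑ l, Q (f l) := by
  suffices H : ∀ s : Finset (Fin t), Q (∑ l ∈ s, f l) = ∑ l ∈ s, Q (f l) from H _
  intro s
  induction s using Finset.induction with
  | empty => simp
  | @insert a s ha ih =>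
    rw [Finset.sum_insert ha, Finset.sum_insert ha, Q_add Q, ih]
    have : B (f a) (∑ l ∈ s, f l) = 0 := by
      rw [← QuadraticMap.polarBilin_apply_apply, map_sum]
      exact Finset.sum_eq_zero fun l hl => block_orth hD (hf a) (hf l) fun e => ha (e ▸ hl)
    rw [this, add_zero]

theorem mem_stab_of_map {g : GL ι F} (σ : Fin t → Fin t) (hσ : Function.Injective σ)
    (h : ∀ i, ∀ x ∈ D i, act g x ∈ D (σ i)) : g ∈ Cfsg.Geo.decompositionStabilizer D := by
  refine ⟨Equiv.ofBijective σ ⟨hσ, Finite.injective_iff_surjective.1 hσ⟩, fun i => ?_⟩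
  refine Submodule.eq_of_le_of_finrank_eq (fun _ hy => ?_) ?_
  · obtain ⟨x, hx, rfl⟩ := Submodule.mem_map.1 hy
    exact h i x hx
  · rw [hD.decomp.decomp.finrank_eq, ← hD.decomp.decomp.finrank_eq i, toLin'_eq_act]
    exact (LinearEquiv.finrank_eq (Submodule.equivMapOfInjective _ (act_injective g) _)).symm

theorem refl_mem_block {a x : ι → F} {i l : Fin t} (ha : a ∈ D i) (hx : x ∈ D l) : act (refl Q a) x ∈ D l := by
  by_cases hQa : Q a = 0
  · rwa [refl_of_singular Q hQa, act_one]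
  rw [act_refl Q hQa]
  rcases eq_or_ne i l with rfl | hne
  · exact (D i).sub_mem hx ((D i).smul_mem _ ha)
  · rw [block_orth hD ha hx hne]; simpa using hx

theorem refl_pair_mem_stab {a a' : ι → F} {i i' : Fin t} (ha : a ∈ D i) (ha' : a' ∈ D i') :
    refl Q a * refl Q a' ∈ Cfsg.Geo.decompositionStabilizer D :=
  mem_stab_of_map hD id Function.injective_id fun _ x hx => by
    rw [act_mul]; exact refl_mem_block hD ha (refl_mem_block hD ha' hx)

theorem sg_mem_stab {u w : ι → F} {i : Fin t} (hu : u ∈ D i) (hw : w ∈ D i) :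
    sg Q u w ∈ Cfsg.Geo.decompositionStabilizer D := by
  refine mem_stab_of_map hD id Function.injective_id fun l x hx => ?_
  by_cases h : Q u = 0 ∧ B u w = 0
  · rw [act_sg Q h.1 h.2]
    rcases eq_or_ne i l with rfl | hne
    · exact (D i).sub_mem ((D i).add_mem hx ((D i).smul_mem _ hw)) ((D i).smul_mem _ hu)
    · rw [block_orth hD hu hx hne, block_orth hD hw hx hne]; simpa using hx
  · rwa [sg_of_not Q h, act_one]

end Sum

/-- The hypotheses on a decomposition into blocks of dimension at least three. -/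
structure BigBlocks [Fintype F] (Q : QuadraticForm F (ι → F)) (k : ℕ) (D : Fin t → Submodule F (ι → F)) :
    Prop where
  hD : Cfsg.Geo.IsOrthogonalMDecomposition Q k D
  hQ : (QuadraticMap.polarBilin Q).Nondegenerate
  hn : 9 ≤ Fintype.card ι
  hk : 3 ≤ k
  h3 : k = 3 → (2 : F) ≠ 0 ∧ 5 ≤ Fintype.card F
  h4 : k = 4 → Fintype.card F = 2 → ∀ i, ¬ Cfsg.Geo.IsPlusTypeOn Q (D i)

variable (Q D) in
/-- A product of the reflection of a vector outside all blocks and one of a block vector. -/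
def MixedIn (M : Subgroup (GL ι F)) : Prop :=
  ∃ v, Q v ≠ 0 ∧ (∀ i, v ∉ D i) ∧ ∃ i, ∃ a ∈ D i, Q a = Q v ∧ refl Q v * refl Q a ∈ M

variable (Q D) in
/-- A Siegel element at a singular block vector with parameter outside the block. -/
def TransferIn (M : Subgroup (GL ι F)) : Prop :=
  ∃ i, ∃ u ∈ D i, u ≠ 0 ∧ Q u = 0 ∧ ∃ z, B u z = 0 ∧ z ∉ D i ∧ sg Q u z ∈ M

variable [Fintype F]

namespace BigBlocks

variable (H : BigBlocks Q k D)
include H

theorem dim (i : Fin t) : finrank F (D i) = k := H.hD.decomp.decomp.finrank_eq i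

theorem nd (i : Fin t) : NonDeg Q (D i) := block_nonDeg H.hD i

theorem two_le : 2 ≤ t := H.hD.decomp.decomp.two_le

theorem n5 : 5 ≤ Fintype.card ι := by have := H.hn; omega

theorem three_le (hk3 : k = 3) : 3 ≤ t := by
  have := card_eq_mul H.hD
  have := H.hn
  subst hk3
  omega

theorem exists_ne (i : Fin t) : ∃ j : Fin t, j ≠ i := by
  have := H.two_le
  rcases eq_or_ne (i : ℕ) 0 with h | h
  · exact ⟨⟨1, by omega⟩, fun e => by rw [← e] at h; simp at h⟩
  · exact ⟨⟨0, by omega⟩, fun e => h (by rw [← e])⟩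

theorem value (i : Fin t) (c : F) : ∃ a ∈ D i, Q a = c :=
  exists_value H.hQ (H.nd i) (by rw [H.dim]; have := H.hk; omega) c

theorem conn {i : Fin t} {c : F} (hc : c ≠ 0) {N : Submodule F (ι → F)} {a : ι → F} (ha : a ∈ D i)
    (hQa : Q a = c) (haN : a ∈ N)
    (hN : ∀ e ∈ D i, ∀ e' ∈ D i, Q e = c → Q e' = c → e ∈ N → B e e' ≠ 0 → e' ∈ N) : D i ≤ N :=
  value_conn H.hQ (H.nd i) (by rw [H.dim]; exact H.hk) (fun h => H.h3 (by rwa [H.dim] at h))
    (fun h hq => H.h4 (by rwa [H.dim] at h) hq i) hc ha hQa haN hN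

theorem value_B {i : Fin t} {c : F} (hc : c ≠ 0) {v : ι → F} (hv : v ∈ D i) (hv0 : v ≠ 0) :
    ∃ e ∈ D i, Q e = c ∧ B e v ≠ 0 :=
  exists_value_B H.hQ (H.nd i) (by rw [H.dim]; exact H.hk) (fun h => H.h3 (by rwa [H.dim] at h))
    (fun h hq => H.h4 (by rwa [H.dim] at h) hq i) hc hv hv0

theorem pair_mem_omega {a a' : ι → F} (h : Q a = Q a') : refl Q a * refl Q a' ∈ Cfsg.Geo.omegaGL Q := by
  rw [omega_eq_sgGroup H.hQ H.n5]; exact refl_mul_refl_mem H.hQ H.n5 h

variable {M : Subgroup (GL ι F)} (hM : Cfsg.Geo.decompositionStabilizer D ⊓ Cfsg.Geo.omegaGL Q ≤ M)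
include hM

theorem pair_mem {a a' : ι → F} {i i' : Fin t} (ha : a ∈ D i) (ha' : a' ∈ D i') (h : Q a = Q a') :
    refl Q a * refl Q a' ∈ M :=
  hM ⟨refl_pair_mem_stab H.hD ha ha', H.pair_mem_omega h⟩

theorem sg_block_mem {u w : ι → F} {i : Fin t} (hu : u ∈ D i) (hw : w ∈ D i) : sg Q u w ∈ M :=
  hM ⟨sg_mem_stab H.hD hu hw, sg_mem_omega H.hQ H.n5 u w⟩

/-- Without mixed products an element mapping one block vector into a block permutes the blocks. -/
theorem stab_of_image (hno : ¬ MixedIn Q D M) {g : GL ι F} (hg : g ∈ M) (hgI : g ∈ isometryGroup F Q)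
    {i l : Fin t} {a : ι → F} (ha : a ∈ D i) (hQa : Q a ≠ 0) (hl : act g a ∈ D l) :
    g ∈ Cfsg.Geo.decompositionStabilizer D := by
  have himg : ∀ j, ∀ e ∈ D j, Q e = Q a → ∃ m, act g e ∈ D m := by
    intro j e he hQe
    by_contra hn
    push Not at hn
    refine hno ⟨act g e, by rw [Q_act hgI, hQe]; exact hQa, hn, l, act g a, hl, by rw [Q_act hgI, Q_act hgI, hQe], ?_⟩
    have := mul_mem (mul_mem hg (H.pair_mem hM he ha hQe)) (inv_mem hg)
    rwa [show g * (refl Q e * refl Q a) * g⁻¹ = (g * refl Q e * g⁻¹) * (g * refl Q a * g⁻¹) by group,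
      conj_refl Q hgI, conj_refl Q hgI] at this
  have hle : ∀ j, ∃ m, D j ≤ (D m).comap (act g) := by
    intro j
    obtain ⟨e₀, he₀, hQe₀⟩ := H.value j (Q a)
    obtain ⟨m, hm⟩ := himg j e₀ he₀ hQe₀
    refine ⟨m, H.conn hQa he₀ hQe₀ hm fun e he e' he' hQe hQe' hem hne => ?_⟩
    obtain ⟨m', hm'⟩ := himg j e' he' hQe'
    rcases eq_or_ne m m' with rfl | hmm
    · exact hm'
    · exact absurd (block_orth H.hD hem hm' hmm) (by rwa [B_act hgI])
  choose σ hσ using hle
  refine mem_stab_of_map H.hD σ (fun j j' e => ?_) fun j x hx => hσ j hx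
  by_contra hne
  have hd : finrank F ↥((D (σ j)).comap (act g)) ≤ k := by
    rw [← H.dim (σ j), ← LinearEquiv.finrank_eq (Submodule.equivMapOfInjective _ (act_injective g) _).symm]
    exact Submodule.finrank_mono (Submodule.map_comap_le _ _)
  have heq := fun j' (h : D j' ≤ (D (σ j)).comap (act g)) =>
    Submodule.eq_of_le_of_finrank_le h (by rwa [H.dim])
  obtain ⟨x, hx, hx0⟩ := Submodule.exists_mem_ne_zero_of_ne_bot (p := D j) (fun e' => by
    have := H.dim j
    rw [e', finrank_bot] at this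
    have := H.hk
    omega)
  exact hne (block_index_eq H.hD hx (by rw [heq j' (e ▸ hσ j'), ← heq j (hσ j)]; exact hx) hx0)

omit hM in
/-- Three vectors of equal value in blocks, orthogonal to a given one, spanning a space of dimension three. -/
theorem exists_three (p : ι → F) : ∃ a c c' : ι → F, ∃ i j : Fin t, i ≠ j ∧ a ∈ D i ∧ c ∈ D i ∧ c' ∈ D j ∧
    Q a ≠ 0 ∧ Q c = Q a ∧ Q c' = Q a ∧ c ∉ F ∙ a ∧ B p a = 0 ∧ B p c = 0 ∧ B p c' = 0 := by
  have hk := H.hk
  have hUd : ∀ i, k - 1 ≤ finrank F ↥(D i ⊓ perp Q (F ∙ p)) := fun i => by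
    have := le_finrank_inf_perp_one H.hQ (D i) p
    rw [H.dim] at this; omega
  have hns : ∀ i, ∃ x ∈ D i ⊓ perp Q (F ∙ p), Q x ≠ 0 := fun i =>
    exists_nonsingular_in H.hQ (H.nd i) inf_le_left (by rw [H.dim]; have := hUd i; omega)
  have hp : ∀ i, ∀ x ∈ D i ⊓ perp Q (F ∙ p), B p x = 0 := fun i x hx =>
    orth hx.2 (Submodule.mem_span_singleton_self p)
  have second : ∀ i, ∀ a ∈ D i ⊓ perp Q (F ∙ p), Q a ≠ 0 →
      ∃ a' ∈ D i ⊓ perp Q (F ∙ p), Q a' = Q a ∧ a' ∉ F ∙ a := by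
    intro i a ha hQa
    refine exists_second H.hQ ?_ ha hQa
    have := hUd i
    rcases Nat.lt_or_ge k 4 with h | h
    · exact Or.inl ⟨(H.h3 (by omega)).1, (H.h3 (by omega)).2, by omega⟩
    · exact Or.inr (by omega)
  have finish : ∀ i j : Fin t, i ≠ j → ∀ a ∈ D i ⊓ perp Q (F ∙ p), Q a ≠ 0 →
      ∀ c' ∈ D j ⊓ perp Q (F ∙ p), Q c' = Q a → ∃ a c c' : ι → F, ∃ i j : Fin t, i ≠ j ∧ a ∈ D i ∧ c ∈ D i ∧
      c' ∈ D j ∧ Q a ≠ 0 ∧ Q c = Q a ∧ Q c' = Q a ∧ c ∉ F ∙ a ∧ B p a = 0 ∧ B p c = 0 ∧ B p c' = 0 := by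
    intro i j hij a ha hQa c' hc' hQc'
    obtain ⟨c, hc, hQc, hca⟩ := second i a ha hQa
    exact ⟨a, c, c', i, j, hij, ha.1, hc.1, hc'.1, hQa, hQc, hQc', hca, hp i a ha, hp i c hc, hp j c' hc'⟩
  have h2t := H.two_le
  obtain ⟨a, ha, hQa⟩ := hns ⟨0, by omega⟩
  obtain ⟨b, hb, hQb⟩ := hns ⟨1, by omega⟩
  by_cases h2 : (2 : F) = 0
  · obtain ⟨l, hl⟩ := exists_scale_two h2 hQb (Q a)
    exact finish ⟨0, by omega⟩ ⟨1, by omega⟩ (by simp) a ha hQa _
      (Submodule.smul_mem _ l hb) (by rw [Q_smul Q, hl])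
  have scale : ∀ a b : ι → F, Q a ≠ 0 → Q b ≠ 0 → IsSquare (Q b / Q a) → ∃ l : F, Q (l • a) = Q b := by
    intro a b ha _ ⟨l, hl⟩
    exact ⟨l, by rw [Q_smul Q, ← hl, div_mul_cancel₀ _ ha]⟩
  rcases Nat.lt_or_ge k 4 with hlt | hge
  · have ht := H.three_le (by omega)
    obtain ⟨c, hc, hQc⟩ := hns ⟨2, by omega⟩
    rcases isSquare_div_three h2 (Q a) (Q b) (Q c) with h | h | h
    · obtain ⟨l, hl⟩ := scale a b hQa hQb h
      exact finish ⟨1, by omega⟩ ⟨0, by omega⟩ (by simp) b hb hQb _ (Submodule.smul_mem _ l ha) hl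
    · obtain ⟨l, hl⟩ := scale a c hQa hQc h
      exact finish ⟨2, by omega⟩ ⟨0, by omega⟩ (by simp) c hc hQc _ (Submodule.smul_mem _ l ha) hl
    · obtain ⟨l, hl⟩ := scale b c hQb hQc h
      exact finish ⟨2, by omega⟩ ⟨1, by omega⟩ (by simp) c hc hQc _ (Submodule.smul_mem _ l hb) hl
  -- two orthogonal nonsingular vectors represent every value
  obtain ⟨y, ⟨hy, hby⟩, hQy⟩ := exists_nonsingular_in H.hQ (nonDeg_inf_perp_one (H.nd ⟨1, by omega⟩) h2 hb.1 hQb)
    (S := D ⟨1, by omega⟩ ⊓ perp Q (F ∙ p) ⊓ perp Q (F ∙ b)) (fun x hx => ⟨hx.1.1, hx.2⟩) (by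
      have h1 := le_finrank_inf_perp_one H.hQ (D ⟨1, by omega⟩ ⊓ perp Q (F ∙ p)) b
      have h3 := hUd ⟨1, by omega⟩
      have h4 : finrank F ↥(D ⟨1, by omega⟩ ⊓ perp Q (F ∙ b)) < k := by
        rw [← H.dim ⟨1, by omega⟩]
        refine Submodule.finrank_lt_finrank_of_lt (lt_of_le_of_ne inf_le_left fun e => ?_)
        have hbb := orth (e.ge hb.1).2 (Submodule.mem_span_singleton_self b)
        rw [B_self Q] at hbb
        exact mul_ne_zero h2 hQb hbb
      omega)
  obtain ⟨r, s, hrs⟩ := exists_two_squares h2 hQb hQy (Q a)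
  refine finish ⟨0, by omega⟩ ⟨1, by omega⟩ (by simp) a ha hQa (r • b + s • y)
    (Submodule.add_mem _ (Submodule.smul_mem _ r hb) (Submodule.smul_mem _ s hy)) ?_
  rw [Q_add Q, Q_smul Q, Q_smul Q, B_smul_left Q, B_smul_right Q,
    show B b y = 0 from orth hby (Submodule.mem_span_singleton_self b)]
  linear_combination hrs

/-- Some element outside the stabiliser gives a mixed product. -/
theorem mixed (hMΩ : M ≤ Cfsg.Geo.omegaGL Q) {g : GL ι F} (hg : g ∈ M)
    (hgS : g ∉ Cfsg.Geo.decompositionStabilizer D) : MixedIn Q D M := by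
  by_contra hno
  have hgI := omega_le_iso (hMΩ hg)
  have hk := H.hk
  have h2t := H.two_le
  obtain ⟨e, he, hQe⟩ := H.value ⟨0, by omega⟩ 1
  obtain ⟨a, c, c', i, j, hij, ha, hc, hc', hQa, hQc, hQc', hca, hpa, hpc, hpc'⟩ :=
    H.exists_three (act g⁻¹ e)
  set v := act g a with hvdef
  have hv : ∀ m, v ∉ D m := fun m hm => hgS (H.stab_of_image hM hno hg hgI ha hQa hm)
  obtain ⟨f, hf, hfv⟩ := exists_comps H.hD v
  have hQv : Q v ≠ 0 := by rw [hvdef, Q_act hgI]; exact hQa
  have key : ∀ (c : ι → F) (m : Fin t), c ∈ D m → Q c = Q a → B (act g⁻¹ e) c = 0 → c ∉ F ∙ a →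
      ∀ l, f l ∈ Submodule.span F (Set.range ![v, act g c]) := by
    intro c m hc hQc hpc hca l
    set r := refl Q v * refl Q (act g c) with hr
    have hrM : r ∈ M := by
      have := mul_mem (mul_mem hg (H.pair_mem hM ha hc hQc.symm)) (inv_mem hg)
      rwa [show g * (refl Q a * refl Q c) * g⁻¹ = (g * refl Q a * g⁻¹) * (g * refl Q c * g⁻¹) by group,
        conj_refl Q hgI, conj_refl Q hgI] at this
    have hrI : r ∈ isometryGroup F Q := mul_mem (refl_mem_iso Q _) (refl_mem_iso Q _)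
    have hperp : ∀ x, B (act g⁻¹ e) x = 0 → B (act g x) e = 0 := fun x hx => by
      rw [← act_act_inv g e, B_act hgI, B_comm Q, hx]
    have hQgc : Q (act g c) ≠ 0 := by rw [Q_act hgI, hQc]; exact hQa
    have hre : act r e = e := by
      rw [hr, act_mul, act_refl_fix Q hQgc (hperp c hpc), act_refl_fix Q hQv (hperp a hpa)]
    have hrim : ∀ x, act r x - x ∈ Submodule.span F (Set.range ![v, act g c]) := by
      intro x
      rw [hr, act_mul, act_refl Q hQv, act_refl Q hQgc]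
      refine mem_span_pair_iff_range.2 ⟨-((Q v)⁻¹ * B v (x - ((Q (act g c))⁻¹ * B (act g c) x) • act g c)),
        -((Q (act g c))⁻¹ * B (act g c) x), ?_⟩
      module
    obtain ⟨σ, hσ⟩ := H.stab_of_image hM hno hrM hrI he (by rw [hQe]; exact one_ne_zero) (by rwa [hre])
    have hfix : ∀ l, ∀ x ∈ D l, act r x ∈ D l := by
      intro l x hx
      have hm : ∀ y ∈ D l, act r y ∈ D (σ l) := fun y hy => (hσ l).le ⟨y, hy, rfl⟩
      rcases eq_or_ne (σ l) l with hl | hl
      · exact hl ▸ hm x hx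
      exfalso
      let T : D l →ₗ[F] Submodule.span F (Set.range ![v, act g c]) :=
        LinearMap.codRestrict _ ((act r - LinearMap.id).domRestrict (D l)) fun y => hrim y
      have hT : Function.Injective T := by
        rw [injective_iff_map_eq_zero]
        rintro ⟨y, hy⟩ hy0
        have e1 : act r y = y := sub_eq_zero.1 (congrArg Subtype.val hy0)
        by_contra hne
        exact hl (block_index_eq H.hD (e1 ▸ hm y hy) hy (fun e => hne (Subtype.ext e)))
      have h1 := LinearMap.finrank_le_finrank_of_injective hT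
      have h2 := finrank_span_list_le ![v, act g c]
      rw [H.dim] at h1
      omega
    obtain ⟨z, hz, hz1⟩ := exists_perp_one H.hQ (P := F ∙ act g c) (v := v) (fun h => by
      obtain ⟨q, hq⟩ := Submodule.mem_span_singleton.1 h
      have hqa : q • c = a := act_injective g (by rw [map_smul, hq])
      have hq0 : q ≠ 0 := fun e0 => hQa (by rw [← hqa, e0, zero_smul, map_zero])
      exact hca (Submodule.mem_span_singleton.2 ⟨q⁻¹, by rw [← hqa, smul_smul, inv_mul_cancel₀ hq0, one_smul]⟩))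
    have hz' : act r ((-Q v) • z) - (-Q v) • z = v := by
      rw [hr, act_mul, act_refl_fix Q hQgc (by
        rw [B_smul_right Q, orth hz (Submodule.mem_span_singleton_self _), mul_zero]), act_refl Q hQv,
        B_smul_right Q, hz1, sub_sub_cancel_left, ← neg_smul]
      conv_rhs => rw [← one_smul F v]
      congr 1
      field_simp
    obtain ⟨g', hg', hge⟩ := exists_comps H.hD ((-Q v) • z)
    have hd : ∑ l, (act r (g' l) - g' l) = ∑ l, f l := by
      rw [Finset.sum_sub_distrib, ← map_sum, ← hge, hz', hfv]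
    rw [← comps_unique H.hD (fun l => (D l).sub_mem (hfix l _ (hg' l)) (hg' l)) hf hd l]
    exact hrim _
  have hvc := key c i hc hQc hpc hca
  have hvc' := key c' j hc' hQc' hpc' (fun h => hij (block_index_eq H.hD
    (Submodule.span_le.2 (Set.singleton_subset_iff.2 ha) h) hc' (fun e' => hQa (by rw [← hQc', e', map_zero]))))
  -- two components of `v`
  obtain ⟨l, hl⟩ : ∃ l, f l ≠ 0 := by
    by_contra hall
    push Not at hall
    exact hQv (by rw [hfv, Finset.sum_eq_zero fun l _ => hall l, map_zero])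
  obtain ⟨m, hml, hm⟩ : ∃ m, m ≠ l ∧ f m ≠ 0 := by
    by_contra hall
    push Not at hall
    refine hv l ?_
    rw [hfv, Finset.sum_eq_single l (fun m _ hm => hall m hm) (by simp)]
    exact hf l
  have hli : LinearIndependent F ![f l, f m] := by
    refine LinearIndependent.pair_iff.2 fun p q hpq => ?_
    have hp0 : p • f l = 0 := by
      refine H.nd l _ ((D l).smul_mem _ (hf l)) fun y hy => ?_
      have := congrArg (B y) hpq
      rw [B_add_right Q, B_zero_right Q, block_orth H.hD hy ((D m).smul_mem q (hf m)) hml.symm, add_zero] at this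
      rw [B_comm Q, this]
    rw [hp0, zero_add] at hpq
    exact ⟨(smul_eq_zero.1 hp0).resolve_right hl, (smul_eq_zero.1 hpq).resolve_right hm⟩
  have hsp : ∀ w, (∀ n, f n ∈ Submodule.span F (Set.range ![v, w])) →
      Submodule.span F (Set.range ![f l, f m]) = Submodule.span F (Set.range ![v, w]) := fun w hw =>
    Submodule.eq_of_le_of_finrank_le (Submodule.span_le.2 (by rintro _ ⟨n, rfl⟩; fin_cases n <;> exact hw _))
      ((finrank_span_list_le _).trans_eq (by rw [finrank_span_eq_card hli, Fintype.card_fin]))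
  have hmem : act g c' ∈ Submodule.span F (Set.range ![v, act g c]) := by
    rw [← hsp _ hvc, hsp _ hvc']
    exact Submodule.subset_span ⟨1, rfl⟩
  obtain ⟨p, q, hpq⟩ := mem_span_pair_iff_range.1 hmem
  have hc'i : c' ∈ D i := by
    rw [← act_injective g (show act g (p • a + q • c) = act g c' by rw [map_add, map_smul, map_smul, hpq])]
    exact (D i).add_mem ((D i).smul_mem _ ha) ((D i).smul_mem _ hc)
  exact hij (block_index_eq H.hD hc'i hc' (fun e' => hQa (by rw [← hQc', e', map_zero])))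

omit hM in
/-- The singular vectors orthogonal to a nonsingular block vector. -/
theorem singular_perp (hk4 : 4 ≤ k) {i : Fin t} (y : ι → F) :
    ∃ u ∈ D i, u ≠ 0 ∧ Q u = 0 ∧ B u y = 0 := by
  obtain ⟨u, ⟨hu, huy⟩, hu0, hQu⟩ := exists_singular Q (D := D i ⊓ perp Q (F ∙ y)) (by
    have := le_finrank_inf_perp_one H.hQ (D i) y
    rw [H.dim] at this; omega)
  exact ⟨u, hu, hu0, hQu, (B_comm Q u y).trans (orth huy (Submodule.mem_span_singleton_self y))⟩

/-- A mixed product with a component orthogonal to a singular block vector gives a transfer. -/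
theorem transfer_of {v : ι → F} (hQv : Q v ≠ 0) (hv : ∀ i, v ∉ D i)
    (hvM : ∀ l, ∀ a ∈ D l, Q a = Q v → refl Q v * refl Q a ∈ M) {i : Fin t} {y u : ι → F} (hy : y ∈ D i)
    (hvy : ∀ z ∈ D i, B z v = B z y) (hQy : Q y ≠ 0) (hu : u ∈ D i) (hu0 : u ≠ 0) (hQu : Q u = 0)
    (huy : B u y = 0) : TransferIn Q D M := by
  have hyu : y ∉ F ∙ u := fun h => by
    obtain ⟨q, rfl⟩ := Submodule.mem_span_singleton.1 h
    exact hQy (by rw [Q_smul Q, hQu, mul_zero])
  obtain ⟨w, hw, huw, hw1⟩ := exists_one_in H.hQ (H.nd i) (P := F ∙ u)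
    ((Submodule.span_singleton_le_iff_mem _ _).2 hu) hy hyu
  have huw' : B u w = 0 := huw u (Submodule.mem_span_singleton_self u)
  obtain ⟨l, hl⟩ := H.exists_ne i
  obtain ⟨a, ha, hQa⟩ := H.value l (Q v)
  have hQa' : Q a ≠ 0 := hQa ▸ hQv
  have huv : B u v = 0 := (hvy u hu).trans huy
  have hvw : B v w = 1 := by rw [B_comm Q, hvy w hw, B_comm Q, hw1]
  have hfixa : ∀ x ∈ D i, act (refl Q a) x = x := fun x hx => act_refl_fix Q hQa' (block_orth H.hD ha hx hl)
  have hd := sg_diff_mem (mul_mem (refl_mem_iso Q v) (refl_mem_iso Q a)) (hvM l a ha hQa) hQu huw'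
    (H.sg_block_mem hM hu hw) (by rw [act_mul, hfixa u hu, act_refl_fix Q hQv ((B_comm Q v u).trans huv)])
  rw [act_mul, hfixa w hw, act_refl Q hQv, hvw, mul_one, sub_sub_cancel_left] at hd
  exact ⟨i, u, hu, hu0, hQu, _, hd.1, fun h => hv i ((Submodule.smul_mem_iff _ (inv_ne_zero hQv)).1
    (by simpa using (D i).neg_mem h)), hd.2⟩

/-- A mixed product gives a transfer. -/
theorem transfer (hmix : MixedIn Q D M) : TransferIn Q D M := by
  obtain ⟨v, hQv, hv, i₀, a₀, ha₀, hQa₀, hM₀⟩ := hmix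
  have close : ∀ v i₀ a₀, a₀ ∈ D i₀ → Q a₀ = Q v → refl Q v * refl Q a₀ ∈ M →
      ∀ l, ∀ a ∈ D l, Q a = Q v → refl Q v * refl Q a ∈ M := by
    intro v i₀ a₀ ha₀ hQa₀ hM₀ l a ha hQa
    have := mul_mem hM₀ (H.pair_mem hM ha₀ ha (hQa₀.trans hQa.symm))
    rwa [mul_assoc, ← mul_assoc (refl Q a₀) (refl Q a₀), refl_mul_self, one_mul] at this
  have hvM := close v i₀ a₀ ha₀ hQa₀ hM₀
  have hmove : ∀ v, Q v ≠ 0 → (∀ l, ∀ a ∈ D l, Q a = Q v → refl Q v * refl Q a ∈ M) →
      ∀ l, ∀ a ∈ D l, Q a = Q v → ∀ m, ∀ b ∈ D m, Q b = Q (act (refl Q v) a) →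
      refl Q (act (refl Q v) a) * refl Q b ∈ M := by
    intro v hQv hvM l a ha hQa
    refine close _ l a ha (Q_act (refl_mem_iso Q v) a).symm ?_
    rw [← conj_refl Q (refl_mem_iso Q v), refl_inv, mul_assoc]
    exact mul_mem (hvM l a ha hQa) (hvM l a ha hQa)
  obtain ⟨f, hf, hfv⟩ := exists_comps H.hD v
  have hB : ∀ {i : Fin t}, ∀ z ∈ D i, B z v = B z (f i) := fun z hz => by rw [hfv, B_sum_comps H.hD hf hz]
  obtain ⟨i, hi⟩ : ∃ i, Q (f i) ≠ 0 := by
    by_contra hall
    push Not at hall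
    exact hQv (by rw [hfv, Q_sum_comps H.hD hf, Finset.sum_eq_zero fun l _ => hall l])
  by_cases hexu : ∃ u ∈ D i, u ≠ 0 ∧ Q u = 0 ∧ B u (f i) = 0
  · obtain ⟨u, hu, hu0, hQu, huy⟩ := hexu
    exact H.transfer_of hM hQv hv hvM (hf i) (fun z hz => hB z hz) hi hu hu0 hQu huy
  have hk3 : k = 3 := by
    by_contra hne
    exact hexu (H.singular_perp (by have := H.hk; omega) (f i))
  obtain ⟨h2, h5⟩ := H.h3 hk3
  have hd3 : 3 ≤ finrank F (D i) := by rw [H.dim, hk3]
  obtain ⟨s, hs, t', ht, hQs, hQt, hst⟩ := exists_pair_in H.hQ (H.nd i) hd3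
  obtain ⟨w, ⟨hw, hwp⟩, hQw⟩ := exists_nonsingular_in H.hQ
    (nonDeg_inf_perp_pair (H.nd i) hs ht hQs hQt hst)
    (le_refl (D i ⊓ perp Q (Submodule.span F (Set.range ![s, t'])))) (by
      have h1 := le_finrank_inf_perp H.hQ (D i) (Submodule.span F (Set.range ![s, t']))
      have h2 := finrank_span_list_le ![s, t']
      rw [H.dim, hk3] at h1
      omega)
  have hws : B s w = 0 := orth hwp (Submodule.subset_span ⟨0, rfl⟩)
  have hs0 : s ≠ 0 := fun e => by rw [e, B_zero_left Q] at hst; exact zero_ne_one hst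
  -- a component of value in the class of `Q w` is orthogonal to a singular block vector
  have hT : ∀ y ∈ D i, Q y ≠ 0 → ∀ σ : F, Q y = Q w * (σ * σ) →
      ∃ u ∈ D i, u ≠ 0 ∧ Q u = 0 ∧ B u y = 0 := by
    intro y hy hQy σ hσ
    have hyw : σ • w ∈ D i := (D i).smul_mem _ hw
    have hval : Q (σ • w) = Q y := by rw [Q_smul Q, hσ]; ring
    have hcase : ∀ z ∈ D i, Q z = Q y → Q (σ • w - z) ≠ 0 → ∃ u ∈ D i, u ≠ 0 ∧ Q u = 0 ∧ B u z = 0 := by
      intro z hz hQz hne
      refine ⟨act (refl Q (σ • w - z)) s, refl_mem_block H.hD ((D i).sub_mem hyw hz) hs, fun e => hs0 ?_,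
        by rw [Q_act (refl_mem_iso Q _), hQs], ?_⟩
      · exact act_injective _ (e.trans (map_zero _).symm)
      · have e : act (refl Q (σ • w - z)) (σ • w) = z := by
          have hB2 : B (σ • w - z) (σ • w) = Q (σ • w - z) := by
            rw [Q_sub Q, B_sub_left Q, B_self Q, B_comm Q z, hval, hQz]; ring
          rw [act_refl Q hne, hB2, inv_mul_cancel₀ hne, one_smul, sub_sub_cancel]
        rw [show B (act (refl Q (σ • w - z)) s) z =
          B (act (refl Q (σ • w - z)) s) (act (refl Q (σ • w - z)) (σ • w)) by rw [e], B_act (refl_mem_iso Q _), B_smul_right Q, hws, mul_zero]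
    by_cases hne : Q (σ • w - y) = 0
    · obtain ⟨u, hu, hu0, hQu, huz⟩ := hcase (-y) ((D i).neg_mem hy) (Q_neg Q y) (fun e => by
        rw [sub_neg_eq_add, Q_add Q, hval] at e
        rw [Q_sub Q, hval] at hne
        exact mul_ne_zero (mul_ne_zero h2 h2) hQy (by linear_combination e + hne))
      exact ⟨u, hu, hu0, hQu, by simpa [B_neg_right Q] using huz⟩
    · exact hcase y hy rfl hne
  have hnT : ∀ σ : F, Q (f i) ≠ Q w * (σ * σ) := fun σ h => hexu (hT _ (hf i) hi σ h)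
  -- solve the norm equation
  obtain ⟨γ, hγ0, hγ1⟩ := exists_ne_sq (F := F) (by omega)
  set c := Q v
  set δ := Q (f i) / Q w with hδ
  have hδ0 : δ ≠ 0 := div_ne_zero hi hQw
  have hd0 : c * (1 - γ * γ) / Q w ≠ 0 := div_ne_zero (mul_ne_zero hQv (sub_ne_zero.2 (Ne.symm hγ1))) hQw
  have hns : ∀ x : F, x * x ≠ δ := fun x hx => hnT x (by rw [hx, hδ, mul_div_cancel₀ _ hQw])
  obtain ⟨σ, ρ, hσ0, hρ0, hsol⟩ : ∃ σ ρ : F, σ ≠ 0 ∧ ρ ≠ 0 ∧ σ * σ - δ * (ρ * ρ) = c * (1 - γ * γ) / Q w := by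
    obtain ⟨σ, ρ, h⟩ := exists_two_squares h2 (one_ne_zero (α := F)) (neg_ne_zero.2 hδ0) (c * (1 - γ * γ) / Q w)
    by_cases hz : σ ≠ 0 ∧ ρ ≠ 0
    · exact ⟨σ, ρ, hz.1, hz.2, by linear_combination h⟩
    obtain ⟨s, hs0, hs1⟩ : ∃ s : F, s ≠ 0 ∧ 1 + δ * (s * s) ≠ 0 := by
      by_contra hall
      push Not at hall
      have e1 := hall 1 one_ne_zero
      have e2 := hall γ hγ0
      exact mul_ne_zero hδ0 (sub_ne_zero.2 hγ1) (by linear_combination e2 - e1)
    have hden : 1 - δ * (s * s) ≠ 0 := fun e => hns s⁻¹ (by field_simp; linear_combination e)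
    have hnorm : ((1 + δ * (s * s)) / (1 - δ * (s * s))) * ((1 + δ * (s * s)) / (1 - δ * (s * s))) -
        δ * ((2 * s / (1 - δ * (s * s))) * (2 * s / (1 - δ * (s * s)))) = 1 := by
      rw [div_mul_div_comm, div_mul_div_comm, ← mul_div_assoc, ← sub_div,
        div_eq_one_iff_eq (mul_ne_zero hden hden)]
      ring
    set a := (1 + δ * (s * s)) / (1 - δ * (s * s))
    set b := 2 * s / (1 - δ * (s * s))
    have ha : a ≠ 0 := div_ne_zero hs1 hden
    have hb : b ≠ 0 := div_ne_zero (mul_ne_zero h2 hs0) hden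
    refine ⟨a * σ + b * δ * ρ, b * σ + a * ρ, ?_, ?_, by
      linear_combination h + (σ * σ - δ * (ρ * ρ)) * hnorm⟩
    all_goals
      rcases not_and_or.1 hz with e | e <;> (push Not at e; subst e)
      all_goals intro e'
      all_goals simp only [mul_zero, zero_add, add_zero] at e' h
    · exact hd0 (by rw [← h, (mul_eq_zero.1 e').resolve_left (mul_ne_zero hb hδ0)]; ring)
    · exact hd0 (by rw [← h, (mul_eq_zero.1 e').resolve_left ha]; ring)
    · exact hd0 (by rw [← h, (mul_eq_zero.1 e').resolve_left ha]; ring)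
    · exact hd0 (by rw [← h, (mul_eq_zero.1 e').resolve_left hb]; ring)
  have hsol' : c * (1 - γ * γ) + Q (f i) * (ρ * ρ) = Q w * (σ * σ) := by
    rw [hδ] at hsol
    field_simp at hsol
    linear_combination -hsol
  set γ₀ := ρ / γ with hγ₀
  have hγρ : γ * γ₀ = ρ := by rw [hγ₀, mul_div_cancel₀ _ hγ0]
  have hγ₀0 : γ₀ ≠ 0 := div_ne_zero hρ0 hγ0
  obtain ⟨j, hji, hj⟩ : ∃ j, j ≠ i ∧ f j ≠ 0 := by
    by_contra hall
    push Not at hall
    refine hv i ?_
    rw [hfv, Finset.sum_eq_single i (fun m _ hm => hall m hm) (by simp)]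
    exact hf i
  obtain ⟨a, ha, hQa, hfa⟩ := exists_pairing H.hQ (H.nd j) h2 (by rw [H.dim, hk3]) (hf j) hj c
    (β := γ₀ * c) (mul_ne_zero hγ₀0 hQv)
  have hva : B v a = γ₀ * c := by rw [B_comm Q, hB a ha, B_comm Q, hfa]
  set v' := act (refl Q v) a with hv'
  have hv'e : v' = a - γ₀ • v := by
    rw [hv', act_refl Q hQv, hva, ← mul_assoc, mul_comm c⁻¹, mul_assoc, inv_mul_cancel₀ hQv, mul_one]
  have hQv' : Q v' = c := by rw [hv', Q_act (refl_mem_iso Q v), hQa]
  have hB' : ∀ z ∈ D i, B z v' = B z ((-γ₀) • f i) := fun z hz => by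
    rw [hv'e, B_sub_right Q, B_smul_right Q, B_smul_right Q, hB z hz, block_orth H.hD hz ha hji.symm]; ring
  have hv'n : ∀ l, v' ∉ D l := by
    intro l hl
    rcases eq_or_ne l i with rfl | hli
    · have he : v' = (-γ₀) • f l := by
        rw [← sub_eq_zero]
        exact H.nd l _ ((D l).sub_mem hl ((D l).smul_mem _ (hf l))) fun z hz => by
          rw [B_comm Q, B_sub_right Q, hB' z hz, sub_self]
      have e := hQv'
      rw [he, Q_smul Q] at e
      refine hnT (σ / γ₀) ?_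
      rw [← hγρ] at hsol'
      field_simp
      linear_combination (1 - γ * γ) * e + hsol'
    · obtain ⟨z, hz, -, hz1⟩ := exists_one_in H.hQ (H.nd i) (P := ⊥) bot_le (hf i)
        (fun h => hi (by rw [(Submodule.mem_bot F).1 h, map_zero]))
      have e := hB' z hz
      rw [block_orth H.hD hz hl hli.symm, B_smul_right Q, B_comm Q, hz1, mul_one] at e
      exact hγ₀0 (neg_eq_zero.1 e.symm)
  have hv'M := hmove v hQv hvM j a ha hQa
  have hf'0 : (-γ₀) • f i ≠ 0 :=
    smul_ne_zero (neg_ne_zero.2 hγ₀0) fun e => hi (by rw [e, map_zero])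
  obtain ⟨a', ha', hQa', hfa'⟩ := exists_pairing H.hQ (H.nd i) h2 hd3 ((D i).smul_mem _ (hf i)) hf'0 c
    (β := γ * c) (mul_ne_zero hγ0 hQv)
  have hva' : B v' a' = γ * c := by rw [B_comm Q, hB' a' ha', B_comm Q, hfa']
  set v'' := act (refl Q v') a' with hv''
  have hv''e : v'' = a' - γ • v' := by
    rw [hv'', act_refl Q (hQv' ▸ hQv), hva', hQv', ← mul_assoc, mul_comm c⁻¹, mul_assoc, inv_mul_cancel₀ hQv,
      mul_one]
  set y := a' - γ • (-γ₀) • f i with hy
  have hQy : Q y = Q w * (σ * σ) := by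
    rw [hy, Q_sub Q, Q_smul Q, Q_smul Q, B_smul_right Q, B_comm Q a', hfa', hQa']
    rw [← hsol', ← hγρ]
    ring
  have hQy0 : Q y ≠ 0 := by rw [hQy]; exact mul_ne_zero hQw (mul_ne_zero hσ0 hσ0)
  have hy' : y ∈ D i := (D i).sub_mem ha' ((D i).smul_mem _ ((D i).smul_mem _ (hf i)))
  have hB'' : ∀ z ∈ D i, B z v'' = B z y := fun z hz => by
    rw [hv''e, hy, B_sub_right Q, B_sub_right Q, B_smul_right Q, B_smul_right Q, hB' z hz]
  have hv''n : ∀ l, v'' ∉ D l := by
    intro l hl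
    rcases eq_or_ne l i with rfl | hli
    · have hm : γ • v' ∈ D l := by
        have := (D l).sub_mem ha' hl
        rwa [hv''e, sub_sub_cancel] at this
      exact hv'n l ((Submodule.smul_mem_iff _ hγ0).1 hm)
    · obtain ⟨z, hz, -, hz1⟩ := exists_one_in H.hQ (H.nd i) (P := ⊥) bot_le hy'
        (fun h => hQy0 (by rw [(Submodule.mem_bot F).1 h, map_zero]))
      have e := hB'' z hz
      rw [block_orth H.hD hz hl hli.symm, B_comm Q, hz1] at e
      exact zero_ne_one e
  obtain ⟨u, hu, hu0, hQu, huy⟩ := hT y hy' hQy0 σ hQy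
  exact H.transfer_of hM (by rw [hv'', Q_act (refl_mem_iso Q v'), hQa']; exact hQv) hv''n
    (hmove v' (hQv' ▸ hQv) hv'M i a' ha' (hQa'.trans hQv'.symm)) hy' hB'' hQy0 hu hu0 hQu huy

end BigBlocks

end Cfsg.Agent.MaxCl.Orth
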