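/-
Exchanging two blocks of an orthogonal decomposition inside `omegaGL`.
-/
import Cfsg.Agent.Lib.MaxCl.OrthBlocksMax

set_option autoImplicit false

namespace Cfsg.Agent.MaxCl.Orth

open scoped MatrixGroups Matrix
open Module (finrank)

variable {ι : Type} [Fintype ι] [DecidableEq ι] {F : Type*} [Field F] [Fintype F] {Q : QuadraticForm F (ι → F)}

set_option quotPrecheck false in
local notation "B" => QuadraticMap.polar (⇑Q)

variable {t k : ℕ} {D : Fin t → Submodule F (ι → F)}

/-- An element of the derived group exchanging two blocks and fixing the other blocks pointwise. -/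
theorem exists_block_swap (hD : Cfsg.Geo.IsOrthogonalMDecomposition Q k D)
    (hQ : (QuadraticMap.polarBilin Q).Nondegenerate) (hn : 5 ≤ Fintype.card ι)
    (hval : ∀ (i : Fin t) (c : F), ∃ a ∈ D i, Q a = c) {j l : Fin t} (hjl : j ≠ l) :
    ∃ g ∈ Cfsg.Geo.decompositionStabilizer D ⊓ Cfsg.Geo.omegaGL Q,
      (D j).map (act g) = D l ∧ ∀ i, i ≠ j → i ≠ l → ∀ x ∈ D i, act g x = x := by
  classical
  obtain ⟨φ, hφ⟩ := hD.isometric j l
  have hc : ∀ i, IsCompl (D i) (perp Q (D i)) := fun i =>
    IsCompl.of_eq (inf_perp (block_nonDeg hD i)) (sup_perp hQ (block_nonDeg hD i))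
  let πj := Submodule.projectionOnto (D j) (perp Q (D j)) (hc j)
  let πl := Submodule.projectionOnto (D l) (perp Q (D l)) (hc l)
  let S : (ι → F) →ₗ[F] (ι → F) := LinearMap.id - (D j).subtype ∘ₗ πj - (D l).subtype ∘ₗ πl
    + (D l).subtype ∘ₗ φ.toLinearMap ∘ₗ πj + (D j).subtype ∘ₗ φ.symm.toLinearMap ∘ₗ πl
  have hπ : ∀ (i : Fin t) x, x - (Submodule.projectionOnto (D i) (perp Q (D i)) (hc i) x : ι → F)
      ∈ perp Q (D i) := fun i x => by
    have h := Submodule.projectionOnto_apply_eq_zero_iff (hc i) (x :=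
      x - (Submodule.projectionOnto (D i) (perp Q (D i)) (hc i) x : ι → F))
    refine h.1 ?_
    rw [map_sub, Submodule.projectionOnto_apply_left, sub_self]
  have hS : ∀ x, Q (S x) = Q x := by
    intro x
    set xj : ι → F := ((πj x : D j) : ι → F) with hxjdef
    set xl : ι → F := ((πl x : D l) : ι → F) with hxldef
    set r := x - xj - xl with hr
    have hxj : xj ∈ D j := (πj x).2
    have hxl : xl ∈ D l := (πl x).2
    have rj : r ∈ perp Q (D j) := (perp Q (D j)).sub_mem (hπ j x) (block_orth_perp hD hxl hjl)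
    have rl : r ∈ perp Q (D l) := by
      have h := (perp Q (D l)).sub_mem (hπ l x) (block_orth_perp hD hxj hjl.symm)
      rwa [show x - xl - xj = r by rw [hr]; abel] at h
    have e1 : S x = r + (φ (πj x) : ι → F) + (φ.symm (πl x) : ι → F) := by
      simp [S, r, xj, xl]
    have e2 : x = r + xj + xl := by rw [hr]; abel
    have hsymm : Q (φ.symm (πl x) : ι → F) = Q xl := by
      have := hφ (φ.symm (πl x))
      rw [LinearEquiv.apply_symm_apply] at this
      exact this.symm
    rw [e1]
    conv_rhs => rw [e2]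
    simp only [Q_add Q, B_add_left Q]
    rw [B_comm Q r, orth rl (φ (πj x)).2, B_comm Q r, orth rj (φ.symm (πl x)).2,
      block_orth hD (φ (πj x)).2 (φ.symm (πl x)).2 hjl.symm, B_comm Q r xj, orth rj hxj, B_comm Q r xl,
      orth rl hxl, block_orth hD hxj hxl hjl, hφ, hsymm]
  have hinj : Function.Injective S := by
    rw [injective_iff_map_eq_zero]
    intro x hx
    refine hQ.1 x fun y => ?_
    have e := hS (x + y)
    rw [map_add, hx, zero_add, hS y, Q_add Q, ← hS x, hx, map_zero, zero_add] at e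
    show B x y = 0
    linear_combination -e
  let E := LinearEquiv.ofInjectiveEndo S hinj
  let gS : GL ι F :=
    { val := LinearMap.toMatrix' E.toLinearMap
      inv := LinearMap.toMatrix' E.symm.toLinearMap
      val_inv := by
        rw [← LinearMap.toMatrix'_comp, ← LinearMap.toMatrix'_id (R := F) (n := ι)]
        congr 1
        exact LinearMap.ext fun x => E.apply_symm_apply x
      inv_val := by
        rw [← LinearMap.toMatrix'_comp, ← LinearMap.toMatrix'_id (R := F) (n := ι)]
        congr 1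
        exact LinearMap.ext fun x => E.symm_apply_apply x }
  have hact : ∀ x, act gS x = S x := fun x => by
    simp [gS, E, act_apply, ← Matrix.toLin'_apply]
  have hgS : gS ∈ isometryGroup F Q := (mem_iso Q).2 fun x => by rw [hact, hS]
  -- correct by reflections of the target block
  set R := Subgroup.closure (refl Q '' (D l : Set (ι → F))) with hR
  have hΩ : Cfsg.Geo.omegaGL Q = sgGroup Q := omega_eq_sgGroup hQ hn
  have corr : ∀ g ∈ sgGroup Q ⊔ Subgroup.closure (Set.range (refl Q)),
      g ∈ isometryGroup F Q ∧ ∃ h ∈ R, g * h ∈ sgGroup Q := by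
    intro g hg
    rw [← Subgroup.closure_eq (sgGroup Q), ← Subgroup.closure_union] at hg
    induction hg using Subgroup.closure_induction with
    | mem x hx =>
      rcases hx with hx | ⟨a, rfl⟩
      · exact ⟨sgGroup_le_iso hx, 1, one_mem _, by rwa [mul_one]⟩
      · refine ⟨refl_mem_iso Q a, ?_⟩
        obtain ⟨a', ha', hQa'⟩ := hval l (Q a)
        exact ⟨refl Q a', Subgroup.subset_closure ⟨a', ha', rfl⟩, refl_mul_refl_mem hQ hn hQa'.symm⟩
    | one => exact ⟨one_mem _, 1, one_mem _, by rw [mul_one]; exact one_mem _⟩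
    | mul x y _ _ hx hy =>
      obtain ⟨hxI, h₁, hh₁, e₁⟩ := hx
      obtain ⟨hyI, h₂, hh₂, e₂⟩ := hy
      refine ⟨mul_mem hxI hyI, h₂ * h₁, mul_mem hh₂ hh₁, ?_⟩
      rw [show x * y * (h₂ * h₁) = (x * (y * h₂) * x⁻¹) * (x * h₁) by group]
      exact mul_mem (conj_mem_sgGroup hxI e₂) e₁
    | inv x _ hx =>
      obtain ⟨hxI, h, hh, e⟩ := hx
      refine ⟨inv_mem hxI, h⁻¹, inv_mem hh, ?_⟩
      rw [show x⁻¹ * h⁻¹ = x⁻¹ * (x * h)⁻¹ * x⁻¹⁻¹ by group]
      exact conj_mem_sgGroup (inv_mem hxI) (inv_mem e)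
  obtain ⟨-, h, hh, hgh⟩ := corr gS (mem_closure_sg_refl hQ hgS)
  have hblock : ∀ m, ∀ x ∈ D m, act h x ∈ D m ∧ (m ≠ l → act h x = x) := by
    clear hgh
    induction hh using Subgroup.closure_induction with
    | mem y hy =>
      obtain ⟨a, ha, rfl⟩ := hy
      refine fun m x hx => ⟨refl_mem_block hD ha hx, fun hne => ?_⟩
      by_cases hQa : Q a = 0
      · rw [refl_of_singular Q hQa, act_one]
      · exact act_refl_fix Q hQa (block_orth hD ha hx hne.symm)
    | one => exact fun m x hx => ⟨by rwa [act_one], fun _ => act_one x⟩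
    | mul x y _ _ hx hy =>
      refine fun m z hz => ⟨?_, fun hm => ?_⟩ <;> rw [act_mul]
      · exact (hx m _ (hy m z hz).1).1
      · rw [(hy m z hz).2 hm, (hx m z hz).2 hm]
    | inv x _ hx =>
      refine fun m z hz => ⟨?_, fun hm => ?_⟩
      · have hle : (D m).map (act x) ≤ D m := by
          rintro _ ⟨y, hy, rfl⟩; exact (hx m y hy).1
        have heq := Submodule.eq_of_le_of_finrank_eq hle
          (LinearEquiv.finrank_eq (Submodule.equivMapOfInjective _ (act_injective x) _)).symm
        obtain ⟨y, hy, e⟩ := (heq.ge hz : z ∈ (D m).map (act x))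
        rwa [← e, act_inv_act]
      · conv_lhs => rw [← (hx m z hz).2 hm]
        rw [act_inv_act]
  have p0 : ∀ i m : Fin t, m ≠ i → ∀ x ∈ D m, (Submodule.projectionOnto (D i) (perp Q (D i)) (hc i)) x = 0 :=
    fun i m hmi x hx => (Submodule.projectionOnto_apply_eq_zero_iff _).2 (block_orth_perp hD hx hmi.symm)
  have hfix : ∀ i, i ≠ j → i ≠ l → ∀ x ∈ D i, act (gS * h) x = x := by
    intro i hij hil x hx
    rw [act_mul, (hblock i x hx).2 hil, hact]
    simp [S, πj, πl, p0 j i hij x hx, p0 l i hil x hx]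
  have hto : ∀ x ∈ D j, act (gS * h) x ∈ D l := by
    intro x hx
    rw [act_mul, (hblock j x hx).2 hjl, hact]
    have e1 : πj x = ⟨x, hx⟩ := Submodule.projectionOnto_apply_left (hc j) ⟨x, hx⟩
    simp [S, πl, e1, p0 l j hjl x hx]
  have hfrom : ∀ x ∈ D l, act (gS * h) x ∈ D j := by
    intro x hx
    rw [act_mul, hact]
    have hy := (hblock l x hx).1
    set y := act h x
    have e2 : πl y = ⟨y, hy⟩ := Submodule.projectionOnto_apply_left (hc l) ⟨y, hy⟩
    simp [S, πj, e2, p0 j l hjl.symm y hy]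
  refine ⟨gS * h, ⟨mem_stab_of_map hD (Equiv.swap j l) (Equiv.injective _) fun i x hx => ?_,
    by rw [hΩ]; exact hgh⟩, ?_, hfix⟩
  · rcases eq_or_ne i j with rfl | hij
    · rw [Equiv.swap_apply_left]; exact hto x hx
    rcases eq_or_ne i l with rfl | hil
    · rw [Equiv.swap_apply_right]; exact hfrom x hx
    rw [Equiv.swap_apply_of_ne_of_ne hij hil, hfix i hij hil x hx]; exact hx
  · refine Submodule.eq_of_le_of_finrank_eq (by rintro _ ⟨x, hx, rfl⟩; exact hto x hx) ?_
    rw [hD.decomp.decomp.finrank_eq, ← hD.decomp.decomp.finrank_eq j]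
    exact (LinearEquiv.finrank_eq (Submodule.equivMapOfInjective _ (act_injective _) _)).symm


namespace BigBlocks

variable (H : BigBlocks Q k D)
include H

/-- Exchanging two blocks inside the derived group, fixing the orthogonal complement of their sum. -/
theorem exists_swap {j l : Fin t} (hjl : j ≠ l) : ∃ g ∈ Cfsg.Geo.decompositionStabilizer D ⊓ Cfsg.Geo.omegaGL Q,
    (D j).map (act g) = D l ∧ ∀ i, i ≠ j → i ≠ l → ∀ x ∈ D i, act g x = x :=
  exists_block_swap H.hD H.hQ H.n5 H.value hjl

end BigBlocks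

end Cfsg.Agent.MaxCl.Orth
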