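/-
Stabilisers of orthogonal decompositions into blocks of dimension at least three are maximal in `omegaGL`: the orbit
of a transfer under the stabiliser exhausts a root group.
-/
import Cfsg.Agent.Lib.MaxCl.OrthBlocksSwap

set_option autoImplicit false

namespace Cfsg.Agent.MaxCl.Orth

open scoped MatrixGroups Matrix
open Module (finrank)

variable {ι : Type} [Fintype ι] [DecidableEq ι] {F : Type*} [Field F] [Fintype F] {Q : QuadraticForm F (ι → F)}

set_option quotPrecheck false in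
local notation "B" => QuadraticMap.polar (⇑Q)

variable {t k : ℕ} {D : Fin t → Submodule F (ι → F)}

namespace BigBlocks

variable (H : BigBlocks Q k D)
include H

/-- A transfer spreads to a full root group. -/
theorem omega_le_of_transferIn {M : Subgroup (GL ι F)}
    (hM : Cfsg.Geo.decompositionStabilizer D ⊓ Cfsg.Geo.omegaGL Q ≤ M) (htr : TransferIn Q D M) :
    Cfsg.Geo.omegaGL Q ≤ M := by
  obtain ⟨i, u, hu, hu0, hQu, z, huz, hzi, hz⟩ := htr
  let L : Submodule F (ι → F) :=
    { carrier := {y | B u y = 0 ∧ ∀ a : F, sg Q u (a • y) ∈ M}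
      zero_mem' := ⟨B_zero_right Q u, fun a => by rw [smul_zero, sg_zero]; exact one_mem _⟩
      add_mem' := fun {x y} hx hy => ⟨by rw [B_add_right Q, hx.1, hy.1, add_zero], fun a => by
        rw [smul_add, ← sg_add Q hQu (by rw [B_smul_right Q, hx.1, mul_zero])
          (by rw [B_smul_right Q, hy.1, mul_zero])]
        exact mul_mem (hx.2 a) (hy.2 a)⟩
      smul_mem' := fun b x hx => ⟨by rw [B_smul_right Q, hx.1, mul_zero], fun a => by
        rw [smul_smul]; exact hx.2 _⟩ }
  have hLi : ∀ x ∈ D i, B u x = 0 → x ∈ L := fun x hx hux =>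
    ⟨hux, fun a => H.sg_block_mem hM hu ((D i).smul_mem _ hx)⟩
  have hLmem : ∀ x, x ∈ L → sg Q u x ∈ M := fun x hx => by have := hx.2 1; rwa [one_smul] at this
  have hufix : ∀ m, m ≠ i → ∀ x ∈ D m, B u x = 0 := fun m hm x hx => block_orth H.hD hu hx hm.symm
  obtain ⟨f, hf, hfz⟩ := exists_comps H.hD z
  obtain ⟨j, hji, hj⟩ : ∃ j, j ≠ i ∧ f j ≠ 0 := by
    by_contra hall
    push Not at hall
    refine hzi ?_
    rw [hfz, Finset.sum_eq_single i (fun m _ hm => hall m hm) (by simp)]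
    exact hf i
  obtain ⟨e, he, hQe, hez⟩ := H.value_B (one_ne_zero (α := F)) (hf j) hj
  have hQ1 : Q e ≠ 0 := by rw [hQe]; exact one_ne_zero
  rw [← B_sum_comps H.hD hf he, ← hfz] at hez
  obtain ⟨e', he', hval, hne⟩ := exists_second H.hQ (U := D j) (Or.inr (by rw [H.dim]; exact H.hk)) he hQ1
  have hQ2 : Q e' ≠ 0 := hval ▸ hQ1
  -- a parameter inside the block `j`
  obtain ⟨y, hyj, hy0, hyM⟩ : ∃ y ∈ D j, y ≠ 0 ∧ sg Q u y ∈ M := by
    have hd := sg_diff_mem (mul_mem (refl_mem_iso Q e) (refl_mem_iso Q e')) (H.pair_mem hM he he' hval.symm)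
      hQu huz hz (by rw [act_mul, act_refl_fix Q hQ2 ((B_comm Q e' u).trans (hufix j hji e' he')),
        act_refl_fix Q hQ1 ((B_comm Q e u).trans (hufix j hji e he))])
    refine ⟨_, ?_, fun h0 => hne ?_, hd.2⟩
    · rw [act_mul, act_refl Q hQ2, act_refl Q hQ1, sub_right_comm _ _ z, sub_sub_cancel_left]
      exact (D j).sub_mem ((D j).neg_mem ((D j).smul_mem _ he')) ((D j).smul_mem _ he)
    · rw [act_mul] at h0
      have e1 := sub_eq_zero.1 h0
      have e2 : act (refl Q e') z = act (refl Q e) z := by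
        conv_rhs => rw [← e1]
        rw [← act_mul, refl_mul_self, act_one]
      rw [act_refl Q hQ2, act_refl Q hQ1, sub_right_inj] at e2
      rcases eq_or_ne ((Q e')⁻¹ * B e' z) 0 with h | h
      · rw [h, zero_smul] at e2
        exact absurd ((smul_eq_zero.1 e2.symm).resolve_right fun e0 => hQ1 (by rw [e0, map_zero]))
          (mul_ne_zero (inv_ne_zero hQ1) hez)
      · exact Submodule.mem_span_singleton.2 ⟨((Q e')⁻¹ * B e' z)⁻¹ * ((Q e)⁻¹ * B e z), by
          rw [← smul_smul, ← e2, inv_smul_smul₀ h]⟩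
  -- singular vectors of the block `j`
  have step : ∀ y ∈ D j, sg Q u y ∈ M → ∀ s ∈ D j, Q s = 0 → B s y ≠ 0 → s ∈ L := by
    intro y hy hyM s hs hQs hsy
    set P := Submodule.span F (Set.range ![s, y])
    have hP : ∀ w ∈ D j ⊓ perp Q P, B s w = 0 ∧ B y w = 0 := fun w hw =>
      ⟨orth hw.2 (Submodule.subset_span ⟨0, rfl⟩), orth hw.2 (Submodule.subset_span ⟨1, rfl⟩)⟩
    obtain ⟨w₁, hw₁, w₂, hw₂, hw12⟩ : ∃ w₁ ∈ D j ⊓ perp Q P, ∃ w₂ ∈ D j ⊓ perp Q P, B w₁ w₂ ≠ 0 := by
      by_contra hall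
      push Not at hall
      obtain ⟨w, hw, hw0⟩ := Submodule.exists_mem_ne_zero_of_ne_bot (p := D j ⊓ perp Q P) (fun e0 => by
        have h1 := le_finrank_inf_perp H.hQ (D j) P
        have h2 : finrank F P ≤ 2 := finrank_span_list_le ![s, y]
        have := H.hk
        rw [e0, finrank_bot, H.dim] at h1
        omega)
      obtain ⟨hsw, hyw⟩ := hP w hw
      refine hw0 (H.nd j w hw.1 fun x hx => ?_)
      set p := B s x / B s y
      set q := (B y x - p * B y y) / B s y
      have hm : x - p • y - q • s ∈ D j ⊓ perp Q P := by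
        refine ⟨(D j).sub_mem ((D j).sub_mem hx ((D j).smul_mem _ hy)) ((D j).smul_mem _ hs), ?_⟩
        rw [SetLike.mem_coe, mem_perp_span]
        rintro v ⟨n, rfl⟩
        fin_cases n
        · show B s _ = 0
          rw [B_sub_right Q, B_sub_right Q, B_smul_right Q, B_smul_right Q, B_self_of_singular Q hQs,
            show p * B s y = B s x from div_mul_cancel₀ _ hsy]
          ring
        · show B y _ = 0
          rw [B_sub_right Q, B_sub_right Q, B_smul_right Q, B_smul_right Q, B_comm Q y s,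
            show q * B s y = B y x - p * B y y from div_mul_cancel₀ _ hsy]
          ring
      have := hall w hw _ hm
      rwa [B_sub_right Q, B_sub_right Q, B_smul_right Q, B_smul_right Q, B_comm Q w y, hyw, B_comm Q w s, hsw,
        mul_zero, mul_zero, sub_zero, sub_zero] at this
    have huy : B u y = 0 := hufix j hji y hy
    obtain ⟨Φ, hΦe⟩ : ∃ Φ : (ι → F) → ι → F, ∀ w, Φ w = B s y • w - (Q w * B s y) • s := ⟨_, fun _ => rfl⟩
    have hΦ : ∀ w ∈ D j ⊓ perp Q P, B u (Φ w) = 0 ∧ sg Q u (Φ w) ∈ M := by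
      intro w hw
      obtain ⟨hsw, hyw⟩ := hP w hw
      have hd := sg_diff_mem (sg_mem_iso Q s w) (H.sg_block_mem hM hs hw.1) hQu huy hyM
        (act_sg_fix Q hQs hsw ((B_comm Q s u).trans (hufix j hji s hs))
          ((B_comm Q w u).trans (hufix j hji w hw.1)))
      rw [hΦe]
      rwa [act_sg Q hQs hsw, B_comm Q w y, hyw, zero_add, add_sub_assoc, add_sub_cancel_left] at hd
    refine ⟨hufix j hji s hs, fun a => ?_⟩
    set l := a / (B w₁ w₂ * B s y) with hl
    obtain ⟨h1a, h1b⟩ := hΦ (l • w₁) (Submodule.smul_mem _ l hw₁)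
    obtain ⟨h2a, h2b⟩ := hΦ w₂ hw₂
    obtain ⟨h3a, h3b⟩ := hΦ (l • w₁ + w₂) (Submodule.add_mem _ (Submodule.smul_mem _ l hw₁) hw₂)
    have h12 : B u (Φ (l • w₁) + Φ w₂) = 0 := by rw [B_add_right Q, h1a, h2a, add_zero]
    have h := mul_mem (mul_mem h1b h2b) (inv_mem h3b)
    rw [← sg_neg Q hQu h3a, sg_add Q hQu h1a h2a, sg_add Q hQu h12 (by rw [B_neg_right Q, h3a, neg_zero])] at h
    have ha' : l * B w₁ w₂ * B s y = a := by rw [hl]; field_simp
    rwa [show Φ (l • w₁) + Φ w₂ + -Φ (l • w₁ + w₂) = a • s by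
      rw [hΦe, hΦe, hΦe, Q_add Q, B_smul_left Q, ← ha']; module] at h
  have hDj : D j ≤ L := by
    have hd3 : 3 ≤ finrank F (D j) := by rw [H.dim]; exact H.hk
    obtain ⟨s₀, hs₀, hQs₀, hsy₀⟩ : ∃ s ∈ D j, Q s = 0 ∧ B s y ≠ 0 := by
      by_contra hall
      push Not at hall
      have := le_of_singular_le H.hQ (H.nd j) hd3 (N := perp Q (F ∙ y)) fun x hx hQx =>
        (mem_perp_span Q).2 fun v hv => by rw [Set.mem_singleton_iff.1 hv, B_comm Q]; exact hall x hx hQx
      exact hy0 (H.nd j y hyj fun x hx => orth (this hx) (Submodule.mem_span_singleton_self y))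
    have hs₀L := step y hyj hyM s₀ hs₀ hQs₀ hsy₀
    refine le_of_singular_le H.hQ (H.nd j) hd3 fun s hs hQs => ?_
    by_cases h1 : B s y = 0
    · by_cases h2 : B s s₀ = 0
      · have := step y hyj hyM (s + s₀) ((D j).add_mem hs hs₀)
          (by rw [Q_add Q, hQs, hQs₀, h2]; ring) (by rw [B_add_left Q, h1, zero_add]; exact hsy₀)
        simpa using L.sub_mem this hs₀L
      · exact step s₀ hs₀ (hLmem _ hs₀L) s hs hQs h2
    · exact step y hyj hyM s hs hQs h1
  have hall : ∀ l, l ≠ i → D l ≤ L := by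
    intro l hli
    rcases eq_or_ne j l with rfl | hjl
    · exact hDj
    obtain ⟨g, hg, hmap, hgfix⟩ := H.exists_swap hjl
    have hgI := omega_le_iso hg.2
    intro x hx
    obtain ⟨y, hy, rfl⟩ := (hmap.ge hx : x ∈ (D j).map (act g))
    refine ⟨hufix l hli _ hx, fun a => ?_⟩
    have h := mul_mem (mul_mem (hM hg) ((hDj hy).2 a)) (inv_mem (hM hg))
    rwa [conj_sg Q hgI, hgfix i hji.symm hli.symm u hu, map_smul] at h
  have hfull : Full Q M u := by
    intro w hw
    obtain ⟨g, hg, hgw⟩ := exists_comps H.hD w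
    refine hLmem _ ?_
    rw [hgw]
    refine L.sum_mem fun l _ => ?_
    rcases eq_or_ne l i with rfl | hli
    · refine hLi _ (hg l) ?_
      rwa [← B_sum_comps H.hD hg hu, ← hgw]
    · exact hall l hli (hg l)
  obtain ⟨x, hx, -, hx1⟩ := exists_one_in H.hQ (H.nd i) (P := ⊥) bot_le hu (by simpa using hu0)
  obtain ⟨v, hv, hQv, huv⟩ := exists_partner Q hQu hu hx (by rw [hx1]; exact one_ne_zero)
  obtain ⟨l, hl⟩ := H.exists_ne i
  obtain ⟨a, ha, hQa⟩ := H.value l (Q (u - v))
  have hne : Q (u - v) ≠ 0 := by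
    rw [Q_sub Q, hQu, hQv, huv]
    simp
  have hmove : act (refl Q a * refl Q (u - v)) u = v := by
    have hB1 : B (u - v) u = Q (u - v) := by
      rw [B_sub_left Q, B_self_of_singular Q hQu, B_comm Q v u, huv, Q_sub Q, hQu, hQv, huv]
      ring
    rw [act_mul, act_refl Q hne, hB1, inv_mul_cancel₀ hne, one_smul, sub_sub_cancel]
    exact act_refl_fix Q (hQa ▸ hne) (block_orth H.hD ha hv hl)
  have hfv := hfull.act (H.pair_mem hM ha ((D i).sub_mem hu hv) hQa)
    (mul_mem (refl_mem_iso Q a) (refl_mem_iso Q (u - v)))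
  rw [hmove] at hfv
  exact omega_le_of_full H.hQ H.n5 hQu hQv (by rw [huv]; exact one_ne_zero) hfull hfv

/-- The stabiliser of a decomposition into blocks of dimension at least three is maximal in `omegaGL`. -/
theorem maximal : Cfsg.Geo.IsMaximalIn (Cfsg.Geo.omegaGL Q)
    (Cfsg.Geo.decompositionStabilizer D ⊓ Cfsg.Geo.omegaGL Q) := by
  refine isMaximalIn_inf ?_ fun M hM hMΩ hout => ?_
  · have ht := H.two_le
    have hk := H.hk
    set i : Fin t := ⟨0, by omega⟩
    set j : Fin t := ⟨1, by omega⟩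
    have hij : i ≠ j := by simp [i, j]
    obtain ⟨s, hs, x, hx, hQs, hQx, hsx⟩ := exists_pair_in H.hQ (H.nd i) (by rw [H.dim]; exact hk)
    obtain ⟨w, hw, hQw⟩ := H.value j 1
    have hsw : B s w = 0 := block_orth H.hD hs hw hij
    refine ⟨sg Q s w, sg_mem_omega H.hQ H.n5 s w, fun ⟨σ, hσ⟩ => ?_⟩
    have hm : ∀ y ∈ D i, act (sg Q s w) y ∈ D (σ i) := fun y hy => (hσ i).le ⟨y, hy, rfl⟩
    have h1 := hm s hs
    rw [act_sg_fix Q hQs hsw (B_self_of_singular Q hQs) ((B_comm Q w s).trans hsw)] at h1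
    have hσi := block_index_eq H.hD h1 hs (fun e => by rw [e, B_zero_left Q] at hsx; exact zero_ne_one hsx)
    have h2 := hm x hx
    rw [hσi, act_sg Q hQs hsw, hsx, B_comm Q w x, block_orth H.hD hx hw hij, zero_add, mul_one, one_smul] at h2
    have h3 : x + w - Q w • s - (x - Q w • s) ∈ D i :=
      (D i).sub_mem h2 ((D i).sub_mem hx ((D i).smul_mem _ hs))
    rw [show x + w - Q w • s - (x - Q w • s) = w by module] at h3
    exact hij (block_index_eq H.hD h3 hw (fun e => by rw [e, map_zero] at hQw; exact zero_ne_one hQw))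
  obtain ⟨g, hg, hgS⟩ := hout
  exact H.omega_le_of_transferIn hM (H.transfer hM (H.mixed hM hMΩ hg hgS))

end BigBlocks

end Cfsg.Agent.MaxCl.Orth
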