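/-
Non-degenerate planes: values of the form, rotations as products of two reflections, and pairs of vectors of opposite
value with prescribed pairings.
-/
import Cfsg.Agent.Lib.MaxCl.OrthBlockVal

set_option autoImplicit false

namespace Cfsg.Agent.MaxCl.Orth

open scoped MatrixGroups Matrix
open Module (finrank)

variable {ι : Type} [Fintype ι] [DecidableEq ι] {F : Type*} [Field F] [Fintype F] {Q : QuadraticForm F (ι → F)}

set_option quotPrecheck false in
local notation "B" => QuadraticMap.polar (⇑Q)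

omit [Fintype ι] [DecidableEq ι] in
theorem exists_three_squares (h7 : 7 ≤ Fintype.card F) :
    ∃ g h : F, g ≠ 0 ∧ h ≠ 0 ∧ g * g ≠ 1 ∧ h * h ≠ 1 ∧ h * h ≠ g * g := by
  classical
  obtain ⟨g, hg0, hg⟩ := exists_ne_sq (F := F) (by omega)
  obtain ⟨h, -, hh⟩ := Finset.exists_mem_notMem_of_card_lt_card (s := ({0, 1, -1, g, -g} : Finset F))
    (t := Finset.univ) (by
      have := Finset.card_le_five (a := (0 : F)) (b := 1) (c := -1) (d := g) (e := -g)
      rw [Finset.card_univ]; omega)
  simp only [Finset.mem_insert, Finset.mem_singleton, not_or] at hh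
  exact ⟨g, h, hg0, hh.1, hg, fun e => (mul_self_eq_one_iff.1 e).elim hh.2.1 hh.2.2.1,
    fun e => (mul_self_eq_mul_self_iff.1 e).elim hh.2.2.2.1 hh.2.2.2.2⟩

variable (Q) in
/-- A non-degenerate plane over a field with other than three elements, with at least seven when it is of plus type. -/
structure GoodPlane (W : Submodule F (ι → F)) : Prop where
  nd : NonDeg Q W
  dim : finrank F W = 2
  q3 : Fintype.card F ≠ 3
  big : ∀ s ∈ W, s ≠ 0 → Q s = 0 → 7 ≤ Fintype.card F

namespace GoodPlane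

variable {W : Submodule F (ι → F)} (P : GoodPlane Q W)
include P

theorem exists_coord {x y : ι → F} (hx : x ∈ W) (hy : y ∈ W) (hx0 : x ≠ 0) (hyx : y ∉ F ∙ x) {z : ι → F}
    (hz : z ∈ W) : ∃ p r : F, p • x + r • y = z := by
  have hli : LinearIndependent F ![x, y] := by
    refine LinearIndependent.pair_iff.2 fun p r hpr => ?_
    have hr : r = 0 := by
      by_contra hr
      exact hyx (Submodule.mem_span_singleton.2 ⟨-(r⁻¹ * p), by
        rw [neg_smul, ← smul_smul, eq_neg_of_add_eq_zero_left hpr, smul_neg, neg_neg, inv_smul_smul₀ hr]⟩)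
    rw [hr, zero_smul, add_zero] at hpr
    exact ⟨(smul_eq_zero.1 hpr).resolve_right hx0, hr⟩
  have h : Submodule.span F (Set.range ![x, y]) = W := Submodule.eq_of_le_of_finrank_eq
    (Submodule.span_le.2 (by rintro _ ⟨i, rfl⟩; fin_cases i <;> [exact hx; exact hy]))
    (by rw [finrank_span_eq_card hli, Fintype.card_fin, P.dim])
  exact mem_span_pair_iff_range.1 (h.ge hz)

theorem eq_zero_of_singular_perp {a w : ι → F} (ha : a ∈ W) (hQa : Q a ≠ 0) (hw : w ∈ W) (hQw : Q w = 0)
    (haw : B a w = 0) : w = 0 := by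
  have ha0 : a ≠ 0 := fun e => hQa (by rw [e, map_zero])
  by_cases hwa : w ∈ F ∙ a
  · obtain ⟨l, rfl⟩ := Submodule.mem_span_singleton.1 hwa
    rw [Q_smul Q] at hQw
    rw [mul_self_eq_zero.1 ((mul_eq_zero.1 hQw).resolve_right hQa), zero_smul]
  refine P.nd w hw fun z hz => ?_
  obtain ⟨p, r, rfl⟩ := P.exists_coord ha hw ha0 hwa hz
  rw [B_add_right Q, B_smul_right Q, B_smul_right Q, B_comm Q w a, haw, B_self_of_singular Q hQw]
  ring

variable (hQ : (QuadraticMap.polarBilin Q).Nondegenerate)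
include hQ

theorem exists_odd_perp (h2 : (2 : F) ≠ 0) {a : ι → F} (ha : a ∈ W) (hQa : Q a ≠ 0) :
    ∃ w ∈ W, B a w = 0 ∧ Q w ≠ 0 := by
  obtain ⟨w, ⟨hw, haw⟩, hw0⟩ := Submodule.exists_mem_ne_zero_of_ne_bot (p := W ⊓ perp Q (F ∙ a)) (fun e => by
    have := le_finrank_inf_perp_one hQ W a
    rw [e, finrank_bot, P.dim] at this
    omega)
  have haw' : B a w = 0 := orth haw (Submodule.mem_span_singleton_self a)
  exact ⟨w, hw, haw', fun h => hw0 (P.eq_zero_of_singular_perp ha hQa hw h haw')⟩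

theorem exists_dual {a : ι → F} (ha : a ∈ W) (ha0 : a ≠ 0) : ∃ w ∈ W, B a w = 1 := by
  obtain ⟨w, hw, -, hw1⟩ := exists_one_in hQ P.nd (P := ⊥) bot_le ha (by simpa using ha0)
  exact ⟨w, hw, hw1⟩

theorem value (c : F) : ∃ a ∈ W, Q a = c := exists_value hQ P.nd (by rw [P.dim]) c

/-- A second, non-orthogonal vector of the same value, obtained by a reflection. -/
theorem exists_third {a : ι → F} (ha : a ∈ W) (hQa : Q a ≠ 0) :
    ∃ f ∈ W, Q f ≠ 0 ∧ B a (act (refl Q f) a) ≠ 0 ∧ act (refl Q f) a ∉ F ∙ a := by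
  by_cases h2 : (2 : F) = 0
  · obtain ⟨w, hw, haw⟩ := P.exists_dual hQ ha (fun e => hQa (by rw [e, map_zero]))
    obtain ⟨x, hx⟩ : ∃ x : F, Q (w + x • a) ≠ 0 := by
      by_contra hall
      push Not at hall
      have e0 := hall 0
      rw [zero_smul, add_zero] at e0
      have h7 := P.big w hw (fun e => by rw [e, B_zero_right Q] at haw; exact zero_ne_one haw) e0
      obtain ⟨g, hg0, hg1⟩ := exists_ne_sq (F := F) (by omega)
      have e1 := hall 1
      have e2 := hall g
      rw [Q_add Q, Q_smul Q, B_smul_right Q, B_comm Q w a, haw, e0] at e1 e2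
      have h3 : g * (g - 1) * Q a = 0 := by linear_combination e2 - g * e1
      exact hg1 (by rw [sub_eq_zero.1 ((mul_eq_zero.1 ((mul_eq_zero.1 h3).resolve_right hQa)).resolve_left hg0),
        one_mul])
    have hB1 : B (w + x • a) a = 1 := by
      rw [B_add_left Q, B_smul_left Q, B_comm Q w a, haw, B_self Q, h2]; ring
    refine ⟨w + x • a, W.add_mem hw (W.smul_mem _ ha), hx, ?_, fun h => ?_⟩
    · rw [act_refl Q hx, hB1, B_sub_right Q, B_smul_right Q, B_comm Q a (w + x • a), hB1, B_self Q, h2]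
      simpa using hx
    · rw [act_refl Q hx, hB1] at h
      have h' := (F ∙ a).sub_mem (Submodule.mem_span_singleton_self a) h
      rw [sub_sub_cancel, mul_one, Submodule.smul_mem_iff _ (inv_ne_zero hx)] at h'
      obtain ⟨l, hl⟩ := Submodule.mem_span_singleton.1 h'
      have := congrArg (B a) hl
      rw [B_smul_right Q, B_self Q, h2, B_comm Q a (w + x • a), hB1] at this
      simp at this
  obtain ⟨w, hw, haw, hQw⟩ := P.exists_odd_perp hQ h2 ha hQa
  obtain ⟨ε, hε, hεa, hεf⟩ : ∃ ε : F, ε ≠ 0 ∧ ε * ε * Q w ≠ Q a ∧ Q (a + ε • w) ≠ 0 := by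
    have hQf : ∀ ε : F, Q (a + ε • w) = Q a + ε * ε * Q w := fun ε => by
      rw [Q_add Q, Q_smul Q, B_smul_right Q, haw]; ring
    have h2q := Fintype.one_lt_card (α := F)
    have hodd := FiniteField.odd_card_of_char_ne_two (F := F) fun hc => h2 (by
      have := ringChar.of_eq hc
      exact CharTwo.two_eq_zero)
    by_contra hall
    push Not at hall
    have bad : ∀ ε : F, ε ≠ 0 → ε * ε * Q w = Q a ∨ ε * ε * Q w = -Q a := fun ε hε => by
      by_cases h : ε * ε * Q w = Q a
      · exact Or.inl h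
      · have := hall ε hε h
        rw [hQf] at this
        exact Or.inr (eq_neg_of_add_eq_zero_right this)
    have hsing : ∀ ε : F, ε ≠ 0 → ε * ε * Q w = -Q a → 7 ≤ Fintype.card F := fun ε _ e =>
      P.big _ (W.add_mem ha (W.smul_mem ε hw)) (fun e0 => by
        have := congrArg (B a) e0
        rw [B_add_right Q, B_smul_right Q, haw, B_self Q, B_zero_right Q, mul_zero, add_zero] at this
        exact mul_ne_zero h2 hQa this) (by rw [hQf, e, add_neg_cancel])
    obtain ⟨g, hg0, hg1⟩ := exists_ne_sq (F := F) (by have := P.q3; omega)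
    have cancel : ∀ x y : F, x * Q w = y * Q w → x = y := fun x y h => mul_right_cancel₀ hQw h
    have h7 : 7 ≤ Fintype.card F := by
      rcases bad 1 one_ne_zero with e | e
      · rcases bad g hg0 with e' | e'
        · exact absurd (cancel (g * g) (1 * 1) (e'.trans e.symm)) (by rwa [mul_one])
        · exact hsing g hg0 e'
      · exact hsing 1 one_ne_zero e
    obtain ⟨g, h, hg0, hh0, hg1, hh1, hgh⟩ := exists_three_squares h7
    rcases bad 1 one_ne_zero with e | e <;> rcases bad g hg0 with e' | e' <;> rcases bad h hh0 with e'' | e''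
    all_goals first
      | exact hg1 ((cancel _ _ (e'.trans e.symm)).trans (one_mul 1))
      | exact hh1 ((cancel _ _ (e''.trans e.symm)).trans (one_mul 1))
      | exact hgh (cancel _ _ (e''.trans e'.symm))
  have hB2 : B (a + ε • w) a = 2 * Q a := by
    rw [B_add_left Q, B_smul_left Q, B_comm Q w a, haw, B_self Q]; ring
  refine ⟨a + ε • w, W.add_mem ha (W.smul_mem _ hw), hεf, ?_, fun h => ?_⟩
  · rw [act_refl Q hεf, hB2, B_sub_right Q, B_smul_right Q, B_comm Q a (a + ε • w), hB2, B_self Q]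
    intro e
    field_simp at e
    have hQf : Q (a + ε • w) = Q a + ε * ε * Q w := by
      rw [Q_add Q, Q_smul Q, B_smul_right Q, haw]; ring
    rw [hQf] at e
    exact mul_ne_zero (mul_ne_zero h2 hQa) (sub_ne_zero.2 hεa) (by linear_combination e)
  · rw [act_refl Q hεf, hB2] at h
    have h' := (F ∙ a).sub_mem (Submodule.mem_span_singleton_self a) h
    rw [sub_sub_cancel, Submodule.smul_mem_iff _ (mul_ne_zero (inv_ne_zero hεf) (mul_ne_zero h2 hQa))] at h'
    obtain ⟨l, hl⟩ := Submodule.mem_span_singleton.1 h'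
    have := congrArg (B w) hl
    rw [B_smul_right Q, B_add_right Q, B_smul_right Q, B_comm Q w a, haw, B_self Q] at this
    exact mul_ne_zero hε (mul_ne_zero h2 hQw) (by linear_combination -this)

theorem exists_same {a : ι → F} (ha : a ∈ W) (hQa : Q a ≠ 0) :
    ∃ a' ∈ W, Q a' = Q a ∧ B a a' ≠ 0 ∧ a' ∉ F ∙ a := by
  obtain ⟨f, hf, hQf, hB, hn⟩ := P.exists_third hQ ha hQa
  refine ⟨_, ?_, Q_act (refl_mem_iso Q f) a, hB, hn⟩
  rw [act_refl Q hQf]
  exact W.sub_mem ha (W.smul_mem _ hf)

theorem exists_nonsingular_B {z : ι → F} (hz : z ∈ W) (hz0 : z ≠ 0) : ∃ e ∈ W, Q e ≠ 0 ∧ B e z ≠ 0 := by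
  by_contra hall
  push Not at hall
  obtain ⟨a, ha, hQa⟩ := P.value hQ 1
  have hQa' : Q a ≠ 0 := by rw [hQa]; exact one_ne_zero
  obtain ⟨a', ha', hQ', -, hn⟩ := P.exists_same hQ ha hQa'
  refine hz0 (P.nd z hz fun y hy => ?_)
  obtain ⟨p, r, rfl⟩ := P.exists_coord ha ha' (fun e => hQa' (by rw [e, map_zero])) hn hy
  rw [B_add_right Q, B_smul_right Q, B_smul_right Q, B_comm Q z a, B_comm Q z a', hall a ha hQa',
    hall a' ha' (hQ'.symm ▸ hQa')]
  ring

omit hQ in
/-- The displacement of a rotation. -/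
theorem Q_rotation {e f v : ι → F} (he : e ∈ W) (hf : f ∈ W) (hv : v ∈ W) (hQe : Q e ≠ 0) (hQf : Q f ≠ 0) :
    Q (act (refl Q e * refl Q f) v - v) = Q v * (4 - B e f * B e f / (Q e * Q f)) := by
  have he0 : e ≠ 0 := fun h => hQe (by rw [h, map_zero])
  rw [act_mul, act_refl Q hQe, act_refl Q hQf]
  by_cases hfe : f ∈ F ∙ e
  · obtain ⟨l, rfl⟩ := Submodule.mem_span_singleton.1 hfe
    have hl : l ≠ 0 := fun h => hQf (by rw [h, zero_smul, map_zero])
    simp only [B_sub_right Q, B_smul_right Q, B_smul_left Q, B_self Q, Q_smul Q, smul_smul]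
    rw [show v - ((l * l * Q e)⁻¹ * (l * B e v) * l) • e -
      ((Q e)⁻¹ * (B e v - (l * l * Q e)⁻¹ * (l * B e v) * l * (2 * Q e))) • e - v = (0 : F) • e by
        match_scalars <;> field_simp <;> ring, zero_smul, map_zero]
    field_simp
    ring
  obtain ⟨p, r, rfl⟩ := P.exists_coord he hf he0 hfe hv
  simp only [Q_sub Q, Q_add Q, Q_smul Q, B_sub_left Q, B_sub_right Q, B_add_left Q, B_add_right Q,
    B_smul_left Q, B_smul_right Q, B_self Q, B_comm Q f e]
  field_simp
  ring

/-- The squared cosines of a plane are more than half of the field, unless it is a plus plane in characteristic two. -/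
theorem exists_cosines (hcase : (2 : F) ≠ 0 ∨ ∀ s ∈ W, Q s = 0 → s = 0) {e : ι → F} (he : e ∈ W)
    (hQe : Q e ≠ 0) : ∃ K : Finset F, Fintype.card F < 2 * K.card ∧
      ∀ x ∈ K, ∃ f ∈ W, Q f ≠ 0 ∧ x = B e f * B e f / (Q e * Q f) := by
  classical
  by_cases h2 : (2 : F) = 0
  · have hns := hcase.resolve_left (fun h => h h2)
    obtain ⟨w, hw, hew⟩ := P.exists_dual hQ he (fun h => hQe (by rw [h, map_zero]))
    have hQf : ∀ x : F, Q (w + x • e) ≠ 0 := fun x h => by
      have h0 := hns _ (W.add_mem hw (W.smul_mem _ he)) h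
      have := congrArg (B e) h0
      rw [B_add_right Q, B_smul_right Q, hew, B_self Q, h2, B_zero_right Q] at this
      simp at this
    set F₁ : Finset F := Finset.univ.image fun x : F => (Q e * Q (w + x • e))⁻¹ with hF₁
    have hcard : Fintype.card F ≤ 2 * F₁.card := by
      have := Finset.card_le_mul_card_image (f := fun x : F => (Q e * Q (w + x • e))⁻¹) (s := Finset.univ) 2
        fun b hb => by
          obtain ⟨x₀, -, hx₀⟩ := Finset.mem_image.1 hb
          refine (Finset.card_le_card (t := {x₀, x₀ + (Q e)⁻¹}) fun x hx => ?_).trans Finset.card_le_two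
          have hxeq : (Q e * Q (w + x • e))⁻¹ = (Q e * Q (w + x₀ • e))⁻¹ :=
            (Finset.mem_filter.1 hx).2.trans hx₀.symm
          have h' := mul_left_cancel₀ hQe (inv_injective hxeq)
          rw [Q_add Q, Q_add Q, Q_smul Q, Q_smul Q, B_smul_right Q, B_smul_right Q, B_comm Q w e, hew] at h'
          have h3 : (x - x₀) * ((x + x₀) * Q e + 1) = 0 := by linear_combination h'
          rw [Finset.mem_insert, Finset.mem_singleton]
          rcases mul_eq_zero.1 h3 with h | h
          · exact Or.inl (sub_eq_zero.1 h)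
          · refine Or.inr ?_
            field_simp
            linear_combination h - (x₀ * Q e + 1) * h2
      rwa [Finset.card_univ] at this
    refine ⟨insert 0 F₁, ?_, fun x hx => ?_⟩
    · rw [Finset.card_insert_of_notMem]
      · omega
      · simp [hF₁, hQe, hQf]
    rcases Finset.mem_insert.1 hx with rfl | hx
    · exact ⟨e, he, hQe, by rw [B_self Q, h2]; simp⟩
    · obtain ⟨y, -, rfl⟩ := Finset.mem_image.1 hx
      refine ⟨_, W.add_mem hw (W.smul_mem y he), hQf y, ?_⟩
      rw [B_add_right Q, B_smul_right Q, hew, B_self Q, h2]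
      simp [mul_comm]
  obtain ⟨w, hw, hew, hQw⟩ := P.exists_odd_perp hQ h2 he hQe
  set Sq : Finset F := (Finset.univ.image fun x : F => x * x).filter fun s => Q e + s * Q w ≠ 0 with hSq
  have hsq : Fintype.card F + 1 ≤ 2 * (Finset.univ.image fun x : F => x * x).card := by
    have := Finset.card_le_mul_card_image (f := fun x : F => x * x) (s := Finset.univ) 2 fun b hb => by
      obtain ⟨x₀, -, hx₀⟩ := Finset.mem_image.1 hb
      refine (Finset.card_le_card (t := {x₀, -x₀}) fun x hx => ?_).trans Finset.card_le_two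
      have h' : x * x = x₀ * x₀ := (Finset.mem_filter.1 hx).2.trans hx₀.symm
      rw [Finset.mem_insert, Finset.mem_singleton]
      exact mul_self_eq_mul_self_iff.1 h'
    rw [Finset.card_univ] at this
    have ho := FiniteField.odd_card_of_char_ne_two (F := F) fun hc => h2 (by
      have := ringChar.of_eq hc
      exact CharTwo.two_eq_zero)
    omega
  have hcard : (Finset.univ.image fun x : F => x * x).card ≤ Sq.card + 1 := by
    refine (Finset.card_le_card (t := insert (-(Q e / Q w)) Sq) fun s hs => ?_).trans (Finset.card_insert_le _ _)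
    by_cases h : Q e + s * Q w = 0
    · refine Finset.mem_insert.2 (Or.inl ?_)
      field_simp
      linear_combination h
    · exact Finset.mem_insert.2 (Or.inr (Finset.mem_filter.2 ⟨hs, h⟩))
  refine ⟨insert 0 (Sq.image fun s => 4 * Q e / (Q e + s * Q w)), ?_, fun x hx => ?_⟩
  · rw [Finset.card_insert_of_notMem, Finset.card_image_of_injOn]
    · omega
    · intro a ha b hb h
      have h4 : (4 : F) ≠ 0 := by
        rw [show (4 : F) = 2 * 2 by norm_num]; exact mul_ne_zero h2 h2
      have := (div_eq_div_iff (Finset.mem_filter.1 ha).2 (Finset.mem_filter.1 hb).2).1 h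
      have h' := mul_left_cancel₀ (mul_ne_zero h4 hQe) this
      exact mul_right_cancel₀ hQw (by linear_combination -h')
    · intro h
      obtain ⟨s, hs, h0⟩ := Finset.mem_image.1 h
      rw [div_eq_zero_iff, mul_eq_zero] at h0
      rcases h0 with (h0 | h0) | h0
      · exact mul_ne_zero h2 h2 (by linear_combination h0)
      · exact hQe h0
      · exact (Finset.mem_filter.1 hs).2 h0
  rcases Finset.mem_insert.1 hx with rfl | hx
  · exact ⟨w, hw, hQw, by rw [hew]; simp⟩
  · obtain ⟨s, hs, rfl⟩ := Finset.mem_image.1 hx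
    obtain ⟨hs, hne⟩ := Finset.mem_filter.1 hs
    obtain ⟨y, -, rfl⟩ := Finset.mem_image.1 hs
    have hQf : Q (e + y • w) = Q e + y * y * Q w := by rw [Q_add Q, Q_smul Q, B_smul_right Q, hew]; ring
    refine ⟨_, W.add_mem he (W.smul_mem y hw), by rw [hQf]; exact hne, ?_⟩
    rw [hQf, B_add_right Q, B_smul_right Q, hew, B_self Q]
    field_simp
    ring

end GoodPlane

/-- A plane with a singular vector has a hyperbolic basis. -/
theorem exists_plane_coords (hQ : (QuadraticMap.polarBilin Q).Nondegenerate) {W : Submodule F (ι → F)}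
    (P : GoodPlane Q W) {s : ι → F} (hs : s ∈ W) (hs0 : s ≠ 0) (hQs : Q s = 0) :
    ∃ t ∈ W, Q t = 0 ∧ B s t = 1 ∧ ∀ z ∈ W, z = B t z • s + B s z • t ∧ Q z = B t z * B s z := by
  obtain ⟨z, hz, hsz⟩ := P.exists_dual hQ hs hs0
  obtain ⟨t, ht, hQt, hst⟩ := exists_partner Q hQs hs hz (by rw [hsz]; exact one_ne_zero)
  refine ⟨t, ht, hQt, hst, fun z hz => ?_⟩
  have hts : t ∉ F ∙ s := fun h => by
    obtain ⟨l, rfl⟩ := Submodule.mem_span_singleton.1 h
    rw [B_smul_right Q, B_self_of_singular Q hQs, mul_zero] at hst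
    exact zero_ne_one hst
  obtain ⟨p, r, rfl⟩ := P.exists_coord hs ht hs0 hts hz
  simp only [B_add_right Q, B_smul_right Q, B_self_of_singular Q hQs, B_self_of_singular Q hQt,
    B_comm Q t s, hst, Q_add Q, Q_smul Q, B_smul_left Q, hQs, hQt, mul_zero, mul_one, zero_add, add_zero]
  exact ⟨trivial, mul_comm r p ▸ rfl⟩

omit [Fintype ι] [DecidableEq ι] in
/-- Two points on the conic `r (1 - X ^ 2) + (1 - Y ^ 2) = 0` off the lines `X ^ 2 = 1`. -/
theorem exists_conic_point (h7 : 7 ≤ Fintype.card F) (h2 : (2 : F) ≠ 0) {r : F} (hr : r ≠ 0) :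
    ∃ X Y : F, X * X ≠ 1 ∧ r * (1 - X * X) + (1 - Y * Y) = 0 := by
  classical
  obtain ⟨ρ, hρ⟩ : ∃ ρ : F, ρ = if h : IsSquare (-r) then h.choose else 0 := ⟨_, rfl⟩
  obtain ⟨m, -, hm⟩ := Finset.exists_mem_notMem_of_card_lt_card (s := ({0, 1, -r, ρ, -ρ} : Finset F))
    (t := Finset.univ) (by
      have := Finset.card_le_five (a := (0 : F)) (b := 1) (c := -r) (d := ρ) (e := -ρ)
      rw [Finset.card_univ]; omega)
  simp only [Finset.mem_insert, Finset.mem_singleton, not_or] at hm
  obtain ⟨hm0, hm1, hmr, hmρ, hmρ'⟩ := hm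
  have hden : r + m * m ≠ 0 := fun e => by
    have hsq : IsSquare (-r) := ⟨m, by linear_combination -e⟩
    have hc := hsq.choose_spec
    rw [dif_pos hsq] at hρ
    rw [← hρ] at hc
    exact (mul_self_eq_mul_self_iff.1 (show m * m = ρ * ρ by linear_combination e + hc)).elim hmρ hmρ'
  set τ := -2 * (r + m) / (r + m * m) with hτ
  refine ⟨1 + τ, 1 + m * τ, fun h => ?_, ?_⟩
  · have h' : τ * (τ + 2) = 0 := by linear_combination h
    rcases mul_eq_zero.1 h' with h' | h'
    · rw [hτ, div_eq_zero_iff, mul_eq_zero, neg_eq_zero] at h'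
      exact hmr (eq_neg_of_add_eq_zero_right ((h'.resolve_right hden).resolve_left h2))
    · have h3 : 2 * (m * (m - 1)) = 0 := by
        have h4 : τ * (r + m * m) = -2 * (r + m) := by rw [hτ, div_mul_cancel₀ _ hden]
        linear_combination (r + m * m) * h' - h4
      exact mul_ne_zero h2 (mul_ne_zero hm0 (sub_ne_zero.2 hm1)) h3
  · have h4 : τ * (r + m * m) = -2 * (r + m) := by rw [hτ, div_mul_cancel₀ _ hden]
    linear_combination (-τ) * h4

/-- Vectors of opposite value with pairing one with given vectors of two isometric planes. -/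
theorem exists_opposite (hQ : (QuadraticMap.polarBilin Q).Nondegenerate) {W W' : Submodule F (ι → F)}
    (P : GoodPlane Q W) (P' : GoodPlane Q W') (φ : W ≃ₗ[F] W') (hφ : ∀ w : W, Q (φ w : ι → F) = Q (w : ι → F))
    {v v' : ι → F} (hv : v ∈ W) (hv' : v' ∈ W') (hQv : Q v ≠ 0) (hQv' : Q v' ≠ 0) :
    ∃ e ∈ W, ∃ e' ∈ W', B e v = 1 ∧ B e' v' = 1 ∧ Q e ≠ 0 ∧ Q e' = -Q e := by
  classical
  have hφs : ∀ s ∈ W', s ≠ 0 → Q s = 0 → ∃ s' ∈ W, s' ≠ 0 ∧ Q s' = 0 := fun s hs hs0 hQs =>
    ⟨_, (φ.symm ⟨s, hs⟩).2, fun e => hs0 (by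
      have e' : φ.symm ⟨s, hs⟩ = 0 := Subtype.ext e
      simpa using congrArg Subtype.val ((LinearEquiv.map_eq_zero_iff _).1 e')),
      by rw [← hφ, LinearEquiv.apply_symm_apply, hQs]⟩
  have hφs' : ∀ s ∈ W, s ≠ 0 → Q s = 0 → ∃ s' ∈ W', s' ≠ 0 ∧ Q s' = 0 := fun s hs hs0 hQs =>
    ⟨_, (φ ⟨s, hs⟩).2, fun e => hs0 (by
      have e' : φ ⟨s, hs⟩ = 0 := Subtype.ext e
      simpa using congrArg Subtype.val ((LinearEquiv.map_eq_zero_iff _).1 e')), by rw [hφ, hQs]⟩
  set α := Q v with hα
  set α' := Q v' with hα'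
  have hv0 : v ≠ 0 := fun h => hQv (by rw [hα, h, map_zero])
  have hv0' : v' ≠ 0 := fun h => hQv' (by rw [hα', h, map_zero])
  by_cases h2 : (2 : F) = 0
  · obtain ⟨w, hw, hvw⟩ := P.exists_dual hQ hv hv0
    obtain ⟨w', hw', hvw'⟩ := P'.exists_dual hQ hv' hv0'
    have hBe : ∀ x : F, B (w + x • v) v = 1 := fun x => by
      rw [B_add_left Q, B_smul_left Q, B_comm Q w v, hvw, B_self Q, h2]; ring
    have hQe : ∀ x : F, Q (w + x • v) = Q w + x + x * x * α := fun x => by
      rw [Q_add Q, Q_smul Q, B_smul_right Q, B_comm Q w v, hvw, ← hα]; ring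
    have hns : (∀ s ∈ W, Q s = 0 → s = 0) → ∀ x : F, Q (w + x • v) ≠ 0 := fun h x e => by
      have := congrArg (B v) (h _ (W.add_mem hw (W.smul_mem _ hv)) e)
      rw [B_comm Q, hBe, B_zero_right Q] at this
      exact one_ne_zero this
    -- the roots
    have hroots : (Finset.univ.filter fun x : F => Q (w + x • v) = 0).card ≤ 2 := by
      rcases (Finset.univ.filter fun x : F => Q (w + x • v) = 0).eq_empty_or_nonempty with h | ⟨x₀, hx₀⟩
      · rw [h]; simp
      refine (Finset.card_le_card (t := {x₀, x₀ + α⁻¹}) fun x hx => ?_).trans Finset.card_le_two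
      have e := (Finset.mem_filter.1 hx).2
      have e₀ := (Finset.mem_filter.1 hx₀).2
      rw [hQe] at e e₀
      have h3 : (x - x₀) * ((x + x₀) * α + 1) = 0 := by linear_combination e - e₀
      rw [Finset.mem_insert, Finset.mem_singleton]
      rcases mul_eq_zero.1 h3 with h | h
      · exact Or.inl (sub_eq_zero.1 h)
      · refine Or.inr ?_
        field_simp
        linear_combination h - (x₀ * α + 1) * h2
    by_cases hαα : α = α'
    · obtain ⟨x, hx⟩ : ∃ x : F, Q (w + x • v) ≠ 0 := by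
        by_contra hall
        push Not at hall
        have h7 := P.big (w + (0 : F) • v) (W.add_mem hw (W.smul_mem _ hv)) (fun e => by
          have := congrArg (B v) e
          rw [B_comm Q, hBe, B_zero_right Q] at this
          exact one_ne_zero this) (hall 0)
        rw [Finset.filter_true_of_mem fun x _ => hall x, Finset.card_univ] at hroots
        omega
      set e := w + x • v
      have hm : e ∈ W := W.add_mem hw (W.smul_mem _ hv)
      set t₀ := (φ ⟨v, hv⟩ : ι → F) with ht₀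
      have hφB : B (φ ⟨e, hm⟩ : ι → F) t₀ = 1 := by
        have h := hφ (⟨e, hm⟩ + ⟨v, hv⟩)
        rw [map_add, Submodule.coe_add, Submodule.coe_add, Q_add Q, Q_add Q, hφ, hφ, hBe] at h
        linear_combination h
      by_cases hd : Q (t₀ - v') = 0
      · have hBt : B t₀ v' = 0 := by
          rw [Q_sub Q, ht₀, hφ, ← hα', ← hα, ← hαα] at hd
          linear_combination α * h2 - hd
        have heq : t₀ = v' := by
          refine sub_eq_zero.1 (P'.eq_zero_of_singular_perp hv' hQv' (W'.sub_mem (φ _).2 hv') hd ?_)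
          rw [B_sub_right Q, B_comm Q v' t₀, hBt, B_self Q, h2]; ring
        refine ⟨e, hm, _, (φ ⟨e, hm⟩).2, hBe x, by rw [← heq]; exact hφB, hx, ?_⟩
        rw [hφ]
        linear_combination Q e * h2
      · refine ⟨e, hm, act (refl Q (t₀ - v')) (φ ⟨e, hm⟩ : ι → F), ?_, hBe x, ?_, hx, ?_⟩
        · rw [act_refl Q hd]; exact W'.sub_mem (φ _).2 (W'.smul_mem _ (W'.sub_mem (φ _).2 hv'))
        · have himg : act (refl Q (t₀ - v')) t₀ = v' := by
            have h1 : B (t₀ - v') t₀ = Q (t₀ - v') := by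
              rw [Q_sub Q, B_sub_left Q, B_self Q, B_comm Q v' t₀, ht₀, hφ, ← hα', ← hαα, ← hα]; ring
            rw [act_refl Q hd, h1, inv_mul_cancel₀ hd, one_smul, sub_sub_cancel]
          rw [show B (act (refl Q (t₀ - v')) (φ ⟨e, hm⟩ : ι → F)) v' =
            B (act (refl Q (t₀ - v')) (φ ⟨e, hm⟩ : ι → F)) (act (refl Q (t₀ - v')) t₀) by rw [himg],
            B_act (refl_mem_iso Q _), hφB]
        · rw [Q_act (refl_mem_iso Q _), hφ]
          linear_combination Q e * h2
    have hsum : α + α' ≠ 0 := fun h => hαα (by linear_combination h - α' * h2)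
    have hsq : ∀ z : F, ∃ x : F, x * x * (α + α') = Q w + Q w' + z + α' * (z * z) := fun z =>
      exists_scale_two h2 hsum _
    choose X hX using hsq
    have hBe' : ∀ z : F, B (w' + z • v') v' = 1 := fun z => by
      rw [B_add_left Q, B_smul_left Q, B_comm Q w' v', hvw', B_self Q, h2]; ring
    have heq : ∀ z, Q (w' + (X z + z) • v') = -Q (w + X z • v) := fun z => by
      rw [hQe, Q_add Q, Q_smul Q, B_smul_right Q, B_comm Q w' v', hvw', ← hα']
      linear_combination hX z + (Q w + Q w' + X z + α' * (X z * z) + α' * (z * z) + z) * h2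
    obtain ⟨z, hz⟩ : ∃ z, Q (w + X z • v) ≠ 0 := by
      by_cases hsing : ∀ s ∈ W, Q s = 0 → s = 0
      · exact ⟨0, hns hsing _⟩
      push Not at hsing
      obtain ⟨s, hs, hQs, hs0⟩ := hsing
      have h7 := P.big s hs hs0 hQs
      by_contra hall
      push Not at hall
      have h4 := Finset.card_le_mul_card_image (f := X) (s := Finset.univ) 2 fun b hb => by
        obtain ⟨z₀, -, hz₀⟩ := Finset.mem_image.1 hb
        refine (Finset.card_le_card (t := {z₀, z₀ + α'⁻¹}) fun z hz => ?_).trans Finset.card_le_two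
        have hxz : X z = X z₀ := (Finset.mem_filter.1 hz).2.trans hz₀.symm
        have e1 := hX z
        have e2 := hX z₀
        rw [hxz] at e1
        have h3 : (z - z₀) * ((z + z₀) * α' + 1) = 0 := by linear_combination e2 - e1
        rw [Finset.mem_insert, Finset.mem_singleton]
        rcases mul_eq_zero.1 h3 with h | h
        · exact Or.inl (sub_eq_zero.1 h)
        · refine Or.inr ?_
          field_simp
          linear_combination h - (z₀ * α' + 1) * h2
      rw [Finset.card_univ] at h4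
      have h5 := (Finset.card_le_card (t := Finset.univ.filter fun x : F => Q (w + x • v) = 0)
        (s := Finset.univ.image X) fun x hx => by
          obtain ⟨z, -, rfl⟩ := Finset.mem_image.1 hx
          exact Finset.mem_filter.2 ⟨Finset.mem_univ _, hall z⟩).trans hroots
      omega
    exact ⟨_, W.add_mem hw (W.smul_mem _ hv), _, W'.add_mem hw' (W'.smul_mem _ hv'), hBe _, hBe' _, hz, heq z⟩
  obtain ⟨w, hw, hvw, hQw⟩ := P.exists_odd_perp hQ h2 hv hQv
  obtain ⟨w', hw', hvw', hQw'⟩ := P'.exists_odd_perp hQ h2 hv' hQv'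
  set a := (2 * α)⁻¹
  set a' := (2 * α')⁻¹
  have hBe : ∀ x : F, B (a • v + x • w) v = 1 := fun x => by
    rw [B_add_left Q, B_smul_left Q, B_smul_left Q, B_comm Q w v, hvw, B_self Q, ← hα]
    rw [mul_zero, add_zero, inv_mul_cancel₀ (mul_ne_zero h2 hQv)]
  have hBe' : ∀ x : F, B (a' • v' + x • w') v' = 1 := fun x => by
    rw [B_add_left Q, B_smul_left Q, B_smul_left Q, B_comm Q w' v', hvw', B_self Q, ← hα']
    rw [mul_zero, add_zero, inv_mul_cancel₀ (mul_ne_zero h2 hQv')]
  by_cases hsing : ∀ s ∈ W, Q s = 0 → s = 0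
  · obtain ⟨x, y, hxy⟩ := exists_two_squares h2 hQw hQw' (-(a * a * α + a' * a' * α'))
    refine ⟨_, W.add_mem (W.smul_mem a hv) (W.smul_mem x hw), _, W'.add_mem (W'.smul_mem a' hv') (W'.smul_mem y hw'),
      hBe x, hBe' y, fun h => ?_, ?_⟩
    · have := hBe x
      rw [hsing _ (W.add_mem (W.smul_mem a hv) (W.smul_mem x hw)) h, B_zero_left Q] at this
      exact zero_ne_one this
    · simp only [Q_add Q, Q_smul Q, B_smul_left Q, B_smul_right Q, hvw, hvw', ← hα, ← hα']
      linear_combination hxy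
  push Not at hsing
  obtain ⟨s, hs, hQs, hs0⟩ := hsing
  have h7 := P.big s hs hs0 hQs
  -- the perpendicular of `v` has value in the class of `-α`
  have norm : ∀ (W : Submodule F (ι → F)), GoodPlane Q W → ∀ v w : ι → F, v ∈ W → w ∈ W → Q v ≠ 0 → Q w ≠ 0 →
      B v w = 0 → (∃ s ∈ W, s ≠ 0 ∧ Q s = 0) → ∃ μ : F, μ ≠ 0 ∧ Q (μ • w) = -Q v := by
    rintro W P v w hv hw hQv hQw hvw ⟨s, hs, hs0, hQs⟩
    have hwv : w ∉ F ∙ v := fun h => by
      obtain ⟨l, rfl⟩ := Submodule.mem_span_singleton.1 h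
      rw [B_smul_right Q, B_self Q] at hvw
      exact hQw (by rw [(mul_eq_zero.1 hvw).resolve_right (mul_ne_zero h2 hQv), zero_smul, map_zero])
    obtain ⟨p, r, rfl⟩ := P.exists_coord hv hw (fun h => hQv (by rw [h, map_zero])) hwv hs
    rw [Q_add Q, Q_smul Q, Q_smul Q, B_smul_left Q, B_smul_right Q, hvw] at hQs
    have hp : p ≠ 0 := fun hp => by
      rw [hp] at hQs
      have hr : r = 0 := by
        by_contra hr
        exact mul_ne_zero (mul_ne_zero hr hr) hQw (by linear_combination hQs)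
      exact hs0 (by rw [hp, hr, zero_smul, zero_smul, add_zero])
    have hr : r ≠ 0 := fun hr => by
      rw [hr] at hQs
      exact mul_ne_zero (mul_ne_zero hp hp) hQv (by linear_combination hQs)
    refine ⟨r / p, div_ne_zero hr hp, ?_⟩
    rw [Q_smul Q]
    field_simp
    linear_combination hQs
  obtain ⟨μ, -, hμe⟩ := norm W P v w hv hw hQv hQw hvw ⟨s, hs, hs0, hQs⟩
  obtain ⟨μ', -, hμe'⟩ := norm W' P' v' w' hv' hw' hQv' hQw' hvw' (hφs' s hs hs0 hQs)
  obtain ⟨X, Y, hX, hXY⟩ := exists_conic_point h7 h2 (div_ne_zero hQv' hQv)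
  have hvμ : B v (μ • w) = 0 := by rw [B_smul_right Q, hvw, mul_zero]
  have hvμ' : B v' (μ' • w') = 0 := by rw [B_smul_right Q, hvw', mul_zero]
  have hval : ∀ (v w : ι → F) (α X : F), Q v = α → Q w = -α → B v w = 0 →
      Q ((2 * α)⁻¹ • v + (X / (2 * α)) • w) = (1 - X * X) * ((2 * α)⁻¹ * (2 * α)⁻¹ * α) := by
    intro v w α X hQ1 hQ2 hB
    rw [Q_add Q, Q_smul Q, Q_smul Q, B_smul_left Q, B_smul_right Q, hQ1, hQ2, hB, div_eq_mul_inv]; ring
  refine ⟨a • v + (X / (2 * α) * μ) • w, W.add_mem (W.smul_mem _ hv) (W.smul_mem _ hw),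
    a' • v' + (Y / (2 * α') * μ') • w', W'.add_mem (W'.smul_mem _ hv') (W'.smul_mem _ hw'), hBe _, hBe' _, ?_, ?_⟩
  · rw [← smul_smul, hval v _ α X rfl hμe hvμ]
    exact mul_ne_zero (sub_ne_zero.2 (Ne.symm hX)) (mul_ne_zero (mul_ne_zero
      (inv_ne_zero (mul_ne_zero h2 hQv)) (inv_ne_zero (mul_ne_zero h2 hQv))) hQv)
  · rw [← smul_smul, ← smul_smul, hval v _ α X rfl hμe hvμ, hval v' _ α' Y rfl hμe' hvμ']
    field_simp at hXY ⊢
    linear_combination hXY

end Cfsg.Agent.MaxCl.Orth
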