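/-
Orthogonal decompositions into planes: an overgroup of the stabiliser inside `omegaGL` contains a product of two
reflections mixing the blocks, or a Siegel element with small support.
-/
import Cfsg.Agent.Lib.MaxCl.OrthPlaneVal
import Cfsg.Agent.Lib.MaxCl.OrthBlocksSwap

set_option autoImplicit false

namespace Cfsg.Agent.MaxCl.Orth

open scoped MatrixGroups Matrix
open Module (finrank)

variable {ι : Type} [Fintype ι] [DecidableEq ι] {F : Type*} [Field F] {Q : QuadraticForm F (ι → F)}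

set_option quotPrecheck false in
local notation "B" => QuadraticMap.polar (⇑Q)

variable {t : ℕ} {D : Fin t → Submodule F (ι → F)}

/-- A product of the reflections of two vectors differing by a singular one is a Siegel element. -/
theorem refl_shift {x y : ι → F} (hx : Q x = 0) (hy : Q y ≠ 0) (hxy : B x y = 0) (κ : F) :
    refl Q y * refl Q (y + κ • x) = sg Q x ((κ / Q y) • y) := by
  have hyx : B y x = 0 := (B_comm Q y x).trans hxy
  have hQ' : Q (y + κ • x) = Q y := by rw [Q_add Q, Q_smul Q, B_smul_right Q, hx, hyx]; ring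
  apply gl_ext
  intro z
  rw [act_mul, act_refl Q (a := y + κ • x) (by rw [hQ']; exact hy), act_refl Q hy, hQ', act_sg Q hx (by rw [B_smul_right Q, hxy, mul_zero]),
    B_sub_right Q, B_smul_right Q, B_smul_left Q, Q_smul Q, B_add_right Q, B_smul_right Q, hyx, B_self Q,
    B_add_left Q, B_smul_left Q]
  match_scalars <;> field_simp <;> ring

/-- A vector orthogonal to all blocks outside a set lies in the sum of the others. -/
theorem mem_sup_of_orth (hD : Cfsg.Geo.IsOrthogonalMDecomposition Q 2 D) (W : Finset (Fin t)) {v : ι → F}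
    (h : ∀ k ∉ W, ∀ y ∈ D k, B y v = 0) : v ∈ W.sup D := by
  obtain ⟨f, hf, rfl⟩ := exists_comps hD v
  refine Submodule.sum_mem _ fun i _ => ?_
  by_cases hi : i ∈ W
  · exact (Finset.le_sup (f := D) hi) (hf i)
  · have : f i = 0 := block_nonDeg hD i _ (hf i) fun y hy => by
      rw [B_comm Q, ← B_sum_comps hD hf hy]
      exact h i hi y hy
    rw [this]; exact Submodule.zero_mem _

/-- One vector in each block of a set and a second one in some of them are independent. -/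
theorem li_block_pairs (hD : Cfsg.Geo.IsOrthogonalMDecomposition Q 2 D) {S T : Finset (Fin t)} (hT : T ⊆ S)
    {b b' : Fin t → ι → F} (hb : ∀ i, b i ∈ D i) (hb0 : ∀ i, b i ≠ 0) (hb' : ∀ i, b' i ∈ D i)
    (hbn : ∀ i, b' i ∉ F ∙ b i) :
    LinearIndependent F (Sum.elim (fun i : S => b i) fun i : T => b' i) := by
  classical
  rw [Fintype.linearIndependent_iff]
  intro lam h
  rw [Fintype.sum_sum_type] at h
  simp only [Sum.elim_inl, Sum.elim_inr] at h
  obtain ⟨p, hp⟩ : ∃ p : Fin t → ι → F, p = fun i => (if h : i ∈ S then lam (Sum.inl ⟨i, h⟩) • b i else 0) +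
      (if h : i ∈ T then lam (Sum.inr ⟨i, h⟩) • b' i else 0) := ⟨_, rfl⟩
  have hp' : ∀ i, p i ∈ D i := fun i => by
    rw [hp]
    refine (D i).add_mem ?_ ?_ <;> split_ifs
    · exact (D i).smul_mem _ (hb i)
    · exact (D i).zero_mem
    · exact (D i).smul_mem _ (hb' i)
    · exact (D i).zero_mem
  have e1 : ∀ (U : Finset (Fin t)) (φ : U → ι → F),
      ∑ i, (if h : i ∈ U then φ ⟨i, h⟩ else 0) = ∑ n : U, φ n := fun U φ => by
    rw [← Finset.sum_subset (Finset.subset_univ U) fun i _ hi => by rw [dif_neg hi], ← Finset.sum_attach]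
    exact Finset.sum_congr rfl fun i _ => dif_pos i.2
  have hsum : ∑ i, p i = 0 := by
    rw [hp, Finset.sum_add_distrib, e1 S fun n => lam (Sum.inl n) • b n, e1 T fun n => lam (Sum.inr n) • b' n]
    exact h
  have hk := comps_unique hD hp' (fun i => (D i).zero_mem) (hsum.trans Finset.sum_const_zero.symm)
  have hli : ∀ i, ∀ α β : F, α • b i + β • b' i = 0 → α = 0 ∧ β = 0 := fun i α β e => by
    rcases eq_or_ne β 0 with rfl | hβ
    · rw [zero_smul, add_zero] at e
      exact ⟨(smul_eq_zero.1 e).resolve_right (hb0 i), rfl⟩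
    · refine absurd (Submodule.mem_span_singleton.2 ⟨-(α / β), ?_⟩) (hbn i)
      have e' : α • b i = -(β • b' i) := eq_neg_of_add_eq_zero_left e
      rw [neg_smul, div_eq_inv_mul, mul_smul, e', smul_neg, neg_neg, smul_smul, inv_mul_cancel₀ hβ, one_smul]
  rintro (⟨i, hi⟩ | ⟨i, hi⟩)
  · have hpi := hk i
    rw [hp] at hpi
    simp only [dif_pos hi] at hpi
    by_cases hi' : i ∈ T
    · rw [dif_pos hi'] at hpi; exact (hli i _ _ hpi).1
    · rw [dif_neg hi', add_zero] at hpi; exact (smul_eq_zero.1 hpi).resolve_right (hb0 i)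
  · have hpi := hk i
    rw [hp] at hpi
    simp only [dif_pos hi, dif_pos (hT hi)] at hpi
    exact (hli i _ _ hpi).2

/-- Four sets of two points among at least five leave a point outside three of them. -/
theorem exists_outside_three {t : ℕ} (ht : 5 ≤ t) {T₁ T₂ T₃ T₄ : Finset (Fin t)} (h₁ : T₁.card ≤ 2)
    (h₂ : T₂.card ≤ 2) (h₃ : T₃.card ≤ 2) (h₄ : T₄.card ≤ 2) :
    ∃ m, (m ∉ T₁ ∧ m ∉ T₂ ∧ m ∉ T₃) ∨ (m ∉ T₁ ∧ m ∉ T₂ ∧ m ∉ T₄) ∨
      (m ∉ T₁ ∧ m ∉ T₃ ∧ m ∉ T₄) ∨ (m ∉ T₂ ∧ m ∉ T₃ ∧ m ∉ T₄) := by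
  classical
  by_contra hall
  push Not at hall
  let c : Finset (Fin t) → Fin t → ℕ := fun T m => if m ∈ T then 1 else 0
  have hc : ∀ m, 2 ≤ c T₁ m + c T₂ m + c T₃ m + c T₄ m := fun m => by
    obtain ⟨p1, p2, p3, p4⟩ := hall m
    simp only [c]
    split_ifs <;> simp_all
  have hT : ∀ T : Finset (Fin t), ∑ m, c T m = T.card := fun T => by simp [c]
  have hsum := Finset.sum_le_sum (s := Finset.univ) fun m _ => hc m
  simp only [Finset.sum_add_distrib, hT, Finset.sum_const, Finset.card_univ, Fintype.card_fin, smul_eq_mul] at hsum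
  omega

variable (Q D) in
/-- A Siegel element of `M` at a singular vector of small support, with parameter outside that support. -/
def SeedIn (M : Subgroup (GL ι F)) : Prop :=
  ∃ u, u ≠ 0 ∧ Q u = 0 ∧ ∃ S : Finset (Fin t), S.card + 2 ≤ t ∧ (∀ l ∉ S, ∀ x ∈ D l, B u x = 0) ∧
    ∃ y, B u y = 0 ∧ sg Q u y ∈ M ∧ ∃ l ∉ S, ∃ x ∈ D l, B x y ≠ 0

variable (Q D) in
/-- `v` may be paired with every block vector of the same value. -/
def Adm (M : Subgroup (GL ι F)) (v : ι → F) : Prop :=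
  ∀ l, ∀ a ∈ D l, Q a = Q v → refl Q v * refl Q a ∈ M

/-- The hypotheses on a decomposition into planes. -/
structure PlaneBlocks [Fintype F] (Q : QuadraticForm F (ι → F)) (D : Fin t → Submodule F (ι → F)) : Prop where
  hD : Cfsg.Geo.IsOrthogonalMDecomposition Q 2 D
  hQ : (QuadraticMap.polarBilin Q).Nondegenerate
  hn : 10 ≤ Fintype.card ι
  q3 : Fintype.card F ≠ 3
  big : ∀ i, ∀ s ∈ D i, s ≠ 0 → Q s = 0 → 7 ≤ Fintype.card F

variable [Fintype F]

namespace PlaneBlocks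

variable (H : PlaneBlocks Q D)
include H

theorem good (i : Fin t) : GoodPlane Q (D i) :=
  ⟨block_nonDeg H.hD i, H.hD.decomp.decomp.finrank_eq i, H.q3, H.big i⟩

theorem five_le : 5 ≤ t := by
  have := card_eq_mul H.hD
  have := H.hn
  omega

theorem n5 : 5 ≤ Fintype.card ι := by have := H.hn; omega

theorem value (i : Fin t) (c : F) : ∃ a ∈ D i, Q a = c := (H.good i).value H.hQ c

theorem exists_singular_block {s : ι → F} {m : Fin t} (hs : s ∈ D m) (hs0 : s ≠ 0) (hQs : Q s = 0) (i : Fin t) :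
    ∃ s' ∈ D i, s' ≠ 0 ∧ Q s' = 0 := by
  obtain ⟨φ, hφ⟩ := H.hD.isometric m i
  exact ⟨_, (φ ⟨s, hs⟩).2, fun e => hs0 (by
    have e' : φ ⟨s, hs⟩ = 0 := Subtype.ext e
    simpa using congrArg Subtype.val ((LinearEquiv.map_eq_zero_iff _).1 e')), by rw [hφ, hQs]⟩

theorem exists_notMem (s : Finset (Fin t)) (h : s.card + 1 ≤ t) : ∃ n, n ∉ s := by
  obtain ⟨n, -, hn⟩ := Finset.exists_mem_notMem_of_card_lt_card (s := s) (t := Finset.univ)
    (by rw [Finset.card_univ, Fintype.card_fin]; omega)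
  exact ⟨n, hn⟩

/-- A rotation of one plane scaling a singular vector. -/
theorem exists_torus {m : Fin t} {x : ι → F} (hx : x ∈ D m) (hx0 : x ≠ 0) (hQx : Q x = 0) :
    ∃ e ∈ D m, ∃ f ∈ D m, Q e ≠ 0 ∧ Q f = Q e ∧ ∃ l : F, l ≠ 1 ∧ act (refl Q e * refl Q f) x = l • x := by
  have h7 := H.big m x hx hx0 hQx
  obtain ⟨y, hy, hQy, hxy, -⟩ := exists_plane_coords H.hQ (H.good m) hx hx0 hQx
  obtain ⟨g, hg0, hg1⟩ := exists_ne_sq (F := F) (by omega)
  have hQ1 : Q (g • x + g⁻¹ • y) = 1 := by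
    rw [Q_add Q, Q_smul Q, Q_smul Q, B_smul_left Q, B_smul_right Q, hQx, hQy, hxy]; field_simp; ring
  have hQ2 : Q (x + y) = 1 := by rw [Q_add Q, hQx, hQy, hxy]; ring
  refine ⟨g • x + g⁻¹ • y, (D m).add_mem ((D m).smul_mem _ hx) ((D m).smul_mem _ hy), x + y, (D m).add_mem hx hy,
    by rw [hQ1]; exact one_ne_zero, by rw [hQ1, hQ2], g * g, hg1, ?_⟩
  rw [act_mul, act_refl Q (hQ1.trans_ne one_ne_zero), act_refl Q (hQ2.trans_ne one_ne_zero), hQ1, hQ2]
  simp only [B_sub_right Q, B_smul_right Q, B_add_left Q, B_smul_left Q, B_add_right Q, B_self_of_singular Q hQx,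
    B_self_of_singular Q hQy, B_comm Q y x, hxy]
  match_scalars <;> field_simp <;> ring

theorem exists_outside {z : ι → F} {m : Fin t} (hz : z ∉ D m) : ∃ l, l ≠ m ∧ ∃ x ∈ D l, B x z ≠ 0 := by
  obtain ⟨f, hf, hfz⟩ := exists_comps H.hD z
  obtain ⟨l, hlm, hl⟩ : ∃ l, l ≠ m ∧ f l ≠ 0 := by
    by_contra hall
    push Not at hall
    refine hz ?_
    rw [hfz, Finset.sum_eq_single m (fun l _ hl => hall l hl) (by simp)]
    exact hf m
  refine ⟨l, hlm, ?_⟩
  obtain ⟨x, hx, -, hxl⟩ := (H.good l).exists_nonsingular_B H.hQ (hf l) hl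
  exact ⟨x, hx, by rwa [hfz, B_sum_comps H.hD hf hx]⟩

theorem nonblock_of_comps {f : Fin t → ι → F} (hf : ∀ n, f n ∈ D n) {l m : Fin t} (hlm : l ≠ m) (hl : f l ≠ 0)
    (hm : f m ≠ 0) (n : Fin t) : ∑ i, f i ∉ D n := by
  intro h
  have key : ∀ i, i ≠ n → f i = 0 := fun i hi => by
    refine block_nonDeg H.hD i _ (hf i) fun z hz => ?_
    rw [B_comm Q, ← B_sum_comps H.hD hf hz]
    exact block_orth H.hD hz h hi
  rcases eq_or_ne l n with rfl | hln
  · exact hm (key m hlm.symm)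
  · exact hl (key l hln)

variable {M : Subgroup (GL ι F)} (hM : Cfsg.Geo.decompositionStabilizer D ⊓ Cfsg.Geo.omegaGL Q ≤ M)
include hM

theorem pair_mem {a a' : ι → F} {i i' : Fin t} (ha : a ∈ D i) (ha' : a' ∈ D i') (h : Q a = Q a') :
    refl Q a * refl Q a' ∈ M :=
  hM ⟨refl_pair_mem_stab H.hD ha ha', by rw [omega_eq_sgGroup H.hQ H.n5]; exact refl_mul_refl_mem H.hQ H.n5 h⟩

theorem adm_of {v a : ι → F} {i : Fin t} (ha : a ∈ D i) (hQa : Q a = Q v) (h : refl Q v * refl Q a ∈ M) :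
    Adm Q D M v := fun l a' ha' hQa' => by
  have := mul_mem h (H.pair_mem hM ha ha' (hQa.trans hQa'.symm))
  rwa [mul_assoc, ← mul_assoc (refl Q a) (refl Q a), refl_mul_self, one_mul] at this

theorem adm_pair {x y : ι → F} (hx : Adm Q D M x) (hy : Adm Q D M y) (h : Q x = Q y) :
    refl Q x * refl Q y ∈ M := by
  obtain ⟨a, ha, hQa⟩ := H.value ⟨0, by have := H.five_le; omega⟩ (Q x)
  have := mul_mem (hx _ a ha hQa) (inv_mem (hy _ a ha (hQa.trans h)))
  rwa [mul_inv_rev, refl_inv, refl_inv, mul_assoc, ← mul_assoc (refl Q a) (refl Q a), refl_mul_self, one_mul] at this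

theorem adm_act {v : ι → F} (hv : Adm Q D M v) {h : GL ι F}
    (hh : h ∈ Cfsg.Geo.decompositionStabilizer D ⊓ Cfsg.Geo.omegaGL Q) : Adm Q D M (act h v) := by
  intro l a ha hQa
  have hI := omega_le_iso hh.2
  have hh1 : h ∈ Cfsg.Geo.decompositionStabilizer D := hh.1
  obtain ⟨σ, hσ⟩ := inv_mem hh1
  have ha' : act h⁻¹ a ∈ D (σ l) := (hσ l).le ⟨a, ha, rfl⟩
  have := mul_mem (mul_mem (hM hh) (hv _ _ ha' (by rw [Q_act (inv_mem hI), hQa, Q_act hI]))) (inv_mem (hM hh))
  rwa [show h * (refl Q v * refl Q (act h⁻¹ a)) * h⁻¹ = (h * refl Q v * h⁻¹) * (h * refl Q (act h⁻¹ a) * h⁻¹) by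
    group, conj_refl Q hI, conj_refl Q hI, act_act_inv] at this

theorem adm_refl {x y : ι → F} (hx : Adm Q D M x) (hy : Adm Q D M y) (h : Q x = Q y) :
    Adm Q D M (act (refl Q x) y) := by
  intro l a ha hQa
  rw [Q_act (refl_mem_iso Q x)] at hQa
  rw [← conj_refl Q (refl_mem_iso Q x), refl_inv, show refl Q x * refl Q y * refl Q x * refl Q a =
    (refl Q x * refl Q y) * (refl Q x * refl Q a) by group]
  exact mul_mem (H.adm_pair hM hx hy h) (hx l a ha (hQa.trans h.symm))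

/-- An admissible vector moved by a singular amount gives a seed. -/
theorem seed_of_shift {v d : ι → F} (hv : Adm Q D M v) (hQv : Q v ≠ 0) {h : GL ι F}
    (hh : h ∈ Cfsg.Geo.decompositionStabilizer D ⊓ Cfsg.Geo.omegaGL Q) (hd : act h v = v + d) (hd0 : d ≠ 0)
    (hQd : Q d = 0) {S : Finset (Fin t)} (hS : S.card + 2 ≤ t) (hdS : ∀ l ∉ S, ∀ x ∈ D l, B d x = 0)
    (hout : ∃ l ∉ S, ∃ x ∈ D l, B x v ≠ 0) : SeedIn Q D M := by
  have hI := omega_le_iso hh.2
  have hdv : B d v = 0 := by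
    have := Q_act hI v
    rw [hd, Q_add Q, hQd, add_zero, B_comm Q] at this
    exact add_eq_left.1 this
  have hm := H.adm_pair hM hv (H.adm_act hM hv hh) (Q_act hI v).symm
  rw [hd, show v + d = v + (1 : F) • d by rw [one_smul], refl_shift hQd hQv hdv 1] at hm
  obtain ⟨l, hl, x, hx, hxv⟩ := hout
  exact ⟨d, hd0, hQd, S, hS, hdS, _, by rw [B_smul_right Q, hdv, mul_zero], hm, l, hl, x, hx, by
    rw [B_smul_right Q]; exact mul_ne_zero (div_ne_zero one_ne_zero hQv) hxv⟩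

/-- Two paired vectors with components on one singular line give a seed. -/
theorem seed_of_line {v v' : ι → F} (hQv : Q v ≠ 0) (hQ' : Q v' = Q v) (hr : refl Q v * refl Q v' ∈ M) {m : Fin t}
    {x : ι → F} (hx : x ∈ D m) (hx0 : x ≠ 0) (hQx : Q x = 0) {α β : F} (hα : α ≠ 0)
    (hvm : ∀ z ∈ D m, B z v = α * B z x) (hvm' : ∀ z ∈ D m, B z v' = β * B z x) (hv : v ∉ D m)
    (hind : ∀ τ : F, v' - τ • v ∉ D m) : SeedIn Q D M := by
  obtain ⟨e, he, f, hf, hQe, hQf, lam, hlam, hhx⟩ := H.exists_torus hx hx0 hQx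
  have hh : refl Q e * refl Q f ∈ M := H.pair_mem hM he hf hQf.symm
  have hI : refl Q e * refl Q f ∈ isometryGroup F Q := mul_mem (refl_mem_iso Q _) (refl_mem_iso Q _)
  have hmove : ∀ (w : ι → F) (a : F), (∀ z ∈ D m, B z w = a * B z x) →
      act (refl Q e * refl Q f) w = w + ((lam - 1) * a) • x := by
    intro w a hw
    have hfix : act (refl Q e * refl Q f) (w - a • x) = w - a • x := by
      rw [act_mul, act_refl_fix Q (a := f) (hQf.trans_ne hQe) (by rw [B_sub_right Q, B_smul_right Q, hw f hf, sub_self]),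
        act_refl_fix Q hQe (by rw [B_sub_right Q, B_smul_right Q, hw e he, sub_self])]
    rw [map_sub, map_smul, hhx, sub_eq_iff_eq_add] at hfix
    rw [hfix]
    module
  set κ := (lam - 1) * α
  set κ' := (lam - 1) * β
  have hκ : κ ≠ 0 := mul_ne_zero (sub_ne_zero.2 hlam) hα
  have hxv : B x v = 0 := by rw [hvm x hx, B_self_of_singular Q hQx, mul_zero]
  have hxv' : B x v' = 0 := by rw [hvm' x hx, B_self_of_singular Q hQx, mul_zero]
  have hc := mul_mem hr (inv_mem (mul_mem (mul_mem hh hr) (inv_mem hh)))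
  rw [show (refl Q e * refl Q f) * (refl Q v * refl Q v') * (refl Q e * refl Q f)⁻¹ =
      ((refl Q e * refl Q f) * refl Q v * (refl Q e * refl Q f)⁻¹) *
      ((refl Q e * refl Q f) * refl Q v' * (refl Q e * refl Q f)⁻¹) by group, conj_refl Q hI, conj_refl Q hI,
    hmove v α hvm, hmove v' β hvm', mul_inv_rev, refl_inv, refl_inv] at hc
  rw [show refl Q v * refl Q v' * (refl Q (v' + κ' • x) * refl Q (v + κ • x)) =
      (refl Q v * (refl Q v' * refl Q (v' + κ' • x)) * (refl Q v)⁻¹) * (refl Q v * refl Q (v + κ • x)) by group,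
    refl_shift hQx (hQ'.trans_ne hQv) hxv', refl_shift hQx hQv hxv, conj_sg Q (refl_mem_iso Q v),
    act_refl_fix Q hQv ((B_comm Q v x).trans hxv), map_smul, act_refl Q hQv, hQ'] at hc
  set z := (κ' / Q v) • (v' - ((Q v)⁻¹ * B v v') • v)
  have hz1 : B x z = 0 := by
    simp only [z, B_smul_right Q, B_sub_right Q, hxv, hxv', mul_zero, sub_zero]
  rw [sg_add Q hQx hz1 (by rw [B_smul_right Q, hxv, mul_zero])] at hc
  obtain ⟨l, hlm, y, hy, hyz⟩ := H.exists_outside (z := z + (κ / Q v) • v) (m := m) (by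
    intro hmem
    rcases eq_or_ne κ' 0 with h0 | h0
    · simp only [z, h0, zero_div, zero_smul, zero_add] at hmem
      exact hv ((Submodule.smul_mem_iff _ (div_ne_zero hκ hQv)).1 hmem)
    · refine hind ((Q v)⁻¹ * B v v' - κ / κ') ?_
      have := (D m).smul_mem (κ' / Q v)⁻¹ hmem
      convert this using 1
      simp only [z, smul_add, smul_smul, smul_sub]
      match_scalars <;> field_simp
      ring)
  exact ⟨x, hx0, hQx, {m}, by have := H.five_le; simp; omega, fun n hn z hz =>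
    block_orth H.hD hx hz (Ne.symm (by simpa using hn)), _,
    by rw [B_add_right Q, hz1, B_smul_right Q, hxv, mul_zero, add_zero], hc, l, by simpa using hlm, y, hy, hyz⟩

/-- Without mixed products an element mapping one block vector into a block permutes the blocks. -/
theorem stab_of_image (hno : ¬ MixedIn Q D M) {g : GL ι F} (hg : g ∈ M) (hgI : g ∈ isometryGroup F Q)
    {i l : Fin t} {a : ι → F} (ha : a ∈ D i) (hQa : Q a ≠ 0) (hl : act g a ∈ D l) :
    g ∈ Cfsg.Geo.decompositionStabilizer D := by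
  have himg : ∀ j, ∀ e ∈ D j, Q e = Q a → ∃ m, act g e ∈ D m := by
    intro j e he hQe
    by_contra hn
    push Not at hn
    refine hno ⟨act g e, by rw [Q_act hgI, hQe]; exact hQa, hn, l, act g a, hl,
      by rw [Q_act hgI, Q_act hgI, hQe], ?_⟩
    have := mul_mem (mul_mem hg (H.pair_mem hM he ha hQe)) (inv_mem hg)
    rwa [show g * (refl Q e * refl Q a) * g⁻¹ = (g * refl Q e * g⁻¹) * (g * refl Q a * g⁻¹) by group,
      conj_refl Q hgI, conj_refl Q hgI] at this
  have hle : ∀ j, ∃ m, D j ≤ (D m).comap (act g) := by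
    intro j
    obtain ⟨e₀, he₀, hQe₀⟩ := H.value j (Q a)
    obtain ⟨e₁, he₁, hQe₁, hB, hn⟩ := (H.good j).exists_same H.hQ he₀ (hQe₀.trans_ne hQa)
    obtain ⟨m, hm⟩ := himg j e₀ he₀ hQe₀
    obtain ⟨m', hm'⟩ := himg j e₁ he₁ (hQe₁.trans hQe₀)
    have hmm : m = m' := by
      by_contra hne
      exact hB (by rw [← B_act hgI]; exact block_orth H.hD hm hm' hne)
    refine ⟨m, fun z hz => ?_⟩
    obtain ⟨p, r, rfl⟩ := (H.good j).exists_coord he₀ he₁ (fun e => hQa (by rw [← hQe₀, e, map_zero])) hn hz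
    show act g (p • e₀ + r • e₁) ∈ D m
    rw [map_add, map_smul, map_smul]
    exact (D m).add_mem ((D m).smul_mem _ hm) ((D m).smul_mem _ (hmm ▸ hm'))
  choose σ hσ using hle
  refine mem_stab_of_map H.hD σ (fun j j' e => ?_) fun j x hx => hσ j hx
  by_contra hne
  have hd : finrank F ↥((D (σ j)).comap (act g)) ≤ 2 := by
    rw [← H.hD.decomp.decomp.finrank_eq (σ j),
      ← LinearEquiv.finrank_eq (Submodule.equivMapOfInjective _ (act_injective g) _).symm]
    exact Submodule.finrank_mono (Submodule.map_comap_le _ _)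
  have heq := fun j' (h : D j' ≤ (D (σ j)).comap (act g)) =>
    Submodule.eq_of_le_of_finrank_le h (by rwa [H.hD.decomp.decomp.finrank_eq])
  obtain ⟨x, hx, hQx⟩ := H.value j 1
  exact hne (block_index_eq H.hD hx (by rw [heq j' (e ▸ hσ j'), ← heq j (hσ j)]; exact hx)
    (fun h => by rw [h, map_zero] at hQx; exact zero_ne_one hQx))

/-- A pair fixing a nonsingular block vector has images supported in two common blocks. -/
theorem pair_supp (hno : ¬ MixedIn Q D M) {g : GL ι F} (hg : g ∈ M) (hgI : g ∈ isometryGroup F Q) {a c : ι → F}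
    {i j : Fin t} (ha : a ∈ D i) (hc : c ∈ D j) (hQa : Q a ≠ 0) (hQc : Q c = Q a) (hca : c ∉ F ∙ a) {n : Fin t}
    {e : ι → F} (he : e ∈ D n) (hQe : Q e ≠ 0) (hea : B (act g a) e = 0) (hec : B (act g c) e = 0) :
    ∃ l m : Fin t, act g a ∈ D l ⊔ D m ∧ act g c ∈ D l ⊔ D m := by
  by_cases hgS : g ∈ Cfsg.Geo.decompositionStabilizer D
  · obtain ⟨σ, hσ⟩ := hgS
    exact ⟨σ i, σ j, Submodule.mem_sup_left ((hσ i).le ⟨a, ha, rfl⟩),
      Submodule.mem_sup_right ((hσ j).le ⟨c, hc, rfl⟩)⟩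
  set v := act g a
  set v' := act g c
  have hQv : Q v ≠ 0 := by rw [Q_act hgI]; exact hQa
  have hQ' : Q v' = Q v := by rw [Q_act hgI, Q_act hgI, hQc]
  have hQv' : Q v' ≠ 0 := hQ'.trans_ne hQv
  have hv : ∀ m, v ∉ D m := fun m hm => hgS (H.stab_of_image hM hno hg hgI ha hQa hm)
  have hv' : ∀ m, v' ∉ D m := fun m hm => hgS (H.stab_of_image hM hno hg hgI hc (hQc.trans_ne hQa) hm)
  set P := Submodule.span F (Set.range ![v, v']) with hP
  have hrM : refl Q v * refl Q v' ∈ M := by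
    have := mul_mem (mul_mem hg (H.pair_mem hM ha hc hQc.symm)) (inv_mem hg)
    rwa [show g * (refl Q a * refl Q c) * g⁻¹ = (g * refl Q a * g⁻¹) * (g * refl Q c * g⁻¹) by group,
      conj_refl Q hgI, conj_refl Q hgI] at this
  have hrI : refl Q v * refl Q v' ∈ isometryGroup F Q := mul_mem (refl_mem_iso Q _) (refl_mem_iso Q _)
  obtain ⟨σ, hσ⟩ := H.stab_of_image hM hno hrM hrI he hQe (by
    rwa [act_mul, act_refl_fix Q hQv' hec, act_refl_fix Q hQv hea])
  have hrim : ∀ x, act (refl Q v * refl Q v') x - x ∈ P := by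
    intro x
    rw [act_mul, act_refl Q hQv, act_refl Q hQv']
    refine mem_span_pair_iff_range.2 ⟨-((Q v)⁻¹ * B v (x - ((Q v')⁻¹ * B v' x) • v')),
      -((Q v')⁻¹ * B v' x), ?_⟩
    module
  have hvv : v ∉ F ∙ v' ∧ v' ∉ F ∙ v := by
    constructor <;> intro h <;> obtain ⟨p, hp⟩ := Submodule.mem_span_singleton.1 h
    · have hq : p • c = a := act_injective g (by rw [map_smul]; exact hp)
      have hp0 : p ≠ 0 := fun e0 => hQa (by rw [← hq, e0, zero_smul, map_zero])
      exact hca (Submodule.mem_span_singleton.2 ⟨p⁻¹, by rw [← hq, smul_smul, inv_mul_cancel₀ hp0, one_smul]⟩)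
    · exact hca (Submodule.mem_span_singleton.2 ⟨p, act_injective g (by rw [map_smul]; exact hp)⟩)
  by_cases hfix : ∀ l, σ l = l
  swap
  · push Not at hfix
    obtain ⟨l, hl⟩ := hfix
    let T : D l →ₗ[F] P :=
      LinearMap.codRestrict _ ((act (refl Q v * refl Q v') - LinearMap.id).domRestrict (D l)) fun y => hrim y
    have hT : Function.Injective T := by
      rw [injective_iff_map_eq_zero]
      rintro ⟨y, hy⟩ hy0
      have e1 : act (refl Q v * refl Q v') y = y := sub_eq_zero.1 (congrArg Subtype.val hy0)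
      by_contra hne
      have hm := (hσ l).le ⟨y, hy, rfl⟩
      rw [toLin'_eq_act, e1] at hm
      exact hl (block_index_eq H.hD hm hy fun e' => hne (Subtype.ext e'))
    have hPd : finrank F P ≤ finrank F (D l) := by
      rw [H.hD.decomp.decomp.finrank_eq]; exact finrank_span_list_le ![v, v']
    have hTs : Function.Surjective T := by
      refine (LinearMap.injective_iff_surjective_of_finrank_eq_finrank ?_).1 hT
      exact le_antisymm (LinearMap.finrank_le_finrank_of_injective hT) hPd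
    have hmem : ∀ w ∈ P, w ∈ D l ⊔ D (σ l) := by
      intro w hw
      obtain ⟨⟨y, hy⟩, hyw⟩ := hTs ⟨w, hw⟩
      rw [show w = act (refl Q v * refl Q v') y + -y by
        rw [← sub_eq_add_neg]; exact (congrArg Subtype.val hyw).symm]
      exact (D l ⊔ D (σ l)).add_mem (Submodule.mem_sup_right ((hσ l).le ⟨y, hy, rfl⟩))
        (Submodule.mem_sup_left ((D l).neg_mem hy))
    exact ⟨l, σ l, hmem v (Submodule.subset_span ⟨0, rfl⟩), hmem v' (Submodule.subset_span ⟨1, rfl⟩)⟩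
  -- all blocks are fixed: the components lie in the plane
  obtain ⟨f, hf, hfv⟩ := exists_comps H.hD v
  have hfP : ∀ l, f l ∈ P := by
    intro l
    obtain ⟨z, hz, hz1⟩ := exists_perp_one H.hQ hvv.1
    have hz' : act (refl Q v * refl Q v') ((-Q v) • z) - (-Q v) • z = v := by
      rw [act_mul, act_refl_fix Q hQv' (by
        rw [B_smul_right Q, orth hz (Submodule.mem_span_singleton_self _), mul_zero]), act_refl Q hQv,
        B_smul_right Q, hz1, sub_sub_cancel_left, ← neg_smul]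
      conv_rhs => rw [← one_smul F v]
      congr 1
      field_simp
    obtain ⟨g', hg', hge⟩ := exists_comps H.hD ((-Q v) • z)
    have hd : ∑ l, (act (refl Q v * refl Q v') (g' l) - g' l) = ∑ l, f l := by
      rw [Finset.sum_sub_distrib, ← map_sum, ← hge, hz', hfv]
    rw [← comps_unique H.hD (fun l => (D l).sub_mem ?_ (hg' l)) hf hd l]
    · exact hrim _
    · have := (hσ l).le ⟨g' l, hg' l, rfl⟩
      rwa [hfix l] at this
  obtain ⟨l, hl⟩ : ∃ l, f l ≠ 0 := by
    by_contra hall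
    push Not at hall
    exact hQv (by rw [hfv, Finset.sum_eq_zero fun l _ => hall l, map_zero])
  obtain ⟨m, hml, hm⟩ : ∃ m, m ≠ l ∧ f m ≠ 0 := by
    by_contra hall
    push Not at hall
    refine hv l ?_
    rw [hfv, Finset.sum_eq_single l (fun m _ hm => hall m hm) (by simp)]
    exact hf l
  have hli : LinearIndependent F ![f l, f m] := by
    refine LinearIndependent.pair_iff.2 fun p q hpq => ?_
    have hp0 : p • f l = 0 := by
      refine block_nonDeg H.hD l _ ((D l).smul_mem _ (hf l)) fun y hy => ?_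
      have := congrArg (B y) hpq
      rw [B_add_right Q, B_zero_right Q, block_orth H.hD hy ((D m).smul_mem q (hf m)) hml.symm, add_zero] at this
      rw [B_comm Q, this]
    rw [hp0, zero_add] at hpq
    exact ⟨(smul_eq_zero.1 hp0).resolve_right hl, (smul_eq_zero.1 hpq).resolve_right hm⟩
  have hsp : Submodule.span F (Set.range ![f l, f m]) = P := Submodule.eq_of_le_of_finrank_le
    (Submodule.span_le.2 (by rintro _ ⟨n, rfl⟩; fin_cases n <;> exact hfP _))
    ((finrank_span_list_le _).trans_eq (by rw [finrank_span_eq_card hli, Fintype.card_fin]))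
  have hle : P ≤ D l ⊔ D m := hsp ▸ Submodule.span_le.2 (by
    rintro _ ⟨n, rfl⟩; fin_cases n
    · exact Submodule.mem_sup_left (hf l)
    · exact Submodule.mem_sup_right (hf m))
  exact ⟨l, m, hle (Submodule.subset_span ⟨0, rfl⟩), hle (Submodule.subset_span ⟨1, rfl⟩)⟩

set_option maxHeartbeats 400000 in
/-- Some element outside the stabiliser gives a mixed product or a seed. -/
theorem mixed_or_seed (hMΩ : M ≤ Cfsg.Geo.omegaGL Q) {g : GL ι F} (hg : g ∈ M)
    (hgS : g ∉ Cfsg.Geo.decompositionStabilizer D) : MixedIn Q D M ∨ SeedIn Q D M := by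
  classical
  by_contra hboth
  push Not at hboth
  obtain ⟨hno, hns⟩ := hboth
  have hgI := omega_le_iso (hMΩ hg)
  have ht := H.five_le
  have hnb : ∀ i, ∀ a ∈ D i, Q a ≠ 0 → ∀ m, act g a ∉ D m := fun i a ha hQa m hm =>
    hgS (H.stab_of_image hM hno hg hgI ha hQa hm)
  have hgS' : g⁻¹ ∉ Cfsg.Geo.decompositionStabilizer D := fun h => hgS (by simpa using inv_mem h)
  have hnb' : ∀ i, ∀ a ∈ D i, Q a ≠ 0 → ∀ m, act g⁻¹ a ∉ D m := fun i a ha hQa m hm =>
    hgS' (H.stab_of_image hM hno (inv_mem hg) (inv_mem hgI) ha hQa hm)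
  have supp : ∀ {v : ι → F} {l m : Fin t}, v ∈ D l ⊔ D m → ∀ n, n ≠ l → n ≠ m → ∀ x ∈ D n, B x v = 0 := by
    intro v l m hv n hnl hnm x hx
    obtain ⟨p, hp, r, hr, rfl⟩ := Submodule.mem_sup.1 hv
    rw [B_add_right Q, block_orth H.hD hx hp hnl, block_orth H.hD hx hr hnm, add_zero]
  have few : ∀ i, ∀ a ∈ D i, Q a ≠ 0 →
      (Finset.univ.filter fun m => ∃ x ∈ D m, Q x ≠ 0 ∧ B x (act g a) = 0).card ≤ 2 := by
    intro i a ha hQa
    by_contra hcard
    obtain ⟨m₁, hm₁, m₂, hm₂, m₃, hm₃, h12, h13, h23⟩ := Finset.two_lt_card.1 (lt_of_not_ge hcard)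
    obtain ⟨x₁, hx₁, hQ₁, e₁⟩ := (Finset.mem_filter.1 hm₁).2
    obtain ⟨x₂, hx₂, hQ₂, e₂⟩ := (Finset.mem_filter.1 hm₂).2
    obtain ⟨x₃, hx₃, hQ₃, e₃⟩ := (Finset.mem_filter.1 hm₃).2
    obtain ⟨m, m', x, x', hmm, hx, hx', hQx, hQxx, he, he'⟩ : ∃ m m' : Fin t, ∃ x x' : ι → F, m ≠ m' ∧ x ∈ D m ∧
        x' ∈ D m' ∧ Q x ≠ 0 ∧ Q x' = Q x ∧ B x (act g a) = 0 ∧ B x' (act g a) = 0 := by
      have mk : ∀ m m' : Fin t, ∀ x x' : ι → F, m ≠ m' → x ∈ D m → x' ∈ D m' → Q x ≠ 0 → Q x' ≠ 0 →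
          IsSquare (Q x' / Q x) → B x (act g a) = 0 → B x' (act g a) = 0 → ∃ m m' : Fin t, ∃ x x' : ι → F,
          m ≠ m' ∧ x ∈ D m ∧ x' ∈ D m' ∧ Q x ≠ 0 ∧ Q x' = Q x ∧ B x (act g a) = 0 ∧ B x' (act g a) = 0 := by
        rintro m m' x x' h hx hx' hQ hQ' ⟨r, hr⟩ e e'
        refine ⟨m, m', r • x, x', h, (D m).smul_mem _ hx, hx', ?_, ?_, by rw [B_smul_left Q, e, mul_zero], e'⟩
        · rw [Q_smul Q, ← hr, div_mul_cancel₀ _ hQ]; exact hQ'
        · rw [Q_smul Q, ← hr, div_mul_cancel₀ _ hQ]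
      by_cases h2 : (2 : F) = 0
      · obtain ⟨r, hr⟩ := exists_scale_two h2 hQ₁ (Q x₂)
        exact mk m₁ m₂ x₁ x₂ h12 hx₁ hx₂ hQ₁ hQ₂ ⟨r, by rw [← hr]; field_simp⟩ e₁ e₂
      rcases isSquare_div_three h2 (Q x₁) (Q x₂) (Q x₃) with h | h | h
      · exact mk m₁ m₂ x₁ x₂ h12 hx₁ hx₂ hQ₁ hQ₂ h e₁ e₂
      · exact mk m₁ m₃ x₁ x₃ h13 hx₁ hx₃ hQ₁ hQ₃ h e₁ e₃
      · exact mk m₂ m₃ x₂ x₃ h23 hx₂ hx₃ hQ₂ hQ₃ h e₂ e₃
    have hswap : ∀ y, B y (act g a) = B (act g⁻¹ y) a := fun y => by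
      rw [← B_act hgI (act g⁻¹ y) a, act_act_inv]
    obtain ⟨l₀, m₀, hp, -⟩ := H.pair_supp hM hno (inv_mem hg) (inv_mem hgI) hx hx' hQx hQxx (fun h => hmm
      (block_index_eq H.hD ((Submodule.span_singleton_le_iff_mem _ _).2 hx h) hx'
        (fun e0 => hQx (by rw [← hQxx, e0, map_zero])))) ha hQa (by rw [← hswap]; exact he)
      (by rw [← hswap]; exact he')
    set S := (Finset.univ : Finset (Fin t)) \ {l₀, m₀} with hS
    have hScard : 3 ≤ S.card := by
      rw [hS, Finset.card_sdiff_of_subset (Finset.subset_univ _), Finset.card_univ, Fintype.card_fin]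
      have := Finset.card_le_two (a := l₀) (b := m₀)
      omega
    choose b hb hQb using fun n => H.value n 1
    choose b' hb' hQb' hbb' hbn' using fun n => (H.good n).exists_same H.hQ (hb n) (by rw [hQb]; exact one_ne_zero)
    obtain ⟨n₀, hn₀⟩ : S.Nonempty := Finset.card_pos.1 (by omega)
    have hb0 : ∀ n, b n ≠ 0 := fun n e0 => by have := hQb n; rw [e0, map_zero] at this; exact zero_ne_one this
    have horth : ∀ n ∈ S, ∀ w ∈ D n, B (act g w) x = 0 := fun n hn w hw => by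
      simp only [hS, Finset.mem_sdiff, Finset.mem_univ, true_and, Finset.mem_insert, Finset.mem_singleton,
        not_or] at hn
      rw [B_comm Q, ← act_act_inv g x, B_act hgI, B_comm Q]
      exact supp hp n hn.1 hn.2 _ hw
    obtain ⟨f, hf, hfv⟩ := exists_comps H.hD (act g (b n₀))
    set W := Finset.univ.filter fun n => f n ≠ 0 with hW
    have hWle : W.card ≤ 2 ∧ ∀ n ∈ S, ∀ w : ι → F, (w = b n ∨ (n ≠ n₀ ∧ w = b' n)) →
        ∀ k ∉ W, ∀ y ∈ D k, B y (act g w) = 0 := by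
      have key : ∀ n ∈ S, n ≠ n₀ → ∀ w ∈ D n, Q w = 1 → W.card ≤ 2 ∧ ∀ k ∉ W, ∀ y ∈ D k, B y (act g w) = 0 := by
        intro n hn hne w hw hQw
        obtain ⟨l, m, h₁, h₂⟩ := H.pair_supp hM hno hg hgI (hb n₀) hw (by rw [hQb]; exact one_ne_zero)
          (hQw.trans (hQb n₀).symm) (fun h => hne (block_index_eq H.hD hw
            ((Submodule.span_singleton_le_iff_mem _ _).2 (hb n₀) h)
            (fun e0 => by rw [e0, map_zero] at hQw; exact zero_ne_one hQw))) hx hQx
          (horth n₀ hn₀ _ (hb n₀)) (horth n hn w hw)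
        have hsub : ∀ k, k ∈ W → k = l ∨ k = m := fun k hk => by
          by_contra hkn
          push Not at hkn
          refine (Finset.mem_filter.1 hk).2 (block_nonDeg H.hD k _ (hf k) fun y hy => ?_)
          rw [B_comm Q, ← B_sum_comps H.hD hf hy, ← hfv]
          exact supp h₁ k hkn.1 hkn.2 y hy
        have hW2 : W.card ≤ 2 := (Finset.card_le_card (t := {l, m}) fun k hk => by
          simpa using hsub k hk).trans Finset.card_le_two
        refine ⟨hW2, fun k hk y hy => ?_⟩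
        obtain ⟨k₁, hk₁⟩ : ∃ k, f k ≠ 0 := by
          by_contra hall
          push Not at hall
          have h0 : act g (b n₀) = act g 0 := by rw [hfv, Finset.sum_eq_zero fun k _ => hall k, map_zero]
          exact hb0 n₀ (act_injective g h0)
        obtain ⟨k₂, hk21, hk₂⟩ : ∃ k, k ≠ k₁ ∧ f k ≠ 0 := by
          by_contra hall
          push Not at hall
          refine hnb n₀ _ (hb n₀) (by rw [hQb]; exact one_ne_zero) k₁ ?_
          rw [hfv, Finset.sum_eq_single k₁ (fun k _ hk => hall k hk) (by simp)]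
          exact hf k₁
        have hw₁ : k₁ ∈ W := Finset.mem_filter.2 ⟨Finset.mem_univ _, hk₁⟩
        have hw₂ : k₂ ∈ W := Finset.mem_filter.2 ⟨Finset.mem_univ _, hk₂⟩
        refine supp h₂ k (fun e' => hk ?_) (fun e' => hk ?_) y hy <;> subst e'
        · rcases hsub k₁ hw₁ with e₁ | e₁
          · exact e₁ ▸ hw₁
          · rcases hsub k₂ hw₂ with e₂ | e₂
            · exact e₂ ▸ hw₂
            · exact absurd (e₂.trans e₁.symm) hk21
        · rcases hsub k₁ hw₁ with e₁ | e₁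
          · rcases hsub k₂ hw₂ with e₂ | e₂
            · exact absurd (e₂.trans e₁.symm) hk21
            · exact e₂ ▸ hw₂
          · exact e₁ ▸ hw₁
      obtain ⟨n₁, hn₁, hne⟩ := Finset.exists_mem_ne (by omega : 1 < S.card) n₀
      refine ⟨(key n₁ hn₁ hne _ (hb n₁) (hQb n₁)).1, fun n hn w hw k hk y hy => ?_⟩
      rcases hw with rfl | ⟨hne', rfl⟩
      · rcases eq_or_ne n n₀ with rfl | hne'
        · rw [hfv, B_sum_comps H.hD hf hy]
          have : f k = 0 := by simpa [hW] using hk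
          rw [this, B_zero_right Q]
        · exact (key n hn hne' _ (hb n) (hQb n)).2 k hk y hy
      · exact (key n hn hne' _ (hb' n) ((hQb' n).trans (hQb n))).2 k hk y hy
    -- five independent images in the span of two blocks
    have hd : finrank F ↥(W.sup D) ≤ 4 := by
      have : ∀ s : Finset (Fin t), finrank F ↥(s.sup D) ≤ 2 * s.card := by
        intro s
        induction s using Finset.induction with
        | empty => simp
        | @insert k s hk ih =>
          rw [Finset.sup_insert, Finset.card_insert_of_notMem hk]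
          have h := Submodule.finrank_add_le_finrank_add_finrank (D k) (s.sup D)
          have := H.hD.decomp.decomp.finrank_eq k
          omega
      have := this W
      omega
    have hli := (li_block_pairs H.hD (Finset.erase_subset n₀ S) hb (fun k => hb0 k) hb' hbn').map' (act g)
      (LinearMap.ker_eq_bot.2 (act_injective g))
    have hle : Submodule.span F (Set.range (act g ∘ Sum.elim (fun k : S => b k) fun k : S.erase n₀ => b' k)) ≤
        W.sup D := Submodule.span_le.2 fun _ ⟨v, hv⟩ => by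
      subst hv
      refine mem_sup_of_orth H.hD W fun k hk y hy => ?_
      rcases v with n | n
      · exact hWle.2 n n.2 _ (Or.inl rfl) k hk y hy
      · exact hWle.2 n (Finset.mem_of_mem_erase n.2) _ (Or.inr ⟨Finset.ne_of_mem_erase n.2, rfl⟩) k hk y hy
    have := Submodule.finrank_mono hle
    rw [finrank_span_eq_card hli, Fintype.card_sum, Fintype.card_coe, Fintype.card_coe,
      Finset.card_erase_of_mem hn₀] at this
    omega
  -- all other components are singular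
  have hsing : ∀ i, ∀ a ∈ D i, Q a ≠ 0 → ∀ m, (¬ ∃ x ∈ D m, Q x ≠ 0 ∧ B x (act g a) = 0) →
      ∃ x ∈ D m, x ≠ 0 ∧ Q x = 0 ∧ ∀ z ∈ D m, B z (act g a) = B z x := by
    intro i a ha hQa m hm
    obtain ⟨f, hf, hfv⟩ := exists_comps H.hD (act g a)
    have hB : ∀ z ∈ D m, B z (act g a) = B z (f m) := fun z hz => by rw [hfv, B_sum_comps H.hD hf hz]
    refine ⟨f m, hf m, fun h0 => hm ?_, ?_, hB⟩
    · obtain ⟨x, hx, hQx⟩ := H.value m 1
      exact ⟨x, hx, by rw [hQx]; exact one_ne_zero, by rw [hB x hx, h0, B_zero_right Q]⟩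
    · by_contra hQx
      refine hm ?_
      by_cases h2 : (2 : F) = 0
      · exact ⟨f m, hf m, hQx, by rw [hB _ (hf m), B_self Q, h2, zero_mul]⟩
      · obtain ⟨w, hw, hfw, hQw⟩ := (H.good m).exists_odd_perp H.hQ h2 (hf m) hQx
        exact ⟨w, hw, hQw, by rw [hB w hw, B_comm Q, hfw]⟩
  set i₀ : Fin t := ⟨0, by omega⟩
  obtain ⟨a₀, ha₀, hQa₀⟩ := H.value i₀ 1
  obtain ⟨s, hs, hs0, hQs⟩ : ∃ s ∈ D i₀, s ≠ 0 ∧ Q s = 0 := by
    have h := few i₀ a₀ ha₀ (by rw [hQa₀]; exact one_ne_zero)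
    obtain ⟨m, hm⟩ := H.exists_notMem (Finset.univ.filter fun m => ∃ x ∈ D m, Q x ≠ 0 ∧ B x (act g a₀) = 0)
      (by omega)
    obtain ⟨x, hx, hx0, hQx, -⟩ := hsing i₀ a₀ ha₀ (by rw [hQa₀]; exact one_ne_zero) m
      (fun h' => hm (Finset.mem_filter.2 ⟨Finset.mem_univ _, h'⟩))
    exact H.exists_singular_block hx hx0 hQx i₀
  obtain ⟨r, hr, hQr, hsr, -⟩ := exists_plane_coords H.hQ (H.good i₀) hs hs0 hQs
  obtain ⟨g₁, g₂, hg₁, hg₂, hg₁1, hg₂1, hg₁₂⟩ := exists_three_squares (H.big i₀ s hs hs0 hQs)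
  set A : F → ι → F := fun x => x • s + x⁻¹ • r
  have hA : ∀ x : F, A x ∈ D i₀ := fun x => (D i₀).add_mem ((D i₀).smul_mem _ hs) ((D i₀).smul_mem _ hr)
  have hQA : ∀ x : F, x ≠ 0 → Q (A x) = 1 := fun x hx => by
    simp only [A]
    rw [Q_add Q, Q_smul Q, Q_smul Q, B_smul_left Q, B_smul_right Q, hQs, hQr, hsr]; field_simp; ring
  have h1 := few i₀ _ (hA 1) (by rw [hQA 1 one_ne_zero]; exact one_ne_zero)
  have h2 := few i₀ _ (hA g₁) (by rw [hQA g₁ hg₁]; exact one_ne_zero)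
  have h3 := few i₀ _ (hA g₂) (by rw [hQA g₂ hg₂]; exact one_ne_zero)
  obtain ⟨ν, hν0, hν1, hνg, hνh⟩ : ∃ ν : F, ν ≠ 0 ∧ ν ≠ 1 ∧ ν * (g₁ * g₁) ≠ 1 ∧ ν * (g₂ * g₂) ≠ 1 := by
    have h7 := H.big i₀ s hs hs0 hQs
    obtain ⟨ν, -, hν⟩ := Finset.exists_mem_notMem_of_card_lt_card
      (s := ({0, 1, (g₁ * g₁)⁻¹, (g₂ * g₂)⁻¹} : Finset F)) (t := Finset.univ) (by
      rw [Finset.card_univ]
      exact lt_of_le_of_lt Finset.card_le_four (by omega))
    simp only [Finset.mem_insert, Finset.mem_singleton, not_or] at hν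
    exact ⟨ν, hν.1, hν.2.1, fun e => hν.2.2.1 (eq_inv_of_mul_eq_one_left e),
      fun e => hν.2.2.2 (eq_inv_of_mul_eq_one_left e)⟩
  set A' := s + ν • r
  have hA' : A' ∈ D i₀ := (D i₀).add_mem hs ((D i₀).smul_mem _ hr)
  have hQA' : Q A' ≠ 0 := by
    simp only [A']
    rw [Q_add Q, Q_smul Q, B_smul_right Q, hQs, hQr, hsr]; simpa using hν0
  have h4 := few i₀ _ hA' hQA'
  obtain ⟨m, hm⟩ := exists_outside_three H.five_le h1 h2 h3 h4
  simp only [Finset.mem_filter, Finset.mem_univ, true_and] at hm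
  have finish : ∀ x y : F, x ≠ 0 → y ≠ 0 → x * x ≠ y * y → ∀ X Y : ι → F, X ∈ D m → X ≠ 0 → Q X = 0 →
      (∀ z ∈ D m, B z (act g (A x)) = B z X) → (∀ z ∈ D m, B z (act g (A y)) = B z Y) → Y ∈ F ∙ X → False := by
    intro x y hx hy hxy X Y hX hX0 hQX hBX hBY hYX
    obtain ⟨β, rfl⟩ := Submodule.mem_span_singleton.1 hYX
    refine hns (H.seed_of_line hM (v := act g (A x)) (v' := act g (A y)) (by rw [Q_act hgI, hQA x hx]; exact one_ne_zero)
      (by rw [Q_act hgI, Q_act hgI, hQA x hx, hQA y hy]) ?_ hX hX0 hQX (α := 1) (β := β) one_ne_zero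
      (fun z hz => by rw [one_mul, hBX z hz]) (fun z hz => by rw [hBY z hz, B_smul_right Q])
      (hnb i₀ _ (hA x) (by rw [hQA x hx]; exact one_ne_zero) m) fun τ hτ => ?_)
    · have := mul_mem (mul_mem hg (H.pair_mem hM (hA x) (hA y) ((hQA x hx).trans (hQA y hy).symm))) (inv_mem hg)
      rwa [show g * (refl Q (A x) * refl Q (A y)) * g⁻¹ = (g * refl Q (A x) * g⁻¹) * (g * refl Q (A y) * g⁻¹) by group,
        conj_refl Q hgI, conj_refl Q hgI] at this
    · have hw : act g (A y) - τ • act g (A x) = (β - τ) • X := by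
        rw [← sub_eq_zero]
        refine block_nonDeg H.hD m _ ((D m).sub_mem hτ ((D m).smul_mem _ hX)) fun z hz => ?_
        rw [B_comm Q, B_sub_right Q, B_sub_right Q, B_smul_right Q, B_smul_right Q, hBX z hz, hBY z hz,
          B_smul_right Q]
        ring
      rw [← map_smul, ← map_sub] at hw
      have hd := (H.good i₀).eq_zero_of_singular_perp (hA x) (by rw [hQA x hx]; exact one_ne_zero)
        ((D i₀).sub_mem (hA y) ((D i₀).smul_mem τ (hA x)))
        (by rw [← Q_act hgI, hw, Q_smul Q, hQX, mul_zero])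
        (by rw [← B_act hgI, hw, B_smul_right Q, B_comm Q, hBX X hX, B_self_of_singular Q hQX, mul_zero])
      have e1 := congrArg (B r) hd
      have e2 := congrArg (B s) hd
      simp only [A, B_sub_right Q, B_smul_right Q, B_add_right Q, B_self_of_singular Q hQs,
        B_self_of_singular Q hQr, B_comm Q r s, hsr, B_zero_right Q, mul_zero, mul_one, zero_add, add_zero] at e1 e2
      apply hxy
      rw [sub_eq_zero] at e1 e2
      field_simp at e2
      linear_combination x * e2 - y * e1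
  -- three singular components: two of value one lie on one line
  have mid : ∀ x y : F, x ≠ 0 → y ≠ 0 → x * x ≠ y * y → ν * (x * x) ≠ 1 → ν * (y * y) ≠ 1 →
      (¬ ∃ z ∈ D m, Q z ≠ 0 ∧ B z (act g (A x)) = 0) → (¬ ∃ z ∈ D m, Q z ≠ 0 ∧ B z (act g (A y)) = 0) →
      (¬ ∃ z ∈ D m, Q z ≠ 0 ∧ B z (act g A') = 0) → False := by
    intro x y hx hy hxy hνx hνy n₁ n₂ n₄
    obtain ⟨X, hX, hX0, hQX, hBX⟩ := hsing i₀ _ (hA x) (by rw [hQA x hx]; exact one_ne_zero) m n₁
    obtain ⟨Y, hY, -, hQY, hBY⟩ := hsing i₀ _ (hA y) (by rw [hQA y hy]; exact one_ne_zero) m n₂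
    obtain ⟨Z, hZ, -, hQZ, hBZ⟩ := hsing i₀ _ hA' hQA' m n₄
    -- `A'` is a combination of the two
    set d := x / y - y / x with hd
    have hd0 : d ≠ 0 := by
      rw [hd, div_sub_div _ _ hy hx, div_ne_zero_iff]
      exact ⟨sub_ne_zero.2 fun e => hxy (by linear_combination e), mul_ne_zero hy hx⟩
    have e : d • A' = (y⁻¹ - ν * y) • A x + (ν * x - x⁻¹) • A y := by
      simp only [A', A, hd]
      match_scalars <;> field_simp <;> ring
    have eZ : d • Z = (y⁻¹ - ν * y) • X + (ν * x - x⁻¹) • Y := by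
      rw [← sub_eq_zero]
      refine block_nonDeg H.hD m _ ((D m).sub_mem ((D m).smul_mem _ hZ)
        ((D m).add_mem ((D m).smul_mem _ hX) ((D m).smul_mem _ hY))) fun z hz => ?_
      rw [B_comm Q, B_sub_right Q, B_add_right Q, B_smul_right Q, B_smul_right Q, B_smul_right Q, ← hBX z hz,
        ← hBY z hz, ← hBZ z hz]
      have := congrArg (fun v => B z (act g v)) e
      simp only [map_add, map_smul, B_add_right Q, B_smul_right Q] at this
      linear_combination this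
    have hXY : B X Y = 0 := by
      have h := congrArg Q eZ
      rw [Q_smul Q, hQZ, Q_add Q, Q_smul Q, Q_smul Q, B_smul_left Q, B_smul_right Q, hQX, hQY] at h
      have ha : y⁻¹ - ν * y ≠ 0 := fun e' => hνy (by field_simp at e'; linear_combination -e')
      have hb : ν * x - x⁻¹ ≠ 0 := fun e' => hνx (by field_simp at e'; linear_combination e')
      simp only [mul_zero, zero_add] at h
      exact (mul_eq_zero.1 ((mul_eq_zero.1 h.symm).resolve_left ha)).resolve_left hb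
    obtain ⟨W', -, -, -, hcW⟩ := exists_plane_coords H.hQ (H.good m) hX hX0 hQX
    refine finish x y hx hy hxy X Y hX hX0 hQX hBX hBY (Submodule.mem_span_singleton.2 ⟨B W' Y, ?_⟩)
    conv_rhs => rw [(hcW Y hY).1, hXY, zero_smul, add_zero]
  have h01 : (1 : F) * 1 ≠ g₁ * g₁ := by rw [mul_one]; exact Ne.symm hg₁1
  have h02 : (1 : F) * 1 ≠ g₂ * g₂ := by rw [mul_one]; exact Ne.symm hg₂1
  have hν1' : ν * (1 * 1) ≠ 1 := by rwa [mul_one, mul_one]
  rcases hm with hm | hm | hm | hm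
  swap; · exact mid 1 g₁ one_ne_zero hg₁ h01 hν1' hνg hm.1 hm.2.1 hm.2.2
  swap; · exact mid 1 g₂ one_ne_zero hg₂ h02 hν1' hνh hm.1 hm.2.1 hm.2.2
  swap; · exact mid g₁ g₂ hg₁ hg₂ (Ne.symm hg₁₂) hνg hνh hm.1 hm.2.1 hm.2.2
  obtain ⟨x₁, hx₁, hx₁0, hQx₁, hB₁⟩ := hsing i₀ _ (hA 1) (by rw [hQA 1 one_ne_zero]; exact one_ne_zero) m hm.1
  obtain ⟨x₂, hx₂, hx₂0, hQx₂, hB₂⟩ := hsing i₀ _ (hA g₁) (by rw [hQA g₁ hg₁]; exact one_ne_zero) m hm.2.1
  obtain ⟨x₃, hx₃, -, hQx₃, hB₃⟩ := hsing i₀ _ (hA g₂) (by rw [hQA g₂ hg₂]; exact one_ne_zero) m hm.2.2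
  obtain ⟨y₁, hy₁, hQy₁, hxy₁, hcoord⟩ := exists_plane_coords H.hQ (H.good m) hx₁ hx₁0 hQx₁
  have lines : ∀ z ∈ D m, Q z = 0 → z ∈ F ∙ x₁ ∨ z ∈ F ∙ y₁ := fun z hz hQz => by
    obtain ⟨e1, e2⟩ := hcoord z hz
    rw [hQz] at e2
    rcases mul_eq_zero.1 e2.symm with h | h
    · exact Or.inr (Submodule.mem_span_singleton.2 ⟨B x₁ z, by conv_rhs => rw [e1, h, zero_smul, zero_add]⟩)
    · exact Or.inl (Submodule.mem_span_singleton.2 ⟨B y₁ z, by conv_rhs => rw [e1, h, zero_smul, add_zero]⟩)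
  rcases lines x₂ hx₂ hQx₂ with h₂ | h₂
  · exact finish 1 g₁ one_ne_zero hg₁ (by rw [mul_one]; exact Ne.symm hg₁1) x₁ x₂ hx₁ hx₁0 hQx₁ hB₁ hB₂ h₂
  rcases lines x₃ hx₃ hQx₃ with h₃ | h₃
  · exact finish 1 g₂ one_ne_zero hg₂ (by rw [mul_one]; exact Ne.symm hg₂1) x₁ x₃ hx₁ hx₁0 hQx₁ hB₁ hB₃ h₃
  refine finish g₁ g₂ hg₁ hg₂ (Ne.symm hg₁₂) x₂ x₃ hx₂ hx₂0 hQx₂ hB₂ hB₃ ?_
  obtain ⟨p, rfl⟩ := Submodule.mem_span_singleton.1 h₂
  obtain ⟨p', rfl⟩ := Submodule.mem_span_singleton.1 h₃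
  have hp : p ≠ 0 := fun e0 => hx₂0 (by rw [e0, zero_smul])
  exact Submodule.mem_span_singleton.2 ⟨p' / p, by rw [smul_smul, div_mul_cancel₀ _ hp]⟩

end PlaneBlocks

end Cfsg.Agent.MaxCl.Orth
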