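/-
Orthogonal decompositions into planes: a mixed product of two reflections gives a Siegel element of small support.
-/
import Cfsg.Agent.Lib.MaxCl.OrthPlaneBlocks

set_option autoImplicit false

namespace Cfsg.Agent.MaxCl.Orth

open scoped MatrixGroups Matrix
open Module (finrank)

variable {ι : Type} [Fintype ι] [DecidableEq ι] {F : Type*} [Field F] [Fintype F] {Q : QuadraticForm F (ι → F)}

set_option quotPrecheck false in
local notation "B" => QuadraticMap.polar (⇑Q)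

variable {t : ℕ} {D : Fin t → Submodule F (ι → F)}

namespace PlaneBlocks

variable (H : PlaneBlocks Q D)
include H

theorem comp_outside {v : ι → F} {f : Fin t → ι → F} (hf : ∀ n, f n ∈ D n) (hfv : v = ∑ n, f n) {o : Fin t}
    (ho : f o ≠ 0) : ∃ x ∈ D o, B x v ≠ 0 := by
  obtain ⟨x, hx, -, hxo⟩ := (H.good o).exists_nonsingular_B H.hQ (hf o) ho
  exact ⟨x, hx, by rwa [hfv, B_sum_comps H.hD hf hx]⟩

theorem pair_mem_stab_omega {a a' : ι → F} {i i' : Fin t} (ha : a ∈ D i) (ha' : a' ∈ D i') (h : Q a = Q a') :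
    refl Q a * refl Q a' ∈ Cfsg.Geo.decompositionStabilizer D ⊓ Cfsg.Geo.omegaGL Q :=
  ⟨refl_pair_mem_stab H.hD ha ha', by rw [omega_eq_sgGroup H.hQ H.n5]; exact refl_mul_refl_mem H.hQ H.n5 h⟩

variable {M : Subgroup (GL ι F)} (hM : Cfsg.Geo.decompositionStabilizer D ⊓ Cfsg.Geo.omegaGL Q ≤ M)
include hM

/-- A singular component gives a seed. -/
theorem seed_singular {v : ι → F} (hv : Adm Q D M v) (hQv : Q v ≠ 0) {f : Fin t → ι → F} (hf : ∀ n, f n ∈ D n)
    (hfv : v = ∑ n, f n) {m o : Fin t} (hom : o ≠ m) (hm : f m ≠ 0) (hQm : Q (f m) = 0) (ho : f o ≠ 0) :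
    SeedIn Q D M := by
  obtain ⟨e, he, g, hg, hQe, hQg, lam, hlam, hhx⟩ := H.exists_torus (hf m) hm hQm
  have hB : ∀ z ∈ D m, B z (v - f m) = 0 := fun z hz => by
    rw [B_sub_right Q, hfv, B_sum_comps H.hD hf hz, sub_self]
  refine H.seed_of_shift hM hv hQv (H.pair_mem_stab_omega he hg hQg.symm) (d := (lam - 1) • f m) ?_
    (smul_ne_zero (sub_ne_zero.2 hlam) hm) (by rw [Q_smul Q, hQm, mul_zero]) (S := {m})
    (by have := H.five_le; simp; omega) (fun l hl x hx => ?_) ⟨o, by simpa using hom, H.comp_outside hf hfv ho⟩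
  · have hfix : act (refl Q e * refl Q g) (v - f m) = v - f m := by
      rw [act_mul, act_refl_fix Q (a := g) (hQg.trans_ne hQe) (hB g hg), act_refl_fix Q hQe (hB e he)]
    rw [map_sub, hhx, sub_eq_iff_eq_add] at hfix
    rw [hfix]
    module
  · rw [B_smul_left Q, block_orth H.hD (hf m) hx (Ne.symm (by simpa using hl)), mul_zero]

/-- Three non-zero components and a correcting block give a seed. -/
theorem seed_three {v : ι → F} (hv : Adm Q D M v) (hQv : Q v ≠ 0) {f : Fin t → ι → F} (hf : ∀ n, f n ∈ D n)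
    (hfv : v = ∑ n, f n) {l m o : Fin t} (hlm : l ≠ m) (hlo : o ≠ l) (hmo : o ≠ m) (hl : f l ≠ 0) (hm : f m ≠ 0)
    (ho : f o ≠ 0) (hcorr : (2 : F) = 0 ∨ ∃ n, f n = 0) : SeedIn Q D M := by
  by_cases hQl : Q (f l) = 0
  · exact H.seed_singular hM hv hQv hf hfv hlo hl hQl ho
  by_cases hQm : Q (f m) = 0
  · exact H.seed_singular hM hv hQv hf hfv hmo hm hQm ho
  obtain ⟨φ, hφ⟩ := H.hD.isometric l m
  obtain ⟨e, he, e', he', hev, hev', hQe, hQee⟩ :=
    exists_opposite H.hQ (H.good l) (H.good m) φ hφ (hf l) (hf m) hQl hQm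
  have hQe' : Q e' ≠ 0 := by rw [hQee]; exact neg_ne_zero.2 hQe
  have hBe : B e v = 1 := by rw [hfv, B_sum_comps H.hD hf he, hev]
  have hBe' : B e' v = 1 := by rw [hfv, B_sum_comps H.hD hf he', hev']
  have hee : B e e' = 0 := block_orth H.hD he he' hlm
  set d := -(Q e')⁻¹ • e' - (Q e)⁻¹ • e with hd
  have hQd : Q d = 0 := by
    rw [hd, Q_sub Q, Q_smul Q, Q_smul Q, B_smul_left Q, B_smul_right Q, B_comm Q e' e, hee, hQee]
    field_simp
    ring
  have hd0 : d ≠ 0 := by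
    intro h0
    have := congrArg (B (f l)) h0
    rw [hd, B_sub_right Q, B_smul_right Q, B_smul_right Q, block_orth H.hD (hf l) he' hlm, B_comm Q (f l) e, hev,
      B_zero_right Q, mul_zero, zero_sub, mul_one, neg_eq_zero] at this
    exact inv_ne_zero hQe this
  have hdS : ∀ n ∉ ({l, m} : Finset (Fin t)), ∀ x ∈ D n, B d x = 0 := fun n hn x hx => by
    simp only [Finset.mem_insert, Finset.mem_singleton, not_or] at hn
    rw [hd, B_sub_left Q, B_smul_left Q, B_smul_left Q, block_orth H.hD he' hx (Ne.symm hn.2),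
      block_orth H.hD he hx (Ne.symm hn.1)]
    ring
  have hcard : ({l, m} : Finset (Fin t)).card + 2 ≤ t := by
    have := H.five_le
    have := Finset.card_le_two (a := l) (b := m)
    omega
  have hout : ∃ n ∉ ({l, m} : Finset (Fin t)), ∃ x ∈ D n, B x v ≠ 0 :=
    ⟨o, by simp [hlo, hmo], H.comp_outside hf hfv ho⟩
  have hmove : act (refl Q e) (act (refl Q e') v) = v + d := by
    rw [act_refl Q hQe', hBe', act_refl Q hQe, B_sub_right Q, B_smul_right Q, hBe, hee, hd]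
    module
  rcases hcorr with h2 | ⟨n, hn⟩
  · refine H.seed_of_shift hM hv hQv (H.pair_mem_stab_omega he he' ?_) (d := d) ?_ hd0 hQd hcard hdS hout
    · rw [hQee]; linear_combination Q e * h2
    · rw [act_mul, hmove]
  have hnl : n ≠ l := fun h => hl (h ▸ hn)
  have hnm : n ≠ m := fun h => hm (h ▸ hn)
  obtain ⟨p, hp, hQp⟩ := H.value n (Q e')
  obtain ⟨p', hp', hQp'⟩ := H.value n (Q e)
  have hfixp : ∀ q ∈ D n, Q q ≠ 0 → act (refl Q q) v = v := fun q hq hQq => act_refl_fix Q hQq (by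
    rw [hfv, B_sum_comps H.hD hf hq, hn, B_zero_right Q])
  refine H.seed_of_shift hM hv hQv (mul_mem (H.pair_mem_stab_omega he hp' hQp'.symm)
    (H.pair_mem_stab_omega he' hp hQp.symm)) (d := d) ?_ hd0 hQd hcard hdS hout
  rw [act_mul, act_mul, act_mul, hfixp p hp (hQp.trans_ne hQe'), act_refl_fix Q (hQp'.trans_ne hQe), hmove]
  rw [act_refl Q hQe', hBe', B_sub_right Q, B_smul_right Q, block_orth H.hD hp' he' hnm, hfv,
    B_sum_comps H.hD hf hp', hn, B_zero_right Q]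
  ring

/-- An admissible vector missing some block gives a seed. -/
theorem seed_small {v : ι → F} (hv : Adm Q D M v) (hQv : Q v ≠ 0) {f : Fin t → ι → F} (hf : ∀ n, f n ∈ D n)
    (hfv : v = ∑ n, f n) {i j z : Fin t} (hij : i ≠ j) (hi : f i ≠ 0) (hj : f j ≠ 0) (hz : f z = 0) :
    SeedIn Q D M := by
  classical
  by_cases h3 : ∃ o, o ≠ i ∧ o ≠ j ∧ f o ≠ 0
  · obtain ⟨o, hoi, hoj, ho⟩ := h3
    exact H.seed_three hM hv hQv hf hfv hij hoi hoj hi hj ho (Or.inr ⟨z, hz⟩)
  push Not at h3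
  by_cases hQi : Q (f i) = 0
  · exact H.seed_singular hM hv hQv hf hfv hij.symm hi hQi hj
  by_cases hQj : Q (f j) = 0
  · exact H.seed_singular hM hv hQv hf hfv hij hj hQj hi
  have ht := H.five_le
  obtain ⟨n, hn⟩ := H.exists_notMem ({i, j} : Finset (Fin t)) (by
    have := Finset.card_le_two (a := i) (b := j); omega)
  simp only [Finset.mem_insert, Finset.mem_singleton, not_or] at hn
  obtain ⟨o, ho⟩ := H.exists_notMem ({i, j, n} : Finset (Fin t)) (by
    have := Finset.card_le_three (a := i) (b := j) (c := n); omega)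
  simp only [Finset.mem_insert, Finset.mem_singleton, not_or] at ho
  obtain ⟨hoi, hoj, hon⟩ := ho
  obtain ⟨g, hg, hmap, hgfix⟩ := exists_block_swap H.hD H.hQ H.n5 H.value (Ne.symm hn.1)
  have hgI := omega_le_iso hg.2
  set fi := act g (f i) with hfi
  have hfin : fi ∈ D n := hmap.le ⟨f i, hf i, rfl⟩
  have hfi0 : fi ≠ 0 := fun h => hi (act_injective g (h.trans (map_zero _).symm))
  have hgv : act g v = fi + f j := by
    rw [hfv, map_sum, ← Finset.sum_subset (Finset.subset_univ ({i, j} : Finset (Fin t))) fun k _ hk => by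
      simp only [Finset.mem_insert, Finset.mem_singleton, not_or] at hk
      rw [h3 k hk.1 hk.2, map_zero], Finset.sum_pair hij, hgfix j hij.symm (Ne.symm hn.2) _ (hf j)]
  obtain ⟨p, hp, hQp, hBp, hpn⟩ := (H.good j).exists_third H.hQ (hf j) hQj
  obtain ⟨q, hq, hQq⟩ := H.value o (Q p)
  set a := act (refl Q p) (f j) with ha
  have haj : a ∈ D j := refl_mem_block H.hD hp (hf j)
  have hy : act (refl Q p * refl Q q) (act g v) = fi + a := by
    rw [hgv, act_mul, act_refl_fix Q (a := q) (hQq.trans_ne hQp) (by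
      rw [B_add_right Q, block_orth H.hD hq hfin hon, block_orth H.hD hq (hf j) hoj, add_zero]), map_add,
      act_refl_fix Q hQp (block_orth H.hD hp hfin (Ne.symm hn.2))]
  have hyA := H.adm_act hM (H.adm_act hM hv hg) (H.pair_mem_stab_omega hp hq hQq.symm)
  rw [hy] at hyA
  have hQy : Q (fi + a) = Q v := by
    rw [← hy, Q_act (mul_mem (refl_mem_iso Q _) (refl_mem_iso Q _)), Q_act hgI]
  have hBv : B (fi + a) v = B a (f j) := by
    rw [B_add_left Q, hfv, B_sum_comps H.hD hf hfin, B_sum_comps H.hD hf haj, h3 n hn.1 hn.2, B_zero_right Q,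
      zero_add]
  set γ := B a (f j) / Q v
  have hγ : γ ≠ 0 := div_ne_zero (by rwa [B_comm Q]) hQv
  have hw : act (refl Q (fi + a)) v = v - γ • (fi + a) := by
    rw [act_refl Q (hQy.trans_ne hQv), hBv, hQy, inv_mul_eq_div]
  let f' : Fin t → ι → F := fun k => if k = n then -(γ • fi) else if k = j then f j - γ • a else f k
  have hf' : ∀ k, f' k ∈ D k := fun k => by
    simp only [f']
    split_ifs with h h'
    · exact h ▸ (D n).neg_mem ((D n).smul_mem _ hfin)
    · rw [h']; exact (D j).sub_mem (hf j) ((D j).smul_mem _ haj)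
    · exact hf k
  have hsum : act (refl Q (fi + a)) v = ∑ k, f' k := by
    rw [hw, hfv, ← Finset.sum_subset (Finset.subset_univ ({i, j} : Finset (Fin t))) fun k _ hk => by
      simp only [Finset.mem_insert, Finset.mem_singleton, not_or] at hk
      exact h3 k hk.1 hk.2, ← Finset.sum_subset (Finset.subset_univ ({i, j, n} : Finset (Fin t))) fun k _ hk => by
      simp only [Finset.mem_insert, Finset.mem_singleton, not_or] at hk
      simp only [f', if_neg hk.2.2, if_neg hk.2.1]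
      exact h3 k hk.1 hk.2.1, Finset.sum_pair hij, Finset.sum_insert (by simp [hij, Ne.symm hn.1]),
      Finset.sum_pair (Ne.symm hn.2)]
    simp only [f', if_neg (Ne.symm hn.2), if_pos, if_neg (Ne.symm hn.1), if_neg hij]
    module
  refine H.seed_three hM (H.adm_refl hM hyA hv hQy) (by rwa [Q_act (refl_mem_iso Q _)]) hf' hsum (l := i) (m := n)
    (o := j) (Ne.symm hn.1) hij.symm (Ne.symm hn.2) ?_ ?_ ?_ (Or.inr ⟨o, ?_⟩)
  · simpa [f', Ne.symm hn.1, hij] using hi
  · simpa [f', hγ] using hfi0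
  · simp only [f', if_neg (Ne.symm hn.2), if_pos]
    intro h0
    exact hpn (Submodule.mem_span_singleton.2 ⟨γ⁻¹, by rw [sub_eq_zero.1 h0, inv_smul_smul₀ hγ]⟩)
  · simp only [f', if_neg hon, if_neg hoj]
    exact h3 o hoi hoj

/-- A mixed product gives a seed. -/
theorem seed (hmix : MixedIn Q D M) : SeedIn Q D M := by
  classical
  obtain ⟨v, hQv, hv, i₀, a₀, ha₀, hQa₀, hM₀⟩ := hmix
  have hA : Adm Q D M v := H.adm_of hM ha₀ hQa₀ hM₀
  obtain ⟨f, hf, hfv⟩ := exists_comps H.hD v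
  obtain ⟨i, hi⟩ : ∃ i, f i ≠ 0 := by
    by_contra hall
    push Not at hall
    exact hQv (by rw [hfv, Finset.sum_eq_zero fun l _ => hall l, map_zero])
  obtain ⟨j, hji, hj⟩ : ∃ j, j ≠ i ∧ f j ≠ 0 := by
    by_contra hall
    push Not at hall
    exact hv i (by rw [hfv, Finset.sum_eq_single i (fun l _ hl => hall l hl) (by simp)]; exact hf i)
  by_cases hzero : ∃ z, f z = 0
  · obtain ⟨z, hz⟩ := hzero
    exact H.seed_small hM hA hQv hf hfv hji.symm hi hj hz
  push Not at hzero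
  have ht := H.five_le
  by_cases h2 : (2 : F) = 0
  · exact H.seed_three hM hA hQv hf hfv (l := ⟨0, by omega⟩) (m := ⟨1, by omega⟩) (o := ⟨2, by omega⟩)
      (by simp) (by simp) (by simp) (hzero _) (hzero _) (hzero _) (Or.inl h2)
  by_cases hsing : ∃ m, Q (f m) = 0
  · obtain ⟨m, hm⟩ := hsing
    obtain ⟨o, ho⟩ := H.exists_notMem {m} (by simp; omega)
    exact H.seed_singular hM hA hQv hf hfv (by simpa using ho) (hzero m) hm (hzero o)
  push Not at hsing
  have hpick : ∀ a b c : Fin t, a ≠ b → a ≠ c → b ≠ c → ∃ l m, l ≠ m ∧ (l = a ∨ l = b) ∧ (m = b ∨ m = c) ∧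
      Q (f l) + Q (f m) ≠ 0 := fun a b c hab hac hbc => by
    by_contra hall
    push Not at hall
    have e1 := hall a b hab (Or.inl rfl) (Or.inl rfl)
    have e2 := hall a c hac (Or.inl rfl) (Or.inr rfl)
    have e3 := hall b c hbc (Or.inr rfl) (Or.inr rfl)
    exact mul_ne_zero h2 (hsing a) (by linear_combination e1 + e2 - e3)
  obtain ⟨l₁, m₁, hlm₁, hl₁, hm₁, hA₁⟩ := hpick ⟨0, by omega⟩ ⟨1, by omega⟩ ⟨2, by omega⟩ (by simp) (by simp) (by simp)
  obtain ⟨a, b, c, ha, hb, hc, hab, hac, hbc⟩ :=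
    Finset.two_lt_card_iff.1 (show 2 < ((Finset.univ : Finset (Fin t)) \ {l₁, m₁}).card by
      rw [Finset.card_sdiff_of_subset (Finset.subset_univ _), Finset.card_univ, Fintype.card_fin]
      have := Finset.card_le_two (a := l₁) (b := m₁)
      omega)
  simp only [Finset.mem_sdiff, Finset.mem_univ, true_and, Finset.mem_insert, Finset.mem_singleton, not_or] at ha hb hc
  obtain ⟨l₂, m₂, hlm₂, hl₂, hm₂, hA₂⟩ := hpick a b c hab hac hbc
  have hne : ∀ x y : Fin t, (x = l₁ ∨ x = m₁) → (y = l₂ ∨ y = m₂) → x ≠ y := by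
    intro x y hx hy hxy
    have hy' : y ≠ l₁ ∧ y ≠ m₁ := by
      rcases hy with rfl | rfl
      · rcases hl₂ with h | h <;> rw [h] <;> assumption
      · rcases hm₂ with h | h <;> rw [h] <;> assumption
    rcases hx with rfl | rfl
    · exact hy'.1 hxy.symm
    · exact hy'.2 hxy.symm
  -- a rotation realising the wanted displacement
  obtain ⟨K₁, hK₁, hR₁⟩ := (H.good l₁).exists_cosines H.hQ (Or.inl h2) (hf l₁) (hsing l₁)
  obtain ⟨K₂, hK₂, hR₂⟩ := (H.good l₂).exists_cosines H.hQ (Or.inl h2) (hf l₂) (hsing l₂)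
  obtain ⟨x₁, hx₁, x₂, hx₂, heq⟩ : ∃ x₁ ∈ K₁, ∃ x₂ ∈ K₂, (4 - x₁) * (Q (f l₁) + Q (f m₁)) +
      (4 - x₂) * (Q (f l₂) + Q (f m₂)) = Q v := by
    by_contra hall
    push Not at hall
    have hdis : Disjoint (K₁.image fun x => (4 - x) * (Q (f l₁) + Q (f m₁)))
        (K₂.image fun x => Q v - (4 - x) * (Q (f l₂) + Q (f m₂))) := by
      rw [Finset.disjoint_left]
      intro z h1 h2
      obtain ⟨x₁, hx₁, rfl⟩ := Finset.mem_image.1 h1
      obtain ⟨x₂, hx₂, e⟩ := Finset.mem_image.1 h2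
      exact hall x₁ hx₁ x₂ hx₂ (by linear_combination -e)
    have h := Finset.card_le_univ ((K₁.image fun x => (4 - x) * (Q (f l₁) + Q (f m₁))) ∪
      K₂.image fun x => Q v - (4 - x) * (Q (f l₂) + Q (f m₂)))
    rw [Finset.card_union_of_disjoint hdis, Finset.card_image_of_injective _ (fun a b hab => by
      simpa using mul_right_cancel₀ hA₁ hab), Finset.card_image_of_injective _ (fun a b hab => by
      simpa using mul_right_cancel₀ hA₂ (sub_right_injective hab))] at h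
    omega
  have hh : ∀ (l m : Fin t) (x : F), l ≠ m →
      (∃ g ∈ D l, Q g ≠ 0 ∧ x = B (f l) g * B (f l) g / (Q (f l) * Q g)) →
      ∃ h ∈ Cfsg.Geo.decompositionStabilizer D ⊓ Cfsg.Geo.omegaGL Q,
        (∀ k, k ≠ l → k ≠ m → ∀ z ∈ D k, act h z = z) ∧ (∀ k, ∀ z ∈ D k, act h z ∈ D k) ∧
        Q (act h (f l) - f l) = Q (f l) * (4 - x) ∧ Q (act h (f m) - f m) = Q (f m) * (4 - x) := by
    rintro l m x hlm ⟨g, hg, hQg, rfl⟩
    obtain ⟨φ, hφ⟩ := H.hD.isometric l m
    set e := f l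
    have he : e ∈ D l := hf l
    set e' := (φ ⟨e, he⟩ : ι → F)
    set g' := (φ ⟨g, hg⟩ : ι → F)
    have he' : e' ∈ D m := (φ ⟨e, he⟩).2
    have hg' : g' ∈ D m := (φ ⟨g, hg⟩).2
    have hQe' : Q e' = Q e := hφ _
    have hQg' : Q g' = Q g := hφ _
    have hB' : B e' g' = B e g := by
      have h := hφ (⟨e, he⟩ + ⟨g, hg⟩)
      rw [map_add, Submodule.coe_add, Submodule.coe_add, Q_add Q, Q_add Q] at h
      linear_combination h - hQe' - hQg'
    have hQe : Q e ≠ 0 := hsing l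
    have hI : refl Q g * refl Q e' = refl Q e' * refl Q g := (refl_commute Q (block_orth H.hD hg he' hlm)).eq
    refine ⟨(refl Q e * refl Q g) * (refl Q e' * refl Q g'), ?_, fun k hkl hkm z hz => ?_, fun k z hz => ?_, ?_, ?_⟩
    · rw [show (refl Q e * refl Q g) * (refl Q e' * refl Q g') = (refl Q e * refl Q e') * (refl Q g * refl Q g') by
        rw [mul_assoc, ← mul_assoc (refl Q g), hI]; group]
      exact mul_mem (H.pair_mem_stab_omega he he' hQe'.symm) (H.pair_mem_stab_omega hg hg' hQg'.symm)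
    · rw [act_mul, act_mul, act_mul, act_refl_fix Q (hQg'.trans_ne hQg) (block_orth H.hD hg' hz hkm.symm),
        act_refl_fix Q (hQe'.trans_ne hQe) (block_orth H.hD he' hz hkm.symm),
        act_refl_fix Q hQg (block_orth H.hD hg hz hkl.symm), act_refl_fix Q hQe (block_orth H.hD he hz hkl.symm)]
    · rw [act_mul, act_mul, act_mul]
      exact refl_mem_block H.hD he (refl_mem_block H.hD hg (refl_mem_block H.hD he' (refl_mem_block H.hD hg' hz)))
    · rw [act_mul, show act (refl Q e' * refl Q g') e = e by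
        rw [act_mul, act_refl_fix Q (hQg'.trans_ne hQg) (block_orth H.hD hg' he hlm.symm),
          act_refl_fix Q (hQe'.trans_ne hQe) (block_orth H.hD he' he hlm.symm)],
        (H.good l).Q_rotation he hg he hQe hQg]
    · have hfix : ∀ z ∈ D m, act (refl Q e * refl Q g) z = z := fun z hz => by
        rw [act_mul, act_refl_fix Q hQg (block_orth H.hD hg hz hlm),
          act_refl_fix Q hQe (block_orth H.hD he hz hlm)]
      rw [act_mul, hfix _ (by rw [act_mul]; exact refl_mem_block H.hD he' (refl_mem_block H.hD hg' (hf m))),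
        (H.good m).Q_rotation he' hg' (hf m) (hQe'.trans_ne hQe) (hQg'.trans_ne hQg), hB', hQe', hQg']
  obtain ⟨h₁, hh₁, hfix₁, hblk₁, hQl₁, hQm₁⟩ := hh l₁ m₁ x₁ hlm₁ (hR₁ x₁ hx₁)
  obtain ⟨h₂, hh₂, hfix₂, hblk₂, hQl₂, hQm₂⟩ := hh l₂ m₂ x₂ hlm₂ (hR₂ x₂ hx₂)
  obtain ⟨d, hdd⟩ : ∃ d : Fin t → ι → F, ∀ n, d n = f n - act (h₁ * h₂) (f n) := ⟨_, fun _ => rfl⟩
  have hd : ∀ n, d n ∈ D n := fun n => by
    rw [hdd, act_mul]
    exact (D n).sub_mem (hf n) (hblk₁ n _ (hblk₂ n _ (hf n)))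
  have hd1 : ∀ n, (n = l₁ ∨ n = m₁) → d n = f n - act h₁ (f n) := fun n hn => by
    rw [hdd, act_mul, hfix₂ n (hne n l₂ hn (Or.inl rfl)) (hne n m₂ hn (Or.inr rfl)) _ (hf n)]
  have hd2 : ∀ n, (n = l₂ ∨ n = m₂) → d n = f n - act h₂ (f n) := fun n hn => by
    rw [hdd, act_mul, hfix₁ n (hne l₁ n (Or.inl rfl) hn).symm (hne m₁ n (Or.inr rfl) hn).symm _ (hblk₂ n _ (hf n))]
  have hd0 : ∀ n, n ≠ l₁ → n ≠ m₁ → n ≠ l₂ → n ≠ m₂ → d n = 0 := fun n a b c e => by
    rw [hdd, act_mul, hfix₂ n c e _ (hf n), hfix₁ n a b _ (hf n), sub_self]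
  have hneg : ∀ a b : ι → F, Q (a - b) = Q (b - a) := fun a b => by rw [← Q_neg Q (a - b), neg_sub]
  have hQd1 : Q (d l₁) = Q (f l₁) * (4 - x₁) := by rw [hd1 _ (Or.inl rfl), hneg, hQl₁]
  have hQd1' : Q (d m₁) = Q (f m₁) * (4 - x₁) := by rw [hd1 _ (Or.inr rfl), hneg, hQm₁]
  have hQd2 : Q (d l₂) = Q (f l₂) * (4 - x₂) := by rw [hd2 _ (Or.inl rfl), hneg, hQl₂]
  have hQd2' : Q (d m₂) = Q (f m₂) * (4 - x₂) := by rw [hd2 _ (Or.inr rfl), hneg, hQm₂]
  have hQsum : Q (∑ n, d n) = Q v := by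
    rw [Q_sum_comps H.hD hd, ← Finset.sum_subset (Finset.subset_univ ({l₁, m₁, l₂, m₂} : Finset (Fin t)))
      fun n _ hn => by
        simp only [Finset.mem_insert, Finset.mem_singleton, not_or] at hn
        rw [hd0 n hn.1 hn.2.1 hn.2.2.1 hn.2.2.2, map_zero],
      Finset.sum_insert (by simp [hlm₁, hne l₁ l₂ (Or.inl rfl) (Or.inl rfl), hne l₁ m₂ (Or.inl rfl) (Or.inr rfl)]),
      Finset.sum_insert (by simp [hne m₁ l₂ (Or.inr rfl) (Or.inl rfl), hne m₁ m₂ (Or.inr rfl) (Or.inr rfl)]),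
      Finset.sum_pair hlm₂, hQd1, hQd1', hQd2, hQd2', ← heq]
    ring
  have hhv : ∑ n, d n = v - act (h₁ * h₂) v := by
    rw [Finset.sum_congr rfl fun n _ => hdd n, Finset.sum_sub_distrib, ← map_sum, ← hfv]
  have hhI : h₁ * h₂ ∈ isometryGroup F Q := omega_le_iso (mul_mem hh₁ hh₂).2
  have hhA := H.adm_act hM hA (mul_mem hh₁ hh₂)
  have hwA : Adm Q D M (∑ n, d n) := by
    have h := H.adm_refl hM hhA hA (Q_act hhI v)
    have hB : B (act (h₁ * h₂) v) v = Q v := by
      have := hQsum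
      rw [hhv, Q_sub Q, Q_act hhI, B_comm Q] at this
      linear_combination -this
    rwa [act_refl Q (by rw [Q_act hhI]; exact hQv), Q_act hhI, hB, inv_mul_cancel₀ hQv, one_smul, ← hhv] at h
  obtain ⟨z, hz⟩ : ∃ z, d z = 0 := by
    obtain ⟨z, hz⟩ := H.exists_notMem ({l₁, m₁, l₂, m₂} : Finset (Fin t)) (by
      have := Finset.card_le_four (a := l₁) (b := m₁) (c := l₂) (d := m₂)
      omega)
    simp only [Finset.mem_insert, Finset.mem_singleton, not_or] at hz
    exact ⟨z, hd0 _ hz.1 hz.2.1 hz.2.2.1 hz.2.2.2⟩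
  have nz : ∀ n, Q (d n) ≠ 0 → d n ≠ 0 := fun n h e => h (by rw [e, map_zero])
  by_cases hx : (4 : F) - x₁ = 0
  · have hx' : (4 : F) - x₂ ≠ 0 := fun h => hQv (by rw [← heq, hx, h]; ring)
    exact H.seed_small hM hwA (hQsum.trans_ne hQv) hd rfl hlm₂
      (nz _ (by rw [hQd2]; exact mul_ne_zero (hsing _) hx')) (nz _ (by rw [hQd2']; exact mul_ne_zero (hsing _) hx')) hz
  · exact H.seed_small hM hwA (hQsum.trans_ne hQv) hd rfl hlm₁
      (nz _ (by rw [hQd1]; exact mul_ne_zero (hsing _) hx)) (nz _ (by rw [hQd1']; exact mul_ne_zero (hsing _) hx)) hz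

end PlaneBlocks

end Cfsg.Agent.MaxCl.Orth
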