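/-
Stabilisers of orthogonal decompositions into planes are maximal in `omegaGL`: a Siegel element of small support
spreads to two non-orthogonal full root groups.
-/
import Cfsg.Agent.Lib.MaxCl.OrthPlaneMixed

set_option autoImplicit false

namespace Cfsg.Agent.MaxCl.Orth

open scoped MatrixGroups Matrix
open Module (finrank)

variable {ι : Type} [Fintype ι] [DecidableEq ι] {F : Type*} [Field F] [Fintype F] {Q : QuadraticForm F (ι → F)}

set_option quotPrecheck false in
local notation "B" => QuadraticMap.polar (⇑Q)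

variable {t : ℕ} {D : Fin t → Submodule F (ι → F)}

variable (Q D) in
/-- All parameters in the blocks outside `S` give elements of `M` at `u`. -/
def OutFull (M : Subgroup (GL ι F)) (u : ι → F) (S : Finset (Fin t)) : Prop :=
  ∀ l ∉ S, ∀ x ∈ D l, sg Q u x ∈ M

namespace PlaneBlocks

variable (H : PlaneBlocks Q D)
include H

variable {M : Subgroup (GL ι F)} (hM : Cfsg.Geo.decompositionStabilizer D ⊓ Cfsg.Geo.omegaGL Q ≤ M)
include hM

/-- A Siegel element with small support spreads to all blocks outside the support. -/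
theorem outFull {u y : ι → F} (hQu : Q u = 0) {S : Finset (Fin t)} (hS : S.card + 2 ≤ t)
    (huS : ∀ l ∉ S, ∀ x ∈ D l, B u x = 0) (huy : B u y = 0) (hy : sg Q u y ∈ M)
    (hout : ∃ l ∉ S, ∃ x ∈ D l, B x y ≠ 0) : OutFull Q D M u S := by
  classical
  obtain ⟨l, hl, x₀, hx₀, hx₀y⟩ := hout
  obtain ⟨f, hf, hfy⟩ := exists_comps H.hD y
  have hfl : f l ≠ 0 := fun h => hx₀y (by rw [hfy, B_sum_comps H.hD hf hx₀, h, B_zero_right Q])
  obtain ⟨e, he, hQe, hey⟩ := (H.good l).exists_nonsingular_B H.hQ (hf l) hfl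
  rw [← B_sum_comps H.hD hf he, ← hfy] at hey
  obtain ⟨e', he', hval, -, hne⟩ := (H.good l).exists_same H.hQ he hQe
  have hQe' : Q e' ≠ 0 := hval.trans_ne hQe
  -- a parameter inside the block
  obtain ⟨y₀, hy₀l, hy₀0, hy₀⟩ : ∃ z ∈ D l, z ≠ 0 ∧ sg Q u z ∈ M := by
    have hd := sg_diff_mem (mul_mem (refl_mem_iso Q e) (refl_mem_iso Q e')) (H.pair_mem hM he he' hval.symm)
      hQu huy hy (by rw [act_mul, act_refl_fix Q hQe' ((B_comm Q e' u).trans (huS l hl e' he')),
        act_refl_fix Q hQe ((B_comm Q e u).trans (huS l hl e he))])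
    refine ⟨_, ?_, fun h0 => hne ?_, hd.2⟩
    · rw [act_mul, act_refl Q hQe', act_refl Q hQe, sub_right_comm _ _ y, sub_sub_cancel_left]
      exact (D l).sub_mem ((D l).neg_mem ((D l).smul_mem _ he')) ((D l).smul_mem _ he)
    · rw [act_mul] at h0
      have e1 := sub_eq_zero.1 h0
      have e2 : act (refl Q e') y = act (refl Q e) y := by
        conv_rhs => rw [← e1]
        rw [← act_mul, refl_mul_self, act_one]
      rw [act_refl Q hQe', act_refl Q hQe, sub_right_inj] at e2
      rcases eq_or_ne ((Q e')⁻¹ * B e' y) 0 with h | h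
      · rw [h, zero_smul] at e2
        exact absurd ((smul_eq_zero.1 e2.symm).resolve_right fun e0 => hQe (by rw [e0, map_zero]))
          (mul_ne_zero (inv_ne_zero hQe) hey)
      · exact Submodule.mem_span_singleton.2 ⟨((Q e')⁻¹ * B e' y)⁻¹ * ((Q e)⁻¹ * B e y), by
          rw [← smul_smul, ← e2, inv_smul_smul₀ h]⟩
  have hadd : ∀ a b, a ∈ D l → b ∈ D l → sg Q u a ∈ M → sg Q u b ∈ M → sg Q u (a + b) ∈ M :=
    fun a b ha hb h₁ h₂ => by rw [← sg_add Q hQu (huS l hl a ha) (huS l hl b hb)]; exact mul_mem h₁ h₂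
  have hneg : ∀ a, a ∈ D l → sg Q u a ∈ M → sg Q u (-a) ∈ M := fun a ha h => by
    rw [sg_neg Q hQu (huS l hl a ha)]; exact inv_mem h
  obtain ⟨n, hn⟩ := H.exists_notMem (insert l S) (by have := Finset.card_insert_le l S; omega)
  simp only [Finset.mem_insert, not_or] at hn
  have hrefl : ∀ z ∈ D l, sg Q u z ∈ M → ∀ g ∈ D l, Q g ≠ 0 → sg Q u (act (refl Q g) z) ∈ M := by
    intro z hz hzM g hg hQg
    obtain ⟨p, hp, hQp⟩ := H.value n (Q g)
    have h := mul_mem (mul_mem (H.pair_mem hM hg hp hQp.symm) hzM) (inv_mem (H.pair_mem hM hg hp hQp.symm))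
    rwa [conj_sg Q (mul_mem (refl_mem_iso Q g) (refl_mem_iso Q p)), act_mul, act_mul,
      act_refl_fix Q (hQp.trans_ne hQg) ((B_comm Q p u).trans (huS n hn.2 p hp)),
      act_refl_fix Q hQg ((B_comm Q g u).trans (huS l hl g hg)),
      act_refl_fix Q (hQp.trans_ne hQg) (block_orth H.hD hp hz hn.1)] at h
  have hblock : ∀ x ∈ D l, sg Q u x ∈ M := by
    by_cases hsing : ∀ s ∈ D l, Q s = 0 → s = 0
    · have hd : Q y₀ ≠ 0 := fun h => hy₀0 (hsing _ hy₀l h)
      obtain ⟨K, hK, hKf⟩ := (H.good l).exists_cosines H.hQ (Or.inr hsing) hy₀l hd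
      have hline : ∀ x ∈ K, sg Q u ((2 - x) • y₀) ∈ M := by
        intro x hx
        obtain ⟨g, hg, hQg, rfl⟩ := hKf x hx
        have hz : act (refl Q g) y₀ ∈ D l := refl_mem_block H.hD hg hy₀l
        have h1 := hrefl y₀ hy₀l hy₀ g hg hQg
        have h2 := hadd _ _ hz ((D l).neg_mem (refl_mem_block H.hD hy₀l hz)) h1
          (hneg _ (refl_mem_block H.hD hy₀l hz) (hrefl _ hz h1 y₀ hy₀l hd))
        have e3 : act (refl Q g) y₀ + -act (refl Q y₀) (act (refl Q g) y₀) =
            (2 - B y₀ g * B y₀ g / (Q y₀ * Q g)) • y₀ := by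
          rw [act_refl Q hd, ← sub_eq_add_neg, sub_sub_cancel, act_refl Q hQg, B_sub_right Q, B_smul_right Q,
            B_self Q, B_comm Q g y₀]
          congr 1
          field_simp
        rwa [e3] at h2
      have hall : ∀ c : F, sg Q u (c • y₀) ∈ M := by
        intro c
        obtain ⟨z, hz₁, hz₂⟩ : ∃ z, z ∈ K.image (fun x => 2 - x) ∧ z ∈ K.image (fun x => c - (2 - x)) := by
          by_contra hno
          push Not at hno
          have h := Finset.card_le_univ (K.image (fun x => 2 - x) ∪ K.image fun x => c - (2 - x))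
          rw [Finset.card_union_of_disjoint (Finset.disjoint_left.2 hno),
            Finset.card_image_of_injective _ (fun a b h => by simpa using h),
            Finset.card_image_of_injective _ (fun a b h => by simpa using h)] at h
          omega
        obtain ⟨x₁, hx₁, rfl⟩ := Finset.mem_image.1 hz₁
        obtain ⟨x₂, hx₂, hx⟩ := Finset.mem_image.1 hz₂
        rw [show c • y₀ = (2 - x₁) • y₀ + (2 - x₂) • y₀ by rw [← add_smul]; congr 1; linear_combination hx]
        exact hadd _ _ ((D l).smul_mem _ hy₀l) ((D l).smul_mem _ hy₀l) (hline x₁ hx₁) (hline x₂ hx₂)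
      obtain ⟨g, hg, hQg, -, hn'⟩ := (H.good l).exists_third H.hQ hy₀l hd
      intro x hx
      obtain ⟨p, r, rfl⟩ := (H.good l).exists_coord hy₀l (refl_mem_block H.hD hg hy₀l) hy₀0 hn' hx
      rw [← map_smul]
      exact hadd _ _ ((D l).smul_mem _ hy₀l) (refl_mem_block H.hD hg ((D l).smul_mem _ hy₀l)) (hall p)
        (hrefl _ ((D l).smul_mem _ hy₀l) (hall r) g hg hQg)
    push Not at hsing
    obtain ⟨s, hs, hQs, hs0⟩ := hsing
    have h7 := H.big l s hs hs0 hQs
    obtain ⟨w, hw, hw0, hQw, hwM⟩ : ∃ w ∈ D l, w ≠ 0 ∧ Q w = 0 ∧ sg Q u w ∈ M := by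
      by_cases hd : Q y₀ = 0
      · exact ⟨y₀, hy₀l, hy₀0, hd, hy₀⟩
      obtain ⟨r, hr, hQr, hsr, hcoord⟩ := exists_plane_coords H.hQ (H.good l) hs hs0 hQs
      obtain ⟨e1, e2⟩ := hcoord y₀ hy₀l
      set p := B r y₀
      set q := B s y₀
      have hq : q ≠ 0 := fun h => hd (by rw [e2, h, mul_zero])
      have horb : ∀ X : F, X ≠ 0 → sg Q u (X • s + (Q y₀ / X) • r) ∈ M := by
        intro X hX
        set g := (-(X / q)) • s + r with hgdef
        have hQg : Q g = -(X / q) := by
          rw [hgdef, Q_add Q, Q_smul Q, B_smul_left Q, hQs, hQr, hsr]; ring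
        have hQg0 : Q g ≠ 0 := by rw [hQg]; exact neg_ne_zero.2 (div_ne_zero hX hq)
        have h := hrefl y₀ hy₀l hy₀ g ((D l).add_mem ((D l).smul_mem _ hs) hr) hQg0
        have hBg : B g y₀ = -(X / q) * q + p := by rw [hgdef, B_add_left Q, B_smul_left Q]
        rw [act_refl Q hQg0, hBg, hQg, hgdef] at h
        rw [e2]
        convert h using 2
        conv_rhs => arg 1; rw [e1]
        match_scalars <;> field_simp <;> ring
      obtain ⟨ρ, hρ0, hρ1, hρ2⟩ : ∃ ρ : F, ρ ≠ 0 ∧ 1 + ρ ≠ 0 ∧ 1 + ρ + ρ * ρ ≠ 0 := by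
        obtain ⟨g, h, hg0, hh0, hg, hh, hgh⟩ := exists_three_squares h7
        by_contra hno
        push Not at hno
        have hg1 : 1 + g ≠ 0 := fun e => hg (by rw [show g = -1 by linear_combination e]; ring)
        have hh1 : 1 + h ≠ 0 := fun e => hh (by rw [show h = -1 by linear_combination e]; ring)
        have hg1' : 1 + -g ≠ 0 := fun e => hg (by rw [show g = 1 by linear_combination -e]; ring)
        have e3 := hno g hg0 hg1
        have e4 := hno (-g) (neg_ne_zero.2 hg0) hg1'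
        have h2g : 2 * g = 0 := by linear_combination e3 - e4
        have h2 : (2 : F) = 0 := (mul_eq_zero.1 h2g).resolve_right hg0
        have e5 := hno h hh0 hh1
        have h6 : (g - h) * (1 + g + h) = 0 := by linear_combination e3 - e5
        rcases mul_eq_zero.1 h6 with h6 | h6
        · exact hgh (by rw [sub_eq_zero.1 h6])
        · -- a further element
          obtain ⟨z, -, hz⟩ := Finset.exists_mem_notMem_of_card_lt_card (s := ({0, 1, g, h} : Finset F))
            (t := Finset.univ) (by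
              have := Finset.card_le_four (a := (0 : F)) (b := 1) (c := g) (d := h)
              rw [Finset.card_univ]; omega)
          simp only [Finset.mem_insert, Finset.mem_singleton, not_or] at hz
          have e7 := hno z hz.1 (fun e => hz.2.1 (by linear_combination e - h2))
          have h8 : (g - z) * (1 + g + z) = 0 := by linear_combination e3 - e7
          rcases mul_eq_zero.1 h8 with h8 | h8
          · exact hz.2.2.1 (sub_eq_zero.1 h8).symm
          · exact hz.2.2.2 (by linear_combination h8 - h6)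
      have hm : ∀ X : F, X • s + (Q y₀ / X) • r ∈ D l := fun X => (D l).add_mem ((D l).smul_mem _ hs) ((D l).smul_mem _ hr)
      have h3 := hadd _ _ ((D l).add_mem (hm 1) (hm ρ)) (hm (-ρ / (1 + ρ)))
        (hadd _ _ (hm 1) (hm ρ) (horb 1 one_ne_zero) (horb ρ hρ0))
        (horb _ (div_ne_zero (neg_ne_zero.2 hρ0) hρ1))
      rw [show (1 : F) • s + (Q y₀ / 1) • r + (ρ • s + (Q y₀ / ρ) • r) +
          ((-ρ / (1 + ρ)) • s + (Q y₀ / (-ρ / (1 + ρ))) • r) = ((1 + ρ + ρ * ρ) / (1 + ρ)) • s by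
        match_scalars <;> field_simp <;> ring] at h3
      exact ⟨_, (D l).smul_mem _ hs, smul_ne_zero (div_ne_zero hρ2 hρ1) hs0, by rw [Q_smul Q, hQs, mul_zero], h3⟩
    obtain ⟨r, hr, hQr, hwr, hcoord⟩ := exists_plane_coords H.hQ (H.good l) hw hw0 hQw
    have turn : ∀ a b : ι → F, a ∈ D l → b ∈ D l → Q a = 0 → Q b = 0 → B a b = 1 → sg Q u a ∈ M →
        ∀ c : F, sg Q u (c • b) ∈ M := by
      intro a b ha hb hQa hQb hab haM c
      rcases eq_or_ne c 0 with rfl | hc
      · rw [zero_smul, sg_zero]; exact one_mem _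
      have hQg : Q ((-c⁻¹) • a + b) = -c⁻¹ := by
        rw [Q_add Q, Q_smul Q, B_smul_left Q, hQa, hQb, hab]; ring
      have h := hrefl a ha haM _ ((D l).add_mem ((D l).smul_mem _ ha) hb) (hQg.trans_ne (neg_ne_zero.2 (inv_ne_zero hc)))
      rw [act_refl Q (hQg.trans_ne (neg_ne_zero.2 (inv_ne_zero hc))), hQg, B_add_left Q, B_smul_left Q,
        B_self_of_singular Q hQa, B_comm Q b a, hab] at h
      convert h using 2
      match_scalars <;> field_simp <;> ring
    have hrline := turn w r hw hr hQw hQr hwr hwM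
    have hwline := turn r w hr hw hQr hQw ((B_comm Q r w).trans hwr) (by
      have := hrline 1; rwa [one_smul] at this)
    intro x hx
    rw [(hcoord x hx).1]
    exact hadd _ _ ((D l).smul_mem _ hw) ((D l).smul_mem _ hr) (hwline _) (hrline _)
  intro l' hl' x hx
  rcases eq_or_ne l l' with rfl | hne'
  · exact hblock x hx
  obtain ⟨g, hg, hmap, hgfix⟩ := exists_block_swap H.hD H.hQ H.n5 H.value hne'
  have hgI := omega_le_iso hg.2
  obtain ⟨fu, hfu, hue⟩ := exists_comps H.hD u
  have hgu : act g u = u := by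
    rw [hue, map_sum]
    refine Finset.sum_congr rfl fun k _ => ?_
    by_cases hk : k ∈ S
    · exact hgfix k (fun e => hl (e ▸ hk)) (fun e => hl' (e ▸ hk)) _ (hfu k)
    · have : fu k = 0 := block_nonDeg H.hD k _ (hfu k) fun z hz => by
        rw [B_comm Q, ← B_sum_comps H.hD hfu hz, ← hue, B_comm Q, huS k hk z hz]
      rw [this, map_zero]
  obtain ⟨z, hz, rfl⟩ := (hmap.ge hx : x ∈ (D l).map (act g))
  have h := mul_mem (mul_mem (hM hg) (hblock z hz)) (inv_mem (hM hg))
  rwa [conj_sg Q hgI, hgu] at h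

/-- A singular vector in two blocks inherits full outer parameters from a disjoint one. -/
theorem outFull_pair {u : ι → F} (hu0 : u ≠ 0) (hQu : Q u = 0) {S : Finset (Fin t)}
    (huS : ∀ l ∉ S, ∀ x ∈ D l, B u x = 0) (hout : OutFull Q D M u S) {l l' : Fin t} (hl : l ∉ S) (hl' : l' ∉ S)
    {a a' : ι → F} (ha : a ∈ D l) (ha' : a' ∈ D l') (hz : Q (a + a') = 0) :
    OutFull Q D M (a + a') {l, l'} := by
  classical
  have hua : B u a = 0 := huS l hl a ha
  have hua' : B u a' = 0 := huS l' hl' a' ha'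
  have huz : B u (a + a') = 0 := by rw [B_add_right Q, hua, hua', add_zero]
  have hzu : B (a + a') (-u) = 0 := by rw [B_neg_right Q, B_comm Q, huz, neg_zero]
  have hmem : sg Q (a + a') (-u) ∈ M := by
    rw [← sg_antisymm hQu hz huz, ← sg_add Q hQu hua hua']
    exact mul_mem (hout l hl a ha) (hout l' hl' a' ha')
  refine H.outFull hM hz (by have := H.five_le; have := Finset.card_le_two (a := l) (b := l'); omega)
    (fun n hn x hx => ?_) hzu hmem ?_
  · simp only [Finset.mem_insert, Finset.mem_singleton, not_or] at hn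
    rw [B_add_left Q, block_orth H.hD ha hx (Ne.symm hn.1), block_orth H.hD ha' hx (Ne.symm hn.2), add_zero]
  obtain ⟨f, hf, hfu⟩ := exists_comps H.hD u
  obtain ⟨n, hn⟩ : ∃ n, f n ≠ 0 := by
    by_contra hall
    push Not at hall
    exact hu0 (by rw [hfu, Finset.sum_eq_zero fun k _ => hall k])
  have hnS : n ∈ S := by
    by_contra hnS
    refine hn (block_nonDeg H.hD n _ (hf n) fun z hz => ?_)
    rw [B_comm Q, ← B_sum_comps H.hD hf hz, ← hfu, B_comm Q, huS n hnS z hz]
  obtain ⟨x, hx, hxn⟩ := H.comp_outside hf hfu hn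
  refine ⟨n, ?_, x, hx, by rwa [B_neg_right Q, neg_ne_zero]⟩
  simp only [Finset.mem_insert, Finset.mem_singleton, not_or]
  exact ⟨fun e => hl (e ▸ hnS), fun e => hl' (e ▸ hnS)⟩

/-- A singular vector in two blocks with full outer parameters has a full root group. -/
theorem full_of_outFull {l l' : Fin t} {a a' : ι → F} (ha : a ∈ D l) (ha' : a' ∈ D l') (hz : Q (a + a') = 0)
    (hz0 : a + a' ≠ 0) (hout : OutFull Q D M (a + a') {l, l'}) : Full Q M (a + a') := by
  classical
  have ht := H.five_le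
  obtain ⟨o, ho⟩ := H.exists_notMem ({l, l'} : Finset (Fin t)) (by
    have := Finset.card_le_two (a := l) (b := l'); omega)
  simp only [Finset.mem_insert, Finset.mem_singleton, not_or] at ho
  obtain ⟨o', ho'⟩ := H.exists_notMem ({l, l', o} : Finset (Fin t)) (by
    have := Finset.card_le_three (a := l) (b := l') (c := o); omega)
  simp only [Finset.mem_insert, Finset.mem_singleton, not_or] at ho'
  obtain ⟨b, hb, hQb⟩ := H.value o 1
  obtain ⟨b', hb', hQb'⟩ := H.value o' (-1)
  have hzS : ∀ n ∉ ({l, l'} : Finset (Fin t)), ∀ x ∈ D n, B (a + a') x = 0 := fun n hn x hx => by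
    simp only [Finset.mem_insert, Finset.mem_singleton, not_or] at hn
    rw [B_add_left Q, block_orth H.hD ha hx (Ne.symm hn.1), block_orth H.hD ha' hx (Ne.symm hn.2), add_zero]
  have hoS : o ∉ ({l, l'} : Finset (Fin t)) := by simp [ho]
  have hoS' : o' ∉ ({l, l'} : Finset (Fin t)) := by simp [ho'.1, ho'.2.1]
  have hw0 : Q (b + b') = 0 := by rw [Q_add Q, hQb, hQb', block_orth H.hD hb hb' (Ne.symm ho'.2.2)]; ring
  have hout' := H.outFull_pair hM hz0 hz hzS hout hoS hoS' hb hb' hw0
  have hb0 : b ≠ 0 := fun e => by rw [e, map_zero] at hQb; exact zero_ne_one hQb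
  obtain ⟨y, hy, hby⟩ := (H.good o).exists_dual H.hQ hb hb0
  intro w hw
  obtain ⟨g, hg, hgw⟩ := exists_comps H.hD w
  set w₁ := g l + if l' = l then 0 else g l' with hw₁
  have hBw₁ : B (a + a') w₁ = 0 := by
    rw [hgw, B_add_left Q, B_sum_comps H.hD hg ha, B_sum_comps H.hD hg ha'] at hw
    rw [hw₁]
    by_cases hll : l' = l
    · subst hll
      rw [if_pos rfl, add_zero, B_add_left Q]
      exact hw
    · rw [if_neg hll, B_add_left Q, B_add_right Q, B_add_right Q, block_orth H.hD ha (hg l') (Ne.symm hll),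
        block_orth H.hD ha' (hg l) hll]
      linear_combination hw
  have hw₁out : ∀ x ∈ D o ⊔ D o', B w₁ x = 0 := by
    intro x hx
    obtain ⟨p, hp, q, hq, rfl⟩ := Submodule.mem_sup.1 hx
    rw [hw₁]
    split_ifs
    · rw [add_zero, B_add_right Q, block_orth H.hD (hg l) hp (Ne.symm ho.1), block_orth H.hD (hg l) hq (Ne.symm ho'.1),
        add_zero]
    · rw [B_add_left Q, B_add_right Q, B_add_right Q, block_orth H.hD (hg l) hp (Ne.symm ho.1),
        block_orth H.hD (hg l) hq (Ne.symm ho'.1), block_orth H.hD (hg l') hp (Ne.symm ho.2),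
        block_orth H.hD (hg l') hq (Ne.symm ho'.2.1), add_zero, add_zero]
  have hzb : B (b + b') w₁ = 0 := (B_comm Q _ _).trans (hw₁out _ (Submodule.add_mem_sup hb hb'))
  have hzz : B (b + b') (a + a') = 0 := by
    rw [B_comm Q, B_add_right Q, hzS o hoS b hb, hzS o' hoS' b' hb', add_zero]
  have hlS : l ∉ ({o, o'} : Finset (Fin t)) := by simp [Ne.symm ho.1, Ne.symm ho'.1]
  have hlS' : l' ∉ ({o, o'} : Finset (Fin t)) := by simp [Ne.symm ho.2, Ne.symm ho'.2.1]
  have hperp : ∀ x, x ∈ D l ∨ x ∈ D l' → B (b + b') x = 0 := by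
    rintro x (hx | hx)
    · rw [B_add_left Q, block_orth H.hD hb hx ho.1, block_orth H.hD hb' hx ho'.1, add_zero]
    · rw [B_add_left Q, block_orth H.hD hb hx ho.2, block_orth H.hD hb' hx ho'.2.1, add_zero]
  have hmove : sg Q (b + b') w₁ ∈ M := by
    rw [hw₁]
    split_ifs
    · rw [add_zero]; exact hout' l hlS _ (hg l)
    · rw [← sg_add Q hw0 (hperp _ (Or.inl (hg l))) (hperp _ (Or.inr (hg l')))]
      exact mul_mem (hout' l hlS _ (hg l)) (hout' l' hlS' _ (hg l'))
  have hw₁M : sg Q (a + a') w₁ ∈ M := by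
    have hzy : B (b + b') y = 1 := by rw [B_add_left Q, hby, block_orth H.hD hb' hy ho'.2.2, add_zero]
    have hd := sg_diff_mem (sg_mem_iso Q (b + b') w₁) hmove hz (hzS o hoS y hy) (hout o hoS y hy)
      (act_sg_fix Q hw0 hzb hzz ((B_comm Q w₁ _).trans hBw₁))
    rw [act_sg Q hw0 hzb, hzy, B_comm Q w₁ y, (B_comm Q y w₁).trans (hw₁out y (Submodule.mem_sup_left hy))] at hd
    have hκ : sg Q (a + a') ((Q w₁) • (b + b')) ∈ M := by
      rw [smul_add, ← sg_add Q hz (hzS o hoS _ ((D o).smul_mem _ hb)) (hzS o' hoS' _ ((D o').smul_mem _ hb'))]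
      exact mul_mem (hout o hoS _ ((D o).smul_mem _ hb)) (hout o' hoS' _ ((D o').smul_mem _ hb'))
    have hzκ : B (a + a') ((Q w₁) • (b + b')) = 0 := by rw [B_smul_right Q, B_comm Q, hzz, mul_zero]
    have := mul_mem hd.2 hκ
    rw [sg_add Q hz hd.1 hzκ] at this
    convert this using 2
    module
  have hrest : ∀ s : Finset (Fin t), sg Q (a + a') (∑ n ∈ s, if n = l ∨ n = l' then 0 else g n) ∈ M ∧
      B (a + a') (∑ n ∈ s, if n = l ∨ n = l' then 0 else g n) = 0 := by
    intro s
    induction s using Finset.induction with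
    | empty => simp [sg_zero, B_zero_right]
    | @insert n s hns ih =>
      rw [Finset.sum_insert hns]
      have hn : sg Q (a + a') (if n = l ∨ n = l' then 0 else g n) ∈ M ∧
          B (a + a') (if n = l ∨ n = l' then 0 else g n) = 0 := by
        split_ifs with h
        · exact ⟨by rw [sg_zero]; exact one_mem _, B_zero_right Q _⟩
        · push Not at h
          exact ⟨hout n (by simp [h]) _ (hg n), hzS n (by simp [h]) _ (hg n)⟩
      refine ⟨?_, by rw [B_add_right Q, hn.2, ih.2, add_zero]⟩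
      rw [← sg_add Q hz hn.2 ih.2]
      exact mul_mem hn.1 ih.1
  have hwe : w = w₁ + ∑ n, if n = l ∨ n = l' then 0 else g n := by
    have hsum : ∑ n, (if n = l ∨ n = l' then g n else 0) = w₁ := by
      rw [← Finset.sum_filter, show (Finset.univ.filter fun n => n = l ∨ n = l') = ({l, l'} : Finset (Fin t)) by
        ext n; simp, hw₁]
      split_ifs with h
      · subst h; simp
      · rw [Finset.sum_pair (Ne.symm h)]
    rw [← hsum, ← Finset.sum_add_distrib, hgw]
    refine Finset.sum_congr rfl fun n _ => ?_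
    split_ifs <;> simp
  rw [hwe, ← sg_add Q hz hBw₁ (hrest _).2]
  exact mul_mem hw₁M (hrest _).1

/-- A seed gives the whole derived group. -/
theorem omega_le_of_seed (hseed : SeedIn Q D M) : Cfsg.Geo.omegaGL Q ≤ M := by
  classical
  obtain ⟨u, hu0, hQu, S, hS, huS, y, huy, hy, hout⟩ := hseed
  have hu := H.outFull hM hQu hS huS huy hy hout
  obtain ⟨l, hl⟩ := H.exists_notMem S (by omega)
  obtain ⟨l', hl'⟩ := H.exists_notMem (insert l S) (by have := Finset.card_insert_le l S; omega)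
  simp only [Finset.mem_insert, not_or] at hl'
  obtain ⟨a, ha, hQa⟩ := H.value l 1
  obtain ⟨a', ha', hQa'⟩ := H.value l' (-1)
  have hQa0 : Q a ≠ 0 := hQa.trans_ne one_ne_zero
  obtain ⟨a₂, ha₂, hQa₂, hB⟩ : ∃ a₂ ∈ D l, Q a₂ = 1 ∧ B a a₂ - 2 ≠ 0 := by
    by_cases h2 : (2 : F) = 0
    · obtain ⟨a₂, ha₂, hQa₂, hB, -⟩ := (H.good l).exists_same H.hQ ha hQa0
      exact ⟨a₂, ha₂, hQa₂.trans hQa, by rwa [h2, sub_zero]⟩
    · refine ⟨-a, (D l).neg_mem ha, by rw [Q_neg Q, hQa], ?_⟩
      rw [B_neg_right Q, B_self Q, hQa]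
      intro e
      exact mul_ne_zero h2 h2 (by linear_combination -e)
  have horth : ∀ x ∈ D l, B x a' = 0 := fun x hx => block_orth H.hD hx ha' (Ne.symm hl'.1)
  have hz₁ : Q (a + a') = 0 := by rw [Q_add Q, hQa, hQa', horth a ha]; ring
  have hz₂ : Q (a₂ + a') = 0 := by rw [Q_add Q, hQa₂, hQa', horth a₂ ha₂]; ring
  have hB12 : B (a + a') (a₂ + a') ≠ 0 := by
    rw [B_add_left Q, B_add_right Q, B_add_right Q, horth a ha, B_comm Q a' a₂, horth a₂ ha₂, B_self Q a', hQa']
    intro e
    exact hB (by linear_combination e)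
  have h01 : a + a' ≠ 0 := fun e => hB12 (by rw [e, B_zero_left Q])
  have h02 : a₂ + a' ≠ 0 := fun e => hB12 (by rw [e, B_zero_right Q])
  exact omega_le_of_full H.hQ H.n5 hz₁ hz₂ hB12
    (H.full_of_outFull hM ha ha' hz₁ h01 (H.outFull_pair hM hu0 hQu huS hu hl hl'.2 ha ha' hz₁))
    (H.full_of_outFull hM ha₂ ha' hz₂ h02 (H.outFull_pair hM hu0 hQu huS hu hl hl'.2 ha₂ ha' hz₂))

omit hM in
/-- The stabiliser of a decomposition into planes is maximal in `omegaGL`. -/
theorem maximal : Cfsg.Geo.IsMaximalIn (Cfsg.Geo.omegaGL Q)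
    (Cfsg.Geo.decompositionStabilizer D ⊓ Cfsg.Geo.omegaGL Q) := by
  have ht := H.five_le
  refine isMaximalIn_inf ?_ fun M hM hMΩ hout => ?_
  · obtain ⟨x₀, hx₀, hQx₀⟩ := H.value ⟨0, by omega⟩ 1
    obtain ⟨g, hg, hgn⟩ := exists_move_out H.hD H.hQ (le_trans (by norm_num) H.hn) (by norm_num) one_ne_zero hx₀ hQx₀
    refine ⟨g, hg, fun ⟨σ, hσ⟩ => hgn (mem_stabilizing_of_forward fun x hx => ?_)⟩
    obtain ⟨i, hx, hQx⟩ := hx
    exact ⟨σ i, (hσ i).le ⟨x, hx, rfl⟩, by rw [Q_act (omega_le_iso hg), hQx]⟩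
  obtain ⟨g, hg, hgS⟩ := hout
  refine H.omega_le_of_seed hM ?_
  rcases H.mixed_or_seed hM hMΩ hg hgS with h | h
  · exact H.seed hM h
  · exact h

end PlaneBlocks

end Cfsg.Agent.MaxCl.Orth
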