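/-
Stabilisers of orthogonal decompositions of even-dimensional spaces: reduction to blocks of dimension two or at
least three.
-/
import Cfsg.Agent.Lib.MaxCl.OrthPlaneMax
import Cfsg.Agent.Lib.MaxCl.OrthBlocksTransfer

set_option autoImplicit false

namespace Cfsg.Agent.MaxCl.Orth

open scoped MatrixGroups Matrix
open Module (finrank)

variable {ι : Type} [Fintype ι] [DecidableEq ι] {F : Type*} [Field F] {Q : QuadraticForm F (ι → F)}

set_option quotPrecheck false in
local notation "B" => QuadraticMap.polar (⇑Q)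

variable {t k : ℕ} {D : Fin t → Submodule F (ι → F)}

/-- If one member is of plus type then all are. -/
theorem plus_of_plus (hD : Cfsg.Geo.IsOrthogonalMDecomposition Q k D) {i : Fin t}
    (h : Cfsg.Geo.IsPlusTypeOn Q (D i)) (j : Fin t) : Cfsg.Geo.IsPlusTypeOn Q (D j) := by
  obtain ⟨U, hUW, hU, hUd⟩ := h
  obtain ⟨φ, hφ⟩ := hD.isometric i j
  let f : U →ₗ[F] (ι → F) := (D j).subtype ∘ₗ φ.toLinearMap ∘ₗ Submodule.inclusion hUW
  have hinj : Function.Injective f :=
    ((D j).subtype_injective.comp φ.injective).comp (Submodule.inclusion_injective hUW)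
  refine ⟨LinearMap.range f, ?_, ?_, ?_⟩
  · rintro _ ⟨x, rfl⟩; exact (φ (Submodule.inclusion hUW x)).2
  · rintro _ ⟨x, rfl⟩; exact (hφ _).trans (hU x x.2)
  · rw [LinearMap.finrank_range_of_inj hinj, hUd, hD.decomp.decomp.finrank_eq, hD.decomp.decomp.finrank_eq]

/-- A plane with a non-zero singular vector is of plus type. -/
theorem plus_of_singular (hD : Cfsg.Geo.IsOrthogonalMDecomposition Q 2 D) {i : Fin t} {s : ι → F} (hs : s ∈ D i)
    (hs0 : s ≠ 0) (hQs : Q s = 0) : Cfsg.Geo.IsPlusTypeOn Q (D i) := by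
  refine ⟨F ∙ s, (Submodule.span_singleton_le_iff_mem _ _).2 hs, fun x hx => ?_, ?_⟩
  · obtain ⟨a, rfl⟩ := Submodule.mem_span_singleton.1 hx
    rw [Q_smul Q, hQs, mul_zero]
  · rw [finrank_span_singleton hs0, hD.decomp.decomp.finrank_eq]

/-- The stabiliser of a decomposition into blocks of dimension at least two is maximal, outside small cases. -/
theorem decomposition_maximal [Fintype F] (hD : Cfsg.Geo.IsOrthogonalMDecomposition Q k D)
    (hQ : (QuadraticMap.polarBilin Q).Nondegenerate) (hn : 13 ≤ Fintype.card ι) (hk : 2 ≤ k)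
    (hodd : Odd k → Odd (Fintype.card F)) (h23 : (k = 2 ∨ k = 3) → Fintype.card F ≠ 3)
    (hsmall : k = 2 → (∀ i, Cfsg.Geo.IsPlusTypeOn Q (D i)) →
      Fintype.card F ≠ 2 ∧ Fintype.card F ≠ 4 ∧ Fintype.card F ≠ 5)
    (h4 : k = 4 → Fintype.card F = 2 → ¬ ∀ i, Cfsg.Geo.IsPlusTypeOn Q (D i)) :
    Cfsg.Geo.IsMaximalIn (Cfsg.Geo.omegaGL Q) (Cfsg.Geo.decompositionStabilizer D ⊓ Cfsg.Geo.omegaGL Q) := by
  have h1 := Fintype.one_lt_card (α := F)
  rcases eq_or_lt_of_le hk with rfl | hk3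
  · refine PlaneBlocks.maximal ⟨hD, hQ, le_trans (by norm_num) hn, h23 (Or.inl rfl), fun i s hs hs0 hQs => ?_⟩
    obtain ⟨e2, e4, e5⟩ := hsmall rfl (plus_of_plus hD (plus_of_singular hD hs hs0 hQs))
    have e3 := h23 (Or.inl rfl)
    have e6 : Fintype.card F ≠ 6 := fun h => by
      have := Fintype.isPrimePow_card_of_field (α := F)
      rw [h, isPrimePow_nat_iff] at this
      obtain ⟨p, j, hp, -, hpj⟩ := this
      have d2 : p ∣ 2 ∨ p ∣ 3 := hp.dvd_mul.1 ⟨p ^ (j - 1), by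
        rw [← pow_succ', Nat.sub_add_cancel (Nat.one_le_iff_ne_zero.2 fun e => by rw [e] at hpj; simp at hpj), hpj]⟩
      rcases d2 with d | d
      · rw [(Nat.prime_dvd_prime_iff_eq hp Nat.prime_two).1 d] at hpj
        have : 3 ∣ 2 ^ j := hpj ▸ ⟨2, rfl⟩
        exact absurd (Nat.prime_three.dvd_of_dvd_pow this) (by norm_num)
      · rw [(Nat.prime_dvd_prime_iff_eq hp Nat.prime_three).1 d] at hpj
        have : 2 ∣ 3 ^ j := hpj ▸ ⟨3, rfl⟩
        exact absurd (Nat.prime_two.dvd_of_dvd_pow this) (by norm_num)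
    omega
  refine BigBlocks.maximal ⟨hD, hQ, by omega, hk3, fun e => ?_, fun e hq i hplus => h4 e hq (plus_of_plus hD hplus)⟩
  have ho := Nat.odd_iff.1 (hodd (e ▸ ⟨1, rfl⟩))
  refine ⟨Ring.two_ne_zero fun hc => ?_, ?_⟩
  · have := FiniteField.even_card_iff_char_two.1 hc
    omega
  · have := h23 (Or.inr e)
    omega

end Cfsg.Agent.MaxCl.Orth
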