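/-
Orthogonal decompositions into tiny blocks: their stabilisers in `omegaGL` are not maximal.
-/
import Cfsg.Agent.Lib.MaxCl.OrthBetween
import Cfsg.Agent.Lib.LinRep.JordanType

set_option autoImplicit false

namespace Cfsg.Agent.MaxCl.Orth

open scoped MatrixGroups Matrix
open Module (finrank)

variable {ι : Type} [Fintype ι] [DecidableEq ι] {F : Type*} [Field F] {Q : QuadraticForm F (ι → F)}

set_option quotPrecheck false in
local notation "B" => QuadraticMap.polar (⇑Q)

variable {t k : ℕ} {D : Fin t → Submodule F (ι → F)}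

section Decomposition

variable (hD : Cfsg.Geo.IsOrthogonalMDecomposition Q k D)
include hD

theorem block_index_eq {x : ι → F} {i j : Fin t} (hi : x ∈ D i) (hj : x ∈ D j) (hx : x ≠ 0) : i = j := by
  by_contra h
  exact hx ((Submodule.disjoint_def.1
    ((hD.decomp.decomp.indep i).mono_right (le_iSup₂_of_le j (fun e => h e.symm) le_rfl))) x hi hj)

theorem block_orth {x y : ι → F} {i j : Fin t} (hi : x ∈ D i) (hj : y ∈ D j) (h : i ≠ j) : B x y = 0 :=
  hD.decomp.orthogonal i j h x hi y hj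

theorem block_nonDeg (i : Fin t) : NonDeg Q (D i) :=
  nonDeg_of_isNondegenerateOn (hD.decomp.nondegenerate i)

theorem card_eq_mul : Fintype.card ι = t * k := by
  have h := LinRep.JordanType.finrank_iSup_indep hD.decomp.decomp.indep
  rw [hD.decomp.decomp.iSup_eq_top, finrank_top, Module.finrank_pi] at h
  simp [h, hD.decomp.decomp.finrank_eq]

theorem block_orth_perp {x : ι → F} {i j : Fin t} (hi : x ∈ D i) (h : j ≠ i) : x ∈ perp Q (D j) :=
  fun _ hw => block_orth hD hw hi h

/-- A basis of the first block is transported to all blocks by the isometries. -/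
theorem transport_basis {κ : Type*} [Fintype κ] {i₀ : Fin t} (e₀ : κ → ι → F) (h0 : ∀ j, e₀ j ∈ D i₀)
    (hspan : ∀ x ∈ D i₀, ∃ α : κ → F, ∑ j, α j • e₀ j = x) :
    ∃ e : Fin t → κ → ι → F, (∀ i j, e i j ∈ D i) ∧ (∀ i j, Q (e i j) = Q (e₀ j)) ∧
      (∀ i j l, B (e i j) (e i l) = B (e₀ j) (e₀ l)) ∧
      ∀ i, ∀ x ∈ D i, ∃ α : κ → F, ∑ j, α j • e i j = x := by
  choose φ hφ using fun i => hD.isometric i₀ i
  refine ⟨fun i j => (φ i ⟨e₀ j, h0 j⟩ : ι → F), fun i j => Submodule.coe_mem _, fun i j => hφ i _,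
    fun i j l => ?_, fun i x hx => ?_⟩
  · show B ((φ i ⟨e₀ j, h0 j⟩ : D i) : ι → F) ((φ i ⟨e₀ l, h0 l⟩ : D i) : ι → F) = _
    have h : Q ((φ i ⟨e₀ j, h0 j⟩ : ι → F) + (φ i ⟨e₀ l, h0 l⟩ : ι → F)) = Q (e₀ j + e₀ l) := by
      rw [← Submodule.coe_add, ← map_add]; exact hφ i _
    rw [Q_add Q, Q_add Q, hφ, hφ] at h
    linear_combination h
  · obtain ⟨α, hα⟩ := hspan _ ((φ i).symm ⟨x, hx⟩).2
    refine ⟨α, ?_⟩
    have h : ∑ j, α j • (⟨e₀ j, h0 j⟩ : D i₀) = (φ i).symm ⟨x, hx⟩ := Subtype.ext (by simpa using hα)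
    have h' := congrArg (fun y => (φ i y : ι → F)) h
    simp only [map_sum, map_smul, LinearEquiv.apply_symm_apply, Submodule.coe_sum, Submodule.coe_smul] at h'
    exact h'

variable [Fintype F] (hQ : (QuadraticMap.polarBilin Q).Nondegenerate) (hn : 9 ≤ Fintype.card ι) (hk : k ≤ 4)
include hQ hn hk

/-- An element of the derived group moving a vector of value `c` out of all the blocks. -/
theorem exists_move_out {c : F} (hc : c ≠ 0) {i : Fin t} {x₀ : ι → F} (hx₀ : x₀ ∈ D i) (hQx₀ : Q x₀ = c) :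
    ∃ g ∈ Cfsg.Geo.omegaGL Q, g ∉ Cfsg.stabilizing (glToMat ι F) {x | ∃ i, x ∈ D i ∧ Q x = c} := by
  obtain ⟨u, hu, hu0, hQu⟩ := exists_singular Q (D := perp Q (D i)) (by
    rw [finrank_perp hQ, hD.decomp.decomp.finrank_eq]; omega)
  have hy : Q x₀ = Q (x₀ + u) := by rw [Q_add Q, hQu, orth hu hx₀, add_zero, add_zero]
  obtain ⟨g, hg, hgx⟩ := exists_move_value hQ (by omega) hy (by rw [hQx₀]; exact hc)
  refine ⟨g, by rw [omega_eq_sgGroup hQ (by omega)]; exact hg, fun h => ?_⟩
  obtain ⟨j, hj, -⟩ := (mem_stabilizing_iff.1 h x₀).1 ⟨i, hx₀, hQx₀⟩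
  rw [hgx] at hj
  have hx0 : x₀ ≠ 0 := fun e => hc (by rw [← hQx₀, e, map_zero])
  rcases eq_or_ne j i with rfl | hji
  · exact hu0 ((Submodule.eq_bot_iff _).1 (inf_perp (block_nonDeg hD j)) u
      ⟨by simpa using (D j).sub_mem hj hx₀, hu⟩)
  · obtain ⟨z, hz, -, hz1⟩ := exists_one_in hQ (block_nonDeg hD i) (P := ⊥) bot_le hx₀ (by simpa using hx0)
    have := block_orth hD hz hj hji.symm
    rw [B_add_right Q, orth hu hz, B_comm Q z x₀, hz1, add_zero] at this
    exact one_ne_zero this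

/-- Blocks with an orthogonal basis whose vectors of a given value are the only ones up to scalars. -/
theorem frame_between (hk2 : 2 ≤ k) (h2 : (2 : F) ≠ 0) (e : Fin t → Fin k → ι → F) (ν : Fin k → F)
    (hν : ∀ j, ν j ≠ 0) (hmem : ∀ i j, e i j ∈ D i) (hQe : ∀ i j, Q (e i j) = ν j)
    (horth : ∀ i j l, j ≠ l → B (e i j) (e i l) = 0)
    (hspan : ∀ i, ∀ x ∈ D i, ∃ α : Fin k → F, ∑ j, α j • e i j = x) (j₀ : Fin k)
    (hcond : ∀ α : Fin k → F, ∑ j, α j * α j * ν j = ν j₀ → ∃ j, ∀ l, l ≠ j → α l = 0) :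
    ∃ K : Subgroup (GL ι F),
      Cfsg.Geo.decompositionStabilizer D ⊓ Cfsg.Geo.omegaGL Q < K ∧ K < Cfsg.Geo.omegaGL Q := by
  have hcard := card_eq_mul hD
  have ht : 3 ≤ t := by
    by_contra h
    have : t * k ≤ 2 * 4 := Nat.mul_le_mul (by omega) hk
    omega
  set c := ν j₀
  set i₀ : Fin t := ⟨0, by omega⟩
  set i₁ : Fin t := ⟨1, by omega⟩
  set i₂ : Fin t := ⟨2, by omega⟩
  obtain ⟨j₁, hj₁⟩ : ∃ j₁ : Fin k, j₁ ≠ j₀ := by
    by_cases h : (j₀ : ℕ) = 0
    · exact ⟨⟨1, by omega⟩, fun e => by rw [← e] at h; simp at h⟩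
    · exact ⟨⟨0, by omega⟩, fun e => h (by rw [← e])⟩
  refine exists_between (S := Cfsg.stabilizing (glToMat ι F) {x | ∃ i, x ∈ D i ∧ Q x = c})
    (fun g hg hgΩ => ?_) ?_ (exists_move_out hD hQ hn hk (hν j₀) (hmem i₀ j₀) (hQe i₀ j₀))
  · obtain ⟨σ, hσ⟩ := hg
    refine mem_stabilizing_of_forward fun x ⟨i, hx, hQx⟩ => ⟨σ i, ?_, by rw [Q_act (omega_le_iso hgΩ), hQx]⟩
    exact (hσ i).le ⟨x, hx, rfl⟩
  set a := e i₀ j₀
  set b := e i₁ j₀
  set d := e i₂ j₀
  have hab : B a b = 0 := block_orth hD (hmem _ _) (hmem _ _) (by simp [i₀, i₁])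
  have had : B a d = 0 := block_orth hD (hmem _ _) (hmem _ _) (by simp [i₀, i₂])
  have hbd : B b d = 0 := block_orth hD (hmem _ _) (hmem _ _) (by simp [i₁, i₂])
  have h1 : Q (a - b) = 2 * c := by rw [Q_sub Q, hQe, hQe, hab]; ring
  have h2' : Q (b - d) = 2 * c := by rw [Q_sub Q, hQe, hQe, hbd]; ring
  have hne : (2 : F) * c ≠ 0 := mul_ne_zero h2 (hν j₀)
  have n1 : Q (a - b) ≠ 0 := h1.symm ▸ hne
  have n2 : Q (b - d) ≠ 0 := h2'.symm ▸ hne
  set P := refl Q (a - b) * refl Q (b - d) with hP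
  have hPI : P ∈ isometryGroup F Q := mul_mem (refl_mem_iso Q _) (refl_mem_iso Q _)
  have r1a : act (refl Q (a - b)) a = b := by
    rw [act_refl Q n1, h1, B_sub_left Q, B_comm Q b a, hab, B_self Q, hQe]
    change a - ((2 * c)⁻¹ * (2 * c - 0)) • (a - b) = b
    rw [sub_zero, inv_mul_cancel₀ hne]
    simp
  have r1b : act (refl Q (a - b)) b = a := by
    rw [act_refl Q n1, h1, B_sub_left Q, hab, B_self Q, hQe]
    change b - ((2 * c)⁻¹ * (0 - 2 * c)) • (a - b) = a
    rw [zero_sub, mul_neg, inv_mul_cancel₀ hne]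
    simp
  have r1d : act (refl Q (a - b)) d = d := act_refl_fix Q n1 (by rw [B_sub_left Q, had, hbd, sub_zero])
  have r2b : act (refl Q (b - d)) b = d := by
    rw [act_refl Q n2, h2', B_sub_left Q, B_comm Q d b, hbd, B_self Q, hQe]
    change b - ((2 * c)⁻¹ * (2 * c - 0)) • (b - d) = d
    rw [sub_zero, inv_mul_cancel₀ hne]
    simp
  have r2d : act (refl Q (b - d)) d = b := by
    rw [act_refl Q n2, h2', B_sub_left Q, hbd, B_self Q, hQe]
    change d - ((2 * c)⁻¹ * (0 - 2 * c)) • (b - d) = b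
    rw [zero_sub, mul_neg, inv_mul_cancel₀ hne]
    simp
  have r2a : act (refl Q (b - d)) a = a :=
    act_refl_fix Q n2 (by rw [B_sub_left Q, B_comm Q b a, B_comm Q d a, hab, had, sub_zero])
  have Pa : act P a = b := by rw [hP, act_mul, r2a, r1a]
  have Pb : act P b = d := by rw [hP, act_mul, r2b, r1d]
  have Pd : act P d = a := by rw [hP, act_mul, r2d, r1b]
  have hfix : ∀ i l, (l ≠ j₀ ∨ (i ≠ i₀ ∧ i ≠ i₁ ∧ i ≠ i₂)) → act P (e i l) = e i l := by
    intro i l h
    have z : ∀ i', (i' = i₀ ∨ i' = i₁ ∨ i' = i₂) → B (e i' j₀) (e i l) = 0 := by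
      intro i' hi'
      rcases eq_or_ne i' i with rfl | hne'
      · refine horth i' j₀ l fun e' => ?_
        rcases h with h | h
        · exact h e'.symm
        · rcases hi' with e | e | e <;> simp [e] at h
      · exact block_orth hD (hmem _ _) (hmem _ _) hne'
    rw [hP, act_mul, act_refl_fix Q n2 (by rw [B_sub_left Q, z i₁ (by simp), z i₂ (by simp), sub_zero]),
      act_refl_fix Q n1 (by rw [B_sub_left Q, z i₀ (by simp), z i₁ (by simp), sub_zero])]
  refine ⟨P, by rw [omega_eq_sgGroup hQ (by omega)]; exact refl_mul_refl_mem hQ (by omega) (by rw [h1, h2']),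
    mem_stabilizing_of_forward ?_, ?_⟩
  · rintro x ⟨i, hx, hQx⟩
    refine Exists.elim ?_ fun i' hi' => ⟨i', hi', by rw [Q_act hPI, hQx]⟩
    obtain ⟨α, rfl⟩ := hspan i x hx
    have hsum : ∑ j, α j * α j * ν j = c := by
      have h : B (∑ j, α j • e i j) (∑ j, α j • e i j) = 2 * ∑ j, α j * α j * ν j := by
        rw [← QuadraticMap.polarBilin_apply_apply, map_sum]
        simp only [LinearMap.sum_apply, map_sum, map_smul, LinearMap.smul_apply, smul_eq_mul,
          QuadraticMap.polarBilin_apply_apply]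
        rw [Finset.mul_sum]
        refine Finset.sum_congr rfl fun j _ => ?_
        rw [Finset.sum_eq_single j]
        · rw [B_self Q, hQe]; ring
        · intro l _ hl; rw [horth i l j hl]; ring
        · simp
      rw [B_self Q, hQx] at h
      exact (mul_left_cancel₀ h2 h).symm
    obtain ⟨j, hj⟩ := hcond α hsum
    have hx' : ∑ l, α l • e i l = α j • e i j :=
      Finset.sum_eq_single j (fun l _ hl => by rw [hj l hl, zero_smul]) (by simp)
    rw [hx', map_smul]
    by_cases hcase : j ≠ j₀ ∨ (i ≠ i₀ ∧ i ≠ i₁ ∧ i ≠ i₂)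
    · rw [hfix i j hcase]
      exact ⟨i, (D i).smul_mem _ (hmem i j)⟩
    · push Not at hcase
      obtain ⟨rfl, hi⟩ := hcase
      by_cases h0 : i = i₀
      · subst h0; exact ⟨i₁, by rw [Pa]; exact (D i₁).smul_mem _ (hmem _ _)⟩
      by_cases h1 : i = i₁
      · subst h1; exact ⟨i₂, by rw [Pb]; exact (D i₂).smul_mem _ (hmem _ _)⟩
      obtain rfl := hi h0 h1
      exact ⟨i₀, by rw [Pd]; exact (D i₀).smul_mem _ (hmem _ _)⟩
  · rintro ⟨σ, hσ⟩
    have e1 : σ i₀ = i₁ := block_index_eq hD ((hσ i₀).le ⟨a, hmem _ _, Pa⟩ : e i₁ j₀ ∈ D (σ i₀)) (hmem i₁ j₀)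
      (fun e' => hν j₀ (by rw [← hQe i₁ j₀, show e i₁ j₀ = 0 from e', map_zero]))
    have e2 : σ i₀ = i₀ := block_index_eq hD
      (by rw [← hfix i₀ j₁ (Or.inl hj₁)]; exact (hσ i₀).le ⟨_, hmem _ _, rfl⟩) (hmem i₀ j₁)
      (fun e' => hν j₁ (by rw [← hQe i₀ j₁, e', map_zero]))
    rw [e2] at e1
    simp [i₀, i₁] at e1

/-- Plus-type planes in characteristic two whose vectors of value one generate a small additive group. -/
theorem small_plane_between (hk' : k = 2) (h2 : (2 : F) = 0) (hplus : ∀ i, Cfsg.Geo.IsPlusTypeOn Q (D i))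
    (A : AddSubgroup F) (hA : A ≠ ⊤)
    (hA01 : ∀ a ∈ A, a = 0 ∨ a = 1) (hval : ∀ r : F, r ≠ 0 → r + r⁻¹ ∈ A) :
    ∃ K : Subgroup (GL ι F),
      Cfsg.Geo.decompositionStabilizer D ⊓ Cfsg.Geo.omegaGL Q < K ∧ K < Cfsg.Geo.omegaGL Q := by
  subst hk'
  have hcard := card_eq_mul hD
  -- hyperbolic bases of the blocks
  have hbase : ∀ i, ∃ s t : ι → F, s ∈ D i ∧ t ∈ D i ∧ Q s = 0 ∧ Q t = 0 ∧ B s t = 1 ∧
      ∀ x ∈ D i, x = B t x • s + B s x • t := by
    intro i
    obtain ⟨U, hUW, hU, hUd⟩ := hplus i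
    rw [hD.decomp.decomp.finrank_eq] at hUd
    obtain ⟨s, hsU, hs0⟩ := Submodule.exists_mem_ne_zero_of_ne_bot (p := U) (fun e => by
      rw [e, finrank_bot] at hUd; omega)
    obtain ⟨z, hz, -, hsz⟩ := exists_one_in hQ (block_nonDeg hD i) (P := ⊥) bot_le (hUW hsU) (by simpa using hs0)
    obtain ⟨t', ht, hQt, hst⟩ := exists_partner Q (hU s hsU) (hUW hsU) hz (by rw [hsz]; exact one_ne_zero)
    refine ⟨s, t', hUW hsU, ht, hU s hsU, hQt, hst, fun x hx => ?_⟩
    have hli : LinearIndependent F ![s, t'] := by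
      refine LinearIndependent.pair_iff.2 fun p r hpr => ?_
      have e1 := congrArg (B s) hpr
      have e2 := congrArg (B t') hpr
      simp only [B_add_right Q, B_smul_right Q, B_self_of_singular Q (hU s hsU), B_self_of_singular Q hQt,
        B_comm Q t' s, hst, B_zero_right Q, mul_zero, mul_one, zero_add, add_zero] at e1 e2
      exact ⟨e2, e1⟩
    have hsp : Submodule.span F (Set.range ![s, t']) = D i := by
      refine Submodule.eq_of_le_of_finrank_le (Submodule.span_le.2 ?_) ?_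
      · rintro _ ⟨j, rfl⟩; fin_cases j <;> [exact hUW hsU; exact ht]
      · rw [finrank_span_eq_card hli, Fintype.card_fin, hD.decomp.decomp.finrank_eq]
    obtain ⟨p, r, rfl⟩ := mem_span_pair_iff_range.1 (hsp.ge hx : x ∈ Submodule.span F (Set.range ![s, t']))
    simp only [B_add_right Q, B_smul_right Q, B_self_of_singular Q (hU s hsU), B_self_of_singular Q hQt,
      B_comm Q t' s, hst, mul_zero, mul_one, zero_add, add_zero]
  choose s t' hs ht hQs hQt hst hxe using hbase
  obtain ⟨a, had⟩ : ∃ a : Fin t → ι → F, ∀ i, a i = s i + t' i := ⟨_, fun _ => rfl⟩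
  have ha : ∀ i, a i ∈ D i := fun i => by rw [had]; exact (D i).add_mem (hs i) (ht i)
  have hQa : ∀ i, Q (a i) = 1 := fun i => by rw [had, Q_add Q, hQs, hQt, hst]; ring
  have has : ∀ i, B (a i) (s i) = 1 := fun i => by
    rw [had, B_add_left Q, B_self_of_singular Q (hQs _), B_comm Q (t' i) (s i), hst, zero_add]
  have hsa : ∀ i, B (s i) (a i) = 1 := fun i => by rw [B_comm Q, has]
  let G : Set (ι → F) := {x | ∃ i, x ∈ D i ∧ Q x = 1}
  let L : AddSubgroup (ι → F) := AddSubgroup.closure G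
  have hBgen : ∀ i, ∀ x ∈ G, B (a i) x ∈ A := by
    rintro i x ⟨j, hx, hQx⟩
    rcases ne_or_eq i j with hij | rfl
    · rw [block_orth hD (ha i) hx hij]; exact A.zero_mem
    set p := B (t' i) x
    set r := B (s i) x
    have hx' : x = p • s i + r • t' i := hxe i x hx
    have hpr : p * r = 1 := by
      rw [hx', Q_add Q, Q_smul Q, Q_smul Q, B_smul_left Q, B_smul_right Q, hQs, hQt, hst] at hQx
      linear_combination hQx
    have hp : p ≠ 0 := fun e => one_ne_zero (α := F) (by rw [← hpr, e, zero_mul])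
    have : B (a i) x = p + p⁻¹ := by
      rw [show p⁻¹ = r from (eq_inv_of_mul_eq_one_right hpr).symm]
      rw [had, B_add_left Q, add_comm]
    rw [this]; exact hval p hp
  have hBL : ∀ i, ∀ x ∈ L, B (a i) x ∈ A := by
    intro i x hx
    induction hx using AddSubgroup.closure_induction with
    | mem y hy => exact hBgen i y hy
    | zero => rw [B_zero_right Q]; exact A.zero_mem
    | add y z _ _ hy hz => rw [B_add_right Q]; exact A.add_mem hy hz
    | neg y _ hy => rw [B_neg_right Q]; exact A.neg_mem hy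
  have haL : ∀ i, a i ∈ L := fun i => AddSubgroup.subset_closure ⟨i, ha i, hQa i⟩
  have ht' : 4 ≤ t := by omega
  set i₀ : Fin t := ⟨0, by omega⟩
  set i₁ : Fin t := ⟨1, by omega⟩
  set i₂ : Fin t := ⟨2, by omega⟩
  set i₃ : Fin t := ⟨3, by omega⟩
  refine exists_between (S := Cfsg.stabilizing (glToMat ι F) (L : Set (ι → F))) (fun g hg hgΩ => ?_) ?_ ?_
  · obtain ⟨σ, hσ⟩ := hg
    refine mem_stabilizing_of_forward fun x hx => ?_
    rw [SetLike.mem_coe] at hx ⊢
    induction hx using AddSubgroup.closure_induction with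
    | mem y hy =>
      obtain ⟨i, hy, hQy⟩ := hy
      exact AddSubgroup.subset_closure ⟨σ i, (hσ i).le ⟨y, hy, rfl⟩, by rw [Q_act (omega_le_iso hgΩ), hQy]⟩
    | zero => rw [map_zero]; exact L.zero_mem
    | add y z _ _ hy hz => rw [map_add]; exact L.add_mem hy hz
    | neg y _ hy => rw [map_neg]; exact L.neg_mem hy
  · have o01 : B (a i₀) (a i₁) = 0 := block_orth hD (ha _) (ha _) (by simp [i₀, i₁])
    have o23 : B (a i₂) (a i₃) = 0 := block_orth hD (ha _) (ha _) (by simp [i₂, i₃])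
    have hQu : Q (a i₀ + a i₁) = 0 := by rw [Q_add Q, hQa, hQa, o01]; linear_combination h2
    have hQw : Q (a i₂ + a i₃) = 0 := by rw [Q_add Q, hQa, hQa, o23]; linear_combination h2
    have huw : B (a i₀ + a i₁) (a i₂ + a i₃) = 0 := by
      rw [B_add_left Q, B_add_right Q, B_add_right Q, block_orth hD (ha _) (ha _) (by simp [i₀, i₂]),
        block_orth hD (ha _) (ha _) (by simp [i₀, i₃]), block_orth hD (ha _) (ha _) (by simp [i₁, i₂]),
        block_orth hD (ha _) (ha _) (by simp [i₁, i₃])]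
      ring
    have hρ : ∀ x, act (sg Q (a i₀ + a i₁) (a i₂ + a i₃)) x =
        x + B (a i₀ + a i₁) x • (a i₂ + a i₃) - B (a i₂ + a i₃) x • (a i₀ + a i₁) := fun x => by
      rw [act_sg Q hQu huw, hQw, zero_mul, add_zero]
    refine ⟨sg Q (a i₀ + a i₁) (a i₂ + a i₃), sg_mem_omega hQ (by omega) _ _,
      mem_stabilizing_of_forward fun x hx => ?_, ?_⟩
    · rw [SetLike.mem_coe] at hx ⊢
      have key : ∀ c ∈ A, ∀ y ∈ L, c • y ∈ L := fun c hc y hy => by
        rcases hA01 c hc with rfl | rfl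
        · rw [zero_smul]; exact L.zero_mem
        · rwa [one_smul]
      rw [hρ]
      refine L.sub_mem (L.add_mem hx (key _ ?_ _ (L.add_mem (haL _) (haL _))))
        (key _ ?_ _ (L.add_mem (haL _) (haL _)))
      · rw [B_add_left Q]; exact A.add_mem (hBL _ x hx) (hBL _ x hx)
      · rw [B_add_left Q]; exact A.add_mem (hBL _ x hx) (hBL _ x hx)
    rintro ⟨σ, hσ⟩
    have haa : ∀ i, B (a i) (a i) = 0 := fun i => by rw [B_self Q, h2, zero_mul]
    have hfa : act (sg Q (a i₀ + a i₁) (a i₂ + a i₃)) (a i₀) = a i₀ := by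
      rw [hρ, B_add_left Q, B_add_left Q, haa, block_orth hD (ha i₁) (ha i₀) (by simp [i₀, i₁]),
        block_orth hD (ha i₂) (ha i₀) (by simp [i₀, i₂]), block_orth hD (ha i₃) (ha i₀) (by simp [i₀, i₃])]
      simp
    have hσ0 : σ i₀ = i₀ := block_index_eq hD (by rw [← hfa]; exact (hσ i₀).le ⟨_, ha i₀, rfl⟩) (ha i₀)
      (fun e => one_ne_zero (α := F) (by rw [← hQa i₀, e, map_zero]))
    have hm : act (sg Q (a i₀ + a i₁) (a i₂ + a i₃)) (s i₀) ∈ D i₀ := by
      have := (hσ i₀).le ⟨_, hs i₀, rfl⟩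
      rwa [hσ0] at this
    have hb : B (a i₀ + a i₁) (s i₀) = 1 := by
      rw [B_add_left Q, has, block_orth hD (ha i₁) (hs i₀) (by simp [i₀, i₁]), add_zero]
    have hb' : B (a i₂ + a i₃) (s i₀) = 0 := by
      rw [B_add_left Q, block_orth hD (ha i₂) (hs i₀) (by simp [i₀, i₂]),
        block_orth hD (ha i₃) (hs i₀) (by simp [i₀, i₃]), add_zero]
    rw [hρ, hb, hb', one_smul, zero_smul, sub_zero] at hm
    have hmem : a i₂ + a i₃ ∈ D i₀ := by simpa using (D i₀).sub_mem hm (hs i₀)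
    have := block_orth hD (hs i₂) hmem (by simp [i₀, i₂])
    rw [B_add_right Q, hsa, block_orth hD (hs i₂) (ha i₃) (by simp [i₂, i₃])] at this
    simp at this
  · obtain ⟨l, hl⟩ : ∃ l, l ∉ A := by
      by_contra hc
      push Not at hc
      exact hA (eq_top_iff.2 fun y _ => hc y)
    have h01 : B (a i₀) (s i₁) = 0 := block_orth hD (ha _) (hs _) (by simp [i₀, i₁])
    have hy : Q (a i₀) = Q (a i₀ + l • s i₁) := by
      rw [Q_add Q, Q_smul Q, B_smul_right Q, hQs, h01]; ring
    obtain ⟨g, hg, hgx⟩ := exists_move_value hQ (by omega) hy (by rw [hQa]; exact one_ne_zero)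
    refine ⟨g, by rw [omega_eq_sgGroup hQ (by omega)]; exact hg, fun h => hl ?_⟩
    have := hBL i₁ _ ((mem_stabilizing_iff.1 h (a i₀)).1 (haL i₀))
    rwa [hgx, B_add_right Q, B_smul_right Q, block_orth hD (ha i₁) (ha i₀) (by simp [i₀, i₁]), has,
      zero_add, mul_one] at this

/-- Blocks with two orthogonal anisotropic planes over the field with two elements. -/
theorem two_minus_planes_between (hk' : k = 4) (two : ∀ x : F, x = 0 ∨ x = 1) (h2 : (2 : F) = 0)
    (e : Fin t → Fin 4 → ι → F) (he : ∀ i j, e i j ∈ D i) (hQ1 : ∀ i j, Q (e i j) = 1)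
    (b01 : ∀ i, B (e i 0) (e i 1) = 1) (b23 : ∀ i, B (e i 2) (e i 3) = 1)
    (b02 : ∀ i, B (e i 0) (e i 2) = 0) (b03 : ∀ i, B (e i 0) (e i 3) = 0)
    (b12 : ∀ i, B (e i 1) (e i 2) = 0) (b13 : ∀ i, B (e i 1) (e i 3) = 0)
    (hspan : ∀ i, ∀ x ∈ D i, ∃ α : Fin 4 → F, ∑ j, α j • e i j = x) :
    ∃ K : Subgroup (GL ι F),
      Cfsg.Geo.decompositionStabilizer D ⊓ Cfsg.Geo.omegaGL Q < K ∧ K < Cfsg.Geo.omegaGL Q := by
  subst hk'
  have hcard := card_eq_mul hD
  set i₀ : Fin t := ⟨0, by omega⟩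
  set i₁ : Fin t := ⟨1, by omega⟩
  have hb10 : ∀ i, B (e i 1) (e i 0) = 1 := fun i => (B_comm Q _ _).trans (b01 i)
  have hself : ∀ i j, B (e i j) (e i j) = 0 := fun i j => by rw [B_self Q, h2, zero_mul]
  refine exists_between (S := Cfsg.stabilizing (glToMat ι F) {x | ∃ i, x ∈ D i ∧ Q x = 1})
    (fun g hg hgΩ => ?_) ?_ (exists_move_out hD hQ hn hk one_ne_zero (he i₀ 0) (hQ1 i₀ 0))
  · obtain ⟨σ, hσ⟩ := hg
    refine mem_stabilizing_of_forward fun x ⟨i, hx, hQx⟩ => ⟨σ i, ?_, by rw [Q_act (omega_le_iso hgΩ), hQx]⟩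
    exact (hσ i).le ⟨x, hx, rfl⟩
  have hij : i₀ ≠ i₁ := by simp [i₀, i₁]
  set u := e i₀ 0 + e i₁ 0 with hu
  set w := e i₀ 1 + e i₁ 1 with hw
  have o : ∀ j l, B (e i₀ j) (e i₁ l) = 0 := fun j l => block_orth hD (he _ _) (he _ _) hij
  have o' : ∀ j l, B (e i₁ j) (e i₀ l) = 0 := fun j l => block_orth hD (he _ _) (he _ _) hij.symm
  have hQu : Q u = 0 := by rw [hu, Q_add Q, hQ1, hQ1, o]; linear_combination h2
  have hQw : Q w = 0 := by rw [hw, Q_add Q, hQ1, hQ1, o]; linear_combination h2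
  have huw : B u w = 0 := by
    rw [hu, hw, B_add_left Q, B_add_right Q, B_add_right Q, o, o', b01, b01]; linear_combination h2
  set P := sg Q u w with hP
  have hρ : ∀ x, act P x = x + B u x • w - B w x • u := fun x => by
    rw [hP, act_sg Q hQu huw, hQw, zero_mul, add_zero]
  have hfix : ∀ i j, (j = 2 ∨ j = 3 ∨ (i ≠ i₀ ∧ i ≠ i₁)) → act P (e i j) = e i j := by
    intro i j h
    have z : ∀ (i' : Fin t) (l : Fin 4), (i' = i₀ ∨ i' = i₁) → (l = 0 ∨ l = 1) → B (e i' l) (e i j) = 0 := by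
      intro i' l hi' hl
      rcases eq_or_ne i' i with rfl | hne
      · rcases h with rfl | rfl | h
        · rcases hl with rfl | rfl <;> [exact b02 _; exact b12 _]
        · rcases hl with rfl | rfl <;> [exact b03 _; exact b13 _]
        · rcases hi' with e | e <;> simp [e] at h
      · exact block_orth hD (he _ _) (he _ _) hne
    rw [hρ, hu, hw, B_add_left Q, B_add_left Q, z i₀ 0 (by simp) (by simp), z i₁ 0 (by simp) (by simp),
      z i₀ 1 (by simp) (by simp), z i₁ 1 (by simp) (by simp)]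
    simp
  have m00 : act P (e i₀ 0) = e i₁ 0 := by
    rw [hρ, hu, hw, B_add_left Q, B_add_left Q, o', o', hself, hb10]
    match_scalars <;> first | ring1 | linear_combination h2 | linear_combination -h2
  have m01 : act P (e i₀ 1) = e i₁ 1 := by
    rw [hρ, hu, hw, B_add_left Q, B_add_left Q, o', o', hself, b01]
    match_scalars <;> first | ring1 | linear_combination h2 | linear_combination -h2
  have m10 : act P (e i₁ 0) = e i₀ 0 := by
    rw [hρ, hu, hw, B_add_left Q, B_add_left Q, o, o, hself, hb10]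
    match_scalars <;> first | ring1 | linear_combination h2 | linear_combination -h2
  have m11 : act P (e i₁ 1) = e i₀ 1 := by
    rw [hρ, hu, hw, B_add_left Q, B_add_left Q, o, o, hself, b01]
    match_scalars <;> first | ring1 | linear_combination h2 | linear_combination -h2
  refine ⟨P, sg_mem_omega hQ (by omega) u w, mem_stabilizing_of_forward ?_, ?_⟩
  · rintro x ⟨i, hx, hQx⟩
    refine Exists.elim ?_ fun i' hi' => ⟨i', hi', by rw [hP, Q_act (sg_mem_iso Q u w), hQx]⟩
    obtain ⟨α, rfl⟩ := hspan i x hx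
    simp only [Fin.sum_univ_four] at hQx ⊢
    simp only [Q_add Q, Q_smul Q, B_add_left Q, B_smul_left Q, B_smul_right Q, hQ1, b01, b23, b02, b03,
      b12, b13] at hQx
    have hsplit : (α 0 = 0 ∧ α 1 = 0) ∨ (α 2 = 0 ∧ α 3 = 0) := by
      rcases two (α 0) with e0 | e0 <;> rcases two (α 1) with e1 | e1 <;>
        rcases two (α 2) with e2 | e2 <;> rcases two (α 3) with e3 | e3 <;>
        rw [e0, e1, e2, e3] at hQx <;> first
        | exact Or.inl ⟨e0, e1⟩
        | exact Or.inr ⟨e2, e3⟩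
        | (exfalso; apply one_ne_zero (α := F); linear_combination -hQx + h2; done)
        | (exfalso; apply one_ne_zero (α := F); linear_combination -hQx + 2 * h2; done)
        | (exfalso; apply one_ne_zero (α := F); linear_combination -hQx + 3 * h2; done)
    simp only [map_add, map_smul]
    rcases hsplit with ⟨e0, e1⟩ | ⟨e2, e3⟩
    · rw [hfix i 2 (by simp), hfix i 3 (by simp), e0, e1]
      simp only [zero_smul, zero_add]
      exact ⟨i, (D i).add_mem ((D i).smul_mem _ (he i 2)) ((D i).smul_mem _ (he i 3))⟩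
    · rw [e2, e3]
      simp only [zero_smul, add_zero]
      by_cases h0 : i = i₀
      · subst h0
        rw [m00, m01]
        exact ⟨i₁, (D i₁).add_mem ((D i₁).smul_mem _ (he _ 0)) ((D i₁).smul_mem _ (he _ 1))⟩
      by_cases h1 : i = i₁
      · subst h1
        rw [m10, m11]
        exact ⟨i₀, (D i₀).add_mem ((D i₀).smul_mem _ (he _ 0)) ((D i₀).smul_mem _ (he _ 1))⟩
      rw [hfix i 0 (by simp [h0, h1]), hfix i 1 (by simp [h0, h1])]
      exact ⟨i, (D i).add_mem ((D i).smul_mem _ (he i 0)) ((D i).smul_mem _ (he i 1))⟩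
  · rintro ⟨σ, hσ⟩
    have e1 : σ i₀ = i₁ := block_index_eq hD (by rw [← m00]; exact (hσ i₀).le ⟨_, he _ _, rfl⟩) (he i₁ 0)
      (fun e' => one_ne_zero (α := F) (by rw [← hQ1 i₁ 0, e', map_zero]))
    have e2 : σ i₀ = i₀ := block_index_eq hD
      (by rw [← hfix i₀ 2 (by simp)]; exact (hσ i₀).le ⟨_, he _ _, rfl⟩) (he i₀ 2)
      (fun e' => one_ne_zero (α := F) (by rw [← hQ1 i₀ 2, e', map_zero]))
    exact hij (e2.symm.trans e1)

/-- Blocks of type `O₄⁺(2)`. -/
theorem four_plus_two_between (hk' : k = 4) (hq : Fintype.card F = 2)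
    (hplus : ∀ i, Cfsg.Geo.IsPlusTypeOn Q (D i)) :
    ∃ K : Subgroup (GL ι F),
      Cfsg.Geo.decompositionStabilizer D ⊓ Cfsg.Geo.omegaGL Q < K ∧ K < Cfsg.Geo.omegaGL Q := by
  subst hk'
  have hcard := card_eq_mul hD
  classical
  have two : ∀ x : F, x = 0 ∨ x = 1 := by
    intro x
    have h : ({0, 1} : Finset F) = Finset.univ := Finset.eq_univ_of_card _ (by simp [hq])
    have := h.symm ▸ Finset.mem_univ x
    simpa using this
  have h2 : (2 : F) = 0 := by
    rcases two 2 with h | h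
    · exact h
    · exact absurd (by linear_combination h : (1 : F) = 0) one_ne_zero
  set i₀ : Fin t := ⟨0, by omega⟩
  set i₁ : Fin t := ⟨1, by omega⟩
  obtain ⟨U, hUW, hU, hUd⟩ := hplus i₀
  rw [hD.decomp.decomp.finrank_eq] at hUd
  have hWn := block_nonDeg hD i₀
  obtain ⟨s, hsU, hs0⟩ := Submodule.exists_mem_ne_zero_of_ne_bot (p := U) (fun e => by
    rw [e, finrank_bot] at hUd; omega)
  obtain ⟨s', hs'U, hs's⟩ : ∃ s' ∈ U, s' ∉ F ∙ s := SetLike.not_le_iff_exists.1 fun h => by
    have := (Submodule.finrank_mono h).trans_eq (finrank_span_singleton hs0); omega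
  have hsD := hUW hsU
  have hs'D := hUW hs'U
  have hQs := hU s hsU
  have hQs' := hU s' hs'U
  have hss' : B s s' = 0 := B_eq_zero_of_singular hU hsU hs'U
  have hss : s ∉ F ∙ s' := fun h => by
    obtain ⟨c, hc⟩ := Submodule.mem_span_singleton.1 h
    have hc0 : c ≠ 0 := fun e => hs0 (by rw [← hc, e, zero_smul])
    exact hs's (Submodule.mem_span_singleton.2
      ⟨c⁻¹, by rw [← hc, smul_smul, inv_mul_cancel₀ hc0, one_smul]⟩)
  obtain ⟨z, hz, hzp, hsz⟩ := exists_one_in hQ hWn
    ((Submodule.span_singleton_le_iff_mem _ _).2 hs'D) hsD hss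
  set tt := z - Q z • s with htt
  have htD : tt ∈ D i₀ := (D i₀).sub_mem hz ((D i₀).smul_mem _ hsD)
  have hs'z := hzp s' (Submodule.mem_span_singleton_self _)
  have hQtt : Q tt = 0 := by rw [htt, Q_sub Q, Q_smul Q, B_smul_right Q, hQs, B_comm Q z s, hsz]; ring
  have hstt : B s tt = 1 := by rw [htt, B_sub_right Q, B_smul_right Q, hsz, B_self_of_singular Q hQs]; ring
  have hs'tt : B s' tt = 0 := by
    rw [htt, B_sub_right Q, B_smul_right Q, hs'z, B_comm Q s' s, hss']; ring
  obtain ⟨z', hz', hzp', hs'z'⟩ := exists_one_in hQ hWn (P := Submodule.span F (Set.range ![s, tt]))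
    (Submodule.span_le.2 (by rintro _ ⟨j, rfl⟩; fin_cases j <;> [exact hsD; exact htD])) hs'D (fun h => by
      obtain ⟨p, r, e⟩ := mem_span_pair_iff_range.1 h
      have := congrArg (B s) e
      rw [B_add_right Q, B_smul_right Q, B_smul_right Q, B_self_of_singular Q hQs, hstt, hss'] at this
      have hr : r = 0 := by simpa using this
      exact hs's (Submodule.mem_span_singleton.2 ⟨p, by rw [← e, hr, zero_smul, add_zero]⟩))
  set tt' := z' - Q z' • s' with htt'
  have ht'D : tt' ∈ D i₀ := (D i₀).sub_mem hz' ((D i₀).smul_mem _ hs'D)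
  have hsz' := hzp' s (Submodule.subset_span ⟨0, rfl⟩)
  have httz' := hzp' tt (Submodule.subset_span ⟨1, rfl⟩)
  have hQtt' : Q tt' = 0 := by rw [htt', Q_sub Q, Q_smul Q, B_smul_right Q, hQs', B_comm Q z' s', hs'z']; ring
  have hs'tt' : B s' tt' = 1 := by
    rw [htt', B_sub_right Q, B_smul_right Q, hs'z', B_self_of_singular Q hQs']; ring
  have hstt' : B s tt' = 0 := by rw [htt', B_sub_right Q, B_smul_right Q, hsz', hss']; ring
  have htttt' : B tt tt' = 0 := by
    rw [htt', B_sub_right Q, B_smul_right Q, httz', B_comm Q tt s', hs'tt]; ring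
  clear_value tt tt'
  -- the two minus planes
  set e₀ : Fin 4 → ι → F := ![s + tt + s', s + tt + tt', s' + tt' + s, s' + tt' + tt] with he₀
  have hme : ∀ j, e₀ j ∈ D i₀ := by
    intro j; fin_cases j <;> simp [he₀] <;>
      exact (D i₀).add_mem ((D i₀).add_mem (by assumption) (by assumption)) (by assumption)
  have hli : LinearIndependent F ![s, tt, s', tt'] := by
    rw [Fintype.linearIndependent_iff]
    intro g hg
    simp only [Fin.sum_univ_four, Matrix.cons_val_zero, Matrix.cons_val_one, Matrix.cons_val] at hg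
    have e1 := congrArg (B s) hg
    have e2 := congrArg (B tt) hg
    have e3 := congrArg (B s') hg
    have e4 := congrArg (B tt') hg
    simp only [B_add_right Q, B_smul_right Q, B_zero_right Q, B_self_of_singular Q hQs,
      B_self_of_singular Q hQs', B_self_of_singular Q hQtt, B_self_of_singular Q hQtt', hss', hstt, hstt', hs'tt,
      hs'tt', htttt', B_comm Q tt s, B_comm Q s' s, B_comm Q tt s', B_comm Q tt' s, B_comm Q tt' tt,
      B_comm Q tt' s', mul_zero, mul_one, zero_add, add_zero] at e1 e2 e3 e4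
    intro j; fin_cases j <;> assumption
  have hsp : Submodule.span F (Set.range ![s, tt, s', tt']) = D i₀ := by
    refine Submodule.eq_of_le_of_finrank_le (Submodule.span_le.2 ?_) ?_
    · rintro _ ⟨j, rfl⟩; fin_cases j <;> assumption
    · rw [finrank_span_eq_card hli, Fintype.card_fin, hD.decomp.decomp.finrank_eq]
  obtain ⟨e, he, hQe, hBe, hspan⟩ := transport_basis hD e₀ hme (fun x hx => by
    rw [← hsp, Submodule.mem_span_range_iff_exists_fun] at hx
    obtain ⟨c, hc⟩ := hx
    simp only [Fin.sum_univ_four, Matrix.cons_val_zero, Matrix.cons_val_one, Matrix.cons_val] at hc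
    refine ⟨![c 0 + c 1 + c 2, c 0 + c 1 + c 3, c 0 + c 2 + c 3, c 1 + c 2 + c 3], ?_⟩
    rw [← hc]
    simp only [Fin.sum_univ_four, he₀, Matrix.cons_val_zero, Matrix.cons_val_one, Matrix.cons_val]
    match_scalars <;> linear_combination (c 0 + c 1 + c 2 + c 3) * h2)
  have q0 : Q (e₀ 0) = 1 ∧ Q (e₀ 1) = 1 ∧ Q (e₀ 2) = 1 ∧ Q (e₀ 3) = 1 := by
    simp only [he₀, Matrix.cons_val_zero, Matrix.cons_val_one, Matrix.cons_val, Q_add Q, B_add_left Q,
      hQs, hQs', hQtt, hQtt', hss', hstt, hstt', hs'tt, hs'tt', htttt', B_comm Q tt s, B_comm Q s' s,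
      B_comm Q tt s', B_comm Q tt' s, B_comm Q tt' tt, B_comm Q tt' s', add_zero, zero_add, and_self]
  have b0 : B (e₀ 0) (e₀ 1) = 1 ∧ B (e₀ 2) (e₀ 3) = 1 ∧ B (e₀ 0) (e₀ 2) = 0 ∧ B (e₀ 0) (e₀ 3) = 0 ∧
      B (e₀ 1) (e₀ 2) = 0 ∧ B (e₀ 1) (e₀ 3) = 0 := by
    simp only [he₀, Matrix.cons_val_zero, Matrix.cons_val_one, Matrix.cons_val, B_add_left Q, B_add_right Q,
      B_self_of_singular Q hQs, B_self_of_singular Q hQs', B_self_of_singular Q hQtt, B_self_of_singular Q hQtt',
      hss', hstt, hstt', hs'tt, hs'tt', htttt', B_comm Q tt s, B_comm Q s' s, B_comm Q tt s', B_comm Q tt' s,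
      B_comm Q tt' tt, B_comm Q tt' s', add_zero, zero_add]
    refine ⟨?_, ?_, ?_, ?_, ?_, ?_⟩ <;> first | linear_combination h2 | linear_combination 2 * h2
  have hQ1 : ∀ i j, Q (e i j) = 1 := fun i j => by
    rw [hQe]; fin_cases j <;> [exact q0.1; exact q0.2.1; exact q0.2.2.1; exact q0.2.2.2]
  exact two_minus_planes_between hD hQ hn hk rfl two h2 e he hQ1 (fun i => (hBe i _ _).trans b0.1)
    (fun i => (hBe i _ _).trans b0.2.1) (fun i => (hBe i _ _).trans b0.2.2.1)
    (fun i => (hBe i _ _).trans b0.2.2.2.1) (fun i => (hBe i _ _).trans b0.2.2.2.2.1)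
    (fun i => (hBe i _ _).trans b0.2.2.2.2.2) hspan

end Decomposition

/-- Splitting off a nonsingular vector from a non-degenerate subspace in odd characteristic. -/
theorem exists_split_vector (h2 : (2 : F) ≠ 0) {W : Submodule F (ι → F)} (hW : NonDeg Q W)
    (h1 : 1 ≤ finrank F W) :
    ∃ a ∈ W, Q a ≠ 0 ∧ NonDeg Q (W ⊓ perp Q (F ∙ a)) ∧
      finrank F ↥(W ⊓ perp Q (F ∙ a)) + 1 = finrank F W ∧
      ∀ x ∈ W, ∃ c : F, x - c • a ∈ W ⊓ perp Q (F ∙ a) := by
  obtain ⟨a, ha, hQa⟩ : ∃ a ∈ W, Q a ≠ 0 := by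
    by_contra hc
    push Not at hc
    obtain ⟨x, hx, hx0⟩ := Submodule.exists_mem_ne_zero_of_ne_bot (p := W) (fun e => by
      rw [e, finrank_bot] at h1; omega)
    exact hx0 (hW x hx fun y hy => B_eq_zero_of_singular hc hx hy)
  have hproj : ∀ x ∈ W, x - (B a x / (2 * Q a)) • a ∈ W ⊓ perp Q (F ∙ a) := fun x hx =>
    ⟨W.sub_mem hx (W.smul_mem _ ha), (mem_perp_span Q).2 fun y hy => by
      rw [Set.mem_singleton_iff.1 hy, B_sub_right Q, B_smul_right Q, B_self Q,
        div_mul_cancel₀ _ (mul_ne_zero h2 hQa), sub_self]⟩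
  have hanot : a ∉ W ⊓ perp Q (F ∙ a) := fun h => by
    have := orth h.2 (Submodule.mem_span_singleton_self a)
    rw [B_self Q] at this
    exact mul_ne_zero h2 hQa this
  have hsup : W ⊓ perp Q (F ∙ a) ⊔ F ∙ a = W := le_antisymm
    (sup_le inf_le_left ((Submodule.span_singleton_le_iff_mem _ _).2 ha)) fun x hx =>
    Submodule.mem_sup.2 ⟨_, hproj x hx, _, Submodule.smul_mem _ (B a x / (2 * Q a))
      (Submodule.mem_span_singleton_self a), sub_add_cancel _ _⟩
  refine ⟨a, ha, hQa, fun x hx h => hW x hx.1 fun y hy => ?_, ?_, fun x hx => ⟨_, hproj x hx⟩⟩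
  · have := h _ (hproj y hy)
    rwa [B_sub_right Q, B_smul_right Q, B_comm Q x a, orth hx.2 (Submodule.mem_span_singleton_self a),
      mul_zero, sub_zero] at this
  · conv_rhs => rw [← hsup]
    rw [Submodule.finrank_sup_span_singleton hanot]

variable [Fintype F] (hQ : (QuadraticMap.polarBilin Q).Nondegenerate) (hn : 9 ≤ Fintype.card ι)
  (hD : Cfsg.Geo.IsOrthogonalMDecomposition Q k D)
include hQ hn hD

/-- Blocks of dimension two or three over the field with three elements. -/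
theorem three_between (hq : Fintype.card F = 3) (hk : k = 2 ∨ k = 3) :
    ∃ K : Subgroup (GL ι F),
      Cfsg.Geo.decompositionStabilizer D ⊓ Cfsg.Geo.omegaGL Q < K ∧ K < Cfsg.Geo.omegaGL Q := by
  have h3 : (3 : F) = 0 := by simpa [hq] using FiniteField.cast_card_eq_zero F
  have h2 : (2 : F) ≠ 0 := fun h => one_ne_zero (α := F) (by linear_combination h3 - h)
  have hsq : ∀ x : F, x ≠ 0 → x * x = 1 := fun x hx => by
    have := FiniteField.pow_card_sub_one_eq_one x hx
    rwa [hq, show 3 - 1 = 2 from rfl, sq] at this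
  have hsqc : ∀ x : F, x = 0 ∧ x * x = 0 ∨ x * x = 1 := fun x => by
    rcases eq_or_ne x 0 with e | e
    · exact Or.inl ⟨e, by rw [e, zero_mul]⟩
    · exact Or.inr (hsq x e)
  have hpm : ∀ x : F, x ≠ 0 → x = 1 ∨ x = -1 := fun x hx => by
    have := hsq x hx
    rcases mul_eq_zero.1 (show (x - 1) * (x + 1) = 0 by linear_combination this) with h | h
    · exact Or.inl (sub_eq_zero.1 h)
    · exact Or.inr (eq_neg_of_add_eq_zero_left h)
  have hcard := card_eq_mul hD
  have ht : 0 < t := by by_contra h; rw [not_lt, Nat.le_zero] at h; rw [h] at hcard; omega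
  set i₀ : Fin t := ⟨0, ht⟩
  have hd := hD.decomp.decomp.finrank_eq i₀
  obtain ⟨a, ha, hQa, hW₁, hd₁, hp₁⟩ := exists_split_vector h2 (block_nonDeg hD i₀) (by omega)
  obtain ⟨b, hb, hQb, hW₂, hd₂, hp₂⟩ := exists_split_vector h2 hW₁ (by omega)
  have hab : B a b = 0 := orth hb.2 (Submodule.mem_span_singleton_self a)
  rcases hk with rfl | rfl
  · obtain ⟨e, he, hQe, hBe, hspan⟩ := transport_basis hD ![a, b]
      (fun j => by fin_cases j <;> [exact ha; exact hb.1]) (fun x hx => by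
        obtain ⟨c, hc⟩ := hp₁ x hx
        obtain ⟨c', hc'⟩ := hp₂ _ hc
        have h0 : (D i₀ ⊓ perp Q (F ∙ a)) ⊓ perp Q (F ∙ b) = ⊥ := Submodule.finrank_eq_zero.1 (by omega)
        rw [h0, Submodule.mem_bot] at hc'
        refine ⟨![c, c'], ?_⟩
        simp only [Fin.sum_univ_two, Matrix.cons_val_zero, Matrix.cons_val_one]
        linear_combination (norm := module) -hc')
    refine frame_between hD hQ hn (by omega) (by omega) h2 e ![Q a, Q b]
      (fun j => by fin_cases j <;> assumption) he (fun i j => by rw [hQe]; fin_cases j <;> rfl)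
      (fun i j l hjl => by
        rw [hBe]; fin_cases j <;> fin_cases l <;> first | exact absurd rfl hjl | exact hab |
          exact (B_comm Q b a).trans hab) hspan 0 fun α hα => ?_
    simp only [Fin.sum_univ_two, Matrix.cons_val_zero, Matrix.cons_val_one] at hα
    rcases hsqc (α 0) with ⟨e0, -⟩ | e0
    · exact ⟨1, fun l hl => by fin_cases l <;> [exact e0; exact absurd rfl hl]⟩
    rcases hsqc (α 1) with ⟨e1, -⟩ | e1
    · exact ⟨0, fun l hl => by fin_cases l <;> [exact absurd rfl hl; exact e1]⟩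
    rw [e0, e1] at hα
    exact absurd (by linear_combination hα) hQb
  obtain ⟨c, hc, hQc, -, hd₃, hp₃⟩ := exists_split_vector h2 hW₂ (by omega)
  have hac : B a c = 0 := orth hc.1.2 (Submodule.mem_span_singleton_self a)
  have hbc : B b c = 0 := orth hc.2 (Submodule.mem_span_singleton_self b)
  have hspan₀ : ∀ x ∈ D i₀, ∃ p r u : F, p • a + r • b + u • c = x := fun x hx => by
    obtain ⟨p, hpx⟩ := hp₁ x hx
    obtain ⟨r, hrx⟩ := hp₂ _ hpx
    obtain ⟨u, hux⟩ := hp₃ _ hrx
    have h0 : ((D i₀ ⊓ perp Q (F ∙ a)) ⊓ perp Q (F ∙ b)) ⊓ perp Q (F ∙ c) = ⊥ :=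
      Submodule.finrank_eq_zero.1 (by omega)
    rw [h0, Submodule.mem_bot] at hux
    exact ⟨p, r, u, by linear_combination (norm := module) -hux⟩
  -- from any two equal values and a third, an orthogonal basis with equal values
  have fin : ∀ a' b' c' : ι → F, a' ∈ D i₀ → b' ∈ D i₀ → c' ∈ D i₀ → B a' b' = 0 → B a' c' = 0 →
      B b' c' = 0 → Q b' = Q a' → Q c' = Q a' → Q a' ≠ 0 →
      (∀ x ∈ D i₀, ∃ p r u : F, p • a' + r • b' + u • c' = x) →
      ∃ K : Subgroup (GL ι F),
        Cfsg.Geo.decompositionStabilizer D ⊓ Cfsg.Geo.omegaGL Q < K ∧ K < Cfsg.Geo.omegaGL Q := by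
    intro a' b' c' ha' hb' hc' e1 e2 e3 f1 f2 f0 hs
    obtain ⟨e, he, hQe, hBe, hspan⟩ := transport_basis hD ![a', b', c']
      (fun j => by fin_cases j <;> assumption) (fun x hx => by
        obtain ⟨p, r, u, h⟩ := hs x hx
        refine ⟨![p, r, u], ?_⟩
        simpa [Fin.sum_univ_three] using h)
    refine frame_between hD hQ hn (by omega) (by omega) h2 e (fun _ => Q a') (fun _ => f0) he
      (fun i j => by rw [hQe]; fin_cases j <;> [rfl; exact f1; exact f2])
      (fun i j l hjl => by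
        rw [hBe]; fin_cases j <;> fin_cases l <;> first | exact absurd rfl hjl | assumption |
          exact (B_comm Q _ _).trans (by assumption)) hspan 0 fun α hα => ?_
    rw [← Finset.sum_mul] at hα
    have hα' : ∑ j, α j * α j = 1 := mul_right_cancel₀ f0 (by rw [hα, one_mul])
    rw [Fin.sum_univ_three] at hα'
    rcases hsqc (α 0) with ⟨z0, w0⟩ | w0 <;> rcases hsqc (α 1) with ⟨z1, w1⟩ | w1 <;>
      rcases hsqc (α 2) with ⟨z2, w2⟩ | w2 <;> rw [w0, w1, w2] at hα'
    all_goals first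
      | (exfalso; apply one_ne_zero (α := F); linear_combination hα'; done)
      | (exfalso; apply one_ne_zero (α := F); linear_combination -hα'; done)
      | (exfalso; apply one_ne_zero (α := F); linear_combination h3 - hα'; done)
      | (refine ⟨0, fun l hl => ?_⟩; fin_cases l <;> first | exact absurd rfl hl | assumption; done)
      | (refine ⟨1, fun l hl => ?_⟩; fin_cases l <;> first | exact absurd rfl hl | assumption; done)
      | (refine ⟨2, fun l hl => ?_⟩; fin_cases l <;> first | exact absurd rfl hl | assumption; done)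
  -- `p, p, r` with `r = -p` becomes `r, r, r`
  have mix : ∀ a' b' c' : ι → F, a' ∈ D i₀ → b' ∈ D i₀ → c' ∈ D i₀ → B a' b' = 0 → B a' c' = 0 →
      B b' c' = 0 → Q b' = Q a' → Q c' = -Q a' → Q a' ≠ 0 →
      (∀ x ∈ D i₀, ∃ p r u : F, p • a' + r • b' + u • c' = x) →
      ∃ K : Subgroup (GL ι F),
        Cfsg.Geo.decompositionStabilizer D ⊓ Cfsg.Geo.omegaGL Q < K ∧ K < Cfsg.Geo.omegaGL Q := by
    intro a' b' c' ha' hb' hc' e1 e2 e3 f1 f2 f0 hs
    refine fin c' (a' + b') (a' - b') hc' ((D i₀).add_mem ha' hb') ((D i₀).sub_mem ha' hb') ?_ ?_ ?_ ?_ ?_ ?_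
      fun x hx => ?_
    · rw [B_add_right Q, B_comm Q c' a', B_comm Q c' b', e2, e3, add_zero]
    · rw [B_sub_right Q, B_comm Q c' a', B_comm Q c' b', e2, e3, sub_zero]
    · rw [B_add_left Q, B_sub_right Q, B_sub_right Q, B_self Q, B_self Q, B_comm Q b' a', e1, f1]; ring
    · rw [Q_add Q, f1, e1, f2]; linear_combination Q a' * h3
    · rw [Q_sub Q, f1, e1, f2]; linear_combination Q a' * h3
    · rw [f2]; exact neg_ne_zero.2 f0
    · obtain ⟨p, r, u, h⟩ := hs x hx
      refine ⟨u, -(p + r), r - p, ?_⟩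
      rw [← h]
      match_scalars
      · ring
      · linear_combination -p * h3
      · linear_combination -r * h3
  have key : ∀ p q : F, p ≠ 0 → q ≠ 0 → q = p ∨ q = -p := fun p q hp hq' => by
    rcases hpm p hp with rfl | rfl <;> rcases hpm q hq' with rfl | rfl <;> simp
  rcases key _ _ hQa hQb with e1 | e1 <;> rcases key _ _ hQa hQc with e2 | e2
  · exact fin a b c ha hb.1 hc.1.1 hab hac hbc e1 e2 hQa hspan₀
  · exact mix a b c ha hb.1 hc.1.1 hab hac hbc e1 e2 hQa hspan₀
  · refine mix a c b ha hc.1.1 hb.1 hac hab ((B_comm Q c b).trans hbc) e2 e1 hQa fun x hx => ?_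
    obtain ⟨p, r, u, h⟩ := hspan₀ x hx
    exact ⟨p, u, r, by rw [← h]; abel⟩
  · refine mix b c a hb.1 hc.1.1 ha hbc ((B_comm Q b a).trans hab) ((B_comm Q c a).trans hac)
      (e2.trans e1.symm) (by rw [e1, neg_neg]) hQb fun x hx => ?_
    obtain ⟨p, r, u, h⟩ := hspan₀ x hx
    exact ⟨r, u, p, by rw [← h]; abel⟩

/-- Plus-type planes over the field with five elements. -/
theorem five_between (hq : Fintype.card F = 5) (hk : k = 2) (hplus : ∀ i, Cfsg.Geo.IsPlusTypeOn Q (D i)) :
    ∃ K : Subgroup (GL ι F),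
      Cfsg.Geo.decompositionStabilizer D ⊓ Cfsg.Geo.omegaGL Q < K ∧ K < Cfsg.Geo.omegaGL Q := by
  subst hk
  have h5 : (5 : F) = 0 := by simpa [hq] using FiniteField.cast_card_eq_zero F
  have h2 : (2 : F) ≠ 0 := fun h => one_ne_zero (α := F) (by linear_combination h5 - 2 * h)
  have hcard := card_eq_mul hD
  have ht : 0 < t := by by_contra h; rw [not_lt, Nat.le_zero] at h; rw [h] at hcard; omega
  set i₀ : Fin t := ⟨0, ht⟩
  obtain ⟨U, hUW, hU, hUd⟩ := hplus i₀
  rw [hD.decomp.decomp.finrank_eq] at hUd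
  obtain ⟨s, hsU, hs0⟩ := Submodule.exists_mem_ne_zero_of_ne_bot (p := U) (fun e => by
    rw [e, finrank_bot] at hUd; omega)
  have hs := hUW hsU
  have hQs := hU s hsU
  obtain ⟨z, hz, -, hsz⟩ := exists_one_in hQ (block_nonDeg hD i₀) (P := ⊥) bot_le hs (by simpa using hs0)
  obtain ⟨t', ht', hQt, hst⟩ := exists_partner Q hQs hs hz (by rw [hsz]; exact one_ne_zero)
  have hli : LinearIndependent F ![s, t'] := by
    refine LinearIndependent.pair_iff.2 fun p r hpr => ?_
    have e1 := congrArg (B s) hpr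
    have e2 := congrArg (B t') hpr
    simp only [B_add_right Q, B_smul_right Q, B_self_of_singular Q hQs, B_self_of_singular Q hQt,
      B_comm Q t' s, hst, B_zero_right Q, mul_zero, mul_one, zero_add, add_zero] at e1 e2
    exact ⟨e2, e1⟩
  have hsp : Submodule.span F (Set.range ![s, t']) = D i₀ := by
    refine Submodule.eq_of_le_of_finrank_le (Submodule.span_le.2 ?_) ?_
    · rintro _ ⟨j, rfl⟩; fin_cases j <;> assumption
    · rw [finrank_span_eq_card hli, Fintype.card_fin, hD.decomp.decomp.finrank_eq]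
  obtain ⟨e, he, hQe, hBe, hspan⟩ := transport_basis hD ![s + t', (2 : F) • s + (3 : F) • t']
    (fun j => by
      fin_cases j <;> [exact (D i₀).add_mem hs ht'; exact (D i₀).add_mem ((D i₀).smul_mem _ hs) ((D i₀).smul_mem _ ht')])
    (fun x hx => by
      obtain ⟨p, r, rfl⟩ := mem_span_pair_iff_range.1 (hsp.ge hx : x ∈ Submodule.span F (Set.range ![s, t']))
      refine ⟨![3 * (p + r), r - p], ?_⟩
      simp only [Fin.sum_univ_two, Matrix.cons_val_zero, Matrix.cons_val_one]
      match_scalars <;> linear_combination r * h5)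
  have qa : Q (s + t') = 1 := by rw [Q_add Q, hQs, hQt, hst]; ring
  have qb : Q ((2 : F) • s + (3 : F) • t') = 1 := by
    rw [Q_add Q, Q_smul Q, Q_smul Q, B_smul_left Q, B_smul_right Q, hQs, hQt, hst]; linear_combination h5
  have bab : B (s + t') ((2 : F) • s + (3 : F) • t') = 0 := by
    simp only [B_add_left Q, B_add_right Q, B_smul_right Q, B_self_of_singular Q hQs, B_self_of_singular Q hQt,
      B_comm Q t' s, hst]
    linear_combination h5
  refine frame_between hD hQ hn (by omega) (by omega) h2 e (fun _ => 1) (fun _ => one_ne_zero) he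
    (fun i j => by rw [hQe]; fin_cases j <;> [exact qa; exact qb])
    (fun i j l hjl => by
      rw [hBe]; fin_cases j <;> fin_cases l <;> first | exact absurd rfl hjl | exact bab |
        exact (B_comm Q _ _).trans bab) hspan 0 fun α hα => ?_
  simp only [Fin.sum_univ_two, mul_one] at hα
  have hsqc : ∀ x : F, x = 0 ∨ x * x = 1 ∨ x * x = -1 := fun x => by
    rcases eq_or_ne x 0 with e | e
    · exact Or.inl e
    have h4 := FiniteField.pow_card_sub_one_eq_one x e
    rw [hq] at h4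
    rcases mul_eq_zero.1 (show (x * x - 1) * (x * x + 1) = 0 by linear_combination h4) with h | h
    · exact Or.inr (Or.inl (sub_eq_zero.1 h))
    · exact Or.inr (Or.inr (eq_neg_of_add_eq_zero_left h))
  rcases hsqc (α 0) with e0 | e0
  · exact ⟨1, fun l hl => by fin_cases l <;> [exact e0; exact absurd rfl hl]⟩
  rcases hsqc (α 1) with e1 | e1
  · exact ⟨0, fun l hl => by fin_cases l <;> [exact absurd rfl hl; exact e1]⟩
  rcases e0 with e0 | e0 <;> rcases e1 with e1 | e1 <;> rw [e0, e1] at hα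
  · exact absurd (by linear_combination hα) (one_ne_zero : (1 : F) ≠ 0)
  · exact absurd (by linear_combination -hα) (one_ne_zero : (1 : F) ≠ 0)
  · exact absurd (by linear_combination -hα) (one_ne_zero : (1 : F) ≠ 0)
  · exact absurd (by linear_combination 3 * hα + 2 * h5) (one_ne_zero : (1 : F) ≠ 0)

/-- All the tiny block types. -/
theorem tiny_between (hcase : (Fintype.card F = 3 ∧ (k = 2 ∨ k = 3)) ∨
      (k = 2 ∧ (∀ i, Cfsg.Geo.IsPlusTypeOn Q (D i)) ∧
        (Fintype.card F = 2 ∨ Fintype.card F = 4 ∨ Fintype.card F = 5)) ∨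
      (k = 4 ∧ Fintype.card F = 2 ∧ ∀ i, Cfsg.Geo.IsPlusTypeOn Q (D i))) :
    ∃ K : Subgroup (GL ι F),
      Cfsg.Geo.decompositionStabilizer D ⊓ Cfsg.Geo.omegaGL Q < K ∧ K < Cfsg.Geo.omegaGL Q := by
  classical
  have heven : ∀ m : ℕ, Fintype.card F = 2 * m → (2 : F) = 0 := fun m hm => by
    haveI := ringChar.of_eq (FiniteField.even_card_iff_char_two.2 (show Fintype.card F % 2 = 0 by omega))
    exact CharTwo.two_eq_zero
  rcases hcase with ⟨hq, hk⟩ | ⟨hk, hplus, hq⟩ | ⟨hk, hq, hplus⟩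
  · exact three_between hQ hn hD hq hk
  · rcases hq with hq | hq | hq
    · have h2 : (2 : F) = 0 := heven 1 hq
      refine small_plane_between hD hQ hn (by omega) hk h2 hplus ⊥ (fun h => ?_) (fun a ha => Or.inl ha)
        fun r hr => ?_
      · have : (1 : F) ∈ (⊥ : AddSubgroup F) := h ▸ AddSubgroup.mem_top _
        exact one_ne_zero (AddSubgroup.mem_bot.1 this)
      · have h1 := FiniteField.pow_card_sub_one_eq_one r hr
        rw [hq, pow_one] at h1
        rw [h1, inv_one, AddSubgroup.mem_bot]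
        linear_combination h2
    · have h2 : (2 : F) = 0 := heven 2 hq
      let A : AddSubgroup F :=
        { carrier := {a | a = 0 ∨ a = 1}
          zero_mem' := Or.inl rfl
          add_mem' := fun {a b} ha hb => by
            rcases ha with rfl | rfl <;> rcases hb with rfl | rfl
            · exact Or.inl (by ring)
            · exact Or.inr (by ring)
            · exact Or.inr (by ring)
            · exact Or.inl (by linear_combination h2)
          neg_mem' := fun {a} ha => by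
            rcases ha with rfl | rfl
            · exact Or.inl neg_zero
            · exact Or.inr (by linear_combination -h2) }
      refine small_plane_between hD hQ hn (by omega) hk h2 hplus A (fun h => ?_) (fun a ha => ha)
        fun r hr => ?_
      · have hsub : (Finset.univ : Finset F) ⊆ {0, 1} := fun x _ => by
          have : x ∈ A := h ▸ AddSubgroup.mem_top x
          rcases this with e | e <;> simp [e]
        have := (Finset.card_le_card hsub).trans Finset.card_le_two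
        rw [Finset.card_univ] at this
        omega
      · have h3 := FiniteField.pow_card_sub_one_eq_one r hr
        rw [hq, show 4 - 1 = 3 from rfl] at h3
        by_cases hr1 : r = 1
        · exact Or.inl (by rw [hr1, inv_one]; linear_combination h2)
        · refine Or.inr (mul_left_cancel₀ hr ?_)
          have h4 : r * r + r + 1 = 0 := by
            have : (r - 1) * (r * r + r + 1) = 0 := by linear_combination h3
            exact (mul_eq_zero.1 this).resolve_left (sub_ne_zero.2 hr1)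
          rw [mul_add, mul_inv_cancel₀ hr, mul_one]
          linear_combination h4 - r * h2
    · exact five_between hQ hn hD hq hk hplus
  · exact four_plus_two_between hD hQ hn (by omega) hk hq hplus

end Cfsg.Agent.MaxCl.Orth
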