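/-
Tensor decompositions of orthogonal spaces with a tiny first factor: their stabilisers in `omegaGL` are not maximal.
-/
import Cfsg.Agent.Lib.MaxCl.OrthFrame

set_option autoImplicit false

namespace Cfsg.Agent.MaxCl.Orth

open scoped MatrixGroups Matrix Kronecker
open Module (finrank)

variable {ι : Type} [Fintype ι] [DecidableEq ι] {F : Type*} [Field F]

/-! ### Pure tensors -/

section Pure

variable {n₁ n₂ : ℕ}

/-- The pure tensor of two coordinate vectors. -/
def pure2 (z : Fin n₁ → F) (w : Fin n₂ → F) : Fin n₁ × Fin n₂ → F := fun p => z p.1 * w p.2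

theorem pure2_add_left (z z' : Fin n₁ → F) (w : Fin n₂ → F) : pure2 (z + z') w = pure2 z w + pure2 z' w := by
  funext p; simp [pure2, add_mul]

theorem pure2_add_right (z : Fin n₁ → F) (w w' : Fin n₂ → F) : pure2 z (w + w') = pure2 z w + pure2 z w' := by
  funext p; simp [pure2, mul_add]

theorem pure2_smul_left (c : F) (z : Fin n₁ → F) (w : Fin n₂ → F) : pure2 (c • z) w = c • pure2 z w := by
  funext p; simp [pure2, mul_assoc]

theorem pure2_smul_right (c : F) (z : Fin n₁ → F) (w : Fin n₂ → F) : pure2 z (c • w) = c • pure2 z w := by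
  funext p; simp [pure2]; ring

theorem pure2_sum_left {κ : Type*} (s : Finset κ) (z : κ → Fin n₁ → F) (w : Fin n₂ → F) :
    pure2 (∑ i ∈ s, z i) w = ∑ i ∈ s, pure2 (z i) w := by
  funext p; simp [pure2, Finset.sum_apply, Finset.sum_mul]

theorem kronecker_mulVec_pure2 (a : Matrix (Fin n₁) (Fin n₁) F) (b : Matrix (Fin n₂) (Fin n₂) F)
    (z : Fin n₁ → F) (w : Fin n₂ → F) : (a ⊗ₖ b) *ᵥ pure2 z w = pure2 (a *ᵥ z) (b *ᵥ w) := by
  funext p
  simp only [Matrix.mulVec, dotProduct, Matrix.kroneckerMap_apply, pure2, Fintype.sum_prod_type, Finset.sum_mul]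
  refine Finset.sum_congr rfl fun i _ => ?_
  rw [Finset.mul_sum]
  exact Finset.sum_congr rfl fun j _ => by ring

/-- The isomorphism with the space of tensors. -/
noncomputable def tmap (e : ι ≃ Fin n₁ × Fin n₂) (P : GL ι F) : (Fin n₁ × Fin n₂ → F) →ₗ[F] (ι → F) :=
  act P ∘ₗ LinearMap.funLeft F F e

theorem tmap_apply (e : ι ≃ Fin n₁ × Fin n₂) (P : GL ι F) (x : Fin n₁ × Fin n₂ → F) :
    tmap e P x = (P : Matrix ι ι F) *ᵥ (x ∘ e) := act_apply P _

theorem tmap_injective (e : ι ≃ Fin n₁ × Fin n₂) (P : GL ι F) : Function.Injective (tmap e P) := by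
  intro x y h
  have h' : x ∘ e = y ∘ e := act_injective P h
  funext p
  simpa using congrFun h' (e.symm p)

theorem act_tensor_pure {e : ι ≃ Fin n₁ × Fin n₂} {P g : GL ι F}
    (hg : g ∈ Cfsg.Geo.tensorProductSubgroup n₁ n₂ e P) :
    ∃ (a : GL (Fin n₁) F) (b : GL (Fin n₂) F), ∀ z w,
      act g (tmap e P (pure2 z w)) = tmap e P (pure2 (act a z) (act b w)) := by
  obtain ⟨_, ⟨k, ⟨a, b, hk⟩, rfl⟩, rfl⟩ := hg
  refine ⟨a, b, fun z w => ?_⟩
  set m := Cfsg.Geo.glReindex (F := F) e.symm k with hm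
  have e1 : act m (pure2 z w ∘ e) = pure2 (act a z) (act b w) ∘ e := by
    rw [act_apply, hm]
    show Matrix.reindex e.symm e.symm (k : Matrix _ _ F) *ᵥ (pure2 z w ∘ e) = _
    rw [Matrix.reindex_apply, Matrix.submatrix_mulVec_equiv, hk]
    simp only [Equiv.symm_symm, Function.comp_assoc, Equiv.self_comp_symm, Function.comp_id]
    rw [kronecker_mulVec_pure2, ← act_apply, ← act_apply]
  show act (P * m * P⁻¹) (act P (pure2 z w ∘ e)) = act P (pure2 (act a z) (act b w) ∘ e)
  rw [act_mul, act_inv_act, act_mul, e1]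

theorem formOfGram_pure2 {f₁ : (Fin n₁ → F) → (Fin n₁ → F) → F} {f₂ : (Fin n₂ → F) → (Fin n₂ → F) → F}
    (h₁ : Cfsg.Geo.IsBilinearForm f₁) (h₂ : Cfsg.Geo.IsBilinearForm f₂) (z z' : Fin n₁ → F)
    (w w' : Fin n₂ → F) :
    Cfsg.Geo.formOfGram id (Cfsg.Geo.gramMatrix f₁ ⊗ₖ Cfsg.Geo.gramMatrix f₂) (pure2 z w) (pure2 z' w') =
      f₁ z z' * f₂ w w' := by
  have gen : ∀ {n : ℕ} (f : (Fin n → F) → (Fin n → F) → F), Cfsg.Geo.IsBilinearForm f → ∀ x y,
      f x y = ∑ i, ∑ j, x i * f (Pi.single i 1) (Pi.single j 1) * y j := by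
    intro n f hf x y
    let L : (Fin n → F) →ₗ[F] (Fin n → F) →ₗ[F] F :=
      LinearMap.mk₂ F f hf.add_left (fun c a b => by rw [hf.smul_left, smul_eq_mul]) hf.add_right
        (fun c a b => by rw [hf.smul_right, smul_eq_mul])
    show L x y = _
    conv_lhs => rw [pi_eq_sum_univ' x, pi_eq_sum_univ' y]
    simp only [map_sum, map_smul, LinearMap.sum_apply, LinearMap.smul_apply, smul_eq_mul, Finset.mul_sum]
    rw [Finset.sum_comm]
    refine Finset.sum_congr rfl fun i _ => Finset.sum_congr rfl fun j _ => ?_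
    show y j * (x i * f _ _) = _
    ring
  rw [gen f₁ h₁ z z', gen f₂ h₂ w w']
  simp only [Cfsg.Geo.formOfGram, Fintype.sum_prod_type, Matrix.kroneckerMap_apply, pure2, id,
    Cfsg.Geo.gramMatrix]
  rw [Finset.sum_mul_sum]
  refine Finset.sum_congr rfl fun i _ => Finset.sum_congr rfl fun k _ => ?_
  rw [Finset.sum_mul_sum]
  refine Finset.sum_congr rfl fun j _ => Finset.sum_congr rfl fun l _ => ?_
  ring

theorem eq_smul_of_pure2 {z z' : Fin n₁ → F} {w w' : Fin n₂ → F} (h : pure2 z w = pure2 z' w') {i : Fin n₁}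
    (hi : z i ≠ 0) : w = ((z i)⁻¹ * z' i) • w' := by
  funext j
  have := congrFun h (i, j)
  simp only [pure2] at this
  simp only [Pi.smul_apply, smul_eq_mul]
  rw [mul_assoc, ← this, inv_mul_cancel_left₀ hi]

end Pure

variable {Q : QuadraticForm F (ι → F)}

set_option quotPrecheck false in
local notation "B" => QuadraticMap.polar (⇑Q)

variable [Fintype F] (hQ : (QuadraticMap.polarBilin Q).Nondegenerate) {n₂ : ℕ}
include hQ

/-- A first factor of dimension three over the field with three elements. -/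
theorem three_tensor_between (hn : 5 ≤ Fintype.card ι) (hq : Fintype.card F = 3) (h4 : 4 ≤ n₂)
    {e : ι ≃ Fin 3 × Fin n₂} {P : GL ι F} {f₁ : (Fin 3 → F) → (Fin 3 → F) → F}
    {f₂ : (Fin n₂ → F) → (Fin n₂ → F) → F} (hf₁ : Cfsg.Geo.IsSymmetricForm f₁)
    (hf₂ : Cfsg.Geo.IsSymmetricForm f₂)
    (hT : Cfsg.Geo.IsTensorFormStructure id (QuadraticMap.polar Q) f₁ f₂ e P) :
    ∃ K : Subgroup (GL ι F),
      Cfsg.Geo.tensorProductSubgroup 3 n₂ e P ⊓ Cfsg.Geo.omegaGL Q < K ∧ K < Cfsg.Geo.omegaGL Q := by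
  have h3 : (3 : F) = 0 := by simpa [hq] using FiniteField.cast_card_eq_zero F
  have h2 : (2 : F) ≠ 0 := fun h => one_ne_zero (α := F) (by linear_combination h3 - h)
  have hsq : ∀ x : F, x ≠ 0 → x * x = 1 := fun x hx => by
    have := FiniteField.pow_card_sub_one_eq_one x hx
    rwa [hq, show 3 - 1 = 2 from rfl, sq] at this
  obtain ⟨c, hc, hT⟩ := hT
  set φ := tmap e P with hφ
  have hB : ∀ z w z' w', B (φ (pure2 z w)) (φ (pure2 z' w')) = c * (f₁ z z' * f₂ w w') := by
    intro z w z' w'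
    rw [hφ, tmap_apply, tmap_apply, hT, formOfGram_pure2 hf₁.bilinear hf₂.bilinear]
  have hQB : ∀ x, Q x = 2⁻¹ * B x x := fun x => by rw [B_self Q, inv_mul_cancel_left₀ h2]
  -- a frame of the first factor
  obtain ⟨u, hu⟩ : ∃ u : Fin 3 → Fin 3 → F, ∃ d : F, d ≠ 0 ∧ ∀ j l, f₁ (u j) (u l) = if j = l then d else 0 := by
    let L : LinearMap.BilinForm F (Fin 3 → F) :=
      LinearMap.mk₂ F f₁ hf₁.bilinear.add_left (fun c a b => by rw [hf₁.bilinear.smul_left, smul_eq_mul])
        hf₁.bilinear.add_right (fun c a b => by rw [hf₁.bilinear.smul_right, smul_eq_mul])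
    haveI : Invertible (2 : F) := invertibleOfNonzero h2
    have hLs : LinearMap.IsSymm L := ⟨fun x y => hf₁.symm x y⟩
    obtain ⟨v, hv⟩ := LinearMap.BilinForm.exists_orthogonal_basis hLs
    have hd : finrank F (Fin 3 → F) = 3 := Module.finrank_fin_fun F
    let v' : Fin 3 → Fin 3 → F := fun j => v (finCongr hd.symm j)
    have ho : ∀ j l, j ≠ l → f₁ (v' j) (v' l) = 0 := fun j l h =>
      (hv ((finCongr hd.symm).injective.ne h) : L (v' j) (v' l) = 0)
    have hne : ∀ j, f₁ (v' j) (v' j) ≠ 0 := by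
      intro j hj
      obtain ⟨y, hy⟩ := (hf₁.nondegenerate (v' j) (v.ne_zero _)).2
      apply hy
      have : L (v' j) = 0 := v.ext fun l => by
        rcases eq_or_ne l (finCongr hd.symm j) with rfl | hl
        · exact hj
        · exact hv hl.symm
      exact LinearMap.congr_fun this y
    have hpm : ∀ j l, f₁ (v' l) (v' l) = f₁ (v' j) (v' j) ∨ f₁ (v' l) (v' l) = -f₁ (v' j) (v' j) := fun j l => by
      have h1 := hsq _ (hne j)
      have h2 := hsq _ (hne l)
      rcases mul_eq_zero.1 (show (f₁ (v' l) (v' l) - f₁ (v' j) (v' j)) *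
        (f₁ (v' l) (v' l) + f₁ (v' j) (v' j)) = 0 by linear_combination h2 - h1) with h | h
      · exact Or.inl (sub_eq_zero.1 h)
      · exact Or.inr (eq_neg_of_add_eq_zero_left h)
    -- two of the three values agree
    have mk : ∀ a b d : Fin 3, a ≠ b → a ≠ d → b ≠ d → f₁ (v' b) (v' b) = f₁ (v' a) (v' a) →
        ∃ u : Fin 3 → Fin 3 → F, ∃ d : F, d ≠ 0 ∧ ∀ j l, f₁ (u j) (u l) = if j = l then d else 0 := by
      intro a b d hab had hbd e
      rcases hpm a d with e' | e'
      · refine ⟨![v' a, v' b, v' d], _, hne a, fun j l => ?_⟩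
        fin_cases j <;> fin_cases l <;>
          simp [e, e', ho a b hab, ho a d had, ho b d hbd, ho b a hab.symm, ho d a had.symm, ho d b hbd.symm]
      · refine ⟨![v' a + v' b, v' a - v' b, v' d], _, neg_ne_zero.2 (hne a), fun j l => ?_⟩
        have hsub : ∀ x y z, f₁ (x - y) z = f₁ x z - f₁ y z := fun x y z => by
          rw [show x - y = x + (-1 : F) • y by module, hf₁.bilinear.add_left, hf₁.bilinear.smul_left]; ring
        have hsub' : ∀ z x y, f₁ z (x - y) = f₁ z x - f₁ z y := fun z x y => by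
          rw [hf₁.symm z, hsub, hf₁.symm x, hf₁.symm y]
        fin_cases j <;> fin_cases l <;>
          simp [hsub, hsub', hf₁.bilinear.add_left, hf₁.bilinear.add_right, e, e', ho a b hab, ho a d had,
            ho b d hbd, ho b a hab.symm, ho d a had.symm, ho d b hbd.symm] <;>
          linear_combination f₁ (v' a) (v' a) * h3
    rcases hpm 0 1 with e | e
    · exact mk 0 1 2 (by decide) (by decide) (by decide) e
    rcases hpm 0 2 with e' | e'
    · exact mk 0 2 1 (by decide) (by decide) (by decide) e'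
    exact mk 1 2 0 (by decide) (by decide) (by decide) (e'.trans e.symm)
  obtain ⟨d, hd0, hu⟩ := hu
  have hudiag : ∀ j, f₁ (u j) (u j) = d := fun j => by rw [hu, if_pos rfl]
  have huoff : ∀ j l, j ≠ l → f₁ (u j) (u l) = 0 := fun j l h => by rw [hu, if_neg h]
  let L : LinearMap.BilinForm F (Fin 3 → F) :=
    LinearMap.mk₂ F f₁ hf₁.bilinear.add_left (fun c a b => by rw [hf₁.bilinear.smul_left, smul_eq_mul])
      hf₁.bilinear.add_right (fun c a b => by rw [hf₁.bilinear.smul_right, smul_eq_mul])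
  have hf₁sum : ∀ (α β : Fin 3 → F), f₁ (∑ j, α j • u j) (∑ j, β j • u j) = d * ∑ j, α j * β j := by
    intro α β
    show L _ _ = _
    simp only [map_sum, map_smul, LinearMap.sum_apply, LinearMap.smul_apply, smul_eq_mul, Finset.mul_sum]
    refine Finset.sum_congr rfl fun j _ => ?_
    rw [Finset.sum_eq_single j]
    · show β j * (α j * f₁ (u j) (u j)) = _
      rw [hudiag]; ring
    · intro l _ hl
      show β j * (α l * f₁ (u l) (u j)) = 0
      rw [huoff l j hl]; ring
    · simp
  have hspan : ∀ z, ∃ α : Fin 3 → F, ∑ j, α j • u j = z := by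
    have hli : LinearIndependent F u := by
      rw [Fintype.linearIndependent_iff]
      intro α hα j
      have h1 := hf₁sum α (Pi.single j 1)
      rw [hα] at h1
      have h0 : f₁ 0 (∑ l, (Pi.single j 1 : Fin 3 → F) l • u l) = 0 := by
        simpa using hf₁.bilinear.smul_left 0 0 (∑ l, (Pi.single j 1 : Fin 3 → F) l • u l)
      rw [h0, Finset.sum_eq_single j (fun l _ hl => by simp [hl]) (by simp)] at h1
      simpa [hd0] using h1.symm
    intro z
    have : z ∈ Submodule.span F (Set.range u) := by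
      rw [hli.span_eq_top_of_card_eq_finrank (by simp)]; trivial
    exact (Submodule.mem_span_range_iff_exists_fun F).1 this
  -- the blocks
  let W : Fin 3 → Submodule F (ι → F) := fun j =>
    LinearMap.range (φ ∘ₗ (LinearMap.pi fun p => u j p.1 • LinearMap.proj p.2 :
      (Fin n₂ → F) →ₗ[F] (Fin 3 × Fin n₂ → F)))
  have hW : ∀ j x, x ∈ W j ↔ ∃ w, φ (pure2 (u j) w) = x := fun j x => Iff.rfl
  have hu0 : ∀ j, u j ≠ 0 := fun j h => hd0 (by
    rw [← hudiag j, h]; simpa using hf₁.bilinear.smul_left 0 0 (0 : Fin 3 → F))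
  have hWorth : ∀ j l, j ≠ l → ∀ x ∈ W j, ∀ y ∈ W l, B x y = 0 := by
    rintro j l h x ⟨w, rfl⟩ y ⟨w', rfl⟩
    exact (hB _ _ _ _).trans (by rw [huoff j l h, zero_mul, mul_zero])
  have hWdim : finrank F (W 0) = n₂ := by
    have hinj : ∀ w w', φ (pure2 (u 0) w) = φ (pure2 (u 0) w') → w = w' := fun w w' h => by
      obtain ⟨i, hi⟩ := Function.ne_iff.1 (hu0 0)
      rw [eq_smul_of_pure2 (tmap_injective e P h) hi, inv_mul_cancel₀ hi, one_smul]
    refine (LinearMap.finrank_range_of_inj ?_).trans (Module.finrank_fin_fun F)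
    exact fun w w' h => hinj w w' h
  obtain ⟨_, ⟨s, rfl⟩, hp0, hQp⟩ := exists_singular Q (D := W 0) (by omega)
  have hs0 : s ≠ 0 := fun h => hp0 (by
    show φ (pure2 (u 0) s) = 0
    rw [h, show pure2 (u 0) (0 : Fin n₂ → F) = 0 by funext p; simp [pure2], map_zero])
  change Q (φ (pure2 (u 0) s)) = 0 at hQp
  have hss : f₂ s s = 0 := by
    have := B_self_of_singular Q hQp
    rw [hB, hudiag] at this
    simpa [hc, hd0] using this
  let L₂ : LinearMap.BilinForm F (Fin n₂ → F) :=
    LinearMap.mk₂ F f₂ hf₂.bilinear.add_left (fun c a b => by rw [hf₂.bilinear.smul_left, smul_eq_mul])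
      hf₂.bilinear.add_right (fun c a b => by rw [hf₂.bilinear.smul_right, smul_eq_mul])
  obtain ⟨w', hw'⟩ : ∃ w', f₂ s w' = 1 := by
    obtain ⟨y, hy⟩ := (hf₂.nondegenerate s hs0).2
    exact ⟨(f₂ s y)⁻¹ • y, by rw [hf₂.bilinear.smul_right, inv_mul_cancel₀ hy]⟩
  obtain ⟨w, hw, hws⟩ : ∃ w ∈ LinearMap.ker (L₂ s), w ∉ F ∙ s := SetLike.not_le_iff_exists.1 fun h => by
    have h1 := (Submodule.finrank_mono h).trans_eq (finrank_span_singleton hs0)
    have h2 := LinearMap.finrank_range_add_finrank_ker (L₂ s)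
    have h3 : finrank F (LinearMap.range (L₂ s)) ≤ 1 :=
      (Submodule.finrank_le _).trans_eq (Module.finrank_self F)
    rw [Module.finrank_fin_fun] at h2
    omega
  have hw : f₂ s w = 0 := hw
  refine exists_between (S := Cfsg.stabilizing (glToMat ι F) {x | ∃ j, x ∈ W j}) (fun g hg hgΩ => ?_) ?_ ?_
  · obtain ⟨a, b, hab⟩ := act_tensor_pure hg
    have hgI := omega_le_iso hgΩ
    have key : ∀ z z', f₁ (act a z) (act a z') * f₂ (act b s) (act b w') = f₁ z z' := fun z z' => by
      have := B_act hgI (φ (pure2 z s)) (φ (pure2 z' w'))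
      rw [hab, hab, hB, hB, hw', mul_one] at this
      exact mul_left_cancel₀ hc this
    set μ := f₂ (act b s) (act b w')
    have hμ : μ ≠ 0 := fun h => hd0 (by rw [← hudiag 0, ← key, h, mul_zero])
    choose α hα using fun j => hspan (act a (u j))
    have hdot : ∀ j l, (∑ k, α j k * α l k) * μ = if j = l then 1 else 0 := by
      intro j l
      have := key (u j) (u l)
      rw [← hα j, ← hα l, hf₁sum, hu, mul_assoc] at this
      split_ifs at this ⊢ with h
      · exact mul_left_cancel₀ hd0 (by rw [this, mul_one])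
      · exact (mul_eq_zero.1 this).resolve_left hd0
    have hμ1 : μ = 1 := by
      let A : Matrix (Fin 3) (Fin 3) F := Matrix.of α
      have hA : μ • (A * Aᵀ) = 1 := by
        ext j l
        simp only [Matrix.smul_apply, Matrix.mul_apply, Matrix.transpose_apply, A, Matrix.of_apply,
          Matrix.one_apply, smul_eq_mul]
        rw [mul_comm]
        exact hdot j l
      have hdet := congrArg Matrix.det hA
      rw [Matrix.det_smul, Matrix.det_mul, Matrix.det_transpose, Matrix.det_one, Fintype.card_fin] at hdet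
      have hA0 : A.det ≠ 0 := fun h => by rw [h] at hdet; simp at hdet
      rw [hsq _ hA0, mul_one] at hdet
      have := hsq μ hμ
      linear_combination hdet - μ * this
    have hline : ∀ j, ∃ (l : Fin 3) (c' : F), act a (u j) = c' • u l := by
      intro j
      have h1 := hdot j j
      rw [if_pos rfl, hμ1, mul_one, Fin.sum_univ_three] at h1
      have hsingle : ∃ l, ∀ k, k ≠ l → α j k = 0 := by
        rcases eq_or_ne (α j 0) 0 with e0 | e0 <;> rcases eq_or_ne (α j 1) 0 with e1 | e1 <;>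
          rcases eq_or_ne (α j 2) 0 with e2 | e2
        all_goals first
          | (refine ⟨0, fun k hk => ?_⟩; fin_cases k <;> first | exact absurd rfl hk | assumption; done)
          | (refine ⟨1, fun k hk => ?_⟩; fin_cases k <;> first | exact absurd rfl hk | assumption; done)
          | (refine ⟨2, fun k hk => ?_⟩; fin_cases k <;> first | exact absurd rfl hk | assumption; done)
          | (exfalso; rw [e0, hsq _ e1, hsq _ e2] at h1; apply one_ne_zero (α := F); linear_combination h1; done)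
          | (exfalso; rw [hsq _ e0, e1, hsq _ e2] at h1; apply one_ne_zero (α := F); linear_combination h1; done)
          | (exfalso; rw [hsq _ e0, hsq _ e1, e2] at h1; apply one_ne_zero (α := F); linear_combination h1; done)
          | (exfalso; rw [hsq _ e0, hsq _ e1, hsq _ e2] at h1; apply one_ne_zero (α := F)
             linear_combination h3 - h1; done)
      obtain ⟨l, hl⟩ := hsingle
      refine ⟨l, α j l, ?_⟩
      rw [← hα j, Finset.sum_eq_single l (fun k _ hk => by rw [hl k hk, zero_smul]) (by simp)]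
    refine mem_stabilizing_of_forward ?_
    rintro _ ⟨j, v, rfl⟩
    obtain ⟨l, c', hl⟩ := hline j
    refine ⟨l, c' • act b v, ?_⟩
    show φ (pure2 (u l) (c' • act b v)) = act g (φ (pure2 (u j) v))
    rw [hab, hl, pure2_smul_left, pure2_smul_right]
  · set p := φ (pure2 (u 0) s)
    set q := φ (pure2 (u 0) w)
    have hpq : B p q = 0 := by rw [hB, hw, mul_zero, mul_zero]
    have hpW : p ∈ W 0 := ⟨s, rfl⟩
    have hqW : q ∈ W 0 := ⟨w, rfl⟩
    refine ⟨sg Q p q, sg_mem_omega hQ hn p q, mem_stabilizing_of_forward fun x ⟨j, hx⟩ => ⟨j, ?_⟩, fun h => ?_⟩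
    · rcases eq_or_ne j 0 with rfl | hj
      · rw [act_sg Q hQp hpq]
        exact (W 0).sub_mem ((W 0).add_mem hx ((W 0).smul_mem _ hqW)) ((W 0).smul_mem _ hpW)
      · rwa [act_sg_fix Q hQp hpq (hWorth 0 j hj.symm p hpW x hx) (hWorth 0 j hj.symm q hqW x hx)]
    obtain ⟨a, b, hab⟩ := act_tensor_pure h
    set k := B q (φ (pure2 (u 0) w')) + Q q * (c * d)
    set w'' := w' + (c * d) • w - k • s with hw''
    have h0 : act (sg Q p q) (φ (pure2 (u 0) w')) = φ (pure2 (u 0) w'') := by
      rw [act_sg Q hQp hpq, hB (u 0) s, hudiag, hw', mul_one, hw'', sub_eq_add_neg, sub_eq_add_neg, ← neg_smul,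
        ← neg_smul, pure2_add_right, pure2_add_right, pure2_smul_right, pure2_smul_right, map_add, map_add,
        map_smul, map_smul]
    have h1 : act (sg Q p q) (φ (pure2 (u 1) w')) = φ (pure2 (u 1) w') :=
      act_sg_fix Q hQp hpq (by rw [hB, huoff 0 1 (by decide), zero_mul, mul_zero])
        (by rw [hB, huoff 0 1 (by decide), zero_mul, mul_zero])
    have h2' := hab (u 0 + u 1) w'
    rw [pure2_add_left, map_add, map_add, h0, h1, ← map_add] at h2'
    have e := tmap_injective e P h2'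
    -- pairing the first factor against `u 0` and `u 1`
    have pair : ∀ j (i₂ : Fin n₂), L (u j) (fun i₁ => (pure2 (u 0) w'' + pure2 (u 1) w') (i₁, i₂)) =
        L (u j) (act a (u 0 + u 1)) * act b w' i₂ := by
      intro j i₂
      rw [e, mul_comm, ← smul_eq_mul, ← map_smul]
      congr 1
      funext i₁
      simp [pure2, mul_comm]
    have hlin : ∀ j (i₂ : Fin n₂), L (u j) (fun i₁ => (pure2 (u 0) w'' + pure2 (u 1) w') (i₁, i₂)) =
        f₁ (u j) (u 0) * w'' i₂ + f₁ (u j) (u 1) * w' i₂ := by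
      intro j i₂
      have : (fun i₁ => (pure2 (u 0) w'' + pure2 (u 1) w') (i₁, i₂)) = w'' i₂ • u 0 + w' i₂ • u 1 := by
        funext i₁; simp [pure2, mul_comm]
      rw [this, map_add, map_smul, map_smul]
      show w'' i₂ * f₁ (u j) (u 0) + w' i₂ * f₁ (u j) (u 1) = _
      ring
    set κ₀ := L (u 0) (act a (u 0 + u 1)) / d
    set κ₁ := L (u 1) (act a (u 0 + u 1)) / d
    have hw2 : w'' = κ₀ • act b w' := funext fun i => by
      have := (hlin 0 i).symm.trans (pair 0 i)
      rw [hudiag, huoff 0 1 (by decide), zero_mul, add_zero] at this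
      simp only [Pi.smul_apply, smul_eq_mul, κ₀]
      field_simp
      linear_combination this
    have hw1 : w' = κ₁ • act b w' := funext fun i => by
      have := (hlin 1 i).symm.trans (pair 1 i)
      rw [hudiag, huoff 1 0 (by decide), zero_mul, zero_add] at this
      simp only [Pi.smul_apply, smul_eq_mul, κ₁]
      field_simp
      linear_combination this
    have hκ : κ₁ ≠ 0 := fun h => by
      rw [h, zero_smul] at hw1
      rw [hw1] at hw'
      simp [show f₂ s 0 = 0 by simpa using hf₂.bilinear.smul_right 0 s 0] at hw'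
    have hfac : w'' = (κ₀ / κ₁) • w' := by
      conv_rhs => rw [hw1, smul_smul, div_mul_cancel₀ _ hκ]
      exact hw2
    have hs1 : f₂ s w'' = 1 := by
      rw [hw'', sub_eq_add_neg, ← neg_smul, hf₂.bilinear.add_right, hf₂.bilinear.add_right,
        hf₂.bilinear.smul_right, hf₂.bilinear.smul_right, hw', hw, hss]
      ring
    have hr : κ₀ / κ₁ = 1 := by
      rw [hfac, hf₂.bilinear.smul_right, hw', mul_one] at hs1
      exact hs1
    rw [hr, one_smul, hw''] at hfac
    have hcd : c * d ≠ 0 := mul_ne_zero hc hd0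
    refine hws (Submodule.mem_span_singleton.2 ⟨(c * d)⁻¹ * k, ?_⟩)
    have : (c * d) • w = k • s := by linear_combination (norm := module) hfac
    rw [← smul_smul, ← this, smul_smul, inv_mul_cancel₀ hcd, one_smul]
  · set p := φ (pure2 (u 1) s)
    set q := φ (pure2 (u 2) s)
    have hQp' : Q p = 0 := by rw [hQB, hB, hss, mul_zero, mul_zero, mul_zero]
    have hQq : Q q = 0 := by rw [hQB, hB, hss, mul_zero, mul_zero, mul_zero]
    have hpq : B p q = 0 := by rw [hB, hss, mul_zero, mul_zero]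
    refine ⟨sg Q p q, sg_mem_omega hQ hn p q, fun h => ?_⟩
    set x := φ (pure2 (u 1) w')
    obtain ⟨j, hj⟩ := (mem_stabilizing_iff.1 h x).1 ⟨1, w', rfl⟩
    have hqx : B q x = 0 := by rw [hB, huoff 2 1 (by decide), zero_mul, mul_zero]
    have hpx : B p x = c * d := by rw [hB, hudiag, hw', mul_one]
    rw [act_sg Q hQp' hpq, hqx, hQq, hpx, zero_mul, add_zero, zero_smul, sub_zero] at hj
    rcases eq_or_ne j 1 with rfl | hj1
    · have h1 := (W 1).sub_mem hj ⟨w', rfl⟩
      change x + (c * d) • q - x ∈ W 1 at h1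
      rw [add_sub_cancel_left] at h1
      have := hWorth 1 2 (by decide) _ h1 (φ (pure2 (u 2) w')) ⟨w', rfl⟩
      rw [B_smul_left Q, hB, hudiag, hw', mul_one] at this
      exact mul_ne_zero (mul_ne_zero hc hd0) (mul_ne_zero hc hd0) this
    · have := hWorth j 1 hj1 _ hj (φ (pure2 (u 1) s)) ⟨s, rfl⟩
      rw [B_add_left Q, B_smul_left Q, B_comm Q x, hpx, B_comm Q q, hpq, mul_zero, add_zero] at this
      exact mul_ne_zero hc hd0 this

/-- A first factor of type `Sp₂(2)`. -/
theorem two_tensor_between (hn : 5 ≤ Fintype.card ι) (hq : Fintype.card F = 2) (h3' : 3 ≤ n₂)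
    {e : ι ≃ Fin 2 × Fin n₂} {P : GL ι F} {f₁ : (Fin 2 → F) → (Fin 2 → F) → F}
    {f₂ : (Fin n₂ → F) → (Fin n₂ → F) → F} (hf₁ : Cfsg.Geo.IsSymplecticForm f₁)
    (hf₂ : Cfsg.Geo.IsSymplecticForm f₂)
    (hT : Cfsg.Geo.IsTensorFormStructure id (QuadraticMap.polar Q) f₁ f₂ e P)
    (hpure : ∀ (z : Fin 2 → F) (w : Fin n₂ → F), Q (tmap e P (pure2 z w)) = 0) :
    ∃ K : Subgroup (GL ι F),
      Cfsg.Geo.tensorProductSubgroup 2 n₂ e P ⊓ Cfsg.Geo.omegaGL Q < K ∧ K < Cfsg.Geo.omegaGL Q := by
  classical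
  have two : ∀ x : F, x = 0 ∨ x = 1 := by
    intro x
    have h : ({0, 1} : Finset F) = Finset.univ := Finset.eq_univ_of_card _ (by simp [hq])
    have := h.symm ▸ Finset.mem_univ x
    simpa using this
  have h2 : (2 : F) = 0 := by
    rcases two 2 with h | h
    · exact h
    · exact absurd (by linear_combination h : (1 : F) = 0) one_ne_zero
  obtain ⟨c, hc, hT⟩ := hT
  obtain rfl : c = 1 := (two c).resolve_left hc
  set φ := tmap e P with hφ
  have hB : ∀ z w z' w', B (φ (pure2 z w)) (φ (pure2 z' w')) = f₁ z z' * f₂ w w' := by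
    intro z w z' w'
    rw [hφ, tmap_apply, tmap_apply, hT, formOfGram_pure2 hf₁.bilinear hf₂.bilinear, one_mul]
  set e₁ : Fin 2 → F := ![1, 0] with he₁
  set e₂ : Fin 2 → F := ![0, 1] with he₂
  have hz : ∀ z : Fin 2 → F, z = z 0 • e₁ + z 1 • e₂ := fun z => by
    funext i; fin_cases i <;> simp [he₁, he₂]
  have f11 : f₁ e₁ e₁ = 0 := hf₁.alternating _
  have f22 : f₁ e₂ e₂ = 0 := hf₁.alternating _
  have f12 : f₁ e₁ e₂ = 1 := by
    refine (two _).resolve_left fun h => ?_
    obtain ⟨y, hy⟩ := (hf₁.nondegenerate e₁ (fun h => by simpa [he₁] using congrFun h 0)).2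
    apply hy
    rw [hz y, hf₁.bilinear.add_right, hf₁.bilinear.smul_right, hf₁.bilinear.smul_right, f11, h]; ring
  have f21 : f₁ e₂ e₁ = 1 := by rw [hf₁.skew, f12]; linear_combination -h2
  have hvec : ∀ z w, pure2 z w = z 0 • pure2 e₁ w + z 1 • pure2 e₂ w := fun z (w : Fin n₂ → F) => by
    conv_lhs => rw [hz z]
    rw [pure2_add_left, pure2_smul_left, pure2_smul_left]
  -- the operator of order three on the first factor
  let σ : GL (Fin 2) F :=
    { val := !![0, 1; 1, 1]
      inv := !![1, 1; 1, 0]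
      val_inv := by ext i j; fin_cases i <;> fin_cases j <;> simp [Matrix.mul_apply, Fin.sum_univ_two] <;>
        linear_combination h2
      inv_val := by ext i j; fin_cases i <;> fin_cases j <;> simp [Matrix.mul_apply, Fin.sum_univ_two] <;>
        linear_combination h2 }
  let k0 : GL (Fin 2 × Fin n₂) F :=
    { val := (σ : Matrix (Fin 2) (Fin 2) F) ⊗ₖ (1 : Matrix (Fin n₂) (Fin n₂) F)
      inv := ((σ⁻¹ : GL (Fin 2) F) : Matrix (Fin 2) (Fin 2) F) ⊗ₖ (1 : Matrix (Fin n₂) (Fin n₂) F)
      val_inv := by rw [← Matrix.mul_kronecker_mul, Units.mul_inv, Matrix.one_mul, Matrix.one_kronecker_one]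
      inv_val := by rw [← Matrix.mul_kronecker_mul, Units.inv_mul, Matrix.one_mul, Matrix.one_kronecker_one] }
  set Z : GL ι F := MulAut.conj P (Cfsg.Geo.glReindex (F := F) e.symm k0) with hZ
  have hZT : Z ∈ Cfsg.Geo.tensorProductSubgroup 2 n₂ e P :=
    ⟨_, ⟨k0, ⟨σ, 1, by simp [k0]⟩, rfl⟩, rfl⟩
  have hZ1 : ∀ z w, act Z (φ (pure2 z w)) = φ (pure2 (act σ z) w) := by
    intro z w
    have e1 : act (Cfsg.Geo.glReindex (F := F) e.symm k0) (pure2 z w ∘ e) = pure2 (act σ z) w ∘ e := by
      rw [act_apply]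
      show Matrix.reindex e.symm e.symm (k0 : Matrix _ _ F) *ᵥ (pure2 z w ∘ e) = _
      rw [Matrix.reindex_apply, Matrix.submatrix_mulVec_equiv]
      simp only [Equiv.symm_symm, Function.comp_assoc, Equiv.self_comp_symm, Function.comp_id, k0]
      rw [kronecker_mulVec_pure2, ← act_apply, Matrix.one_mulVec]
    show act (P * _ * P⁻¹) (act P (pure2 z w ∘ e)) = act P (pure2 (act σ z) w ∘ e)
    rw [act_mul, act_inv_act, act_mul, e1]
  have σ1 : act σ e₁ = e₂ := by
    funext i; fin_cases i <;> simp [act_apply, he₁, he₂, σ]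
  have σ2 : act σ e₂ = e₁ + e₂ := by
    funext i; fin_cases i <;> simp [act_apply, he₁, he₂, σ]
  have hspan : ∀ g h : GL ι F, (∀ w, act g (φ (pure2 e₁ w)) = act h (φ (pure2 e₁ w))) →
      (∀ w, act g (φ (pure2 e₂ w)) = act h (φ (pure2 e₂ w))) → g = h := by
    intro g h h1 h2'
    refine gl_ext fun x => ?_
    obtain ⟨y, rfl⟩ : ∃ y, φ y = x := ⟨(act P⁻¹ x) ∘ e.symm, by
      show act P (((act P⁻¹ x) ∘ e.symm) ∘ e) = x
      rw [Function.comp_assoc, Equiv.symm_comp_self, Function.comp_id, act_act_inv]⟩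
    have : y = pure2 e₁ (fun j => y (0, j)) + pure2 e₂ (fun j => y (1, j)) := by
      funext ⟨i, j⟩; fin_cases i <;> simp [pure2, he₁, he₂]
    rw [this, map_add, map_add, map_add, h1, h2']
  refine exists_between (S := Subgroup.normalizer ({Z, Z⁻¹} : Set (GL ι F))) (fun g hg _ => ?_) ?_ ?_
  · obtain ⟨_, ⟨k, ⟨a, b, hk⟩, rfl⟩, rfl⟩ := hg
    have key : k * k0 * k⁻¹ = k0 ∨ k * k0 * k⁻¹ = k0⁻¹ := by
      have hdet : (a : Matrix (Fin 2) (Fin 2) F).det ≠ 0 := (Matrix.isUnits_det_units a).ne_zero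
      have hn' : (a : Matrix (Fin 2) (Fin 2) F) * (!![0, 1; 1, 1] : Matrix (Fin 2) (Fin 2) F) =
            (!![0, 1; 1, 1] : Matrix (Fin 2) (Fin 2) F) * (a : Matrix (Fin 2) (Fin 2) F) ∨
          (a : Matrix (Fin 2) (Fin 2) F) * (!![0, 1; 1, 1] : Matrix (Fin 2) (Fin 2) F) =
            (!![1, 1; 1, 0] : Matrix (Fin 2) (Fin 2) F) * (a : Matrix (Fin 2) (Fin 2) F) := by
        have e' : (a : Matrix (Fin 2) (Fin 2) F) = !![a.val 0 0, a.val 0 1; a.val 1 0, a.val 1 1] :=
          Matrix.eta_fin_two _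
        rw [e'] at hdet ⊢
        generalize a.val 0 0 = p, a.val 0 1 = q, a.val 1 0 = r, a.val 1 1 = s at *
        have h11 : (1 : F) + 1 = 0 := by linear_combination h2
        rcases two p with rfl | rfl <;> rcases two q with rfl | rfl <;> rcases two r with rfl | rfl <;>
          rcases two s with rfl | rfl <;> simp [Matrix.det_fin_two, h11] at hdet ⊢
      rcases hn' with h | h
      · left
        rw [mul_inv_eq_iff_eq_mul]
        refine Units.ext ?_
        simp only [Units.val_mul, hk, k0, ← Matrix.mul_kronecker_mul, Matrix.one_mul, Matrix.mul_one]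
        exact congrArg (· ⊗ₖ _) h
      · right
        rw [mul_inv_eq_iff_eq_mul]
        refine Units.ext ?_
        simp only [Units.val_mul, hk, k0, Units.inv_mk, ← Matrix.mul_kronecker_mul, Matrix.one_mul, Matrix.mul_one]
        exact congrArg (· ⊗ₖ _) h
    let Ψ := (Cfsg.Geo.glReindex (F := F) e.symm).trans (MulAut.conj P)
    show Ψ k ∈ Subgroup.normalizer ({Ψ k0, (Ψ k0)⁻¹} : Set (GL ι F))
    have hconj : ∀ n ∈ ({Ψ k0, (Ψ k0)⁻¹} : Set (GL ι F)), Ψ k * n * (Ψ k)⁻¹ ∈ ({Ψ k0, (Ψ k0)⁻¹} : Set (GL ι F)) := by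
      intro n hn'
      rcases hn' with rfl | rfl
      · simp only [← map_inv, ← map_mul]
        rcases key with h | h <;> rw [h] <;> simp
      · simp only [← map_inv, ← map_mul]
        rw [show k * k0⁻¹ * k⁻¹ = (k * k0 * k⁻¹)⁻¹ by group]
        rcases key with h | h <;> rw [h] <;> simp
    intro n
    refine ⟨hconj n, fun hn' => ?_⟩
    have hfin : ({Ψ k0, (Ψ k0)⁻¹} : Set (GL ι F)).Finite := (Set.finite_singleton _).insert _
    have himg := Set.eq_of_subset_of_ncard_le (Set.image_subset_iff.2 hconj)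
      (Set.ncard_image_of_injective _ (MulAut.conj (Ψ k)).injective).ge hfin
    obtain ⟨m', hm', he'⟩ := himg.ge hn'
    have : m' = n := (MulAut.conj (Ψ k)).injective he'
    exact this ▸ hm'
  · obtain ⟨b, b', hbb, hli⟩ : ∃ b b' : Fin n₂ → F, f₂ b b' = 0 ∧ b ≠ 0 ∧ b' ∉ F ∙ b := by
      let L₂ : LinearMap.BilinForm F (Fin n₂ → F) :=
        LinearMap.mk₂ F f₂ hf₂.bilinear.add_left (fun c a b => by rw [hf₂.bilinear.smul_left, smul_eq_mul])
          hf₂.bilinear.add_right (fun c a b => by rw [hf₂.bilinear.smul_right, smul_eq_mul])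
      set b : Fin n₂ → F := Pi.single ⟨0, by omega⟩ 1
      have hb : b ≠ 0 := by simp [b]
      obtain ⟨b', hb', hbs⟩ : ∃ y ∈ LinearMap.ker (L₂ b), y ∉ F ∙ b := SetLike.not_le_iff_exists.1 fun h => by
        have h1 := (Submodule.finrank_mono h).trans_eq (finrank_span_singleton hb)
        have h2' := LinearMap.finrank_range_add_finrank_ker (L₂ b)
        have h3 : finrank F (LinearMap.range (L₂ b)) ≤ 1 :=
          (Submodule.finrank_le _).trans_eq (Module.finrank_self F)
        rw [Module.finrank_fin_fun] at h2'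
        omega
      exact ⟨b, b', hb', hb, hbs⟩
    set u := φ (pure2 e₁ b + pure2 e₂ b') with hu
    set v := act Z u with hv
    have hv' : v = φ (pure2 e₂ b) + (φ (pure2 e₁ b') + φ (pure2 e₂ b')) := by
      rw [hv, hu, map_add, map_add, hZ1, hZ1, σ1, σ2, pure2_add_left, map_add]
    have hb'b : f₂ b' b = 0 := by rw [hf₂.skew, hbb, neg_zero]
    have hQu : Q u = 0 := by rw [hu, map_add, Q_add Q, hpure, hpure, hB, hbb]; ring
    have hQv : Q v = 0 := by
      rw [hv', Q_add Q, Q_add Q, hpure, hpure, hpure, B_add_right Q, hB, hB, hB, hbb, hf₂.alternating]; ring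
    have huv : B u v = 0 := by
      rw [hv', hu, map_add, B_add_left Q, B_add_right Q, B_add_right Q, B_add_right Q, B_add_right Q, hB, hB, hB,
        hB, hB, hB, hbb, hb'b, hf₂.alternating, hf₂.alternating]
      ring
    have hneg : ∀ x : ι → F, -x = x := fun x => by
      rw [← one_smul F x, ← neg_smul]
      congr 1
      linear_combination -h2
    have hρ : ∀ x, act (sg Q u v) x = x + B u x • v + B v x • u := fun x => by
      rw [act_sg Q hQu huv, hQv, zero_mul, add_zero, sub_eq_add_neg, hneg]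
    have hBu1 : ∀ w, B u (φ (pure2 e₁ w)) = f₂ b' w := fun w => by
      rw [hu, map_add, B_add_left Q, hB, hB, f11, f21]; ring
    have hBu2 : ∀ w, B u (φ (pure2 e₂ w)) = f₂ b w := fun w => by
      rw [hu, map_add, B_add_left Q, hB, hB, f12, f22]; ring
    have hBv1 : ∀ w, B v (φ (pure2 e₁ w)) = f₂ b w + f₂ b' w := fun w => by
      rw [hv', B_add_left Q, B_add_left Q, hB, hB, hB, f11, f21]; ring
    have hBv2 : ∀ w, B v (φ (pure2 e₂ w)) = f₂ b' w := fun w => by
      rw [hv', B_add_left Q, B_add_left Q, hB, hB, hB, f12, f22]; ring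
    have hZv : act Z v = u + v := by
      rw [hv', map_add, map_add, hZ1, hZ1, hZ1, σ1, σ2, pure2_add_left, pure2_add_left, map_add, map_add, hu,
        map_add]
      abel
    have hcomm : sg Q u v * Z = Z * sg Q u v := by
      refine hspan _ _ (fun w => ?_) (fun w => ?_)
      · rw [act_mul, act_mul, hZ1, σ1, hρ, hρ, hBu2, hBv2, hBu1, hBv1, map_add, map_add, map_smul, map_smul,
          hZ1, σ1, hZv, ← hv]
        match_scalars <;> first | ring1 | linear_combination -f₂ b' w * h2
      · rw [act_mul, act_mul, hZ1, σ2, pure2_add_left, map_add, hρ (φ _ + φ _), B_add_right Q, B_add_right Q,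
          hBu1, hBu2, hBv1, hBv2, hρ, hBu2, hBv2, map_add, map_add, map_smul, map_smul, hZ1, σ2,
          pure2_add_left, map_add, hZv, ← hv]
        match_scalars <;> first | ring1 | linear_combination f₂ b' w * h2
    refine ⟨sg Q u v, sg_mem_omega hQ hn u v, ?_, fun h => ?_⟩
    · intro n
      have hfix : ∀ n ∈ ({Z, Z⁻¹} : Set (GL ι F)), sg Q u v * n * (sg Q u v)⁻¹ = n := by
        rintro n (rfl | rfl)
        · rw [hcomm, mul_inv_cancel_right]
        · exact mul_inv_eq_of_eq_mul ((show Commute (sg Q u v) Z from hcomm).inv_right.eq)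
      refine ⟨fun hn' => by rw [hfix n hn']; exact hn', fun hn' => ?_⟩
      have h' := hfix _ hn'
      have : sg Q u v * n * (sg Q u v)⁻¹ = n := mul_left_cancel (mul_right_cancel h')
      rwa [this] at hn'
    obtain ⟨hb0, hb's⟩ := hli
    obtain ⟨w, hw0, hw1⟩ : ∃ w, f₂ b w = 0 ∧ f₂ b' w = 1 := by
      let L₂ : LinearMap.BilinForm F (Fin n₂ → F) :=
        LinearMap.mk₂ F f₂ hf₂.bilinear.add_left (fun c a b => by rw [hf₂.bilinear.smul_left, smul_eq_mul])
          hf₂.bilinear.add_right (fun c a b => by rw [hf₂.bilinear.smul_right, smul_eq_mul])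
      by_contra hc'
      push Not at hc'
      have hker : ∀ y, L₂ b y = 0 → L₂ b' y = 0 := fun y hy => (two _).resolve_right (hc' y hy)
      obtain ⟨y₀, hy₀⟩ := (hf₂.nondegenerate b hb0).2
      have hy1 : f₂ b y₀ = 1 := (two _).resolve_left hy₀
      refine hb's (Submodule.mem_span_singleton.2 ⟨f₂ b' y₀, ?_⟩)
      by_contra hne
      obtain ⟨y, hy⟩ := (hf₂.nondegenerate (f₂ b' y₀ • b - b') (sub_ne_zero.2 hne)).2
      apply hy
      show L₂ (f₂ b' y₀ • b - b') y = 0
      have hm := hker (y - L₂ b y • y₀) (by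
        rw [map_sub, map_smul, show L₂ b y₀ = 1 from hy1]; simp)
      rw [map_sub, map_smul] at hm
      rw [map_sub, map_smul, LinearMap.sub_apply, LinearMap.smul_apply]
      simp only [smul_eq_mul] at hm ⊢
      show L₂ b' y₀ * L₂ b y - L₂ b' y = 0
      linear_combination -hm
    obtain ⟨a, c', hac⟩ := act_tensor_pure h
    have h1 := hac e₂ w
    rw [hρ, hBu2, hBv2, hw0, hw1, zero_smul, add_zero, one_smul, hu, ← map_add] at h1
    have h2' : pure2 (act a e₂) (act c' w) = pure2 e₁ b + pure2 e₂ (w + b') := by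
      rw [← tmap_injective e P h1, pure2_add_right]; abel
    set A := act a e₂
    set C := act c' w
    have c0 : ∀ j, A 0 * C j = b j := fun j => by
      simpa [pure2, he₁, he₂] using congrFun h2' (0, j)
    have c1 : ∀ j, A 1 * C j = w j + b' j := fun j => by
      simpa [pure2, he₁, he₂] using congrFun h2' (1, j)
    have hA0 : A 0 = 1 := (two _).resolve_left fun h0 => hb0 (funext fun j => by
      rw [← c0 j, h0, zero_mul]; rfl)
    have hwb : w + b' = A 1 • b := funext fun j => by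
      simp only [Pi.add_apply, Pi.smul_apply, smul_eq_mul]
      rw [← c1, ← c0, hA0, one_mul]
    have := congrArg (f₂ b') hwb
    rw [hf₂.bilinear.add_right, hw1, hf₂.alternating, hf₂.bilinear.smul_right, hb'b] at this
    simp at this
  · let L₂ : LinearMap.BilinForm F (Fin n₂ → F) :=
      LinearMap.mk₂ F f₂ hf₂.bilinear.add_left (fun c a b => by rw [hf₂.bilinear.smul_left, smul_eq_mul])
        hf₂.bilinear.add_right (fun c a b => by rw [hf₂.bilinear.smul_right, smul_eq_mul])
    set b : Fin n₂ → F := Pi.single ⟨0, by omega⟩ 1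
    have hb : b ≠ 0 := by simp [b]
    obtain ⟨b', hb', hbs⟩ : ∃ y ∈ LinearMap.ker (L₂ b), y ∉ F ∙ b := SetLike.not_le_iff_exists.1 fun h => by
      have h1 := (Submodule.finrank_mono h).trans_eq (finrank_span_singleton hb)
      have h2' := LinearMap.finrank_range_add_finrank_ker (L₂ b)
      have h3 : finrank F (LinearMap.range (L₂ b)) ≤ 1 :=
        (Submodule.finrank_le _).trans_eq (Module.finrank_self F)
      rw [Module.finrank_fin_fun] at h2'
      omega
    have hbb : f₂ b b' = 0 := hb'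
    obtain ⟨w, hw⟩ : ∃ w, f₂ b w = 1 := by
      obtain ⟨y, hy⟩ := (hf₂.nondegenerate b hb).2
      exact ⟨y, (two _).resolve_left hy⟩
    set p := φ (pure2 e₁ b)
    set q := φ (pure2 e₁ b')
    have hpq : B p q = 0 := by rw [hB, f11, zero_mul]
    refine ⟨sg Q p q, sg_mem_omega hQ hn p q, fun h => ?_⟩
    have hQq : Q q = 0 := hpure _ _
    have hx : ∀ w', act (sg Q p q) (φ (pure2 e₁ w')) = φ (pure2 e₁ w') := fun w' =>
      act_sg_fix Q (hpure _ _) hpq (by rw [hB, f11, zero_mul]) (by rw [hB, f11, zero_mul])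
    have hzx : act (sg Q p q) (φ (pure2 e₂ w)) =
        φ (pure2 e₂ w) + (q - f₂ b' w • p) := by
      rw [act_sg Q (hpure _ _) hpq, hQq, hB, hB, f12, hw, zero_mul, add_zero, one_mul, one_mul, one_smul]
      abel
    have hmem := (h Z).1 (Or.inl rfl)
    rcases hmem with h' | h'
    · -- commuting
      have h1 : act (sg Q p q * Z) (φ (pure2 e₁ w)) = act (Z * sg Q p q) (φ (pure2 e₁ w)) := by
        rw [mul_inv_eq_iff_eq_mul.1 h']
      rw [act_mul, act_mul, hx, hZ1, σ1, hzx] at h1
      have h3 : q = f₂ b' w • p := by linear_combination (norm := module) h1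
      rw [← map_smul, ← pure2_smul_right] at h3
      have h4 := eq_smul_of_pure2 (tmap_injective e P h3) (i := 0) (by simp [he₁])
      refine hbs (Submodule.mem_span_singleton.2 ⟨f₂ b' w, ?_⟩)
      simpa [he₁] using h4.symm
    · -- inverting
      have h1 : act Z (act (sg Q p q * Z) (φ (pure2 e₁ w))) = act (sg Q p q) (φ (pure2 e₁ w)) := by
        rw [Set.mem_singleton_iff] at h'
        rw [mul_inv_eq_iff_eq_mul.1 h', act_mul, act_act_inv]
      rw [act_mul, hZ1, σ1, hzx, hx, map_add, map_sub, map_smul, hZ1, σ2, hZ1, hZ1, σ1, pure2_add_left,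
        map_add] at h1
      have h3 : φ (pure2 e₂ w) + (φ (pure2 e₂ b') - f₂ b' w • φ (pure2 e₂ b)) = 0 := by
        linear_combination (norm := module) h1
      rw [← map_smul, ← map_sub, ← map_add, ← map_zero φ] at h3
      have h4 : w + (b' - f₂ b' w • b) = 0 := funext fun j => by
        simpa [pure2, he₂, mul_sub] using congrFun (tmap_injective e P h3) (1, j)
      have := congrArg (f₂ b) h4
      rw [sub_eq_add_neg, ← neg_smul, hf₂.bilinear.add_right, hf₂.bilinear.add_right,
        hf₂.bilinear.smul_right, hw, hbb, hf₂.alternating] at this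
      simp [show f₂ b 0 = 0 by simpa using hf₂.bilinear.smul_right 0 b 0] at this

end Cfsg.Agent.MaxCl.Orth
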