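/-
The monomial subgroup is maximal in the special linear group over a field of at least five elements.

A row with three zeros gives, by conjugates of diagonal elements, an element stabilising a coordinate hyperplane;
on such a hyperplane the rank one semisimple elements of the overgroup yield an elementary transvection.
-/
import Mathlib
import Cfsg.Prelude.Def_GeometricClasses
import Cfsg.Agent.Lib.MaxCl.Transvection

set_option autoImplicit false

namespace Cfsg.Agent.MaxCl.Monom

open Matrix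
open scoped MatrixGroups

variable {ι : Type} [Fintype ι] [DecidableEq ι] {F : Type*} [Field F]

/-- every column has at most one non-zero entry -/
def Mono (g : GL ι F) : Prop := ∀ j, ∃ i, ∃ c : F, act g (Pi.single j 1) = c • Pi.single i 1

/-- the overgroup contains the monomial matrices of determinant one -/
def Over (M : Subgroup (GL ι F)) : Prop :=
  M ≤ Cfsg.Geo.specialLinear ι F ∧ ∀ g, Mono g → g ∈ Cfsg.Geo.specialLinear ι F → g ∈ M

theorem single_apply' (j i : ι) (c : F) : (c • Pi.single j (1 : F) : ι → F) i = if i = j then c else 0 := by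
  by_cases h : i = j <;> simp [h]

theorem eq_sum_single (x : ι → F) : x = ∑ i, x i • (Pi.single i 1 : ι → F) := by
  funext k
  rw [Finset.sum_apply]
  simp [Pi.single_apply]

theorem exists_pm (σ : Equiv.Perm ι) (d : ι → F) (hd : ∀ j, d j ≠ 0) :
    ∃ g : GL ι F, (∀ j, act g (Pi.single j 1) = d j • Pi.single (σ j) 1) ∧ Mono g ∧
      (g : Matrix ι ι F).det = ((Equiv.Perm.sign σ : ℤ) : F) * ∏ j, d j := by
  obtain ⟨A, hA⟩ : ∃ A : Matrix ι ι F, A = (σ⁻¹).permMatrix F * Matrix.diagonal d := ⟨_, rfl⟩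
  have hdet : A.det = ((Equiv.Perm.sign σ : ℤ) : F) * ∏ j, d j := by
    rw [hA, Matrix.det_mul, Matrix.det_permutation, Matrix.det_diagonal, Equiv.Perm.sign_inv]
  have hne : A.det ≠ 0 := by
    rw [hdet]
    refine mul_ne_zero ?_ (Finset.prod_ne_zero_iff.2 fun j _ => hd j)
    rcases Int.units_eq_one_or (Equiv.Perm.sign σ) with h | h <;> simp [h]
  obtain ⟨g, hg⟩ : ∃ g : GL ι F, (g : Matrix ι ι F) = A :=
    ⟨((Matrix.isUnit_iff_isUnit_det A).2 (isUnit_iff_ne_zero.2 hne)).unit, IsUnit.unit_spec _⟩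
  have hcol : ∀ j, act g (Pi.single j 1) = d j • Pi.single (σ j) 1 := by
    intro j
    rw [act_apply, hg, hA, Matrix.mulVec_single_one]
    funext i
    rw [single_apply', Matrix.col_apply, Matrix.mul_diagonal]
    simp only [Equiv.Perm.permMatrix, PEquiv.toMatrix_apply, Equiv.toPEquiv_apply]
    have hiff : σ.symm i = j ↔ i = σ j := Equiv.symm_apply_eq σ
    by_cases h : i = σ j
    · simp [h]
    · simp [h, hiff]
  exact ⟨g, hcol, fun j => ⟨σ j, d j, hcol j⟩, hg ▸ hdet⟩

theorem mem_specialLinear_iff {g : GL ι F} :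
    g ∈ Cfsg.Geo.specialLinear ι F ↔ (g : Matrix ι ι F).det = 1 := by
  refine ⟨fun h => ?_, fun h => MonoidHom.mem_ker.2 (Units.ext (by simpa using h))⟩
  simpa using congrArg Units.val (MonoidHom.mem_ker.1 h)

variable {M : Subgroup (GL ι F)}

theorem exists_mem_pm (hM : Over M) (σ : Equiv.Perm ι) (d : ι → F) (hd : ∀ j, d j ≠ 0)
    (h : ((Equiv.Perm.sign σ : ℤ) : F) * ∏ j, d j = 1) :
    ∃ g ∈ M, ∀ j, act g (Pi.single j 1) = d j • Pi.single (σ j) 1 := by
  obtain ⟨g, hg, hm, hdet⟩ := exists_pm σ d hd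
  exact ⟨g, hM.2 g hm (mem_specialLinear_iff.2 (hdet.trans h)), hg⟩

/-- a monomial element of `M` with prescribed values away from `r` -/
theorem exists_mem_pm_off (hM : Over M) (σ : Equiv.Perm ι) (r : ι) (d : ι → F) (hd : ∀ j, j ≠ r → d j ≠ 0) :
    ∃ g ∈ M, ∃ γ : F, γ ≠ 0 ∧ act g (Pi.single r 1) = γ • Pi.single (σ r) 1 ∧
      ∀ j, j ≠ r → act g (Pi.single j 1) = d j • Pi.single (σ j) 1 := by
  classical
  obtain ⟨P, hP⟩ : ∃ P, P = ((Equiv.Perm.sign σ : ℤ) : F) * ∏ j ∈ Finset.univ.erase r, d j := ⟨_, rfl⟩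
  have hP0 : P ≠ 0 := by
    rw [hP]
    refine mul_ne_zero ?_ (Finset.prod_ne_zero_iff.2 fun j hj => hd j (Finset.ne_of_mem_erase hj))
    rcases Int.units_eq_one_or (Equiv.Perm.sign σ) with h | h <;> simp [h]
  let d' : ι → F := Function.update d r P⁻¹
  have hd' : ∀ j, d' j ≠ 0 := fun j => by
    by_cases h : j = r
    · subst h; simp [d', hP0]
    · simp [d', h, hd j h]
  obtain ⟨g, hg, hcol⟩ := exists_mem_pm hM σ d' hd' (by
    rw [← Finset.mul_prod_erase Finset.univ d' (Finset.mem_univ r)]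
    have : ∏ j ∈ Finset.univ.erase r, d' j = ∏ j ∈ Finset.univ.erase r, d j :=
      Finset.prod_congr rfl fun j hj => by simp [d', Finset.ne_of_mem_erase hj]
    rw [this, show d' r = P⁻¹ by simp [d'], mul_left_comm, ← hP, inv_mul_cancel₀ hP0])
  refine ⟨g, hg, P⁻¹, inv_ne_zero hP0, by simpa [d'] using hcol r, fun j hj => ?_⟩
  simpa [d', hj] using hcol j

/-- scaling one coordinate `i ≠ r` by `μ` on the hyperplane `x r = 0` -/
theorem exists_scale_mem (hM : Over M) {i r : ι} (hi : i ≠ r) {μ : F} (hμ : μ ≠ 0) :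
    ∃ t ∈ M, (∀ x : ι → F, x r = 0 → act t x = x + ((μ - 1) * x i) • Pi.single i 1) ∧
      (∀ x : ι → F, x r = 0 → act t⁻¹ x = x + ((μ⁻¹ - 1) * x i) • Pi.single i 1) := by
  obtain ⟨t, ht, γ, -, -, hcol⟩ := exists_mem_pm_off hM 1 r (Function.update 1 i μ) (fun j hj => by
    by_cases h : j = i
    · subst h; simpa using hμ
    · simp [h])
  have hx : ∀ x : ι → F, x r = 0 → act t x = x + ((μ - 1) * x i) • Pi.single i 1 := by
    intro x hx
    conv_lhs => rw [eq_sum_single x]
    rw [map_sum]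
    funext k
    rw [Finset.sum_apply, Pi.add_apply, single_apply']
    rw [Finset.sum_eq_single k]
    · rcases eq_or_ne k r with rfl | hk
      · simp [hx, hi.symm]
      · rw [map_smul, hcol k hk]
        by_cases h : k = i
        · subst h; simp; ring
        · simp [h]
    · intro j _ hjk
      rcases eq_or_ne j r with rfl | hj
      · simp [hx]
      · rw [map_smul, hcol j hj]; simp [hjk.symm]
    · simp
  refine ⟨t, ht, hx, fun x hxr => ?_⟩
  apply act_injective t
  rw [act_act_inv, hx _ (by simp [hxr, hi.symm])]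
  funext k
  by_cases h : k = i
  · subst h; simp; field_simp; ring
  · simp [h]

/-- some element of `M` induces `x ↦ x + (φ ⬝ x) • v` on the hyperplane `x r = 0` -/
def IndMap (M : Subgroup (GL ι F)) (r : ι) (φ v : ι → F) : Prop :=
  ∃ h ∈ M, ∀ x : ι → F, x r = 0 → act h x = x + (φ ⬝ᵥ x) • v

/-- all rank one semisimple maps with centre `v` and axis `φ` are induced -/
def Homol (M : Subgroup (GL ι F)) (r : ι) (φ v : ι → F) : Prop :=
  v r = 0 ∧ φ r = 0 ∧ φ ⬝ᵥ v = 1 ∧ ∀ s : F, s ≠ -1 → IndMap M r (s • φ) v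

/-- an elementary transvection avoiding `r` is induced -/
def HasElem (M : Subgroup (GL ι F)) (r : ι) : Prop :=
  ∃ a b : ι, a ≠ b ∧ a ≠ r ∧ b ≠ r ∧ ∀ c : F, IndMap M r (Pi.single b c) (Pi.single a 1)

theorem indMap_inv {r : ι} {φ v : ι → F} (hv : v r = 0) {s : F} (hφ : φ ⬝ᵥ v = s) (hs : 1 + s ≠ 0)
    (h : IndMap M r φ v) : IndMap M r (-(1 + s)⁻¹ • φ) v := by
  obtain ⟨g, hg, hgx⟩ := h
  refine ⟨g⁻¹, M.inv_mem hg, fun x hx => ?_⟩
  apply act_injective g
  rw [act_act_inv, hgx _ (by simp [hx, hv]), dotProduct_add, dotProduct_smul, hφ, smul_dotProduct]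
  simp only [smul_eq_mul]
  match_scalars
  · ring
  · field_simp; ring

theorem indMap_mul {r : ι} {φ v φ' v' : ι → F} (hv : v r = 0) (hv' : v' r = 0) (h : IndMap M r φ v)
    (h' : IndMap M r φ' v') :
    ∃ g ∈ M, ∀ x : ι → F, x r = 0 →
      act g x = x + (φ' ⬝ᵥ x) • v' + (φ ⬝ᵥ (x + (φ' ⬝ᵥ x) • v')) • v := by
  obtain ⟨a, ha, hax⟩ := h
  obtain ⟨b, hb, hbx⟩ := h'
  refine ⟨a * b, M.mul_mem ha hb, fun x hx => ?_⟩
  rw [act_mul, hbx x hx, hax _ (by simp [hx, hv'])]

/-- conjugating an induced map by a scaling of one coordinate -/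
theorem indMap_scale (hM : Over M) {r i : ι} (hi : i ≠ r) {φ v : ι → F} (hv : v r = 0) (h : IndMap M r φ v)
    {μ : F} (hμ : μ ≠ 0) :
    IndMap M r (φ + ((μ⁻¹ - 1) * φ i) • Pi.single i 1) (v + ((μ - 1) * v i) • Pi.single i 1) := by
  obtain ⟨t, ht, htx, htix⟩ := exists_scale_mem hM hi hμ
  obtain ⟨g, hg, hgx⟩ := h
  refine ⟨t * g * t⁻¹, M.mul_mem (M.mul_mem ht hg) (M.inv_mem ht), fun x hx => ?_⟩
  have hy : act t⁻¹ x r = 0 := by rw [htix x hx]; simp [hx, hi.symm]
  rw [act_mul, act_mul, hgx _ hy, map_add, map_smul, act_act_inv, htx v hv, htix x hx,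
    dotProduct_add, dotProduct_smul, add_dotProduct, smul_dotProduct, dotProduct_single_one, single_one_dotProduct]
  congr 2
  simp only [smul_eq_mul]; ring

theorem hasElem_of_transvection (hM : Over M) (hμ : ∃ μ : F, μ ≠ 0 ∧ μ ≠ 1) {r a b : ι} (hab : a ≠ b)
    (har : a ≠ r) (hbr : b ≠ r) {c : F} (hc : c ≠ 0)
    (h : IndMap M r (Pi.single b c) (Pi.single a 1)) : HasElem M r := by
  refine ⟨a, b, hab, har, hbr, fun e => ?_⟩
  rcases eq_or_ne e 0 with rfl | he
  · exact ⟨1, M.one_mem, fun x _ => by simp [act_one]⟩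
  obtain ⟨t, ht, htx, htix⟩ := exists_scale_mem hM har (div_ne_zero he hc)
  obtain ⟨g, hg, hgx⟩ := h
  refine ⟨t * g * t⁻¹, M.mul_mem (M.mul_mem ht hg) (M.inv_mem ht), fun x hx => ?_⟩
  have hy : act t⁻¹ x r = 0 := by rw [htix x hx]; simp [hx, har.symm]
  rw [act_mul, act_mul, hgx _ hy, map_add, map_smul, act_act_inv, htx _ (by simp [har.symm]), htix x hx]
  simp [hab.symm]
  match_scalars
  field_simp
  ring

theorem hasElem_of_axis (hM : Over M) (hμ : ∃ μ : F, μ ≠ 0 ∧ μ ≠ 1) {r i : ι} (hir : i ≠ r) {v : ι → F}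
    (hv : v r = 0) (hvi : v i = 0) (hv0 : v ≠ 0) {c : F} (hc : c ≠ 0) (h : IndMap M r (Pi.single i c) v) :
    HasElem M r := by
  obtain ⟨μ, hμ0, hμ1⟩ := hμ
  obtain ⟨j, hj⟩ := Function.ne_iff.1 hv0
  have hjr : j ≠ r := fun e => hj (e ▸ hv)
  have hji : j ≠ i := fun e => hj (e ▸ hvi)
  have h1 := indMap_scale hM hjr hv h hμ0
  rw [Pi.single_eq_of_ne hji, mul_zero, zero_smul, add_zero] at h1
  have h2 := indMap_inv hv (by rw [single_dotProduct, hvi, mul_zero]) (by simp) h
  obtain ⟨g, hg, hgx⟩ := indMap_mul hv (by simp [hv, hjr.symm]) h2 h1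
  refine hasElem_of_transvection hM ⟨μ, hμ0, hμ1⟩ hji hjr hir
    (c := c * ((μ - 1) * v j)) (mul_ne_zero hc (mul_ne_zero (sub_ne_zero.2 hμ1) hj)) ⟨g, hg, fun x hx => ?_⟩
  rw [hgx x hx]
  simp [single_dotProduct, hvi, hji.symm]
  match_scalars <;> ring

theorem hasElem_of_centre (hM : Over M) (hμ : ∃ μ : F, μ ≠ 0 ∧ μ ≠ 1) {r i : ι} (hir : i ≠ r) {φ : ι → F}
    (hφ : φ r = 0) (hφi : φ i = 0) (hφ0 : φ ≠ 0) (h : IndMap M r φ (Pi.single i 1)) : HasElem M r := by
  obtain ⟨μ, hμ0, hμ1⟩ := hμ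
  obtain ⟨j, hj⟩ := Function.ne_iff.1 hφ0
  have hjr : j ≠ r := fun e => hj (e ▸ hφ)
  have hji : j ≠ i := fun e => hj (e ▸ hφi)
  have h0 : (Pi.single i 1 : ι → F) r = 0 := by simp [hir.symm]
  have h1 := indMap_scale hM hjr h0 h hμ0
  rw [Pi.single_eq_of_ne hji, mul_zero, zero_smul, add_zero] at h1
  have h2 := indMap_inv h0 (by rw [dotProduct_single_one, hφi]) (by simp) h
  obtain ⟨g, hg, hgx⟩ := indMap_mul h0 h0 h2 h1
  have hne : μ⁻¹ - 1 ≠ 0 := sub_ne_zero.2 (by rwa [ne_eq, inv_eq_one])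
  refine hasElem_of_transvection hM ⟨μ, hμ0, hμ1⟩ hji.symm hir hjr
    (c := (μ⁻¹ - 1) * φ j) (mul_ne_zero hne hj) ⟨g, hg, fun x hx => ?_⟩
  rw [hgx x hx]
  simp [add_dotProduct, smul_dotProduct, single_dotProduct, dotProduct_single_one, hφi]
  match_scalars <;> ring

/-- different supports give an elementary transvection -/
theorem hasElem_of_support (hM : Over M) (hμ : ∃ μ : F, μ ≠ 0 ∧ μ ≠ 1) {r i : ι} {φ v : ι → F}
    (hH : Homol M r φ v) (h : v i = 0 ∧ φ i ≠ 0 ∨ v i ≠ 0 ∧ φ i = 0) : HasElem M r := by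
  obtain ⟨hv, hφ, hdot, hind⟩ := hH
  obtain ⟨μ, hμ0, hμ1⟩ := hμ
  obtain ⟨s, hs0, hs1⟩ : ∃ s : F, s ≠ 0 ∧ s ≠ -1 := by
    rcases eq_or_ne (-1 : F) 1 with h1 | h1
    · exact ⟨μ, hμ0, by rwa [h1]⟩
    · exact ⟨1, one_ne_zero, Ne.symm h1⟩
  have hs : 1 + s ≠ 0 := fun e => hs1 (eq_neg_of_add_eq_zero_right e)
  have hne : μ - 1 ≠ 0 := sub_ne_zero.2 hμ1
  have hne' : μ⁻¹ - 1 ≠ 0 := sub_ne_zero.2 (by rwa [ne_eq, inv_eq_one])
  have hir : i ≠ r := by
    rintro rfl
    rcases h with ⟨-, h⟩ | ⟨h, -⟩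
    · exact h hφ
    · exact h hv
  obtain ⟨s', hs'⟩ : ∃ s', s' = -s / (1 + s) := ⟨_, rfl⟩
  have hs'1 : s' ≠ -1 := by
    rw [hs', ne_eq, div_eq_iff hs]; intro e; exact one_ne_zero (α := F) (by linear_combination e)
  have key : s + s' + s * s' = 0 := by rw [hs']; field_simp; ring
  have h1 := indMap_scale hM hir hv (hind s hs1) hμ0
  rcases h with ⟨hvi, hφi⟩ | ⟨hvi, hφi⟩
  · rw [hvi, mul_zero, zero_smul, add_zero] at h1
    obtain ⟨g, hg, hgx⟩ := indMap_mul hv hv (hind s' hs'1) h1
    refine hasElem_of_axis hM ⟨μ, hμ0, hμ1⟩ hir hv hvi (fun e => by simp [e] at hdot)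
      (c := (1 + s') * ((μ⁻¹ - 1) * (s * φ i)))
      (mul_ne_zero (fun e => hs'1 (eq_neg_of_add_eq_zero_right e)) (mul_ne_zero hne' (mul_ne_zero hs0 hφi)))
      ⟨g, hg, fun x hx => ?_⟩
    rw [hgx x hx]
    simp [add_dotProduct, smul_dotProduct, single_dotProduct, dotProduct_smul, hdot]
    match_scalars
    · ring
    · linear_combination (φ ⬝ᵥ x) * key
  · rw [Pi.smul_apply, smul_eq_mul, hφi, mul_zero, mul_zero, zero_smul, add_zero] at h1
    have hw : (v + ((μ - 1) * v i) • Pi.single i 1 : ι → F) r = 0 := by simp [hv, hir.symm]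
    obtain ⟨g, hg, hgx⟩ := indMap_mul hv hw (hind s' hs'1) h1
    have hd : φ ⬝ᵥ (v + ((μ - 1) * v i) • Pi.single i 1) = 1 := by
      rw [dotProduct_add, dotProduct_smul, dotProduct_single_one, hφi, smul_zero, add_zero, hdot]
    refine hasElem_of_centre hM ⟨μ, hμ0, hμ1⟩ hir
      (φ := (s * ((μ - 1) * v i)) • φ) (by simp [hφ]) (by simp [hφi]) ?_ ⟨g, hg, fun x hx => ?_⟩
    · exact smul_ne_zero (mul_ne_zero hs0 (mul_ne_zero hne hvi)) (fun e => by simp [e] at hdot)
    rw [hgx x hx]
    simp only [dotProduct_add, dotProduct_smul, smul_dotProduct, smul_eq_mul, dotProduct_single_one, Pi.smul_apply, hφi, hdot]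
    match_scalars
    · ring
    · linear_combination (φ ⬝ᵥ x) * key
    · ring

/-- the conjugate of a coordinate scaling by a rank one element -/
theorem homol_next (hM : Over M) {r i : ι} (hir : i ≠ r) {φ v : ι → F} (hH : Homol M r φ v) {s s' : F}
    (hs : s ≠ -1) (key : s + s' + s * s' = 0) :
    Homol M r (Pi.single i 1 + (s' * v i) • φ) (Pi.single i 1 + (s * φ i) • v) := by
  obtain ⟨hv, hφ, hdot, hind⟩ := hH
  refine ⟨by simp [hv, hir.symm], by simp [hφ, hir.symm], ?_, fun σ hσ => ?_⟩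
  · rw [add_dotProduct, dotProduct_add, dotProduct_add, smul_dotProduct, smul_dotProduct, dotProduct_smul,
      dotProduct_smul, dotProduct_single_one, dotProduct_single_one, single_one_dotProduct, hdot]
    simp only [Pi.single_eq_same, smul_eq_mul, mul_one]
    linear_combination (φ i * v i) * key
  obtain ⟨t, ht, htx, -⟩ := exists_scale_mem hM hir (μ := 1 + σ) (fun e => hσ (eq_neg_of_add_eq_zero_right e))
  obtain ⟨h, hh, hhx⟩ := hind s hs
  have hsi : ∀ x : ι → F, x r = 0 → act h⁻¹ x = x + (s' * (φ ⬝ᵥ x)) • v := by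
    intro x hx
    apply act_injective h
    rw [act_act_inv, hhx _ (by simp [hx, hv]), dotProduct_add, dotProduct_smul, smul_dotProduct, smul_dotProduct,
      hdot]
    simp only [smul_eq_mul]
    match_scalars
    · ring
    · linear_combination (-(φ ⬝ᵥ x)) * key
  refine ⟨h * t * h⁻¹, M.mul_mem (M.mul_mem hh ht) (M.inv_mem hh), fun x hx => ?_⟩
  have hy : act h⁻¹ x r = 0 := by rw [hsi x hx]; simp [hx, hv]
  rw [act_mul, act_mul, htx _ hy, map_add, map_smul, act_act_inv, hhx (Pi.single i 1) (by simp [hir.symm]),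
    hsi x hx]
  simp only [smul_dotProduct, add_dotProduct, single_one_dotProduct, dotProduct_single_one, Pi.add_apply,
    Pi.smul_apply, smul_eq_mul, add_sub_cancel_left]
  match_scalars <;> ring

/-- a scalar avoiding the roots of two quadratics -/
theorem exists_avoid [Fintype F] (h5 : 5 ≤ Fintype.card F) (a b : F)
    (h1 : Fintype.card F = 5 → 1 + 2 * a ≠ 0) (h2 : Fintype.card F = 5 → 1 + 2 * b ≠ 0)
    (h6 : Fintype.card F ≠ 6) :
    ∃ s : F, s ≠ 0 ∧ s ≠ -1 ∧ s ^ 2 + a * (1 + s) ≠ 0 ∧ s ^ 2 + b * (1 + s) ≠ 0 := by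
  classical
  by_cases h : Fintype.card F = 5
  · refine ⟨1, one_ne_zero, fun e => ?_, ?_, ?_⟩
    · have h2' : (2 : F) = 0 := by linear_combination e
      haveI : CharP F 2 := CharTwo.of_one_ne_zero_of_two_eq_zero one_ne_zero h2'
      have := FiniteField.even_card_of_char_two (F := F) (ringChar.eq F 2)
      omega
    · convert h1 h using 1; ring
    · convert h2 h using 1; ring
  · let p : Polynomial F := Polynomial.X * (Polynomial.X + 1) *
      ((Polynomial.X ^ 2 + Polynomial.C a * (1 + Polynomial.X)) *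
        (Polynomial.X ^ 2 + Polynomial.C b * (1 + Polynomial.X)))
    have hdeg : p.natDegree ≤ 6 := by simp only [p]; compute_degree
    have hne : p ≠ 0 := by
      have : p.coeff 6 = 1 := by simp only [p]; compute_degree!
      intro e; simp [e] at this
    by_contra hno
    push Not at hno
    have hall : ∀ s : F, s ∈ p.roots.toFinset := by
      intro s
      rw [Multiset.mem_toFinset, Polynomial.mem_roots hne]
      simp only [p, Polynomial.IsRoot.def, Polynomial.eval_mul, Polynomial.eval_add, Polynomial.eval_pow,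
        Polynomial.eval_X, Polynomial.eval_one, Polynomial.eval_C]
      rcases eq_or_ne s 0 with rfl | hs0
      · simp
      rcases eq_or_ne s (-1) with rfl | hs1
      · simp
      rcases eq_or_ne (s ^ 2 + a * (1 + s)) 0 with h' | h'
      · rw [h']; simp
      · rw [hno s hs0 hs1 h']; simp
    have := (Finset.card_le_card (s := Finset.univ) fun s _ => hall s).trans
      ((Multiset.toFinset_card_le _).trans (p.card_roots'.trans hdeg))
    rw [Finset.card_univ] at this
    omega

theorem card_ne_six [Fintype F] : Fintype.card F ≠ 6 := by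
  intro h
  obtain ⟨p, hc⟩ := CharP.exists F
  obtain ⟨k, hp, hk⟩ := FiniteField.card F p
  rw [h] at hk
  have h2 : 2 ∣ p := Nat.Prime.dvd_of_dvd_pow Nat.prime_two (hk ▸ (by norm_num : 2 ∣ 6))
  have h3 : 3 ∣ p := Nat.Prime.dvd_of_dvd_pow Nat.prime_three (hk ▸ (by norm_num : 3 ∣ 6))
  have e2 := (Nat.prime_dvd_prime_iff_eq Nat.prime_two hp).1 h2
  have e3 := (Nat.prime_dvd_prime_iff_eq Nat.prime_three hp).1 h3
  omega

theorem five_eq_zero [Fintype F] (h : Fintype.card F = 5) : (5 : F) = 0 := by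
  have := FiniteField.cast_card_eq_zero F
  rw [h] at this
  exact_mod_cast this

variable [Fintype F]

theorem exists_unit_ne (h5 : 5 ≤ Fintype.card F) : ∃ μ : F, μ ≠ 0 ∧ μ ≠ 1 := by
  classical
  by_contra h; push Not at h
  have := Finset.card_le_card (show (Finset.univ : Finset F) ⊆ {0, 1} from fun x _ => by
    by_cases hx : x = 0
    · simp [hx]
    · simp [h x hx])
  have h2 : ({0, 1} : Finset F).card ≤ 2 := Finset.card_le_two
  rw [Finset.card_univ] at this
  omega

theorem hasElem_of_entry (hM : Over M) (h5 : 5 ≤ Fintype.card F) {r i : ι} {φ v : ι → F} (hH : Homol M r φ v)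
    (h0 : φ i * v i ≠ 0) (h1 : φ i * v i ≠ 1) (h2 : 2 * (φ i * v i) ≠ 1) : HasElem M r := by
  have hir : i ≠ r := fun e => h0 (by rw [e, hH.2.1, zero_mul])
  obtain ⟨A, hA⟩ : ∃ A, A = φ i * v i := ⟨_, rfl⟩
  rw [← hA] at h0 h1 h2
  have hA1 : A - 1 ≠ 0 := sub_ne_zero.2 h1
  refine hasElem_of_support hM (exists_unit_ne h5)
    (homol_next hM hir hH (s := -A⁻¹) (s' := 1 / (A - 1)) ?_ ?_) (i := i) (Or.inl ⟨?_, ?_⟩)
  · intro e; exact h1 (by simpa using (neg_injective e))
  · field_simp; ring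
  · simp only [Pi.add_apply, Pi.smul_apply, Pi.single_eq_same, smul_eq_mul]
    rw [show -A⁻¹ * φ i * v i = -(A⁻¹ * A) by rw [hA]; ring, inv_mul_cancel₀ h0]; ring
  · simp only [Pi.add_apply, Pi.smul_apply, Pi.single_eq_same, smul_eq_mul]
    rw [show 1 / (A - 1) * v i * φ i = A / (A - 1) by rw [hA]; ring]
    intro e
    field_simp at e
    exact h2 (by linear_combination e)

open Classical in
theorem hasElem_of_homol (hM : Over M) (h5 : 5 ≤ Fintype.card F) (h3 : 3 < Fintype.card ι) {r : ι} :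
    ∀ (k : ℕ) (φ v : ι → F), Homol M r φ v → (∃ i j, i ≠ j ∧ v i ≠ 0 ∧ v j ≠ 0) →
      (Finset.univ.filter fun i => v i ≠ 0).card ≤ k → HasElem M r := by
  classical
  intro k
  induction k with
  | zero =>
    rintro φ v - ⟨i, j, -, hi, -⟩ hk
    have : i ∈ Finset.univ.filter fun i => v i ≠ 0 := by simp [hi]
    exact absurd (Finset.card_pos.2 ⟨i, this⟩) (by omega)
  | succ k ih =>
    rintro φ v hH ⟨i₀, j₀, hij, hi₀, hj₀⟩ hk
    by_cases hu : ∃ i, v i = 0 ∧ φ i ≠ 0 ∨ v i ≠ 0 ∧ φ i = 0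
    · obtain ⟨i, hi⟩ := hu
      exact hasElem_of_support hM (exists_unit_ne h5) hH hi
    push Not at hu
    by_cases he : ∃ i, v i ≠ 0 ∧ φ i * v i ≠ 1 ∧ 2 * (φ i * v i) ≠ 1
    · obtain ⟨i, hi, h1, h2⟩ := he
      exact hasElem_of_entry hM h5 hH (mul_ne_zero ((hu i).2 hi) hi) h1 h2
    push Not at he
    obtain ⟨hv, hφ, hdot, hind⟩ := id hH
    have hr : ∀ i, v i ≠ 0 → i ≠ r := fun i hi e => hi (e ▸ hv)
    by_cases hhalf : ∃ i, v i ≠ 0 ∧ 2 * (φ i * v i) = 1
    · obtain ⟨i, hi, hA⟩ := hhalf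
      have h2 : (2 : F) ≠ 0 := fun e => by simp [e] at hA
      have hm : (-2 : F) ≠ -1 := fun e => one_ne_zero (α := F) (by linear_combination -e)
      have hN := homol_next hM (hr i hi) hH (s := -2) (s' := -2) hm (by ring)
      set v' := (Pi.single i 1 + (-2 * φ i) • v : ι → F) with hv'
      have hv'i : v' i = 0 := by
        simp only [hv', Pi.add_apply, Pi.smul_apply, Pi.single_eq_same, smul_eq_mul]; linear_combination -hA
      have hv'j : ∀ j, j ≠ i → v' j = -2 * φ i * v j := fun j hj => by simp [hv', hj]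
      have hφi : φ i ≠ 0 := (hu i).2 hi
      by_cases h3' : ∃ a b, a ≠ b ∧ a ≠ i ∧ b ≠ i ∧ v a ≠ 0 ∧ v b ≠ 0
      · obtain ⟨a, b, hab, hai, hbi, ha, hb⟩ := h3'
        refine ih _ _ hN ⟨a, b, hab, ?_, ?_⟩ ?_
        · rw [hv'j a hai]; exact mul_ne_zero (mul_ne_zero (neg_ne_zero.2 h2) hφi) ha
        · rw [hv'j b hbi]; exact mul_ne_zero (mul_ne_zero (neg_ne_zero.2 h2) hφi) hb
        · have hsub : (Finset.univ.filter fun l => v' l ≠ 0) ⊂ Finset.univ.filter fun l => v l ≠ 0 := by
            refine (Finset.ssubset_iff_of_subset fun l hl => ?_).2 ⟨i, by simp [hi], by simp [hv'i]⟩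
            simp only [Finset.mem_filter, Finset.mem_univ, true_and] at hl ⊢
            intro e
            have hli : l ≠ i := fun h => hl (h ▸ hv'i)
            exact hl (by rw [hv'j l hli, e, mul_zero])
          have := Finset.card_lt_card hsub
          omega
      push Not at h3'
      -- two entries one half each
      obtain ⟨j, hji, hj⟩ : ∃ j, j ≠ i ∧ v j ≠ 0 := by
        rcases eq_or_ne i₀ i with rfl | h
        · exact ⟨j₀, hij.symm, hj₀⟩
        · exact ⟨i₀, h, hi₀⟩
      have hz : ∀ l, l ≠ i → l ≠ j → v l = 0 := fun l hli hlj => by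
        by_contra hl; exact hj (h3' l j hlj hli hji hl)
      have hzφ : ∀ l, l ≠ i → l ≠ j → φ l = 0 := fun l hli hlj => (hu l).1 (hz l hli hlj)
      obtain ⟨p, hpr, hpi, hpj⟩ : ∃ p, p ≠ r ∧ p ≠ i ∧ p ≠ j := by
        by_contra h; push Not at h
        have := Finset.card_le_card (show (Finset.univ : Finset ι) ⊆ {r, i, j} from fun x _ => by
          simp only [Finset.mem_insert, Finset.mem_singleton]
          by_cases hx : x = r
          · exact Or.inl hx
          by_cases hx' : x = i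
          · exact Or.inr (Or.inl hx')
          · exact Or.inr (Or.inr (h x hx hx')))
        have h' : ({r, i, j} : Finset ι).card ≤ 3 := Finset.card_le_three
        rw [Finset.card_univ] at this
        omega
      have hsumA : φ i * v i + φ j * v j = 1 := by
        rw [← hdot, dotProduct, ← Finset.add_sum_erase _ _ (Finset.mem_univ i),
          Finset.sum_eq_single j]
        · intro l hl hlj
          rw [hz l (Finset.ne_of_mem_erase hl) hlj, mul_zero]
        · intro h; simp [hji] at h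
      have hA' : 2 * (φ j * v j) = 1 := by linear_combination 2 * hsumA - hA
      have hir := hr i hi
      have hjr := hr j hj
      obtain ⟨t, ht, γ, -, -, htcol⟩ := exists_mem_pm_off hM (Equiv.swap i p) r (1 : ι → F) (fun _ _ => one_ne_zero)
      have htx : ∀ x : ι → F, x r = 0 → act t x = x ∘ Equiv.swap i p := by
        intro x hx
        conv_lhs => rw [eq_sum_single x]
        rw [map_sum]
        funext l
        rw [Finset.sum_apply, Finset.sum_eq_single (Equiv.swap i p l)]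
        · rcases eq_or_ne (Equiv.swap i p l) r with h | h
          · simp [h, hx]
          · rw [map_smul, htcol _ h]; simp
        · intro q _ hq
          rcases eq_or_ne q r with rfl | h
          · simp [hx]
          · rw [map_smul, htcol _ h]
            have hlq : l ≠ Equiv.swap i p q := fun e => hq (by rw [e, Equiv.swap_apply_self])
            simp [hlq]
        · simp
      have hswr : Equiv.swap i p r = r := Equiv.swap_apply_of_ne_of_ne hir.symm hpr.symm
      have htix : ∀ x : ι → F, x r = 0 → act t⁻¹ x = x ∘ Equiv.swap i p := by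
        intro x hx
        apply act_injective t
        rw [act_act_inv, htx _ (by simp [hswr, hx])]
        funext l; simp
      have hH2 : Homol M r (φ ∘ Equiv.swap i p) (v ∘ Equiv.swap i p) := by
        have hdot' : ∀ y z : ι → F, (y ∘ Equiv.swap i p) ⬝ᵥ z = y ⬝ᵥ (z ∘ Equiv.swap i p) := by
          intro y z
          rw [dotProduct, dotProduct, ← Equiv.sum_comp (Equiv.swap i p)]
          simp
        refine ⟨by simp [hswr, hv], by simp [hswr, hφ], ?_, fun σ hσ => ?_⟩
        · rw [hdot']; rw [show (v ∘ Equiv.swap i p) ∘ Equiv.swap i p = v by funext l; simp]; exact hdot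
        obtain ⟨h, hh, hhx⟩ := hind σ hσ
        refine ⟨t * h * t⁻¹, M.mul_mem (M.mul_mem ht hh) (M.inv_mem ht), fun x hx => ?_⟩
        have hy : act t⁻¹ x r = 0 := by rw [htix x hx]; simp [hswr, hx]
        rw [act_mul, act_mul, hhx _ hy, map_add, map_smul, act_act_inv, htx v hv, htix x hx,
          smul_dotProduct, smul_dotProduct, hdot']
      obtain ⟨s, hs0, hs1, hs8, hs4⟩ := exists_avoid (F := F) h5 8 4 (fun h e => one_ne_zero (α := F) (by
        linear_combination 7 * five_eq_zero h - 2 * e)) (fun h e => one_ne_zero (α := F) (by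
        linear_combination 2 * five_eq_zero h - e)) card_ne_six
      have hs : 1 + s ≠ 0 := fun e => hs1 (eq_neg_of_add_eq_zero_right e)
      obtain ⟨s', hs'⟩ : ∃ s', s' = -s / (1 + s) := ⟨_, rfl⟩
      obtain ⟨g, hg, hgx⟩ := hind s hs1
      obtain ⟨φ₂, hφ₂⟩ : ∃ φ₂, φ₂ = φ ∘ Equiv.swap i p := ⟨_, rfl⟩
      obtain ⟨v₂, hv₂⟩ : ∃ v₂, v₂ = v ∘ Equiv.swap i p := ⟨_, rfl⟩
      rw [← hφ₂, ← hv₂] at hH2
      have e1 : φ ⬝ᵥ v₂ = φ j * v j := by
        rw [hv₂, dotProduct, Finset.sum_eq_single j]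
        · simp [Equiv.swap_apply_of_ne_of_ne hji hpj.symm]
        · intro l _ hlj
          rcases eq_or_ne l i with rfl | hli
          · simp [hz p hpi hpj]
          · rw [hzφ l hli hlj, zero_mul]
        · simp
      have e2 : φ₂ ⬝ᵥ v = φ j * v j := by
        rw [hφ₂, dotProduct, Finset.sum_eq_single j]
        · simp [Equiv.swap_apply_of_ne_of_ne hji hpj.symm]
        · intro l _ hlj
          rcases eq_or_ne l i with rfl | hli
          · simp [hzφ p hpi hpj]
          · rw [hz l hli hlj, mul_zero]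
        · simp
      have hs'1 : s' ≠ -1 := by
        rw [hs', ne_eq, div_eq_iff hs]; intro e; exact one_ne_zero (α := F) (by linear_combination e)
      have key : s + s' + s * s' = 0 := by rw [hs']; field_simp; ring
      -- conjugate the second element by the first
      have hH3 : Homol M r (φ₂ + (s' * (φ j * v j)) • φ) (v₂ + (s * (φ j * v j)) • v) := by
        obtain ⟨hv2, hφ2, hdot2, hind2⟩ := hH2
        refine ⟨by simp [hv2, hv], by simp [hφ2, hφ], ?_, fun σ hσ => ?_⟩
        · rw [add_dotProduct, dotProduct_add, dotProduct_add, smul_dotProduct, smul_dotProduct, dotProduct_smul,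
            dotProduct_smul, hdot2, hdot, e1, e2]
          simp only [smul_eq_mul]
          linear_combination (φ j * v j * (φ j * v j)) * key
        obtain ⟨h2g, hh2, hh2x⟩ := hind2 σ hσ
        have hgi : ∀ x : ι → F, x r = 0 → act g⁻¹ x = x + (s' * (φ ⬝ᵥ x)) • v := by
          intro x hx
          apply act_injective g
          rw [act_act_inv, hgx _ (by simp [hx, hv]), dotProduct_add, dotProduct_smul, smul_dotProduct,
            smul_dotProduct, hdot]
          simp only [smul_eq_mul]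
          match_scalars
          · ring
          · linear_combination (-(φ ⬝ᵥ x)) * key
        refine ⟨g * h2g * g⁻¹, M.mul_mem (M.mul_mem hg hh2) (M.inv_mem hg), fun x hx => ?_⟩
        have hy : act g⁻¹ x r = 0 := by rw [hgi x hx]; simp [hx, hv]
        rw [act_mul, act_mul, hh2x _ hy, map_add, map_smul, act_act_inv, hgx v₂ hv2, hgi x hx,
          smul_dotProduct, smul_dotProduct, smul_dotProduct, add_dotProduct, smul_dotProduct, dotProduct_add,
          dotProduct_smul, e1, e2]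
        simp only [smul_eq_mul]
        match_scalars <;> ring
      have hvi2 : v₂ i = 0 := by simp [hv₂, hz p hpi hpj]
      have hφi2 : φ₂ i = 0 := by simp [hφ₂, hzφ p hpi hpj]
      have hq : (φ₂ + (s' * (φ j * v j)) • φ) i * (v₂ + (s * (φ j * v j)) • v) i = -(s ^ 2) / (8 * (1 + s)) := by
        simp only [Pi.add_apply, Pi.smul_apply, smul_eq_mul, hvi2, hφi2, zero_add]
        have e : φ j * v j = 1 / 2 := by rw [eq_div_iff h2]; linear_combination hA'
        have e' : φ i * v i = 1 / 2 := by rw [eq_div_iff h2]; linear_combination hA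
        rw [hs', show -s / (1 + s) * (φ j * v j) * φ i * (s * (φ j * v j) * v i) =
          -(s ^ 2) / (1 + s) * ((φ j * v j) ^ 2 * (φ i * v i)) by ring, e, e',
          show (8 : F) = 2 * 2 * 2 by norm_num]
        field_simp
      have h8 : (8 : F) ≠ 0 := by
        rw [show (8 : F) = 2 * 2 * 2 by norm_num]; exact mul_ne_zero (mul_ne_zero h2 h2) h2
      refine hasElem_of_entry hM h5 hH3 (i := i) ?_ ?_ ?_ <;> rw [hq]
      · exact div_ne_zero (neg_ne_zero.2 (pow_ne_zero 2 hs0)) (mul_ne_zero h8 hs)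
      · intro e; field_simp at e; exact hs8 (by linear_combination -e)
      · intro e; field_simp at e
        first
          | exact hs4 (by linear_combination -e)
          | exact hs4 (mul_left_cancel₀ h2 (by linear_combination -e))
    -- all entries one
    push Not at hhalf
    have hone : ∀ i, v i ≠ 0 → φ i * v i = 1 := fun i hi => by
      by_contra h; exact hhalf i hi (he i hi h)
    obtain ⟨t, ht, ht3, ht1, ht2'⟩ := exists_avoid (F := F) h5 1 (2 : F)⁻¹ (fun h e => one_ne_zero (α := F) (by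
      linear_combination 2 * e - five_eq_zero h)) (fun h e => by
        have h2 : (2 : F) ≠ 0 := fun z => by rw [z] at e; simp at e
        rw [mul_inv_cancel₀ h2, one_add_one_eq_two] at e
        exact h2 e) card_ne_six
    rw [one_mul] at ht1
    have hts : 1 + t ≠ 0 := fun e => ht3 (eq_neg_of_add_eq_zero_right e)
    have ht2 : 2 * t ^ 2 + (1 + t) ≠ 0 := by
      by_cases h2 : (2 : F) = 0
      · rw [h2, zero_mul, zero_add]; exact hts
      · intro e; apply ht2'
        field_simp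
        linear_combination e
    have hN := homol_next hM (hr i₀ hi₀) hH (s := t) (s' := -t / (1 + t)) ht3 (by field_simp; ring)
    have hq : (Pi.single i₀ 1 + (-t / (1 + t) * v i₀) • φ : ι → F) j₀ * (Pi.single i₀ 1 + (t * φ i₀) • v : ι → F) j₀
        = -(t ^ 2) / (1 + t) := by
      simp only [Pi.add_apply, Pi.smul_apply, smul_eq_mul, Pi.single_eq_of_ne hij.symm, zero_add]
      rw [show -t / (1 + t) * v i₀ * φ j₀ * (t * φ i₀ * v j₀) = -(t ^ 2) / (1 + t) * ((φ i₀ * v i₀) * (φ j₀ * v j₀))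
        by ring, hone i₀ hi₀, hone j₀ hj₀, mul_one, mul_one]
    refine hasElem_of_entry hM h5 hN (i := j₀) ?_ ?_ ?_ <;> rw [hq]
    · exact div_ne_zero (neg_ne_zero.2 (pow_ne_zero 2 ht)) hts
    · intro e; field_simp at e; exact ht1 (by linear_combination -e)
    · intro e; field_simp at e; exact ht2 (by linear_combination -e)

end Cfsg.Agent.MaxCl.Monom
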