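/-
A group containing the monomial matrices of determinant one, and a further matrix of determinant one, contains
all of the special linear group (degree at least 13, at least five scalars).
-/
import Mathlib
import Cfsg.Prelude.Def_GeometricClasses
import Cfsg.Agent.Lib.MaxCl.LinearMonomial
import Cfsg.Agent.Lib.GL.Basic

set_option autoImplicit false

namespace Cfsg.Agent.MaxCl.Monom

open Matrix
open scoped MatrixGroups

variable {ι : Type} [Fintype ι] [DecidableEq ι] {F : Type*} [Field F]

theorem Mono.exists_data {g : GL ι F} (h : Mono g) :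
    ∃ (π : Equiv.Perm ι) (d : ι → F), (∀ j, d j ≠ 0) ∧ ∀ j, act g (Pi.single j 1) = d j • Pi.single (π j) 1 := by
  choose π d hd using h
  have hd0 : ∀ j, d j ≠ 0 := by
    intro j h0
    have := act_injective g (((hd j).trans (by rw [h0, zero_smul])).trans (map_zero _).symm)
    simpa using congrFun this j
  have hinj : Function.Injective π := by
    intro a b hab
    by_contra hne
    have : act g (d b • Pi.single a 1 - d a • Pi.single b 1) = 0 := by
      rw [map_sub, map_smul, map_smul, hd, hd, hab, smul_smul, smul_smul, mul_comm, sub_self]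
    have h2 := congrFun (act_injective g (this.trans (map_zero _).symm)) a
    simp [hne] at h2
    exact hd0 b h2
  exact ⟨Equiv.ofBijective π (Finite.injective_iff_bijective.1 hinj), d, hd0, hd⟩

/-- coordinates of a monomial image -/
theorem act_mono_coord {g : GL ι F} {π : Equiv.Perm ι} {d : ι → F}
    (hd : ∀ j, act g (Pi.single j 1) = d j • Pi.single (π j) 1) (y : ι → F) (j : ι) :
    act g y (π j) = d j * y j := by
  conv_lhs => rw [eq_sum_single y]
  rw [map_sum, Finset.sum_apply, Finset.sum_eq_single j]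
  · rw [map_smul, hd]; simp [mul_comm]
  · intro k _ hk
    rw [map_smul, hd]
    simp [hk.symm]
  · simp

theorem Mono.one : Mono (1 : GL ι F) := fun j => ⟨j, 1, by rw [act_one, one_smul]⟩

theorem Mono.mul {g h : GL ι F} (hg : Mono g) (hh : Mono h) : Mono (g * h) := by
  intro j
  obtain ⟨i, c, hc⟩ := hh j
  obtain ⟨k, d, hd⟩ := hg i
  exact ⟨k, c * d, by rw [act_mul, hc, map_smul, hd, smul_smul]⟩

theorem Mono.inv {g : GL ι F} (hg : Mono g) : Mono g⁻¹ := by
  obtain ⟨π, d, hd0, hd⟩ := hg.exists_data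
  intro i
  refine ⟨π.symm i, (d (π.symm i))⁻¹, ?_⟩
  apply act_injective g
  rw [act_act_inv, map_smul, hd, inv_smul_smul₀ (hd0 _), Equiv.apply_symm_apply]

/-- all transvections `x ↦ x + c x b • e a` -/
def ElemIn (M : Subgroup (GL ι F)) (a b : ι) : Prop :=
  ∀ c : F, ∃ h ∈ M, ∀ x, act h x = x + (c * x b) • Pi.single a 1

variable {M : Subgroup (GL ι F)}

theorem exists_third (h : 4 ≤ Fintype.card ι) (a b c : ι) : ∃ l, l ≠ a ∧ l ≠ b ∧ l ≠ c := by
  by_contra hno; push Not at hno
  have := Finset.card_le_card (show (Finset.univ : Finset ι) ⊆ {a, b, c} from fun x _ => by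
    simp only [Finset.mem_insert, Finset.mem_singleton]
    by_cases hx : x = a
    · exact Or.inl hx
    by_cases hx' : x = b
    · exact Or.inr (Or.inl hx')
    · exact Or.inr (Or.inr (hno x hx hx')))
  have h' : ({a, b, c} : Finset ι).card ≤ 3 := Finset.card_le_three
  rw [Finset.card_univ] at this
  omega

/-- a diagonal matrix of determinant one lies in `M` -/
theorem exists_diag_mem (hM : Over M) (d : ι → F) (h : ∏ j, d j = 1) :
    ∃ t ∈ M, (∀ x k, act t x k = d k * x k) ∧ ∀ x k, act t⁻¹ x k = (d k)⁻¹ * x k := by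
  have hd : ∀ j, d j ≠ 0 := fun j e => zero_ne_one (α := F) (by
    rw [← h, Finset.prod_eq_zero (Finset.mem_univ j) e])
  obtain ⟨t, ht, hcol⟩ := exists_mem_pm hM 1 d hd (by simpa using h)
  have hx : ∀ x k, act t x k = d k * x k := fun x k => act_mono_coord (π := 1) hcol x k
  refine ⟨t, ht, hx, fun x k => ?_⟩
  have := hx (act t⁻¹ x) k
  rw [act_act_inv] at this
  rw [this, inv_mul_cancel_left₀ (hd k)]

theorem prod_update_pair {a b : ι} (hab : a ≠ b) (u w : F) :
    ∏ j, (Function.update (Function.update (1 : ι → F) a u) b w) j = u * w := by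
  rw [← Finset.prod_subset (Finset.subset_univ {a, b}), Finset.prod_pair hab]
  · simp [hab]
  · intro j _ hj
    simp only [Finset.mem_insert, Finset.mem_singleton, not_or] at hj
    simp [hj.1, hj.2]

theorem elem_of_one (hM : Over M) (h4 : 4 ≤ Fintype.card ι) {a b : ι} (hab : a ≠ b) {c : F} (hc : c ≠ 0)
    (h : ∃ g ∈ M, ∀ x, act g x = x + (c * x b) • Pi.single a 1) : ElemIn M a b := by
  intro e
  rcases eq_or_ne e 0 with rfl | he
  · exact ⟨1, M.one_mem, fun x => by simp [act_one]⟩
  obtain ⟨l, hla, hlb, -⟩ := exists_third h4 a b a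
  obtain ⟨μ, hμ⟩ : ∃ μ, μ = e / c := ⟨_, rfl⟩
  have hμ0 : μ ≠ 0 := hμ ▸ div_ne_zero he hc
  obtain ⟨t, ht, htx, htix⟩ := exists_diag_mem hM (Function.update (Function.update 1 a μ) l μ⁻¹)
    (by rw [prod_update_pair hla.symm, mul_inv_cancel₀ hμ0])
  obtain ⟨g, hg, hgx⟩ := h
  refine ⟨t * g * t⁻¹, M.mul_mem (M.mul_mem ht hg) (M.inv_mem ht), fun x => ?_⟩
  rw [act_mul, act_mul, hgx, map_add, map_smul, act_act_inv, htix]
  congr 1
  funext k
  rw [Pi.smul_apply, htx, single_apply', hμ]
  rcases eq_or_ne k a with rfl | hk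
  · simp [hlb.symm, hab.symm, hla.symm]; field_simp
  · simp [hk]

/-- translations give an elementary transvection -/
theorem elem_of_translation (hM : Over M) (h4 : 4 ≤ Fintype.card ι) (hμ : ∃ μ : F, μ ≠ 0 ∧ μ ≠ 1) {r : ι}
    {δ : ι → F} (hr : δ r = 0) (hδ : δ ≠ 0) (h : ∃ g ∈ M, ∀ x, act g x = x + x r • δ) :
    ∃ a b, a ≠ b ∧ ElemIn M a b := by
  obtain ⟨μ, hμ0, hμ1⟩ := hμ
  have hμi : μ⁻¹ - 1 ≠ 0 := sub_ne_zero.2 (by rwa [ne_eq, inv_eq_one])
  have step : ∀ (δ : ι → F) (j l : ι), δ r = 0 → j ≠ l → j ≠ r → l ≠ r →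
      (∃ g ∈ M, ∀ x, act g x = x + x r • δ) →
      ∃ g ∈ M, ∀ x, act g x =
        x + x r • (((μ - 1) * δ j) • Pi.single j 1 + ((μ⁻¹ - 1) * δ l) • Pi.single l 1) := by
    intro δ j l hr hjl hjr hlr h
    obtain ⟨t, ht, htx, htix⟩ := exists_diag_mem hM (Function.update (Function.update 1 j μ) l μ⁻¹)
      (by rw [prod_update_pair hjl, mul_inv_cancel₀ hμ0])
    obtain ⟨g, hg, hgx⟩ := h
    refine ⟨t * g * t⁻¹ * g⁻¹, M.mul_mem (M.mul_mem (M.mul_mem ht hg) (M.inv_mem ht)) (M.inv_mem hg),
      fun x => ?_⟩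
    have hgi : act g⁻¹ x = x - x r • δ := by
      apply act_injective g
      rw [act_act_inv, hgx]
      simp [hr]
    funext k
    rw [act_mul, act_mul, act_mul, hgx, map_add, map_smul, act_act_inv, hgi]
    simp only [Pi.add_apply, Pi.sub_apply, Pi.smul_apply, htix, htx, single_apply', smul_eq_mul, hr]
    rcases eq_or_ne k j with rfl | hkj
    · simp [hjl, hjr.symm, hlr.symm]; ring
    rcases eq_or_ne k l with rfl | hkl
    · simp [hjl.symm, hjr.symm, hlr.symm]; ring
    · simp [hkj, hkl, hjr.symm, hlr.symm]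
  obtain ⟨j, hj⟩ : ∃ j, δ j ≠ 0 := Function.ne_iff.1 hδ
  have hjr : j ≠ r := fun e => hj (e ▸ hr)
  have fin : ∀ (δ : ι → F) (l : ι), δ r = 0 → δ j ≠ 0 → j ≠ l → l ≠ r → δ l = 0 →
      (∃ g ∈ M, ∀ x, act g x = x + x r • δ) → ∃ a b, a ≠ b ∧ ElemIn M a b := by
    intro δ l hr hj hjl hlr hl h
    obtain ⟨g, hg, hgx⟩ := step δ j l hr hjl hjr hlr h
    refine ⟨j, r, hjr, elem_of_one hM h4 hjr (c := (μ - 1) * δ j) (mul_ne_zero (sub_ne_zero.2 hμ1) hj)
      ⟨g, hg, fun x => ?_⟩⟩
    rw [hgx, hl, mul_zero, zero_smul, add_zero, smul_smul, mul_comm]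
  obtain ⟨l, hlj, hlr, -⟩ := exists_third h4 j r j
  obtain ⟨l', hl'j, hl'r, hl'l⟩ := exists_third h4 j r l
  refine fin (((μ - 1) * δ j) • Pi.single j 1 + ((μ⁻¹ - 1) * δ l) • Pi.single l 1) l' ?_ ?_ hl'j.symm hl'r ?_
    (step δ j l hr hlj.symm hjr hlr h)
  · simp [hjr.symm, hlr.symm]
  · simp [hlj.symm, sub_ne_zero.2 hμ1, hj]
  · simp [hl'j, hl'l]

theorem exists_three_ne [Fintype F] (h5 : 5 ≤ Fintype.card F) :
    ∃ l : F, l ≠ 0 ∧ l ^ 2 ≠ 1 ∧ l ^ 3 ≠ 1 := by
  classical
  obtain ⟨g, hg⟩ := IsCyclic.exists_generator (α := Fˣ)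
  have ho : orderOf g = Fintype.card F - 1 := by
    rw [orderOf_eq_card_of_forall_mem_zpowers hg, Nat.card_units, Nat.card_eq_fintype_card]
  refine ⟨g, g.ne_zero, ?_, ?_⟩ <;> intro h
  · have := Nat.le_of_dvd (by norm_num) (orderOf_dvd_of_pow_eq_one (n := 2) (x := g) (Units.ext (by simpa using h)))
    omega
  · have := Nat.le_of_dvd (by norm_num) (orderOf_dvd_of_pow_eq_one (n := 3) (x := g) (Units.ext (by simpa using h)))
    omega

variable [Fintype F]

theorem elem_of_hasElem (hM : Over M) (h5 : 5 ≤ Fintype.card F) (h4 : 4 ≤ Fintype.card ι) {r : ι}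
    (h : HasElem M r) : ∃ a b, a ≠ b ∧ ElemIn M a b := by
  obtain ⟨a, b, hab, har, hbr, hind⟩ := h
  obtain ⟨g, hg, hgx⟩ := hind 1
  obtain ⟨ν, hν0, hν1⟩ := exists_unit_ne h5
  obtain ⟨ls, hls0, hls2, hls3⟩ := exists_three_ne h5
  obtain ⟨t, ht, htx, htix⟩ := exists_diag_mem hM (Function.update (Function.update 1 a ν) r ν⁻¹)
    (by rw [prod_update_pair har, mul_inv_cancel₀ hν0])
  obtain ⟨k, hk⟩ : ∃ k, k = t * g * t⁻¹ * g⁻¹ := ⟨_, rfl⟩
  have hkM : k ∈ M := hk ▸ M.mul_mem (M.mul_mem (M.mul_mem ht hg) (M.inv_mem ht)) (M.inv_mem hg)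
  -- the behaviour of `g` and `k`
  have hW : ∀ x : ι → F, x r = 0 → act g x = x + x b • Pi.single a 1 := by
    intro x hx
    rw [hgx x hx, single_dotProduct, one_mul]
  obtain ⟨β, u, hu, her⟩ : ∃ (β : F) (u : ι → F), u r = 0 ∧ act g (Pi.single r 1) = β • Pi.single r 1 + u := by
    refine ⟨act g (Pi.single r 1) r, act g (Pi.single r 1) - act g (Pi.single r 1) r • Pi.single r 1, by simp, ?_⟩
    abel
  have hdecomp : ∀ x : ι → F, act g x = x r • (β • Pi.single r 1 + u) + (x - x r • Pi.single r 1)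
      + x b • Pi.single a 1 := by
    intro x
    conv_lhs => rw [show x = x r • Pi.single r 1 + (x - x r • Pi.single r 1) by abel]
    rw [map_add, map_smul, her, hW _ (by simp)]
    simp [hbr]
    abel
  have hβ : β ≠ 0 := by
    intro hβ
    have hrow : ∀ x, act g x r = 0 := fun x => by rw [hdecomp x]; simp [hβ, hu, har.symm]
    have := hrow (act g⁻¹ (Pi.single r 1))
    rw [act_act_inv] at this
    simp at this
  obtain ⟨δ, hδr, hkx⟩ : ∃ δ : ι → F, δ r = 0 ∧
      ∀ x, act k x = x + ((ν - 1) * x b) • Pi.single a 1 + x r • δ := by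
    have hkW : ∀ x : ι → F, x r = 0 → act k x = x + ((ν - 1) * x b) • Pi.single a 1 := by
      intro x hx
      have hgi : act g⁻¹ x = x - x b • Pi.single a 1 := by
        apply act_injective g
        rw [act_act_inv, hW _ (by simp [hx, har.symm])]
        simp [hab.symm]
      have hy : act t⁻¹ (x - x b • Pi.single a 1) r = 0 := by rw [htix]; simp [hx, har.symm]
      rw [hk, act_mul, act_mul, act_mul, hgi, hW _ hy, map_add, map_smul, act_act_inv]
      funext l
      simp only [Pi.add_apply, Pi.sub_apply, Pi.smul_apply, htix, htx, single_apply', smul_eq_mul]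
      rcases eq_or_ne l a with rfl | hla
      · simp [har, hbr, hab.symm]; ring
      · simp [hla]
    have hcoord : ∀ x, act g x r = β * x r := fun x => by
      rw [hdecomp x]; simp [hu, har.symm]; ring
    have hrow : act k (Pi.single r 1) r = 1 := by
      have hgi : act g⁻¹ (Pi.single r 1) r = β⁻¹ := by
        have := hcoord (act g⁻¹ (Pi.single r 1))
        rw [act_act_inv, Pi.single_eq_same] at this
        field_simp
        linear_combination -this
      rw [hk, act_mul, act_mul, act_mul, htx, hcoord, htix, hgi]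
      simp [har.symm]; field_simp
    refine ⟨act k (Pi.single r 1) - Pi.single r 1, by simp [hrow], fun x => ?_⟩
    conv_lhs => rw [show x = x r • Pi.single r 1 + (x - x r • Pi.single r 1) by abel]
    rw [map_add, map_smul, hkW (x - x r • Pi.single r 1) (by simp)]
    simp [hbr]
    module
  obtain ⟨l, hla, hlb, hlr⟩ := exists_third h4 a b r
  obtain ⟨d, hd⟩ : ∃ d : ι → F,
      d = Function.update (Function.update (Function.update (1 : ι → F) a ls) b ls) r (ls ^ 2)⁻¹ := ⟨_, rfl⟩
  obtain ⟨s, hs, hsx, hsix⟩ := exists_diag_mem hM d (by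
    rw [← Finset.prod_subset (Finset.subset_univ {a, b, r}), Finset.prod_insert (by simp [hab, har]),
      Finset.prod_pair hbr]
    · simp [hd, har, hbr, hab]; field_simp
    · intro j _ hj
      simp only [Finset.mem_insert, Finset.mem_singleton, not_or] at hj
      simp [hd, hj.1, hj.2.1, hj.2.2])
  obtain ⟨δ', hδ'⟩ : ∃ δ' : ι → F, δ' = fun j => (ls ^ 2 * d j - 1) * δ j := ⟨_, rfl⟩
  by_cases h0 : δ' = 0
  · have hδ0 : δ = 0 := by
      funext j
      have := congrFun h0 j
      rw [hδ'] at this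
      simp only [Pi.zero_apply] at this ⊢
      rcases eq_or_ne j r with rfl | hjr
      · exact hδr
      refine (mul_eq_zero.1 this).resolve_left ?_
      rcases eq_or_ne j a with rfl | hja
      · simp [hd, hjr, hab]; intro e; exact hls3 (by linear_combination e)
      rcases eq_or_ne j b with rfl | hjb
      · simp [hd, hjr]; intro e; exact hls3 (by linear_combination e)
      · simp [hd, hjr, hja, hjb]; intro e; exact hls2 (by linear_combination e)
    exact ⟨a, b, hab, elem_of_one hM h4 hab (sub_ne_zero.2 hν1) ⟨k, hkM, fun x => by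
      rw [hkx, hδ0, smul_zero, add_zero]⟩⟩
  refine elem_of_translation hM h4 (exists_unit_ne h5) (r := r) (δ := δ') (by simp [hδ', hδr]) h0
    ⟨s * k * s⁻¹ * k⁻¹, M.mul_mem (M.mul_mem (M.mul_mem hs hkM) (M.inv_mem hs)) (M.inv_mem hkM), fun x => ?_⟩
  obtain ⟨y, rfl⟩ : ∃ y, act k y = x := ⟨act k⁻¹ x, act_act_inv k x⟩
  rw [act_mul, act_mul, act_mul, act_inv_act, hkx, map_add, map_add, map_smul, map_smul, act_act_inv, hkx y]
  funext j
  simp only [Pi.add_apply, Pi.smul_apply, hsix, hsx, single_apply', smul_eq_mul, hδr, hδ', if_neg har.symm,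
    mul_zero, add_zero]
  rcases eq_or_ne j a with rfl | hja
  · simp [hd, har, hbr, hab]; field_simp; ring
  · simp [hja, hd, hbr, hbr.symm, har.symm]; field_simp; ring

/-- a row with a single entry -/
theorem elem_of_row (hM : Over M) (h5 : 5 ≤ Fintype.card F) (h4 : 4 ≤ Fintype.card ι) {x₀ : GL ι F}
    (hx₀ : x₀ ∈ M) (hnm : ¬ Mono x₀) {r b : ι} (hrow : ∀ j, j ≠ b → act x₀ (Pi.single j 1) r = 0) :
    ∃ a b, a ≠ b ∧ ElemIn M a b := by
  classical
  obtain ⟨k, hk, γ, hγ, hkr, hkj⟩ := exists_mem_pm_off hM (Equiv.swap r b) r (1 : ι → F) (fun _ _ => one_ne_zero)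
  have hkmono : Mono k := by
    intro j
    rcases eq_or_ne j r with rfl | hj
    · exact ⟨_, _, hkr⟩
    · exact ⟨_, _, hkj j hj⟩
  obtain ⟨x, hxdef⟩ : ∃ x, x = x₀ * k := ⟨_, rfl⟩
  have hxM : x ∈ M := hxdef ▸ M.mul_mem hx₀ hk
  have hxnm : ¬ Mono x := fun h => hnm (by
    rw [show x₀ = x * k⁻¹ by rw [hxdef]; group]; exact h.mul hkmono.inv)
  have hxrow : ∀ j, j ≠ r → act x (Pi.single j 1) r = 0 := by
    intro j hj
    rw [hxdef, act_mul, hkj j hj, map_smul, Pi.smul_apply, hrow _ ?_, smul_zero]
    intro e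
    exact hj (by simpa using congrArg (Equiv.swap r b) e)
  clear hkr hkj hkmono hxdef hrow
  obtain ⟨β, hβ⟩ : ∃ β, β = act x (Pi.single r 1) r := ⟨_, rfl⟩
  have hxr : ∀ y, act x y r = y r * β := by
    intro y
    conv_lhs => rw [eq_sum_single y]
    rw [map_sum, Finset.sum_apply, Finset.sum_eq_single r]
    · rw [map_smul, hβ]; rfl
    · intro j _ hj; rw [map_smul, Pi.smul_apply, hxrow j hj, smul_zero]
    · simp
  have hβ0 : β ≠ 0 := by
    intro h
    have := hxr (act x⁻¹ (Pi.single r 1))
    rw [act_act_inv, h, mul_zero] at this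
    simp at this
  have hxi : ∀ y : ι → F, y r = 0 → act x⁻¹ y r = 0 := by
    intro y hy
    have := hxr (act x⁻¹ y)
    rw [act_act_inv, hy] at this
    exact (mul_eq_zero.1 this.symm).resolve_right hβ0
  by_cases hcol : ∃ j, j ≠ r ∧ ∀ (i : ι) (c : F), act x (Pi.single j 1) ≠ c • Pi.single i 1
  · obtain ⟨j, hjr, hj⟩ := hcol
    obtain ⟨φ, hφ⟩ : ∃ φ : ι → F, φ = fun k => if k = r then 0 else act x⁻¹ (Pi.single k 1) j := ⟨_, rfl⟩
    have hdot : ∀ y : ι → F, y r = 0 → φ ⬝ᵥ y = act x⁻¹ y j := by
      intro y hy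
      conv_rhs => rw [eq_sum_single y]
      rw [map_sum, Finset.sum_apply, dotProduct]
      refine Finset.sum_congr rfl fun k _ => ?_
      rcases eq_or_ne k r with rfl | hk
      · simp [hy]
      · rw [map_smul, hφ]; simp [hk, mul_comm]
    refine elem_of_hasElem hM h5 h4 (hasElem_of_homol hM h5 (by omega) (r := r) (Fintype.card ι)
      φ (act x (Pi.single j 1)) ⟨hxrow j hjr, by simp [hφ], ?_, fun s hs => ?_⟩ ?_ ?_)
    · rw [hdot _ (hxrow j hjr), act_inv_act, Pi.single_eq_same]
    · obtain ⟨t, ht, htx, -⟩ := exists_scale_mem hM hjr (μ := 1 + s) (fun e => hs (eq_neg_of_add_eq_zero_right e))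
      refine ⟨x * t * x⁻¹, M.mul_mem (M.mul_mem hxM ht) (M.inv_mem hxM), fun y hy => ?_⟩
      rw [act_mul, act_mul, htx _ (hxi y hy), map_add, map_smul, act_act_inv, smul_dotProduct, hdot y hy,
        add_sub_cancel_left, smul_eq_mul]
    · by_contra hno; push Not at hno
      by_cases h : ∃ i, act x (Pi.single j 1) i ≠ 0
      · obtain ⟨i, hi⟩ := h
        apply hj i (act x (Pi.single j 1) i)
        funext l
        rw [single_apply']
        split
        · subst l; rfl
        · exact hno i l (by tauto) hi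
      · push Not at h
        have := act_injective x ((funext h : act x (Pi.single j 1) = 0).trans (map_zero _).symm)
        simpa using congrFun this j
    · exact (Finset.card_filter_le _ _).trans le_rfl
  push Not at hcol
  choose! π d hd using hcol
  have hd0 : ∀ j, j ≠ r → d j ≠ 0 := by
    intro j hj h0
    have := act_injective x (((hd j hj).trans (by rw [h0, zero_smul])).trans (map_zero _).symm)
    simpa using congrFun this j
  have hπr : ∀ j, j ≠ r → π j ≠ r := by
    intro j hj e
    have := hxrow j hj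
    rw [hd j hj, e] at this
    simp at this
    exact hd0 j hj this
  let π' : ι → ι := fun j => if j = r then r else π j
  have hinj : Function.Injective π' := by
    intro a c hac
    simp only [π'] at hac
    by_cases ha : a = r <;> by_cases hc : c = r <;> simp only [ha, hc, if_true, if_false] at hac
    · rw [ha, hc]
    · exact absurd hac.symm (hπr c hc)
    · exact absurd hac (hπr a ha)
    · by_contra hne
      have : act x (d c • Pi.single a 1 - d a • Pi.single c 1) = 0 := by
        rw [map_sub, map_smul, map_smul, hd a ha, hd c hc, hac, smul_smul, smul_smul, mul_comm, sub_self]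
      have h2 := congrFun (act_injective x (this.trans (map_zero _).symm)) a
      simp [hne] at h2
      exact hd0 c hc h2
  obtain ⟨σ, hσdef⟩ : ∃ σ : Equiv.Perm ι, ∀ j, σ j = π' j :=
    ⟨Equiv.ofBijective π' (Finite.injective_iff_bijective.1 hinj), fun _ => rfl⟩
  obtain ⟨k, hk, γ, hγ, hkr, hkj⟩ := exists_mem_pm_off hM σ r d hd0
  obtain ⟨y, hy⟩ : ∃ y, y = k⁻¹ * x := ⟨_, rfl⟩
  have hyM : y ∈ M := hy ▸ M.mul_mem (M.inv_mem hk) hxM
  have hyW : ∀ j, j ≠ r → act y (Pi.single j 1) = Pi.single j 1 := by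
    intro j hj
    apply act_injective k
    rw [hy, act_mul, act_act_inv, hd j hj, hkj j hj, hσdef]
    simp [π', hj]
  obtain ⟨v, hv⟩ : ∃ v, v = act y (Pi.single r 1) - Pi.single r 1 := ⟨_, rfl⟩
  have hform : ∀ z, act y z = z + (LinearMap.proj r : (ι → F) →ₗ[F] F) z • v := by
    intro z
    have hfix : ∀ w : ι → F, w r = 0 → act y w = w := by
      intro w hw
      conv_lhs => rw [eq_sum_single w]
      conv_rhs => rw [eq_sum_single w]
      rw [map_sum]
      refine Finset.sum_congr rfl fun j _ => ?_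
      rcases eq_or_ne j r with rfl | hj
      · rw [hw, zero_smul, map_zero]
      · rw [map_smul, hyW j hj]
    have h := congrArg (act y) (show z = z r • Pi.single r 1 + (z - z r • Pi.single r 1) by abel)
    rw [map_add, map_smul, hfix (z - z r • Pi.single r 1) (by simp)] at h
    rw [h, hv, LinearMap.proj_apply]
    module
  have hvr : v r = 0 := by
    have h1 : (y : Matrix ι ι F).det = 1 := mem_specialLinear_iff.1 (hM.1 hyM)
    rw [det_eq_of_fix_hyperplane hform] at h1
    simpa using h1
  refine elem_of_translation hM h4 (exists_unit_ne h5) hvr (fun hv0 => hxnm ?_) ⟨y, hyM, hform⟩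
  have hy1 : y = 1 := gl_ext fun z => by rw [hform, hv0, smul_zero, add_zero, act_one]
  rw [show x = k by rw [hy] at hy1; exact (inv_mul_eq_one.1 hy1).symm]
  intro j
  rcases eq_or_ne j r with rfl | hj
  · exact ⟨_, _, hkr⟩
  · exact ⟨_, _, hkj j hj⟩

/-- transposed inverse -/
noncomputable def dual : GL ι F →* GL ι F where
  toFun g :=
    { val := ((g⁻¹ : GL ι F) : Matrix ι ι F)ᵀ
      inv := (g : Matrix ι ι F)ᵀ
      val_inv := by rw [← Matrix.transpose_mul, ← Units.val_mul, mul_inv_cancel, Units.val_one, Matrix.transpose_one]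
      inv_val := by rw [← Matrix.transpose_mul, ← Units.val_mul, inv_mul_cancel, Units.val_one, Matrix.transpose_one] }
  map_one' := Units.ext (by simp)
  map_mul' g h := Units.ext (by simp [_root_.mul_inv_rev, Matrix.transpose_mul])

theorem act_single_apply (g : GL ι F) (i j : ι) : act g (Pi.single j 1) i = (g : Matrix ι ι F) i j := by
  rw [act_apply, Matrix.mulVec_single_one]; rfl

theorem coe_dual (g : GL ι F) : (dual g : Matrix ι ι F) = ((g⁻¹ : GL ι F) : Matrix ι ι F)ᵀ := rfl

theorem dual_dual (g : GL ι F) : dual (dual g) = g := by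
  refine Units.ext ?_
  rw [coe_dual, ← map_inv, coe_dual, inv_inv, Matrix.transpose_transpose]

theorem act_dual_single (g : GL ι F) (i j : ι) :
    act (dual g) (Pi.single j 1) i = act g⁻¹ (Pi.single i 1) j := by
  rw [act_single_apply, act_single_apply, coe_dual, Matrix.transpose_apply]

theorem mono_dual {g : GL ι F} (hg : Mono g) : Mono (dual g) := by
  obtain ⟨π, d, hd0, hd⟩ := hg.inv.exists_data
  intro j
  refine ⟨π.symm j, d (π.symm j), funext fun i => ?_⟩
  rw [act_dual_single, hd, single_apply', single_apply']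
  by_cases h : i = π.symm j
  · subst h; simp
  · rw [if_neg h, if_neg]; rintro rfl; exact h (by simp)

theorem over_comap (hM : Over M) : Over (M.comap (dual (ι := ι) (F := F))) := by
  refine ⟨fun g hg => ?_, fun g hg hs => ?_⟩
  · have h := mem_specialLinear_iff.1 (hM.1 hg)
    rw [coe_dual, Matrix.det_transpose, Matrix.coe_units_inv, Matrix.det_nonsing_inv, Ring.inverse_eq_inv',
      inv_eq_one] at h
    exact mem_specialLinear_iff.2 h
  · refine hM.2 _ (mono_dual hg) (mem_specialLinear_iff.2 ?_)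
    rw [coe_dual, Matrix.det_transpose, Matrix.coe_units_inv, Matrix.det_nonsing_inv, Ring.inverse_eq_inv',
      mem_specialLinear_iff.1 hs, inv_one]

/-- a column with a single entry -/
theorem elem_of_col (hM : Over M) (h5 : 5 ≤ Fintype.card F) (h4 : 4 ≤ Fintype.card ι) {m : GL ι F} (hm : m ∈ M)
    (hnm : ¬ Mono m) {a i : ι} {c : F} (hcol : act m (Pi.single a 1) = c • Pi.single i 1) :
    ∃ a b, a ≠ b ∧ ElemIn M a b := by
  have hc : c ≠ 0 := by
    rintro rfl
    have := act_injective m ((hcol.trans (zero_smul _ _)).trans (map_zero _).symm)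
    simpa using congrFun this a
  obtain ⟨p, q, hpq, hel⟩ := elem_of_row (over_comap hM) h5 h4 (x₀ := dual m)
    (Subgroup.mem_comap.2 (by rwa [dual_dual])) (fun h => hnm (by simpa [dual_dual] using mono_dual h))
    (r := i) (b := a) (fun j hj => by
      rw [act_dual_single, show act m⁻¹ (Pi.single i 1) = c⁻¹ • Pi.single a 1 from ?_, single_apply', if_neg hj]
      apply act_injective m
      rw [act_act_inv, map_smul, hcol, inv_smul_smul₀ hc])
  refine ⟨q, p, hpq.symm, fun e => ?_⟩
  obtain ⟨h, hh, hhx⟩ := hel (-e)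
  refine ⟨dual h, Subgroup.mem_comap.1 hh, fun x => ?_⟩
  have hi : ∀ y, act h⁻¹ y = y + (e * y q) • Pi.single p 1 := by
    intro y
    apply act_injective h
    rw [act_act_inv, hhx]
    simp [hpq.symm]
  funext k
  conv_lhs => rw [eq_sum_single x]
  rw [map_sum, Finset.sum_apply]
  simp only [map_smul, Pi.smul_apply, act_dual_single, hi, Pi.add_apply, single_apply', smul_eq_mul]
  simp [Pi.single_apply, mul_add, Finset.sum_add_distrib]
  by_cases hkq : k = q
  · subst hkq; simp; ring
  · simp [hkq, Ne.symm hkq]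

/-- a row with three zeros -/
theorem elem_of_zeros (hM : Over M) (h5 : 5 ≤ Fintype.card F) (h4 : 4 ≤ Fintype.card ι) {m : GL ι F} (hm : m ∈ M)
    (hnm : ¬ Mono m) {r a b c : ι} (hab : a ≠ b) (hac : a ≠ c) (hbc : b ≠ c)
    (ha : act m (Pi.single a 1) r = 0) (hb : act m (Pi.single b 1) r = 0) (hc : act m (Pi.single c 1) r = 0) :
    ∃ a b, a ≠ b ∧ ElemIn M a b := by
  obtain ⟨l, hl0, hl2, hl3⟩ := exists_three_ne h5
  by_cases hcola : ∃ (i : ι) (c : F), act m (Pi.single a 1) = c • Pi.single i 1
  · obtain ⟨i, c', h⟩ := hcola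
    exact elem_of_col hM h5 h4 hm hnm h
  push Not at hcola
  have hl1 : l ≠ 1 := fun e => hl2 (by rw [e, one_pow])
  have hlm : l ≠ -1 := fun e => hl2 (by rw [e]; ring)
  have hli : l ≠ l⁻¹ := fun e => hl2 (by
    calc l ^ 2 = l * l := sq l
      _ = l * l⁻¹ := by rw [← e]
      _ = 1 := mul_inv_cancel₀ hl0)
  obtain ⟨T, hT⟩ : ∃ T, T = 1 + l + l⁻¹ := ⟨_, rfl⟩
  have hT0 : T ≠ 0 := by
    intro e; rw [hT] at e; field_simp at e
    exact hl3 (by linear_combination (l - 1) * e)
  by_cases hx : ∃ b', b' ≠ a ∧ act m (Pi.single b' 1) r = 0 ∧ ∀ (x : GL ι F), x ∈ M → Mono x →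
      ¬ (∀ z, act x (act m z) = act m (fun k => (if k = a then l else if k = b' then l⁻¹ else 1) * z k))
  · -- the conjugate is not monomial
    obtain ⟨b', hb'a, hb'0, hx⟩ := hx
    obtain ⟨t, ht, htx, -⟩ := exists_diag_mem hM (fun k => if k = a then l else if k = b' then l⁻¹ else 1) (by
      rw [← Finset.prod_subset (Finset.subset_univ {a, b'}), Finset.prod_pair hb'a.symm]
      · simp [hb'a, hl0]
      · intro j _ hj
        simp only [Finset.mem_insert, Finset.mem_singleton, not_or] at hj
        simp [hj.1, hj.2])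
    have hxM : m * t * m⁻¹ ∈ M := M.mul_mem (M.mul_mem hm ht) (M.inv_mem hm)
    refine elem_of_row hM h5 h4 hxM (fun hmo => hx _ hxM hmo fun z => ?_) (r := r) (b := r) fun j hj => ?_
    · rw [act_mul, act_mul, act_inv_act]; congr 1; funext k; rw [htx]
    · have key : ∀ z, act m (act t z) r = act m z r := by
        intro z
        conv_lhs => rw [eq_sum_single (act t z)]
        conv_rhs => rw [eq_sum_single z]
        simp only [map_sum, map_smul, Finset.sum_apply, Pi.smul_apply, smul_eq_mul, htx]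
        refine Finset.sum_congr rfl fun k _ => ?_
        rcases eq_or_ne k a with rfl | hka
        · simp [ha]
        rcases eq_or_ne k b' with rfl | hkb
        · simp [hb'0]
        · simp [hka, hkb]
      rw [act_mul, act_mul, key, act_act_inv]
      simp [hj.symm]
  push Not at hx
  exfalso
  -- both conjugates are monomial
  have plane : ∀ b', b' ≠ a → act m (Pi.single b' 1) r = 0 → ∀ i, act m (Pi.single a 1) i ≠ 0 →
      ∃ j, j ≠ i ∧ act m (Pi.single a 1) j ≠ 0 ∧ ∀ k, k ≠ i → k ≠ j →
        act m (Pi.single a 1) k = 0 ∧ act m (Pi.single b' 1) k = 0 := by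
    intro b' hb'a hb'0 i hi
    obtain ⟨x, -, hxm, hxz⟩ := hx b' hb'a hb'0
    obtain ⟨π, d, hd0, hd⟩ := hxm.exists_data
    set D : ι → F := fun k => if k = a then l else if k = b' then l⁻¹ else 1 with hD
    have hcub : ∀ z, act x (act x (act x z)) = T • act x (act x z) - T • act x z + z := by
      intro z
      obtain ⟨y, rfl⟩ : ∃ y, act m y = z := ⟨act m⁻¹ z, act_act_inv m z⟩
      simp only [hxz, ← map_smul, ← map_sub, ← map_add]
      congr 1; funext k
      simp only [Pi.add_apply, Pi.sub_apply, Pi.smul_apply, smul_eq_mul]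
      have hk : (D k - 1) * (D k - l) * (D k - l⁻¹) = 0 := by simp only [hD]; split_ifs <;> ring
      rw [hT]
      linear_combination y k * hk + y k * (1 - D k) * (mul_inv_cancel₀ hl0)
    have hππ : π (π i) = i := by
      by_contra hne
      have h1 := congrFun (hcub (Pi.single i 1)) (π (π i))
      simp only [hd, map_smul, smul_smul, Pi.add_apply, Pi.sub_apply, Pi.smul_apply, smul_eq_mul] at h1
      have n1 : π i ≠ i := fun e => hne (by rw [e, e])
      have n2 : π (π i) ≠ π i := fun e => n1 (π.injective e)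
      have n3 : π (π (π i)) ≠ π (π i) := fun e => n2 (π.injective e)
      simp [n2, hne, n3.symm] at h1
      rcases h1 with h | h | h
      all_goals first | exact hT0 h | exact hd0 _ h
    set v := act m (Pi.single a 1) with hv
    have hxv : act x v = l • v := by
      rw [hv, hxz, ← map_smul]; congr 1; funext k
      rcases eq_or_ne k a with rfl | hka <;> simp [hD, *]
    have eig : ∀ z μ, act x z = μ • z → ∀ k, (D k - μ) * act m⁻¹ z k = 0 := by
      intro z μ hz k
      have h1 := hxz (act m⁻¹ z)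
      rw [act_act_inv, hz] at h1
      have h2 := congrFun (congrArg (act m⁻¹) h1) k
      rw [map_smul, act_inv_act, Pi.smul_apply, smul_eq_mul] at h2
      linear_combination -h2
    have expand : ∀ z, z = ∑ k, act m⁻¹ z k • act m (Pi.single k 1) := by
      intro z
      conv_lhs => rw [← act_act_inv m z, eq_sum_single (act m⁻¹ z), map_sum]
      simp only [map_smul]
    have c1 := act_mono_coord hd v i
    rw [hxv, Pi.smul_apply, smul_eq_mul] at c1
    have c2 := act_mono_coord hd v (π i)
    rw [hxv, Pi.smul_apply, smul_eq_mul, hππ] at c2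
    obtain ⟨j, hjdef⟩ : ∃ j, j = π i := ⟨_, rfl⟩
    rw [← hjdef] at c1 c2 hππ
    have hvj : v j ≠ 0 := fun e => mul_ne_zero (hd0 i) hi (by rw [← c1, e, mul_zero])
    have hxi : act x (Pi.single i 1) = d i • Pi.single j 1 := by rw [hd, hjdef]
    have hxj : act x (Pi.single j 1) = d j • Pi.single i 1 := by rw [hd, hππ]
    have supp : ∀ z, act x z = l • z → z = act m⁻¹ z a • v := by
      intro z hz
      conv_lhs => rw [expand z]
      refine Finset.sum_eq_single a (fun k _ hk => ?_) (by simp)
      have := eig z l hz k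
      have hne : D k - l ≠ 0 := by
        simp only [hD, if_neg hk]; split_ifs
        · exact sub_ne_zero.2 hli.symm
        · exact sub_ne_zero.2 hl1.symm
      rw [(mul_eq_zero.1 this).resolve_left hne, zero_smul]
    have hji : j ≠ i := by
      intro e
      rw [e] at c1 hxi
      have hdi : d i = l := mul_right_cancel₀ hi c1.symm
      have h1 := supp _ (by rw [hxi, hdi] : act x (Pi.single i 1) = l • Pi.single i 1)
      have hk0 : act m⁻¹ (Pi.single i 1) a ≠ 0 := fun z => by
        rw [z, zero_smul] at h1; simpa using congrFun h1 i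
      exact hcola i _ (((congrArg ((act m⁻¹ (Pi.single i 1) a)⁻¹ • ·) h1).trans (inv_smul_smul₀ hk0 v)).symm)
    have hz : act x (v i • Pi.single i 1 + v j • Pi.single j 1 : ι → F)
        = l • (v i • Pi.single i 1 + v j • Pi.single j 1) := by
      rw [map_add, map_smul, map_smul, hxi, hxj]
      match_scalars
      · linear_combination -c1
      · linear_combination -c2
    have h1 := supp _ hz
    have hk1 : act m⁻¹ (v i • Pi.single i 1 + v j • Pi.single j 1) a = 1 := by
      have h2 := congrFun h1 i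
      simp [hji.symm] at h2
      refine mul_right_cancel₀ hi ?_
      rw [one_mul]
      simpa using h2.symm
    rw [hk1, one_smul] at h1
    have hv0 : ∀ k, k ≠ i → k ≠ j → v k = 0 := fun k hki hkj => by
      rw [← congrFun h1 k]; simp [hki, hkj]
    refine ⟨j, hji, hvj, fun k hki hkj => ⟨hv0 k hki hkj, ?_⟩⟩
    obtain ⟨w, hw⟩ : ∃ w : ι → F, w = v i • Pi.single i 1 - v j • Pi.single j 1 := ⟨_, rfl⟩
    have hxw : act x w = (-l) • w := by
      rw [hw, map_sub, map_smul, map_smul, hxi, hxj]
      match_scalars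
      · linear_combination -c1
      · linear_combination c2
    have h2ne : (2 : F) ≠ 0 := by
      intro h2
      have e := congrFun (hcub (Pi.single i 1)) i
      simp only [hxi, hxj, map_smul, smul_smul, Pi.add_apply, Pi.sub_apply, Pi.smul_apply, smul_eq_mul] at e
      simp [hji.symm] at e
      have e' := congrFun (hcub (Pi.single i 1)) j
      simp only [hxi, hxj, map_smul, smul_smul, Pi.add_apply, Pi.sub_apply, Pi.smul_apply, smul_eq_mul] at e'
      simp [hji] at e'
      have hdd : d i * d j = l ^ 2 := by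
        apply mul_right_cancel₀ hi
        linear_combination -d j * c1 - l * c2
      have e1 : T * l ^ 2 = -1 := by linear_combination -e - T * hdd
      have e2 : l ^ 2 = -T := by
        apply mul_left_cancel₀ (hd0 i)
        linear_combination e' - d i * hdd
      have e4 : (l ^ 2 - 1) * (l ^ 2 - 1) = 0 := by linear_combination (l ^ 2) * e2 - e1 + (1 - l ^ 2) * h2
      exact hl2 (sub_eq_zero.1 (mul_self_eq_zero.1 e4))
    have hwexp : w = act m⁻¹ w a • v + act m⁻¹ w b' • act m (Pi.single b' 1) := by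
      conv_lhs => rw [expand w]
      rw [← Finset.sum_subset (Finset.subset_univ {a, b'}), Finset.sum_pair hb'a.symm]
      intro l' _ hl'
      simp only [Finset.mem_insert, Finset.mem_singleton, not_or] at hl'
      have := eig w (-l) hxw l'
      rw [(mul_eq_zero.1 this).resolve_left (by
        simp only [hD, if_neg hl'.1, if_neg hl'.2]
        intro e; exact hlm (by linear_combination e)), zero_smul]
    have hwb : act m⁻¹ w b' ≠ 0 := by
      intro e
      have hκ : w = act m⁻¹ w a • v := by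
        have := hwexp; rwa [e, zero_smul, add_zero] at this
      generalize act m⁻¹ w a = κ at hκ
      have hwi := congrFun hκ i
      have hwj := congrFun hκ j
      simp only [hw, Pi.sub_apply, Pi.smul_apply, Pi.single_eq_same, Pi.single_eq_of_ne hji, Pi.single_eq_of_ne hji.symm,
        smul_eq_mul, mul_one, mul_zero, sub_zero, zero_sub] at hwi hwj
      have hκ1 : κ = 1 := (mul_eq_right₀ hi).1 hwi.symm
      rw [hκ1, one_mul] at hwj
      exact mul_ne_zero h2ne hvj (by linear_combination -hwj)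
    have hk := congrFun hwexp k
    obtain ⟨A, hA⟩ : ∃ A, A = act m⁻¹ w a := ⟨_, rfl⟩
    obtain ⟨B, hB⟩ : ∃ B, B = act m⁻¹ w b' := ⟨_, rfl⟩
    rw [← hA, ← hB] at hk
    rw [← hB] at hwb
    simp only [hw, Pi.sub_apply, Pi.add_apply, Pi.smul_apply, Pi.single_eq_of_ne hki, Pi.single_eq_of_ne hkj,
      smul_eq_mul, hv0 k hki hkj, mul_zero, sub_zero, zero_add] at hk
    exact (mul_eq_zero.1 hk.symm).resolve_left hwb
  obtain ⟨i, hi⟩ : ∃ i, act m (Pi.single a 1) i ≠ 0 := by
    by_contra h; push Not at h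
    have := act_injective m ((funext h : act m (Pi.single a 1) = 0).trans (map_zero _).symm)
    simpa using congrFun this a
  obtain ⟨j, hji, hvj, hB⟩ := plane b hab.symm hb i hi
  obtain ⟨j', -, hvj', hC⟩ := plane c hac.symm hc i hi
  obtain rfl : j = j' := by
    by_contra hne
    exact hvj ((hC j hji hne).1)
  obtain ⟨ua, hua⟩ : ∃ ua, ua = act m (Pi.single a 1) := ⟨_, rfl⟩
  rw [← hua] at hB hC hi
  have P : ∀ u : ι → F, (∀ k, k ≠ i → k ≠ j → u k = 0) →
      ua i • u - u i • ua = (ua i * u j - u i * ua j) • Pi.single j 1 := by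
    intro u hu
    funext k
    simp only [Pi.sub_apply, Pi.smul_apply, smul_eq_mul, single_apply']
    rcases eq_or_ne k i with rfl | hki
    · simp [hji.symm, mul_comm]
    rcases eq_or_ne k j with rfl | hkj
    · simp
    · simp [hkj, hu k hki hkj, (hB k hki hkj).1]
  have e1 := P _ (fun k hki hkj => (hB k hki hkj).2)
  have e2 := P _ (fun k hki hkj => (hC k hki hkj).2)
  generalize hκ1 : ua i * act m (Pi.single b 1) j - act m (Pi.single b 1) i * ua j = κ1 at e1
  generalize hκ2 : ua i * act m (Pi.single c 1) j - act m (Pi.single c 1) i * ua j = κ2 at e2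
  have comb : act m (κ2 • (ua i • Pi.single b 1 - act m (Pi.single b 1) i • Pi.single a 1)
      - κ1 • (ua i • Pi.single c 1 - act m (Pi.single c 1) i • Pi.single a 1)) = 0 := by
    simp only [map_sub, map_smul, ← hua, e1, e2, smul_smul, mul_comm, sub_self]
  have z := act_injective m (comb.trans (map_zero _).symm)
  have zb := congrFun z b
  simp [hab.symm, hbc, hi] at zb
  have z2 : act m (ua i • Pi.single c 1 - act m (Pi.single c 1) i • Pi.single a 1) = 0 := by
    rw [map_sub, map_smul, map_smul, ← hua, e2, zb, zero_smul]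
  have zc := congrFun (act_injective m (z2.trans (map_zero _).symm)) c
  simp [hac.symm] at zc
  exact hi zc

/-- vectors with few possibly non-zero coordinates are few -/
theorem card_le_of_supp {κ : Type*} [Fintype κ] (v : κ → ι → F) (hli : LinearIndependent F v) (T : Finset ι)
    (hT : ∀ a k, k ∉ T → v a k = 0) : Fintype.card κ ≤ T.card := by
  have h : Submodule.span F (Set.range v) ≤ Submodule.span F (((fun k => (Pi.single k 1 : ι → F)) '' T)) := by
    rw [Submodule.span_le]
    rintro _ ⟨a, rfl⟩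
    rw [SetLike.mem_coe, eq_sum_single (v a)]
    refine Submodule.sum_mem _ fun k _ => ?_
    by_cases hk : k ∈ T
    · exact Submodule.smul_mem _ _ (Submodule.subset_span ⟨k, hk, rfl⟩)
    · rw [hT a k hk, zero_smul]; exact Submodule.zero_mem _
  have h1 := Submodule.finrank_mono h
  rw [finrank_span_eq_card hli] at h1
  classical
  rw [← Finset.coe_image] at h1
  exact h1.trans ((finrank_span_finset_le_card _).trans Finset.card_image_le)

theorem not_li_three (v : Fin 3 → ι → F) (p q : ι → F) (h : ∀ a, v a ∈ Submodule.span F ({p, q} : Set (ι → F))) :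
    ¬ LinearIndependent F v := by
  classical
  intro hli
  have h1 := Submodule.finrank_mono (Submodule.span_le.2 (Set.range_subset_iff.2 h))
  rw [finrank_span_eq_card hli, Fintype.card_fin] at h1
  have h2 : Module.finrank F (Submodule.span F ({p, q} : Set (ι → F))) ≤ 2 := by
    have := finrank_span_finset_le_card (R := F) ({p, q} : Finset (ι → F))
    rw [Set.finrank, Finset.coe_insert, Finset.coe_singleton] at this
    exact this.trans Finset.card_le_two
  omega

/-- the support of a vector -/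
noncomputable def supp (v : ι → F) : Finset ι := by classical exact Finset.univ.filter fun k => v k ≠ 0

theorem mem_supp {v : ι → F} {k : ι} : k ∈ supp v ↔ v k ≠ 0 := by simp [supp]

/-- a monomial matrix of order three moving a vector along a triangle -/
theorem supp_triangle {x : GL ι F} (hx : Mono x) (h3 : ∀ z, act x (act x (act x z)) = z) {ua ub uc : ι → F}
    (hab : act x ua = ub) (hbc : act x ub = uc)
    (himg : ∀ z, act x z - z ∈ Submodule.span F ({ub - ua, uc - ub} : Set (ι → F))) :
    (supp (ub - ua) ∪ supp (uc - ub)).card ≤ 3 := by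
  classical
  obtain ⟨π, d, hd0, hd⟩ := hx.exists_data
  obtain ⟨Mv, hMv⟩ : ∃ Mv : Finset ι, ∀ i, i ∈ Mv ↔ act x (Pi.single i 1) ≠ Pi.single i 1 :=
    ⟨Finset.univ.filter fun i => act x (Pi.single i 1) ≠ Pi.single i 1, by simp⟩
  have hout : ∀ i, i ∉ Mv → π i = i ∧ d i = 1 := by
    intro i hi
    rw [hMv, not_not, hd] at hi
    have h1 := congrFun hi (π i)
    rw [single_apply', if_pos rfl] at h1
    by_cases h : π i = i
    · rw [h, Pi.single_eq_same] at h1; exact ⟨h, h1⟩
    · rw [Pi.single_eq_of_ne h] at h1; exact absurd h1 (hd0 i)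
  have hsub : ∀ z, supp (act x z - z) ⊆ Mv := by
    intro z k hk
    rw [mem_supp] at hk
    by_contra h
    obtain ⟨h1, h2⟩ := hout k h
    have := act_mono_coord hd z k
    rw [h1, h2, one_mul] at this
    exact hk (by rw [Pi.sub_apply, this, sub_self])
  refine le_trans (Finset.card_le_card (Finset.union_subset (hab ▸ hsub ua) (hbc ▸ hsub ub))) ?_
  have hπ3 : ∀ i, π (π (π i)) = i := by
    intro i
    by_contra hne
    have h1 := congrFun (h3 (Pi.single i 1)) (π (π (π i)))
    simp [hd, map_smul, smul_smul, hne, hd0] at h1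
  have hy : ∀ i k, k ≠ i → k ≠ π i → (act x (Pi.single i 1) - Pi.single i 1 : ι → F) k = 0 := by
    intro i k h1 h2; rw [hd]; simp [h1, h2]
  have hdep : ∀ v : Fin 3 → ι, ¬ LinearIndependent F fun a => (act x (Pi.single (v a) 1) - Pi.single (v a) 1 : ι → F) :=
    fun v => not_li_three _ _ _ fun a => himg _
  have hself : ∀ l, l ∈ Mv → (act x (Pi.single l 1) - Pi.single l 1 : ι → F) l ≠ 0 := by
    intro l hl
    rw [hMv, hd] at hl
    rw [hd]
    by_cases h : π l = l
    · rw [h] at hl ⊢
      simp only [Pi.sub_apply, Pi.smul_apply, Pi.single_eq_same, smul_eq_mul, mul_one]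
      intro e
      exact hl (by rw [sub_eq_zero.1 e, one_smul])
    · simp [Ne.symm h]
  by_cases hcyc : ∃ i, π i ≠ i
  · obtain ⟨i, hi⟩ := hcyc
    have hi2 : π (π i) ≠ i := fun e => hi (by have := hπ3 i; rwa [e] at this)
    have hii : π (π i) ≠ π i := fun e => hi (π.injective e)
    refine le_trans (Finset.card_le_card (show Mv ⊆ {i, π i, π (π i)} from fun l hl => ?_)) Finset.card_le_three
    by_contra hlO
    simp only [Finset.mem_insert, Finset.mem_singleton, not_or] at hlO
    obtain ⟨hl1, hl2, hl3⟩ := hlO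
    apply hdep ![i, π i, l]
    rw [Fintype.linearIndependent_iff]
    intro g hg
    rw [Fin.sum_univ_three] at hg
    simp only [Matrix.cons_val_zero, Matrix.cons_val_one, Matrix.cons_val_two, Matrix.head_cons, Matrix.tail_cons,
      Matrix.cons_val] at hg
    have el := congrFun hg l
    simp only [Pi.add_apply, Pi.smul_apply, hy i l hl1 hl2, hy (π i) l hl2 hl3, smul_zero, mul_zero, zero_add,
      Pi.zero_apply, smul_eq_mul] at el
    have g2 : g 2 = 0 := (mul_eq_zero.1 el).resolve_right (hself l hl)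
    have ei := congrFun hg i
    simp only [Pi.add_apply, Pi.smul_apply, hy (π i) i hi.symm hi2.symm, g2, smul_zero, mul_zero, add_zero,
      Pi.zero_apply, smul_eq_mul, zero_mul] at ei
    have hiM : i ∈ Mv := by
      rw [hMv]; intro e; exact hi (hout i (by rw [hMv]; exact not_not.2 e)).1
    have g0 : g 0 = 0 := (mul_eq_zero.1 ei).resolve_right (hself i hiM)
    have hiM' : π i ∈ Mv := by
      rw [hMv]; intro e; exact hii (hout (π i) (by rw [hMv]; exact not_not.2 e)).1
    have ep := congrFun hg (π i)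
    simp only [Pi.add_apply, Pi.smul_apply, g0, g2, Pi.zero_apply, smul_eq_mul, zero_mul, zero_add, add_zero] at ep
    have g1 : g 1 = 0 := (mul_eq_zero.1 ep).resolve_right (hself (π i) hiM')
    intro a; fin_cases a <;> assumption
  · push Not at hcyc
    by_contra hcard
    obtain ⟨t, ht, ht3⟩ := Finset.exists_subset_card_eq (s := Mv) (n := 3) (by omega)
    obtain ⟨p, q, r, hpq, hpr, hqr, rfl⟩ := Finset.card_eq_three.1 ht3
    apply hdep ![p, q, r]
    rw [Fintype.linearIndependent_iff]
    intro g hg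
    rw [Fin.sum_univ_three] at hg
    simp only [Matrix.cons_val_zero, Matrix.cons_val_one, Matrix.cons_val_two, Matrix.head_cons, Matrix.tail_cons,
      Matrix.cons_val] at hg
    have z : ∀ a k, k ≠ a → (act x (Pi.single a 1) - Pi.single a 1 : ι → F) k = 0 := fun a k h =>
      hy a k h (by rwa [hcyc a])
    have e0 := congrFun hg p
    simp only [Pi.add_apply, Pi.smul_apply, z q p hpq, z r p hpr, smul_zero, mul_zero, add_zero, Pi.zero_apply,
      smul_eq_mul] at e0
    have e1 := congrFun hg q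
    simp only [Pi.add_apply, Pi.smul_apply, z p q hpq.symm, z r q hqr, smul_zero, mul_zero, zero_add, add_zero, Pi.zero_apply,
      smul_eq_mul] at e1
    have e2 := congrFun hg r
    simp only [Pi.add_apply, Pi.smul_apply, z p r hpr.symm, z q r hqr.symm, smul_zero, mul_zero, zero_add, Pi.zero_apply,
      smul_eq_mul] at e2
    have g0 : g 0 = 0 := (mul_eq_zero.1 e0).resolve_right (hself p (ht (by simp)))
    have g1 : g 1 = 0 := (mul_eq_zero.1 e1).resolve_right (hself q (ht (by simp)))
    have g2 : g 2 = 0 := (mul_eq_zero.1 e2).resolve_right (hself r (ht (by simp)))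
    intro a; fin_cases a <;> assumption

/-- vectors of a configuration with small triangles are a fixed vector plus single entries -/
theorem exists_common {κ : Type} [DecidableEq κ] (S : Finset κ) (u : κ → ι → F) (hcard : 8 ≤ S.card)
    (htri : ∀ a ∈ S, ∀ b ∈ S, ∀ c ∈ S, a ≠ b → a ≠ c → b ≠ c → (supp (u b - u a) ∪ supp (u c - u b)).card ≤ 3)
    (hind : ∀ o ∈ S, ∀ A ⊆ S.erase o, LinearIndependent F fun a : A => u a - u o) :
    ∃ (w : ι → F) (G : Finset κ), G ⊆ S ∧ S.card ≤ G.card + 2 ∧
      ∀ a ∈ G, ∃ p, ∀ k, k ≠ p → u a k = w k := by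
  classical
  have symm : ∀ a b, supp (u a - u b) = supp (u b - u a) := by
    intro a b; ext k; rw [mem_supp, mem_supp, Pi.sub_apply, Pi.sub_apply, sub_ne_zero, sub_ne_zero, ne_comm]
  have union : ∀ o ∈ S, ∀ a ∈ S, ∀ b ∈ S, a ≠ o → b ≠ o → a ≠ b →
      (supp (u a - u o) ∪ supp (u b - u o)).card ≤ 3 := by
    intro o ho a ha b hb hao hbo hab
    have := htri a ha o ho b hb hao hab hbo.symm
    rwa [symm o a] at this
  have small : ∀ o ∈ S, ∀ (T : Finset ι) (A : Finset κ), A ⊆ S.erase o → (∀ a ∈ A, supp (u a - u o) ⊆ T) →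
      A.card ≤ T.card := by
    intro o ho T A hA h
    have := card_le_of_supp _ (hind o ho A hA) T fun a k hk => by
      by_contra hne; exact hk (h a a.2 (mem_supp.2 hne))
    simpa using this
  have two : ∀ o ∈ S, ∀ a ∈ S, a ≠ o → (supp (u a - u o)).card ≤ 2 := by
    intro o ho a ha hao
    by_contra h
    have hsub : ∀ b ∈ S.erase o, supp (u b - u o) ⊆ supp (u a - u o) := by
      intro b hb
      rcases eq_or_ne b a with rfl | hba
      · exact subset_rfl
      have h1 := union o ho a ha b (Finset.mem_of_mem_erase hb) hao (Finset.ne_of_mem_erase hb) hba.symm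
      have e := Finset.eq_of_subset_of_card_le (Finset.subset_union_left (s₁ := supp (u a - u o)) (s₂ := supp (u b - u o))) (by omega)
      exact e ▸ Finset.subset_union_right
    have h1 := small o ho _ _ subset_rfl hsub
    rw [Finset.card_erase_of_mem ho] at h1
    have h2 : (supp (u a - u o)).card ≤ 3 := by
      obtain ⟨b, hb, hbo, hba⟩ : ∃ b ∈ S, b ≠ o ∧ b ≠ a := by
        by_contra hno; push Not at hno
        have := Finset.card_le_card (show S ⊆ {o, a} from fun x hx => by
          simp only [Finset.mem_insert, Finset.mem_singleton]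
          by_cases hxo : x = o
          · exact Or.inl hxo
          · exact Or.inr (hno x hx hxo))
        have h' : ({o, a} : Finset κ).card ≤ 2 := Finset.card_le_two
        omega
      exact (Finset.card_le_card Finset.subset_union_left).trans (union o ho a ha b hb hao hbo hba.symm)
    omega
  obtain ⟨o, ho⟩ : S.Nonempty := Finset.card_pos.1 (by omega)
  by_cases hP : ∀ a ∈ S.erase o, (supp (u a - u o)).card ≤ 1
  · refine ⟨u o, S.erase o, Finset.erase_subset _ _, by rw [Finset.card_erase_of_mem ho]; omega, fun a ha => ?_⟩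
    rcases (supp (u a - u o)).eq_empty_or_nonempty with h | ⟨p, hp⟩
    · obtain ⟨p, -⟩ : ∃ p, (u a - u o) p ≠ 0 := by
        have := (hind o ho {a} (by simpa using ha)).ne_zero ⟨a, by simp⟩
        exact Function.ne_iff.1 this
      refine ⟨p, fun k _ => ?_⟩
      by_contra hne
      have : k ∈ supp (u a - u o) := mem_supp.2 (sub_ne_zero.2 hne)
      rw [h] at this; simp at this
    · refine ⟨p, fun k hk => ?_⟩
      by_contra hne
      exact hk (Finset.card_le_one.1 (hP a ha) k (mem_supp.2 (sub_ne_zero.2 hne)) p hp)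
  push Not at hP
  obtain ⟨a, ha, ha2⟩ := hP
  obtain ⟨hao, haS⟩ := Finset.mem_erase.1 ha
  have haA : (supp (u a - u o)).card = 2 := le_antisymm (two o ho a haS hao) ha2
  have pair : ∀ b ∈ S.erase o, ¬ supp (u b - u o) ⊆ supp (u a - u o) →
      ∃ z x y, supp (u a - u o) = {z, x} ∧ supp (u b - u o) = {z, y} ∧ z ≠ x ∧ z ≠ y ∧ x ≠ y ∧
        (u b - u o) z = (u a - u o) z := by
    intro b hb hns
    obtain ⟨hbo, hbS⟩ := Finset.mem_erase.1 hb
    obtain ⟨y, hy, hya⟩ := Finset.not_subset.1 hns
    have hab : a ≠ b := by rintro rfl; exact hns subset_rfl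
    have hun := union o ho a haS b hbS hao hbo hab
    obtain ⟨z, hz, hzb⟩ : ∃ z ∈ supp (u a - u o), z ∈ supp (u b - u o) := by
      by_contra hno; push Not at hno
      obtain ⟨p, q, hpq, hA⟩ := Finset.card_eq_two.1 haA
      have hnp := hno p (by rw [hA]; simp)
      have hnq := hno q (by rw [hA]; simp)
      have hsub : ({p, q, y} : Finset ι) ⊆ supp (u b - u a) := by
        intro k hk
        rw [mem_supp]
        have e : (u b - u a) k = (u b - u o) k - (u a - u o) k := by simp only [Pi.sub_apply]; ring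
        rw [e]
        simp only [Finset.mem_insert, Finset.mem_singleton] at hk
        rcases hk with rfl | rfl | rfl
        · rw [mem_supp, not_not] at hnp; rw [hnp, zero_sub, neg_ne_zero]; exact mem_supp.1 (by rw [hA]; simp)
        · rw [mem_supp, not_not] at hnq; rw [hnq, zero_sub, neg_ne_zero]; exact mem_supp.1 (by rw [hA]; simp)
        · rw [mem_supp, not_not] at hya; rw [hya, sub_zero]; exact mem_supp.1 hy
      have h1 := Finset.card_le_card hsub
      have hyp : y ≠ p := fun e => hya (by rw [e, hA]; simp)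
      have hyq : y ≠ q := fun e => hya (by rw [e, hA]; simp)
      rw [Finset.card_eq_three.2 ⟨p, q, y, hpq, hyp.symm, hyq.symm, rfl⟩] at h1
      have := two a haS b hbS hab.symm
      omega
    obtain ⟨x, hx, hxz⟩ := Finset.exists_mem_ne (by omega : 1 < (supp (u a - u o)).card) z
    have hA : supp (u a - u o) = {z, x} := (Finset.eq_of_subset_of_card_le (by simp [Finset.insert_subset_iff, hz, hx])
      (by rw [haA, Finset.card_pair hxz.symm])).symm
    have hzy : z ≠ y := fun e => hya (e ▸ hz)
    have hxy : x ≠ y := fun e => hya (e ▸ hx)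
    have hB : supp (u b - u o) = {z, y} := (Finset.eq_of_subset_of_card_le (by simp [Finset.insert_subset_iff, hzb, hy])
      (by rw [Finset.card_pair hzy]; exact two o ho b hbS hbo)).symm
    refine ⟨z, x, y, hA, hB, hxz.symm, hzy, hxy, ?_⟩
    by_contra hne
    have hsub : ({z, x, y} : Finset ι) ⊆ supp (u b - u a) := by
      intro k hk
      rw [mem_supp]
      have e : (u b - u a) k = (u b - u o) k - (u a - u o) k := by simp only [Pi.sub_apply]; ring
      rw [e]
      simp only [Finset.mem_insert, Finset.mem_singleton] at hk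
      rcases hk with rfl | rfl | rfl
      · exact sub_ne_zero.2 hne
      · have : k ∉ supp (u b - u o) := by rw [hB]; simp [hxz, hxy]
        rw [mem_supp, not_not] at this; rw [this, zero_sub, neg_ne_zero]; exact mem_supp.1 hx
      · rw [mem_supp, not_not] at hya; rw [hya, sub_zero]; exact mem_supp.1 hy
    have h1 := Finset.card_le_card hsub
    rw [Finset.card_eq_three.2 ⟨z, x, y, hxz.symm, hzy, hxy, rfl⟩] at h1
    have := two a haS b hbS hab.symm
    omega
  obtain ⟨b, hb, hbns⟩ : ∃ b ∈ S.erase o, ¬ supp (u b - u o) ⊆ supp (u a - u o) := by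
    by_contra hno; push Not at hno
    have := small o ho _ _ subset_rfl hno
    rw [Finset.card_erase_of_mem ho] at this
    omega
  obtain ⟨z, x, y, hA, hB, hzx, hzy, hxy, hbz⟩ := pair b hb hbns
  obtain ⟨hbo, hbS⟩ := Finset.mem_erase.1 hb
  obtain ⟨w, hw⟩ : ∃ w, w = fun k => if k = z then u a z else u o k := ⟨_, rfl⟩
  have fit : ∀ c k' , supp (u c - u o) ⊆ {z, k'} → (u c - u o) z = (u a - u o) z → ∀ k, k ≠ k' → u c k = w k := by
    intro c k' hsub hcz k hk
    rw [hw]
    by_cases hkz : k = z
    · subst hkz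
      simp only [if_true]
      simpa using hcz
    · simp only [if_neg hkz]
      by_contra hne
      have := hsub (mem_supp.2 (show (u c - u o) k ≠ 0 from sub_ne_zero.2 hne))
      simp [hkz, hk] at this
  obtain ⟨E, hE⟩ : ∃ E, E = (S.erase o).filter fun c => c ≠ a ∧ c ≠ b ∧ supp (u c - u o) ⊆ {z, x, y} := ⟨_, rfl⟩
  have hE1 : E.card ≤ 1 := by
    have hsub : insert a (insert b E) ⊆ S.erase o := by
      intro c hc
      simp only [hE, Finset.mem_insert, Finset.mem_filter] at hc
      rcases hc with rfl | rfl | ⟨hc, -⟩ <;> assumption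
    have h1 := small o ho {z, x, y} _ hsub (by
      intro c hc
      simp only [hE, Finset.mem_insert, Finset.mem_filter] at hc
      rcases hc with rfl | rfl | ⟨-, -, -, hc⟩
      · rw [hA]; intro k hk; simp only [Finset.mem_insert, Finset.mem_singleton] at hk ⊢; tauto
      · rw [hB]; intro k hk; simp only [Finset.mem_insert, Finset.mem_singleton] at hk ⊢; tauto
      · exact hc)
    have hab : a ≠ b := by rintro rfl; exact hbns subset_rfl
    rw [Finset.card_insert_of_notMem (by simp [hE, hab]), Finset.card_insert_of_notMem (by simp [hE])] at h1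
    have h3 : ({z, x, y} : Finset ι).card ≤ 3 := Finset.card_le_three
    omega
  refine ⟨w, S.erase o \ E, (Finset.sdiff_subset).trans (Finset.erase_subset _ _), ?_, fun c hc => ?_⟩
  · have := Finset.le_card_sdiff E (S.erase o)
    rw [Finset.card_erase_of_mem ho] at this
    omega
  obtain ⟨hc, hcE⟩ := Finset.mem_sdiff.1 hc
  rcases eq_or_ne c a with rfl | hca
  · exact ⟨x, fit c x (by rw [hA]) rfl⟩
  rcases eq_or_ne c b with rfl | hcb
  · exact ⟨y, fit c y (by rw [hB]) hbz⟩
  have hcT : ¬ supp (u c - u o) ⊆ {z, x, y} := fun h => hcE (by rw [hE]; exact Finset.mem_filter.2 ⟨hc, hca, hcb, h⟩)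
  obtain ⟨z', x', y', hA', hC, hzx', hzy', hxy', hcz⟩ := pair c hc (fun h => hcT (by
    refine h.trans ?_
    rw [hA]; intro k hk; simp only [Finset.mem_insert, Finset.mem_singleton] at hk ⊢; tauto))
  obtain ⟨hco, hcS⟩ := Finset.mem_erase.1 hc
  have hy' : y' ≠ z ∧ y' ≠ x ∧ y' ≠ y := by
    have hy'A : y' ∉ supp (u a - u o) := by rw [hA']; simp [hzy'.symm, hxy'.symm]
    rw [hA] at hy'A
    simp only [Finset.mem_insert, Finset.mem_singleton, not_or] at hy'A
    refine ⟨hy'A.1, hy'A.2, fun e => hcT ?_⟩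
    have hz' : z' ∈ ({z, x} : Finset ι) := by rw [← hA, hA']; simp
    rw [hC, e]
    intro k hk
    simp only [Finset.mem_insert, Finset.mem_singleton] at hk hz' ⊢
    rcases hk with h | h <;> rcases hz' with h' | h' <;> simp [h, h']
  obtain rfl : z' = z := by
    by_contra hne
    have hz'x : z' = x := by
      have : z' ∈ ({z, x} : Finset ι) := by rw [← hA, hA']; simp
      simp only [Finset.mem_insert, Finset.mem_singleton] at this
      exact this.resolve_left hne
    have hun := union o ho b hbS c hcS hbo hco hcb.symm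
    have hsub : ({z, y, x, y'} : Finset ι) ⊆ supp (u b - u o) ∪ supp (u c - u o) := by
      rw [hB, hC, hz'x]; intro k hk; simp only [Finset.mem_union, Finset.mem_insert, Finset.mem_singleton] at hk ⊢; tauto
    have h4 : ({z, y, x, y'} : Finset ι).card = 4 := by
      rw [Finset.card_insert_of_notMem (by simp [hzy, hzx, hy'.1.symm]),
        Finset.card_eq_three.2 ⟨y, x, y', hxy.symm, hy'.2.2.symm, hy'.2.1.symm, rfl⟩]
    have := Finset.card_le_card hsub
    omega
  exact ⟨y', fit c y' (by rw [hC]) hcz⟩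

/-- three diagonal entries with product one and sum three -/
theorem exists_cubic_point (h5 : 5 ≤ Fintype.card F) :
    ∃ x y z : F, x * y * z = 1 ∧ x + y + z = 3 ∧ x ≠ 1 := by
  obtain ⟨l, hl0, hl1, hl2, -⟩ := exists_avoid (F := F) h5 1 1 (fun h e => one_ne_zero (α := F) (by
    linear_combination 2 * e - five_eq_zero h)) (fun h e => one_ne_zero (α := F) (by
    linear_combination 2 * e - five_eq_zero h)) card_ne_six
  have h1 : 1 + l ≠ 0 := fun e => hl1 (eq_neg_of_add_eq_zero_right e)
  rw [one_mul] at hl2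
  obtain ⟨a, ha⟩ : ∃ a, a = -(l ^ 2 + (1 + l)) / (l * (1 + l)) := ⟨_, rfl⟩
  have key : a * (l * (1 + l)) = -(l ^ 2 + (1 + l)) := by rw [ha, div_mul_cancel₀ _ (mul_ne_zero hl0 h1)]
  refine ⟨1 + a, 1 + l * a, 1 - a * (1 + l), ?_, by ring, ?_⟩
  · linear_combination -(a ^ 2) * key
  · intro e
    have : a = 0 := by linear_combination e
    rw [this, zero_mul] at key
    exact hl2 (by linear_combination key)

/-- a row of any shape -/
theorem elem_exists (hM : Over M) (h5 : 5 ≤ Fintype.card F) (hn : 13 ≤ Fintype.card ι) {m : GL ι F} (hm : m ∈ M)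
    (hnm : ¬ Mono m) : ∃ a b, a ≠ b ∧ ElemIn M a b := by
  classical
  have h4 : 4 ≤ Fintype.card ι := by omega
  by_contra hgoal
  have hz3 : ∀ x : GL ι F, x ∈ M → ¬ Mono x → ∀ (r : ι) (Z : Finset ι), 3 ≤ Z.card →
      ¬ ∀ a ∈ Z, act x (Pi.single a 1) r = 0 := by
    intro x hx hxm r Z hZ h
    obtain ⟨t, ht, ht3⟩ := Finset.exists_subset_card_eq (s := Z) (n := 3) hZ
    obtain ⟨a, b, c, hab, hac, hbc, rfl⟩ := Finset.card_eq_three.1 ht3
    exact hgoal (elem_of_zeros hM h5 h4 hx hxm hab hac hbc (h a (ht (by simp))) (h b (ht (by simp))) (h c (ht (by simp))))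
  obtain ⟨r⟩ : Nonempty ι := Fintype.card_pos_iff.1 (by omega)
  obtain ⟨β, hβ⟩ : ∃ β : ι → F, β = fun a => act m (Pi.single a 1) r := ⟨_, rfl⟩
  obtain ⟨S, hS⟩ : ∃ S, S = supp β := ⟨_, rfl⟩
  have hScard : Fintype.card ι ≤ S.card + 2 := by
    by_contra h
    refine hz3 m hm hnm r Sᶜ (by rw [Finset.card_compl]; omega) fun a ha => ?_
    rw [Finset.mem_compl, hS, mem_supp, not_not, hβ] at ha
    exact ha
  have hβ0 : ∀ a ∈ S, β a ≠ 0 := fun a ha => mem_supp.1 (hS ▸ ha)
  have hcol : ∀ a, act m (Pi.single a 1) r = β a := fun a => by rw [hβ]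
  have hrow : ∀ z, act m z r = ∑ k, β k * z k := by
    intro z
    conv_lhs => rw [eq_sum_single z]
    simp only [map_sum, map_smul, Finset.sum_apply, Pi.smul_apply, smul_eq_mul, hcol, mul_comm]
  obtain ⟨u, hu⟩ : ∃ u : ι → ι → F, u = fun a => (β a)⁻¹ • act m (Pi.single a 1) := ⟨_, rfl⟩
  have hu1 : ∀ a ∈ S, u a r = 1 := fun a ha => by
    simp only [hu, Pi.smul_apply, hcol, smul_eq_mul, inv_mul_cancel₀ (hβ0 a ha)]
  have hmu : ∀ a, act m⁻¹ (u a) = (β a)⁻¹ • Pi.single a 1 := fun a => by rw [hu, map_smul, act_inv_act]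
  have htri : ∀ a ∈ S, ∀ b ∈ S, ∀ c ∈ S, a ≠ b → a ≠ c → b ≠ c → (supp (u b - u a) ∪ supp (u c - u b)).card ≤ 3 := by
    intro a ha b hb c hc hab hac hbc
    obtain ⟨σ, hσ⟩ : ∃ σ, σ = Equiv.swap a b * Equiv.swap b c := ⟨_, rfl⟩
    have sa : σ a = b := by
      rw [hσ, Equiv.Perm.mul_apply, Equiv.swap_apply_of_ne_of_ne hab hac, Equiv.swap_apply_left]
    have sb : σ b = c := by
      rw [hσ, Equiv.Perm.mul_apply, Equiv.swap_apply_left, Equiv.swap_apply_of_ne_of_ne hac.symm hbc.symm]
    have sc : σ c = a := by rw [hσ, Equiv.Perm.mul_apply, Equiv.swap_apply_right, Equiv.swap_apply_right]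
    have so : ∀ k, k ≠ a → k ≠ b → k ≠ c → σ k = k := fun k h1 h2 h3 => by
      rw [hσ, Equiv.Perm.mul_apply, Equiv.swap_apply_of_ne_of_ne h2 h3, Equiv.swap_apply_of_ne_of_ne h1 h2]
    obtain ⟨d, hd⟩ : ∃ d : ι → F, d = fun k => if k = a ∨ k = b ∨ k = c then β k / β (σ k) else 1 := ⟨_, rfl⟩
    obtain ⟨k, hk, hkcol⟩ := exists_mem_pm hM σ d (fun j => by
        rw [hd]; simp only
        split
        · next h =>
          rcases h with rfl | rfl | rfl
          · exact div_ne_zero (hβ0 _ ha) (by rw [sa]; exact hβ0 _ hb)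
          · exact div_ne_zero (hβ0 _ hb) (by rw [sb]; exact hβ0 _ hc)
          · exact div_ne_zero (hβ0 _ hc) (by rw [sc]; exact hβ0 _ ha)
        · exact one_ne_zero) (by
      rw [hσ, map_mul, Equiv.Perm.sign_swap hab, Equiv.Perm.sign_swap hbc,
        ← Finset.prod_subset (Finset.subset_univ {a, b, c}), Finset.prod_insert (by simp [hab, hac]),
        Finset.prod_pair hbc]
      · rw [hd]; simp [sa, sb, sc]
        have := hβ0 a ha; have := hβ0 b hb; have := hβ0 c hc
        field_simp
      · intro j _ hj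
        simp only [Finset.mem_insert, Finset.mem_singleton, not_or] at hj
        simp [hd, hj.1, hj.2.1, hj.2.2])
    obtain ⟨x, hx⟩ : ∃ x, x = m * k * m⁻¹ := ⟨_, rfl⟩
    have hxM : x ∈ M := hx ▸ M.mul_mem (M.mul_mem hm hk) (M.inv_mem hm)
    have hxcol : ∀ j, act x (act m (Pi.single j 1)) = d j • act m (Pi.single (σ j) 1) := fun j => by
      rw [hx, act_mul, act_mul, act_inv_act, hkcol, map_smul]
    have hdσ : ∀ j, d j * β (σ j) = β j := by
      intro j
      by_cases hj : j = a ∨ j = b ∨ j = c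
      · rw [hd]; simp only [if_pos hj]
        refine div_mul_cancel₀ _ ?_
        rcases hj with rfl | rfl | rfl
        · rw [sa]; exact hβ0 _ hb
        · rw [sb]; exact hβ0 _ hc
        · rw [sc]; exact hβ0 _ ha
      · rw [hd]; simp only [if_neg hj]
        simp only [not_or] at hj
        rw [so j hj.1 hj.2.1 hj.2.2, one_mul]
    have hfix : ∀ y, act x y r = y r := by
      intro y
      obtain ⟨z, rfl⟩ : ∃ z, act m z = y := ⟨act m⁻¹ y, act_act_inv m y⟩
      conv_lhs => rw [eq_sum_single z]
      simp only [map_sum, map_smul, Finset.sum_apply, Pi.smul_apply, hxcol, smul_eq_mul, hcol, hdσ]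
      rw [hrow]; simp only [mul_comm]
    by_cases hmo : Mono x
    swap
    · exact (hgoal (elem_of_row hM h5 h4 hxM hmo (r := r) (b := r) fun j hj => by
        rw [hfix, Pi.single_eq_of_ne hj.symm])).elim
    have hxu : ∀ j ∈ S, σ j ∈ S → act x (u j) = u (σ j) := fun j hj hj' => by
      have := hdσ j
      simp only [hu, map_smul, hxcol, smul_smul]
      congr 1
      have hdj : d j ≠ 0 := fun e => hβ0 j hj (by rw [← this, e, zero_mul])
      rw [← this]; have := hβ0 j hj; have := hβ0 _ hj'
      field_simp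
    have hab' : act x (u a) = u b := by rw [hxu a ha (sa ▸ hb), sa]
    have hbc' : act x (u b) = u c := by rw [hxu b hb (sb ▸ hc), sb]
    have hca' : act x (u c) = u a := by rw [hxu c hc (sc ▸ ha), sc]
    have hfixc : ∀ j, j ≠ a → j ≠ b → j ≠ c → act x (act m (Pi.single j 1)) = act m (Pi.single j 1) := fun j h1 h2 h3 => by
      rw [hxcol, so j h1 h2 h3, hd]; simp [h1, h2, h3]
    have hmb : ∀ j ∈ S, act m (Pi.single j 1) = β j • u j := fun j hj => by
      rw [hu, smul_inv_smul₀ (hβ0 j hj)]
    refine supp_triangle hmo (fun z => ?_) hab' hbc' (fun z => ?_)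
    · obtain ⟨y, rfl⟩ : ∃ y, act m y = z := ⟨act m⁻¹ z, act_act_inv m z⟩
      rw [eq_sum_single y]
      simp only [map_sum, map_smul]
      refine Finset.sum_congr rfl fun j _ => ?_
      congr 1
      by_cases hj : j = a ∨ j = b ∨ j = c
      · rcases hj with rfl | rfl | rfl
        · rw [hmb _ ha, map_smul, hab', map_smul, hbc', map_smul, hca']
        · rw [hmb _ hb, map_smul, hbc', map_smul, hca', map_smul, hab']
        · rw [hmb _ hc, map_smul, hca', map_smul, hab', map_smul, hbc']
      · simp only [not_or] at hj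
        rw [hfixc j hj.1 hj.2.1 hj.2.2, hfixc j hj.1 hj.2.1 hj.2.2, hfixc j hj.1 hj.2.1 hj.2.2]
    · obtain ⟨y, rfl⟩ : ∃ y, act m y = z := ⟨act m⁻¹ z, act_act_inv m z⟩
      rw [eq_sum_single y]
      simp only [map_sum, map_smul, ← Finset.sum_sub_distrib, ← smul_sub]
      refine Submodule.sum_mem _ fun j _ => Submodule.smul_mem _ _ ?_
      by_cases hj : j = a ∨ j = b ∨ j = c
      · rcases hj with rfl | rfl | rfl
        · rw [hmb _ ha, map_smul, hab', ← smul_sub]
          exact Submodule.smul_mem _ _ (Submodule.subset_span (by simp))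
        · rw [hmb _ hb, map_smul, hbc', ← smul_sub]
          exact Submodule.smul_mem _ _ (Submodule.subset_span (by simp))
        · rw [hmb _ hc, map_smul, hca', ← smul_sub]
          refine Submodule.smul_mem _ _ ?_
          rw [show u a - u j = -(u b - u a) - (u j - u b) by abel]
          exact Submodule.sub_mem _ (Submodule.neg_mem _ (Submodule.subset_span (by simp))) (Submodule.subset_span (by simp))
      · simp only [not_or] at hj
        rw [hfixc j hj.1 hj.2.1 hj.2.2, sub_self]; exact Submodule.zero_mem _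
  have hind : ∀ o ∈ S, ∀ A ⊆ S.erase o, LinearIndependent F fun a : A => u a - u o := by
    intro o ho A hA
    rw [Fintype.linearIndependent_iff]
    intro g hg a
    have h1 := congrFun (congrArg (act m⁻¹) hg) a
    rw [map_sum, map_zero, Finset.sum_apply, Finset.sum_eq_single a] at h1
    · rw [map_smul, map_sub, hmu, hmu] at h1
      simp [Finset.ne_of_mem_erase (hA a.2)] at h1
      exact h1.resolve_right (hβ0 _ (Finset.mem_of_mem_erase (hA a.2)))
    · intro b _ hb
      rw [map_smul, map_sub, hmu, hmu]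
      have : (a : ι) ≠ b := fun e => hb (Subtype.ext e.symm)
      simp [this, Finset.ne_of_mem_erase (hA a.2)]
    · simp
  obtain ⟨w, G₀, hG₀S, hG₀card, hG₀⟩ := exists_common S u (by omega) htri hind
  choose! p hp using hG₀
  obtain ⟨G, hG⟩ : ∃ G, G = G₀.filter fun a => u a ≠ w := ⟨_, rfl⟩
  have hG1 : G₀.card ≤ G.card + 1 := by
    have h1 : (G₀.filter fun a => ¬ u a ≠ w).card ≤ 1 := Finset.card_le_one.2 fun a ha b hb => by
      simp only [Finset.mem_filter, not_not] at ha hb
      have := congrArg (act m⁻¹) (ha.2.trans hb.2.symm)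
      rw [hmu, hmu] at this
      by_contra hne
      have h2 := congrFun this a
      simp [hne, hβ0 a (hG₀S ha.1)] at h2
    rw [hG]
    have := Finset.card_filter_add_card_filter_not (s := G₀) (fun a => u a ≠ w)
    omega
  have hGS : ∀ a ∈ G, a ∈ S := fun a ha => hG₀S (Finset.mem_of_mem_filter a (hG ▸ ha))
  have hGp : ∀ a ∈ G, ∀ k, k ≠ p a → u a k = w k := fun a ha => hp a (Finset.mem_of_mem_filter a (hG ▸ ha))
  obtain ⟨cf, hcf⟩ : ∃ cf : ι → F, cf = fun a => u a (p a) - w (p a) := ⟨_, rfl⟩
  have hdec : ∀ a ∈ G, u a = w + cf a • Pi.single (p a) 1 := by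
    intro a ha
    funext k
    rw [Pi.add_apply, single_apply', hcf]
    split
    · subst k; ring
    · rw [add_zero]; exact hGp a ha k (by assumption)
  have hcf0 : ∀ a ∈ G, cf a ≠ 0 := by
    intro a ha h
    have := hdec a ha
    rw [h, zero_smul, add_zero] at this
    exact ((Finset.mem_filter.1 (hG ▸ ha)).2) this
  have hfib : ∀ k, (G.filter fun a => p a = k).card ≤ 2 := by
    intro k
    by_contra h
    obtain ⟨t, ht, ht3⟩ := Finset.exists_subset_card_eq (s := G.filter fun a => p a = k) (n := 3) (by omega)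
    obtain ⟨a, b, c, hab, hac, hbc, rfl⟩ := Finset.card_eq_three.1 ht3
    refine not_li_three ![u a, u b, u c] w (Pi.single k 1) ?_ ?_
    · intro i
      have key : ∀ e ∈ ({a, b, c} : Finset ι), u e ∈ Submodule.span F ({w, Pi.single k 1} : Set (ι → F)) := by
        intro e ha
        obtain ⟨haG, hak⟩ := Finset.mem_filter.1 (ht ha)
        rw [hdec e haG, hak]
        exact Submodule.add_mem _ (Submodule.subset_span (by simp)) (Submodule.smul_mem _ _ (Submodule.subset_span (by simp)))
      fin_cases i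
      · exact key a (by simp)
      · exact key b (by simp)
      · exact key c (by simp)
    · rw [Fintype.linearIndependent_iff]
      intro g hg
      rw [Fin.sum_univ_three] at hg
      simp only [Matrix.cons_val_zero, Matrix.cons_val_one, Matrix.cons_val_two, Matrix.head_cons, Matrix.tail_cons,
        Matrix.cons_val] at hg
      have h1 := congrArg (act m⁻¹) hg
      simp only [map_add, map_smul, hmu, map_zero] at h1
      have hb0 : ∀ e ∈ ({a, b, c} : Finset ι), β e ≠ 0 := fun e ha => hβ0 e (hGS e (Finset.mem_of_mem_filter e (ht ha)))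
      have ea := congrFun h1 a
      have eb := congrFun h1 b
      have ec := congrFun h1 c
      simp [hab, hac, hbc, hab.symm, hac.symm, hbc.symm] at ea eb ec
      intro i; fin_cases i
      · exact ea.resolve_right (hb0 a (by simp))
      · exact eb.resolve_right (hb0 b (by simp))
      · exact ec.resolve_right (hb0 c (by simp))
  have himg : ∀ H : Finset ι, H ⊆ G → H.card ≤ 2 * (H.image p).card := fun H hH =>
    Finset.card_le_mul_card_image (f := p) H 2 fun k _ =>
      le_trans (Finset.card_le_card (Finset.filter_subset_filter _ hH)) (hfib k)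
  have hw1 : w r = 1 ∧ ∀ a ∈ G, p a ≠ r := by
    obtain ⟨a, ha, har⟩ : ∃ a ∈ G, p a ≠ r := by
      by_contra hno; push Not at hno
      have := Finset.card_le_card (show G ⊆ G.filter (fun a => p a = r) from fun a ha => Finset.mem_filter.2 ⟨ha, hno a ha⟩)
      have := hfib r
      omega
    have hw : w r = 1 := by rw [← hGp a ha r har.symm]; exact hu1 a (hGS a ha)
    refine ⟨hw, fun b hb e => hcf0 b hb ?_⟩
    rw [hcf]
    simp only [e, hu1 b (hGS b hb), hw, sub_self]
  by_cases hdense : (supp w).card ≤ 2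
  · obtain ⟨k, hk, hkw⟩ : ∃ k ∈ G.image p, k ∉ supp w := Finset.not_subset.1 fun h => by
      have := Finset.card_le_card h
      have := himg G subset_rfl
      omega
    rw [mem_supp, not_not] at hkw
    refine hz3 m hm hnm k (G.filter fun a => p a ≠ k) ?_ fun a ha => ?_
    · have := hfib k
      have := Finset.card_filter_add_card_filter_not (s := G) (fun a => p a = k)
      simp only [ne_eq] at *
      omega
    · obtain ⟨ha, hak⟩ := Finset.mem_filter.1 ha
      rw [show act m (Pi.single a 1) = β a • u a by rw [hu, smul_inv_smul₀ (hβ0 a (hGS a ha))],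
        Pi.smul_apply, hGp a ha k hak.symm, hkw, smul_zero]
  obtain ⟨A, hA⟩ : ∃ A : ι → F, A = fun k => β k * act m⁻¹ w k := ⟨_, rfl⟩
  obtain ⟨J, t, hJ, hJG, htJ, hprod, hsum, a₀, ha₀, hta₀⟩ : ∃ (J : Finset ι) (t : ι → F), J.card ≤ 3 ∧ J ⊆ G ∧
      (∀ k, k ∉ J → t k = 1) ∧ ∏ k, t k = 1 ∧ ∑ k, A k * (t k - 1) = 0 ∧ ∃ a ∈ J, t a ≠ 1 := by
    by_cases hpair : ∃ a ∈ G, ∃ b ∈ G, a ≠ b ∧ ((A a = 0 ∧ A b = 0) ∨ (A a ≠ 0 ∧ A b ≠ 0 ∧ A a ≠ A b))
    · obtain ⟨a, ha, b, hb, hab, hcase⟩ := hpair
      obtain ⟨μ, hμ0, hμ1, hμA⟩ : ∃ μ : F, μ ≠ 0 ∧ μ ≠ 1 ∧ A a * (μ - 1) + A b * (μ⁻¹ - 1) = 0 := by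
        rcases hcase with ⟨h1, h2⟩ | ⟨h1, h2, h12⟩
        · obtain ⟨μ, hμ0, hμ1⟩ := exists_unit_ne h5
          exact ⟨μ, hμ0, hμ1, by rw [h1, h2]; ring⟩
        · refine ⟨A b / A a, div_ne_zero h2 h1, fun e => h12 ((div_eq_one_iff_eq h1).1 e).symm, ?_⟩
          field_simp; ring
      refine ⟨{a, b}, Function.update (Function.update 1 a μ) b μ⁻¹, le_trans Finset.card_le_two (by norm_num),
        by simp [Finset.insert_subset_iff, ha, hb], fun k hk => ?_, by rw [prod_update_pair hab, mul_inv_cancel₀ hμ0],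
        ?_, a, by simp, by simp [hab, hμ1]⟩
      · simp only [Finset.mem_insert, Finset.mem_singleton, not_or] at hk
        simp [hk.1, hk.2]
      · rw [← Finset.sum_subset (Finset.subset_univ {a, b}), Finset.sum_pair hab]
        · simpa [hab] using hμA
        · intro k _ hk
          simp only [Finset.mem_insert, Finset.mem_singleton, not_or] at hk
          simp [hk.1, hk.2]
    push Not at hpair
    have hz1 : (G.filter fun a => A a = 0).card ≤ 1 := Finset.card_le_one.2 fun a ha b hb => by
      obtain ⟨ha, ha0⟩ := Finset.mem_filter.1 ha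
      obtain ⟨hb, hb0⟩ := Finset.mem_filter.1 hb
      by_contra hne
      exact (hpair a ha b hb hne).1 ha0 hb0
    obtain ⟨T, hT, hT3⟩ := Finset.exists_subset_card_eq (s := G.filter fun a => A a ≠ 0) (n := 3) (by
      have := Finset.card_filter_add_card_filter_not (s := G) (fun a => A a = 0)
      simp only [ne_eq] at *
      omega)
    obtain ⟨a, b, c, hab, hac, hbc, rfl⟩ := Finset.card_eq_three.1 hT3
    obtain ⟨haG, haA⟩ := Finset.mem_filter.1 (hT (by simp : a ∈ ({a, b, c} : Finset ι)))
    obtain ⟨hbG, hbA⟩ := Finset.mem_filter.1 (hT (by simp : b ∈ ({a, b, c} : Finset ι)))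
    obtain ⟨hcG, hcA⟩ := Finset.mem_filter.1 (hT (by simp : c ∈ ({a, b, c} : Finset ι)))
    have eb : A b = A a := ((hpair a haG b hbG hab).2 haA hbA).symm
    have ec : A c = A a := ((hpair a haG c hcG hac).2 haA hcA).symm
    obtain ⟨X, Y, Z, hXYZ, hsum3, hX1⟩ := exists_cubic_point (F := F) h5
    refine ⟨{a, b, c}, Function.update (Function.update (Function.update 1 a X) b Y) c Z, Finset.card_le_three,
      by simp [Finset.insert_subset_iff, haG, hbG, hcG], fun k hk => ?_, ?_, ?_, a, by simp, by simp [hab, hac, hX1]⟩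
    · simp only [Finset.mem_insert, Finset.mem_singleton, not_or] at hk
      simp [hk.1, hk.2.1, hk.2.2]
    · rw [← Finset.prod_subset (Finset.subset_univ {a, b, c}), Finset.prod_insert (by simp [hab, hac]),
        Finset.prod_pair hbc]
      · simp [hab, hac, hbc]; linear_combination hXYZ
      · intro k _ hk
        simp only [Finset.mem_insert, Finset.mem_singleton, not_or] at hk
        simp [hk.1, hk.2.1, hk.2.2]
    · rw [← Finset.sum_subset (Finset.subset_univ {a, b, c}), Finset.sum_insert (by simp [hab, hac]),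
        Finset.sum_pair hbc]
      · simp [hab, hac, hbc, eb, ec]; linear_combination A a * hsum3
      · intro k _ hk
        simp only [Finset.mem_insert, Finset.mem_singleton, not_or] at hk
        simp [hk.1, hk.2.1, hk.2.2]
  obtain ⟨td, htd, htx, -⟩ := exists_diag_mem hM t hprod
  obtain ⟨x, hx⟩ : ∃ x, x = m * td * m⁻¹ := ⟨_, rfl⟩
  have hxM : x ∈ M := hx ▸ M.mul_mem (M.mul_mem hm htd) (M.inv_mem hm)
  have hxy : ∀ y, act x y r = y r + ∑ k, β k * (t k - 1) * act m⁻¹ y k := by
    intro y
    conv_rhs => rw [← act_act_inv m y, hrow, act_inv_act, ← Finset.sum_add_distrib]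
    rw [hx, act_mul, act_mul, hrow]
    refine Finset.sum_congr rfl fun k _ => ?_
    rw [htx]; ring
  have hxw : act x w r = w r := by
    rw [hxy, add_eq_left, ← hsum, hA]
    refine Finset.sum_congr rfl fun k _ => ?_
    ring
  have hJt : ∀ a ∈ G, act x (u a) = t a • u a := by
    intro a ha
    have htd' : act td (act m⁻¹ (u a)) = t a • act m⁻¹ (u a) := by
      funext k
      rw [htx, hmu]
      rcases eq_or_ne k a with rfl | hk
      · simp
      · simp [hk]
    rw [hx, act_mul, act_mul, htd', map_smul, act_act_inv]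
  obtain ⟨P, hP⟩ : ∃ P, P = (G \ J).image p := ⟨_, rfl⟩
  have hPcard : 3 ≤ P.card := by
    have h1 := himg (G \ J) Finset.sdiff_subset
    have h2 := Finset.le_card_sdiff J G
    rw [← hP] at h1
    omega
  have hzero : ∀ k ∈ P, act x (Pi.single k 1) r = 0 := by
    intro k hk
    obtain ⟨b, hb, rfl⟩ := Finset.mem_image.1 (hP ▸ hk)
    obtain ⟨hbG, hbJ⟩ := Finset.mem_sdiff.1 hb
    have h1 := congrFun (hJt b hbG) r
    rw [htJ b hbJ, one_smul, hdec b hbG, map_add, map_smul, Pi.add_apply, Pi.smul_apply, hxw, Pi.add_apply,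
      Pi.smul_apply, Pi.single_eq_of_ne (hw1.2 b hbG).symm, smul_zero, add_zero, add_eq_left, smul_eq_mul] at h1
    exact (mul_eq_zero.1 h1).resolve_left (hcf0 b hbG)
  refine hz3 x hxM (fun hmo => hdense ?_) r P hPcard hzero
  obtain ⟨π, d, hd0, hd⟩ := hmo.exists_data
  have hpfix : ∀ b ∈ G \ J, act x (Pi.single (p b) 1) = Pi.single (p b) 1 := by
    intro b hb
    obtain ⟨hbG, hbJ⟩ := Finset.mem_sdiff.1 hb
    obtain ⟨c, hc, c', hc', hbc, hbc', hcc'⟩ : ∃ c ∈ G \ J, ∃ c' ∈ G \ J, p b ≠ p c ∧ p b ≠ p c' ∧ p c ≠ p c' := by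
      have hpb : p b ∈ P := by rw [hP]; exact Finset.mem_image_of_mem p hb
      have h2 : 2 ≤ (P.erase (p b)).card := by rw [Finset.card_erase_of_mem hpb]; omega
      obtain ⟨y, hy, y', hy', hne⟩ := Finset.one_lt_card.1 h2
      obtain ⟨hy1, hy2⟩ := Finset.mem_erase.1 hy
      obtain ⟨hy1', hy2'⟩ := Finset.mem_erase.1 hy'
      rw [hP] at hy2 hy2'
      obtain ⟨c, hc, rfl⟩ := Finset.mem_image.1 hy2
      obtain ⟨c', hc', rfl⟩ := Finset.mem_image.1 hy2'
      exact ⟨c, hc, c', hc', hy1.symm, hy1'.symm, hne⟩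
    have key : ∀ e ∈ G \ J, p b ≠ p e → (π (p b) = p b ∧ d (p b) = 1) ∨ π (p b) = p e := by
      intro e he hbe
      obtain ⟨heG, heJ⟩ := Finset.mem_sdiff.1 he
      have h1 : act x (u b - u e) = u b - u e := by
        rw [map_sub, hJt b hbG, hJt e heG, htJ b hbJ, htJ e heJ, one_smul, one_smul]
      rw [hdec b hbG, hdec e heG, add_sub_add_left_eq_sub] at h1
      have h2 := act_mono_coord hd (cf b • Pi.single (p b) 1 - cf e • Pi.single (p e) 1) (p b)
      rw [h1] at h2
      simp only [Pi.sub_apply, single_apply', if_pos rfl, if_neg hbe, sub_zero] at h2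
      by_cases h3 : π (p b) = p e
      · exact Or.inr h3
      rw [if_neg h3, sub_zero] at h2
      by_cases h4 : π (p b) = p b
      · rw [if_pos h4] at h2
        exact Or.inl ⟨h4, mul_right_cancel₀ (hcf0 b hbG) (by rw [one_mul]; exact h2.symm)⟩
      · rw [if_neg h4] at h2
        exact absurd h2.symm (mul_ne_zero (hd0 _) (hcf0 b hbG))
    rcases key c hc hbc with ⟨h1, h2⟩ | h1
    · rw [hd, h1, h2, one_smul]
    rcases key c' hc' hbc' with ⟨h1', h2'⟩ | h1'
    · rw [hd, h1', h2', one_smul]
    exact absurd (h1.symm.trans h1') hcc'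
  obtain ⟨b, hb⟩ : (G \ J).Nonempty := Finset.card_pos.1 (by
    have := Finset.card_image_le (f := p) (s := G \ J)
    rw [← hP] at this; omega)
  obtain ⟨hbG, hbJ⟩ := Finset.mem_sdiff.1 hb
  have hxw' : act x w = w := by
    have h1 := hJt b hbG
    rw [htJ b hbJ, one_smul, hdec b hbG, map_add, map_smul, hpfix b hb] at h1
    exact add_right_cancel h1
  have ha₀G := hJG ha₀
  have h1 := hJt a₀ ha₀G
  rw [hdec a₀ ha₀G, map_add, map_smul, hxw', hd] at h1
  refine le_trans (Finset.card_le_card (show supp w ⊆ {p a₀, π (p a₀)} from fun k hk => ?_)) Finset.card_le_two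
  rw [mem_supp] at hk
  by_contra hne
  simp only [Finset.mem_insert, Finset.mem_singleton, not_or] at hne
  have h2 := congrFun h1 k
  simp [hne.1, hne.2] at h2
  exact hta₀ ((mul_eq_right₀ hk).1 h2.symm)

/-- the monomial group is maximal -/
theorem specialLinear_le (hM : Over M) (h5 : 5 ≤ Fintype.card F) (hn : 13 ≤ Fintype.card ι) {m : GL ι F}
    (hm : m ∈ M) (hnm : ¬ Mono m) : Cfsg.Geo.specialLinear ι F ≤ M := by
  classical
  obtain ⟨a, b, hab, hel⟩ := elem_exists hM h5 hn hm hnm
  have hall : ∀ i j, i ≠ j → ElemIn M i j := by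
    intro i j hij c
    obtain ⟨σ, hσa, hσb⟩ : ∃ σ : Equiv.Perm ι, σ a = i ∧ σ b = j := by
      refine ⟨Equiv.swap (Equiv.swap a i b) j * Equiv.swap a i, ?_, by simp⟩
      have h1 : i ≠ Equiv.swap a i b := fun e => hab (by
        have := congrArg (Equiv.swap a i) e
        simpa using this)
      rw [Equiv.Perm.mul_apply, Equiv.swap_apply_left, Equiv.swap_apply_of_ne_of_ne h1 hij]
    obtain ⟨r, hra, hrb, -⟩ := exists_third (by omega) a b a
    obtain ⟨g, hg, γ, hγ, hgr, hgj⟩ := exists_mem_pm_off hM σ r (1 : ι → F) (fun _ _ => one_ne_zero)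
    obtain ⟨d, hd⟩ : ∃ d : ι → F, d = Function.update (1 : ι → F) r γ := ⟨_, rfl⟩
    have hcol : ∀ k, act g (Pi.single k 1) = d k • Pi.single (σ k) 1 := by
      intro k
      rcases eq_or_ne k r with rfl | hk
      · rw [hgr, hd]; simp
      · rw [hgj k hk, hd]; simp [hk]
    obtain ⟨h, hh, hhx⟩ := hel c
    refine ⟨g * h * g⁻¹, M.mul_mem (M.mul_mem hg hh) (M.inv_mem hg), fun y => ?_⟩
    have hb' : act g⁻¹ y b = y j := by
      have := act_mono_coord hcol (act g⁻¹ y) b
      rw [act_act_inv, hσb, hd, Function.update_of_ne hrb.symm] at this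
      simpa using this.symm
    rw [act_mul, act_mul, hhx, map_add, map_smul, act_act_inv, hb', hcol, hd, Function.update_of_ne hra.symm, hσa]
    simp
  intro g hg
  suffices H : ∀ A : Matrix.SpecialLinearGroup ι F, Matrix.SpecialLinearGroup.toGL A ∈ M by
    have := H ⟨(g : Matrix ι ι F), mem_specialLinear_iff.1 hg⟩
    rwa [show Matrix.SpecialLinearGroup.toGL ⟨(g : Matrix ι ι F), mem_specialLinear_iff.1 hg⟩ = g from Units.ext rfl]
      at this
  intro A
  refine Cfsg.Agent.GL.SL_induction (fun A => Matrix.SpecialLinearGroup.toGL A ∈ M) (by simp) (fun i j hij c => ?_)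
    (fun A B hA hB => by rw [map_mul]; exact M.mul_mem hA hB) A
  obtain ⟨h, hh, hhx⟩ := hall i j hij c
  rwa [show Matrix.SpecialLinearGroup.toGL (Matrix.SpecialLinearGroup.transvection hij c) = h from gl_ext fun x => by
    rw [hhx, act_apply]
    change ((Matrix.SpecialLinearGroup.transvection hij c : Matrix.SpecialLinearGroup ι F) : Matrix ι ι F) *ᵥ x = _
    rw [Matrix.SpecialLinearGroup.transvection_coe, Matrix.add_mulVec, Matrix.one_mulVec, Matrix.single_mulVec]
    funext k
    by_cases hk : k = i <;> simp [hk]]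

end Cfsg.Agent.MaxCl.Monom
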