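/-
Unitary forms over finite fields given as functions: norm and trace, isotropic vectors, transvections.
-/
import Mathlib
import Cfsg.Prelude.Def_GeometricClasses
import Cfsg.Agent.Lib.MaxCl.Transvection

set_option autoImplicit false

namespace Cfsg.Agent.MaxCl.Unit

open scoped MatrixGroups Matrix

variable {ι : Type} [Fintype ι] [DecidableEq ι] {F : Type*} [Field F]
variable {σ : F ≃+* F} {f : (ι → F) → (ι → F) → F}

section scalar

variable (hi : ∀ a : F, σ (σ a) = a) (hne : σ ≠ RingEquiv.refl F)
include hne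

theorem exists_moved : ∃ a : F, σ a ≠ a := by
  by_contra h; push Not at h
  exact hne (RingEquiv.ext h)

omit hne in
theorem sub_skew (a : F) (hi : ∀ a : F, σ (σ a) = a) : (a - σ a) + σ (a - σ a) = 0 := by
  rw [map_sub, hi]; ring

/-- a non-zero scalar with `c + σ c = 0` -/
theorem exists_skew (hi : ∀ a : F, σ (σ a) = a) : ∃ c : F, c ≠ 0 ∧ c + σ c = 0 := by
  obtain ⟨a, ha⟩ := exists_moved hne
  exact ⟨a - σ a, sub_ne_zero.2 (Ne.symm ha), sub_skew a hi⟩

include hi

theorem exists_trace_one : ∃ e : F, e + σ e = 1 := by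
  obtain ⟨z, hz⟩ : ∃ z : F, z + σ z ≠ 0 := by
    by_contra h; push Not at h
    obtain ⟨a, ha⟩ := exists_moved hne
    have h1 := h 1
    rw [map_one] at h1
    apply ha
    have h2 := h a
    linear_combination h2 - a * h1
  refine ⟨z / (z + σ z), ?_⟩
  rw [map_div₀, map_add, hi, add_comm (σ z) z, ← add_div, div_self hz]

theorem exists_trace (a : F) (ha : σ a = a) : ∃ e : F, e + σ e = a := by
  obtain ⟨e, he⟩ := exists_trace_one hi hne
  exact ⟨a * e, by rw [map_mul, ha, ← mul_add, he, mul_one]⟩

theorem exists_norm [Fintype F] (a : F) (ha : σ a = a) : ∃ b : F, b * σ b = a := by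
  classical
  rcases eq_or_ne a 0 with rfl | ha0
  · exact ⟨0, zero_mul _⟩
  let s : Fˣ →* Fˣ := Units.map σ.toMonoidHom
  let N : Fˣ →* Fˣ :=
    { toFun := fun x => x * s x, map_one' := by simp, map_mul' := fun x y => by
        rw [map_mul]; exact mul_mul_mul_comm x y (s x) (s y) }
  let γ : Fˣ →* Fˣ :=
    { toFun := fun x => x / s x, map_one' := by simp, map_mul' := fun x y => by
        rw [map_mul, mul_div_mul_comm] }
  have h1 : N.ker ≤ γ.range := by
    intro x hx
    have hx' : (x : F) * σ (x : F) = 1 := congrArg Units.val (MonoidHom.mem_ker.1 hx)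
    obtain ⟨z, hz⟩ : ∃ z : F, z + (x : F) * σ z ≠ 0 := by
      by_contra h; push Not at h
      have e1 := h 1
      rw [map_one, mul_one] at e1
      obtain ⟨a, ha⟩ := exists_moved hne
      apply ha
      have e2 := h a
      linear_combination σ a * e1 - e2
    refine ⟨Units.mk0 _ hz, ?_⟩
    apply Units.ext
    change (Units.mk0 _ hz / s (Units.mk0 _ hz) : Fˣ).val = (x : F)
    have hsz : σ (z + (x : F) * σ z) ≠ 0 := (map_ne_zero σ).2 hz
    rw [Units.val_div_eq_div_val]
    change (z + (x : F) * σ z) / σ (z + (x : F) * σ z) = (x : F)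
    rw [div_eq_iff hsz, map_add, map_mul, hi]
    linear_combination -z * hx'
  have h2 : N.range ≤ γ.ker := by
    rintro _ ⟨x, rfl⟩
    apply MonoidHom.mem_ker.2
    change x * s x / s (x * s x) = 1
    have : s (s x) = x := Units.ext (hi (x : F))
    rw [map_mul, this, mul_comm x, div_self']
  have e1 := N.ker.card_mul_index
  have e2 := γ.ker.card_mul_index
  rw [Subgroup.index_ker] at e1 e2
  have h3 := Subgroup.card_le_of_le h1
  have hker : N.range = γ.ker := by
    refine Subgroup.eq_of_le_of_card_ge h2 ?_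
    have hpos : 0 < Nat.card γ.range := Nat.card_pos
    have h4 := Nat.mul_le_mul_right (Nat.card N.range) h3
    rw [e1, ← e2, mul_comm] at h4
    exact Nat.le_of_mul_le_mul_left h4 hpos
  have : Units.mk0 a ha0 ∈ N.range := by
    rw [hker]
    apply MonoidHom.mem_ker.2
    apply Units.ext
    change (Units.mk0 a ha0 / s (Units.mk0 a ha0) : Fˣ).val = 1
    rw [Units.val_div_eq_div_val]
    change a / σ a = 1
    rw [ha, div_self ha0]
  obtain ⟨b, hb⟩ := this
  exact ⟨(b : F), congrArg Units.val hb⟩

end scalar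

/-- the isometry group of a two-argument form -/
abbrev uiso (f : (ι → F) → (ι → F) → F) : Subgroup (GL ι F) :=
  Cfsg.preserving (Cfsg.glToMat ι F) f

theorem mem_uiso {g : GL ι F} : g ∈ uiso f ↔ ∀ x y, f (act g x) (act g y) = f x y := by
  simp only [act_apply]; rfl

variable (hU : Cfsg.Geo.IsUnitaryForm σ f)
include hU

theorem herm' (x y : ι → F) : σ (f x y) = f y x := (hU.herm y x).symm

theorem add_left (x y v : ι → F) : f (x + y) v = f x v + f y v := hU.add_left x y v
theorem smul_left (c : F) (x v : ι → F) : f (c • x) v = c * f x v := hU.smul_left c x v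

theorem add_right (v x y : ι → F) : f v (x + y) = f v x + f v y := by
  rw [hU.herm v, hU.add_left, map_add, herm' hU, herm' hU]

theorem smul_right (c : F) (v x : ι → F) : f v (c • x) = σ c * f v x := by
  rw [hU.herm v, hU.smul_left, map_mul, herm' hU]

theorem zero_left (v : ι → F) : f 0 v = 0 := by simpa using hU.smul_left 0 0 v
theorem zero_right (v : ι → F) : f v 0 = 0 := by simpa using smul_right hU 0 v 0

theorem sub_left (x y v : ι → F) : f (x - y) v = f x v - f y v := by
  rw [sub_eq_add_neg, ← neg_one_smul F y, add_left hU, smul_left hU]; ring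

theorem sub_right (v x y : ι → F) : f v (x - y) = f v x - f v y := by
  rw [sub_eq_add_neg, ← neg_one_smul F y, add_right hU, smul_right hU, map_neg, map_one]; ring

theorem ne_symm {x y : ι → F} (h : f x y ≠ 0) : f y x ≠ 0 := by
  rw [← herm' hU]; exact (map_ne_zero σ).2 h

theorem eq_zero_symm {x y : ι → F} (h : f x y = 0) : f y x = 0 := by
  rw [← herm' hU, h, map_zero]

/-- `x ↦ f x v` -/
def flinU (hU : Cfsg.Geo.IsUnitaryForm σ f) (v : ι → F) : (ι → F) →ₗ[F] F where
  toFun x := f x v
  map_add' x y := hU.add_left x y v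
  map_smul' c x := hU.smul_left c x v

theorem flinU_apply (v x : ι → F) : flinU hU v x = f x v := rfl

theorem flinU_injective : Function.Injective (flinU hU) := by
  intro u v h
  by_contra hne
  obtain ⟨x, hx⟩ := (hU.nondegenerate (u - v) (sub_ne_zero.2 hne)).1
  apply hx
  rw [sub_right hU, ← flinU_apply hU u, ← flinU_apply hU v, h, sub_self]

theorem exists_repr [Fintype F] (φ : (ι → F) →ₗ[F] F) : ∃ w, ∀ x, φ x = f x w := by
  have hc : Nat.card (ι → F) = Nat.card ((ι → F) →ₗ[F] F) :=
    Nat.card_congr ((Pi.basisFun F ι).constr F (M' := F)).toEquiv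
  haveI : Finite ((ι → F) →ₗ[F] F) := Module.finite_of_finite F
  have hb := (Nat.bijective_iff_injective_and_card (flinU hU)).2 ⟨flinU_injective hU, hc⟩
  obtain ⟨w, hw⟩ := hb.2 φ
  exact ⟨w, fun x => by rw [← hw]; rfl⟩

/-- perp of a subspace -/
def uperp (hU : Cfsg.Geo.IsUnitaryForm σ f) (W : Submodule F (ι → F)) : Submodule F (ι → F) where
  carrier := {v | ∀ w ∈ W, f v w = 0}
  add_mem' {a b} ha hb := fun w hw => by rw [add_left hU, ha w hw, hb w hw, add_zero]
  zero_mem' := fun w _ => zero_left hU w
  smul_mem' c a ha := fun w hw => by rw [smul_left hU, ha w hw, mul_zero]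

theorem mem_uperp {W : Submodule F (ι → F)} {v : ι → F} : v ∈ uperp hU W ↔ ∀ w ∈ W, f v w = 0 := Iff.rfl

theorem le_uperp_comm {A B : Submodule F (ι → F)} (h : A ≤ uperp hU B) : B ≤ uperp hU A :=
  fun b hb a ha => eq_zero_symm hU (h ha b hb)

theorem finrank_uperp_ge [Fintype F] (W : Submodule F (ι → F)) :
    Fintype.card ι ≤ Module.finrank F (uperp hU W) + Module.finrank F W := by
  let b := Module.finBasis F W
  let Φ : (ι → F) →ₗ[F] (Fin (Module.finrank F W) → F) := LinearMap.pi fun i => flinU hU (b i : ι → F)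
  have h1 : LinearMap.ker Φ ≤ uperp hU W := by
    intro v hv w hw
    have : (⟨w, hw⟩ : W) ∈ Submodule.span F (Set.range b) := by rw [b.span_eq]; trivial
    have hv' : ∀ i, f v (b i : ι → F) = 0 := fun i => congrFun (LinearMap.mem_ker.1 hv) i
    have key : ∀ x : W, x ∈ Submodule.span F (Set.range b) → f v (x : ι → F) = 0 := by
      intro x hx
      induction hx using Submodule.span_induction with
      | mem x hx => obtain ⟨i, rfl⟩ := hx; exact hv' i
      | zero => exact zero_right hU v
      | add x y _ _ hx hy => rw [Submodule.coe_add, add_right hU, hx, hy, add_zero]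
      | smul c x _ hx => rw [Submodule.coe_smul, smul_right hU, hx, mul_zero]
    exact key _ this
  have h2 := LinearMap.finrank_range_add_finrank_ker Φ
  have h3 := Submodule.finrank_le (LinearMap.range Φ)
  rw [Module.finrank_fin_fun] at h3
  rw [Module.finrank_pi] at h2
  have h4 := Submodule.finrank_mono h1
  omega

/-- every plane contains an isotropic vector -/
theorem exists_isotropic_pair [Fintype F] (a b : ι → F) :
    ∃ s t : F, (s ≠ 0 ∨ t ≠ 0) ∧ f (s • a + t • b) (s • a + t • b) = 0 := by
  by_cases ha : f a a = 0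
  · exact ⟨1, 0, Or.inl one_ne_zero, by simpa using ha⟩
  set k := f b a / f a a with hk
  have hb' : ∀ y, y = b - k • a → f y a = 0 := by
    rintro y rfl
    rw [sub_left hU, smul_left hU, hk, div_mul_cancel₀ _ ha, sub_self]
  set y := b - k • a with hy
  have hya : f y a = 0 := hb' y rfl
  by_cases hyy : f y y = 0
  · refine ⟨-k, 1, Or.inr one_ne_zero, ?_⟩
    rw [show (-k) • a + (1 : F) • b = y by rw [hy, one_smul, neg_smul]; abel]
    exact hyy
  obtain ⟨β, hβ⟩ := exists_norm hU.involutive hU.ne_refl (-(f a a) / f y y)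
    (by rw [map_div₀, map_neg, herm' hU, herm' hU])
  refine ⟨1 - β * k, β, ?_, ?_⟩
  · rcases eq_or_ne β 0 with rfl | h
    · left; simp
    · exact Or.inr h
  · rw [show (1 - β * k) • a + β • b = a + β • y by
      rw [hy, smul_sub, smul_smul, sub_smul, one_smul]; abel]
    rw [add_left hU, add_right hU, add_right hU, smul_left hU, smul_left hU, smul_right hU, smul_right hU,
      hya, eq_zero_symm hU hya, ← mul_assoc, hβ, div_mul_cancel₀ _ hyy]
    ring

/-- shifting a vector to an isotropic one -/
theorem exists_isotropic_shift {w z : ι → F} (hw : f w w = 0) (hz : f z w = 1) :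
    ∃ a : F, f (z + a • w) (z + a • w) = 0 := by
  obtain ⟨e, he⟩ := exists_trace hU.involutive hU.ne_refl (-(f z z)) (by rw [map_neg, herm' hU])
  refine ⟨e, ?_⟩
  rw [add_left hU, add_right hU, add_right hU, smul_left hU, smul_left hU, smul_right hU, smul_right hU,
    hw, hz, ← herm' hU z w, hz, map_one]
  linear_combination he

/-- an isotropic vector orthogonal to `v` and not orthogonal to `w` -/
theorem exists_isotropic_sep [Fintype F] (hn : 4 ≤ Fintype.card ι) {v w : ι → F} (hw : w ∉ F ∙ v) :
    ∃ u, f u u = 0 ∧ f u v = 0 ∧ f u w ≠ 0 ∧ u ∉ F ∙ v := by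
  classical
  by_contra hcon
  have hall : ∀ u, f u u = 0 → f u v = 0 → u ∉ F ∙ v → f u w = 0 := fun u h1 h2 h3 => by
    by_contra h4; exact hcon ⟨u, h1, h2, h4, h3⟩
  have hspan1 : ∀ x : ι → F, Module.finrank F ↥(F ∙ x) ≤ 1 := fun x => by
    simpa using finrank_span_le_card ({x} : Set (ι → F))
  obtain ⟨φ, hφ0, hφ1⟩ := exists_dual (F ∙ v) hw
  obtain ⟨x, hx⟩ := exists_repr hU φ
  have hxv : f x v = 0 := eq_zero_symm hU (by rw [← hx]; exact hφ0 v (Submodule.mem_span_singleton_self v))
  have hxw : f x w = 1 := by rw [← herm' hU, ← hx, hφ1, map_one]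
  by_cases hxx : f x x = 0
  · by_cases hxv' : x ∈ F ∙ v
    · have hX := finrank_uperp_ge hU (F ∙ v)
      obtain ⟨a, ha, hav⟩ := SetLike.not_le_iff_exists.1 (show ¬ uperp hU (F ∙ v) ≤ F ∙ v by
        intro h; have := Submodule.finrank_mono h; have := hspan1 v; omega)
      obtain ⟨b, hb, hba⟩ := SetLike.not_le_iff_exists.1 (show ¬ uperp hU (F ∙ v) ≤ F ∙ v ⊔ F ∙ a by
        intro h; have := Submodule.finrank_mono h
        rw [Submodule.finrank_sup_span_singleton hav] at this
        have := hspan1 v; omega)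
      obtain ⟨p, q, hpq, hiso⟩ := exists_isotropic_pair hU a b
      obtain ⟨u, hu⟩ : ∃ u, u = p • a + q • b := ⟨_, rfl⟩
      rw [← hu] at hiso
      have huv : f u v = 0 := by
        rw [hu, add_left hU, smul_left hU, smul_left hU, ha v (Submodule.mem_span_singleton_self v),
          hb v (Submodule.mem_span_singleton_self v)]; ring
      have hu' : u ∉ F ∙ v := by
        intro h
        rcases eq_or_ne q 0 with rfl | hq
        · refine hav ((Submodule.smul_mem_iff _ (hpq.resolve_right (by simp))).1 ?_)
          rw [hu, zero_smul, add_zero] at h; exact h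
        · refine hba ((Submodule.smul_mem_iff _ hq).1 ?_)
          rw [show q • b = u - p • a by rw [hu]; abel]
          exact Submodule.sub_mem _ (Submodule.mem_sup_left h)
            (Submodule.mem_sup_right (Submodule.smul_mem _ _ (Submodule.mem_span_singleton_self a)))
      obtain ⟨r, rfl⟩ := Submodule.mem_span_singleton.1 hxv'
      have h0 := hall u hiso huv hu'
      have i1 : f (r • v + u) (r • v + u) = 0 := by
        rw [add_left hU, add_right hU, add_right hU, hiso, hxx, smul_left hU, smul_right hU, huv,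
          eq_zero_symm hU huv]
        ring
      have i2 : f (r • v + u) v = 0 := by rw [add_left hU, hxv, huv, add_zero]
      have h1 := hall (r • v + u) i1 i2
        (fun h => hu' (add_sub_cancel_left (r • v) u ▸
          Submodule.sub_mem _ h (Submodule.smul_mem _ r (Submodule.mem_span_singleton_self v))))
      rw [add_left hU, hxw, h0, add_zero] at h1
      exact one_ne_zero h1
    · exact one_ne_zero (hxw.symm.trans (hall x hxx hxv hxv'))
  · obtain ⟨P, hP⟩ : ∃ P, P = F ∙ v ⊔ F ∙ x := ⟨_, rfl⟩
    have hvP : v ∈ P := hP ▸ Submodule.mem_sup_left (Submodule.mem_span_singleton_self v)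
    have hxP : x ∈ P := hP ▸ Submodule.mem_sup_right (Submodule.mem_span_singleton_self x)
    have hY := finrank_uperp_ge hU P
    have hPdim : Module.finrank F P ≤ 2 := by
      have := Submodule.finrank_add_le_finrank_add_finrank (F ∙ v) (F ∙ x)
      rw [← hP] at this
      have := hspan1 v; have := hspan1 x; omega
    obtain ⟨y, hy, hyy⟩ : ∃ y ∈ uperp hU P, f y y ≠ 0 := by
      by_contra h; push Not at h
      have htot : ∀ a ∈ uperp hU P, ∀ b ∈ uperp hU P, f a b = 0 := by
        intro a ha b hb
        have key : ∀ c : F, c * f a b + σ c * f b a = 0 := by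
          intro c
          have h1 := h _ (add_mem ((uperp hU P).smul_mem c ha) hb)
          simp only [add_left hU, add_right hU, smul_left hU, smul_right hU, h a ha, h b hb, mul_zero,
            zero_add, add_zero] at h1
          linear_combination h1
        have k1 := key 1
        obtain ⟨c, hc⟩ := exists_moved hU.ne_refl
        have k2 := key c
        rw [map_one, one_mul, one_mul] at k1
        have k3 : (c - σ c) * f a b = 0 := by linear_combination k2 - σ c * k1
        exact (mul_eq_zero.1 k3).resolve_left (sub_ne_zero.2 (Ne.symm hc))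
      have hle : uperp hU P ≤ F ∙ v := by
        intro a ha
        have haP : a ∈ P := by
          by_contra hn'
          obtain ⟨ψ, h0, h1⟩ := exists_dual P hn'
          obtain ⟨z, hz⟩ := exists_repr hU ψ
          have := htot a ha z (fun p hp => eq_zero_symm hU (by rw [← hz]; exact h0 p hp))
          rw [← hz, h1] at this
          exact one_ne_zero this
        rw [hP] at haP
        obtain ⟨p, hp, q, hq, e⟩ := Submodule.mem_sup.1 haP
        obtain ⟨r, rfl⟩ := Submodule.mem_span_singleton.1 hq
        obtain ⟨r', rfl⟩ := Submodule.mem_span_singleton.1 hp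
        have hax := ha x hxP
        rw [← e, add_left hU, smul_left hU, smul_left hU, eq_zero_symm hU hxv, mul_zero, zero_add] at hax
        rw [← e, (mul_eq_zero.1 hax).resolve_right hxx, zero_smul, add_zero]
        exact Submodule.smul_mem _ _ (Submodule.mem_span_singleton_self v)
      have := Submodule.finrank_mono hle
      have := hspan1 v; omega
    have hyv := hy v hvP
    have hyx := hy x hxP
    obtain ⟨t, ht⟩ := exists_norm hU.involutive hU.ne_refl (-(f x x) / f y y)
      (by rw [map_div₀, map_neg, herm' hU, herm' hU])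
    obtain ⟨b, hb⟩ := exists_moved hU.ne_refl
    have hb0 : b ≠ 0 := fun h => hb (by rw [h, map_zero])
    have hσb : σ b ≠ 0 := (map_ne_zero σ).2 hb0
    obtain ⟨ω, hω⟩ : ∃ ω, ω = b / σ b := ⟨_, rfl⟩
    have hωN : ω * σ ω = 1 := by rw [hω, map_div₀, hU.involutive]; field_simp
    have hiso : ∀ e, e * σ e = 1 → f (x + (e * t) • y) w = 0 := by
      intro e he
      refine hall _ ?_ (by rw [add_left hU, smul_left hU, hxv, hyv, mul_zero, add_zero]) fun h => ?_
      · simp only [add_left hU, add_right hU, smul_left hU, smul_right hU, hyx, eq_zero_symm hU hyx, map_mul,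
          mul_zero, add_zero, zero_add]
        have ht' : t * σ t * f y y = -(f x x) := by rw [ht, div_mul_cancel₀ _ hyy]
        linear_combination (t * σ t * f y y) * he + ht'
      · obtain ⟨r, hr⟩ := Submodule.mem_span_singleton.1 h
        have := congrArg (fun z => f z x) hr
        simp only [smul_left hU, add_left hU, hyx, eq_zero_symm hU hxv, mul_zero, add_zero] at this
        exact hxx this.symm
    have h1 := hiso 1 (by rw [map_one, mul_one])
    have h2 := hiso ω hωN
    rw [add_left hU, smul_left hU, hxw] at h1 h2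
    have hω1 : ω = 1 := by linear_combination ω * h1 - h2
    rw [hω, div_eq_one_iff_eq hσb] at hω1
    exact hb hω1.symm

/-- an isotropic vector not orthogonal to a given one -/
theorem exists_isotropic_ne [Fintype F] (hn : 4 ≤ Fintype.card ι) {v : ι → F} (hv : v ≠ 0) :
    ∃ u, f u u = 0 ∧ f u v ≠ 0 := by
  obtain ⟨u, h1, -, h3, -⟩ := exists_isotropic_sep hU hn (v := 0) (w := v) (by
    simpa [Submodule.mem_span_singleton] using hv)
  exact ⟨u, h1, h3⟩

/-- an isotropic vector not orthogonal to two given isotropic vectors, within `v^⊥` -/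
theorem exists_isotropic_two [Fintype F] (hn : 4 ≤ Fintype.card ι) {v a b : ι → F} (ha : a ∉ F ∙ v)
    (hb : b ∉ F ∙ v) : ∃ z z', f z z = 0 ∧ f z v = 0 ∧ f z a ≠ 0 ∧ f z' z' = 0 ∧ f z' v = 0 ∧
      f z' b ≠ 0 ∧ (z' = z ∨ f z z' ≠ 0) := by
  obtain ⟨z₁, i1, v1, a1, -⟩ := exists_isotropic_sep hU hn ha
  obtain ⟨z₂, i2, v2, b2, -⟩ := exists_isotropic_sep hU hn hb
  by_cases h1 : f z₁ b = 0
  · by_cases h2 : f z₂ a = 0
    · by_cases h3 : f z₁ z₂ = 0
      · refine ⟨z₁ + z₂, z₁ + z₂, ?_, ?_, ?_, ?_, ?_, ?_, Or.inl rfl⟩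
        all_goals first
          | rw [add_left hU, h2, add_zero]; exact a1
          | rw [add_left hU, h1, zero_add]; exact b2
          | rw [add_left hU, v1, v2, add_zero]
          | rw [add_left hU, add_right hU, add_right hU, i1, i2, h3, eq_zero_symm hU h3]; ring
      · exact ⟨z₁, z₂, i1, v1, a1, i2, v2, b2, Or.inr h3⟩
    · exact ⟨z₂, z₂, i2, v2, h2, i2, v2, b2, Or.inl rfl⟩
  · exact ⟨z₁, z₁, i1, v1, a1, i1, v1, h1, Or.inl rfl⟩

/-- `x ↦ x + f x w • v` -/
noncomputable def ptv (hU : Cfsg.Geo.IsUnitaryForm σ f) (v w : ι → F) : GL ι F := tv (flinU hU w) v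

theorem act_ptv {v w : ι → F} (h : f v w = 0) (x : ι → F) : act (ptv hU v w) x = x + f x w • v :=
  act_tv (φ := flinU hU w) h x

theorem conj_ptv {g : GL ι F} (hg : g ∈ uiso f) {v w : ι → F} (h : f v w = 0) :
    g * ptv hU v w * g⁻¹ = ptv hU (act g v) (act g w) := by
  rw [ptv, ptv, conj_tv g (φ := flinU hU w) h]
  congr 1
  apply LinearMap.ext; intro x
  simp only [LinearMap.comp_apply, flinU_apply]
  conv_rhs => rw [← act_act_inv g x, mem_uiso.1 hg]

theorem ptv_smul (v w : ι → F) (a : F) (h : f v w = 0) : ptv hU (a • v) w = ptv hU v (σ a • w) := by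
  apply gl_ext; intro x
  rw [act_ptv hU (by rw [smul_left hU, h, mul_zero]), act_ptv hU (by rw [smul_right hU, h, mul_zero]),
    smul_right hU, hU.involutive, smul_smul, mul_comm]

theorem ptv_add_right {v w w' : ι → F} (h : f v w = 0) (h' : f v w' = 0) :
    ptv hU v w * ptv hU v w' = ptv hU v (w + w') := by
  apply gl_ext; intro x
  rw [act_mul, act_ptv hU h, act_ptv hU h', act_ptv hU (by rw [add_right hU, h, h', add_zero]),
    add_right hU, add_left hU, smul_left hU, h, mul_zero, add_zero]
  module

theorem ptv_add_left {v v' w : ι → F} (h : f v w = 0) (h' : f v' w = 0) :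
    ptv hU v w * ptv hU v' w = ptv hU (v + v') w := by
  apply gl_ext; intro x
  rw [act_mul, act_ptv hU h, act_ptv hU h', act_ptv hU (by rw [add_left hU, h, h', add_zero]),
    add_left hU, smul_left hU, h', mul_zero, add_zero]
  module

theorem ptv_zero_right (v : ι → F) : ptv hU v 0 = 1 := by
  apply gl_ext; intro x
  rw [act_ptv hU (zero_right hU v), act_one, zero_right hU]; simp

theorem ptv_zero_left (w : ι → F) : ptv hU 0 w = 1 := by
  apply gl_ext; intro x
  rw [act_ptv hU (zero_left hU w), act_one]; simp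

/-- the unitary transvection `x ↦ x + c f(x,u) u` -/
noncomputable def utv (hU : Cfsg.Geo.IsUnitaryForm σ f) (u : ι → F) (c : F) : GL ι F :=
  ptv hU u (σ c • u)

theorem act_utv {u : ι → F} (hu : f u u = 0) (c : F) (x : ι → F) :
    act (utv hU u c) x = x + (c * f x u) • u := by
  rw [utv, act_ptv hU (by rw [smul_right hU, hu, mul_zero]), smul_right hU, hU.involutive]

theorem utv_mem {u : ι → F} (hu : f u u = 0) {c : F} (hc : c + σ c = 0) : utv hU u c ∈ uiso f := by
  rw [mem_uiso]; intro x y
  simp only [act_utv hU hu, add_left hU, add_right hU, smul_left hU, smul_right hU, hu, map_mul,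
    herm' hU, mul_zero, add_zero]
  linear_combination (f x u * f u y) * hc

theorem conj_utv {g : GL ι F} (hg : g ∈ uiso f) {u : ι → F} (hu : f u u = 0) (c : F) :
    g * utv hU u c * g⁻¹ = utv hU (act g u) c := by
  rw [utv, utv, conj_ptv hU hg (by rw [smul_right hU, hu, mul_zero]), map_smul]

theorem det_ptv {v w : ι → F} (h : f v w = 0) : ptv hU v w ∈ Cfsg.Geo.specialLinear ι F := by
  refine MonoidHom.mem_ker.2 (Units.ext ?_)
  simpa [ptv, flinU_apply, det_eq_of_fix_hyperplane (act_tv (φ := flinU hU w) (v := v) h)] using h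

end Cfsg.Agent.MaxCl.Unit
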