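/-
The determinant one isometries of a unitary form in dimension at least four are generated by transvections,
and the standard form `Σ uᵢ vᵢ^q` is a unitary form.
-/
import Mathlib
import Cfsg.Prelude.Def_GeometricClasses
import Cfsg.Agent.Lib.MaxCl.Unitary

set_option autoImplicit false

namespace Cfsg.Agent.MaxCl.Unit

open scoped MatrixGroups Matrix

variable {ι : Type} [Fintype ι] [DecidableEq ι] {F : Type*} [Field F]
variable {σ : F ≃+* F} {f : (ι → F) → (ι → F) → F}

/-- `g` is the quasi-reflection with centre `x` and eigenvalue `l` -/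
def IsQRef (f : (ι → F) → (ι → F) → F) (g : GL ι F) (x : ι → F) (l : F) : Prop :=
  ∀ z, act g z = z + ((l - 1) * f z x / f x x) • x

theorem isQRef_unique {g g' : GL ι F} {x : ι → F} {l : F} (h : IsQRef f g x l) (h' : IsQRef f g' x l) :
    g = g' := gl_ext fun z => by rw [h z, h' z]

variable (hU : Cfsg.Geo.IsUnitaryForm σ f)
include hU

theorem exists_qref {x : ι → F} (hx : f x x ≠ 0) {l : F} (hl : l * σ l = 1) :
    ∃ g ∈ uiso f, IsQRef f g x l := by
  let L : (ι → F) →ₗ[F] (ι → F) := LinearMap.id + (((l - 1) / f x x) • flinU hU x).smulRight x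
  have hL : ∀ z, L z = z + ((l - 1) * f z x / f x x) • x := by
    intro z
    simp [L, flinU_apply, div_mul_eq_mul_div]
  have hiso : ∀ u v, f (L u) (L v) = f u v := by
    intro u v
    simp only [hL, add_left hU, add_right hU, smul_left hU, smul_right hU, map_div₀, map_mul, map_sub,
      map_one, herm' hU]
    field_simp
    linear_combination (f u x * f x v) * hl
  have hinj : Function.Injective L := by
    intro u v h
    apply flinU_injective hU
    apply LinearMap.ext; intro z
    simp only [flinU_apply]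
    rw [← hiso z u, ← hiso z v, h]
  have hu : IsUnit (LinearMap.toMatrix' L) := by
    rw [← Matrix.mulVec_injective_iff_isUnit]
    intro u v h
    apply hinj
    rw [← Matrix.toLin'_toMatrix' L, Matrix.toLin'_apply, Matrix.toLin'_apply]
    exact h
  have hg : ∀ z, act hu.unit z = L z := fun z => by
    rw [act_apply, IsUnit.unit_spec, ← Matrix.toLin'_apply, Matrix.toLin'_toMatrix']
  exact ⟨hu.unit, mem_uiso.2 fun u v => by rw [hg, hg, hiso], fun z => by rw [hg, hL]⟩

theorem det_qref {g : GL ι F} {x : ι → F} (hx : f x x ≠ 0) {l : F} (h : IsQRef f g x l) :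
    (g : Matrix ι ι F).det = l := by
  rw [det_eq_of_fix_hyperplane (φ := ((l - 1) / f x x) • flinU hU x) (v := x) (fun z => by
    rw [h z]; simp [flinU_apply, div_mul_eq_mul_div])]
  simp [flinU_apply, div_mul_cancel₀ _ hx]

/-- the group generated by the unitary transvections -/
def utvGroup (hU : Cfsg.Geo.IsUnitaryForm σ f) : Subgroup (GL ι F) :=
  Subgroup.closure {g | ∃ u c, f u u = 0 ∧ c + σ c = 0 ∧ g = utv hU u c}

theorem utvGroup_le_uiso : utvGroup hU ≤ uiso f := by
  rw [utvGroup, Subgroup.closure_le]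
  rintro _ ⟨u, c, hu, hc, rfl⟩
  exact utv_mem hU hu hc

theorem utvGroup_conj {g : GL ι F} (hg : g ∈ uiso f) {n : GL ι F} (hn : n ∈ utvGroup hU) :
    g * n * g⁻¹ ∈ utvGroup hU := by
  induction hn using Subgroup.closure_induction with
  | mem x hx =>
    obtain ⟨u, c, hu, hc, rfl⟩ := hx
    exact Subgroup.subset_closure ⟨act g u, c, by rw [mem_uiso.1 hg]; exact hu, hc, conj_utv hU hg hu c⟩
  | one => simp
  | mul x y _ _ hx hy =>
    rw [show g * (x * y) * g⁻¹ = (g * x * g⁻¹) * (g * y * g⁻¹) by group]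
    exact mul_mem hx hy
  | inv x _ hx =>
    rw [show g * x⁻¹ * g⁻¹ = (g * x * g⁻¹)⁻¹ by group]
    exact inv_mem hx

/-- moving a vector to another of the same norm by one transvection -/
theorem exists_utv_move {x y : ι → F} (hxy : f x x = f y y) (hu : f (x - y) (x - y) = 0)
    (hy : f y (x - y) ≠ 0) :
    ∃ c, c + σ c = 0 ∧ act (utv hU (x - y) c) y = x := by
  refine ⟨(f y (x - y))⁻¹, ?_, by rw [act_utv hU hu, inv_mul_cancel₀ hy, one_smul]; abel⟩
  have e : f y (x - y) + σ (f y (x - y)) = 0 := by
    simp only [sub_left hU, sub_right hU, map_sub, herm' hU] at hu ⊢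
    linear_combination (-1 : F) * hu + hxy
  rw [map_inv₀, eq_neg_of_add_eq_zero_right e, inv_neg, add_neg_cancel]

variable [Fintype F]

theorem exists_aniso_perp_four (hn : 4 ≤ Fintype.card ι) {x y : ι → F} (hx : f x x ≠ 0 ∨ (x = 0 ∧ y = 0)) :
    ∃ w, f w x = 0 ∧ f w y = 0 ∧ f w w ≠ 0 := by
  classical
  set P := Submodule.span F ({x, y} : Set (ι → F)) with hP
  have hPdim : Module.finrank F P ≤ 2 := by
    refine (finrank_span_le_card ({x, y} : Set (ι → F))).trans ?_
    simp only [Set.toFinset_insert, Set.toFinset_singleton]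
    exact Finset.card_le_two
  have hX := finrank_uperp_ge hU P
  obtain ⟨a, ha, haP⟩ := SetLike.not_le_iff_exists.1 (show ¬ uperp hU P ≤ P by
    intro h
    rcases hx with hx | ⟨rfl, rfl⟩
    · have heq : uperp hU P = P := Submodule.eq_of_le_of_finrank_le h (by omega)
      have hxP : x ∈ P := Submodule.subset_span (Set.mem_insert x _)
      exact hx ((heq.ge hxP) x hxP)
    · have h0 : P = ⊥ := by rw [hP]; simp
      have := Submodule.finrank_mono h
      rw [h0, finrank_bot] at this hX
      omega)
  obtain ⟨ψ, h0, h1⟩ := exists_dual P haP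
  obtain ⟨b, hb⟩ := exists_repr hU ψ
  have hbX : b ∈ uperp hU P := fun p hp => eq_zero_symm hU (by rw [← hb]; exact h0 p hp)
  have hxm : x ∈ P := Submodule.subset_span (Set.mem_insert x _)
  have hym : y ∈ P := Submodule.subset_span (Set.mem_insert_of_mem x rfl)
  by_contra hno; push Not at hno
  have hab : f a b = 1 := by rw [← hb]; exact h1
  obtain ⟨e, he⟩ := exists_trace_one hU.involutive hU.ne_refl
  have haa := hno a (ha x hxm) (ha y hym)
  have hbb := hno b (hbX x hxm) (hbX y hym)
  have := hno (e • a + b) (((uperp hU P).add_mem ((uperp hU P).smul_mem e ha) hbX) x hxm)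
    (((uperp hU P).add_mem ((uperp hU P).smul_mem e ha) hbX) y hym)
  simp only [add_left hU, add_right hU, smul_left hU, smul_right hU, haa, hbb, hab, ← herm' hU a b,
    map_one, mul_zero, mul_one, zero_add, add_zero] at this
  exact one_ne_zero (he.symm.trans this)

theorem exists_scale {x : ι → F} (hx : f x x ≠ 0) {a : F} (ha : σ a = a) :
    ∃ b : F, f (b • x) (b • x) = a := by
  obtain ⟨b, hb⟩ := exists_norm hU.involutive hU.ne_refl (a / f x x) (by rw [map_div₀, ha, herm' hU])
  exact ⟨b, by rw [smul_left hU, smul_right hU, ← mul_assoc, hb, div_mul_cancel₀ _ hx]⟩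

/-- transitivity of the transvection group on vectors of one non-zero norm, up to orthogonal chains -/
theorem exists_utv_orth (hn : 4 ≤ Fintype.card ι) {x y : ι → F} (hx : f x x ≠ 0) (hxy : f y y = f x x)
    (ho : f x y = 0) : ∃ k ∈ utvGroup hU, act k y = x := by
  obtain ⟨s, hs0, hs⟩ := exists_skew hU.ne_refl hU.involutive
  obtain ⟨w, hwx, hwy, hww⟩ := exists_aniso_perp_four hU hn (x := x) (y := y) (Or.inl hx)
  obtain ⟨a, ha⟩ : ∃ a, a = f x x := ⟨_, rfl⟩
  have hσa : σ a = a := by rw [ha, herm' hU]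
  obtain ⟨b, hb⟩ := exists_scale hU hww (a := a * (1 - 2 * ((1 + s) * σ (1 + s)))) (by
    simp only [map_mul, map_sub, map_add, map_one, map_ofNat, hσa, hU.involutive]; ring)
  obtain ⟨t, ht⟩ : ∃ t, t = b • w := ⟨_, rfl⟩
  rw [← ht] at hb
  have htx : f t x = 0 := by rw [ht, smul_left hU, hwx, mul_zero]
  have hty : f t y = 0 := by rw [ht, smul_left hU, hwy, mul_zero]
  have hyx := eq_zero_symm hU ho
  obtain ⟨z, hz⟩ : ∃ z, z = (1 + s) • (x + y) + t := ⟨_, rfl⟩
  have hzx : f z x = (1 + s) * a := by
    rw [hz, add_left hU, smul_left hU, add_left hU, hyx, htx, ← ha]; ring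
  have hzy : f z y = (1 + s) * a := by
    rw [hz, add_left hU, smul_left hU, add_left hU, ho, hty, hxy, ← ha]; ring
  have hzz : f z z = a := by
    simp only [hz, add_left hU, add_right hU, smul_left hU, smul_right hU, htx, hty, ho, hyx, hxy, ← ha,
      hb, eq_zero_symm hU htx, eq_zero_symm hU hty]
    ring
  have hsa : s * a ≠ 0 := mul_ne_zero hs0 (ha ▸ hx)
  have iso : ∀ v, f v v = a → f z v = (1 + s) * a →
      f (v - z) (v - z) = 0 ∧ f z (v - z) ≠ 0 ∧ f (z - v) (z - v) = 0 ∧ f v (z - v) ≠ 0 := by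
    intro v hv hzv
    have hvz : f v z = (1 + σ s) * a := by rw [← herm' hU, hzv, map_mul, map_add, map_one, hσa]
    refine ⟨?_, ?_, ?_, ?_⟩
    · simp only [sub_left hU, sub_right hU, hv, hzv, hvz, hzz]; linear_combination -a * hs
    · rw [sub_right hU, hzv, hzz]; intro h; exact hsa (by linear_combination h)
    · simp only [sub_left hU, sub_right hU, hv, hzv, hvz, hzz]; linear_combination -a * hs
    · rw [sub_right hU, hvz, hv]; intro h; exact hsa (by linear_combination -h + a * hs)
  obtain ⟨i1, i2, -, -⟩ := iso x ha.symm hzx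
  obtain ⟨-, -, i3, i4⟩ := iso y (hxy.trans ha.symm) hzy
  obtain ⟨c₁, hc₁, e₁⟩ := exists_utv_move hU (by rw [hzz, ha]) i1 i2
  obtain ⟨c₂, hc₂, e₂⟩ := exists_utv_move hU (by rw [hzz, hxy, ha]) i3 i4
  refine ⟨utv hU (x - z) c₁ * utv hU (z - y) c₂, mul_mem (Subgroup.subset_closure ⟨_, _, i1, hc₁, rfl⟩)
    (Subgroup.subset_closure ⟨_, _, i3, hc₂, rfl⟩), ?_⟩
  rw [act_mul, e₂, e₁]

theorem exists_utv_point (hn : 4 ≤ Fintype.card ι) {x y : ι → F} (hx : f x x ≠ 0) (hy : f y y ≠ 0) :
    ∃ k ∈ utvGroup hU, ∃ b : F, b ≠ 0 ∧ act k y = b • x := by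
  obtain ⟨w, hwx, hwy, hww⟩ := exists_aniso_perp_four hU hn (x := x) (y := y) (Or.inl hx)
  obtain ⟨β, hβ⟩ := exists_scale hU hww (a := f x x) (herm' hU x x)
  obtain ⟨γ, hγ⟩ := exists_scale hU hy (a := f x x) (herm' hU x x)
  have hγ0 : γ ≠ 0 := by rintro rfl; rw [zero_smul, zero_left hU] at hγ; exact hx hγ.symm
  obtain ⟨k₁, hk₁, e₁⟩ := exists_utv_orth hU hn hx hβ
    (by rw [smul_right hU, eq_zero_symm hU hwx, mul_zero])
  obtain ⟨k₂, hk₂, e₂⟩ := exists_utv_orth hU hn (x := β • w) (y := γ • y) (by rw [hβ]; exact hx)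
    (by rw [hγ, hβ]) (by rw [smul_left hU, smul_right hU, hwy, mul_zero, mul_zero])
  refine ⟨k₁ * k₂, mul_mem hk₁ hk₂, γ⁻¹, inv_ne_zero hγ0, ?_⟩
  have : act (k₁ * k₂) (γ • y) = x := by rw [act_mul, e₂, e₁]
  rw [map_smul] at this
  rw [← this, inv_smul_smul₀ hγ0]

/-- A subgroup containing all unitary transvections contains every determinant one isometry, in dimension at
least four. -/
theorem su_le_of_utv_four (hn : 4 ≤ Fintype.card ι) (M : Subgroup (GL ι F))
    (hM : ∀ u c, f u u = 0 → c + σ c = 0 → utv hU u c ∈ M) :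
    uiso f ⊓ Cfsg.Geo.specialLinear ι F ≤ M := by
  classical
  have hN : utvGroup hU ≤ M := by
    rw [utvGroup, Subgroup.closure_le]
    rintro _ ⟨u, c, hu, hc, rfl⟩; exact hM u c hu hc
  obtain ⟨x₀, hx₀⟩ : ∃ x, f x x ≠ 0 := by
    obtain ⟨w, -, -, hw⟩ := exists_aniso_perp_four hU hn (x := (0 : ι → F)) (y := 0) (Or.inr ⟨rfl, rfl⟩); exact ⟨w, hw⟩
  have hdet1 : ∀ h ∈ utvGroup hU, (h : Matrix ι ι F).det = 1 := by
    intro h hh
    have : h ∈ Cfsg.Geo.specialLinear ι F := by
      refine (Subgroup.closure_le _).2 ?_ hh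
      rintro _ ⟨u, c, hu, -, rfl⟩
      exact det_ptv hU (by rw [smul_right hU, hu, mul_zero])
    have := congrArg Units.val (MonoidHom.mem_ker.1 this)
    simpa using this
  -- the statement: a transvection part times a quasi-reflection at `x₀`
  let P : GL ι F → Prop := fun g => ∃ h ∈ utvGroup hU, ∃ d ∈ uiso f, ∃ l, l * σ l = 1 ∧
    IsQRef f d x₀ l ∧ g = h * d
  have hP1 : P 1 := ⟨1, one_mem _, 1, one_mem _, 1, by rw [map_one, mul_one], fun z => by simp [act_one], by simp⟩
  have hPmul : ∀ a b, P a → P b → P (a * b) := by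
    rintro _ _ ⟨h, hh, d, hd, l, hl, hdl, rfl⟩ ⟨h', hh', d', hd', l', hl', hdl', rfl⟩
    refine ⟨h * (d * h' * d⁻¹), mul_mem hh (utvGroup_conj hU hd hh'), d * d', mul_mem hd hd', l * l',
      by rw [map_mul]; linear_combination (l' * σ l') * hl + hl', fun z => ?_, by group⟩
    rw [act_mul, hdl', hdl, add_left hU, smul_left hU, add_assoc, ← add_smul]
    congr 2
    field_simp
    ring
  have hPutv : ∀ u c, f u u = 0 → c + σ c = 0 → P (utv hU u c) := fun u c hu hc =>
    ⟨_, Subgroup.subset_closure ⟨u, c, hu, hc, rfl⟩, 1, one_mem _, 1, by rw [map_one, mul_one],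
      fun z => by simp [act_one], by simp⟩
  have hPqref : ∀ g x l, g ∈ uiso f → f x x ≠ 0 → l * σ l = 1 → IsQRef f g x l → P g := by
    intro g x l hg hx hl hgl
    obtain ⟨k, hk, b, hb, hkb⟩ := exists_utv_point hU hn hx hx₀
    obtain ⟨d, hd, hdl⟩ := exists_qref hU hx₀ hl
    have hkf := utvGroup_le_uiso hU hk
    refine ⟨k * (d * k⁻¹ * d⁻¹), mul_mem hk (utvGroup_conj hU hd (inv_mem hk)), d, hd, l, hl, hdl, ?_⟩
    have : g = k * d * k⁻¹ := by
      refine isQRef_unique hgl (fun z => ?_)
      rw [act_mul, act_mul, hdl, map_add, map_smul, act_act_inv, hkb, smul_smul]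
      congr 2
      have e1 : f (act k⁻¹ z) x₀ = σ b * f z x := by
        rw [← mem_uiso.1 hkf, act_act_inv, hkb, smul_right hU]
      have e2 : f x₀ x₀ = b * σ b * f x x := by
        rw [← mem_uiso.1 hkf, hkb, smul_left hU, smul_right hU, mul_assoc]
      have hσb : σ b ≠ 0 := (map_ne_zero σ).2 hb
      rw [e1, e2]; field_simp
    rw [this]; group
  have hPinv : ∀ a, P a → P a⁻¹ := by
    rintro _ ⟨h, hh, d, hd, l, hl, hdl, rfl⟩
    have hl0 : l ≠ 0 := left_ne_zero_of_mul (hl.symm ▸ one_ne_zero)
    refine ⟨d⁻¹ * h⁻¹ * d, ?_, d⁻¹, inv_mem hd, σ l, by rw [hU.involutive, mul_comm, hl], fun z => ?_, by group⟩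
    · have := utvGroup_conj hU (inv_mem hd) (inv_mem hh)
      rwa [inv_inv] at this
    · apply act_injective d
      rw [act_act_inv, hdl, add_left hU, smul_left hU, add_assoc, ← add_smul]
      have : (σ l - 1) * f z x₀ / f x₀ x₀ + (l - 1) * (f z x₀ + (σ l - 1) * f z x₀ / f x₀ x₀ * f x₀ x₀) / f x₀ x₀ = 0 := by
        rw [div_mul_cancel₀ _ hx₀]
        field_simp
        linear_combination (f z x₀) * hl
      rw [this, zero_smul, add_zero]
  -- every isometry
  have main : ∀ (k : ℕ) (W : Submodule F (ι → F)) (g : GL ι F),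
      Fintype.card ι ≤ Module.finrank F W + k → W ⊔ uperp hU W = ⊤ → g ∈ uiso f →
      (∀ w ∈ W, act g w = w) → P g := by
    intro k
    induction k with
    | zero =>
      intro W g hk _ _ hW
      have : W = ⊤ := Submodule.eq_top_of_finrank_eq (by
        rw [Module.finrank_pi]; exact le_antisymm (by simpa using Submodule.finrank_le W) (by simpa using hk))
      subst this
      have : g = 1 := gl_ext fun x => by rw [hW x trivial, act_one]
      rw [this]; exact hP1
    | succ k ih =>
      intro W g hk hW hg hfix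
      by_cases hWtop : W = ⊤
      · subst hWtop
        have : g = 1 := gl_ext fun x => by rw [hfix x trivial, act_one]
        rw [this]; exact hP1
      obtain ⟨x, hx, hxx⟩ : ∃ x ∈ uperp hU W, f x x ≠ 0 := by
        by_contra hno; push Not at hno
        apply hWtop
        rw [← hW]
        refine le_antisymm le_sup_left (sup_le le_rfl fun p hp => ?_)
        have : p = 0 := by
          by_contra hp0
          obtain ⟨z, hz⟩ := (hU.nondegenerate p hp0).2
          apply hz
          obtain ⟨w, hw, r, hr, rfl⟩ := Submodule.mem_sup.1 (hW.symm ▸ Submodule.mem_top : z ∈ W ⊔ uperp hU W)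
          rw [add_right hU, hp w hw, zero_add]
          obtain ⟨e, he⟩ := exists_moved hU.ne_refl
          have h1 := hno _ (add_mem ((uperp hU W).smul_mem e hp) hr)
          have h2 := hno _ (add_mem hp hr)
          simp only [add_left hU, add_right hU, smul_left hU, smul_right hU, hno p hp, hno r hr, mul_zero,
            add_zero, zero_add] at h1 h2
          have : (e - σ e) * f p r = 0 := by linear_combination h1 - σ e * h2
          exact (mul_eq_zero.1 this).resolve_left (sub_ne_zero.2 (Ne.symm he))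
        rw [this]; exact W.zero_mem
      have hxW : x ∉ W := fun h => hxx (hx x h)
      have hperp : ∀ g ∈ uiso f, (∀ w ∈ W, act g w = w) → act g x ∈ uperp hU W := by
        intro g hg hfix w hw
        rw [← hfix w hw, mem_uiso.1 hg]; exact hx w hw
      have hW' : (W ⊔ F ∙ x) ⊔ uperp hU (W ⊔ F ∙ x) = ⊤ := by
        rw [eq_top_iff]
        intro v _
        obtain ⟨w, hw, p, hp, rfl⟩ := Submodule.mem_sup.1 (hW.symm ▸ Submodule.mem_top : v ∈ W ⊔ uperp hU W)
        have : w + p = (w + (f p x / f x x) • x) + (p - (f p x / f x x) • x) := by abel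
        rw [this]
        refine Submodule.add_mem_sup (Submodule.add_mem_sup hw (Submodule.smul_mem _ _ (Submodule.mem_span_singleton_self x))) ?_
        intro u hu
        obtain ⟨w', hw', y, hy, rfl⟩ := Submodule.mem_sup.1 hu
        obtain ⟨b, rfl⟩ := Submodule.mem_span_singleton.1 hy
        rw [add_right hU, smul_right hU, sub_left hU, sub_left hU, smul_left hU, smul_left hU, hp w' hw',
          hx w' hw', div_mul_cancel₀ _ hxx]
        ring
      have finish : ∀ g t : GL ι F, g ∈ uiso f → (∀ w ∈ W, act g w = w) → t ∈ uiso f → P t →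
          (∀ w ∈ W, act t w = w) → act t (act g x) = x → P g := by
        intro g t hg hfix ht hPt htW htx
        have h1 : P (t * g) := by
          refine ih (W ⊔ F ∙ x) _ ?_ hW' (mul_mem ht hg) ?_
          · rw [Submodule.finrank_sup_span_singleton hxW]; omega
          · intro v hv
            obtain ⟨w, hw, y, hy, rfl⟩ := Submodule.mem_sup.1 hv
            obtain ⟨b, rfl⟩ := Submodule.mem_span_singleton.1 hy
            rw [map_add, map_smul, act_mul, act_mul, hfix w hw, htW w hw, htx]
        have := hPmul _ _ (hPinv _ hPt) h1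
        rwa [inv_mul_cancel_left] at this
      have step : ∀ g : GL ι F, g ∈ uiso f → (∀ w ∈ W, act g w = w) →
          f (act g x) (x - act g x) ≠ 0 → P g := by
        intro g hg hfix hne
        obtain ⟨y, hy⟩ : ∃ y, y = act g x := ⟨_, rfl⟩
        rw [← hy] at hne
        have hyy : f y y = f x x := by rw [hy, mem_uiso.1 hg]
        have hyW : y ∈ uperp hU W := hy ▸ hperp g hg hfix
        have huW : x - y ∈ uperp hU W := sub_mem hx hyW
        by_cases hu : f (x - y) (x - y) = 0
        · obtain ⟨c, hc, he⟩ := exists_utv_move hU hyy.symm hu hne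
          refine finish g _ hg hfix (utv_mem hU hu hc) (hPutv _ c hu hc) (fun w hw => ?_) (hy ▸ he)
          rw [act_utv hU hu, eq_zero_symm hU (huW w hw)]; simp
        · obtain ⟨l, hl⟩ : ∃ l, l = 1 + f (x - y) (x - y) / f y (x - y) := ⟨_, rfl⟩
          have hσ : σ (f y (x - y)) = f (x - y) y := herm' hU _ _
          have hl1 : l * σ l = 1 := by
            have hne' : f (x - y) y ≠ 0 := ne_symm hU hne
            rw [hl, map_add, map_one, map_div₀, hσ, herm' hU]
            field_simp
            simp only [sub_left hU, sub_right hU] at *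
            linear_combination (f x x - f x y - (f y x - f y y)) * (hyy.symm)
          obtain ⟨d, hd, hdl⟩ := exists_qref hU hu hl1
          refine finish g d hg hfix hd (hPqref d _ l hd hu hl1 hdl) (fun w hw => ?_) ?_
          · rw [hdl, eq_zero_symm hU (huW w hw)]; simp
          · rw [← hy, hdl, hl, add_sub_cancel_left, div_mul_cancel₀ _ hne, div_self hu, one_smul]; abel
      by_cases hne : f (act g x) (x - act g x) = 0
      · -- first turn `g x` by a scalar
        obtain ⟨b, hb⟩ := exists_moved hU.ne_refl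
        have hb0 : b ≠ 0 := by rintro rfl; exact hb (map_zero σ)
        obtain ⟨l, hl⟩ : ∃ l, l = σ b / b := ⟨_, rfl⟩
        have hσb : σ b ≠ 0 := (map_ne_zero σ).2 hb0
        have hl1 : l * σ l = 1 := by rw [hl, map_div₀, hU.involutive]; field_simp
        have hyy : f (act g x) (act g x) = f x x := mem_uiso.1 hg x x
        obtain ⟨d, hd, hdl⟩ := exists_qref hU (x := act g x) (by rw [hyy]; exact hxx) hl1
        have hdW : ∀ w ∈ W, act d w = w := fun w hw => by
          rw [hdl, eq_zero_symm hU (hperp g hg hfix w hw)]; simp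
        have hdg : act (d * g) x = l • act g x := by
          rw [act_mul, hdl, mul_div_assoc, div_self (by rw [hyy]; exact hxx), mul_one, sub_smul, one_smul]
          abel
        have h2 : P (d * g) := by
          refine step _ (mul_mem hd hg) (fun w hw => by rw [act_mul, hfix w hw, hdW w hw]) ?_
          rw [hdg, sub_right hU, smul_left hU, smul_left hU, smul_right hU, hyy, ← mul_assoc, hl1, one_mul]
          rw [sub_right hU, hyy, sub_eq_zero] at hne
          rw [hne, show l * f x x - f x x = (l - 1) * f x x by ring]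
          exact mul_ne_zero (fun h => hb (by
            rw [sub_eq_zero, hl, div_eq_one_iff_eq hb0] at h; exact h)) hxx
        have := hPmul _ _ (hPinv _ (hPqref d _ l hd (by rw [hyy]; exact hxx) hl1 hdl)) h2
        rwa [inv_mul_cancel_left] at this
      · exact step g hg hfix hne
  rintro g ⟨hg, hdet⟩
  obtain ⟨h, hh, d, -, l, -, hdl, rfl⟩ := main _ ⊥ g (Nat.le_add_left _ _)
    (by rw [bot_sup_eq, eq_top_iff]; intro v _ w hw; rw [(Submodule.mem_bot F).1 hw]; exact zero_right hU v)
    hg (fun w hw => by simp [(Submodule.mem_bot F).1 hw])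
  have hdet' : ((h * d : GL ι F) : Matrix ι ι F).det = 1 := by
    have := congrArg Units.val (MonoidHom.mem_ker.1 hdet)
    simpa using this
  rw [Units.val_mul, Matrix.det_mul, hdet1 h hh, one_mul, det_qref hU hx₀ hdl] at hdet'
  have : d = 1 := gl_ext fun z => by rw [hdl, hdet', act_one]; simp
  rw [this, mul_one]
  exact hN hh

/-- The case of dimension at least six. -/
theorem su_le_of_utv (hn : 6 ≤ Fintype.card ι) (M : Subgroup (GL ι F))
    (hM : ∀ u c, f u u = 0 → c + σ c = 0 → utv hU u c ∈ M) :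
    uiso f ⊓ Cfsg.Geo.specialLinear ι F ≤ M :=
  su_le_of_utv_four hU (by omega) M hM

omit hU in
/-- the standard form is unitary -/
theorem hermForm_isUnitary (n q : ℕ) (hF : Fintype.card F = q ^ 2) :
    ∃ τ : F ≃+* F, (∀ x, τ x = x ^ q) ∧ Cfsg.Geo.IsUnitaryForm τ (Cfsg.hermForm n F q) := by
  classical
  obtain ⟨p, hp⟩ := CharP.exists F
  obtain ⟨k, hpp, hk⟩ := FiniteField.card F p
  haveI := Fact.mk hpp
  have hqdvd : q ∣ p ^ (k : ℕ) := by rw [← hk, hF]; exact dvd_pow_self q two_ne_zero
  obtain ⟨j, -, hj⟩ := (Nat.dvd_prime_pow hpp).1 hqdvd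
  have hq2 : 2 ≤ q := by
    have := Fintype.one_lt_card (α := F)
    rw [hF] at this
    by_contra h
    push Not at h
    interval_cases q <;> simp at this
  have hinv : ∀ a : F, (a ^ q) ^ q = a := fun a => by
    rw [← pow_mul, ← pow_two, ← hF, FiniteField.pow_card]
  let τ : F ≃+* F :=
    { toFun := fun a => a ^ q
      invFun := fun a => a ^ q
      left_inv := hinv
      right_inv := hinv
      map_mul' := fun a b => mul_pow a b q
      map_add' := fun a b => by rw [hj]; exact add_pow_char_pow a b p j }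
  refine ⟨τ, fun _ => rfl, ?_, hinv, fun x y v => ?_, fun c x v => ?_, fun v w => ?_, fun v hv => ?_⟩
  · intro h
    have hall : ∀ a : F, (Polynomial.X ^ q - Polynomial.X : Polynomial F).IsRoot a := fun a => by
      have : a ^ q = a := RingEquiv.congr_fun h a
      simp [this]
    have hne : (Polynomial.X ^ q - Polynomial.X : Polynomial F) ≠ 0 :=
      FiniteField.X_pow_card_sub_X_ne_zero F (by omega)
    have h1 : Finset.univ ⊆ (Polynomial.X ^ q - Polynomial.X : Polynomial F).roots.toFinset := fun a _ => by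
      rw [Multiset.mem_toFinset, Polynomial.mem_roots hne]; exact hall a
    have h2 := (Finset.card_le_card h1).trans (Multiset.toFinset_card_le _)
    have h3 := Polynomial.card_roots' (Polynomial.X ^ q - Polynomial.X : Polynomial F)
    rw [FiniteField.X_pow_card_sub_X_natDegree_eq F (by omega)] at h3
    rw [Finset.card_univ, hF] at h2
    nlinarith
  · simp [Cfsg.hermForm, add_mul, Finset.sum_add_distrib]
  · simp [Cfsg.hermForm, Finset.mul_sum, mul_assoc]
  · simp only [Cfsg.hermForm, map_sum, map_mul]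
    refine Finset.sum_congr rfl fun i _ => ?_
    change v i * w i ^ q = w i ^ q * (v i ^ q) ^ q
    rw [hinv, mul_comm]
  · obtain ⟨j', hj'⟩ := Function.ne_iff.1 hv
    constructor
    · refine ⟨Pi.single j' 1, ?_⟩
      simp only [Cfsg.hermForm, Pi.single_apply, ite_mul, one_mul, zero_mul, Finset.sum_ite_eq',
        Finset.mem_univ, if_true]
      exact pow_ne_zero _ hj'
    · refine ⟨Pi.single j' 1, ?_⟩
      simp only [Cfsg.hermForm, Pi.single_apply, ite_pow, one_pow, zero_pow (show q ≠ 0 by omega),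
        mul_ite, mul_one, mul_zero, Finset.sum_ite_eq', Finset.mem_univ, if_true]
      exact hj'

end Cfsg.Agent.MaxCl.Unit
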