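/-
Root groups of unitary transvections and non-degenerate subspaces.
-/
import Mathlib
import Cfsg.Prelude.Def_GeometricClasses
import Cfsg.Agent.Lib.MaxCl.SympStab
import Cfsg.Agent.Lib.MaxCl.UnitaryGen

set_option autoImplicit false

namespace Cfsg.Agent.MaxCl.Unit

open scoped MatrixGroups Matrix

variable {ι : Type} [Fintype ι] [DecidableEq ι] {F : Type*} [Field F]
variable {σ : F ≃+* F} {f : (ι → F) → (ι → F) → F}
variable (hU : Cfsg.Geo.IsUnitaryForm σ f)
include hU

/-- `u` is isotropic and `M` contains its root group -/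
def RootIn (hU : Cfsg.Geo.IsUnitaryForm σ f) (M : Subgroup (GL ι F)) (u : ι → F) : Prop :=
  f u u = 0 ∧ ∀ c, c + σ c = 0 → utv hU u c ∈ M

theorem utv_smul {u : ι → F} (hu : f u u = 0) (a c : F) :
    utv hU (a • u) c = utv hU u (a * σ a * c) := by
  apply gl_ext; intro x
  rw [act_utv hU (by rw [smul_left hU, smul_right hU, hu, mul_zero, mul_zero]), act_utv hU hu,
    smul_right hU, smul_smul]
  congr 2; ring

theorem rootIn_smul {M : Subgroup (GL ι F)} {u : ι → F} (h : RootIn hU M u) (a : F) :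
    RootIn hU M (a • u) := by
  refine ⟨by rw [smul_left hU, smul_right hU, h.1, mul_zero, mul_zero], fun c hc => ?_⟩
  rw [utv_smul hU h.1]
  refine h.2 _ ?_
  rw [map_mul, map_mul, hU.involutive, mul_comm (σ a) a, ← mul_add, hc, mul_zero]

theorem rootIn_conj {M : Subgroup (GL ι F)} {g : GL ι F} (hg : g ∈ M) (hgf : g ∈ uiso f) {u : ι → F}
    (h : RootIn hU M u) : RootIn hU M (act g u) := by
  refine ⟨by rw [mem_uiso.1 hgf]; exact h.1, fun c hc => ?_⟩
  rw [← conj_utv hU hgf h.1]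
  exact M.mul_mem (M.mul_mem hg (h.2 c hc)) (M.inv_mem hg)

theorem rootIn_add {M : Subgroup (GL ι F)} {u v : ι → F} (hu : RootIn hU M u) (hv : RootIn hU M v)
    {c : F} (hc : c + σ c = 0) : RootIn hU M (v + (c * f v u) • u) := by
  have := rootIn_conj hU (hu.2 c hc) (utv_mem hU hu.1 hc) hv
  rwa [act_utv hU hu.1] at this

/-- moving a vector along an isotropic difference -/
theorem rootIn_step {M : Subgroup (GL ι F)} {v v' : ι → F} (hd : RootIn hU M (v' - v)) (hv : RootIn hU M v)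
    (hne : f v (v' - v) ≠ 0) (hnorm : f v' v' = f v v) : RootIn hU M v' := by
  obtain ⟨c, hc, he⟩ := exists_utv_move hU hnorm hd.1 hne
  exact he ▸ rootIn_conj hU (hd.2 c hc) (utv_mem hU hd.1 hc) hv

theorem le_uperp_uperp (W : Submodule F (ι → F)) : W ≤ uperp hU (uperp hU W) :=
  fun w hw p hp => eq_zero_symm hU (hp w hw)

theorem map_uperp {g : GL ι F} (hg : g ∈ uiso f) (W : Submodule F (ι → F)) :
    (uperp hU W).map (act g) = uperp hU (W.map (act g)) := by
  ext v
  constructor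
  · rintro ⟨p, hp, rfl⟩ _ ⟨w, hw, rfl⟩
    rw [mem_uiso.1 hg]; exact hp w hw
  · intro hv
    refine ⟨act g⁻¹ v, fun w hw => ?_, act_act_inv g v⟩
    rw [← mem_uiso.1 hg, act_act_inv]
    exact hv _ ⟨w, hw, rfl⟩

variable [Fintype F]

theorem finrank_uperp (W : Submodule F (ι → F)) :
    Module.finrank F (uperp hU W) + Module.finrank F W = Fintype.card ι := by
  refine le_antisymm ?_ (finrank_uperp_ge hU W)
  -- `x ↦ f x ·` on `W` is onto, by counting the kernel the other way round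
  let b := Module.finBasis F W
  let Φ : (ι → F) →ₗ[F] (Fin (Module.finrank F W) → F) := LinearMap.pi fun i => flinU hU (b i : ι → F)
  have hle : uperp hU W ≤ LinearMap.ker Φ := fun v hv =>
    LinearMap.mem_ker.2 (funext fun i => hv _ (b i).2)
  have hsurj : LinearMap.range Φ = ⊤ := by
    rw [LinearMap.range_eq_top]
    intro y
    obtain ⟨φ, hφ⟩ : ∃ φ : (ι → F) →ₗ[F] F, ∀ i, φ (b i : ι → F) = σ (y i) := by
      obtain ⟨φ, hφ⟩ := (b.constr F fun i => σ (y i)).exists_extend
      refine ⟨φ, fun i => ?_⟩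
      have := LinearMap.congr_fun hφ (b i)
      simpa using this
    obtain ⟨z, hz⟩ := exists_repr hU φ
    refine ⟨z, funext fun i => ?_⟩
    change f z (b i : ι → F) = y i
    rw [← herm' hU, ← hz, hφ, hU.involutive]
  have h2 := LinearMap.finrank_range_add_finrank_ker Φ
  rw [hsurj, finrank_top, Module.finrank_fin_fun, Module.finrank_pi] at h2
  have := Submodule.finrank_mono hle
  omega

theorem uperp_uperp (W : Submodule F (ι → F)) : uperp hU (uperp hU W) = W := by
  refine (Submodule.eq_of_le_of_finrank_eq (le_uperp_uperp hU W) ?_).symm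
  have h1 := finrank_uperp hU W
  have h2 := finrank_uperp hU (uperp hU W)
  omega

omit [Fintype F] in
theorem inf_uperp_of_nondegenerate {W : Submodule F (ι → F)} (hW : Cfsg.Geo.IsNondegenerateOn f W)
    {x : ι → F} (hx : x ∈ W) (hx' : x ∈ uperp hU W) : x = 0 := by
  by_contra h
  obtain ⟨y, hy, hxy⟩ := (hW x hx h).2
  exact hxy (hx' y hy)

theorem exists_decomp {W : Submodule F (ι → F)} (hW : Cfsg.Geo.IsNondegenerateOn f W) (v : ι → F) :
    ∃ a ∈ W, ∃ b ∈ uperp hU W, a + b = v := by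
  refine Submodule.mem_sup.1 ?_
  have : W ⊔ uperp hU W = ⊤ := by
    apply Submodule.eq_top_of_finrank_eq
    have h := Submodule.finrank_sup_add_finrank_inf_eq W (uperp hU W)
    have hinf : W ⊓ uperp hU W = ⊥ :=
      (Submodule.eq_bot_iff _).2 fun x hx => inf_uperp_of_nondegenerate hU hW hx.1 hx.2
    rw [hinf, finrank_bot] at h
    have h1 := finrank_uperp hU W
    rw [Module.finrank_pi]
    omega
  rw [this]; trivial

theorem uperp_nondegenerate {W : Submodule F (ι → F)} (hW : Cfsg.Geo.IsNondegenerateOn f W) :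
    Cfsg.Geo.IsNondegenerateOn f (uperp hU W) := by
  intro w hw hw0
  obtain ⟨x, hx⟩ := (hU.nondegenerate w hw0).1
  obtain ⟨p, hp, r, hr, rfl⟩ := exists_decomp hU hW x
  rw [add_left hU, eq_zero_symm hU (hw p hp), zero_add] at hx
  exact ⟨⟨r, hr, hx⟩, ⟨r, hr, ne_symm hU hx⟩⟩

/-- representing functionals inside a non-degenerate subspace -/
theorem exists_repr_in {Y : Submodule F (ι → F)} (hY : Cfsg.Geo.IsNondegenerateOn f Y)
    (φ : (ι → F) →ₗ[F] F) : ∃ z ∈ Y, ∀ y ∈ Y, φ y = f y z := by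
  obtain ⟨z, hz⟩ := exists_repr hU φ
  obtain ⟨a, ha, b, hb, rfl⟩ := exists_decomp hU hY z
  exact ⟨a, ha, fun y hy => by rw [hz, add_right hU, eq_zero_symm hU (hb y hy), add_zero]⟩

theorem exists_vector_two {Y : Submodule F (ι → F)} (hY : Cfsg.Geo.IsNondegenerateOn f Y)
    (hd : 6 ≤ Module.finrank F Y) {b b' : ι → F} (hb : b ∈ Y) (hb' : b' ∈ Y) (hb0 : b ≠ 0)
    (hind : b' ∉ F ∙ b) (α β N : F) (hN : σ N = N) :
    ∃ z ∈ Y, f z z = N ∧ f z b = α ∧ f z b' = β := by
  classical
  set P := Submodule.span F ({b, b'} : Set (ι → F)) with hP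
  have hPdim : Module.finrank F P ≤ 2 := by
    refine (finrank_span_le_card ({b, b'} : Set (ι → F))).trans ?_
    simp only [Set.toFinset_insert, Set.toFinset_singleton]
    exact Finset.card_le_two
  have hX : Module.finrank F Y ≤ Module.finrank F ↥(Y ⊓ uperp hU P) + 2 := by
    have h := Submodule.finrank_sup_add_finrank_inf_eq Y (uperp hU P)
    have h1 := finrank_uperp hU P
    have h2 := Submodule.finrank_le (Y ⊔ uperp hU P)
    rw [Module.finrank_pi] at h2
    omega
  obtain ⟨p, hp, hpP⟩ := SetLike.not_le_iff_exists.1 (show ¬ Y ⊓ uperp hU P ≤ P by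
    intro h; have := Submodule.finrank_mono h; omega)
  obtain ⟨r, hr, hrP⟩ := SetLike.not_le_iff_exists.1 (show ¬ Y ⊓ uperp hU P ≤ P ⊔ F ∙ p by
    intro h; have := Submodule.finrank_mono h
    rw [Submodule.finrank_sup_span_singleton hpP] at this; omega)
  obtain ⟨s, t, hst, hiso⟩ := exists_isotropic_pair hU p r
  obtain ⟨w, hwdef⟩ : ∃ w, w = s • p + t • r := ⟨_, rfl⟩
  rw [← hwdef] at hiso
  have hwX : w ∈ Y ⊓ uperp hU P := hwdef ▸ add_mem (Submodule.smul_mem _ _ hp) (Submodule.smul_mem _ _ hr)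
  have hwP : w ∉ P := by
    intro h
    rcases eq_or_ne t 0 with rfl | ht
    · rw [hwdef, zero_smul, add_zero] at h
      exact hpP ((P.smul_mem_iff (hst.resolve_right (by simp))).1 h)
    · apply hrP
      refine (Submodule.smul_mem_iff _ ht).1 ?_
      rw [show t • r = w - s • p by rw [hwdef]; abel]
      exact Submodule.sub_mem _ (Submodule.mem_sup_left h)
        (Submodule.mem_sup_right (Submodule.smul_mem _ _ (Submodule.mem_span_singleton_self p)))
  have hbP : b ∈ P := Submodule.subset_span (Set.mem_insert b _)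
  have hb'P : b' ∈ P := Submodule.subset_span (Set.mem_insert_of_mem b rfl)
  obtain ⟨φ₁, h10, h11⟩ := exists_dual P hwP
  obtain ⟨φ₂, h20, h21⟩ := exists_dual (F ∙ b ⊔ F ∙ w) (show b' ∉ F ∙ b ⊔ F ∙ w by
    intro h
    obtain ⟨x, hx, y, hy, e⟩ := Submodule.mem_sup.1 h
    obtain ⟨k, rfl⟩ := Submodule.mem_span_singleton.1 hy
    rcases eq_or_ne k 0 with rfl | hk
    · exact hind (by rw [← e, zero_smul, add_zero]; exact hx)
    · refine hwP ((P.smul_mem_iff hk).1 ?_)
      rw [show k • w = b' - x by rw [← e]; abel]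
      exact P.sub_mem hb'P ((Submodule.span_singleton_le_iff_mem _ _).2 hbP hx))
  obtain ⟨φ₃, h30, h31⟩ := exists_dual (F ∙ b' ⊔ F ∙ w) (show b ∉ F ∙ b' ⊔ F ∙ w by
    intro h
    obtain ⟨x, hx, y, hy, e⟩ := Submodule.mem_sup.1 h
    obtain ⟨k, rfl⟩ := Submodule.mem_span_singleton.1 hy
    rcases eq_or_ne k 0 with rfl | hk
    · obtain ⟨j, rfl⟩ := Submodule.mem_span_singleton.1 hx
      rw [zero_smul, add_zero] at e
      rcases eq_or_ne j 0 with rfl | hj
      · exact hb0 (by rw [← e, zero_smul])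
      · exact hind (Submodule.mem_span_singleton.2 ⟨j⁻¹, by rw [← e, inv_smul_smul₀ hj]⟩)
    · refine hwP ((P.smul_mem_iff hk).1 ?_)
      rw [show k • w = b - x by rw [← e]; abel]
      exact P.sub_mem hbP ((Submodule.span_singleton_le_iff_mem _ _).2 hb'P hx))
  obtain ⟨z, hz, hzφ⟩ := exists_repr_in hU hY (φ₁ + σ α • φ₃ + σ β • φ₂)
  have hz1 : f z w = 1 := by
    rw [← herm' hU, ← hzφ w hwX.1]
    simp [h11, h20 w (Submodule.mem_sup_right (Submodule.mem_span_singleton_self w)),
      h30 w (Submodule.mem_sup_right (Submodule.mem_span_singleton_self w))]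
  have hz2 : f z b = α := by
    rw [← herm' hU, ← hzφ b hb]
    simp [h10 b hbP, h20 b (Submodule.mem_sup_left (Submodule.mem_span_singleton_self b)), h31,
      hU.involutive]
  have hz3 : f z b' = β := by
    rw [← herm' hU, ← hzφ b' hb']
    simp [h10 b' hb'P, h30 b' (Submodule.mem_sup_left (Submodule.mem_span_singleton_self b')), h21,
      hU.involutive]
  obtain ⟨e, he⟩ := exists_trace hU.involutive hU.ne_refl (N - f z z) (by rw [map_sub, hN, herm' hU])
  refine ⟨z + e • w, Y.add_mem hz (Y.smul_mem _ hwX.1), ?_, ?_, ?_⟩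
  · simp only [add_left hU, add_right hU, smul_left hU, smul_right hU, hiso, hz1, ← herm' hU z w, map_one]
    linear_combination he
  · rw [add_left hU, smul_left hU, hwX.2 b hbP, mul_zero, add_zero, hz2]
  · rw [add_left hU, smul_left hU, hwX.2 b' hb'P, mul_zero, add_zero, hz3]

theorem exists_vector_one {Y : Submodule F (ι → F)} (hY : Cfsg.Geo.IsNondegenerateOn f Y)
    (hd : 6 ≤ Module.finrank F Y) {b : ι → F} (hb : b ∈ Y) (hb0 : b ≠ 0) (α N : F) (hN : σ N = N) :
    ∃ z ∈ Y, z ∉ F ∙ b ∧ f z z = N ∧ f z b = α := by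
  obtain ⟨b', hb', hind⟩ : ∃ b' ∈ Y, f b b' = 0 ∧ b' ∉ F ∙ b := by
    obtain ⟨x, hx, hxb⟩ := SetLike.not_le_iff_exists.1 (show ¬ Y ⊓ LinearMap.ker (flinU hU b) ≤ F ∙ b by
      intro h
      have h1 := Submodule.finrank_mono h
      rw [finrank_span_singleton hb0] at h1
      have h2 := Submodule.finrank_sup_add_finrank_inf_eq Y (LinearMap.ker (flinU hU b))
      have h3 := LinearMap.finrank_range_add_finrank_ker (flinU hU b)
      have h4 := Submodule.finrank_le (LinearMap.range (flinU hU b))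
      have h5 := Submodule.finrank_le (Y ⊔ LinearMap.ker (flinU hU b))
      rw [Module.finrank_self] at h4
      omega)
    exact ⟨x, hx.1, eq_zero_symm hU (LinearMap.mem_ker.1 hx.2), hxb⟩
  obtain ⟨hbb', hind⟩ := hind
  obtain ⟨z, hz, h1, h2, h3⟩ := exists_vector_two hU hY hd hb hb' hb0 hind α 1 N hN
  refine ⟨z, hz, fun h => ?_, h1, h2⟩
  obtain ⟨k, rfl⟩ := Submodule.mem_span_singleton.1 h
  rw [smul_left hU, hbb', mul_zero] at h3
  exact zero_ne_one h3

/-- changing the component inside a subspace whose isotropic vectors carry root groups of `M` -/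
theorem rootIn_move_in {M : Subgroup (GL ι F)} {Y : Submodule F (ι → F)}
    (hY : Cfsg.Geo.IsNondegenerateOn f Y) (hd : 6 ≤ Module.finrank F Y)
    (hYM : ∀ u ∈ Y, f u u = 0 → RootIn hU M u) {a b b' : ι → F} (ha : a ∈ uperp hU Y)
    (hb : b ∈ Y) (hb0 : b ≠ 0) (hb' : b' ∈ Y) (hb'0 : b' ≠ 0) (hn : f b' b' = f b b)
    (h : RootIn hU M (a + b)) : RootIn hU M (a + b') := by
  obtain ⟨s, hs0, hs⟩ := exists_skew hU.ne_refl hU.involutive
  have hN : σ (f b b) = f b b := herm' hU b b
  have step : ∀ p q, p ∈ Y → q ∈ Y → f q q = f p p → f (q - p) (q - p) = 0 → f p (q - p) ≠ 0 →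
      RootIn hU M (a + p) → RootIn hU M (a + q) := by
    intro p q hp hq hpq hiso hne hp'
    refine rootIn_step hU (v := a + p) ?_ hp' ?_ ?_
    · rw [add_sub_add_left_eq_sub]; exact hYM _ (Y.sub_mem hq hp) hiso
    · rw [add_sub_add_left_eq_sub, add_left hU, ha _ (Y.sub_mem hq hp), zero_add]; exact hne
    · rw [add_left hU, add_left hU, add_right hU, add_right hU, add_right hU, add_right hU, ha p hp, ha q hq,
        eq_zero_symm hU (ha p hp), eq_zero_symm hU (ha q hq), hpq]
  have two : ∀ p q, p ∈ Y → p ≠ 0 → q ∈ Y → q ∉ F ∙ p → f q q = f p p → f p p = f b b →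
      RootIn hU M (a + p) → RootIn hU M (a + q) := by
    intro p q hp hp0 hq hqp hpq hpb hp'
    obtain ⟨z, hz, hzz, hzp, hzq⟩ := exists_vector_two hU hY hd hp hq hp0 hqp (f b b + s) (f b b + s) _ hN
    have hσs : σ s = -s := eq_neg_of_add_eq_zero_right hs
    have hpz : f p z = f b b - s := by rw [← herm' hU, hzp, map_add, hN, hσs]; ring
    have hqz : f q z = f b b - s := by rw [← herm' hU, hzq, map_add, hN, hσs]; ring
    refine step z q hz hq (by rw [hzz, hpq, hpb]) ?_ ?_ (step p z hp hz (by rw [hzz, hpb]) ?_ ?_ hp')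
    · simp only [sub_left hU, sub_right hU, hzz, hzq, hqz, hpq, hpb]; ring
    · rw [sub_right hU, hzq, hzz, add_sub_cancel_left]; exact hs0
    · simp only [sub_left hU, sub_right hU, hzz, hzp, hpz, hpb]; ring
    · rw [sub_right hU, hpz, hpb, sub_sub_cancel_left]; exact neg_ne_zero.2 hs0
  obtain ⟨r, hr, hrb, hrr, -⟩ := exists_vector_one hU hY hd hb hb0 0 _ hN
  by_cases hdep : b' ∈ F ∙ b
  · have hr0 : r ≠ 0 := fun h => hrb (h ▸ Submodule.zero_mem _)
    refine two r b' hr hr0 hb' (fun h' => ?_) (by rw [hn, hrr]) hrr (two b r hb hb0 hr hrb hrr rfl h)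
    obtain ⟨k, rfl⟩ := Submodule.mem_span_singleton.1 h'
    have hk : k ≠ 0 := by rintro rfl; simp at hb'0
    exact hrb ((Submodule.smul_mem_iff _ hk).1 hdep)
  · exact two b b' hb hb0 hb' hdep hn rfl h

end Cfsg.Agent.MaxCl.Unit
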