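/-
Functions of bounded degree on a torus of norm one scalars: a function of small degree cannot be concentrated
on few points, which gives zeros of hermitian expressions.
-/
import Mathlib
import Cfsg.Agent.Lib.MaxCl.UnitaryGen

set_option autoImplicit false

namespace Cfsg.Agent.MaxCl.Unit

open Finset

variable {F : Type*} [Field F]

noncomputable scoped instance torusFintype (q : ℕ) : Fintype (rootsOfUnity (q + 1) F) := Fintype.ofFinite _

/-- `σ` is the `q`-th power map of a field of order `q ^ 2`. -/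
structure QSq [Fintype F] (σ : F ≃+* F) (q : ℕ) : Prop where
  card : Fintype.card F = q ^ 2
  apply_eq : ∀ a : F, σ a = a ^ q

namespace QSq

variable [Fintype F] {σ : F ≃+* F} {q : ℕ} (hq : QSq σ q)
include hq

theorem two_le : 2 ≤ q := by
  have h := Fintype.one_lt_card (α := F)
  rw [hq.card] at h
  by_contra hc
  interval_cases q <;> simp at h

theorem cast_q : (q : F) = 0 := by
  have h := FiniteField.cast_card_eq_zero F
  rw [hq.card, Nat.cast_pow] at h
  exact pow_eq_zero_iff two_ne_zero |>.1 h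

theorem cast_succ : ((q + 1 : ℕ) : F) = 1 := by push_cast; rw [hq.cast_q, zero_add]

theorem exists_primitive : ∃ z : F, IsPrimitiveRoot z (q + 1) := by
  obtain ⟨g, hg⟩ := IsCyclic.exists_ofOrder_eq_natCard (α := Fˣ)
  rw [Nat.card_units, Nat.card_eq_fintype_card, hq.card] at hg
  have h1 : IsPrimitiveRoot (g : F) (q ^ 2 - 1) := by
    rw [← hg, ← orderOf_units]; exact IsPrimitiveRoot.orderOf _
  refine ⟨(g : F) ^ (q - 1), h1.pow ?_ ?_⟩
  · have := hq.two_le; have : q < q ^ 2 := by nlinarith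
    omega
  · rw [mul_comm, ← Nat.sq_sub_sq, one_pow]

theorem norm_one_iff {z : F} : z * σ z = 1 ↔ z ^ (q + 1) = 1 := by rw [hq.apply_eq, ← pow_succ']

theorem card_roots : Fintype.card (rootsOfUnity (q + 1) F) = q + 1 := by
  obtain ⟨z, hz⟩ := hq.exists_primitive
  rw [Fintype.card_eq_nat_card]
  exact hz.card_rootsOfUnity

omit hq in
theorem coe_norm {z : rootsOfUnity (q + 1) F} : ((z : Fˣ) : F) ^ (q + 1) = 1 := by
  rw [← Units.val_pow_eq_pow_val, z.2, Units.val_one]

theorem sigma_coe (z : rootsOfUnity (q + 1) F) : σ ((z : Fˣ) : F) = (((z⁻¹ : rootsOfUnity (q + 1) F) : Fˣ) : F) := by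
  rw [Subgroup.coe_inv, Units.val_inv_eq_inv_val]
  exact eq_inv_of_mul_eq_one_right (hq.norm_one_iff.2 coe_norm)

/-- A nonzero norm has `(q - 1)`-th power one. -/
theorem norm_pow {S : F} (hS : S ≠ 0) : (S * σ S) ^ (q - 1) = 1 := by
  rw [hq.apply_eq, ← pow_succ', ← pow_mul, ← FiniteField.pow_card_sub_one_eq_one S hS, hq.card,
    ← Nat.sq_sub_sq, one_pow]

/-- the indicator of a zero -/
theorem delta_eq (S : F) [Decidable (S = 0)] : 1 - (S * σ S) ^ (q - 1) = if S = 0 then 1 else 0 := by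
  split_ifs with h
  · rw [h, zero_mul, zero_pow (by have := hq.two_le; omega), sub_zero]
  · rw [hq.norm_pow h, sub_self]

theorem sum_zpow (m : ℤ) :
    ∑ z : rootsOfUnity (q + 1) F, (((z ^ m : rootsOfUnity (q + 1) F) : Fˣ) : F) =
      if ((q + 1 : ℕ) : ℤ) ∣ m then 1 else 0 := by
  obtain ⟨z₀, hz₀⟩ := hq.exists_primitive
  obtain ⟨u, hu⟩ := hz₀.isUnit (by omega)
  have hu' : IsPrimitiveRoot u (q + 1) := IsPrimitiveRoot.coe_units_iff.1 (hu ▸ hz₀)
  split_ifs with h
  · rw [Finset.sum_eq_card_nsmul (b := (1 : F)) fun z _ => ?_, card_univ, hq.card_roots, nsmul_one, hq.cast_succ]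
    obtain ⟨c, rfl⟩ := h
    have : z ^ (q + 1) = 1 := Subtype.ext z.2
    rw [zpow_mul, zpow_natCast, this, one_zpow]; simp
  · obtain ⟨w, hw⟩ : ∃ w : rootsOfUnity (q + 1) F, (w : Fˣ) = u :=
      ⟨⟨u, (mem_rootsOfUnity _ _).2 hu'.pow_eq_one⟩, rfl⟩
    have hne : (((w ^ m : rootsOfUnity (q + 1) F) : Fˣ) : F) ≠ 1 := by
      rw [Ne, Units.val_eq_one, Subgroup.coe_zpow, hw, hu'.zpow_eq_one_iff_dvd]
      exact h
    by_contra hS
    apply hne
    refine (mul_eq_right₀ hS).1 ?_
    rw [mul_sum]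
    refine Fintype.sum_equiv (Equiv.mulLeft w) _ _ fun z => ?_
    simp [mul_zpow]

end QSq

section Deg

variable (F) in
/-- the torus of norm one scalars -/
abbrev Tor (q : ℕ) (κ : Type) := κ → rootsOfUnity (q + 1) F

variable {q : ℕ} {κ : Type} [Fintype κ]

/-- the character with exponents `d` -/
noncomputable def mon (d : κ → ℤ) (ζ : Tor F q κ) : F :=
  (((∏ k, ζ k ^ d k : rootsOfUnity (q + 1) F) : Fˣ) : F)

theorem mon_add (d e : κ → ℤ) (ζ : Tor F q κ) : mon (d + e) ζ = mon d ζ * mon e ζ := by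
  simp [mon, zpow_add, prod_mul_distrib]

theorem mon_zero (ζ : Tor F q κ) : mon 0 ζ = 1 := by simp [mon]

variable (F q κ) in
/-- functions spanned by characters of total exponent at most `N` -/
def Deg (N : ℕ) : Submodule F (Tor F q κ → F) :=
  Submodule.span F (mon '' {d | ∑ k, (d k).natAbs ≤ N})

theorem deg_mon {N : ℕ} {d : κ → ℤ} (h : ∑ k, (d k).natAbs ≤ N) : mon d ∈ Deg F q κ N :=
  Submodule.subset_span ⟨d, h, rfl⟩

theorem deg_mono {N N' : ℕ} (h : N ≤ N') : Deg F q κ N ≤ Deg F q κ N' :=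
  Submodule.span_mono (Set.image_mono fun _ hd => le_trans hd h)

theorem deg_const {N : ℕ} (c : F) : (fun _ => c) ∈ Deg F q κ N := by
  have := (Deg F q κ N).smul_mem c (deg_mon (d := (0 : κ → ℤ)) (by simp))
  convert this using 1
  funext ζ; simp [mon_zero]

theorem deg_coord (k : κ) : (fun ζ : Tor F q κ => ((ζ k : Fˣ) : F)) ∈ Deg F q κ 1 := by
  classical
  have h := deg_mon (F := F) (q := q) (d := Pi.single k (1 : ℤ)) (N := 1) (by
    rw [sum_eq_single k (fun j _ hj => by simp [hj]) (by simp)]; simp)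
  convert h using 1
  funext ζ
  simp only [mon]
  rw [prod_eq_single k (fun j _ hj => by simp [hj]) (by simp)]
  simp

theorem deg_linear (a : κ → F) : (fun ζ : Tor F q κ => ∑ k, a k * ((ζ k : Fˣ) : F)) ∈ Deg F q κ 1 := by
  convert Submodule.sum_mem (Deg F q κ 1) (t := univ) fun k _ => Submodule.smul_mem _ (a k) (deg_coord k) using 1
  funext ζ; simp

theorem deg_mul {N M : ℕ} {f g : Tor F q κ → F} (hf : f ∈ Deg F q κ N) (hg : g ∈ Deg F q κ M) :
    f * g ∈ Deg F q κ (N + M) := by
  induction hf using Submodule.span_induction with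
  | mem f hf =>
    obtain ⟨d, hd, rfl⟩ := hf
    induction hg using Submodule.span_induction with
    | mem g hg =>
      obtain ⟨e, he, rfl⟩ := hg
      rw [show mon d * mon e = (mon (d + e) : Tor F q κ → F) from funext fun ζ => (mon_add d e ζ).symm]
      refine deg_mon ((sum_le_sum fun k _ => Int.natAbs_add_le (d k) (e k)).trans ?_)
      rw [sum_add_distrib]; exact add_le_add hd he
    | zero => rw [mul_zero]; exact zero_mem _
    | add x y _ _ hx hy => rw [mul_add]; exact add_mem hx hy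
    | smul c x _ hx => rw [mul_smul_comm]; exact Submodule.smul_mem _ c hx
  | zero => rw [zero_mul]; exact zero_mem _
  | add x y _ _ hx hy => rw [add_mul]; exact add_mem hx hy
  | smul c x _ hx => rw [smul_mul_assoc]; exact Submodule.smul_mem _ c hx

theorem deg_pow {N : ℕ} {f : Tor F q κ → F} (hf : f ∈ Deg F q κ N) : ∀ m, f ^ m ∈ Deg F q κ (m * N)
  | 0 => by rw [pow_zero]; exact deg_const 1
  | m + 1 => by rw [pow_succ, add_mul, one_mul]; exact deg_mul (deg_pow hf m) hf

variable [Fintype F] {σ : F ≃+* F} (hq : QSq σ q)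
include hq

theorem deg_conj {N : ℕ} {f : Tor F q κ → F} (hf : f ∈ Deg F q κ N) :
    (fun ζ => σ (f ζ)) ∈ Deg F q κ N := by
  induction hf using Submodule.span_induction with
  | mem f hf =>
    obtain ⟨d, hd, rfl⟩ := hf
    have := deg_mon (F := F) (q := q) (d := -d) (N := N) (by simpa using hd)
    convert this using 1
    funext ζ
    simp only [mon, hq.sigma_coe, Pi.neg_apply, zpow_neg, prod_inv_distrib]
  | zero => simpa using deg_const (F := F) (q := q) (κ := κ) (N := N) (0 : F)
  | add x y _ _ hx hy => convert add_mem hx hy using 1; funext ζ; simp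
  | smul c x _ hx =>
    convert Submodule.smul_mem _ (σ c) hx using 1
    funext ζ; simp

theorem deg_norm_pow {N : ℕ} {f : Tor F q κ → F} (hf : f ∈ Deg F q κ N) :
    (fun ζ => (f ζ * σ (f ζ)) ^ (q - 1)) ∈ Deg F q κ ((q - 1) * (N + N)) :=
  deg_pow (deg_mul hf (deg_conj hq hf)) _

/-- A function of degree `N` is orthogonal to the characters that no exponent of size `N` reaches. -/
theorem sum_deg_eq_zero [DecidableEq κ] {N : ℕ} {f : Tor F q κ → F} (hf : f ∈ Deg F q κ N) (e : κ → ℤ)
    (he : ∀ d : κ → ℤ, (∀ k, ((q + 1 : ℕ) : ℤ) ∣ d k - e k) → N < ∑ k, (d k).natAbs) :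
    ∑ ζ : Tor F q κ, f ζ * mon (-e) ζ = 0 := by
  classical
  induction hf using Submodule.span_induction with
  | mem f hf =>
    obtain ⟨d, hd, rfl⟩ := hf
    simp_rw [← mon_add]
    simp only [mon, SubmonoidClass.coe_finsetProd, Units.coe_prod]
    rw [← Fintype.prod_sum (fun k (z : rootsOfUnity (q + 1) F) =>
      (((z ^ (d + -e) k : rootsOfUnity (q + 1) F) : Fˣ) : F))]
    obtain ⟨k, hk⟩ : ∃ k, ¬ ((q + 1 : ℕ) : ℤ) ∣ d k - e k := by
      by_contra hall; push Not at hall
      exact absurd (he d hall) (not_lt.2 hd)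
    refine prod_eq_zero (mem_univ k) ?_
    rw [hq.sum_zpow, if_neg]
    simpa [sub_eq_add_neg] using hk
  | zero => simp
  | add x y _ _ hx hy => simp [add_mul, sum_add_distrib, hx, hy]
  | smul c x _ hx => simp [mul_assoc, ← mul_sum, hx]

end Deg

end Cfsg.Agent.MaxCl.Unit
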