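/-
Zeros of linear forms on tori of norm one scalars, and additive spans of such scalars.
-/
import Mathlib
import Cfsg.Agent.Lib.MaxCl.UnitaryTorusPoly

set_option autoImplicit false

namespace Cfsg.Agent.MaxCl.Unit

open Finset

variable {F : Type*} [Field F] [Fintype F] {σ : F ≃+* F} {q : ℕ}

theorem natAbs_ge_half {Q h d : ℤ} (hh : 2 * h ≤ Q) (hd : Q ∣ d - h) : h ≤ |d| := by
  obtain ⟨c, hc⟩ := hd
  rcases le_or_gt 0 h with h0 | h0
  · rcases lt_trichotomy c 0 with c0 | c0 | c0
    · have : Q * c ≤ -Q := by nlinarith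
      have := neg_le_abs d; linarith
    · subst c0; have := le_abs_self d; linarith
    · have : 0 ≤ Q * c := mul_nonneg (by linarith) c0.le
      have := le_abs_self d; linarith
  · exact h0.le.trans (abs_nonneg d)

/-- exponents whose residues differ by `h` are not both small -/
theorem natAbs_pair {Q h : ℕ} {c d d' : ℤ} (hh : 2 * h ≤ Q) (hd : (Q : ℤ) ∣ d - c) (hd' : (Q : ℤ) ∣ d' - (c + h)) :
    h ≤ d.natAbs + d'.natAbs := by
  have h1 : (h : ℤ) ≤ |d' - d| := natAbs_ge_half (Q := (Q : ℤ)) (by omega) (by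
    have := dvd_sub hd' hd
    rwa [show d' - d - (h : ℤ) = d' - (c + h) - (d - c) by ring])
  have h2 := abs_sub d' d
  rw [Int.abs_eq_natAbs d', Int.abs_eq_natAbs d] at h2
  omega

variable {κ : Type} [Fintype κ]

theorem mon_scalar (e : κ → ℤ) (z : rootsOfUnity (q + 1) F) :
    mon e (fun _ : κ => z) = (((z ^ (∑ k, e k) : rootsOfUnity (q + 1) F) : Fˣ) : F) := by
  classical
  simp only [mon]
  congr 2
  refine Finset.induction_on (univ : Finset κ) (by simp) fun a s ha ih => ?_
  rw [prod_insert ha, sum_insert ha, zpow_add, ih]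

theorem sum_const_tor [DecidableEq κ] [Nonempty κ] (P : Tor F q κ → F)
    [DecidablePred fun ζ : Tor F q κ => ∃ z, ζ = fun _ => z] (hP : ∀ ζ, (¬ ∃ z, ζ = fun _ => z) → P ζ = 0) :
    ∑ ζ, P ζ = ∑ z : rootsOfUnity (q + 1) F, P fun _ => z := by
  refine (Finset.sum_of_injOn (fun z => fun _ => z) (fun a _ b _ h => congrFun h (Classical.arbitrary κ))
    (fun z _ => mem_univ _) (fun ζ _ hζ => hP ζ fun ⟨z, hz⟩ => hζ ⟨z, mem_univ _, hz.symm⟩) fun z _ => rfl).symm

theorem two_mul_half (q : ℕ) : q ≤ 2 * ((q + 1) / 2) ∧ 2 * ((q + 1) / 2) ≤ q + 1 := ⟨by omega, by omega⟩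

variable (hq : QSq σ q)
include hq

/-- four weighted norm one scalars may keep their sum -/
theorem exists_same_sum (hκ : 4 ≤ Fintype.card κ) (A : κ → F) :
    ∃ ζ : κ → F, (∀ k, ζ k * σ (ζ k) = 1) ∧ (∃ k, ζ k ≠ 1) ∧ ∑ k, A k * (ζ k - 1) = 0 := by
  classical
  by_contra hno
  push Not at hno
  obtain ⟨h1, h2⟩ := two_mul_half q
  set h := (q + 1) / 2
  let S : Tor F q κ → F := fun ζ => ∑ k, A k * ((ζ k : Fˣ) : F) + (-∑ k, A k)
  have hS : S ∈ Deg F q κ 1 := add_mem (deg_linear A) (deg_const _)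
  have hP : (fun ζ => 1 - (S ζ * σ (S ζ)) ^ (q - 1)) ∈ Deg F q κ ((q - 1) * (1 + 1)) :=
    sub_mem (deg_const 1) (deg_norm_pow hq hS)
  have h0 := sum_deg_eq_zero hq hP (fun _ => (h : ℤ)) fun d hd => by
    have hk : ∀ k, h ≤ (d k).natAbs := fun k => by
      have := natAbs_ge_half (Q := ((q + 1 : ℕ) : ℤ)) (by omega) (hd k)
      rw [Int.abs_eq_natAbs] at this
      exact_mod_cast this
    have := card_nsmul_le_sum univ (fun k => (d k).natAbs) h fun k _ => hk k
    rw [card_univ, smul_eq_mul] at this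
    have := Nat.mul_le_mul_right h hκ
    have := hq.two_le
    omega
  rw [Fintype.sum_eq_single 1 fun ζ hζ => ?_] at h0
  · rw [hq.delta_eq, if_pos (by simp [S])] at h0
    simp [mon] at h0
  · rw [hq.delta_eq, if_neg, zero_mul]
    intro hS0
    obtain ⟨k, hk⟩ := Function.ne_iff.1 hζ
    refine hno (fun k => ((ζ k : Fˣ) : F)) (fun k => hq.norm_one_iff.2 QSq.coe_norm)
      ⟨k, fun e => hk (Subtype.ext (Units.ext e))⟩ ?_
    simp only [S] at hS0
    rw [← hS0, ← sub_eq_add_neg, ← sum_sub_distrib]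
    exact sum_congr rfl fun _ _ => by ring

/-- a product one torus element killing one form and not another, not a scalar -/
theorem exists_zero_one (hκ : 9 ≤ Fintype.card κ) (a b : κ → F) (ha : ∑ k, a k = 1) (hb : ∑ k, b k = 0) :
    ∃ ζ : κ → F, (∀ k, ζ k * σ (ζ k) = 1) ∧ ∏ k, ζ k = 1 ∧ (∃ k l, ζ k ≠ ζ l) ∧
      ∑ k, b k * ζ k = 0 ∧ ∑ k, a k * ζ k ≠ 0 := by
  classical
  by_contra hno
  push Not at hno
  have : Nonempty κ := Fintype.card_pos_iff.1 (by omega)
  obtain ⟨h1, h2⟩ := two_mul_half q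
  set h := (q + 1) / 2
  let Sa : Tor F q κ → F := fun ζ => ∑ k, a k * ((ζ k : Fˣ) : F)
  let Sb : Tor F q κ → F := fun ζ => ∑ k, b k * ((ζ k : Fˣ) : F)
  obtain ⟨P, hPdef⟩ : ∃ P : Tor F q κ → F, P = fun ζ => (1 - (Sb ζ * σ (Sb ζ)) ^ (q - 1)) * Sa ζ := ⟨_, rfl⟩
  have hP : P ∈ Deg F q κ ((q - 1) * (1 + 1) + 1) := by
    rw [hPdef]
    exact deg_mul (sub_mem (deg_const 1) (deg_norm_pow hq (deg_linear b))) (deg_linear a)
  obtain ⟨emb⟩ : Nonempty (Fin 9 ↪ κ) := Function.Embedding.nonempty_of_card_le (by simpa using hκ)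
  let e₀ : Fin 9 → ℤ := ![0, h, 0, h, 0, h, 0, h, 1 - 4 * h]
  let e : κ → ℤ := Function.extend emb e₀ 0
  have hee : ∀ i, e (emb i) = e₀ i := fun i => emb.injective.extend_apply _ _ i
  have hsum : ∑ k, e k = 1 := by
    rw [← Finset.sum_of_injOn (s := univ) (f := e₀) (g := e) emb emb.injective.injOn (fun i _ => mem_univ _)
      (fun k _ hk => Function.extend_apply' _ _ _ fun ⟨i, hi⟩ => hk ⟨i, mem_univ _, hi⟩) (fun i _ => (hee i).symm)]
    simp [e₀, Fin.sum_univ_succ]; ring
  have hc : ∀ c : ℤ, ∑ ζ, P ζ * mon (-(fun k => e k - c)) ζ = 0 := fun c =>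
    sum_deg_eq_zero hq hP _ fun d hd => by
      have pair : ∀ i j, e₀ i = 0 → e₀ j = h → h ≤ (d (emb i)).natAbs + (d (emb j)).natAbs := fun i j hi hj =>
        natAbs_pair (Q := q + 1) (c := -c) h2 (by simpa [hee, hi] using hd (emb i))
          (by simpa [hee, hj, neg_add_eq_sub] using hd (emb j))
      have hle : ∑ i, (d (emb i)).natAbs ≤ ∑ k, (d k).natAbs := by
        rw [← Finset.sum_map univ emb fun k => (d k).natAbs]
        exact sum_le_sum_of_subset (subset_univ _)
      simp only [Fin.sum_univ_succ, Fin.sum_univ_zero] at hle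
      have p1 := pair 0 1 rfl rfl
      have p2 := pair 2 3 rfl rfl
      have p3 := pair 4 5 rfl rfl
      have p4 := pair 6 7 rfl rfl
      simp only [Fin.reduceSucc] at hle
      have := hq.two_le
      omega
  -- the indicator of product one
  have hind : ∀ ζ : Tor F q κ, ∑ c ∈ range (q + 1), mon (-(fun k => e k - (c : ℤ))) ζ =
      if ∏ k, ζ k = 1 then mon (-e) ζ else 0 := by
    intro ζ
    have hm : ∀ c : ℕ, mon (-(fun k => e k - (c : ℤ))) ζ =
        mon (-e) ζ * (((∏ k, ζ k : rootsOfUnity (q + 1) F) : Fˣ) : F) ^ c := by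
      intro c
      rw [show (-(fun k => e k - (c : ℤ))) = -e + (fun _ => (c : ℤ)) by funext k; simp; ring, mon_add]
      congr 1
      simp [mon, zpow_natCast, prod_pow]
    simp_rw [hm, ← mul_sum]
    set π := ∏ k, ζ k
    split_ifs with hπ
    · rw [hπ]; simp only [OneMemClass.coe_one, Units.val_one, one_pow, sum_const, card_range, nsmul_one]
      rw [hq.cast_succ, mul_one]
    · rw [geom_sum_eq fun e1 => hπ (Subtype.ext (Units.ext e1)), QSq.coe_norm, sub_self, zero_div, mul_zero]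
  have h0 : ∑ ζ, P ζ * (if ∏ k, ζ k = 1 then mon (-e) ζ else 0) = 0 := by
    simp_rw [← hind, mul_sum]
    rw [sum_comm]
    exact sum_eq_zero fun c _ => hc c
  rw [sum_const_tor _ fun ζ hζ => ?_] at h0
  swap
  · rw [hPdef]
    split_ifs with hπ
    · dsimp only
      rw [hq.delta_eq]
      split_ifs with hS
      · rw [one_mul, mul_eq_zero]
        left
        refine hno (fun k => ((ζ k : Fˣ) : F)) (fun k => hq.norm_one_iff.2 QSq.coe_norm) ?_ ?_ hS
        · simpa [SubmonoidClass.coe_finsetProd, Units.coe_prod] using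
            congrArg (fun z : rootsOfUnity (q + 1) F => ((z : Fˣ) : F)) hπ
        · by_contra hall
          push Not at hall
          exact hζ ⟨ζ (Classical.arbitrary κ), funext fun k => Subtype.ext (Units.ext (hall k _))⟩
      · simp
    · rw [mul_zero]
  rw [hPdef] at h0
  simp only [Sa, Sb, ← sum_mul, ha, hb, zero_mul, map_zero, zero_pow (show q - 1 ≠ 0 by have := hq.two_le; omega),
    sub_zero, one_mul, prod_const,
    mon_scalar, Pi.neg_apply, sum_neg_distrib, hsum, zpow_neg, zpow_one, card_univ] at h0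
  have hterm : ∀ z : rootsOfUnity (q + 1) F, ((z : Fˣ) : F) * (if z ^ Fintype.card κ = 1 then
      (((z⁻¹ : rootsOfUnity (q + 1) F) : Fˣ) : F) else 0) = if z ^ Fintype.card κ = 1 then 1 else 0 := by
    intro z
    split_ifs
    · rw [Subgroup.coe_inv, ← Units.val_mul, mul_inv_cancel, Units.val_one]
    · rw [mul_zero]
  simp only [hterm, sum_boole] at h0
  let K : Subgroup (rootsOfUnity (q + 1) F) := (powMonoidHom (Fintype.card κ)).ker
  have hK : #(univ.filter fun z : rootsOfUnity (q + 1) F => z ^ Fintype.card κ = 1) = Nat.card K := by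
    rw [Nat.card_eq_fintype_card, ← Fintype.card_subtype]; exact Fintype.card_congr (Equiv.refl _)
  obtain ⟨m, hm⟩ := Subgroup.card_subgroup_dvd_card K
  rw [Nat.card_eq_fintype_card (α := rootsOfUnity (q + 1) F), hq.card_roots] at hm
  have h1' := hq.cast_succ
  rw [hm, Nat.cast_mul, ← hK, h0, zero_mul] at h1'
  exact zero_ne_one h1'

/-- a torus element killing one form and exactly one of two others, not a scalar -/
theorem exists_zero_two (hκ : 9 ≤ Fintype.card κ) (a b c : κ → F) (ha : ∑ k, a k = 1) (hb : ∑ k, b k = 0)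
    (hc : ∑ k, c k = 0) :
    ∃ ζ : κ → F, (∀ k, ζ k * σ (ζ k) = 1) ∧ (∃ k l, ζ k ≠ ζ l) ∧ ∑ k, b k * ζ k = 0 ∧
      ((∑ k, a k * ζ k ≠ 0 ∧ ∑ k, c k * ζ k = 0) ∨ (∑ k, a k * ζ k = 0 ∧ ∑ k, c k * ζ k ≠ 0)) := by
  classical
  by_contra hno
  push Not at hno
  have : Nonempty κ := Fintype.card_pos_iff.1 (by omega)
  obtain ⟨h1, h2⟩ := two_mul_half q
  set h := (q + 1) / 2
  let Sa : Tor F q κ → F := fun ζ => ∑ k, a k * ((ζ k : Fˣ) : F)
  let Sb : Tor F q κ → F := fun ζ => ∑ k, b k * ((ζ k : Fˣ) : F)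
  let Sc : Tor F q κ → F := fun ζ => ∑ k, c k * ((ζ k : Fˣ) : F)
  obtain ⟨P, hPdef⟩ : ∃ P : Tor F q κ → F, P = fun ζ => (1 - (Sb ζ * σ (Sb ζ)) ^ (q - 1)) *
      ((Sa ζ * σ (Sa ζ)) ^ (q - 1) - (Sc ζ * σ (Sc ζ)) ^ (q - 1)) := ⟨_, rfl⟩
  have hP : P ∈ Deg F q κ ((q - 1) * (1 + 1) + (q - 1) * (1 + 1)) := by
    rw [hPdef]
    exact deg_mul (sub_mem (deg_const 1) (deg_norm_pow hq (deg_linear b)))
      (sub_mem (deg_norm_pow hq (deg_linear a)) (deg_norm_pow hq (deg_linear c)))
  let r := Classical.arbitrary κ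
  let e : κ → ℤ := Function.update (fun _ => (h : ℤ)) r (-((Fintype.card κ - 1 : ℕ) : ℤ) * h)
  have hsum : ∑ k, e k = 0 := by
    rw [← add_sum_erase _ _ (mem_univ r), show e r = _ from Function.update_self ..,
      sum_congr rfl fun k hk => Function.update_of_ne (ne_of_mem_erase hk) _ _, sum_const,
      card_erase_of_mem (mem_univ r), card_univ, nsmul_eq_mul]
    ring
  have h0 := sum_deg_eq_zero hq hP e fun d hd => by
    have hk : ∀ k ∈ univ.erase r, h ≤ (d k).natAbs := fun k hk => by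
      have := hd k
      rw [show e k = h from Function.update_of_ne (ne_of_mem_erase hk) _ _] at this
      have := natAbs_ge_half (Q := ((q + 1 : ℕ) : ℤ)) (by omega) this
      rw [Int.abs_eq_natAbs] at this
      exact_mod_cast this
    have h3 := (card_nsmul_le_sum _ (fun k => (d k).natAbs) h hk).trans (sum_le_sum_of_subset (subset_univ _))
    rw [card_erase_of_mem (mem_univ r), card_univ, smul_eq_mul] at h3
    have := Nat.mul_le_mul_right h (show 8 ≤ Fintype.card κ - 1 by omega)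
    have := hq.two_le
    omega
  rw [sum_const_tor _ fun ζ hζ => ?_] at h0
  swap
  · rw [hPdef]
    dsimp only
    rw [hq.delta_eq]
    split_ifs with hS
    · have hnot : ∃ k l, ((ζ k : Fˣ) : F) ≠ ((ζ l : Fˣ) : F) := by
        by_contra hall
        push Not at hall
        exact hζ ⟨ζ r, funext fun k => Subtype.ext (Units.ext (hall k r))⟩
      obtain ⟨hA, hC⟩ := hno (fun k => ((ζ k : Fˣ) : F)) (fun k => hq.norm_one_iff.2 QSq.coe_norm) hnot hS
      by_cases hA0 : Sa ζ = 0
      · have hC0 : Sc ζ = 0 := hC hA0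
        rw [hA0, hC0, sub_self, mul_zero, zero_mul]
      · rw [hq.norm_pow hA0, hq.norm_pow (hA hA0), sub_self, mul_zero, zero_mul]
    · simp
  rw [hPdef] at h0
  have hpos : q - 1 ≠ 0 := by have := hq.two_le; omega
  have hterm : ∀ z : rootsOfUnity (q + 1) F, (((z : Fˣ) : F) * σ ((z : Fˣ) : F)) ^ (q - 1) = 1 :=
    fun z => hq.norm_pow (Units.ne_zero _)
  simp only [Sa, Sb, Sc, ← sum_mul, ha, hb, hc, zero_mul, zero_pow hpos, sub_zero, one_mul, hterm,
    mon_scalar, Pi.neg_apply, sum_neg_distrib, hsum, neg_zero, zpow_zero, OneMemClass.coe_one, Units.val_one,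
    sum_const, card_univ, hq.card_roots, nsmul_one, hq.cast_succ] at h0
  exact one_ne_zero h0

theorem exists_root_ne : ∃ z : F, z * σ z = 1 ∧ z ≠ 1 ∧ z ^ 2 ≠ 1 ∧ σ z ≠ z ∧ (q ≠ 2 → z ^ 3 ≠ 1) := by
  obtain ⟨z, hz⟩ := hq.exists_primitive
  have h2 := hq.two_le
  have hne : ∀ m, 0 < m → m < q + 1 → z ^ m ≠ 1 := fun m hm hlt => hz.pow_ne_one_of_pos_of_lt (by omega) hlt
  have h1 : z * σ z = 1 := hq.norm_one_iff.2 hz.pow_eq_one
  refine ⟨z, h1, by simpa using hne 1 one_pos (by omega), hne 2 two_pos (by omega), fun e => hne 2 two_pos (by omega) ?_,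
    fun h => hne 3 (by omega) (by omega)⟩
  rw [sq]; rwa [e] at h1

/-- an additive group stable under norm one scalars is trivial or everything -/
theorem addSubgroup_eq_top {S : AddSubgroup F} {a : F} (ha : a ∈ S) (ha0 : a ≠ 0)
    (hS : ∀ z, z * σ z = 1 → ∀ x ∈ S, z * x ∈ S) (b : F) : b ∈ S := by
  classical
  let μ : Submonoid F :=
    { carrier := {z | z * σ z = 1}
      one_mem' := by simp
      mul_mem' := fun {x y} hx hy => by
        simp only [Set.mem_ofPred_eq] at *
        rw [map_mul, mul_mul_mul_comm, hx, hy, one_mul] }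
  let R : Subring F := Subring.closure μ
  have hmem : ∀ x ∈ R, x * a ∈ S := by
    intro x hx
    rw [Subring.mem_closure_iff, Submonoid.closure_eq] at hx
    induction hx using AddSubgroup.closure_induction with
    | mem z hz => exact hS z hz a ha
    | zero => rw [zero_mul]; exact S.zero_mem
    | add x y _ _ hx hy => rw [add_mul]; exact S.add_mem hx hy
    | neg x _ hx => rw [neg_mul]; exact S.neg_mem hx
  let K : Subfield F :=
    { R with
      inv_mem' := fun x hx => by
        rcases eq_or_ne x 0 with rfl | h0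
        · rw [inv_zero]; exact R.zero_mem
        · have h1 := FiniteField.pow_card_sub_one_eq_one x h0
          have hc := Fintype.one_lt_card (α := F)
          rw [show x⁻¹ = x ^ (Fintype.card F - 2) from (eq_inv_of_mul_eq_one_left (by
            rw [← pow_succ, show Fintype.card F - 2 + 1 = Fintype.card F - 1 by omega, h1])).symm]
          exact R.pow_mem hx _ }
  have hK : K = ⊤ := by
    by_contra hne
    have hinj : Function.Injective (Option.elim' (0 : K) fun z : rootsOfUnity (q + 1) F =>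
        (⟨((z : Fˣ) : F), Subring.subset_closure (hq.norm_one_iff.2 QSq.coe_norm)⟩ : K)) := by
      rintro (_ | x) (_ | y) e
      · rfl
      · exact absurd (congrArg Subtype.val e).symm (Units.ne_zero _)
      · exact absurd (congrArg Subtype.val e) (Units.ne_zero _)
      · exact congrArg some (Subtype.ext (Units.ext (congrArg Subtype.val e)))
    have hcard := Fintype.card_le_of_injective _ hinj
    rw [Fintype.card_option, hq.card_roots] at hcard
    have hdim := Module.card_eq_pow_finrank (K := K) (V := F)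
    have hfr : 2 ≤ Module.finrank K F := by
      by_contra hlt
      have hpos : 0 < Module.finrank K F := Module.finrank_pos
      have : Module.finrank K F = 1 := by omega
      apply hne
      rw [eq_top_iff]
      intro x _
      obtain ⟨c, hc⟩ := (finrank_eq_one_iff_of_nonzero' (1 : F) one_ne_zero).1 this x
      rw [← hc]
      show (c : F) * 1 ∈ K
      rw [mul_one]; exact c.2
    have : Fintype.card K ^ 2 ≤ Fintype.card F := by
      rw [hdim]; exact Nat.pow_le_pow_right Fintype.card_pos hfr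
    rw [hq.card] at this
    have := Nat.pow_le_pow_left hcard 2
    nlinarith
  have hb : b / a ∈ K := hK ▸ trivial
  have := hmem _ hb
  rwa [div_mul_cancel₀ _ ha0] at this

end Cfsg.Agent.MaxCl.Unit
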