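/-
The standard hermitian form in coordinates and its monomial isometries.
-/
import Mathlib
import Cfsg.Agent.Lib.MaxCl.UnitaryTorusZero
import Cfsg.Agent.Lib.MaxCl.UnitaryStab
import Cfsg.Agent.Lib.MaxCl.LinearMonomialMax

set_option autoImplicit false

namespace Cfsg.Agent.MaxCl.Unit

open scoped MatrixGroups Matrix

variable {ι : Type} [Fintype ι] [DecidableEq ι] {F : Type*} [Field F]

/-- the standard hermitian form -/
def herm (σ : F ≃+* F) (x y : ι → F) : F := ∑ i, x i * σ (y i)

/-- the support of a vector -/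
noncomputable def supp (x : ι → F) : Finset ι := by classical exact Finset.univ.filter fun i => x i ≠ 0

omit [DecidableEq ι] in
@[simp] theorem mem_supp {x : ι → F} {i : ι} : i ∈ supp x ↔ x i ≠ 0 := by classical simp [supp]

variable {β : Type}

/-- `g` permutes the blocks of coordinates given by `blk` -/
def Perms (blk : ι → β) (g : GL ι F) : Prop :=
  ∃ π : Equiv.Perm β, ∀ j i, act g (Pi.single j 1) i ≠ 0 → blk i = π (blk j)

/-- the determinant one isometries of the standard form -/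
abbrev SUc (σ : F ≃+* F) : Subgroup (GL ι F) := uiso (herm (ι := ι) σ) ⊓ Cfsg.Geo.specialLinear ι F

/-- the standing hypotheses: the standard form over a field of order `q ^ 2`, and an overgroup of a stabiliser -/
structure Ctx [Fintype F] (σ : F ≃+* F) (q : ℕ) (blk : ι → β) (M : Subgroup (GL ι F)) : Prop where
  hn : 6 ≤ Fintype.card ι
  hq : QSq σ q
  hU : Cfsg.Geo.IsUnitaryForm σ (herm (ι := ι) σ)
  le : M ≤ SUc σ
  stab_le : ∀ g ∈ SUc (ι := ι) σ, Perms blk g → g ∈ M

namespace Ctx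

variable [Fintype F] {σ : F ≃+* F} {q : ℕ} {blk : ι → β} {M : Subgroup (GL ι F)} (C : Ctx σ q blk M)
include C

theorem iso {g : GL ι F} (hg : g ∈ M) : g ∈ uiso (herm (ι := ι) σ) := (C.le hg).1

theorem herm_single_right (x : ι → F) (i : ι) : herm σ x (Pi.single i 1) = x i := by
  rw [herm, Finset.sum_eq_single i (fun j _ hj => by simp [hj]) (by simp)]
  simp

theorem herm_single_left (x : ι → F) (i : ι) : herm σ (Pi.single i 1) x = σ (x i) := by
  rw [herm, Finset.sum_eq_single i (fun j _ hj => by simp [hj]) (by simp)]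
  simp

theorem sigma_sigma (a : F) : σ (σ a) = a := C.hU.involutive a

theorem norm_fixed (a : F) : σ (a * σ a) = a * σ a := by rw [map_mul, C.sigma_sigma, mul_comm]

theorem norm_ne_zero {a : F} (ha : a ≠ 0) : a * σ a ≠ 0 := mul_ne_zero ha ((map_ne_zero σ).2 ha)

theorem norm_one_ne_zero {a : F} (ha : a * σ a = 1) : a ≠ 0 := left_ne_zero_of_mul (ha.symm ▸ one_ne_zero)

/-- comparing two hermitian values that differ only at two coordinates -/
theorem herm_pair {x y x' y' : ι → F} {i j : ι} (hij : i ≠ j) (hx : ∀ k, k ≠ i → k ≠ j → x k = x' k)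
    (hy : ∀ k, k ≠ i → k ≠ j → y k = y' k) :
    herm σ x y - (x i * σ (y i) + x j * σ (y j)) = herm σ x' y' - (x' i * σ (y' i) + x' j * σ (y' j)) := by
  simp only [herm]
  rw [← Finset.sum_pair (f := fun k => x k * σ (y k)) hij, ← Finset.sum_pair (f := fun k => x' k * σ (y' k)) hij,
    ← Finset.sum_compl_add_sum {i, j}, ← Finset.sum_compl_add_sum (f := fun k => x' k * σ (y' k)) {i, j},
    add_sub_cancel_right, add_sub_cancel_right]
  refine Finset.sum_congr rfl fun k hk => ?_
  simp only [Finset.mem_compl, Finset.mem_insert, Finset.mem_singleton, not_or] at hk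
  rw [hx k hk.1 hk.2, hy k hk.1 hk.2]

theorem herm_supp {x y : ι → F} (S : Finset ι) (hy : ∀ k ∉ S, y k = 0) :
    herm σ x y = ∑ k ∈ S, x k * σ (y k) :=
  (Finset.sum_subset (Finset.subset_univ S) fun k _ hk => by rw [hy k hk, map_zero, mul_zero]).symm

theorem herm_two {x y : ι → F} {i j : ι} (hij : i ≠ j) (hy : ∀ k, k ≠ i → k ≠ j → y k = 0) :
    herm σ x y = x i * σ (y i) + x j * σ (y j) := by
  rw [C.herm_supp {i, j} fun k hk => by
    simp only [Finset.mem_insert, Finset.mem_singleton, not_or] at hk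
    exact hy k hk.1 hk.2, Finset.sum_pair hij]

/-- a monomial isometry -/
theorem exists_mono (π : Equiv.Perm ι) (d : ι → F) (hd : ∀ j, d j * σ (d j) = 1) :
    ∃ g ∈ uiso (herm (ι := ι) σ), (∀ j, act g (Pi.single j 1) = d j • Pi.single (π j) 1) ∧
      (∀ x j, act g x (π j) = d j * x j) ∧
      (g : Matrix ι ι F).det = ((Equiv.Perm.sign π : ℤ) : F) * ∏ j, d j := by
  obtain ⟨g, hg, -, hdet⟩ := Monom.exists_pm π d fun j => C.norm_one_ne_zero (hd j)
  refine ⟨g, mem_uiso.2 fun x y => ?_, hg, fun x j => Monom.act_mono_coord hg x j, hdet⟩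
  rw [herm, herm, ← Equiv.sum_comp π]
  refine Finset.sum_congr rfl fun j _ => ?_
  rw [Monom.act_mono_coord hg, Monom.act_mono_coord hg, map_mul]
  linear_combination (x j * σ (y j)) * hd j

/-- a monomial element of `M` -/
theorem exists_mono_mem (π : Equiv.Perm ι) (d : ι → F) (hd : ∀ j, d j * σ (d j) = 1)
    (hb : ∃ π' : Equiv.Perm β, ∀ j, blk (π j) = π' (blk j))
    (hdet : ((Equiv.Perm.sign π : ℤ) : F) * ∏ j, d j = 1) :
    ∃ g ∈ M, (∀ j, act g (Pi.single j 1) = d j • Pi.single (π j) 1) ∧ ∀ x j, act g x (π j) = d j * x j := by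
  obtain ⟨g, hgf, hg, hx, hgd⟩ := C.exists_mono π d hd
  obtain ⟨π', hπ'⟩ := hb
  refine ⟨g, C.stab_le g ⟨hgf, Monom.mem_specialLinear_iff.2 (hgd.trans hdet)⟩ ⟨π', fun j i hi => ?_⟩, hg, hx⟩
  rw [hg] at hi
  rcases eq_or_ne i (π j) with rfl | h
  · exact hπ' j
  · simp [h] at hi

/-- a diagonal element of `M` -/
theorem exists_diag (d : ι → F) (hd : ∀ j, d j * σ (d j) = 1) (hdet : ∏ j, d j = 1) :
    ∃ h ∈ M, (∀ j, act h (Pi.single j 1) = d j • Pi.single j 1) ∧ ∀ x j, act h x j = d j * x j :=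
  C.exists_mono_mem 1 d hd ⟨1, fun _ => rfl⟩ (by simp [hdet])

/-- phases `a` and `σ a` at two coordinates -/
theorem exists_phase {i l : ι} (hil : i ≠ l) {a : F} (ha : a * σ a = 1) :
    ∃ h ∈ M, ∀ x j, act h x j = (if j = i then a else if j = l then σ a else 1) * x j := by
  obtain ⟨h, hh, -, hx⟩ := C.exists_diag (fun j => if j = i then a else if j = l then σ a else 1)
    (fun j => by
      split_ifs
      · exact ha
      · rw [C.sigma_sigma, mul_comm, ha]
      · simp)
    (by
      rw [Finset.prod_eq_mul i l hil (fun j _ hj => by simp [hj.1, hj.2]) (by simp) (by simp)]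
      simp [hil.symm, ha])
  exact ⟨h, hh, hx⟩

/-- a permutation of the coordinates with one compensating sign -/
theorem exists_perm (π : Equiv.Perm ι) (l : ι) (hb : ∃ π' : Equiv.Perm β, ∀ j, blk (π j) = π' (blk j)) :
    ∃ g ∈ M, ∃ s : F, s * σ s = 1 ∧ ∀ x j, act g x (π j) = (if j = l then s else 1) * x j := by
  obtain ⟨s, hs⟩ : ∃ s : F, s = ((Equiv.Perm.sign π : ℤ) : F) := ⟨_, rfl⟩
  have hs1 : s * s = 1 ∧ σ s = s := by
    rcases Int.units_eq_one_or (Equiv.Perm.sign π) with h | h <;> simp [hs, h]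
  obtain ⟨g, hg, -, hx⟩ := C.exists_mono_mem π (fun j => if j = l then s else 1) (fun j => by
      split_ifs
      · rw [hs1.2, hs1.1]
      · simp) hb (by
      rw [Finset.prod_eq_single l (fun j _ hj => by simp [hj]) (by simp)]
      simp [← hs, hs1.1])
  exact ⟨g, hg, s, by rw [hs1.2, hs1.1], hx⟩

/-- removing a common part: the difference of a vector of `S` and its image -/
theorem rootIn_cancel {v : ι → F} (hv : RootIn C.hU M v) {h : GL ι F} (hh : h ∈ M)
    (h0 : herm σ v (act h v) ≠ 0) (hs : herm σ v (act h v) + σ (herm σ v (act h v)) = 0) :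
    RootIn C.hU M (v - act h v) := by
  obtain ⟨r, hr⟩ : ∃ r, r = herm σ v (act h v) := ⟨_, rfl⟩
  rw [← hr] at h0 hs
  have := rootIn_add C.hU (rootIn_conj C.hU hh (C.iso hh) hv) hv (c := -r⁻¹) (by
    rw [map_neg, map_inv₀, eq_neg_of_add_eq_zero_right hs, inv_neg]; ring)
  rwa [← hr, neg_mul, inv_mul_cancel₀ h0, neg_one_smul, ← sub_eq_add_neg] at this

end Ctx

end Cfsg.Agent.MaxCl.Unit
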