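/-
Transvections of coordinate planes: transitivity on the vectors of a given plane norm, and redistribution of norms.
-/
import Mathlib
import Cfsg.Agent.Lib.MaxCl.UnitaryCoord

set_option autoImplicit false

namespace Cfsg.Agent.MaxCl.Unit

open scoped MatrixGroups Matrix

variable {ι : Type} [Fintype ι] [DecidableEq ι] {F : Type*} [Field F] [Fintype F] {β : Type}
variable {σ : F ≃+* F} {q : ℕ} {blk : ι → β} {M : Subgroup (GL ι F)}

/-- the root groups of the isotropic vectors of the plane `⟨e_i, e_j⟩` lie in `M` -/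
def PlaneIn (C : Ctx σ q blk M) (i j : ι) : Prop :=
  ∀ b : F, b * σ b = -1 → RootIn C.hU M (Pi.single i 1 + b • Pi.single j 1)

namespace Ctx

variable (C : Ctx σ q blk M)
include C

theorem plane_symm {i j : ι} (h : PlaneIn C i j) : PlaneIn C j i := by
  intro b hb
  have hb' : (-σ b) * σ (-σ b) = -1 := by rw [map_neg, C.sigma_sigma, neg_mul_neg, mul_comm, hb]
  have := rootIn_smul C.hU (h _ hb') b
  rwa [smul_add, smul_smul, show b * -σ b = 1 by rw [mul_neg, hb, neg_neg], one_smul, add_comm] at this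

theorem plane_vec {i j : ι} (hij : i ≠ j) (h : PlaneIn C i j) {d : ι → F} (hd : ∀ k, k ≠ i → k ≠ j → d k = 0)
    (hiso : d i * σ (d i) + d j * σ (d j) = 0) : RootIn C.hU M d := by
  rcases eq_or_ne (d i) 0 with h0 | h0
  · rw [h0, zero_mul, zero_add] at hiso
    have hj : d j = 0 := by
      rcases mul_eq_zero.1 hiso with e | e
      · exact e
      · exact (map_eq_zero σ).1 e
    have hd0 : d = 0 := funext fun k => by
      rcases eq_or_ne k i with rfl | hk
      · exact h0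
      rcases eq_or_ne k j with rfl | hk'
      · exact hj
      · exact hd k hk hk'
    obtain ⟨b, hb⟩ := exists_norm C.hU.involutive C.hU.ne_refl (-1) (by simp)
    have := rootIn_smul C.hU (h b hb) 0
    rwa [zero_smul, ← hd0] at this
  have := rootIn_smul C.hU (h (d j / d i) (by
    have := (map_ne_zero σ).2 h0
    rw [map_div₀]; field_simp; linear_combination hiso)) (d i)
  rwa [show d i • (Pi.single i 1 + (d j / d i) • Pi.single j 1 : ι → F) = d from ?_] at this
  funext k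
  rcases eq_or_ne k i with rfl | hk
  · simp [hij]
  rcases eq_or_ne k j with rfl | hk'
  · simp [hk]; field_simp
  · simp [hk, hk', hd k hk hk']

theorem plane_u (b : F) {i j : ι} (hij : i ≠ j) :
    (Pi.single i 1 + b • Pi.single j 1 : ι → F) i = 1 ∧ (Pi.single i 1 + b • Pi.single j 1 : ι → F) j = b ∧
      ∀ k, k ≠ i → k ≠ j → (Pi.single i 1 + b • Pi.single j 1 : ι → F) k = 0 :=
  ⟨by simp [hij], by simp [hij.symm], fun k hk hk' => by simp [hk, hk']⟩

/-- one transvection moves `v` along `u` -/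
theorem plane_shift {i j : ι} (h : PlaneIn C i j) {b : F} (hb : b * σ b = -1) (v : ι → F) {c : F}
    (hc : c + σ c = 0) : ∃ m ∈ M, act m v = v + (c * herm σ v (Pi.single i 1 + b • Pi.single j 1)) •
      (Pi.single i 1 + b • Pi.single j 1) :=
  ⟨_, (h b hb).2 c hc, act_utv C.hU (h b hb).1 c v⟩

/-- three roots kill a quadratic -/
theorem exists_three : ∃ b₁ b₂ b₃ : F, b₁ * σ b₁ = -1 ∧ b₂ * σ b₂ = -1 ∧ b₃ * σ b₃ = -1 ∧ b₁ ≠ b₂ ∧ b₁ ≠ b₃ ∧ b₂ ≠ b₃ := by
  obtain ⟨b, hb⟩ := exists_norm C.hU.involutive C.hU.ne_refl (-1) (by simp)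
  obtain ⟨z, hz, hz1, hz2, hzs, -⟩ := exists_root_ne C.hq
  have hb0 : b ≠ 0 := fun e => by simp [e] at hb
  refine ⟨b, b * z, b * σ z, hb, ?_, ?_, fun e => hz1 (mul_left_cancel₀ hb0 (by rw [← e, mul_one])),
    fun e => hz1 ?_, fun e => hzs (mul_left_cancel₀ hb0 e.symm)⟩
  · rw [map_mul, mul_mul_mul_comm, hb, hz, mul_one]
  · rw [map_mul, C.sigma_sigma, mul_mul_mul_comm, hb, mul_comm (σ z), hz, mul_one]
  · have : σ z = 1 := mul_left_cancel₀ hb0 (by rw [← e, mul_one])
    simpa [this] using hz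

omit C in
theorem quad_zero {r k s b₁ b₂ b₃ : F} (h12 : b₁ ≠ b₂) (h13 : b₁ ≠ b₃) (h23 : b₂ ≠ b₃)
    (e₁ : r * b₁ * b₁ + k * b₁ + s = 0) (e₂ : r * b₂ * b₂ + k * b₂ + s = 0)
    (e₃ : r * b₃ * b₃ + k * b₃ + s = 0) : r = 0 ∧ k = 0 := by
  have f₁ : r * (b₁ + b₂) + k = 0 :=
    mul_left_cancel₀ (sub_ne_zero.2 h12) (by linear_combination e₁ - e₂)
  have f₂ : r * (b₁ + b₃) + k = 0 :=
    mul_left_cancel₀ (sub_ne_zero.2 h13) (by linear_combination e₁ - e₃)
  have hr : r = 0 := mul_left_cancel₀ (sub_ne_zero.2 h23) (by linear_combination f₁ - f₂)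
  exact ⟨hr, by rw [hr, zero_mul, zero_add] at f₁; exact f₁⟩

/-- if every transvection pairing of `(x₁, x₂)` and `(y₁, y₂)` is fixed, they agree up to sign -/
theorem pair_sign {x₁ x₂ y₁ y₂ : F} (hS : x₁ * σ x₁ + x₂ * σ x₂ ≠ 0)
    (hyS : y₁ * σ y₁ + y₂ * σ y₂ = x₁ * σ x₁ + x₂ * σ x₂)
    (h : ∀ b : F, b * σ b = -1 → σ ((x₁ + x₂ * σ b) * (σ y₁ + b * σ y₂)) = (x₁ + x₂ * σ b) * (σ y₁ + b * σ y₂)) :
    (y₁ = x₁ ∧ y₂ = x₂) ∨ (y₁ = -x₁ ∧ y₂ = -x₂) := by
  obtain ⟨b₁, b₂, b₃, n₁, n₂, n₃, h12, h13, h23⟩ := C.exists_three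
  obtain ⟨r, hr⟩ : ∃ r, r = x₁ * σ y₂ - y₁ * σ x₂ := ⟨_, rfl⟩
  obtain ⟨k, hk⟩ : ∃ k, k = (x₁ * σ y₁ - x₂ * σ y₂) - (σ x₁ * y₁ - σ x₂ * y₂) := ⟨_, rfl⟩
  have quad : ∀ b : F, b * σ b = -1 → r * b * b + k * b + σ r = 0 := fun b hb => by
    have e := h b hb
    simp only [map_mul, map_add, C.sigma_sigma] at e
    rw [hk, hr, map_sub, map_mul, map_mul, C.sigma_sigma, C.sigma_sigma]
    linear_combination (-b) * e + (σ x₁ * y₂ - x₂ * σ y₁ + b * σ x₂ * y₂ - b * x₂ * σ y₂) * hb
  obtain ⟨hr0, hk0⟩ := quad_zero h12 h13 h23 (quad _ n₁) (quad _ n₂) (quad _ n₃)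
  rw [hr] at hr0; rw [hk] at hk0
  have hr' : σ x₁ * y₂ - σ y₁ * x₂ = 0 := by
    have := congrArg σ hr0
    rwa [map_sub, map_mul, map_mul, map_zero, C.sigma_sigma, C.sigma_sigma] at this
  obtain ⟨S, hS'⟩ : ∃ S, S = x₁ * σ x₁ + x₂ * σ x₂ := ⟨_, rfl⟩
  rw [← hS'] at hS hyS
  obtain ⟨A, hA⟩ : ∃ A, A = (σ x₁ * y₁ + x₂ * σ y₂) / S := ⟨_, rfl⟩
  have hSσ : σ S = S := by rw [hS', map_add, C.norm_fixed, C.norm_fixed]
  have hAσ : σ A = A := by
    rw [hA, map_div₀, hSσ]
    congr 1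
    rw [map_add, map_mul, map_mul, C.sigma_sigma, C.sigma_sigma]
    linear_combination hk0
  have e1 : y₁ = A * x₁ := by
    rw [hA, div_mul_eq_mul_div, eq_div_iff hS, hS']
    linear_combination (-x₂) * hr0
  have e2 : y₂ = A * x₂ := by
    rw [← hAσ, hA, map_div₀, hSσ, div_mul_eq_mul_div, eq_div_iff hS, hS', map_add, map_mul, map_mul,
      C.sigma_sigma, C.sigma_sigma]
    linear_combination x₁ * hr'
  have h3 := hyS
  rw [e1, e2, map_mul, map_mul, hAσ, hS'] at h3
  have hA2 : A * A = 1 := mul_right_cancel₀ hS (by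
    rw [one_mul, hS']
    linear_combination h3)
  rcases mul_self_eq_one_iff.1 hA2 with e | e
  · exact Or.inl ⟨by rw [e1, e, one_mul], by rw [e2, e, one_mul]⟩
  · exact Or.inr ⟨by rw [e1, e, neg_one_mul], by rw [e2, e, neg_one_mul]⟩

theorem pair_norm {i j : ι} (hij : i ≠ j) {v w : ι → F} (hout : ∀ k, k ≠ i → k ≠ j → v k = w k)
    (hn : v i * σ (v i) + v j * σ (v j) = w i * σ (w i) + w j * σ (w j)) : herm σ v v = herm σ w w := by
  have := C.herm_pair hij hout hout
  linear_combination this + hn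

/-- a single transvection between two vectors whose difference is isotropic -/
theorem plane_step {i j : ι} (hij : i ≠ j) (h : PlaneIn C i j) {v w : ι → F}
    (hout : ∀ k, k ≠ i → k ≠ j → v k = w k)
    (hS : v i * σ (v i) + v j * σ (v j) ≠ 0)
    (hn : v i * σ (v i) + v j * σ (v j) = w i * σ (w i) + w j * σ (w j))
    (hD : (w i - v i) * σ (w i - v i) + (w j - v j) * σ (w j - v j) = 0) :
    ∃ m ∈ M, act m v = w := by
  by_cases he : v = w
  · exact ⟨1, M.one_mem, by rw [he, act_one]⟩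
  have hd : RootIn C.hU M (w - v) := C.plane_vec hij h (fun k hk hk' => by simp [hout k hk hk']) hD
  have hne : herm σ v (w - v) ≠ 0 := by
    intro h0
    rw [C.herm_two hij fun k hk hk' => by simp [hout k hk hk']] at h0
    simp only [Pi.sub_apply] at h0
    have hdi : w i - v i ≠ 0 := fun e => by
      have hj : w j - v j = 0 := by
        rw [e, zero_mul, zero_add] at hD
        rcases mul_eq_zero.1 hD with e' | e'
        · exact e'
        · exact (map_eq_zero σ).1 e'
      refine he (funext fun k => ?_)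
      rcases eq_or_ne k i with rfl | hk
      · exact (sub_eq_zero.1 e).symm
      rcases eq_or_ne k j with rfl | hk'
      · exact (sub_eq_zero.1 hj).symm
      · exact hout k hk hk'
    have h0' := congrArg σ h0
    rw [map_add, map_mul, map_mul, C.sigma_sigma, C.sigma_sigma, map_zero] at h0'
    refine hS (mul_left_cancel₀ (C.norm_ne_zero hdi) ?_)
    rw [mul_zero]
    linear_combination (v j * σ (v j)) * hD + (σ (v i) * (w i - v i)) * h0 -
      (v j * σ (w j - v j)) * h0'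
  obtain ⟨c, hc, e⟩ := exists_utv_move C.hU (x := w) (y := v) (C.pair_norm hij hout hn).symm hd.1 hne
  exact ⟨_, hd.2 c hc, e⟩

/-- the group of a plane is transitive on vectors of one nonzero plane norm -/
theorem plane_move {i j : ι} (hij : i ≠ j) (h : PlaneIn C i j) {v w : ι → F}
    (hout : ∀ k, k ≠ i → k ≠ j → v k = w k)
    (hS : v i * σ (v i) + v j * σ (v j) ≠ 0)
    (hn : v i * σ (v i) + v j * σ (v j) = w i * σ (w i) + w j * σ (w j)) :
    ∃ m ∈ M, act m v = w := by
  -- two steps, unless the pairs agree up to sign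
  have two : ∀ v w : ι → F, (∀ k, k ≠ i → k ≠ j → v k = w k) → v i * σ (v i) + v j * σ (v j) ≠ 0 →
      v i * σ (v i) + v j * σ (v j) = w i * σ (w i) + w j * σ (w j) →
      ¬ (w i = -v i ∧ w j = -v j) → ∃ m ∈ M, act m v = w := by
    intro v w hout hS hn hneg
    by_cases hpos : w i = v i ∧ w j = v j
    · exact C.plane_step hij h hout hS hn (by rw [hpos.1, hpos.2]; simp)
    obtain ⟨b, hb, hP⟩ : ∃ b : F, b * σ b = -1 ∧
        σ ((v i + v j * σ b) * (σ (w i) + b * σ (w j))) ≠ (v i + v j * σ b) * (σ (w i) + b * σ (w j)) := by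
      by_contra hall
      push Not at hall
      rcases C.pair_sign hS hn.symm hall with e | e
      · exact hpos e
      · exact hneg e
    obtain ⟨P, hPdef⟩ : ∃ P, P = (v i + v j * σ b) * (σ (w i) + b * σ (w j)) := ⟨_, rfl⟩
    rw [← hPdef] at hP
    obtain ⟨δ, hδ0, hδ⟩ := exists_skew C.hU.ne_refl C.hU.involutive
    obtain ⟨D, hD⟩ : ∃ D, D = (w i - v i) * σ (w i - v i) + (w j - v j) * σ (w j - v j) := ⟨_, rfl⟩
    have hPP : P - σ P ≠ 0 := sub_ne_zero.2 (Ne.symm hP)
    have hδσ : σ δ = -δ := eq_neg_of_add_eq_zero_right hδ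
    obtain ⟨c, hcdef⟩ : ∃ c, c = δ * (D / (δ * (P - σ P))) := ⟨_, rfl⟩
    have hc : c + σ c = 0 := by
      have hDσ : σ D = D := by rw [hD, map_add, C.norm_fixed, C.norm_fixed]
      rw [hcdef, map_mul, map_div₀, hDσ, map_mul, map_sub, C.sigma_sigma, hδσ]
      field_simp; ring
    obtain ⟨u1, u2, u3⟩ := C.plane_u b hij
    obtain ⟨m, hm, e⟩ := C.plane_shift h hb v hc
    have hX : herm σ v (Pi.single i 1 + b • Pi.single j 1) = v i + v j * σ b := by
      rw [C.herm_two hij u3, u1, u2, map_one, mul_one]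
    rw [hX] at e
    obtain ⟨X, hXd⟩ : ∃ X, X = v i + v j * σ b := ⟨_, rfl⟩
    rw [← hXd] at e hPdef
    have zi : act m v i = v i + c * X := by rw [e, Pi.add_apply, Pi.smul_apply, u1, smul_eq_mul, mul_one]
    have zj : act m v j = v j + c * X * b := by rw [e, Pi.add_apply, Pi.smul_apply, u2, smul_eq_mul]
    have zout : ∀ k, k ≠ i → k ≠ j → act m v k = v k := fun k hk hk' => by
      rw [e, Pi.add_apply, Pi.smul_apply, u3 k hk hk', smul_zero, add_zero]
    have zn : act m v i * σ (act m v i) + act m v j * σ (act m v j) = v i * σ (v i) + v j * σ (v j) := by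
      have h1 := mem_uiso.1 (C.iso hm) v v
      have h2 := C.herm_pair hij zout zout
      linear_combination h1 - h2
    have hstep : c * P + σ (c * P) = D := by
      rw [map_mul, eq_neg_of_add_eq_zero_right hc, hcdef]
      field_simp
      ring
    obtain ⟨m', hm', e'⟩ := C.plane_step hij h (v := act m v) (w := w)
      (fun k hk hk' => (zout k hk hk').trans (hout k hk hk')) (by rw [zn]; exact hS) (by rw [zn, hn]) (by
        rw [zi, zj] at zn ⊢
        simp only [map_sub, map_add, map_mul] at zn ⊢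
        rw [hPdef] at hstep
        simp only [map_add, map_mul, C.sigma_sigma] at hstep
        rw [hD] at hstep
        simp only [map_sub] at hstep
        linear_combination zn - hstep)
    exact ⟨m' * m, M.mul_mem hm' hm, by rw [act_mul, e']⟩
  by_cases hneg : w i = -v i ∧ w j = -v j
  · obtain ⟨z, hz, hz1, hz2, -, -⟩ := exists_root_ne C.hq
    have hzm : z ≠ -1 := fun e => hz2 (by rw [e]; ring)
    obtain ⟨x, hx, hxi, hxj, hne, hne'⟩ : ∃ x : ι → F, (∀ k, k ≠ i → k ≠ j → v k = x k) ∧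
        x i * σ (x i) = v i * σ (v i) ∧ x j * σ (x j) = v j * σ (v j) ∧
        ¬ (x i = -v i ∧ x j = -v j) ∧ ¬ (w i = -x i ∧ w j = -x j) := by
      have hnorm : ∀ a : F, z * a * σ (z * a) = a * σ a := fun a => by
        rw [map_mul, mul_mul_mul_comm, hz, one_mul]
      have key : ∀ a : F, a ≠ 0 → z * a ≠ -a ∧ z * a ≠ a := fun a ha =>
        ⟨fun e => hzm (mul_right_cancel₀ ha (by rw [e, neg_one_mul])), fun e => hz1 (mul_right_cancel₀ ha (by rw [e, one_mul]))⟩
      by_cases hi : v i = 0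
      · have hj : v j ≠ 0 := fun e => hS (by simp [hi, e])
        refine ⟨Function.update v j (z * v j), fun k _ hk => by simp [hk], by simp [hij], by rw [Function.update_self]; exact hnorm _,
          fun e => (key _ hj).1 (by simpa using e.2), fun e => (key _ hj).2 ?_⟩
        have := e.2; rw [hneg.2] at this; simpa using this.symm
      · refine ⟨Function.update v i (z * v i), fun k hk _ => by simp [hk], by rw [Function.update_self]; exact hnorm _, by simp [hij.symm],
          fun e => (key _ hi).1 (by simpa using e.1), fun e => (key _ hi).2 ?_⟩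
        have := e.1; rw [hneg.1] at this; simpa using this.symm
    obtain ⟨m, hm, e⟩ := two v x hx hS (by rw [hxi, hxj]) hne
    obtain ⟨m', hm', e'⟩ := two x w (fun k hk hk' => (hx k hk hk').symm.trans (hout k hk hk'))
      (by rw [hxi, hxj]; exact hS) (by rw [hxi, hxj, hn]) hne'
    exact ⟨m' * m, M.mul_mem hm' hm, by rw [act_mul, e, e']⟩
  · exact two v w hout hS hn hneg

theorem exists_nonfixed_norm {κ : F} (hκ : σ κ = κ) (hκ0 : κ ≠ 0) : ∃ z : F, z * σ z = κ ∧ σ z ≠ z := by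
  obtain ⟨z, hz⟩ := exists_norm C.hU.involutive C.hU.ne_refl κ hκ
  obtain ⟨w, hw, hw1, hw2, hws, -⟩ := exists_root_ne C.hq
  have hz0 : z ≠ 0 := fun e => hκ0 (by rw [← hz, e, zero_mul])
  by_cases h : σ z = z
  · exact ⟨z * w, by rw [map_mul, mul_mul_mul_comm, hz, hw, mul_one], fun e => hws
      (mul_left_cancel₀ hz0 (by rw [map_mul, h] at e; exact e))⟩
  · exact ⟨z, hz, h⟩

/-- any nonzero norm can be put at a coordinate of the plane -/
theorem plane_redistribute {i j : ι} (hij : i ≠ j) (h : PlaneIn C i j) {v : ι → F} (hvi : v i ≠ 0) {κ : F}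
    (hκ : σ κ = κ) (hκ0 : κ ≠ 0) :
    ∃ m ∈ M, (∀ k, k ≠ i → k ≠ j → act m v k = v k) ∧ act m v i * σ (act m v i) = κ := by
  by_cases hS : v i * σ (v i) + v j * σ (v j) = 0
  · -- an isotropic pair: one transvection
    obtain ⟨z, hz, hzs⟩ := C.exists_nonfixed_norm (κ := κ / (v i * σ (v i)))
      (by rw [map_div₀, hκ, C.norm_fixed]) (div_ne_zero hκ0 (C.norm_ne_zero hvi))
    have hvi' : σ (v i) ≠ 0 := (map_ne_zero σ).2 hvi
    have hz1 : z - 1 ≠ 0 := fun e => hzs (by rw [sub_eq_zero.1 e, map_one])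
    have hz1' : σ (z - 1) ≠ 0 := (map_ne_zero σ).2 hz1
    have hzz : σ z - z ≠ 0 := sub_ne_zero.2 hzs
    have hg : v j / v i * σ (v j / v i) = -1 := by
      rw [map_div₀]; field_simp; linear_combination hS
    obtain ⟨b, hbdef⟩ : ∃ b, b = v j / v i * (σ (z - 1) / (z - 1)) := ⟨_, rfl⟩
    have hb : b * σ b = -1 := by
      rw [hbdef, map_mul, mul_mul_mul_comm, hg, map_div₀, C.sigma_sigma]
      field_simp
    obtain ⟨c, hcdef⟩ : ∃ c, c = (z - 1) * σ (z - 1) / (σ z - z) := ⟨_, rfl⟩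
    have hc : c + σ c = 0 := by
      rw [hcdef, map_div₀, C.norm_fixed, map_sub σ (σ z), C.sigma_sigma, show z - σ z = -(σ z - z) by ring,
        div_neg, add_neg_cancel]
    obtain ⟨u1, u2, u3⟩ := C.plane_u b hij
    obtain ⟨m, hm, e⟩ := C.plane_shift h hb v hc
    refine ⟨m, hm, fun k hk hk' => by rw [e, Pi.add_apply, Pi.smul_apply, u3 k hk hk', smul_zero, add_zero], ?_⟩
    have hX : herm σ v (Pi.single i 1 + b • Pi.single j 1) = v i * ((σ z - z) / σ (z - 1)) := by
      rw [C.herm_two hij u3, u1, u2, map_one, mul_one, hbdef, map_mul, map_div₀ σ (σ (z - 1)), C.sigma_sigma]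
      have hg' : v j * σ (v j / v i) = -(v i) := by
        rw [map_div₀, ← mul_div_assoc, div_eq_iff hvi']; linear_combination hS
      rw [← mul_assoc, hg', map_sub, map_one]
      have : σ z - 1 ≠ 0 := by rwa [map_sub, map_one] at hz1'
      field_simp
      ring
    rw [e, Pi.add_apply, Pi.smul_apply, u1, smul_eq_mul, mul_one, hX, hcdef]
    have : v i + (z - 1) * σ (z - 1) / (σ z - z) * (v i * ((σ z - z) / σ (z - 1))) = v i * z := by
      field_simp
      ring
    rw [this, map_mul, mul_mul_mul_comm, hz, mul_div_cancel₀ _ (C.norm_ne_zero hvi)]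
  · obtain ⟨a, ha⟩ := exists_norm C.hU.involutive C.hU.ne_refl κ hκ
    obtain ⟨a', ha'⟩ := exists_norm C.hU.involutive C.hU.ne_refl (v i * σ (v i) + v j * σ (v j) - κ)
      (by rw [map_sub, map_add, C.norm_fixed, C.norm_fixed, hκ])
    obtain ⟨m, hm, e⟩ := C.plane_move hij h (w := Function.update (Function.update v i a) j a')
      (fun k hk hk' => by simp [hk, hk']) hS (by simp [hij, ha, ha'])
    exact ⟨m, hm, fun k hk hk' => by simp [e, hk, hk'], by simp [e, hij, ha]⟩

/-- concentrating a plane on one coordinate -/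
theorem plane_concentrate {i j : ι} (hij : i ≠ j) (h : PlaneIn C i j) {v : ι → F}
    (hS : v i * σ (v i) + v j * σ (v j) ≠ 0) :
    ∃ m ∈ M, (∀ k, k ≠ i → k ≠ j → act m v k = v k) ∧ act m v j = 0 := by
  obtain ⟨a, ha⟩ := exists_norm C.hU.involutive C.hU.ne_refl (v i * σ (v i) + v j * σ (v j))
    (by rw [map_add, C.norm_fixed, C.norm_fixed])
  obtain ⟨m, hm, e⟩ := C.plane_move hij h (w := Function.update (Function.update v i a) j 0)
    (fun k hk hk' => by simp [hk, hk']) hS (by simp [hij, ha])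
  exact ⟨m, hm, fun k hk hk' => by simp [e, hk, hk'], by simp [e]⟩

theorem plane_trans {i j k : ι} (hij : i ≠ j) (hjk : j ≠ k) (hik : i ≠ k) (h1 : PlaneIn C i j)
    (h2 : PlaneIn C j k) : PlaneIn C i k := by
  intro b hb
  obtain ⟨m, hm, e⟩ := C.plane_move hjk h2 (v := Pi.single i 1 + b • Pi.single j 1)
    (w := Pi.single i 1 + b • Pi.single k 1) (fun l hl hl' => by simp [hl, hl'])
    (by simp [hij.symm, hik.symm, hjk.symm, hb])
    (by simp [hij.symm, hik.symm, hjk, hjk.symm])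
  exact e ▸ rootIn_conj C.hU hm (C.iso hm) (h1 b hb)

end Ctx

end Cfsg.Agent.MaxCl.Unit
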