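/-
From the root groups of all coordinate planes to all unitary transvections.
-/
import Mathlib
import Cfsg.Agent.Lib.MaxCl.UnitaryPlaneMoves

set_option autoImplicit false

namespace Cfsg.Agent.MaxCl.Unit

open scoped MatrixGroups Matrix

variable {ι : Type} [Fintype ι] [DecidableEq ι] {F : Type*} [Field F] [Fintype F] {β : Type}
variable {σ : F ≃+* F} {q : ℕ} {blk : ι → β} {M : Subgroup (GL ι F)}

namespace Ctx

variable (C : Ctx σ q blk M)
include C

theorem rootIn_of_act {m : GL ι F} (hm : m ∈ M) {v : ι → F} (h : RootIn C.hU M (act m v)) : RootIn C.hU M v := by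
  have := rootIn_conj C.hU (M.inv_mem hm) (C.iso (M.inv_mem hm)) h
  rwa [act_inv_act] at this

theorem herm_self_supp (x : ι → F) : herm σ x x = ∑ k ∈ supp x, x k * σ (x k) :=
  C.herm_supp _ fun k hk => by simpa using hk

theorem iso_weight {v : ι → F} (hv : herm σ v v = 0) (hv0 : v ≠ 0) : 2 ≤ (supp v).card := by
  by_contra hc
  obtain ⟨i, hi⟩ := Function.ne_iff.1 hv0
  obtain ⟨j, hj⟩ := Finset.card_eq_one.1 (le_antisymm (by omega) (Finset.card_pos.2 ⟨i, mem_supp.2 hi⟩))
  rw [C.herm_self_supp, hj, Finset.sum_singleton] at hv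
  exact C.norm_ne_zero (mem_supp.1 (hj ▸ Finset.mem_singleton_self j)) hv

theorem exists_fixed_ne (h2 : q ≠ 2) (a : F) : ∃ κ : F, σ κ = κ ∧ κ ≠ 0 ∧ κ ≠ a := by
  by_cases ha : a = 1
  · by_cases h : (-1 : F) = 1
    · obtain ⟨z, hz, hz1, hz2, -, hz3⟩ := exists_root_ne C.hq
      refine ⟨z + σ z, by rw [map_add, C.sigma_sigma, add_comm], fun e => hz2 ?_, fun e => hz3 h2 ?_⟩
      · linear_combination z * e - hz + h
      · rw [ha] at e
        linear_combination (z + 1) * (z * e - hz) + h
    · exact ⟨-1, by simp, by simp, by rw [ha]; exact h⟩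
  · exact ⟨1, map_one σ, one_ne_zero, Ne.symm ha⟩

theorem supp_mono {v w : ι → F} {S : Finset ι} (h : ∀ k ∉ S, w k = v k) (hS : S ⊆ supp v) : supp w ⊆ supp v := by
  intro k hk
  by_cases hkS : k ∈ S
  · exact hS hkS
  · exact mem_supp.2 (h k hkS ▸ mem_supp.1 hk)

theorem weight_two {v : ι → F} (hP : ∀ i j, i ≠ j → PlaneIn C i j) (hv : herm σ v v = 0)
    (h2 : (supp v).card = 2) : RootIn C.hU M v := by
  obtain ⟨i, j, hij, e⟩ := Finset.card_eq_two.1 h2
  refine C.plane_vec hij (hP i j hij) (fun k hk hk' => ?_) ?_
  · have : k ∉ supp v := by simp [e, hk, hk']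
    simpa using this
  · rw [C.herm_self_supp, e, Finset.sum_pair hij] at hv; exact hv

/-- `q ≠ 2`: every isotropic vector is reached by shortening -/
theorem all_iso_big (h2 : q ≠ 2) (hP : ∀ i j, i ≠ j → PlaneIn C i j) :
    ∀ v : ι → F, herm σ v v = 0 → RootIn C.hU M v := by
  suffices h : ∀ (m : ℕ) (v : ι → F), (supp v).card ≤ m → herm σ v v = 0 → RootIn C.hU M v from
    fun v hv => h _ v le_rfl hv
  intro m
  induction m with
  | zero =>
    intro v hm hv
    obtain ⟨i⟩ : Nonempty ι := Fintype.card_pos_iff.1 (by have := C.hn; omega)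
    obtain ⟨j, hj⟩ := Fintype.exists_ne_of_one_lt_card (by have := C.hn; omega) i
    have hz : ∀ k, v k = 0 := fun k => by
      by_contra hk
      have := Finset.card_pos.2 ⟨k, mem_supp.2 hk⟩
      omega
    exact C.plane_vec hj.symm (hP i j hj.symm) (fun k _ _ => hz k) (by simp [hz])
  | succ m ih =>
    intro v hm hv
    rcases Nat.lt_or_ge (supp v).card (m + 1) with hlt | hge
    · exact ih v (by omega) hv
    have hv0 : v ≠ 0 := fun e => by
      have : (supp v).card = 0 := by simp [e, supp]
      omega
    have h2c := C.iso_weight hv hv0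
    rcases eq_or_lt_of_le h2c with e | h3
    · exact C.weight_two hP hv e.symm
    obtain ⟨i, hi, j, hj, k, hk, hij, hik, hjk⟩ := Finset.two_lt_card.1 h3
    -- make the pair `(i, k)` anisotropic
    obtain ⟨κ, hκ, hκ0, hκk⟩ := C.exists_fixed_ne h2 (-(v k * σ (v k)))
    obtain ⟨g, hg, hout, hgi⟩ := C.plane_redistribute hij (hP i j hij) (mem_supp.1 hi) hκ hκ0
    apply C.rootIn_of_act hg
    have hsub : supp (act g v) ⊆ supp v := C.supp_mono (S := {i, j}) (fun l hl => by
      simp only [Finset.mem_insert, Finset.mem_singleton, not_or] at hl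
      exact hout l hl.1 hl.2) (by simp [Finset.insert_subset_iff, hi, hj])
    have hvk := hout k hik.symm hjk.symm
    obtain ⟨g', hg', hout', hzero⟩ := C.plane_concentrate hik (hP i k hik) (v := act g v) (by
      rw [hgi, hvk]; exact fun e => hκk (eq_neg_of_add_eq_zero_left e))
    apply C.rootIn_of_act hg'
    refine ih _ ?_ (by rw [mem_uiso.1 (C.iso hg'), mem_uiso.1 (C.iso hg), hv])
    have hsub' : supp (act g' (act g v)) ⊆ (supp v).erase k := fun l hl => by
      have hlk : l ≠ k := fun e => mem_supp.1 hl (e ▸ hzero)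
      refine Finset.mem_erase.2 ⟨hlk, ?_⟩
      rcases eq_or_ne l i with rfl | hli
      · exact hi
      · exact hsub (mem_supp.2 (hout' l hli hlk ▸ mem_supp.1 hl))
    have := Finset.card_le_card hsub'
    rw [Finset.card_erase_of_mem hk] at this
    omega

section two

variable (h2 : q = 2)
include h2

theorem norm_two {a : F} (ha : a ≠ 0) : a * σ a = 1 := by simpa [h2] using C.hq.norm_pow ha

theorem char_two : (2 : F) = 0 := by simpa [h2] using C.hq.cast_q

theorem root_two : ∃ z : F, z * σ z = 1 ∧ z ≠ 1 ∧ σ z ≠ 1 ∧ z + σ z = 1 := by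
  obtain ⟨z, hz, hz1, hz2, -, -⟩ := exists_root_ne C.hq
  have hz0 := C.norm_one_ne_zero hz
  refine ⟨z, hz, hz1, fun e => hz1 (by simpa [e] using hz), ?_⟩
  have hs : σ z = z ^ 2 := by rw [C.hq.apply_eq, h2]
  rw [hs] at hz ⊢
  have : (z - 1) * (z ^ 2 + z + 1) = 0 := by linear_combination hz
  have h4 := (mul_eq_zero.1 this).resolve_left (sub_ne_zero.2 hz1)
  linear_combination h4 - C.char_two h2

/-- phases on `S` leave a root group at a vector with support `S` -/
theorem two_cancel {v : ι → F} (hv : RootIn C.hU M v) (S : Finset ι) (hS : S ⊆ supp v) (d : ι → F)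
    (hd : ∀ k, d k * σ (d k) = 1) (hdS : ∀ k ∈ S, d k ≠ 1) (hout : ∀ k ∉ S, d k = 1 ∨ v k = 0)
    (hprod : ∏ k, d k = 1) (hr : ∑ k ∈ S, (σ (d k) - 1) = 1) :
    ∃ u, RootIn C.hU M u ∧ supp u = S := by
  obtain ⟨h, hh, -, hx⟩ := C.exists_diag d hd hprod
  have he : herm σ v (act h v) = 1 := by
    have h0 := hv.1
    have : herm σ v (act h v) - herm σ v v = 1 := by
      rw [← hr, herm, herm, ← Finset.sum_sub_distrib, ← Finset.sum_subset (Finset.subset_univ S) fun k _ hk => by
        rw [hx]; rcases hout k hk with e | e <;> simp [e]]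
      refine Finset.sum_congr rfl fun k hk => ?_
      rw [hx, map_mul]
      linear_combination (σ (d k) - 1) * C.norm_two h2 (mem_supp.1 (hS hk))
    rwa [h0, sub_zero] at this
  refine ⟨_, C.rootIn_cancel hv hh (by rw [he]; exact one_ne_zero) (by
    rw [he, map_one, one_add_one_eq_two, C.char_two h2]), ?_⟩
  ext k
  rw [mem_supp, Pi.sub_apply, hx, ← one_sub_mul]
  refine ⟨fun hk => by_contra fun hkS => hk ?_, fun hk => mul_ne_zero (sub_ne_zero.2 (Ne.symm (hdS k hk))) (mem_supp.1 (hS hk))⟩
  rcases hout k hkS with e | e <;> simp [e]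

theorem even_weight {v : ι → F} (hv : herm σ v v = 0) : Even (supp v).card := by
  rw [C.herm_self_supp, Finset.sum_congr rfl fun k hk => C.norm_two h2 (mem_supp.1 hk), Finset.sum_const,
    nsmul_one] at hv
  by_contra ho
  obtain ⟨c, hc⟩ := Nat.not_even_iff_odd.1 ho
  rw [hc] at hv
  push_cast at hv
  rw [C.char_two h2, zero_mul, zero_add] at hv
  exact one_ne_zero hv

/-- a vector of weight four -/
theorem four_of {v : ι → F} (hv : RootIn C.hU M v) (h4 : 4 ≤ (supp v).card)
    (h7 : (supp v).card = 4 ∨ 7 ≤ Fintype.card ι) : ∃ u, RootIn C.hU M u ∧ (supp u).card = 4 := by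
  rcases h7 with h7 | h7
  · exact ⟨v, hv, h7⟩
  obtain ⟨z, hz, hz1, hzs, hzz⟩ := C.root_two h2
  have hzn : σ z * σ (σ z) = 1 := by rw [C.sigma_sigma, mul_comm, hz]
  have hz3 : z ^ 3 = 1 := by rw [← hz, C.hq.apply_eq, h2]; ring
  have h2' := C.char_two h2
  have small : ∀ v, RootIn C.hU M v → 4 ≤ (supp v).card → (supp v).card < Fintype.card ι →
      ∃ u, RootIn C.hU M u ∧ (supp u).card = 4 := by
    intro v hv h4 hlt
    obtain ⟨l, hl⟩ : ∃ l, v l = 0 := by
      by_contra hall; push Not at hall
      have : supp v = Finset.univ := by ext k; simp [hall k]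
      rw [this, Finset.card_univ] at hlt; omega
    obtain ⟨S, hS, hSc⟩ := Finset.exists_subset_card_eq h4
    obtain ⟨i, hi⟩ := Finset.card_pos.1 (show 0 < S.card by omega)
    have hlS : l ∉ S := fun h => mem_supp.1 (hS h) hl
    have hli : l ≠ i := fun e => hlS (e ▸ hi)
    obtain ⟨u, hu, e⟩ := C.two_cancel h2 hv S hS
      (fun k => if k = i then z else if k ∈ S ∨ k = l then σ z else 1)
      (fun k => by split_ifs <;> simp [hz, hzn])
      (fun k hk => by simp only [hk, true_or, if_true]; split_ifs <;> assumption)
      (fun k hk => by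
        rcases eq_or_ne k l with rfl | hkl
        · exact Or.inr hl
        · exact Or.inl (by simp [hk, hkl, show ¬ k = i from fun e => hk (e ▸ hi)]))
      (by
        rw [← Finset.prod_subset (Finset.subset_univ (insert l S)) fun k _ hk => by
          simp only [Finset.mem_insert, not_or] at hk
          simp [hk.1, hk.2, show ¬ k = i from fun e => hk.2 (e ▸ hi)],
          Finset.prod_insert hlS, ← Finset.mul_prod_erase S _ hi, Finset.prod_congr rfl fun k hk => by
            rw [if_neg (Finset.ne_of_mem_erase hk), if_pos (Or.inl (Finset.mem_of_mem_erase hk))],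
          Finset.prod_const, Finset.card_erase_of_mem hi, hSc]
        simp only [hli, if_false, or_true, if_true]
        rw [C.hq.apply_eq, h2]
        linear_combination ((z ^ 3) ^ 2 + z ^ 3 + 1) * hz3)
      (by
        rw [← Finset.add_sum_erase S _ hi, if_pos rfl, Finset.sum_congr rfl fun k hk => by
            rw [if_neg (Finset.ne_of_mem_erase hk), if_pos (Or.inl (Finset.mem_of_mem_erase hk)), C.sigma_sigma],
          Finset.sum_const, Finset.card_erase_of_mem hi, hSc, nsmul_eq_mul]
        push_cast
        linear_combination hzz + (z - 2) * h2')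
    exact ⟨u, hu, by rw [e, hSc]⟩
  rcases Nat.lt_or_ge (supp v).card (Fintype.card ι) with hlt | hge
  · exact small v hv h4 hlt
  have hn := C.hn
  obtain ⟨S, hS, hSc⟩ := Finset.exists_subset_card_eq (show 6 ≤ (supp v).card by omega)
  obtain ⟨A, hA, hAc⟩ := Finset.exists_subset_card_eq (show 3 ≤ S.card by omega)
  have hBc : (S \ A).card = 3 := by rw [Finset.card_sdiff_of_subset hA]; omega
  obtain ⟨u, hu, e⟩ := C.two_cancel h2 hv S hS
    (fun k => if k ∈ A then z else if k ∈ S then σ z else 1)
    (fun k => by split_ifs <;> simp [hz, hzn])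
    (fun k hk => by simp only [hk, if_true]; split_ifs <;> assumption)
    (fun k hk => Or.inl (by simp [hk, show ¬ k ∈ A from fun h => hk (hA h)]))
    (by
      rw [← Finset.prod_subset (Finset.subset_univ S) fun k _ hk => by simp [hk, show ¬ k ∈ A from fun h => hk (hA h)],
        ← Finset.prod_sdiff hA, Finset.prod_congr rfl fun k hk => by
          rw [if_neg (Finset.mem_sdiff.1 hk).2, if_pos (Finset.mem_sdiff.1 hk).1],
        Finset.prod_const, hBc, Finset.prod_congr rfl fun k hk => if_pos hk, Finset.prod_const, hAc]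
      linear_combination ((z * σ z) ^ 2 + z * σ z + 1) * hz)
    (by
      rw [← Finset.sum_sdiff hA, Finset.sum_congr rfl fun k hk => by
          rw [if_neg (Finset.mem_sdiff.1 hk).2, if_pos (Finset.mem_sdiff.1 hk).1, C.sigma_sigma],
        Finset.sum_const, hBc, Finset.sum_congr rfl fun k hk => by rw [if_pos hk], Finset.sum_const, hAc,
        nsmul_eq_mul, nsmul_eq_mul]
      push_cast
      linear_combination (3 : F) * hzz + (-2 : F) * h2')
  exact small u hu (by rw [e, hSc]; norm_num) (by rw [e, hSc]; omega)

/-- `q = 2`: moves between vectors of one weight -/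
theorem two_transfer (hP : ∀ i j, i ≠ j → PlaneIn C i j) :
    ∀ u w : ι → F, RootIn C.hU M u → (supp u).card = (supp w).card → (supp w).card < Fintype.card ι →
      RootIn C.hU M w := by
  classical
  suffices h : ∀ (m : ℕ) (u w : ι → F), (Finset.univ.filter fun k => u k ≠ w k).card ≤ m → RootIn C.hU M u →
      (supp u).card = (supp w).card → (supp w).card < Fintype.card ι → RootIn C.hU M w from
    fun u w => h _ u w le_rfl
  intro m
  induction m with
  | zero =>
    intro u w hm hu _ _
    have : u = w := funext fun k => by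
      by_contra hk
      have hk' : k ∈ Finset.univ.filter fun k => u k ≠ w k := by simp [hk]
      have := Finset.card_pos.2 ⟨k, hk'⟩
      omega
    exact this ▸ hu
  | succ m ih =>
    intro u w hm hu hc hlt
    -- move the entry at `a` to the empty coordinate `b`
    have move : ∀ (u : ι → F) (a b : ι) (x : F), RootIn C.hU M u → u a ≠ 0 → u b = 0 → a ≠ b → x ≠ 0 →
        RootIn C.hU M (Function.update (Function.update u a 0) b x) := by
      intro u a b x hu ha hb hab hx
      obtain ⟨g, hg, e⟩ := C.plane_move hab (hP a b hab) (v := u)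
        (w := Function.update (Function.update u a 0) b x) (fun k hk hk' => by simp [hk, hk'])
        (by simp [hb, C.norm_two h2 ha]) (by simp [hab, hb, C.norm_two h2 ha, C.norm_two h2 hx])
      exact e ▸ rootIn_conj C.hU hg (C.iso hg) hu
    by_cases hall : u = w
    · exact hall ▸ hu
    by_cases hsub : supp u ⊆ supp w
    · have he := Finset.eq_of_subset_of_card_le hsub hc.ge
      obtain ⟨i, hi⟩ := Function.ne_iff.1 hall
      have hui : u i ≠ 0 := fun h0 => by
        have : i ∉ supp w := by rw [← he]; simp [h0]
        rw [mem_supp, not_not] at this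
        exact hi (h0.trans this.symm)
      have hwi : w i ≠ 0 := mem_supp.1 (he ▸ mem_supp.2 hui)
      obtain ⟨l, hl⟩ : ∃ l, u l = 0 := by
        by_contra hno; push Not at hno
        have : supp u = Finset.univ := by ext k; simp [hno k]
        rw [hc.symm, this, Finset.card_univ] at hlt; omega
      have hil : i ≠ l := fun e => hui (e ▸ hl)
      have h1 := move u i l 1 hu hui hl hil one_ne_zero
      have h3 := move _ l i (w i) h1 (by simp) (by simp [hil]) hil.symm hwi
      have e' : Function.update (Function.update (Function.update (Function.update u i 0) l 1) l 0) i (w i) =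
          Function.update u i (w i) := by
        funext k
        rcases eq_or_ne k i with rfl | hki
        · simp
        rcases eq_or_ne k l with rfl | hkl
        · simp [hki, hl]
        · simp [hki, hkl]
      rw [e'] at h3
      refine ih _ w ?_ h3 ?_ hlt
      · have : (Finset.univ.filter fun k => Function.update u i (w i) k ≠ w k) ⊆
            (Finset.univ.filter fun k => u k ≠ w k).erase i := fun k hk => by
          rcases eq_or_ne k i with rfl | hki
          · simp at hk
          · simpa [hki] using hk
        have h4 := Finset.card_le_card this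
        rw [Finset.card_erase_of_mem (by simpa using hi)] at h4
        omega
      · have e'' : supp (Function.update u i (w i)) = supp u := by
          ext k
          rcases eq_or_ne k i with rfl | hki
          · simp [hwi, hui]
          · simp [hki]
        rw [e'', hc]
    · obtain ⟨i, hiu, hiw⟩ := Finset.not_subset.1 hsub
      obtain ⟨l, hlw, hlu⟩ := Finset.not_subset.1 (show ¬ supp w ⊆ supp u from fun h =>
        hsub (Finset.eq_of_subset_of_card_le h hc.le).ge)
      rw [mem_supp] at hiu hlw
      rw [mem_supp, not_not] at hiw hlu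
      have hil : i ≠ l := fun e => hiu (e ▸ hlu)
      have h1 := move u i l (w l) hu hiu hlu hil hlw
      refine ih _ w ?_ h1 ?_ hlt
      · have : (Finset.univ.filter fun k => Function.update (Function.update u i 0) l (w l) k ≠ w k) ⊆
            (Finset.univ.filter fun k => u k ≠ w k).erase i := fun k hk => by
          rcases eq_or_ne k i with rfl | hki
          · simp [hil, hiw] at hk
          rcases eq_or_ne k l with rfl | hkl
          · simp at hk
          · simpa [hki, hkl] using hk
        have h4 := Finset.card_le_card this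
        rw [Finset.card_erase_of_mem (by simp [hiw, hiu])] at h4
        omega
      · have e' : supp (Function.update (Function.update u i 0) l (w l)) = insert l ((supp u).erase i) := by
          ext k
          rcases eq_or_ne k l with rfl | hkl
          · simp [hlw]
          rcases eq_or_ne k i with rfl | hki
          · simp [hkl]
          · simp [hki, hkl]
        rw [e', Finset.card_insert_of_notMem (by simp [hlu]), Finset.card_erase_of_mem (mem_supp.2 hiu), hc]
        have := Finset.card_pos.2 ⟨l, mem_supp.2 hlw⟩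
        omega

theorem all_iso_two (hP : ∀ i j, i ≠ j → PlaneIn C i j) {u₀ : ι → F} (hu₀ : RootIn C.hU M u₀)
    (h4 : 4 ≤ (supp u₀).card) (h7 : (supp u₀).card = 4 ∨ 7 ≤ Fintype.card ι) :
    ∀ v : ι → F, herm σ v v = 0 → RootIn C.hU M v := by
  obtain ⟨u₄, hu₄, hu₄c⟩ := C.four_of h2 hu₀ h4 h7
  have four : ∀ w : ι → F, (supp w).card = 4 → RootIn C.hU M w := fun w hw =>
    C.two_transfer h2 hP u₄ w hu₄ (hu₄c.trans hw.symm) (by have := C.hn; omega)
  suffices h : ∀ (m : ℕ) (v : ι → F), (supp v).card ≤ m → herm σ v v = 0 → RootIn C.hU M v from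
    fun v hv => h _ v le_rfl hv
  intro m
  induction m with
  | zero =>
    intro v hm hv
    obtain ⟨i⟩ : Nonempty ι := Fintype.card_pos_iff.1 (by have := C.hn; omega)
    obtain ⟨j, hj⟩ := Fintype.exists_ne_of_one_lt_card (by have := C.hn; omega) i
    have hz : ∀ k, v k = 0 := fun k => by
      by_contra hk
      have := Finset.card_pos.2 ⟨k, mem_supp.2 hk⟩
      omega
    exact C.plane_vec hj.symm (hP i j hj.symm) (fun k _ _ => hz k) (by simp [hz])
  | succ m ih =>
    intro w hm hw
    rcases Nat.lt_or_ge (supp w).card (m + 1) with hlt | hge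
    · exact ih w (by omega) hw
    have hw0 : w ≠ 0 := fun e => by
      have : (supp w).card = 0 := by simp [e, supp]
      omega
    have h2c := C.iso_weight hw hw0
    rcases eq_or_lt_of_le h2c with e | h3
    · exact C.weight_two hP hw e.symm
    obtain ⟨c, hc⟩ := C.even_weight h2 hw
    rcases eq_or_ne (supp w).card 4 with e | hne
    · exact four w e
    obtain ⟨S, hS, hSc⟩ := Finset.exists_subset_card_eq (show 4 ≤ (supp w).card by omega)
    obtain ⟨i, hi, j, hj, k, hk, hij, hik, hjk⟩ := Finset.two_lt_card.1 (show 2 < S.card by omega)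
    obtain ⟨l, hl, hli, hlj, hlk⟩ : ∃ l ∈ S, l ≠ i ∧ l ≠ j ∧ l ≠ k := by
      by_contra hno; push Not at hno
      have : S ⊆ {i, j, k} := fun l hl => by
        simp only [Finset.mem_insert, Finset.mem_singleton]
        by_cases h1 : l = i
        · exact Or.inl h1
        by_cases h1' : l = j
        · exact Or.inr (Or.inl h1')
        · exact Or.inr (Or.inr (hno l hl h1 h1'))
      have := (Finset.card_le_card this).trans Finset.card_le_three
      omega
    obtain ⟨z, hz, hz1, hzs, hzz⟩ := C.root_two h2
    have hwi := mem_supp.1 (hS hi); have hwj := mem_supp.1 (hS hj)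
    have hwk := mem_supp.1 (hS hk); have hwl := mem_supp.1 (hS hl)
    obtain ⟨u, hu⟩ : ∃ u : ι → F, u = fun x => if x = i then w i * z else if x = j then w j * σ z else
        if x = k then w k else if x = l then w l else 0 := ⟨_, rfl⟩
    have hus : supp u = {i, j, k, l} := by
      ext x
      rw [mem_supp, hu]
      simp only [Finset.mem_insert, Finset.mem_singleton]
      have hz0 := C.norm_one_ne_zero hz
      split_ifs with h1 h1' h1'' h1''' <;> simp_all
    have hu4 : (supp u).card = 4 := by rw [hus]; simp [hij, hik, hjk, hli.symm, hlj.symm, hlk.symm]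
    have huR := four u hu4
    have hwu : herm σ w u = 1 := by
      rw [C.herm_supp ({i, j, k, l} : Finset ι) (fun x hx => by
        simp only [Finset.mem_insert, Finset.mem_singleton, not_or] at hx
        simp [hu, hx.1, hx.2.1, hx.2.2.1, hx.2.2.2]), Finset.sum_insert (by simp [hij, hik, hli.symm]),
        Finset.sum_insert (by simp [hjk, hlj.symm]), Finset.sum_pair hlk.symm]
      simp only [hu, if_true, hij.symm, hik.symm, hjk.symm, hli, hlj, hlk, if_false, map_mul, C.sigma_sigma]
      linear_combination σ z * C.norm_two h2 hwi + z * C.norm_two h2 hwj + C.norm_two h2 hwk +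
        C.norm_two h2 hwl + hzz + C.char_two h2
    have hvw : (supp (w + u)).card ≤ m := by
      have hsub : supp (w + u) ⊆ ((supp w).erase k).erase l := fun x hx => by
        rw [mem_supp, Pi.add_apply] at hx
        have h0 := C.char_two h2
        refine Finset.mem_erase.2 ⟨fun e => hx ?_, Finset.mem_erase.2 ⟨fun e => hx ?_, ?_⟩⟩
        · subst e; simp only [hu, hli, hlj, hlk, if_false, if_true]; linear_combination w x * h0
        · subst e; simp only [hu, hik.symm, hjk.symm, if_false, if_true]; linear_combination w x * h0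
        · rw [mem_supp]
          intro hw0
          apply hx
          have : u x = 0 := by
            by_contra hne'
            have := hus ▸ mem_supp.2 hne'
            simp only [Finset.mem_insert, Finset.mem_singleton] at this
            rcases this with rfl | rfl | rfl | rfl <;> contradiction
          rw [hw0, this, add_zero]
      have := Finset.card_le_card hsub
      rw [Finset.card_erase_of_mem (Finset.mem_erase.2 ⟨hlk, hS hl⟩), Finset.card_erase_of_mem (hS hk)] at this
      omega
    have huw : herm σ u w = 1 := by rw [← herm' C.hU w u, hwu, map_one]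
    have hvv : herm σ (w + u) (w + u) = 0 := by
      rw [add_left C.hU, add_right C.hU, add_right C.hU, hw, huR.1, hwu, huw]
      linear_combination C.char_two h2
    have := rootIn_add C.hU huR (ih _ hvw hvv) (c := 1) (by rw [map_one, one_add_one_eq_two, C.char_two h2])
    rw [add_left C.hU, hwu, huR.1, add_zero, one_mul, one_smul] at this
    rwa [show w + u + u = w by
      funext x
      simp only [Pi.add_apply]
      linear_combination u x * C.char_two h2] at this

end two

/-- `M` is everything once it has all plane root groups and, for `q = 2`, one longer root group -/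
theorem eq_top_of_planes (hP : ∀ i j, i ≠ j → PlaneIn C i j)
    (h4 : q = 2 → ∃ u, RootIn C.hU M u ∧ 4 ≤ (supp u).card ∧ ((supp u).card = 4 ∨ 7 ≤ Fintype.card ι)) :
    M = SUc σ := by
  refine le_antisymm C.le (su_le_of_utv C.hU (by have := C.hn; omega) M fun u c hu hc => ?_)
  by_cases h2 : q = 2
  · obtain ⟨u₀, hu₀, hu₀c, hu₀7⟩ := h4 h2
    exact (C.all_iso_two h2 hP hu₀ hu₀c hu₀7 u hu).2 c hc
  · exact (C.all_iso_big h2 hP u hu).2 c hc

end Ctx

end Cfsg.Agent.MaxCl.Unit
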