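/-
Blocks of coordinates: one root group crossing two blocks gives all plane root groups.
-/
import Mathlib
import Cfsg.Agent.Lib.MaxCl.UnitarySpread

set_option autoImplicit false

namespace Cfsg.Agent.MaxCl.Unit

open scoped MatrixGroups Matrix

variable {ι : Type} [Fintype ι] [DecidableEq ι] {F : Type*} [Field F] [Fintype F] {β : Type}
variable {σ : F ≃+* F} {q : ℕ} {blk : ι → β} {M : Subgroup (GL ι F)}

/-- a monomial matrix -/
def IsMono (g : GL ι F) : Prop := ∀ j, (supp (act g (Pi.single j 1))).card ≤ 1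

namespace Ctx

variable (C : Ctx σ q blk M)
include C

theorem utv_coord {i j : ι} {b : F} (hij : i ≠ j) (hb : b * σ b = -1) (c : F) {m k : ι}
    (hk : act (utv C.hU (Pi.single i 1 + b • Pi.single j 1) c) (Pi.single m 1) k ≠ 0) :
    k = m ∨ ((k = i ∨ k = j) ∧ (m = i ∨ m = j)) := by
  obtain ⟨u1, u2, u3⟩ := C.plane_u b hij
  have hu : herm σ (Pi.single i 1 + b • Pi.single j 1) (Pi.single i 1 + b • Pi.single j 1) = 0 := by
    rw [C.herm_two hij u3, u1, u2, map_one, mul_one, hb, add_neg_cancel]
  rw [act_utv C.hU hu, C.herm_single_left] at hk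
  by_contra hno
  simp only [not_or, not_and_or] at hno
  obtain ⟨hkm, hrest⟩ := hno
  apply hk
  rcases hrest with ⟨h1, h2⟩ | ⟨h1, h2⟩
  · simp [hkm, h1, h2]
  · simp [hkm, h1, h2]

theorem plane_block {i j : ι} (hij : i ≠ j) (hb : blk i = blk j) : PlaneIn C i j := by
  intro b hb'
  obtain ⟨u1, u2, u3⟩ := C.plane_u b hij
  have hu : herm σ (Pi.single i 1 + b • Pi.single j 1) (Pi.single i 1 + b • Pi.single j 1) = 0 := by
    rw [C.herm_two hij u3, u1, u2, map_one, mul_one, hb', add_neg_cancel]
  refine ⟨hu, fun c hc => C.stab_le _ ⟨utv_mem C.hU hu hc, det_ptv C.hU ?_⟩ ⟨1, fun m k hk => ?_⟩⟩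
  · rw [smul_right C.hU, hu, mul_zero]
  · rcases C.utv_coord hij hb' c hk with rfl | ⟨hk', hm'⟩
    · rfl
    · rcases hk' with rfl | rfl <;> rcases hm' with rfl | rfl <;> simp [hb]

/-- two cancelling coordinates of a vector of `M` give a plane -/
theorem plane_of_cancel {v : ι → F} (hv : RootIn C.hU M v) {i i' : ι} (hii : i ≠ i')
    (hN : v i * σ (v i) + v i' * σ (v i') = 0) (hvi : v i ≠ 0) : PlaneIn C i i' := by
  obtain ⟨z, hz, hz1, hz2, hzs, -⟩ := exists_root_ne C.hq
  obtain ⟨h, hh, hx⟩ := C.exists_phase hii hz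
  have hxi : act h v i = z * v i := by rw [hx, if_pos rfl]
  have hxi' : act h v i' = σ z * v i' := by rw [hx, if_neg hii.symm, if_pos rfl]
  have hxo : ∀ k, k ≠ i → k ≠ i' → act h v k = v k := fun k hk hk' => by
    rw [hx, if_neg hk, if_neg hk', one_mul]
  have he : herm σ v (act h v) = v i * σ (v i) * (σ z - z) := by
    have h1 := C.herm_pair hii (x := v) (x' := v) (fun _ _ _ => rfl) hxo
    rw [hxi, hxi', hv.1, map_mul, map_mul, C.sigma_sigma] at h1
    linear_combination h1 + (z - 1) * hN
  have hd : RootIn C.hU M (v - act h v) := C.rootIn_cancel hv hh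
    (by rw [he]; exact mul_ne_zero (C.norm_ne_zero hvi) (sub_ne_zero.2 hzs))
    (by rw [he, map_mul, C.norm_fixed, map_sub, C.sigma_sigma]; ring)
  intro b hb
  obtain ⟨b₀, hb₀⟩ : ∃ b₀, b₀ = (v i' - σ z * v i') / ((1 - z) * v i) := ⟨_, rfl⟩
  have h1z : (1 - z) * v i ≠ 0 := mul_ne_zero (sub_ne_zero.2 (Ne.symm hz1)) hvi
  have hd₀ : RootIn C.hU M (Pi.single i 1 + b₀ • Pi.single i' 1) := by
    have := rootIn_smul C.hU hd ((1 - z) * v i)⁻¹
    convert this using 1
    funext k
    rcases eq_or_ne k i with rfl | hk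
    · simp only [Pi.smul_apply, Pi.sub_apply, hxi, smul_eq_mul]
      rw [(C.plane_u b₀ hii).1, show v k - z * v k = (1 - z) * v k by ring, inv_mul_cancel₀ h1z]
    rcases eq_or_ne k i' with rfl | hk'
    · simp only [Pi.smul_apply, Pi.sub_apply, hxi', smul_eq_mul]
      rw [(C.plane_u b₀ hii).2.1, hb₀, div_eq_inv_mul]
    · simp only [Pi.smul_apply, Pi.sub_apply, hxo k hk hk', sub_self, smul_zero]
      rw [(C.plane_u b₀ hii).2.2 k hk hk']
  obtain ⟨u1, u2, u3⟩ := C.plane_u b₀ hii
  have hb₀1 : b₀ * σ b₀ = -1 := by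
    have := hd₀.1
    rw [C.herm_two hii u3, u1, u2, map_one, mul_one] at this
    linear_combination this
  have hb₀0 : b₀ ≠ 0 := fun e => by simp [e] at hb₀1
  obtain ⟨m, -, hm⟩ := Finset.exists_mem_notMem_of_card_lt_card (s := ({i, i'} : Finset ι)) (t := Finset.univ) (by
    rw [Finset.card_univ]; have := Finset.card_le_two (a := i) (b := i'); have := C.hn; omega)
  simp only [Finset.mem_insert, Finset.mem_singleton, not_or] at hm
  have hζ : b / b₀ * σ (b / b₀) = 1 := by
    rw [map_div₀, div_mul_div_comm, hb, hb₀1, div_self (neg_ne_zero.2 one_ne_zero)]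
  obtain ⟨g, hg, hgx⟩ := C.exists_phase (Ne.symm hm.2) hζ
  have e : act g (Pi.single i 1 + b₀ • Pi.single i' 1) = Pi.single i 1 + b • Pi.single i' 1 := by
    funext k
    rw [hgx]
    rcases eq_or_ne k i with rfl | hk
    · simp [hii, Ne.symm hm.1]
    rcases eq_or_ne k i' with rfl | hk'
    · simp [hii.symm]; field_simp
    · simp [hk, hk']
  exact e ▸ rootIn_conj C.hU hg (C.iso hg) hd₀

/-- monomial elements of `M` map planes to planes -/
theorem plane_map {g : GL ι F} (hg : g ∈ M) (π : Equiv.Perm ι) (d : ι → F)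
    (hd : ∀ x k, act g x (π k) = d k * x k) {i j : ι} (hij : i ≠ j) (h : PlaneIn C i j) :
    PlaneIn C (π i) (π j) := by
  intro b hb
  obtain ⟨y, hy⟩ : ∃ y, y = act g⁻¹ (Pi.single (π i) 1 + b • Pi.single (π j) 1) := ⟨_, rfl⟩
  obtain ⟨u1, u2, u3⟩ := C.plane_u b (π.injective.ne hij)
  have hgy : act g y = Pi.single (π i) 1 + b • Pi.single (π j) 1 := by rw [hy, act_act_inv]
  have hd0 : ∀ k, d k ≠ 0 := fun k e => by
    have := hd (act g⁻¹ (Pi.single (π k) 1)) k
    rw [act_act_inv, e, zero_mul] at this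
    simp at this
  have hy0 : ∀ k, k ≠ i → k ≠ j → y k = 0 := fun k hk hk' => by
    have := hd y k
    rw [hgy, u3 _ (π.injective.ne hk) (π.injective.ne hk')] at this
    exact (mul_eq_zero.1 this.symm).resolve_left (hd0 k)
  have hiso : herm σ y y = 0 := by
    rw [← mem_uiso.1 (C.iso hg), hgy, C.herm_two (π.injective.ne hij) u3, u1, u2, map_one, mul_one, hb,
      add_neg_cancel]
  rw [C.herm_two hij hy0] at hiso
  exact hgy ▸ rootIn_conj C.hU hg (C.iso hg) (C.plane_vec hij h hy0 hiso)

variable [DecidableEq β] {κ : Type} (e : ι ≃ β × κ) (he : ∀ i, blk i = (e i).1)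
include e he

/-- one plane across two blocks gives every plane -/
theorem planes_of_cross {i i' : ι} (hii : blk i ≠ blk i') (h : PlaneIn C i i') :
    ∀ j j', j ≠ j' → PlaneIn C j j' := by
  intro j j' hjj
  by_cases hb : blk j = blk j'
  · exact C.plane_block hjj hb
  obtain ⟨τ, hτ, hτ'⟩ : ∃ τ : Equiv.Perm β, τ (blk i) = blk j ∧ τ (blk i') = blk j' := by
    refine ⟨(Equiv.swap (blk i) (blk j)).trans (Equiv.swap (Equiv.swap (blk i) (blk j) (blk i')) (blk j')), ?_, by simp⟩
    rw [Equiv.trans_apply, Equiv.swap_apply_left, Equiv.swap_apply_of_ne_of_ne ?_ hb]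
    intro e'
    have := congrArg (Equiv.swap (blk i) (blk j)) e'
    rw [Equiv.swap_apply_right, Equiv.swap_apply_self] at this
    exact hii this
  obtain ⟨π, hπ⟩ : ∃ π : Equiv.Perm ι, π = e.trans ((τ.prodCongr (Equiv.refl κ)).trans e.symm) := ⟨_, rfl⟩
  have hblk : ∀ k, blk (π k) = τ (blk k) := fun k => by simp [hπ, he]
  obtain ⟨g, hg, s, -, hx⟩ := C.exists_perm π i ⟨τ, hblk⟩
  have hne : i ≠ i' := fun e' => hii (congrArg blk e')
  have h1 : PlaneIn C (π i) (π i') := C.plane_map hg π _ hx hne h
  have e1 : blk (π i) = blk j := (hblk i).trans hτ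
  have e2 : blk (π i') = blk j' := (hblk i').trans hτ'
  have hjp : j ≠ π i' := fun e' => hb (by rw [e', e2])
  have h2 : PlaneIn C j (π i') := by
    rcases eq_or_ne j (π i) with e' | hne'
    · exact e' ▸ h1
    · exact C.plane_trans hne' (π.injective.ne hne) hjp (C.plane_block hne' e1.symm) h1
  rcases eq_or_ne (π i') j' with e' | hne'
  · exact e' ▸ h2
  · exact C.plane_trans hjp hne' hjj h2 (C.plane_block hne' e2)

omit [DecidableEq β] in
/-- blocks of size at least two: an element outside the stabiliser gives a crossing plane -/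
theorem exists_cross [Finite β] [Nontrivial κ] {g : GL ι F} (hg : g ∈ M) (hgP : ¬ Perms blk g) :
    ∃ i i', blk i ≠ blk i' ∧ PlaneIn C i i' := by
  classical
  have hgI := C.iso hg
  have hpart : ∀ i : ι, ∃ j, j ≠ i ∧ blk j = blk i := fun i => by
    obtain ⟨c, hc⟩ := exists_ne (e i).2
    exact ⟨e.symm ((e i).1, c), fun h' => hc (by rw [← h']; simp), by simp [he]⟩
  obtain ⟨v, hv, a, a', hva, hva', haa⟩ : ∃ v, RootIn C.hU M v ∧ ∃ a a', v a ≠ 0 ∧ v a' ≠ 0 ∧ blk a ≠ blk a' := by
    by_contra hno
    push Not at hno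
    refine hgP ?_
    have hone : ∀ i j, i ≠ j → blk i = blk j → ∀ a a', act g (Pi.single i 1) a ≠ 0 →
        (act g (Pi.single j 1) a' ≠ 0 ∨ act g (Pi.single i 1) a' ≠ 0) → blk a = blk a' := by
      intro i j hij hb a a' ha ha'
      obtain ⟨b₁, b₂, b₃, n₁, n₂, n₃, h12, h13, h23⟩ := C.exists_three
      set x := act g (Pi.single i 1)
      set y := act g (Pi.single j 1)
      have him : ∀ b, b * σ b = -1 → RootIn C.hU M (x + b • y) := fun b hb' => by
        have := rootIn_conj C.hU hg hgI (C.plane_block hij hb b hb')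
        rwa [map_add, map_smul] at this
      -- the images for two values of `b` are not orthogonal, so lie in one block
      have hpair : ∀ b b', b * σ b = -1 → b' * σ b' = -1 → b ≠ b' → ∀ a a', (x + b • y) a ≠ 0 →
          (x + b' • y) a' ≠ 0 → blk a = blk a' := by
        intro b b' hb hb' hne a a' h1 h2
        have h3 : herm σ (x + b • y) (x + b' • y) = 1 + b * σ b' := by
          have hyy : herm σ y y = 1 := by rw [mem_uiso.1 hgI, C.herm_single_left, Pi.single_eq_same, map_one]
          have hxx : herm σ x x = 1 := by rw [mem_uiso.1 hgI, C.herm_single_left, Pi.single_eq_same, map_one]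
          have hxy : herm σ x y = 0 := by
            rw [mem_uiso.1 hgI, C.herm_single_left, Pi.single_eq_of_ne hij, map_zero]
          rw [add_left C.hU, add_right C.hU, add_right C.hU, smul_left C.hU, smul_left C.hU, smul_right C.hU,
            smul_right C.hU, hxx, hyy, hxy, eq_zero_symm C.hU hxy]
          ring
        have h4 : herm σ (x + b • y) (x + b' • y) ≠ 0 := by
          rw [h3]
          intro h0
          refine hne (mul_right_cancel₀ (b := σ b') (fun h => by simp [h] at hb') ?_)
          rw [hb', eq_neg_of_add_eq_zero_right h0]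
        obtain ⟨k, -, hk⟩ := Finset.exists_ne_zero_of_sum_ne_zero h4
        rw [mul_ne_zero_iff, map_ne_zero] at hk
        exact (hno _ (him b hb) _ _ h1 hk.1).trans (hno _ (him b' hb') _ _ hk.2 h2)
      -- a coordinate of `x` or `y` survives in one of any two images
      have surv : ∀ a, (x a ≠ 0 ∨ y a ≠ 0) → ∀ b b' : F, b ≠ b' → (x + b • y) a ≠ 0 ∨ (x + b' • y) a ≠ 0 := by
        intro a ha b b' hne
        by_contra hno'
        push Not at hno'
        simp only [Pi.add_apply, Pi.smul_apply, smul_eq_mul] at hno'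
        have hy0 : y a = 0 := by
          by_contra hy
          exact hne (mul_right_cancel₀ hy (by linear_combination hno'.1 - hno'.2))
        rw [hy0, mul_zero, add_zero] at hno'
        exact ha.elim (fun h => h hno'.1) (fun h => h hy0)
      have surv' : ∀ a, (x a ≠ 0 ∨ y a ≠ 0) → ∀ b, b * σ b = -1 → ∃ b', b' * σ b' = -1 ∧ b' ≠ b ∧ (x + b' • y) a ≠ 0 := by
        intro a ha b hb
        rcases eq_or_ne b b₁ with rfl | h1
        · rcases surv a ha b₂ b₃ h23 with h | h
          exacts [⟨b₂, n₂, h12.symm, h⟩, ⟨b₃, n₃, h13.symm, h⟩]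
        rcases eq_or_ne b b₂ with rfl | h2
        · rcases surv a ha b₁ b₃ h13 with h | h
          exacts [⟨b₁, n₁, h12, h⟩, ⟨b₃, n₃, h23.symm, h⟩]
        · rcases surv a ha b₁ b₂ h12 with h | h
          exacts [⟨b₁, n₁, h1.symm, h⟩, ⟨b₂, n₂, h2.symm, h⟩]
      have hane : x a' ≠ 0 ∨ y a' ≠ 0 := ha'.symm
      obtain ⟨b, hb', -, hab⟩ := surv' a (Or.inl ha) b₁ n₁
      obtain ⟨b', hb'', hne, hab'⟩ := surv' a' hane b hb'
      exact hpair b b' hb' hb'' (Ne.symm hne) a a' hab hab'
    have hcol : ∀ i, ∃ a, act g (Pi.single i 1) a ≠ 0 := fun i => by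
      by_contra hall; push Not at hall
      have := act_injective g ((funext hall : act g (Pi.single i 1) = 0).trans (map_zero _).symm)
      simpa using congrFun this i
    choose rep hrep using hcol
    have hsame : ∀ i j, blk i = blk j → ∀ a, act g (Pi.single j 1) a ≠ 0 → blk a = blk (rep i) := by
      intro i j hb a ha
      rcases eq_or_ne i j with rfl | hij
      · obtain ⟨j', hj', hb'⟩ := hpart i
        exact hone i j' hj'.symm hb'.symm a (rep i) ha (Or.inr (hrep i))
      · exact (hone i j hij hb _ a (hrep i) (Or.inl ha)).symm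
    obtain ⟨c₀⟩ : Nonempty κ := inferInstance
    let f : β → β := fun l => blk (rep (e.symm (l, c₀)))
    have hf : ∀ j a, act g (Pi.single j 1) a ≠ 0 → blk a = f (blk j) := fun j a ha =>
      hsame _ j (by simp [he]) a ha
    have hsurj : Function.Surjective f := by
      intro l
      obtain ⟨j, hj⟩ : ∃ j, act g (Pi.single j 1) (e.symm (l, c₀)) ≠ 0 := by
        by_contra hall; push Not at hall
        have h0 : ∀ x, act g x (e.symm (l, c₀)) = 0 := fun x => by
          conv_lhs => rw [Monom.eq_sum_single x, map_sum, Finset.sum_apply]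
          exact Finset.sum_eq_zero fun j _ => by simp [map_smul, hall j]
        have := h0 (act g⁻¹ (Pi.single (e.symm (l, c₀)) 1))
        rw [act_act_inv] at this
        simp at this
      exact ⟨blk j, by rw [← hf j _ hj]; simp [he]⟩
    exact ⟨Equiv.ofBijective f ⟨Finite.injective_iff_surjective.2 hsurj, hsurj⟩, hf⟩
  obtain ⟨j, hja, hjb⟩ := hpart a
  have hκ : σ (-(v a' * σ (v a'))) = -(v a' * σ (v a')) := by rw [map_neg, C.norm_fixed]
  obtain ⟨m, hm, hout, hnorm⟩ := C.plane_redistribute hja.symm (C.plane_block hja.symm hjb.symm) hva hκ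
    (neg_ne_zero.2 (C.norm_ne_zero hva'))
  have ha'j : a' ≠ j := fun e' => haa (by rw [e', hjb])
  have ha'a : a' ≠ a := fun e' => haa (by rw [e'])
  refine ⟨a, a', haa, C.plane_of_cancel (rootIn_conj C.hU hm (C.iso hm) hv) ha'a.symm ?_ ?_⟩
  · rw [hnorm, hout a' ha'a ha'j, neg_add_cancel]
  · intro h0
    rw [h0, zero_mul, eq_comm, neg_eq_zero] at hnorm
    exact C.norm_ne_zero hva' hnorm

omit [DecidableEq β] e he in
/-- `q = 2`: a non-monomial element of `M` gives a root group of weight at least four -/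
theorem four_of_not_mono (h2 : q = 2) (hP : ∀ i j, i ≠ j → PlaneIn C i j) {g : GL ι F} (hg : g ∈ M)
    (hgm : ¬ IsMono g) : ∃ u, RootIn C.hU M u ∧ 4 ≤ (supp u).card := by
  classical
  by_contra hno
  push Not at hno
  have hgI := C.iso hg
  set x : ι → ι → F := fun i => act g (Pi.single i 1)
  have hxx : ∀ i, herm σ (x i) (x i) = 1 := fun i => by
    rw [mem_uiso.1 hgI, C.herm_single_left, Pi.single_eq_same, map_one]
  have hodd : ∀ i, Odd (supp (x i)).card := fun i => by
    have h := hxx i
    rw [C.herm_self_supp, Finset.sum_congr rfl fun k hk => C.norm_two h2 (mem_supp.1 hk), Finset.sum_const,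
      nsmul_one] at h
    by_contra ho
    obtain ⟨c, hc⟩ := Nat.not_odd_iff_even.1 ho
    rw [hc] at h
    push_cast at h
    exact zero_ne_one (show (0 : F) = 1 by linear_combination h - (c : F) * C.char_two h2)
  obtain ⟨z, hz, hz1, hzs, hzz⟩ := C.root_two h2
  have hn1 : (-1 : F) = 1 := by linear_combination -C.char_two h2
  have hw : ∀ i j, i ≠ j → ∀ b : F, b * σ b = 1 → (supp (x i + b • x j)).card = 2 := by
    intro i j hij b hb
    have hu := rootIn_conj C.hU hg hgI (hP i j hij b (by rw [hb, hn1]))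
    rw [map_add, map_smul] at hu
    change RootIn C.hU M (x i + b • x j) at hu
    have hne : x i + b • x j ≠ 0 := fun h0 => by
      have h1 : act g (Pi.single i 1 + b • Pi.single j 1) = 0 := by rw [map_add, map_smul]; exact h0
      have := congrFun (act_injective g (h1.trans (map_zero _).symm)) i
      simp [hij] at this
    have h1 := C.iso_weight hu.1 hne
    have h2' := hno _ hu
    obtain ⟨c, hc⟩ := C.even_weight h2 hu.1
    omega
  -- two columns: both monomial or the same support of size three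
  have hpair : ∀ i j, i ≠ j → ((supp (x i)).card = 1 ∧ (supp (x j)).card = 1) ∨
      (supp (x i) = supp (x j) ∧ (supp (x i)).card = 3) := by
    intro i j hij
    set X := supp (x i)
    set Y := supp (x j)
    have hz0 := C.norm_one_ne_zero hz
    have hzz' : z ≠ σ z := fun e' => by
      rw [← e'] at hzz; exact zero_ne_one (by linear_combination hzz - z * C.char_two h2)
    obtain ⟨B, hB, hBc, hBn⟩ : ∃ B : Finset F, B = {1, z, σ z} ∧ B.card = 3 ∧ ∀ b ∈ B, b * σ b = 1 := by
      refine ⟨_, rfl, by simp [Ne.symm hz1, Ne.symm hzs, hzz'], fun b hb => ?_⟩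
      simp only [Finset.mem_insert, Finset.mem_singleton] at hb
      rcases hb with rfl | rfl | rfl
      · simp
      · exact hz
      · rw [C.sigma_sigma, mul_comm, hz]
    have hcount : ∑ b ∈ B, (supp (x i + b • x j)).card = 6 := by
      rw [Finset.sum_congr rfl fun b hb => hw i j hij b (hBn b hb), Finset.sum_const, hBc]; rfl
    have hk : ∀ k, (B.filter fun b => (x i + b • x j) k ≠ 0).card =
        if k ∈ X ∩ Y then 2 else if k ∈ X ∪ Y then 3 else 0 := by
      intro k
      by_cases hx : x i k = 0 <;> by_cases hy : x j k = 0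
      · simp [X, Y, hx, hy]
      · have : (B.filter fun b => (x i + b • x j) k ≠ 0) = B := Finset.filter_true_of_mem fun b hb => by
          simp [hx, hy, C.norm_one_ne_zero (hBn b hb)]
        rw [this]; simp [X, Y, hx, hy, hBc]
      · have : (B.filter fun b => (x i + b • x j) k ≠ 0) = B := Finset.filter_true_of_mem fun b _ => by simp [hx, hy]
        rw [this]; simp [X, Y, hx, hy, hBc]
      · have hr : x i k / x j k ≠ 0 := div_ne_zero hx hy
        have : (B.filter fun b => (x i + b • x j) k ≠ 0) = B.erase (x i k / x j k) := by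
          ext b
          simp only [Finset.mem_filter, Finset.mem_erase, Pi.add_apply, Pi.smul_apply, smul_eq_mul]
          constructor
          · rintro ⟨hb, hne⟩
            refine ⟨fun e' => hne ?_, hb⟩
            rw [e', div_mul_cancel₀ _ hy]
            linear_combination x i k * C.char_two h2
          · rintro ⟨hne, hb⟩
            refine ⟨hb, fun h0 => hne ?_⟩
            rw [eq_div_iff hy]
            linear_combination h0 - x i k * C.char_two h2
        rw [this, Finset.card_erase_of_mem ?_, hBc]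
        · simp [X, Y, hx, hy]
        · rw [hB]
          simp only [Finset.mem_insert, Finset.mem_singleton]
          have h3 := C.norm_two h2 hr
          rw [C.hq.apply_eq, h2] at h3
          have : (x i k / x j k - 1) * ((x i k / x j k - z) * (x i k / x j k - σ z)) = 0 := by
            have e1 : z * σ z = 1 := hz
            linear_combination h3 + (x i k / x j k) ^ 2 * (-hzz) + (x i k / x j k) * (hzz + e1) + (-1 : F) * e1 -
              (x i k / x j k) ^ 2 * C.char_two h2 + (x i k / x j k) * C.char_two h2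
          rcases mul_eq_zero.1 this with h | h
          · exact Or.inl (sub_eq_zero.1 h)
          rcases mul_eq_zero.1 h with h | h
          · exact Or.inr (Or.inl (sub_eq_zero.1 h))
          · exact Or.inr (Or.inr (sub_eq_zero.1 h))
    have hsw : ∑ b ∈ B, (supp (x i + b • x j)).card = ∑ k, (B.filter fun b => (x i + b • x j) k ≠ 0).card := by
      simp only [supp, Finset.card_filter]
      rw [Finset.sum_comm]
    rw [hsw, Finset.sum_congr rfl fun k _ => hk k] at hcount
    have hsplit : ∑ k, (if k ∈ X ∩ Y then 2 else if k ∈ X ∪ Y then 3 else 0) =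
        2 * (X ∩ Y).card + 3 * ((X ∪ Y) \ (X ∩ Y)).card := by
      rw [← Finset.sum_subset (Finset.subset_univ (X ∪ Y)) fun k _ hk => by
        rw [if_neg fun h => hk (Finset.mem_union_left _ (Finset.mem_inter.1 h).1), if_neg hk],
        ← Finset.sum_sdiff (Finset.inter_subset_union (s := X) (t := Y)), Finset.sum_congr rfl fun k hk => by
          rw [if_neg (Finset.mem_sdiff.1 hk).2, if_pos (Finset.mem_sdiff.1 hk).1],
        Finset.sum_congr rfl fun k hk => if_pos hk]
      simp only [Finset.sum_const, smul_eq_mul]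
      ring
    rw [hsplit, Finset.card_sdiff_of_subset Finset.inter_subset_union] at hcount
    have hu := Finset.card_union_add_card_inter X Y
    have hiX := Finset.card_le_card (Finset.inter_subset_left (s₁ := X) (s₂ := Y))
    have hiY := Finset.card_le_card (Finset.inter_subset_right (s₁ := X) (s₂ := Y))
    obtain ⟨cX, hcX⟩ := hodd i
    obtain ⟨cY, hcY⟩ := hodd j
    change X.card = _ at hcX
    change Y.card = _ at hcY
    by_cases h3 : (X ∩ Y).card = 3
    · right
      exact ⟨((Finset.eq_of_subset_of_card_le Finset.inter_subset_left (by omega)).symm.trans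
        (Finset.eq_of_subset_of_card_le Finset.inter_subset_right (by omega))), by omega⟩
    · left; omega
  obtain ⟨i, hi⟩ := not_forall.1 hgm
  have hall : ∀ j, supp (x j) = supp (x i) ∧ (supp (x i)).card = 3 := fun j => by
    obtain ⟨j', hj'⟩ := Fintype.exists_ne_of_one_lt_card (by have := C.hn; omega) i
    have h3 : (supp (x i)).card = 3 := by
      rcases hpair i j' hj'.symm with h | h
      · exact absurd h.1.le hi
      · exact h.2
    rcases eq_or_ne j i with rfl | hji
    · exact ⟨rfl, h3⟩
    · rcases hpair i j hji.symm with h | h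
      · exact absurd h.1 (by omega)
      · exact ⟨h.1.symm, h3⟩
  obtain ⟨m, -, hm⟩ := Finset.exists_mem_notMem_of_card_lt_card (s := supp (x i)) (t := Finset.univ) (by
    rw [Finset.card_univ, (hall i).2]; have := C.hn; omega)
  have h0 : ∀ v, act g v m = 0 := fun v => by
    conv_lhs => rw [Monom.eq_sum_single v, map_sum, Finset.sum_apply]
    refine Finset.sum_eq_zero fun j _ => ?_
    have : m ∉ supp (x j) := (hall j).1 ▸ hm
    rw [map_smul, Pi.smul_apply, show act g (Pi.single j 1) m = 0 by simpa [x] using this, smul_zero]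
  have := h0 (act g⁻¹ (Pi.single m 1))
  rw [act_act_inv] at this
  simp at this

omit [DecidableEq β] e he in
/-- the stabiliser is not everything -/
theorem exists_not_perms {i i' j : ι} (hii : blk i ≠ blk i') (hij : i ≠ j) (hi'j : i' ≠ j)
    (hj : blk j ≠ blk i') : ∃ g ∈ SUc σ, ¬ Perms blk g := by
  have hne : i ≠ i' := fun e' => hii (congrArg blk e')
  by_cases h2 : q = 2
  · obtain ⟨j', -, hj'⟩ := Finset.exists_mem_notMem_of_card_lt_card (s := ({i, i', j} : Finset ι)) (t := Finset.univ) (by
      rw [Finset.card_univ]; have := Finset.card_le_three (a := i) (b := i') (c := j); have := C.hn; omega)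
    simp only [Finset.mem_insert, Finset.mem_singleton, not_or] at hj'
    obtain ⟨u, hu⟩ : ∃ u : ι → F, u = fun k => if k ∈ ({i, i', j, j'} : Finset ι) then 1 else 0 := ⟨_, rfl⟩
    have huu : herm σ u u = 0 := by
      rw [C.herm_supp ({i, i', j, j'} : Finset ι) fun k hk => by rw [hu]; exact if_neg hk,
        Finset.sum_congr rfl fun k hk => show u k * σ (u k) = 1 by simp only [hu, if_pos hk, map_one, mul_one],
        Finset.sum_const, nsmul_one]
      simp [hne, hij, hi'j, Ne.symm hj'.1, Ne.symm hj'.2.1, Ne.symm hj'.2.2]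
      linear_combination (2 : F) * C.char_two h2
    have h1 : (1 : F) + σ 1 = 0 := by rw [map_one, one_add_one_eq_two, C.char_two h2]
    refine ⟨utv C.hU u 1, ⟨utv_mem C.hU huu h1, det_ptv C.hU (by rw [smul_right C.hU, huu, mul_zero])⟩, ?_⟩
    rintro ⟨π, hπ⟩
    have hval : ∀ k, k ≠ i → k ∈ ({i, i', j, j'} : Finset ι) →
        act (utv C.hU u 1) (Pi.single i 1) k ≠ 0 := fun k hk hk' => by
      rw [act_utv C.hU huu, C.herm_single_left]
      simp only [hu, Pi.add_apply, Pi.smul_apply, Pi.single_eq_of_ne hk, if_pos hk', Finset.mem_insert_self,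
        if_true, map_one]
      simp
    exact hj ((hπ i j (hval j hij.symm (by simp))).trans (hπ i i' (hval i' hne.symm (by simp))).symm)
  · obtain ⟨b, hb⟩ := exists_norm C.hU.involutive C.hU.ne_refl (-1) (by simp)
    obtain ⟨c, hc0, hc, hc1⟩ : ∃ c : F, c ≠ 0 ∧ c + σ c = 0 ∧ 1 + c ≠ 0 := by
      obtain ⟨δ, hδ0, hδ⟩ := exists_skew C.hU.ne_refl C.hU.involutive
      by_cases h1 : 1 + δ = 0
      · obtain ⟨κ', hκ, hκ0, hκ1⟩ := C.exists_fixed_ne h2 1
        refine ⟨δ * κ', mul_ne_zero hδ0 hκ0, by rw [map_mul, hκ]; linear_combination κ' * hδ, fun h => hκ1 ?_⟩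
        linear_combination κ' * h1 - h
      · exact ⟨δ, hδ0, hδ, h1⟩
    obtain ⟨u1, u2, u3⟩ := C.plane_u b hne
    have huu : herm σ (Pi.single i 1 + b • Pi.single i' 1) (Pi.single i 1 + b • Pi.single i' 1) = 0 := by
      rw [C.herm_two hne u3, u1, u2, map_one, mul_one, hb, add_neg_cancel]
    refine ⟨utv C.hU _ c, ⟨utv_mem C.hU huu hc, det_ptv C.hU (by rw [smul_right C.hU, huu, mul_zero])⟩, ?_⟩
    rintro ⟨π, hπ⟩
    have hb0 : b ≠ 0 := fun e' => by simp [e'] at hb
    refine hii ((hπ i i ?_).trans (hπ i i' ?_).symm) <;>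
      rw [act_utv C.hU huu, C.herm_single_left, u1, map_one, mul_one, Pi.add_apply, Pi.smul_apply]
    · rw [u1, Pi.single_eq_same, smul_eq_mul, mul_one]; exact hc1
    · rw [u2, Pi.single_eq_of_ne hne.symm, zero_add, smul_eq_mul]; exact mul_ne_zero hc0 hb0

end Ctx

end Cfsg.Agent.MaxCl.Unit
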