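/-
Overgroups of the monomial group in the special unitary group: zero entries give a mixed pair of reflections.
-/
import Mathlib
import Cfsg.Agent.Lib.MaxCl.UnitaryCross

set_option autoImplicit false

namespace Cfsg.Agent.MaxCl.Unit

open scoped MatrixGroups Matrix

variable {ι : Type} [Fintype ι] [DecidableEq ι] {F : Type*} [Field F] [Fintype F]
variable {σ : F ≃+* F} {q : ℕ} {M : Subgroup (GL ι F)}

/-- the quasi-reflection with centre `x` and eigenvalue `α`, where it exists -/
noncomputable def qr (hU : Cfsg.Geo.IsUnitaryForm σ (herm (ι := ι) σ)) (α : F) (x : ι → F) : GL ι F := by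
  classical
  exact if h : herm σ x x ≠ 0 ∧ α * σ α = 1 then (exists_qref hU h.1 h.2).choose else 1

namespace Ctx

variable (C : Ctx σ q (id : ι → ι) M)
include C

/-- a vector paired with a coordinate line -/
def Mixed (_C : Ctx σ q (id : ι → ι) M) (α : F) : Prop :=
  ∃ (x : ι → F) (l : ι), herm σ x x = 1 ∧ x l = 0 ∧ 2 ≤ (supp x).card ∧
    qr _C.hU α x * (qr _C.hU α (Pi.single l 1))⁻¹ ∈ M

theorem herm_single_self (i : ι) : herm σ (Pi.single i (1 : F)) (Pi.single i 1) = 1 := by
  rw [C.herm_single_left, Pi.single_eq_same, map_one]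

theorem act_qr {α : F} (hα : α * σ α = 1) {x : ι → F} (hx : herm σ x x = 1) (z : ι → F) :
    act (qr C.hU α x) z = z + ((α - 1) * herm σ z x) • x := by
  have h : herm σ x x ≠ 0 ∧ α * σ α = 1 := ⟨by rw [hx]; exact one_ne_zero, hα⟩
  rw [qr, dif_pos h, (exists_qref C.hU h.1 h.2).choose_spec.2 z, hx, div_one]

theorem qr_iso {α : F} (hα : α * σ α = 1) {x : ι → F} (hx : herm σ x x = 1) :
    qr C.hU α x ∈ uiso (herm (ι := ι) σ) := by
  have h : herm σ x x ≠ 0 ∧ α * σ α = 1 := ⟨by rw [hx]; exact one_ne_zero, hα⟩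
  rw [qr, dif_pos h]; exact (exists_qref C.hU h.1 h.2).choose_spec.1

theorem qr_conj {α : F} (hα : α * σ α = 1) {x : ι → F} (hx : herm σ x x = 1) {g : GL ι F}
    (hg : g ∈ uiso (herm (ι := ι) σ)) : g * qr C.hU α x * g⁻¹ = qr C.hU α (act g x) := by
  apply gl_ext; intro z
  rw [act_mul, act_mul, C.act_qr hα hx, C.act_qr hα (by rw [mem_uiso.1 hg, hx]), map_add, map_smul, act_act_inv]
  congr 3
  rw [← mem_uiso.1 hg, act_act_inv]

theorem qr_smul {α : F} (hα : α * σ α = 1) {x : ι → F} (hx : herm σ x x = 1) {s : F} (hs : s * σ s = 1) :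
    qr C.hU α (s • x) = qr C.hU α x := by
  have hsx : herm σ (s • x) (s • x) = 1 := by rw [smul_left C.hU, smul_right C.hU, hx, mul_one, hs]
  apply gl_ext; intro z
  rw [C.act_qr hα hsx, C.act_qr hα hx, smul_right C.hU, smul_smul]
  congr 2
  linear_combination ((α - 1) * herm σ z x) * hs

theorem qr_single {α : F} (hα : α * σ α = 1) (i : ι) (z : ι → F) (k : ι) :
    act (qr C.hU α (Pi.single i 1)) z k = if k = i then α * z k else z k := by
  rw [C.act_qr hα (C.herm_single_self i), C.herm_single_right]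
  by_cases h : k = i
  · subst h; simp; ring
  · simp [h]

theorem qr_pair_eq {α : F} (hα : α * σ α = 1) {i j : ι} (hij : i ≠ j) {h : GL ι F}
    (hx : ∀ x k, act h x k = (if k = i then α else if k = j then σ α else 1) * x k) :
    h = qr C.hU α (Pi.single i 1) * (qr C.hU α (Pi.single j 1))⁻¹ := by
  rw [eq_mul_inv_iff_mul_eq]
  apply gl_ext; intro z
  funext k
  rw [act_mul, hx, C.qr_single hα, C.qr_single hα]
  by_cases h1 : k = i
  · subst h1; simp [hij]
  by_cases h2 : k = j
  · subst h2; simp [h1]; rw [← mul_assoc, mul_comm (σ α), hα, one_mul]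
  · simp [h1, h2]

theorem qr_pair_mem {α : F} (hα : α * σ α = 1) (i j : ι) :
    qr C.hU α (Pi.single i 1) * (qr C.hU α (Pi.single j 1))⁻¹ ∈ M := by
  rcases eq_or_ne i j with rfl | hij
  · rw [mul_inv_cancel]; exact M.one_mem
  obtain ⟨h, hh, hx⟩ := C.exists_phase hij hα
  exact C.qr_pair_eq hα hij hx ▸ hh

theorem col_norm {g : GL ι F} (hg : g ∈ M) (a b : ι) :
    herm σ (act g (Pi.single a 1)) (act g (Pi.single b 1)) = if a = b then 1 else 0 := by
  rw [mem_uiso.1 (C.iso hg), C.herm_single_left]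
  by_cases h : a = b
  · subst h; simp
  · simp [h]

theorem supp_pos {g : GL ι F} (hg : g ∈ M) (a : ι) : 0 < (supp (act g (Pi.single a 1))).card := by
  rw [Finset.card_pos]
  by_contra h
  rw [Finset.not_nonempty_iff_eq_empty] at h
  have := C.col_norm hg a a
  rw [if_pos rfl, C.herm_self_supp, h, Finset.sum_empty] at this
  exact zero_ne_one this

theorem mono_col {g : GL ι F} (hg : g ∈ M) {a : ι} (h : (supp (act g (Pi.single a 1))).card ≤ 1) :
    ∃ (l : ι) (s : F), s * σ s = 1 ∧ act g (Pi.single a 1) = s • Pi.single l 1 := by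
  obtain ⟨l, hl⟩ := Finset.card_eq_one.1 (le_antisymm h (C.supp_pos hg a))
  refine ⟨l, act g (Pi.single a 1) l, ?_, funext fun k => ?_⟩
  · have := C.col_norm hg a a
    rwa [if_pos rfl, C.herm_self_supp, hl, Finset.sum_singleton] at this
  · by_cases hk : k = l
    · subst hk; simp
    · have : k ∉ supp (act g (Pi.single a 1)) := by simp [hl, hk]
      simp only [mem_supp, not_not] at this
      simp [this, hk]

variable {α : F} (hα : α * σ α = 1)
include hα

theorem mixed_of_col {g : GL ι F} (hg : g ∈ M) (hgm : ¬ IsMono g) {a : ι}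
    (ha : (supp (act g (Pi.single a 1))).card ≤ 1) : C.Mixed α := by
  obtain ⟨l, s, hs, he⟩ := C.mono_col hg ha
  obtain ⟨b, hb⟩ := not_forall.1 hgm
  have hab : b ≠ a := fun e => hb (e ▸ ha)
  have hbb : herm σ (act g (Pi.single b 1)) (act g (Pi.single b 1)) = 1 := by rw [C.col_norm hg, if_pos rfl]
  refine ⟨act g (Pi.single b 1), l, hbb, ?_, by omega, ?_⟩
  · have := C.col_norm hg b a
    rw [if_neg hab, he, smul_right C.hU, C.herm_single_right] at this
    exact (mul_eq_zero.1 this).resolve_left ((map_ne_zero σ).2 (C.norm_one_ne_zero hs))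
  · have := M.mul_mem (M.mul_mem hg (C.qr_pair_mem hα b a)) (M.inv_mem hg)
    rwa [show g * (qr C.hU α (Pi.single b 1) * (qr C.hU α (Pi.single a 1))⁻¹) * g⁻¹ =
      (g * qr C.hU α (Pi.single b 1) * g⁻¹) * (g * qr C.hU α (Pi.single a 1) * g⁻¹)⁻¹ by group,
      C.qr_conj hα (C.herm_single_self b) (C.iso hg), C.qr_conj hα (C.herm_single_self a) (C.iso hg), he,
      C.qr_smul hα (C.herm_single_self l) hs] at this

variable (hα2 : α ^ 2 ≠ 1) (hα3 : α ^ 3 ≠ 1)
include hα2

omit C in
theorem alpha_ne_sigma : σ α ≠ α := fun e => hα2 (by rw [e] at hα; rw [sq, hα])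

omit C in
theorem alpha_ne_one : α ≠ 1 := fun e => hα2 (by rw [e, one_pow])

include hα3

/-- a column with three zeros -/
theorem mixed_of_zeros {g : GL ι F} (hg : g ∈ M) (hgm : ¬ IsMono g) {a k l m : ι} (hkl : k ≠ l) (hkm : k ≠ m)
    (hlm : l ≠ m) (hk : act g (Pi.single a 1) k = 0) (hl : act g (Pi.single a 1) l = 0)
    (hm : act g (Pi.single a 1) m = 0) : C.Mixed α := by
  by_contra hno
  obtain ⟨c, hck⟩ : ∃ c, act g (Pi.single c 1) k ≠ 0 := by
    by_contra hall; push Not at hall
    have h0 : ∀ x, act g x k = 0 := fun x => by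
      conv_lhs => rw [Monom.eq_sum_single x, map_sum, Finset.sum_apply]
      exact Finset.sum_eq_zero fun j _ => by simp [map_smul, hall j]
    have := h0 (act g⁻¹ (Pi.single k 1))
    rw [act_act_inv] at this
    simp at this
  set w := act g (Pi.single c 1) with hw
  set v := act g (Pi.single a 1) with hv
  have hc2 : 1 < (supp w).card := by
    by_contra h
    exact hno (C.mixed_of_col hα hg hgm (a := c) (Nat.le_of_not_lt h))
  have hww : herm σ w w = 1 := by rw [hw, C.col_norm hg, if_pos rfl]
  -- an element fixing `v` moves `w` to an orthogonal line or fixes its line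
  have key : ∀ h ∈ M, act h v = v → herm σ w (act h w) = 0 ∨ ∃ s : F, act h w = s • w := by
    intro h hh hhv
    have hy : g⁻¹ * h * g ∈ M := M.mul_mem (M.mul_mem (M.inv_mem hg) hh) hg
    have hya : act (g⁻¹ * h * g) (Pi.single a 1) = Pi.single a 1 := by
      rw [act_mul, act_mul, ← hv, hhv, hv, act_inv_act]
    have hmono : IsMono (g⁻¹ * h * g) := by
      by_contra hn
      refine hno (C.mixed_of_col hα hy hn (a := a) ?_)
      rw [hya]
      exact (Finset.card_le_card (t := {a}) fun x hx => by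
        simp only [mem_supp, Finset.mem_singleton] at hx ⊢
        by_contra hxa; exact hx (Pi.single_eq_of_ne hxa _)).trans (Finset.card_singleton a).le
    obtain ⟨c', s, -, hs⟩ := C.mono_col hy (hmono c)
    have e : act h w = s • act g (Pi.single c' 1) := by
      rw [hw, ← map_smul, ← hs, act_mul, act_mul, act_act_inv]
    rcases eq_or_ne c c' with rfl | hne
    · exact Or.inr ⟨s, e⟩
    · exact Or.inl (by rw [e, smul_right C.hU, hw, C.col_norm hg, if_neg hne, mul_zero])
  have fixv : ∀ (ζ : F) (p r : ι), v p = 0 → v r = 0 → ∀ h : GL ι F,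
      (∀ x j, act h x j = (if j = p then ζ else if j = r then σ ζ else 1) * x j) → act h v = v := by
    intro ζ p r hp hr h hx
    funext j
    rw [hx]
    split_ifs with h1 h2
    · rw [h1, hp, mul_zero]
    · rw [h2, hr, mul_zero]
    · rw [one_mul]
  have split : ∀ (ζ : F), ∀ p r, p ≠ r → ∀ h : GL ι F,
      (∀ x j, act h x j = (if j = p then ζ else if j = r then σ ζ else 1) * x j) →
      herm σ w (act h w) = 1 + w p * σ (w p) * (σ ζ - 1) + w r * σ (w r) * (ζ - 1) := by
    intro ζ p r hpr h hx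
    have h1 := C.herm_pair hpr (x := w) (x' := w) (y := act h w) (y' := w) (fun _ _ _ => rfl)
      (fun j hj hj' => by rw [hx, if_neg hj, if_neg hj', one_mul])
    rw [hx, if_pos rfl, hx, if_neg hpr.symm, if_pos rfl, hww, map_mul, map_mul, C.sigma_sigma] at h1
    linear_combination h1
  have hA : w k * σ (w k) ≠ 0 := C.norm_ne_zero hck
  by_cases hz : ∃ r, (r = l ∨ r = m) ∧ w r = 0
  · obtain ⟨r, hr, hwr⟩ := hz
    have hvr : v r = 0 := by rcases hr with rfl | rfl <;> assumption
    have hkr : k ≠ r := fun e => hck (e ▸ hwr)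
    obtain ⟨h, hh, hx⟩ := C.exists_phase hkr hα
    rcases key h hh (fixv α k r hk hvr h hx) with e | ⟨s, e⟩
    · rw [split α k r hkr h hx, hwr] at e
      simp only [zero_mul, add_zero] at e
      have e' := congrArg σ e
      simp only [map_add, map_mul, map_sub, map_one, map_zero, C.sigma_sigma] at e'
      exact mul_ne_zero hA (sub_ne_zero.2 (alpha_ne_sigma hα hα2)) (by linear_combination e - e')
    · obtain ⟨p, hp, hpk⟩ := Finset.exists_mem_ne hc2 k
      have hpr : p ≠ r := fun e => mem_supp.1 hp (e ▸ hwr)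
      have e1 := congrFun e p
      rw [hx, if_neg hpk, if_neg hpr, one_mul, Pi.smul_apply, smul_eq_mul] at e1
      have hs1 : s = 1 := by
        have : (s - 1) * w p = 0 := by linear_combination -e1
        exact sub_eq_zero.1 ((mul_eq_zero.1 this).resolve_right (mem_supp.1 hp))
      have e2 := congrFun e k
      rw [hx, if_pos rfl, Pi.smul_apply, smul_eq_mul, hs1] at e2
      exact alpha_ne_one hα hα2 (mul_right_cancel₀ hck e2)
  · push Not at hz
    have hwl := hz l (Or.inl rfl)
    have hwm := hz m (Or.inr rfl)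
    have orth : ∀ ζ : F, ζ * σ ζ = 1 → ζ ≠ 1 →
        1 + w k * σ (w k) * (σ ζ - 1) + w l * σ (w l) * (ζ - 1) = 0 := by
      intro ζ hζ hζ1
      obtain ⟨h, hh, hx⟩ := C.exists_phase hkl hζ
      rcases key h hh (fixv ζ k l hk hl h hx) with e | ⟨s, e⟩
      · rw [← split ζ k l hkl h hx, e]
      · exfalso
        have e1 := congrFun e m
        rw [hx, if_neg hkm.symm, if_neg hlm.symm, Pi.smul_apply, smul_eq_mul] at e1
        have hs1 : s = 1 := (mul_right_cancel₀ hwm e1).symm
        have e2 := congrFun e k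
        rw [hx, if_pos rfl, Pi.smul_apply, smul_eq_mul, hs1] at e2
        exact hζ1 (mul_right_cancel₀ hck e2)
    have o1 := orth α hα (alpha_ne_one hα hα2)
    have o2 := orth (α * α) (by rw [map_mul, mul_mul_mul_comm, hα, one_mul]) (by rwa [← sq])
    have o1' := congrArg σ o1
    simp only [map_add, map_mul, map_sub, map_one, map_zero, C.sigma_sigma] at o1'
    have hAB : w k * σ (w k) = w l * σ (w l) := by
      refine mul_right_cancel₀ (sub_ne_zero.2 (alpha_ne_sigma hα hα2)) ?_
      linear_combination o1 - o1'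
    rw [← hAB] at o1 o2
    rw [map_mul] at o2
    have hα0 := C.norm_one_ne_zero hα
    have : (α ^ 2 - α) * (α ^ 3 - 1) = 0 := by
      refine mul_left_cancel₀ hA ?_
      linear_combination α ^ 3 * (o2 - o1) - (w k * σ (w k)) * (α * (α * σ α + 1) - α ^ 2) * hα
    rcases mul_eq_zero.1 this with h | h
    · exact alpha_ne_one hα hα2 (mul_left_cancel₀ hα0 (by linear_combination h))
    · exact hα3 (sub_eq_zero.1 h)

/-- two zeros in a row -/
theorem mixed_of_row {g : GL ι F} (hg : g ∈ M) (hgm : ¬ IsMono g) {n a b : ι} (hab : a ≠ b)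
    (ha : act g (Pi.single a 1) n = 0) (hb : act g (Pi.single b 1) n = 0) : C.Mixed α := by
  have hcol : ∀ k c, act g⁻¹ (Pi.single k 1) c = σ (act g (Pi.single c 1) k) := fun k c => by
    rw [← C.herm_single_right (act g⁻¹ (Pi.single k 1)) c, ← mem_uiso.1 (C.iso hg), act_act_inv,
      C.herm_single_left]
  obtain ⟨h, hh, hx⟩ := C.exists_phase hab hα
  set p := g * h * g⁻¹ with hp
  have hpM : p ∈ M := M.mul_mem (M.mul_mem hg hh) (M.inv_mem hg)
  set v := act g (Pi.single a 1) with hv
  set v' := act g (Pi.single b 1) with hv'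
  have himg : ∀ k, act p (Pi.single k 1) = Pi.single k 1 + ((α - 1) * σ (v k)) • v + ((σ α - 1) * σ (v' k)) • v' := by
    intro k
    have hd : act h (act g⁻¹ (Pi.single k 1)) = act g⁻¹ (Pi.single k 1) + ((α - 1) * σ (v k)) • Pi.single a 1 +
        ((σ α - 1) * σ (v' k)) • Pi.single b 1 := by
      funext c
      rw [hx]
      simp only [Pi.add_apply, Pi.smul_apply, smul_eq_mul]
      rcases eq_or_ne c a with rfl | h1
      · simp [hab, hcol, hv]; ring
      rcases eq_or_ne c b with rfl | h2
      · simp [h1, hcol, hv']; ring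
      · simp [h1, h2]
    rw [hp, act_mul, act_mul, hd, map_add, map_add, map_smul, map_smul, act_act_inv]
  by_cases hpm : IsMono p
  swap
  · refine C.mixed_of_col hα hpM hpm (a := n) ?_
    rw [himg, ha, hb, map_zero, mul_zero, mul_zero, zero_smul, zero_smul, add_zero, add_zero]
    exact (Finset.card_le_card (t := {n}) fun x hx => by
      simp only [mem_supp, Finset.mem_singleton] at hx ⊢
      by_contra hxn; exact hx (Pi.single_eq_of_ne hxn _)).trans (Finset.card_singleton n).le
  -- now `v` has small support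
  obtain ⟨k₁, hk₁⟩ : ∃ k, v k ≠ 0 := by
    obtain ⟨k, hk⟩ := Finset.card_pos.1 (C.supp_pos hg a)
    exact ⟨k, mem_supp.1 hk⟩
  obtain ⟨k₂, hk₂⟩ : ∃ k, v k₁ * v' k ≠ v k * v' k₁ := by
    by_contra hall; push Not at hall
    have e : v' = (v' k₁ / v k₁) • v := funext fun k => by
      rw [Pi.smul_apply, smul_eq_mul, div_mul_eq_mul_div, eq_div_iff hk₁]
      linear_combination hall k
    have h0 : herm σ v v' = 0 := by rw [hv, hv', C.col_norm hg, if_neg hab]
    rw [e, smul_right C.hU, hv, C.col_norm hg, if_pos rfl, mul_one, map_eq_zero] at h0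
    have h1 := C.col_norm hg b b
    rw [← hv', if_pos rfl, e, h0, zero_smul, zero_left C.hU] at h1
    exact zero_ne_one h1
  have hsmall : ∀ k, (supp (act p (Pi.single k 1) - Pi.single k 1)).card ≤ 2 := fun k => by
    refine (Finset.card_le_card (t := supp (act p (Pi.single k 1)) ∪ {k}) fun x hx => ?_).trans
      ((Finset.card_union_le _ _).trans (by rw [Finset.card_singleton]; exact Nat.add_le_add_right (hpm k) 1))
    rw [mem_supp, Pi.sub_apply] at hx
    rw [Finset.mem_union, Finset.mem_singleton, mem_supp]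
    by_cases h1 : x = k
    · exact Or.inr h1
    · left; rwa [Pi.single_eq_of_ne h1, sub_zero] at hx
  have hsub : supp v ⊆ supp (act p (Pi.single k₁ 1) - Pi.single k₁ 1) ∪
      supp (act p (Pi.single k₂ 1) - Pi.single k₂ 1) := by
    intro x hx
    rw [mem_supp] at hx
    by_contra hno
    rw [Finset.mem_union, not_or, mem_supp, mem_supp, not_not, not_not, himg, himg] at hno
    simp only [Pi.sub_apply, Pi.add_apply, Pi.smul_apply, smul_eq_mul] at hno
    have h0 : (α - 1) * σ (v k₁ * v' k₂ - v k₂ * v' k₁) * v x = 0 := by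
      rw [map_sub, map_mul, map_mul]
      linear_combination σ (v' k₂) * hno.1 - σ (v' k₁) * hno.2
    exact mul_ne_zero (mul_ne_zero (sub_ne_zero.2 (alpha_ne_one hα hα2))
      ((map_ne_zero σ).2 (sub_ne_zero.2 hk₂))) hx h0
  have hv4 : (supp v).card ≤ 4 :=
    (Finset.card_le_card hsub).trans ((Finset.card_union_le _ _).trans (by have := hsmall k₁; have := hsmall k₂; omega))
  -- four coordinates would give two transpositions, so `α ^ 2 = 1`
  have hv3 : (supp v).card ≤ 3 := by
    by_contra hgt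
    choose π s hs hcol using fun k => C.mono_col hpM (hpm k)
    have hπi : Function.Injective π := by
      intro x y hxy
      by_contra hne
      have := C.col_norm hpM x y
      rw [if_neg hne, hcol, hcol, hxy, smul_left C.hU, smul_right C.hU, C.herm_single_self, mul_one] at this
      exact mul_ne_zero (C.norm_one_ne_zero (hs x)) ((map_ne_zero σ).2 (C.norm_one_ne_zero (hs y))) this
    have hd : ∀ k x, ((α - 1) * σ (v k)) * v x + ((σ α - 1) * σ (v' k)) * v' x =
        (if x = π k then s k else 0) - if x = k then 1 else 0 := fun k x => by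
      have := congrFun ((himg k).symm.trans (hcol k)) x
      simp only [Pi.add_apply, Pi.smul_apply, smul_eq_mul, Pi.single_apply, mul_ite, mul_one, mul_zero] at this
      linear_combination this
    have hvs : supp v ⊆ {π k₁, k₁, π k₂, k₂} := hsub.trans fun x hx => by
      simp only [Finset.mem_union, mem_supp, Pi.sub_apply, hcol, Pi.smul_apply, smul_eq_mul] at hx
      by_contra hno
      simp only [Finset.mem_insert, Finset.mem_singleton, not_or] at hno
      simp [hno] at hx
    have h4 : ({π k₁, k₁, π k₂, k₂} : Finset ι).card = 4 :=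
      le_antisymm Finset.card_le_four (by have := Finset.card_le_card hvs; omega)
    have heq : supp v = {π k₁, k₁, π k₂, k₂} := Finset.eq_of_subset_of_card_le hvs (by omega)
    have n1 : π k₁ ≠ k₁ := fun e => by
      rw [e, Finset.insert_eq_of_mem (by simp)] at h4
      have := Finset.card_le_three (a := k₁) (b := π k₂) (c := k₂); omega
    have n2 : π k₂ ≠ k₂ := fun e => by
      rw [e, show ({π k₁, k₁, k₂, k₂} : Finset ι) = {π k₁, k₁, k₂} by simp] at h4
      have := Finset.card_le_three (a := π k₁) (b := k₁) (c := k₂); omega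
    have n3 : π k₁ ≠ k₂ := fun e => by
      rw [e, Finset.insert_eq_of_mem (by simp)] at h4
      have := Finset.card_le_three (a := k₁) (b := π k₂) (c := k₂); omega
    have n4 : π k₂ ≠ k₁ := fun e => by
      rw [e, show ({π k₁, k₁, k₁, k₂} : Finset ι) = {π k₁, k₁, k₂} by simp] at h4
      have := Finset.card_le_three (a := π k₁) (b := k₁) (c := k₂); omega
    have hσα : σ α - 1 ≠ 0 := fun e => alpha_ne_one hα hα2 (by
      have := congrArg σ (sub_eq_zero.1 e); rwa [C.sigma_sigma, map_one] at this)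
    have swap : ∀ a b, v a * v' b ≠ v b * v' a → π a ≠ a → π b ≠ b → π a ≠ b → π b ≠ a →
        π (π a) = a ∧ s (π a) * s a = 1 := by
      intro a b hab na hbb nab nba
      have hne : a ≠ b := fun e => hab (by rw [e])
      obtain ⟨D, hD⟩ : ∃ D, D = σ (v a * v' b - v b * v' a) := ⟨_, rfl⟩
      have hD0 : D ≠ 0 := hD ▸ (map_ne_zero σ).2 (sub_ne_zero.2 hab)
      obtain ⟨ca, hca⟩ : ∃ ca, ca = σ (v (π a) * v' b - v b * v' (π a)) / D := ⟨_, rfl⟩
      obtain ⟨cb, hcb⟩ : ∃ cb, cb = σ (v a * v' (π a) - v (π a) * v' a) / D := ⟨_, rfl⟩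
      have hcomb : ∀ x, (if x = π (π a) then s (π a) else 0) - (if x = π a then 1 else 0) =
          ca * ((if x = π a then s a else 0) - if x = a then 1 else 0) +
          cb * ((if x = π b then s b else 0) - if x = b then 1 else 0) := fun x => by
        rw [← hd, ← hd, ← hd, hca, hcb]
        field_simp
        simp only [hD, map_sub, map_mul]
        ring
      have hb0 : cb = 0 := by
        have := hcomb (π b)
        rw [if_neg fun e => nab (hπi e).symm, if_neg fun e => hne (hπi e).symm,
          if_neg nba, if_pos rfl, if_neg fun e => hne (hπi e).symm] at this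
        rw [if_neg hbb] at this
        simp only [sub_zero, mul_zero, zero_add] at this
        exact (mul_eq_zero.1 this.symm).resolve_right (C.norm_one_ne_zero (hs b))
      have h1 := hcomb (π a)
      rw [if_neg fun e => na (hπi e).symm, if_pos rfl, if_pos rfl, if_neg na, hb0] at h1
      simp only [zero_sub, sub_zero, zero_mul, add_zero] at h1
      have h2 := hcomb a
      rw [if_neg (Ne.symm na), if_pos rfl, hb0] at h2
      simp only [if_neg (Ne.symm na), sub_zero, zero_sub, zero_mul, add_zero] at h2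
      have ha0 : ca ≠ 0 := fun e => by rw [e, zero_mul] at h1; exact neg_ne_zero.2 one_ne_zero h1
      by_cases hπ : a = π (π a)
      · rw [if_pos hπ] at h2
        exact ⟨hπ.symm, by linear_combination s a * h2 + h1⟩
      · rw [if_neg hπ] at h2
        exact absurd (by linear_combination h2) ha0
    have hsq : ∀ k ∈ supp v, act p (act p (Pi.single k 1)) = Pi.single k 1 := by
      have hpair : ∀ a, π (π a) = a → s (π a) * s a = 1 →
          act p (act p (Pi.single a 1)) = Pi.single a 1 ∧
          act p (act p (Pi.single (π a) 1)) = Pi.single (π a) 1 := fun a e1 e2 => by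
        refine ⟨?_, ?_⟩
        · rw [hcol, map_smul, hcol, smul_smul, e1, mul_comm, e2, one_smul]
        · rw [hcol, map_smul, hcol, smul_smul, e1, e2, one_smul]
      obtain ⟨a1, a2⟩ := swap k₁ k₂ hk₂ n1 n2 n3 n4
      obtain ⟨b1, b2⟩ := swap k₂ k₁ (fun e => hk₂ e.symm) n2 n1 n4 n3
      intro k hk
      rw [heq] at hk
      simp only [Finset.mem_insert, Finset.mem_singleton] at hk
      rcases hk with rfl | rfl | rfl | rfl
      exacts [(hpair _ a1 a2).2, (hpair _ a1 a2).1, (hpair _ b1 b2).2, (hpair _ b1 b2).1]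
    have hv1 : act h (Pi.single a 1) = α • Pi.single a 1 := funext fun j => by
      rw [hx, Pi.smul_apply, smul_eq_mul]
      rcases eq_or_ne j a with rfl | hja
      · simp
      · simp [hja]
    have hpv : act p v = α • v := by
      rw [hp, hv, act_mul, act_mul, act_inv_act, hv1, map_smul]
    have hppv : act p (act p v) = v := by
      conv_lhs => rw [Monom.eq_sum_single v, map_sum, map_sum]
      conv_rhs => rw [Monom.eq_sum_single v]
      refine Finset.sum_congr rfl fun k _ => ?_
      rw [map_smul, map_smul]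
      rcases eq_or_ne (v k) 0 with e | e
      · rw [e, zero_smul, zero_smul]
      · rw [hsq k (mem_supp.2 e)]
    rw [hpv, map_smul, hpv, smul_smul] at hppv
    have := congrFun hppv k₁
    rw [Pi.smul_apply, smul_eq_mul, mul_eq_right₀ hk₁, ← sq] at this
    exact hα2 this
  obtain ⟨S, hS, hSc⟩ := Finset.exists_subset_card_eq (show 3 ≤ (supp v)ᶜ.card by
    rw [Finset.card_compl]; have := C.hn; omega)
  obtain ⟨k, l, m, hkl, hkm, hlm, rfl⟩ := Finset.card_eq_three.1 hSc
  simp only [Finset.insert_subset_iff, Finset.singleton_subset_iff, Finset.mem_compl, mem_supp, not_not] at hS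
  exact C.mixed_of_zeros hα hα2 hα3 hg hgm hkl hkm hlm hS.1 hS.2.1 hS.2.2

/-- every element outside the monomial group gives a mixed pair -/
theorem exists_mixed (hn : 10 ≤ Fintype.card ι) {g₀ : GL ι F} (hg₀ : g₀ ∈ M) (hgm₀ : ¬ IsMono g₀) :
    C.Mixed α := by
  have entry : ∀ g ∈ M, ∀ (h : GL ι F) (d : ι → F), (∀ x c, act h x c = d c * x c) → ∀ i r,
      act (g * h * g⁻¹) (Pi.single i 1) r =
        ∑ c, act g (Pi.single c 1) r * σ (act g (Pi.single c 1) i) * d c := by
    intro g hg h d hd i r
    have hcol : ∀ k c, act g⁻¹ (Pi.single k 1) c = σ (act g (Pi.single c 1) k) := fun k c => by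
      rw [← C.herm_single_right (act g⁻¹ (Pi.single k 1)) c, ← mem_uiso.1 (C.iso hg), act_act_inv,
        C.herm_single_left]
    rw [← C.herm_single_right (act (g * h * g⁻¹) (Pi.single i 1)) r, ← act_act_inv g (Pi.single r 1), act_mul,
      act_mul, mem_uiso.1 (C.iso hg), herm]
    refine Finset.sum_congr rfl fun c _ => ?_
    rw [hd, hcol, hcol, C.sigma_sigma]
    ring
  have gram : ∀ g ∈ M, ∀ i r, ∑ c, act g (Pi.single c 1) r * σ (act g (Pi.single c 1) i) =
      if i = r then 1 else 0 := by
    intro g hg i r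
    have := entry g hg 1 (fun _ => 1) (fun x c => by rw [act_one, one_mul]) i r
    rw [mul_one, mul_inv_cancel, act_one] at this
    simp only [mul_one] at this
    rw [← this, Pi.single_apply]
    simp [eq_comm]
  obtain ⟨g, hg, hgm, n, a, hna⟩ : ∃ g ∈ M, ¬ IsMono g ∧ ∃ n a, act g (Pi.single a 1) n = 0 := by
    by_cases h0 : ∃ n a, act g₀ (Pi.single a 1) n = 0
    · exact ⟨g₀, hg₀, hgm₀, h0⟩
    push Not at h0
    obtain ⟨n, i, hni⟩ := Fintype.exists_pair_of_one_lt_card (show 1 < Fintype.card ι by omega)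
    obtain ⟨ζ, hζ, hprod, ⟨k, l, hkl⟩, hb0, ha0⟩ := exists_zero_one C.hq (by omega)
      (fun c => act g₀ (Pi.single c 1) n * σ (act g₀ (Pi.single c 1) n))
      (fun c => act g₀ (Pi.single c 1) n * σ (act g₀ (Pi.single c 1) i))
      (by rw [gram g₀ hg₀, if_pos rfl]) (by rw [gram g₀ hg₀, if_neg hni.symm])
    obtain ⟨h, hh, -, hx⟩ := C.exists_diag ζ hζ hprod
    have hy : g₀ * h * g₀⁻¹ ∈ M := M.mul_mem (M.mul_mem hg₀ hh) (M.inv_mem hg₀)
    refine ⟨_, hy, fun hmono => hkl ?_, n, i, by rw [entry g₀ hg₀ h ζ hx]; exact hb0⟩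
    obtain ⟨r, s, -, hs⟩ := C.mono_col hy (hmono n)
    have hrn : r = n := by
      by_contra hne
      apply ha0
      rw [← entry g₀ hg₀ h ζ hx, hs]
      simp [Ne.symm hne]
    subst hrn
    have e := congrArg (act g₀⁻¹) hs
    rw [act_mul, act_mul, act_inv_act, map_smul] at e
    have hs' : ∀ c, ζ c = s := fun c => by
      have e' := congrFun e c
      rw [hx, Pi.smul_apply, smul_eq_mul] at e'
      refine mul_right_cancel₀ ?_ e'
      rw [← C.herm_single_right (act g₀⁻¹ (Pi.single r 1)) c, ← mem_uiso.1 (C.iso hg₀), act_act_inv,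
        C.herm_single_left]
      exact (map_ne_zero σ).2 (h0 r c)
    rw [hs', hs']
  by_cases h2 : ∃ b, b ≠ a ∧ act g (Pi.single b 1) n = 0
  · obtain ⟨b, hb, hb0⟩ := h2
    exact C.mixed_of_row hα hα2 hα3 hg hgm hb hb0 hna
  push Not at h2
  obtain ⟨j, hj⟩ := Finset.card_pos.1 (C.supp_pos hg a)
  rw [mem_supp] at hj
  have hjn : j ≠ n := fun e => hj (e ▸ hna)
  obtain ⟨i, -, hi⟩ := Finset.exists_mem_notMem_of_card_lt_card (s := ({n, j} : Finset ι)) (t := Finset.univ) (by
    rw [Finset.card_univ]; have := Finset.card_le_two (a := n) (b := j); omega)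
  simp only [Finset.mem_insert, Finset.mem_singleton, not_or] at hi
  have hsub : ∀ f : ι → F, f a = 0 → ∑ c : {c // c ≠ a}, f c = ∑ c, f c := fun f hf => by
    rw [← Finset.sum_subtype (Finset.univ.erase a) (fun x => by simp) f, Finset.sum_erase _ hf]
  let G : ι → ι → F := fun r c => act g (Pi.single c 1) r
  have hG : ∀ i r, ∑ c : {c // c ≠ a}, G r c * σ (G i c) = if r = n then (if i = r then 1 else 0) else
      ∑ c : {c // c ≠ a}, G r c * σ (G i c) := fun i r => by
    split_ifs with h1 h3
    · rw [hsub (fun c => G r c * σ (G i c)) (by simp [G, h1, hna]), gram g hg, if_pos h3]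
    · rw [hsub (fun c => G r c * σ (G i c)) (by simp [G, h1, hna]), gram g hg, if_neg h3]
    · rfl
  obtain ⟨ζ, hζ, ⟨k, l, hkl⟩, hb0, hcases⟩ := exists_zero_two C.hq (κ := {c // c ≠ a})
    (by rw [Fintype.card_subtype_compl, Fintype.card_subtype_eq]; omega)
    (fun c => G n c * σ (G n c)) (fun c => G n c * σ (G i c)) (fun c => G n c * σ (G j c))
    (by rw [hG, if_pos rfl, if_pos rfl]) (by rw [hG, if_pos rfl, if_neg hi.1]) (by rw [hG, if_pos rfl, if_neg hjn])
  obtain ⟨d, hd⟩ : ∃ d : ι → F, d = fun c => if h : c ≠ a then ζ ⟨c, h⟩ else σ (∏ c, ζ c) := ⟨_, rfl⟩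
  have hdc : ∀ c : {c // c ≠ a}, d c = ζ c := fun c => by rw [hd]; simp [c.2]
  have hP : (∏ c, ζ c) * σ (∏ c, ζ c) = 1 := by
    rw [map_prod, ← Finset.prod_mul_distrib, Finset.prod_congr rfl fun c _ => hζ c, Finset.prod_const_one]
  have hdn : ∀ c, d c * σ (d c) = 1 := fun c => by
    rcases eq_or_ne c a with rfl | hca
    · rw [hd]; simp only [ne_eq, not_true, dite_false]
      rw [C.sigma_sigma, mul_comm, hP]
    · rw [hdc ⟨c, hca⟩]; exact hζ _
  have hdp : ∏ c, d c = 1 := by
    rw [← Finset.mul_prod_erase _ _ (Finset.mem_univ a), Finset.prod_subtype (p := fun x => x ≠ a) (Finset.univ.erase a) (fun x => by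
      simp) d, Finset.prod_congr rfl fun c _ => hdc c, hd]
    simp only [ne_eq, not_true, dite_false]
    rw [mul_comm, hP]
  obtain ⟨h, hh, -, hx⟩ := C.exists_diag d hdn hdp
  set y := g * h * g⁻¹
  have hy : y ∈ M := M.mul_mem (M.mul_mem hg hh) (M.inv_mem hg)
  have hent : ∀ r, act y (Pi.single r 1) n = ∑ c : {c // c ≠ a}, G n c * σ (G r c) * ζ c := fun r => by
    rw [entry g hg h d hx, ← hsub _ (by rw [hna, zero_mul, zero_mul])]
    exact Finset.sum_congr rfl fun c _ => by rw [hdc c]
  have hinv : ∀ r c, act g⁻¹ (Pi.single r 1) c = σ (G r c) := fun r c => by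
    rw [← C.herm_single_right (act g⁻¹ (Pi.single r 1)) c, ← mem_uiso.1 (C.iso hg), act_act_inv, C.herm_single_left]
  have hcolumn : ∀ r, act y (Pi.single r 1) n ≠ 0 → IsMono y → ∃ s : F, ∀ c, d c * σ (G r c) = s * σ (G n c) := by
    intro r hr hmono
    obtain ⟨r', s, -, hs⟩ := C.mono_col hy (hmono r)
    have hrn : r' = n := by
      by_contra hne
      exact hr (by rw [hs]; simp [Ne.symm hne])
    subst hrn
    refine ⟨s, fun c => ?_⟩
    have e := congrFun (congrArg (act g⁻¹) hs) c
    rwa [act_mul, act_mul, act_inv_act, map_smul, Pi.smul_apply, smul_eq_mul, hx, hinv, hinv] at e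
  have hi0 : act y (Pi.single i 1) n = 0 := by rw [hent]; exact hb0
  rcases hcases with ⟨hA, hC⟩ | ⟨hA, hC⟩
  · refine C.mixed_of_row hα hα2 hα3 hy (fun hmono => hkl ?_) (Ne.symm hi.2) (by rw [hent]; exact hC) hi0
    obtain ⟨s, hs⟩ := hcolumn n (by rw [hent]; exact hA) hmono
    have hζs : ∀ c : {c // c ≠ a}, ζ c = s := fun c => by
      have := hs c
      rw [hdc c] at this
      exact mul_right_cancel₀ ((map_ne_zero σ).2 (h2 c c.2)) this
    rw [hζs, hζs]
  · refine C.mixed_of_row hα hα2 hα3 hy (fun hmono => ?_) (Ne.symm hi.1) (by rw [hent]; exact hA) hi0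
    obtain ⟨s, hs⟩ := hcolumn j (by rw [hent]; exact hC) hmono
    have := hs a
    rw [show G n a = 0 from hna, map_zero, mul_zero] at this
    exact mul_ne_zero (C.norm_one_ne_zero (hdn a)) ((map_ne_zero σ).2 hj) this

end Ctx

end Cfsg.Agent.MaxCl.Unit
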