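/-
Overgroups of the monomial group: a mixed pair of reflections gives a Siegel element and then a plane root group.
-/
import Mathlib
import Cfsg.Agent.Lib.MaxCl.UnitaryMonoZero

set_option autoImplicit false

namespace Cfsg.Agent.MaxCl.Unit

open scoped MatrixGroups Matrix

variable {ι : Type} [Fintype ι] [DecidableEq ι] {F : Type*} [Field F] [Fintype F]
variable {σ : F ≃+* F} {q : ℕ} {M : Subgroup (GL ι F)}

/-- `g` is the Siegel element of `d`, `y` and `c` -/
def IsSg (σ : F ≃+* F) (d y : ι → F) (c : F) (g : GL ι F) : Prop :=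
  ∀ z, act g z = z - herm σ z d • y + herm σ z y • d + (c * herm σ z d) • d

namespace Ctx

variable (C : Ctx σ q (id : ι → ι) M)
include C

theorem isSg_mul {d y y' : ι → F} {c c' : F} {g g' : GL ι F} (hd : herm σ d d = 0) (hy : herm σ d y = 0)
    (hy' : herm σ d y' = 0) (h : IsSg σ d y c g) (h' : IsSg σ d y' c' g') :
    IsSg σ d (y + y') (c + c' - herm σ y' y) (g * g') := by
  intro z
  have hyd' := eq_zero_symm C.hU hy'
  rw [act_mul, h', h]
  simp only [add_left C.hU, sub_left C.hU, smul_left C.hU, add_right C.hU, hd, hy, hyd']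
  module

theorem isSg_conj {d y : ι → F} {c : F} {g h : GL ι F} (hh : h ∈ uiso (herm (ι := ι) σ)) (hhd : act h d = d)
    (hg : IsSg σ d y c g) : IsSg σ d (act h y) c (h * g * h⁻¹) := by
  intro z
  have e : ∀ x, herm σ (act h⁻¹ z) x = herm σ z (act h x) := fun x => by
    rw [← mem_uiso.1 hh, act_act_inv]
  rw [act_mul, act_mul, hg]
  simp only [map_add, map_sub, map_smul, act_act_inv, hhd, e]

/-- parameters of Siegel elements of `M` at `d` -/
def SgIn (_C : Ctx σ q (id : ι → ι) M) (d y : ι → F) : Prop :=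
  herm σ d y = 0 ∧ ∃ c, c + σ c = -herm σ y y ∧ ∃ g ∈ M, IsSg σ d y c g

theorem sgIn_add {d y y' : ι → F} (hd : herm σ d d = 0) (h : C.SgIn d y) (h' : C.SgIn d y') :
    C.SgIn d (y + y') := by
  obtain ⟨hy, c, hc, g, hg, e⟩ := h
  obtain ⟨hy', c', hc', g', hg', e'⟩ := h'
  refine ⟨by rw [add_right C.hU, hy, hy', add_zero], c + c' - herm σ y' y, ?_, g * g', M.mul_mem hg hg',
    C.isSg_mul hd hy hy' e e'⟩
  rw [map_sub, map_add, herm' C.hU, add_left C.hU, add_right C.hU, add_right C.hU]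
  linear_combination hc + hc'

theorem sgIn_neg {d y : ι → F} (hd : herm σ d d = 0) (h : C.SgIn d y) : C.SgIn d (-y) := by
  obtain ⟨hy, c, hc, g, hg, e⟩ := h
  have hyd := eq_zero_symm C.hU hy
  refine ⟨by rw [← neg_one_smul F y, smul_right C.hU, hy, mul_zero], σ c, ?_, g⁻¹, M.inv_mem hg, fun z => ?_⟩
  · rw [C.sigma_sigma, ← neg_one_smul F y, smul_left C.hU, smul_right C.hU, map_neg, map_one]
    linear_combination hc
  · apply act_injective g
    rw [act_act_inv, e, ← neg_one_smul F y]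
    simp only [add_left C.hU, sub_left C.hU, smul_left C.hU, smul_right C.hU, map_neg, map_one, hd, hy, hyd]
    match_scalars
    · ring
    · ring
    · linear_combination (-herm σ z d) * hc

theorem sgIn_zero (d : ι → F) : C.SgIn d 0 :=
  ⟨zero_right C.hU d, 0, by rw [map_zero, add_zero, zero_left C.hU, neg_zero], 1, M.one_mem, fun z => by
    rw [act_one, zero_right C.hU]; simp⟩

/-- a vector paired with every coordinate line -/
def AdmU (_C : Ctx σ q (id : ι → ι) M) (α : F) (x : ι → F) : Prop :=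
  herm σ x x = 1 ∧ ∀ i, qr _C.hU α x * (qr _C.hU α (Pi.single i 1))⁻¹ ∈ M

variable {α : F} (hα : α * σ α = 1)
include hα

theorem adm_of {x : ι → F} (hx : herm σ x x = 1) {l : ι}
    (h : qr C.hU α x * (qr C.hU α (Pi.single l 1))⁻¹ ∈ M) : C.AdmU α x := by
  refine ⟨hx, fun i => ?_⟩
  have := M.mul_mem h (C.qr_pair_mem hα l i)
  rwa [← mul_assoc, inv_mul_cancel_right] at this

theorem qr_inv {x : ι → F} (hx : herm σ x x = 1) (z : ι → F) :
    act (qr C.hU α x)⁻¹ z = z + ((σ α - 1) * herm σ z x) • x := by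
  apply act_injective (qr C.hU α x)
  rw [act_act_inv, C.act_qr hα hx, add_left C.hU, smul_left C.hU, hx]
  match_scalars
  · ring
  · linear_combination (-herm σ z x) * hα

theorem adm_mono {x : ι → F} (hx : C.AdmU α x) {g : GL ι F} (hg : g ∈ M) (π : Equiv.Perm ι) (d : ι → F)
    (hd : ∀ y j, act g y (π j) = d j * y j) : C.AdmU α (act g x) := by
  have hI := C.iso hg
  obtain ⟨l⟩ : Nonempty ι := Fintype.card_pos_iff.1 (by have := C.hn; omega)
  have hcol : act g (Pi.single l 1) = d l • Pi.single (π l) 1 := funext fun k => by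
    obtain ⟨j, rfl⟩ := π.surjective k
    rw [hd]
    by_cases hj : j = l
    · subst hj; simp
    · simp [hj, π.injective.ne hj]
  have hn : d l * σ (d l) = 1 := by
    have := C.col_norm hg l l
    rwa [if_pos rfl, hcol, smul_left C.hU, smul_right C.hU, C.herm_single_self, mul_one] at this
  refine C.adm_of hα (by rw [mem_uiso.1 hI, hx.1]) (l := π l) ?_
  have := M.mul_mem (M.mul_mem hg (hx.2 l)) (M.inv_mem hg)
  rwa [show g * (qr C.hU α x * (qr C.hU α (Pi.single l 1))⁻¹) * g⁻¹ =
    (g * qr C.hU α x * g⁻¹) * (g * qr C.hU α (Pi.single l 1) * g⁻¹)⁻¹ by group,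
    C.qr_conj hα hx.1 hI, C.qr_conj hα (C.herm_single_self l) hI, hcol, C.qr_smul hα (C.herm_single_self _) hn] at this

theorem adm_refl {x y : ι → F} (hx : C.AdmU α x) (hy : C.AdmU α y) {l : ι} (hxl : x l = 0) (hyl : y l = 0) :
    C.AdmU α (y + ((α - 1) * herm σ y x) • x) := by
  have hm := hx.2 l
  set m := qr C.hU α x * (qr C.hU α (Pi.single l 1))⁻¹
  have hI := C.iso hm
  have e1 : act m (Pi.single l 1) = σ α • Pi.single l 1 := by
    rw [act_mul, C.qr_inv hα (C.herm_single_self l), C.herm_single_self, mul_one, map_add, map_smul,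
      C.act_qr hα hx.1, C.herm_single_left, hxl, map_zero, mul_zero, zero_smul, add_zero]
    module
  have e2 : act m y = y + ((α - 1) * herm σ y x) • x := by
    rw [act_mul, C.qr_inv hα (C.herm_single_self l), C.herm_single_right, hyl, mul_zero, zero_smul, add_zero,
      C.act_qr hα hx.1]
  refine C.adm_of hα (by rw [← e2, mem_uiso.1 hI, hy.1]) (l := l) ?_
  have := M.mul_mem (M.mul_mem hm (hy.2 l)) (M.inv_mem hm)
  rwa [show m * (qr C.hU α y * (qr C.hU α (Pi.single l 1))⁻¹) * m⁻¹ =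
    (m * qr C.hU α y * m⁻¹) * (m * qr C.hU α (Pi.single l 1) * m⁻¹)⁻¹ by group,
    C.qr_conj hα hy.1 hI, C.qr_conj hα (C.herm_single_self l) hI, e1, e2,
    C.qr_smul hα (C.herm_single_self _) (by rw [C.sigma_sigma, mul_comm, hα])] at this

variable (hα2 : α ^ 2 ≠ 1)
include hα2

theorem grow {x : ι → F} (hx : C.AdmU α x) {l : ι} (hxl : x l = 0) (h2 : 2 ≤ (supp x).card)
    (h4 : (supp x).card ≤ 4) (hroom : (∀ k ∈ supp x, x k * σ (x k) = 1) → (supp x).card + 3 ≤ Fintype.card ι) :
    ∃ z, C.AdmU α z ∧ z l = 0 ∧ (supp x).card < (supp z).card := by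
  classical
  have hn := C.hn
  have core : ∀ y, C.AdmU α y → y l = 0 → σ (herm σ y x) = herm σ y x → herm σ y x ≠ 0 →
      (∀ j, x j ≠ 0 → y j = 0 ∨ y j = x j) → ∀ p, x p = 0 → y p ≠ 0 →
      ∃ z, C.AdmU α z ∧ z l = 0 ∧ (supp x).card < (supp z).card := by
    intro y hy hyl hφ hφ0 hval p hxp hyp
    refine ⟨_, C.adm_refl hα hx hy hxl hyl, by simp [hxl, hyl], ?_⟩
    refine Finset.card_lt_card ((Finset.ssubset_iff_of_subset fun j hj => ?_).2 ⟨p, ?_, by simp [hxp]⟩)
    · rw [mem_supp] at hj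
      rw [mem_supp, Pi.add_apply, Pi.smul_apply, smul_eq_mul]
      rcases hval j hj with e | e <;> rw [e]
      · rw [zero_add]; exact mul_ne_zero (mul_ne_zero (sub_ne_zero.2 (alpha_ne_one hα hα2)) hφ0) hj
      · intro h0
        have e1 : 1 + (α - 1) * herm σ y x = 0 := mul_right_cancel₀ hj (by linear_combination h0)
        have e2 := congrArg σ e1
        rw [map_add, map_mul, map_sub, map_one, map_zero, hφ] at e2
        exact mul_ne_zero hφ0 (sub_ne_zero.2 (alpha_ne_sigma hα hα2)) (by linear_combination e2 - e1)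
    · rw [mem_supp, Pi.add_apply, Pi.smul_apply, hxp, smul_zero, add_zero]; exact hyp
  -- the image under a permutation that empties `T`
  have inner : ∀ y : ι → F, ∀ T : Finset ι, T ⊆ supp x → (∀ j ∈ T, y j = 0) → (∀ j ∈ supp x, j ∉ T → y j = x j) →
      herm σ y x = 1 - ∑ j ∈ T, x j * σ (x j) := by
    intro y T hT h0 h1
    rw [C.herm_supp (supp x) (fun j hj => by simpa using hj), ← hx.1, C.herm_self_supp, ← Finset.sum_sdiff hT,
      ← Finset.sum_sdiff hT (f := fun j => x j * σ (x j)), add_sub_cancel_right,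
      Finset.sum_eq_zero (s := T) fun j hj => by rw [h0 j hj, zero_mul], add_zero]
    exact Finset.sum_congr rfl fun j hj => by rw [h1 j (Finset.mem_sdiff.1 hj).1 (Finset.mem_sdiff.1 hj).2]
  obtain ⟨p, -, hp⟩ := Finset.exists_mem_notMem_of_card_lt_card (s := insert l (supp x)) (t := Finset.univ) (by
    rw [Finset.card_univ]; have := Finset.card_insert_le l (supp x); omega)
  simp only [Finset.mem_insert, mem_supp, not_or, not_not] at hp
  by_cases hk : ∃ k ∈ supp x, x k * σ (x k) ≠ 1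
  · obtain ⟨k, hk, hk1⟩ := hk
    obtain ⟨g, hg, s, -, hgx⟩ := C.exists_perm (Equiv.swap k p) l ⟨Equiv.swap k p, fun _ => rfl⟩
    have hkl : k ≠ l := fun e => mem_supp.1 hk (e ▸ hxl)
    have hval : ∀ j, act g x j = if j = k then 0 else if j = p then x k else x j := by
      intro j
      conv_lhs => rw [← Equiv.swap_apply_self k p j]
      rw [hgx]
      by_cases hs : Equiv.swap k p j = l
      · have hj : j = l := by
          have := congrArg (Equiv.swap k p) hs
          rwa [Equiv.swap_apply_self, Equiv.swap_apply_of_ne_of_ne hkl.symm (Ne.symm hp.1)] at this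
        simp [hj, Equiv.swap_apply_of_ne_of_ne hkl.symm (Ne.symm hp.1), hkl.symm, Ne.symm hp.1, hxl]
      · rw [if_neg hs, one_mul]
        rcases eq_or_ne j k with rfl | h1
        · simp [hp.2]
        rcases eq_or_ne j p with rfl | h1'
        · simp [h1]
        · simp [h1, h1', Equiv.swap_apply_of_ne_of_ne h1 h1']
    have hφ := inner (act g x) {k} (by simpa using hk) (by simp [hval]) (fun j hj hjT => by
      rw [hval, if_neg (by simpa using hjT), if_neg fun e : j = p => mem_supp.1 hj (e ▸ hp.2)])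
    rw [Finset.sum_singleton] at hφ
    refine core _ (C.adm_mono hα hx hg _ _ hgx) (by rw [hval, if_neg hkl.symm, if_neg (Ne.symm hp.1), hxl])
      (by rw [hφ, map_sub, map_one, C.norm_fixed]) (by rw [hφ]; exact sub_ne_zero.2 (Ne.symm hk1)) (fun j hj => ?_)
      p hp.2 ?_
    · rw [hval]
      split_ifs with h1 h1'
      · exact Or.inl rfl
      · exact absurd (h1' ▸ hp.2) hj
      · exact Or.inr rfl
    · rw [hval, if_neg (fun e : p = k => mem_supp.1 hk (e ▸ hp.2)), if_pos rfl]; exact mem_supp.1 hk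
  · push Not at hk
    have hroom := hroom hk
    obtain ⟨k, hks, k', hks', hkk⟩ := Finset.one_lt_card.1 (show 1 < (supp x).card by omega)
    obtain ⟨p', -, hp'⟩ := Finset.exists_mem_notMem_of_card_lt_card (s := insert p (insert l (supp x)))
      (t := Finset.univ) (by
      rw [Finset.card_univ]; have := Finset.card_insert_le l (supp x)
      have := Finset.card_insert_le p (insert l (supp x)); omega)
    simp only [Finset.mem_insert, mem_supp, not_or, not_not] at hp'
    have hxk := mem_supp.1 hks; have hxk' := mem_supp.1 hks'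
    have n1 : k ≠ p := fun e => hxk (e ▸ hp.2)
    have n2 : k ≠ p' := fun e => hxk (e ▸ hp'.2.2)
    have n3 : k' ≠ p := fun e => hxk' (e ▸ hp.2)
    have n4 : k' ≠ p' := fun e => hxk' (e ▸ hp'.2.2)
    have n5 : k ≠ l := fun e => hxk (e ▸ hxl)
    have n6 : k' ≠ l := fun e => hxk' (e ▸ hxl)
    set π := (Equiv.swap k p).trans (Equiv.swap k' p')
    obtain ⟨g, hg, s, -, hgx⟩ := C.exists_perm π l ⟨π, fun _ => rfl⟩
    have hfix : ∀ j, j ≠ k → j ≠ p → j ≠ k' → j ≠ p' → π j = j := fun j a b c d => by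
      simp [π, Equiv.swap_apply_of_ne_of_ne a b, Equiv.swap_apply_of_ne_of_ne c d]
    have π1 : π k = p := by simp [π, Equiv.swap_apply_of_ne_of_ne (Ne.symm n3) (Ne.symm hp'.1)]
    have π2 : π p = k := by simp [π, Equiv.swap_apply_of_ne_of_ne hkk n2]
    have π3 : π k' = p' := by simp [π, Equiv.swap_apply_of_ne_of_ne (Ne.symm hkk) n3]
    have π4 : π p' = k' := by simp [π, Equiv.swap_apply_of_ne_of_ne (Ne.symm n2) hp'.1]
    have vk : act g x k = 0 := by rw [← π2, hgx, hp.2, mul_zero]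
    have vk' : act g x k' = 0 := by rw [← π4, hgx, hp'.2.2, mul_zero]
    have vp : act g x p ≠ 0 := by rw [← π1, hgx, if_neg n5, one_mul]; exact hxk
    have vo : ∀ j, j ≠ k → j ≠ p → j ≠ k' → j ≠ p' → act g x j = x j := fun j a b c d => by
      conv_lhs => rw [← hfix j a b c d]
      rw [hgx]
      split_ifs with h
      · rw [h, hxl, mul_zero]
      · rw [one_mul]
    have hφ := inner (act g x) {k, k'} (by simp [Finset.insert_subset_iff, hxk, hxk'])
      (by simp [vk, vk']) (fun j hj hjT => by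
        simp only [Finset.mem_insert, Finset.mem_singleton, not_or] at hjT
        exact vo j hjT.1 (fun e => mem_supp.1 hj (e ▸ hp.2)) hjT.2 (fun e => mem_supp.1 hj (e ▸ hp'.2.2)))
    rw [Finset.sum_pair hkk, hk k hks, hk k' hks', show (1 : F) - (1 + 1) = -1 by ring] at hφ
    refine core _ (C.adm_mono hα hx hg _ _ hgx)
      (by rw [vo l (Ne.symm n5) (Ne.symm hp.1) (Ne.symm n6) (Ne.symm hp'.2.1), hxl]) (by rw [hφ]; simp)
      (by rw [hφ]; simp) (fun j hj => ?_) p hp.2 vp
    by_cases a : j = k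
    · exact Or.inl (a ▸ vk)
    by_cases c : j = k'
    · exact Or.inl (c ▸ vk')
    · exact Or.inr (vo j a (fun e => hj (e ▸ hp.2)) c (fun e => hj (e ▸ hp'.2.2)))

theorem exists_seed (h : C.Mixed α) : ∃ (x : ι → F) (l : ι) (T : Finset ι) (k : ι) (ζ : T → F),
    C.AdmU α x ∧ x l = 0 ∧ T ⊆ supp x ∧ k ∈ supp x ∧ k ∉ T ∧ (∀ j, ζ j * σ (ζ j) = 1) ∧ (∃ j, ζ j ≠ 1) ∧
      ∑ j : T, x j * σ (x j) * (ζ j - 1) = 0 := by
  classical
  obtain ⟨x, l, hxx, hxl, h2, hM⟩ := h
  -- five coordinates, or four of norm one in characteristic three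
  have go : ∀ (fuel : ℕ) (x : ι → F), C.AdmU α x → x l = 0 → 2 ≤ (supp x).card → 5 ≤ (supp x).card + fuel →
      ∃ x : ι → F, C.AdmU α x ∧ x l = 0 ∧ (5 ≤ (supp x).card ∨
        ((supp x).card = 4 ∧ (3 : F) = 0 ∧ ∀ k ∈ supp x, x k * σ (x k) = 1)) := by
    intro fuel
    induction fuel with
    | zero => intro x hx hl _ h5; exact ⟨x, hx, hl, Or.inl h5⟩
    | succ n ih =>
      intro x hx hl h2 h5
      rcases Nat.lt_or_ge (supp x).card 5 with h4 | h4
      swap
      · exact ⟨x, hx, hl, Or.inl h4⟩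
      by_cases hb : (supp x).card = 4 ∧ ∀ k ∈ supp x, x k * σ (x k) = 1
      · refine ⟨x, hx, hl, Or.inr ⟨hb.1, ?_, hb.2⟩⟩
        have := hx.1
        rw [C.herm_self_supp, Finset.sum_congr rfl hb.2, Finset.sum_const, hb.1, nsmul_one] at this
        push_cast at this
        linear_combination this
      · obtain ⟨z, hz, hzl, hlt⟩ := C.grow hα hα2 hx hl h2 (by omega) fun hN => by
          have := C.hn
          by_contra hlt
          exact hb ⟨by omega, hN⟩
        exact ih z hz hzl (by omega) (by omega)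
  obtain ⟨x, hx, hxl, h5 | ⟨h4, h3, hN⟩⟩ := go 5 x (C.adm_of hα hxx hM) hxl h2 (by omega)
  · obtain ⟨T, hT, hTc⟩ := Finset.exists_subset_card_eq (show 4 ≤ (supp x).card by omega)
    obtain ⟨k, hk, hkT⟩ := Finset.exists_mem_notMem_of_card_lt_card (show T.card < (supp x).card by omega)
    obtain ⟨ζ, hζ, hζ1, hsum⟩ := exists_same_sum C.hq (κ := T) (by rw [Fintype.card_coe, hTc])
      (fun j => x j * σ (x j))
    exact ⟨x, l, T, k, ζ, hx, hxl, hT, hk, hkT, hζ, hζ1, hsum⟩
  · obtain ⟨T, hT, hTc⟩ := Finset.exists_subset_card_eq (show 3 ≤ (supp x).card by omega)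
    obtain ⟨k, hk, hkT⟩ := Finset.exists_mem_notMem_of_card_lt_card (show T.card < (supp x).card by omega)
    obtain ⟨j, hj⟩ := Finset.card_pos.1 (show 0 < T.card by omega)
    obtain ⟨z, hz, hz1, -, -, -⟩ := exists_root_ne C.hq
    refine ⟨x, l, T, k, fun _ => z, hx, hxl, hT, hk, hkT, fun _ => hz, ⟨⟨j, hj⟩, hz1⟩, ?_⟩
    rw [Finset.sum_congr rfl fun (j : T) _ => show x j * σ (x j) * (z - 1) = z - 1 by rw [hN _ (hT j.2), one_mul],
      Finset.sum_const, Finset.card_univ, Fintype.card_coe, hTc, nsmul_eq_mul]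
    push_cast
    rw [h3, zero_mul]

/-- a mixed pair gives a plane root group -/
theorem plane_of_mixed (h : C.Mixed α) : ∃ i i', i ≠ i' ∧ PlaneIn C i i' := by
  classical
  obtain ⟨x, l, T, k, ζ, hx, hxl, hT, hk, hkT, hζ, ⟨k₁, hk₁⟩, hsum⟩ := C.exists_seed hα hα2 h
  rw [mem_supp] at hk
  have hlT : l ∉ T := fun h => mem_supp.1 (hT h) hxl
  have hkl : k ≠ l := fun e => hk (e ▸ hxl)
  obtain ⟨e, he⟩ : ∃ e : ι → F, e = fun j => if h : j ∈ T then ζ ⟨j, h⟩ else if j = l then σ (∏ c, ζ c) else 1 :=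
    ⟨_, rfl⟩
  have hP : (∏ c, ζ c) * σ (∏ c, ζ c) = 1 := by
    rw [map_prod, ← Finset.prod_mul_distrib, Finset.prod_congr rfl fun c _ => hζ c, Finset.prod_const_one]
  have hen : ∀ j, e j * σ (e j) = 1 := fun j => by
    rw [he]; dsimp only
    split_ifs
    · exact hζ _
    · rw [C.sigma_sigma, mul_comm, hP]
    · simp
  have hep : ∏ j, e j = 1 := by
    rw [← Finset.prod_subset (Finset.subset_univ (insert l T)) fun j _ hj => by
      simp only [Finset.mem_insert, not_or] at hj
      simp [he, hj.1, hj.2], Finset.prod_insert hlT, ← Finset.prod_coe_sort T e,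
      Finset.prod_congr rfl fun (c : T) _ => show e c = ζ c by simp [he, c.2]]
    simp only [he, dif_neg hlT, if_true]
    rw [mul_comm, hP]
  obtain ⟨h₁, hh₁, -, h₁x⟩ := C.exists_diag e hen hep
  have hx' : C.AdmU α (act h₁ x) := C.adm_mono hα hx hh₁ 1 e fun y j => h₁x y j
  obtain ⟨d, hd⟩ : ∃ d, d = act h₁ x - x := ⟨_, rfl⟩
  have hdT : ∀ j, j ∉ T → d j = 0 := fun j hj => by
    rw [hd, Pi.sub_apply, h₁x, he]
    simp only [dif_neg hj]
    by_cases hjl : j = l
    · subst hjl; simp [hxl]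
    · simp [hjl]
  have hdx : herm σ d x = 0 := by
    rw [← herm' C.hU x d, C.herm_supp T hdT, ← hsum, map_sum, ← Finset.sum_coe_sort T]
    refine Finset.sum_congr rfl fun j _ => ?_
    simp only [hd, Pi.sub_apply, h₁x, he, dif_pos j.2, map_mul, map_sub, C.sigma_sigma]
    ring
  have hxd := eq_zero_symm C.hU hdx
  have hxx' : act h₁ x = x + d := by rw [hd]; abel
  have hdd : herm σ d d = 0 := by
    have := mem_uiso.1 (C.iso hh₁) x x
    rw [hxx', add_left C.hU, add_right C.hU, add_right C.hU, hdx, hxd] at this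
    linear_combination this
  -- the Siegel element
  have hY : C.SgIn d ((α - 1) • x) := by
    refine ⟨by rw [smul_right C.hU, hdx, mul_zero], σ α - 1, ?_, qr C.hU α x * (qr C.hU α (act h₁ x))⁻¹, ?_,
      fun z => ?_⟩
    · rw [smul_left C.hU, smul_right C.hU, hx.1]
      simp only [map_sub, map_one, C.sigma_sigma]
      linear_combination hα
    · have := M.mul_mem (hx.2 l) (M.inv_mem (hx'.2 l))
      rwa [mul_inv_rev, inv_inv, ← mul_assoc, inv_mul_cancel_right] at this
    · rw [act_mul, C.qr_inv hα hx'.1, C.act_qr hα hx.1, hxx']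
      simp only [add_left C.hU, add_right C.hU, smul_left C.hU, smul_right C.hU, hdx, hx.1, map_sub, map_one]
      match_scalars
      · ring
      · linear_combination (herm σ z x + herm σ z d) * hα
      · ring
  have hfix : ∀ ζ' : F, ζ' * σ ζ' = 1 → ∃ h ∈ M, act h d = d ∧
      ∀ y j, act h y j = (if j = k then ζ' else if j = l then σ ζ' else 1) * y j := fun ζ' hζ' => by
    obtain ⟨h, hh, hx⟩ := C.exists_phase hkl hζ'
    refine ⟨h, hh, funext fun j => ?_, hx⟩
    rw [hx]
    split_ifs with h1 h2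
    · rw [h1, hdT k hkT, mul_zero]
    · rw [h2, hdT l hlT, mul_zero]
    · rw [one_mul]
  have hconj : ∀ y, C.SgIn d y → ∀ h ∈ M, act h d = d → C.SgIn d (act h y) := fun y hy h hh hhd => by
    obtain ⟨hy0, c, hc, g, hg, e⟩ := hy
    exact ⟨by rw [← hhd, mem_uiso.1 (C.iso hh), hy0], c, by rw [mem_uiso.1 (C.iso hh), hc], _,
      M.mul_mem (M.mul_mem hh hg) (M.inv_mem hh), C.isSg_conj (C.iso hh) hhd e⟩
  let S : AddSubgroup F :=
    { carrier := {a : F | C.SgIn d (a • Pi.single k 1)}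
      zero_mem' := by
        simp only [Set.mem_ofPred_eq, zero_smul]; exact C.sgIn_zero d
      add_mem' := fun {a b} ha hb => by
        simp only [Set.mem_ofPred_eq, add_smul] at *; exact C.sgIn_add hdd ha hb
      neg_mem' := fun {a} ha => by
        simp only [Set.mem_ofPred_eq, neg_smul] at *; exact C.sgIn_neg hdd ha }
  have hall : ∀ a : F, C.SgIn d (a • Pi.single k 1) := by
    obtain ⟨h, hh, hhd, hhx⟩ := hfix α hα
    have h0 : (α - 1) * ((α - 1) * x k) ∈ S := by
      show C.SgIn d _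
      have := C.sgIn_add hdd (hconj _ hY h hh hhd) (C.sgIn_neg hdd hY)
      convert this using 1
      funext j
      rw [Pi.add_apply, Pi.neg_apply, hhx, Pi.smul_apply, Pi.smul_apply]
      by_cases hjk : j = k
      · subst hjk; simp; ring
      by_cases hjl : j = l
      · subst hjl; simp [hjk, hxl]
      · simp [hjk, hjl]
    refine fun a => addSubgroup_eq_top C.hq h0 (mul_ne_zero (sub_ne_zero.2 (alpha_ne_one hα hα2))
      (mul_ne_zero (sub_ne_zero.2 (alpha_ne_one hα hα2)) hk)) (fun ζ' hζ' a ha => ?_) a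
    obtain ⟨h, hh, hhd, hhx⟩ := hfix ζ' hζ'
    show C.SgIn d _
    have := hconj _ ha h hh hhd
    convert this using 1
    funext j
    rw [hhx]
    by_cases hjk : j = k
    · subst hjk; simp
    · simp [hjk]
  have hek : herm σ d (Pi.single k 1) = 0 := by rw [C.herm_single_right, hdT k hkT]
  -- the full root group at `d`
  have hroot : RootIn C.hU M d := by
    refine ⟨hdd, fun c hc => ?_⟩
    obtain ⟨ε, hε⟩ := exists_trace_one C.hU.involutive C.hU.ne_refl
    obtain ⟨b, hb⟩ : ∃ b, b = -(c * ε) := ⟨_, rfl⟩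
    obtain ⟨h1, c₁, -, g₁, hg₁, e₁⟩ := hall 1
    obtain ⟨h2, c₂, -, g₂, hg₂, e₂⟩ := hall b
    have a1 := C.isSg_mul hdd h1 h2 e₁ e₂
    have a2 := C.isSg_mul hdd h2 h1 e₂ e₁
    have : utv C.hU d c = (g₁ * g₂) * (g₂ * g₁)⁻¹ := by
      rw [eq_mul_inv_iff_mul_eq]
      apply gl_ext; intro z
      rw [act_mul, act_utv C.hU hdd, a1 z, a2 z]
      simp only [add_left C.hU, sub_left C.hU, add_right C.hU, smul_left C.hU, smul_right C.hU, hdd, hek,
        C.herm_single_self, eq_zero_symm C.hU hek]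
      rw [hb, map_neg, map_mul, map_one, eq_neg_of_add_eq_zero_right hc]
      match_scalars <;> try ring
      linear_combination (-(c * herm σ z d)) * hε
    rw [this]
    exact M.mul_mem (M.mul_mem hg₁ hg₂) (M.inv_mem (M.mul_mem hg₂ hg₁))
  -- a weight two vector
  obtain ⟨i, hiT⟩ : ∃ i, d i ≠ 0 := by
    refine ⟨k₁, ?_⟩
    rw [hd, Pi.sub_apply, h₁x, he]
    simp only [dif_pos k₁.2]
    rw [← sub_one_mul]
    exact mul_ne_zero (sub_ne_zero.2 hk₁) (mem_supp.1 (hT k₁.2))
  have hik : i ≠ k := fun e => hiT (e ▸ hdT k hkT)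
  have hil : i ≠ l := fun e => hiT (e ▸ hdT l hlT)
  obtain ⟨A, hA⟩ : ∃ A, A = d i * σ (d i) := ⟨_, rfl⟩
  have hA0 : A ≠ 0 := hA ▸ C.norm_ne_zero hiT
  have hAσ : σ A = A := by rw [hA, C.norm_fixed]
  obtain ⟨w, hw⟩ := exists_norm C.hU.involutive C.hU.ne_refl (-A) (by rw [map_neg, hAσ])
  obtain ⟨a, ha⟩ : ∃ a, a = (w - d i) / A := ⟨_, rfl⟩
  obtain ⟨hka, c₀, hc₀, g, hg, eg⟩ := hall a
  obtain ⟨c, hc⟩ : ∃ c, c = (1 + d i * σ a) / A := ⟨_, rfl⟩
  have hcc : c - c₀ + σ (c - c₀) = 0 := by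
    rw [smul_left C.hU, smul_right C.hU, C.herm_single_self, mul_one] at hc₀
    have hwa : w = A * a + d i := by rw [ha]; field_simp; ring
    rw [hwa, map_add, map_mul, hAσ] at hw
    have : c + σ c = -(a * σ a) := by
      rw [hc, map_div₀, map_add, map_one, map_mul, C.sigma_sigma, hAσ, ← add_div, div_eq_iff hA0]
      refine mul_left_cancel₀ hA0 ?_
      linear_combination hw + hA
    rw [map_sub]
    linear_combination this - hc₀
  have hm : utv C.hU d (c - c₀) * g ∈ M := M.mul_mem (hroot.2 _ hcc) hg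
  obtain ⟨g', hg', s, -, hgs⟩ := C.exists_perm (Equiv.swap i k) l ⟨Equiv.swap i k, fun _ => rfl⟩
  have hu2 : RootIn C.hU M (act g' d) := rootIn_conj C.hU hg' (C.iso hg') hroot
  have vi : act g' d i = 0 := by
    have := hgs d k
    rw [Equiv.swap_apply_right, hdT k hkT, mul_zero] at this
    exact this
  have vk : act g' d k = d i := by
    have := hgs d i
    rw [Equiv.swap_apply_left, if_neg hil, one_mul] at this
    exact this
  have vo : ∀ j, j ≠ i → j ≠ k → act g' d j = d j := fun j h1 h2 => by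
    have := hgs d j
    rw [Equiv.swap_apply_of_ne_of_ne h1 h2] at this
    rw [this]
    split_ifs with h
    · rw [h, hdT l hlT, mul_zero]
    · rw [one_mul]
  have hu2d : herm σ (act g' d) d = -A := by
    have h1 := C.herm_pair hik (x := act g' d) (x' := d) (y := d) (y' := d) vo fun _ _ _ => rfl
    rw [vi, vk, hdT k hkT, map_zero, hdd, ← hA] at h1
    linear_combination h1
  have hv := rootIn_conj C.hU hm (C.iso hm) hu2
  obtain ⟨v, hvdef⟩ : ∃ v, v = act (utv C.hU d (c - c₀) * g) (act g' d) := ⟨_, rfl⟩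
  rw [← hvdef] at hv
  have hval : v = act g' d + (A * a) • Pi.single k 1 - d := by
    have hca : c * A = 1 + d i * σ a := by rw [hc, div_mul_cancel₀ _ hA0]
    rw [hvdef, act_mul, act_utv C.hU hdd, eg]
    simp only [add_left C.hU, sub_left C.hU, smul_left C.hU, smul_right C.hU, C.herm_single_right, hdd,
      hu2d, vk, eq_zero_symm C.hU hek]
    match_scalars <;> try ring
    linear_combination -hca
  refine ⟨i, k, hik, C.plane_of_cancel hv hik ?_ ?_⟩
  · rw [hval]
    simp only [Pi.sub_apply, Pi.add_apply, Pi.smul_apply, vi, vk, hdT k hkT, Pi.single_eq_same,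
      Pi.single_eq_of_ne hik, smul_eq_mul, mul_zero, mul_one, zero_add, add_zero, sub_zero, zero_sub, map_neg,
      neg_mul_neg, ← hA]
    rw [show d i + A * a = w by rw [ha]; field_simp; ring, hw, add_neg_cancel]
  · rw [hval]
    simp [vi, hik, hiT]

end Ctx

end Cfsg.Agent.MaxCl.Unit
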