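/-
Stabilisers of orthogonal decompositions into non-degenerate subspaces are maximal in the special unitary group.
-/
import Mathlib
import Cfsg.Agent.Lib.MaxCl.UnitaryMonoSeed
import Cfsg.Agent.Lib.MaxCl.SympSwap

set_option autoImplicit false

namespace Cfsg.Agent.MaxCl.Unit

open scoped MatrixGroups Matrix
open Module (finrank)

section ortho

variable {ι : Type} [Fintype ι] [DecidableEq ι] {F : Type*} [Field F] [Fintype F]
variable {σ : F ≃+* F} {f : (ι → F) → (ι → F) → F} (hU : Cfsg.Geo.IsUnitaryForm σ f)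
include hU

theorem exists_aniso_in {W : Submodule F (ι → F)} (hW : Cfsg.Geo.IsNondegenerateOn f W) (h0 : W ≠ ⊥) :
    ∃ p ∈ W, f p p = 1 := by
  obtain ⟨p, hp, hp1⟩ : ∃ p ∈ W, f p p ≠ 0 := by
    by_contra hno
    push Not at hno
    obtain ⟨x, hx, hx0⟩ := Submodule.exists_mem_ne_zero_of_ne_bot h0
    obtain ⟨y, hy, hxy⟩ := (hW x hx hx0).2
    obtain ⟨e, he⟩ := exists_trace_one hU.involutive hU.ne_refl
    have key := hno _ (W.add_mem (W.smul_mem (e / f x y) hx) hy)
    rw [add_left hU, add_right hU, add_right hU, hno _ (W.smul_mem _ hx), hno y hy, zero_add, add_zero,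
      smul_left hU, smul_right hU, ← herm' hU x y, ← map_mul, div_mul_cancel₀ _ hxy, he] at key
    exact one_ne_zero key
  obtain ⟨b, hb⟩ := exists_scale hU hp1 (map_one σ)
  exact ⟨b • p, W.smul_mem _ hp, hb⟩

theorem exists_orthonormal_family : ∀ (k : ℕ) (W : Submodule F (ι → F)), Cfsg.Geo.IsNondegenerateOn f W →
    finrank F W = k → ∃ v : Fin k → ι → F, (∀ r, v r ∈ W) ∧ ∀ r s, f (v r) (v s) = if r = s then 1 else 0 := by
  intro k
  induction k with
  | zero => intro W _ _; exact ⟨Fin.elim0, fun r => r.elim0, fun r => r.elim0⟩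
  | succ k ih =>
    intro W hW hd
    obtain ⟨p, hp, hpp⟩ := exists_aniso_in hU hW (fun h => by rw [h, finrank_bot] at hd; omega)
    obtain ⟨W', hW'⟩ : ∃ W', W' = W ⊓ LinearMap.ker (flinU hU p) := ⟨_, rfl⟩
    have hd' : finrank F W' = k := by
      have h1 := Submodule.finrank_sup_add_finrank_inf_eq W (LinearMap.ker (flinU hU p))
      have h2 := Submodule.finrank_le (W ⊔ LinearMap.ker (flinU hU p))
      have h3 := LinearMap.finrank_range_add_finrank_ker (flinU hU p)
      have h4 := Submodule.finrank_le (LinearMap.range (flinU hU p))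
      rw [Module.finrank_self] at h4
      have h5 : finrank F W' < finrank F W := Submodule.finrank_lt_finrank_of_lt (lt_of_le_of_ne (hW' ▸ inf_le_left)
        fun h => by
          have : p ∈ W' := h.symm ▸ hp
          rw [hW', Submodule.mem_inf, LinearMap.mem_ker, flinU_apply, hpp] at this
          exact one_ne_zero this.2)
      rw [← hW'] at h1
      omega
    have hnd : Cfsg.Geo.IsNondegenerateOn f W' := by
      intro w hw hw0
      rw [hW', Submodule.mem_inf, LinearMap.mem_ker, flinU_apply] at hw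
      obtain ⟨x, hx, hwx⟩ := (hW w hw.1 hw0).2
      have hx' : x - f x p • p ∈ W' := by
        rw [hW', Submodule.mem_inf, LinearMap.mem_ker, flinU_apply, sub_left hU, smul_left hU, hpp, mul_one, sub_self]
        exact ⟨W.sub_mem hx (W.smul_mem _ hp), rfl⟩
      have hne : f w (x - f x p • p) ≠ 0 := by
        rwa [sub_right hU, smul_right hU, hw.2, mul_zero, sub_zero]
      exact ⟨⟨_, hx', ne_symm hU hne⟩, ⟨_, hx', hne⟩⟩
    obtain ⟨v, hv, hvv⟩ := ih W' hnd hd'
    have hv' : ∀ r, v r ∈ W ∧ f (v r) p = 0 := fun r => by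
      have := hv r
      rwa [hW', Submodule.mem_inf, LinearMap.mem_ker, flinU_apply] at this
    refine ⟨Fin.cons p v, fun r => ?_, fun r s => ?_⟩
    · refine Fin.cases ?_ (fun i => ?_) r
      · exact hp
      · rw [Fin.cons_succ]; exact (hv' i).1
    · refine Fin.cases ?_ (fun i => ?_) r <;> refine Fin.cases ?_ (fun j => ?_) s
      · simpa using hpp
      · simpa [(Fin.succ_ne_zero _).symm] using eq_zero_symm hU (hv' j).2
      · simpa using (hv' i).2
      · simpa using hvv i j

end ortho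

variable {ι : Type} [Fintype ι] [DecidableEq ι] {F : Type*} [Field F] [Fintype F]
variable {σ : F ≃+* F} {q : ℕ}

/-- `q = 2`: planes are monomial -/
theorem Ctx.plane_two {M : Subgroup (GL ι F)} (C : Ctx σ q (id : ι → ι) M) (h2 : q = 2) {i j : ι} (hij : i ≠ j) :
    PlaneIn C i j := by
  intro b hb
  obtain ⟨u1, u2, u3⟩ := C.plane_u b hij
  have hu : herm σ (Pi.single i 1 + b • Pi.single j 1) (Pi.single i 1 + b • Pi.single j 1) = 0 := by
    rw [C.herm_two hij u3, u1, u2, map_one, mul_one, hb, add_neg_cancel]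
  refine ⟨hu, fun c hc => ?_⟩
  rcases eq_or_ne c 0 with rfl | hc0
  · rw [utv_zero' C.hU hu]; exact M.one_mem
  have hc1 : c = 1 := by
    have h1 := C.norm_two h2 hc0
    have h3 := C.char_two h2
    have : (c - 1) * (c + 1) = 0 := by linear_combination c * hc - h1 - h3
    rcases mul_eq_zero.1 this with h | h
    · exact sub_eq_zero.1 h
    · linear_combination h - h3
  subst hc1
  refine C.stab_le _ ⟨utv_mem C.hU hu hc, det_ptv C.hU (by rw [smul_right C.hU, hu, mul_zero])⟩
    ⟨Equiv.swap i j, fun m k hk => ?_⟩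
  simp only [id]
  rcases C.utv_coord hij hb 1 hk with rfl | ⟨hk', hm⟩
  · rw [Equiv.swap_apply_of_ne_of_ne] <;> intro e <;> subst e <;> apply hk <;>
      rw [act_utv C.hU hu, C.herm_single_left]
    · simp [hij]; linear_combination C.char_two h2
    · simp [hij.symm]
      linear_combination hb
  · rcases hk' with rfl | rfl <;> rcases hm with rfl | rfl <;> simp only [Equiv.swap_apply_left, Equiv.swap_apply_right]
    · exfalso; apply hk
      rw [act_utv C.hU hu, C.herm_single_left]
      simp [hij]; linear_combination C.char_two h2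
    · exfalso; apply hk
      rw [act_utv C.hU hu, C.herm_single_left]
      simp [hij.symm]
      linear_combination hb
where
  utv_zero' {f : (ι → F) → (ι → F) → F} (hU : Cfsg.Geo.IsUnitaryForm σ f) {u : ι → F} (hu : f u u = 0) :
      utv hU u 0 = 1 := gl_ext fun x => by rw [act_utv hU hu, zero_mul, zero_smul, add_zero, act_one]

variable {β : Type} {blk : ι → β} {M : Subgroup (GL ι F)}

/-- an element of the overgroup outside the stabiliser gives everything -/
theorem Ctx.eq_top (C : Ctx σ q blk M) [DecidableEq β] [Finite β] {κ : Type} [Fintype κ] (e : ι ≃ β × κ)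
    (he : ∀ i, blk i = (e i).1) (hex : ¬ (Fintype.card κ = 2 ∧ q = 2))
    (hsmall : Fintype.card κ < 2 → Fintype.card ι < 10 → q ≠ 2 ∧ ∀ C' : Ctx σ q (id : ι → ι) M,
      ∀ {α : F}, α * σ α = 1 → α ^ 2 ≠ 1 → α ^ 3 ≠ 1 → ∀ {g : GL ι F}, g ∈ M → ¬ IsMono g → C'.Mixed α)
    {g : GL ι F} (hg : g ∈ M)
    (hgP : ¬ Perms blk g) : M = SUc σ := by
  classical
  obtain ⟨a⟩ : Nonempty ι := Fintype.card_pos_iff.1 (by have := C.hn; omega)
  haveI : Nonempty κ := ⟨(e a).2⟩
  rcases Nat.lt_or_ge (Fintype.card κ) 2 with h1 | h2k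
  · -- one-dimensional blocks
    haveI : Subsingleton κ := Fintype.card_le_one_iff_subsingleton.1 (by omega)
    have hinj : Function.Injective blk := fun x y hxy => e.injective (Prod.ext (by rw [← he, ← he, hxy]) (Subsingleton.elim _ _))
    have hbij : Function.Bijective blk := ⟨hinj, fun l => ⟨e.symm (l, (e a).2), by simp [he]⟩⟩
    let E : ι ≃ β := Equiv.ofBijective blk hbij
    have C' : Ctx σ q (id : ι → ι) M := ⟨C.hn, C.hq, C.hU, C.le, fun h hh ⟨π, hπ⟩ => C.stab_le h hh
      ⟨E.symm.trans (π.trans E), fun j i hi => by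
        have := hπ j i hi
        simp only [id] at this
        show blk i = E (π (E.symm (blk j)))
        rw [show E.symm (blk j) = j from E.symm_apply_apply j, ← this]
        rfl⟩⟩
    have hgm : ¬ IsMono g := by
      intro hmono
      choose π s hs hcol using fun j => C'.mono_col hg (hmono j)
      have hπi : Function.Injective π := by
        intro x y hxy
        by_contra hne
        have := C'.col_norm hg x y
        rw [if_neg hne, hcol, hcol, hxy, smul_left C.hU, smul_right C.hU, C'.herm_single_self, mul_one] at this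
        exact mul_ne_zero (C.norm_one_ne_zero (hs x)) ((map_ne_zero σ).2 (C.norm_one_ne_zero (hs y))) this
      refine hgP ⟨E.symm.trans ((Equiv.ofBijective π (Finite.injective_iff_bijective.1 hπi)).trans E), fun j i hi => ?_⟩
      show blk i = E (π (E.symm (blk j)))
      rw [show E.symm (blk j) = j from E.symm_apply_apply j]
      rw [hcol] at hi
      by_cases h : i = π j
      · rw [h]; rfl
      · simp [h] at hi
    by_cases h2 : q = 2
    · have hP : ∀ i j, i ≠ j → PlaneIn C' i j := fun i j hij => C'.plane_two h2 hij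
      have h10 : 10 ≤ Fintype.card ι := by
        by_contra h
        exact (hsmall h1 (by omega)).1 h2
      exact C'.eq_top_of_planes hP fun _ => by
        obtain ⟨u, hu, hu4⟩ := C'.four_of_not_mono h2 hP hg hgm
        exact ⟨u, hu, hu4, Or.inr (by omega)⟩
    · obtain ⟨α, hα, -, hα2, -, hα3⟩ := exists_root_ne C.hq
      have hmix : C'.Mixed α := by
        rcases Nat.lt_or_ge (Fintype.card ι) 10 with h | h
        · exact (hsmall h1 h).2 C' hα hα2 (hα3 h2) hg hgm
        · exact C'.exists_mixed hα hα2 (hα3 h2) h hg hgm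
      obtain ⟨i, i', hii, hP⟩ := C'.plane_of_mixed hα hα2 hmix
      exact C'.eq_top_of_planes (C'.planes_of_cross (Equiv.prodPUnit ι).symm (fun _ => rfl) hii hP)
        fun h => absurd h h2
  · haveI : Nontrivial κ := Fintype.one_lt_card_iff_nontrivial.1 (by omega)
    obtain ⟨i, i', hii, hP⟩ := C.exists_cross e he hg hgP
    have hP' := C.planes_of_cross e he hii hP
    refine C.eq_top_of_planes hP' fun h2 => ?_
    -- a non-monomial element of one block
    obtain ⟨r₁, r₂, r₃, h12, h13, h23⟩ := Fintype.two_lt_card_iff.1 (show 2 < Fintype.card κ by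
      have : Fintype.card κ ≠ 2 := fun hk => hex ⟨hk, h2⟩
      omega)
    obtain ⟨l, hl⟩ : ∃ l, l = (e a).1 := ⟨_, rfl⟩
    obtain ⟨x, hx⟩ : ∃ x : ι → F, x = Pi.single (e.symm (l, r₁)) 1 + Pi.single (e.symm (l, r₂)) 1 +
        Pi.single (e.symm (l, r₃)) 1 := ⟨_, rfl⟩
    have n12 : e.symm (l, r₁) ≠ e.symm (l, r₂) := fun h => h12 (congrArg Prod.snd (e.symm.injective h))
    have n13 : e.symm (l, r₁) ≠ e.symm (l, r₃) := fun h => h13 (congrArg Prod.snd (e.symm.injective h))
    have n23 : e.symm (l, r₂) ≠ e.symm (l, r₃) := fun h => h23 (congrArg Prod.snd (e.symm.injective h))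
    have hxblk : ∀ k, x k ≠ 0 → blk k = l := fun k hk => by
      by_contra hne
      apply hk
      have : ∀ r, k ≠ e.symm (l, r) := fun r h => hne (by rw [h]; simp [he])
      simp [hx, this]
    obtain ⟨z, hz, hz1, hzs, hzz⟩ := C.root_two h2
    have h2' := C.char_two h2
    have hxx : herm σ x x = 1 := by
      rw [hx]
      simp [add_left C.hU, add_right C.hU, C.herm_single_left, n12, n13, n23, n12.symm, n13.symm, n23.symm]
      linear_combination h2'
    have hee : herm σ (Pi.single (e.symm (l, r₁)) (1 : F)) (Pi.single (e.symm (l, r₁)) 1) = 1 := by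
      rw [C.herm_single_left, Pi.single_eq_same, map_one]
    obtain ⟨g₁, hg₁, hg₁x⟩ := exists_qref C.hU (x := x) (by rw [hxx]; exact one_ne_zero) hz
    obtain ⟨g₂, hg₂, hg₂x⟩ := exists_qref C.hU (x := Pi.single (e.symm (l, r₁)) (1 : F))
      (by rw [hee]; exact one_ne_zero) (l := σ z) (by rw [C.sigma_sigma, mul_comm, hz])
    have hdet : (g₁ * g₂ : GL ι F) ∈ Cfsg.Geo.specialLinear ι F := by
      rw [Monom.mem_specialLinear_iff, Units.val_mul, Matrix.det_mul,
        det_qref C.hU (by rw [hxx]; exact one_ne_zero) hg₁x, det_qref C.hU (by rw [hee]; exact one_ne_zero) hg₂x, hz]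
    have hco : ∀ j k, act (g₁ * g₂) (Pi.single j 1) k ≠ 0 → blk k = blk j := by
      intro j k hk
      by_contra hne
      apply hk
      rw [act_mul, hg₁x, hg₂x]
      rcases eq_or_ne (blk j) l with hj | hj
      · have hxk : x k = 0 := by_contra fun h => hne ((hxblk k h).trans hj.symm)
        have h1 : k ≠ j := fun h => hne (by rw [h])
        have h1' : k ≠ e.symm (l, r₁) := fun h => hne (by rw [h, hj]; simp [he])
        simp [hxk, h1, h1']
      · have hxj : x j = 0 := by_contra fun h => hj (hxblk j h)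
        have hje : j ≠ e.symm (l, r₁) := fun h => hj (by rw [h]; simp [he])
        have h1 : k ≠ j := fun h => hne (by rw [h])
        simp [C.herm_single_left, hxj, hje.symm, h1]
    have hh : g₁ * g₂ ∈ M := C.stab_le _ ⟨mul_mem hg₁ hg₂, hdet⟩ ⟨1, fun j k hk => hco j k hk⟩
    obtain ⟨b, hb⟩ : ∃ b, blk b ≠ l := by
      by_contra hall
      push Not at hall
      exact hgP ⟨1, fun j k _ => by rw [Equiv.Perm.one_apply, hall j, hall k]⟩
    have hr2b : e.symm (l, r₂) ≠ b := fun h => hb (by rw [← h]; simp [he])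
    have hr1b : b ≠ e.symm (l, r₁) := fun h => hb (by rw [h]; simp [he])
    have hxb : x b = 0 := by_contra fun h => hb (hxblk b h)
    have hu : RootIn C.hU M (Pi.single (e.symm (l, r₂)) 1 + Pi.single b 1) :=
      C.plane_vec hr2b (hP' _ _ hr2b) (fun k hk hk' => by simp [hk, hk']) (by simp [hr2b, hr2b.symm]; linear_combination h2')
    have v : act (g₁ * g₂) (Pi.single (e.symm (l, r₂)) 1) =
        Pi.single (e.symm (l, r₂)) 1 + (z - 1) • x := by
      rw [act_mul, hg₂x, C.herm_single_right (Pi.single (e.symm (l, r₂)) 1) (e.symm (l, r₁)),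
        Pi.single_eq_of_ne n12, mul_zero, zero_div, zero_smul, add_zero, hg₁x, hxx, div_one, C.herm_single_left]
      congr 2
      simp [hx, n12.symm, n23]
    have vb : act (g₁ * g₂) (Pi.single b 1) = Pi.single b 1 := by
      rw [act_mul, hg₂x, C.herm_single_right (Pi.single b 1) (e.symm (l, r₁)), Pi.single_eq_of_ne hr1b.symm,
        mul_zero, zero_div, zero_smul, add_zero, hg₁x, C.herm_single_left, hxb, map_zero, mul_zero, zero_div,
        zero_smul, add_zero]
    have hr3b : b ≠ e.symm (l, r₃) := fun h => hb (by rw [h]; simp [he])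
    have hz0 := C.norm_one_ne_zero hz
    have hsupp : supp (act (g₁ * g₂) (Pi.single (e.symm (l, r₂)) 1 + Pi.single b 1)) =
        {e.symm (l, r₁), e.symm (l, r₂), e.symm (l, r₃), b} := by
      ext k
      rw [map_add, v, vb, mem_supp]
      simp only [Finset.mem_insert, Finset.mem_singleton, hx, Pi.add_apply, Pi.smul_apply, smul_eq_mul]
      by_cases k1 : k = e.symm (l, r₁)
      · subst k1; simp [n12, n13, hr1b.symm]; exact sub_ne_zero.2 hz1
      by_cases k2 : k = e.symm (l, r₂)
      · subst k2; simp [n12.symm, n23, hr2b]; exact hz0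
      by_cases k3 : k = e.symm (l, r₃)
      · subst k3; simp [n13.symm, n23.symm, hr3b.symm]; exact sub_ne_zero.2 hz1
      by_cases kb : k = b
      · subst kb; simp [k1, k2, k3]
      · simp [k1, k2, k3, kb]
    have h4 : (supp (act (g₁ * g₂) (Pi.single (e.symm (l, r₂)) 1 + Pi.single b 1))).card = 4 := by
      rw [hsupp]; simp [n12, n13, n23, hr1b.symm, hr2b, hr3b.symm]
    exact ⟨_, rootIn_conj C.hU hh (C.iso hh) hu, h4.ge, Or.inl h4⟩

/-- The stabiliser of a decomposition into non-degenerate subspaces is maximal in the special unitary group. -/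
theorem unitary_decomposition_maximal {n t k : ℕ} (hq : QSq σ q) (hn : 6 ≤ n)
    (hU : Cfsg.Geo.IsUnitaryForm σ (herm (ι := Fin n) σ)) {D : Fin t → Submodule F (Fin n → F)}
    (hD : Cfsg.Geo.IsNondegenerateMDecomposition (herm σ) k D) (hex : ¬ (k = 2 ∧ q = 2))
    (hsmall : k = 1 → n < 10 → q ≠ 2 ∧ ∀ (M : Subgroup (GL (Fin n) F)) (C' : Ctx σ q (id : Fin n → Fin n) M),
      ∀ {α : F}, α * σ α = 1 → α ^ 2 ≠ 1 → α ^ 3 ≠ 1 → ∀ {g : GL (Fin n) F}, g ∈ M → ¬ IsMono g → C'.Mixed α) :
    Cfsg.Geo.IsMaximalIn (SUc (ι := Fin n) σ) (Cfsg.Geo.decompositionStabilizer D ⊓ SUc σ) := by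
  classical
  have hbasis := fun l => exists_orthonormal_family hU k (D l) (hD.nondegenerate l) (hD.decomp.finrank_eq l)
  choose v hv hvv using hbasis
  obtain ⟨b, hb⟩ : ∃ b : Fin t × Fin k → Fin n → F, b = fun p => v p.1 p.2 := ⟨_, rfl⟩
  have hbb : ∀ p p', herm σ (b p) (b p') = if p = p' then 1 else 0 := by
    rintro ⟨l, r⟩ ⟨l', r'⟩
    rw [hb]
    by_cases hl : l = l'
    · subst hl; simp [hvv]
    · rw [if_neg fun h => hl (congrArg Prod.fst h)]
      exact hD.orthogonal l l' hl _ (hv l r) _ (hv l' r')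
  have hli : LinearIndependent F b := by
    rw [Fintype.linearIndependent_iff]
    intro c hc p
    have := congrArg (flinU hU (b p)) hc
    rw [map_sum, map_zero, Finset.sum_eq_single p] at this
    · simpa [map_smul, flinU_apply, hbb] using this
    · intro p' _ hp; simp [map_smul, flinU_apply, hbb, hp]
    · simp
  have hvspan : ∀ l, Submodule.span F (Set.range (v l)) = D l := fun l => by
    refine Submodule.eq_of_le_of_finrank_le (Submodule.span_le.2 (by rintro _ ⟨r, rfl⟩; exact hv l r)) ?_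
    have hl : LinearIndependent F (v l) := by
      have := hli.comp (fun r => (l, r)) fun r r' h => congrArg Prod.snd h
      rwa [hb] at this
    rw [finrank_span_eq_card hl, Fintype.card_fin, hD.decomp.finrank_eq]
  have htop : Submodule.span F (Set.range b) = ⊤ := by
    rw [eq_top_iff, ← hD.decomp.iSup_eq_top, iSup_le_iff]
    intro l
    rw [← hvspan l]
    exact Submodule.span_mono (by rintro _ ⟨r, rfl⟩; exact ⟨(l, r), by rw [hb]⟩)
  have hcard : Fintype.card (Fin t × Fin k) = n := by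
    have := finrank_span_eq_card hli
    rw [htop, finrank_top, Module.finrank_fin_fun] at this
    exact this.symm
  obtain ⟨e⟩ : Nonempty (Fin n ≃ Fin t × Fin k) := ⟨(Fintype.equivFinOfCardEq hcard).symm⟩
  obtain ⟨blk, hblk⟩ : ∃ blk : Fin n → Fin t, blk = fun i => (e i).1 := ⟨_, rfl⟩
  have hlie : LinearIndependent F (b ∘ e) := hli.comp e e.injective
  obtain ⟨g₀, hg₀⟩ := exists_gl_of_injective (Fintype.linearCombination F (b ∘ e))
    hlie.fintypeLinearCombination_injective
  have hcol : ∀ j, act g₀ (Pi.single j 1) = b (e j) := fun j => by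
    rw [hg₀, Fintype.linearCombination_apply_single, one_smul]; rfl
  have hsum : ∀ x, act g₀ x = ∑ i, x i • b (e i) := fun x => by
    rw [hg₀, Fintype.linearCombination_apply]; rfl
  have hg₀U : g₀ ∈ uiso (herm (ι := Fin n) σ) := by
    rw [mem_uiso]
    intro x y
    rw [hsum, hsum y]
    change flinU hU _ (∑ i, x i • b (e i)) = _
    rw [map_sum, herm]
    refine Finset.sum_congr rfl fun i _ => ?_
    rw [map_smul, smul_eq_mul, flinU_apply]
    congr 1
    rw [← herm' hU]
    change σ (flinU hU _ (∑ j, y j • b (e j))) = _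
    rw [map_sum, Finset.sum_eq_single i]
    · rw [map_smul, flinU_apply, hbb, if_pos rfl, smul_eq_mul, mul_one]
    · intro j _ hj
      rw [map_smul, flinU_apply, hbb, if_neg fun h => hj (e.injective h), smul_zero]
    · simp
  have hmem0 : ∀ l x, act g₀ x ∈ D l ↔ ∀ i, x i ≠ 0 → blk i = l := by
    intro l x
    refine ⟨fun hx i hi => ?_, fun hx => ?_⟩
    · by_contra hne
      apply hi
      have hi' : herm σ x (Pi.single i 1) = x i := by
        rw [herm, Finset.sum_eq_single i (fun j _ hj => by simp [hj]) (by simp)]; simp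
      rw [← hi', ← mem_uiso.1 hg₀U, hcol, hb]
      exact hD.orthogonal l (blk i) (Ne.symm hne) _ hx _ (by rw [hblk]; exact hv _ _)
    · rw [hsum]
      refine Submodule.sum_mem _ fun i _ => ?_
      by_cases hi : x i = 0
      · rw [hi, zero_smul]; exact Submodule.zero_mem _
      · refine Submodule.smul_mem _ _ ?_
        rw [← hx i hi, hblk, hb]
        exact hv _ _
  have hconjSU : ∀ g, g ∈ SUc (ι := Fin n) σ ↔ g₀ * g * g₀⁻¹ ∈ SUc (ι := Fin n) σ := fun g => by
    have hdet : (g₀ * g * g₀⁻¹ ∈ Cfsg.Geo.specialLinear (Fin n) F) ↔ g ∈ Cfsg.Geo.specialLinear (Fin n) F := by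
      simp only [Cfsg.Geo.specialLinear, MonoidHom.mem_ker, map_mul, map_inv, mul_inv_cancel_comm]
    refine ⟨fun h => ⟨(uiso _).mul_mem ((uiso _).mul_mem hg₀U h.1) ((uiso _).inv_mem hg₀U), hdet.2 h.2⟩, fun h => ⟨?_, hdet.1 h.2⟩⟩
    have := (uiso (herm (ι := Fin n) σ)).mul_mem ((uiso (herm (ι := Fin n) σ)).mul_mem ((uiso _).inv_mem hg₀U) h.1) hg₀U
    rwa [show g₀⁻¹ * (g₀ * g * g₀⁻¹) * g₀ = g by group] at this
  have hstab : ∀ g, Perms blk g → g₀ * g * g₀⁻¹ ∈ Cfsg.Geo.decompositionStabilizer D := by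
    rintro g ⟨π, hπ⟩
    refine ⟨π, fun l => Submodule.eq_of_le_of_finrank_eq ?_
      (by rw [toLin'_eq_act, finrank_map_act, hD.decomp.finrank_eq, hD.decomp.finrank_eq])⟩
    rintro _ ⟨y, hy, rfl⟩
    rw [toLin'_eq_act, act_mul, act_mul]
    rw [SetLike.mem_coe, ← act_act_inv g₀ y, hmem0] at hy
    refine (hmem0 _ _).2 fun i hi => ?_
    rw [Monom.eq_sum_single (act g₀⁻¹ y), map_sum, Finset.sum_apply] at hi
    obtain ⟨j, -, hj⟩ := Finset.exists_ne_zero_of_sum_ne_zero hi
    rw [map_smul, Pi.smul_apply, smul_eq_mul, mul_ne_zero_iff] at hj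
    rw [hπ j i hj.2, hy j hj.1]
  have hperm : ∀ g, g₀ * g * g₀⁻¹ ∈ Cfsg.Geo.decompositionStabilizer D → Perms blk g := by
    rintro g ⟨π, hπ⟩
    refine ⟨π, fun j i hi => ?_⟩
    refine (hmem0 (π (blk j)) (act g (Pi.single j 1))).1 ?_ i hi
    rw [← hπ (blk j)]
    refine ⟨act g₀ (Pi.single j 1), (hmem0 _ _).2 fun i' hi' => ?_, ?_⟩
    · by_contra h
      exact hi' (Pi.single_eq_of_ne (fun e' => h (by rw [e'])) _)
    · rw [toLin'_eq_act, act_mul, act_mul, act_inv_act]
  have ctx : ∀ M : Subgroup (GL (Fin n) F), Cfsg.Geo.decompositionStabilizer D ⊓ SUc σ ≤ M → M ≤ SUc σ →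
      Ctx σ q blk (M.comap (MulAut.conj g₀).toMonoidHom) := fun M h1 h2 =>
    ⟨by simpa using hn, hq, hU, fun g hg => (hconjSU g).2 (h2 (Subgroup.mem_comap.1 hg)),
      fun g hg hP => Subgroup.mem_comap.2 (h1 ⟨hstab g hP, (hconjSU g).1 hg⟩)⟩
  have hk0 := hD.decomp.pos
  have ht := hD.decomp.two_le
  refine ⟨lt_of_le_of_ne inf_le_right fun heq => ?_, fun M h1 h2 => ?_⟩
  · obtain ⟨l₀, l₁, hl⟩ : ∃ l₀ l₁ : Fin t, l₀ ≠ l₁ := ⟨⟨0, by omega⟩, ⟨1, by omega⟩, by simp⟩
    obtain ⟨c₀⟩ : Nonempty (Fin k) := ⟨⟨0, hk0⟩⟩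
    obtain ⟨j, hj1, hj2⟩ : ∃ j, e.symm (l₀, c₀) ≠ j ∧ blk j ≠ l₁ := by
      rcases Nat.lt_or_ge k 2 with hk1 | hk2
      · have ht13 : 2 < t := by
          rw [Fintype.card_prod, Fintype.card_fin, Fintype.card_fin] at hcard
          have : k = 1 := by omega
          subst this; omega
        obtain ⟨l₂, -, hl₂⟩ := Finset.exists_mem_notMem_of_card_lt_card (s := ({l₀, l₁} : Finset (Fin t)))
          (t := Finset.univ) (by
          rw [Finset.card_univ, Fintype.card_fin]; have := Finset.card_le_two (a := l₀) (b := l₁); omega)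
        simp only [Finset.mem_insert, Finset.mem_singleton, not_or] at hl₂
        exact ⟨e.symm (l₂, c₀), fun h => hl₂.1 (congrArg Prod.fst (e.symm.injective h)).symm,
          by simpa [hblk] using hl₂.2⟩
      · obtain ⟨c₁, hc⟩ := Fintype.exists_ne_of_one_lt_card (show 1 < Fintype.card (Fin k) by rw [Fintype.card_fin]; omega) c₀
        exact ⟨e.symm (l₀, c₁), fun h => hc (congrArg Prod.snd (e.symm.injective h)).symm,
          by simpa [hblk] using hl⟩
    obtain ⟨g, hg, hgP⟩ := (ctx (SUc σ) inf_le_right le_rfl).exists_not_perms (i := e.symm (l₀, c₀))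
      (i' := e.symm (l₁, c₀)) (by simpa [hblk] using hl) hj1 (fun h => hj2 (by rw [← h, hblk]; simp))
      (by simpa [hblk] using hj2)
    exact hgP (hperm g (heq.ge ((hconjSU g).1 hg)).1)
  by_cases hsub : M ≤ Cfsg.Geo.decompositionStabilizer D
  · exact Or.inl (le_antisymm (le_inf hsub h2) h1)
  right
  obtain ⟨g, hgM, hgD⟩ := SetLike.not_le_iff_exists.1 hsub
  have C := ctx M h1 h2
  have hgg : g₀ * (g₀⁻¹ * g * g₀) * g₀⁻¹ = g := by group
  have htop' := C.eq_top (κ := Fin k) e (fun i => by rw [hblk]) (by rwa [Fintype.card_fin])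
    (fun hk hι => by
      rw [Fintype.card_fin] at hk hι
      obtain ⟨hq2, h⟩ := hsmall (by omega) hι
      exact ⟨hq2, fun C' => h _ C'⟩)
    (g := g₀⁻¹ * g * g₀) (Subgroup.mem_comap.2 (by
      show g₀ * (g₀⁻¹ * g * g₀) * g₀⁻¹ ∈ M
      rwa [hgg])) (fun hP => hgD (by have := hstab _ hP; rwa [hgg] at this))
  refine le_antisymm h2 fun x hx => ?_
  have hxx : g₀ * (g₀⁻¹ * x * g₀) * g₀⁻¹ = x := by group
  have : g₀⁻¹ * x * g₀ ∈ M.comap (MulAut.conj g₀).toMonoidHom := by
    rw [htop', hconjSU, hxx]; exact hx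
  have h3 : g₀ * (g₀⁻¹ * x * g₀) * g₀⁻¹ ∈ M := Subgroup.mem_comap.1 this
  rwa [hxx] at h3

end Cfsg.Agent.MaxCl.Unit
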