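/-
The normaliser of a field subalgebra of prime degree properly contained in the dimension is maximal.
-/
import Mathlib
import Cfsg.Agent.Lib.MaxCl.ExtFieldMax

set_option autoImplicit false
set_option maxHeartbeats 800000

namespace Cfsg.Agent.MaxCl.ExtF

open scoped MatrixGroups Matrix
open Module

variable {ι : Type} [Fintype ι] [DecidableEq ι] {F : Type*} [Field F]

/-- A subgroup containing `N ∩ SL` and an element outside `N` contains `SL`; there is such an element in
`SL`; and the determinant is onto on `N`. -/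
theorem normalizer_facts [Fintype F] (r : ℕ) (hr : r.Prime) (hrn : r ∣ Fintype.card ι)
    (hlt : r < Fintype.card ι) (A : Subalgebra F (Matrix ι ι F)) (hA : Cfsg.Geo.IsFieldSubalgebra r A) :
    (∀ H : Subgroup (GL ι F),
        Cfsg.Geo.subalgebraNormalizer A ⊓ Cfsg.Geo.specialLinear ι F ≤ H →
        (∃ g ∈ H, g ∉ Cfsg.Geo.subalgebraNormalizer A) → Cfsg.Geo.specialLinear ι F ≤ H) ∧
      ¬ Cfsg.Geo.specialLinear ι F ≤ Cfsg.Geo.subalgebraNormalizer A ∧
      ∀ c : Fˣ, ∃ g ∈ Cfsg.Geo.subalgebraNormalizer A, Matrix.GeneralLinearGroup.det g = c := by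
  classical
  haveI : Nonempty ι := Fintype.card_pos_iff.1 (by omega)
  have hfield : IsField A :=
    { exists_pair_ne := ⟨0, 1, fun h => zero_ne_one (α := Matrix ι ι F) (congrArg Subtype.val h)⟩
      mul_comm := fun a b => Subtype.ext (hA.comm a.1 a.2 b.1 b.2)
      mul_inv_cancel := fun {a} ha => by
        obtain ⟨y, hy, hxy⟩ := hA.inv a.1 a.2 (fun h => ha (Subtype.ext h))
        exact ⟨⟨y, hy⟩, Subtype.ext hxy⟩ }
  letI : Field A := hfield.toField
  letI : Module A (ι → F) :=
    { smul := fun a v => (a : Matrix ι ι F) *ᵥ v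
      one_smul := fun v => Matrix.one_mulVec v
      mul_smul := fun a b v => (Matrix.mulVec_mulVec v _ _).symm
      smul_zero := fun a => Matrix.mulVec_zero _
      smul_add := fun a v w => Matrix.mulVec_add _ v w
      add_smul := fun a b v => Matrix.add_mulVec _ _ v
      zero_smul := fun v => Matrix.zero_mulVec v }
  have hsmul : ∀ (a : A) (v : ι → F), a • v = (a : Matrix ι ι F) *ᵥ v := fun a v => rfl
  haveI : IsScalarTower F A (ι → F) := ⟨fun c a v => by
    rw [hsmul, hsmul]
    exact Matrix.smul_mulVec c _ v⟩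
  haveI : Module.Finite F A := Module.finite_of_finrank_pos (hA.finrank_eq ▸ hr.pos)
  haveI : Finite A := Module.finite_of_finite F
  have hr' : (finrank F A).Prime := hA.finrank_eq.symm ▸ hr
  have hm : 2 ≤ finrank A (ι → F) := by
    have := Module.finrank_mul_finrank F A (ι → F)
    rw [Module.finrank_fintype_fun_eq_card, hA.finrank_eq] at this
    rcases Nat.lt_or_ge (finrank A (ι → F)) 2 with h | h
    · have := Nat.mul_le_mul_left r (Nat.lt_succ_iff.1 h)
      omega
    · exact h
  -- membership is semilinearity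
  have hsemi : ∀ g : GL ι F, g ∈ Cfsg.Geo.subalgebraNormalizer A ↔ IsSemi A g := by
    intro g
    constructor
    · intro hg k
      refine ⟨⟨_, (hg k.1).1 k.2⟩, fun x => ?_⟩
      simp only [hsmul, act_apply, Matrix.mulVec_mulVec, mul_assoc, ← Units.val_mul, inv_mul_cancel,
        Units.val_one, mul_one]
    · intro hg
      choose τ hτ using hg
      have hmat : ∀ k : A, (g : Matrix ι ι F) * k * ((g⁻¹ : GL ι F) : Matrix ι ι F) = τ k := by
        intro k
        have : (g : Matrix ι ι F) * k = τ k * (g : Matrix ι ι F) := by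
          apply Matrix.toLin'.injective
          apply LinearMap.ext
          intro x
          have := hτ k x
          simp only [hsmul, act_apply, Matrix.mulVec_mulVec] at this
          simpa using this
        rw [this, mul_assoc, ← Units.val_mul, mul_inv_cancel, Units.val_one, mul_one]
      have hinj : Function.Injective τ := by
        intro k l h
        have h' := (hmat k).trans ((congrArg Subtype.val h).trans (hmat l).symm)
        rw [Units.mul_left_inj, Units.mul_right_inj] at h'
        exact Subtype.ext h'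
      intro k
      constructor
      · intro hk
        rw [hmat ⟨k, hk⟩]
        exact (τ _).2
      · intro hk
        obtain ⟨l, hl⟩ := Finite.surjective_of_injective hinj ⟨_, hk⟩
        have h' := (congrArg Subtype.val hl).symm.trans (hmat l).symm
        rw [Units.mul_left_inj, Units.mul_right_inj] at h'
        rw [h']
        exact l.2
  have hlinN : ∀ g : GL ι F, (∀ (k : A) (x : ι → F), act g (k • x) = k • act g x) →
      g ∈ Cfsg.Geo.subalgebraNormalizer A := fun g hg => (hsemi g).2 fun k => ⟨k, hg k⟩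
  obtain ⟨a, ha⟩ := exists_notMem (⊥ : Submodule A (ι → F))
    (by intro h; have := finrank_top A (ι → F); rw [← h, finrank_bot] at this; omega)
  have ha0 : a ≠ 0 := fun h => ha (h ▸ zero_mem _)
  refine ⟨fun H hH ⟨g, hg, hgN⟩ => ?_, fun hle => ?_, fun c => ?_⟩
  · exact sl_le (K := A) ⟨hr', hm, fun u hu hul => hH ⟨hlinN u hul, hu⟩⟩ hg (fun h => hgN ((hsemi g).2 h))
  · obtain ⟨w, hw⟩ := exists_notMem _ (span_ne_top hm a)
    obtain ⟨k, hk⟩ : ∃ k : A, k ∉ (⊥ : Subalgebra F A) := by
      by_contra h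
      push Not at h
      have h1 : (⊥ : Subalgebra F A) = ⊤ := eq_top_iff.2 fun x _ => h x
      have := Subalgebra.finrank_bot (F := F) (E := A)
      rw [h1, (Subalgebra.topEquiv (R := F) (A := A)).toLinearEquiv.finrank_eq] at this
      exact hr'.one_lt.ne' this
    have hnot : k • a ∉ Submodule.span F ({a, w} : Set (ι → F)) := by
      intro h
      obtain ⟨s, t, hst⟩ := Submodule.mem_span_pair.1 h
      rcases eq_or_ne t 0 with rfl | ht
      · rw [zero_smul, add_zero, ← algebraMap_smul A s a] at hst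
        exact hk (Algebra.mem_bot.2 ⟨s, smul_left_injective A ha0 hst⟩)
      · apply hw
        refine Submodule.mem_span_singleton.2 ⟨(algebraMap F A t)⁻¹ * (k - algebraMap F A s), ?_⟩
        rw [mul_smul, sub_smul, algebraMap_smul, ← hst, add_sub_cancel_left, ← algebraMap_smul A t w,
          inv_smul_smul₀ ((map_ne_zero _).2 ht)]
    obtain ⟨f, hf, hf1⟩ := exists_dual _ hnot
    have hfa : f a = 0 := hf a (Submodule.subset_span (Set.mem_insert _ _))
    have hfw : f w = 0 := hf w (Submodule.subset_span (Set.mem_insert_of_mem _ rfl))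
    have hsl : tv f w ∈ Cfsg.Geo.specialLinear ι F := by
      rw [mem_sl_iff, ← det_eq, det_eq_of_fix_hyperplane (act_tv hfw), hfw, add_zero]
    obtain ⟨k', hk'⟩ := (hsemi _).1 (hle hsl) k
    have := hk' a
    rw [act_tv hfw, act_tv hfw, hf1, hfa, one_smul, zero_smul, add_zero] at this
    exact hw (Submodule.mem_span_singleton.2 ⟨k' - k, by rw [sub_smul, ← this, add_sub_cancel_left]⟩)
  · obtain ⟨φ, -, hφ⟩ := exists_phi (⊥ : Submodule A (ι → F)) ha
    obtain ⟨η, hη⟩ := FiniteField.unitsMap_norm_surjective F A c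
    obtain ⟨h, hlin, hdet, -⟩ := exists_scaleGL φ a hφ (η : A) η.ne_zero
    refine ⟨h, hlinN h hlin, Units.ext ?_⟩
    rw [Matrix.GeneralLinearGroup.val_det_apply, det_eq, hdet, ← hη]
    rfl

theorem isMaximalIn_specialLinear [Fintype F] (r : ℕ) (hr : r.Prime) (hrn : r ∣ Fintype.card ι)
    (hlt : r < Fintype.card ι) (A : Subalgebra F (Matrix ι ι F)) (hA : Cfsg.Geo.IsFieldSubalgebra r A) :
    Cfsg.Geo.IsMaximalIn (Cfsg.Geo.specialLinear ι F)
      (Cfsg.Geo.subalgebraNormalizer A ⊓ Cfsg.Geo.specialLinear ι F) := by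
  obtain ⟨h1, h2, -⟩ := normalizer_facts r hr hrn hlt A hA
  refine ⟨lt_of_le_of_ne inf_le_right fun h => h2 (inf_eq_right.1 h), fun M hM hMS => ?_⟩
  by_cases hg : ∃ g ∈ M, g ∉ Cfsg.Geo.subalgebraNormalizer A
  · exact Or.inr (le_antisymm hMS (h1 M hM hg))
  · push Not at hg
    exact Or.inl (le_antisymm (le_inf hg hMS) hM)

theorem isCoatom_normalizer [Fintype F] (r : ℕ) (hr : r.Prime) (hrn : r ∣ Fintype.card ι)
    (hlt : r < Fintype.card ι) (A : Subalgebra F (Matrix ι ι F)) (hA : Cfsg.Geo.IsFieldSubalgebra r A) :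
    IsCoatom (Cfsg.Geo.subalgebraNormalizer A) := by
  obtain ⟨h1, h2, h3⟩ := normalizer_facts r hr hrn hlt A hA
  refine ⟨fun h => h2 (h ▸ le_top), fun M hM => ?_⟩
  obtain ⟨g, hg, hgN⟩ := SetLike.exists_of_lt hM
  have hsl := h1 M (inf_le_left.trans hM.le) ⟨g, hg, hgN⟩
  refine eq_top_iff.2 fun x _ => ?_
  obtain ⟨y, hy, hdet⟩ := h3 (Matrix.GeneralLinearGroup.det x)
  have : y⁻¹ * x ∈ M := hsl (MonoidHom.mem_ker.2 (by rw [map_mul, map_inv, hdet, inv_mul_cancel]))
  simpa using mul_mem (hM.le hy) this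

end Cfsg.Agent.MaxCl.ExtF
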