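/-
A subgroup `H` of a finite group `M` with a set `X` of `p`-elements such that `g r g⁻¹ ∈ H` forces `g ∈ H`:
if a point and its image under `g ∈ M` are both fixed by elements of `X`, the image is in the `H`-orbit.
-/
import Mathlib

set_option autoImplicit false

namespace Cfsg.Agent.MaxCl

open scoped Pointwise

/-- `K` stands for the stabiliser of the point. -/
theorem exists_mem_orbit_of_rigid {G : Type*} [Group G] [Finite G] {p : ℕ} [Fact p.Prime]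
    {M H : Subgroup G} (hHM : H ≤ M) (X : Set G) (hXH : X ⊆ H) (hXp : ∀ r ∈ X, ∃ k, r ^ p ^ k = 1)
    (rig : ∀ g ∈ M, ∀ r ∈ X, g * r * g⁻¹ ∈ H → g ∈ H)
    (K : Subgroup G) {g r r' : G} (hg : g ∈ M) (hr : r ∈ X) (hr' : r' ∈ X) (hrK : r ∈ K)
    (hr'K : g⁻¹ * r' * g ∈ K) : ∃ h ∈ H, h⁻¹ * g ∈ K := by
  set L : Subgroup G := M ⊓ K with hL
  have hp : ∀ x : L, (∃ k, (x : G) ^ p ^ k = 1) → IsPGroup p (Subgroup.zpowers x) := by
    intro x ⟨k, hk⟩
    rintro ⟨y, hy⟩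
    obtain ⟨i, rfl⟩ := Subgroup.mem_zpowers_iff.1 hy
    refine ⟨k, Subtype.ext ?_⟩
    have hx : x ^ p ^ k = 1 := Subtype.ext (by simpa using hk)
    show (x ^ i) ^ p ^ k = 1
    rw [← zpow_natCast, ← zpow_mul, mul_comm, zpow_mul, zpow_natCast, hx, one_zpow]
  let x₁ : L := ⟨r, hHM (hXH hr), hrK⟩
  have hx₂M : g⁻¹ * r' * g ∈ M := M.mul_mem (M.mul_mem (M.inv_mem hg) (hHM (hXH hr'))) hg
  let x₂ : L := ⟨g⁻¹ * r' * g, hx₂M, hr'K⟩
  obtain ⟨k₂, hk₂⟩ := hXp r' hr'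
  obtain ⟨T, hT⟩ := (hp x₁ (hXp r hr)).exists_le_sylow
  obtain ⟨R, hR⟩ := (hp x₂ ⟨k₂, by
    show (g⁻¹ * r' * g) ^ p ^ k₂ = 1
    have := conj_pow (i := p ^ k₂) (a := g⁻¹) (b := r')
    rw [inv_inv] at this
    rw [this, hk₂]; simp⟩).exists_le_sylow
  have hx₁T : x₁ ∈ (T : Subgroup L) := hT (Subgroup.mem_zpowers _)
  -- the Sylow subgroup through `r` lies in `H`
  have hTH : (T : Subgroup L) ≤ H.comap L.subtype := by
    set T₀ : Subgroup (T : Subgroup L) := (H.comap L.subtype).subgroupOf (T : Subgroup L) with hT₀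
    by_contra hle
    have hne : T₀ ≠ ⊤ := fun e => hle (Subgroup.subgroupOf_eq_top.1 e)
    haveI : Group.IsNilpotent (T : Subgroup L) := T.isPGroup'.isNilpotent
    have hlt := Group.normalizerCondition_of_isNilpotent T₀ (lt_top_iff_ne_top.2 hne)
    obtain ⟨t, htN, htH⟩ := SetLike.exists_of_lt hlt
    apply htH
    show ((t : L) : G) ∈ H
    refine rig _ ((t : L).2.1) r hr ?_
    have h1 := (Subgroup.mem_normalizer_iff.1 htN ⟨x₁, hx₁T⟩).1 (show r ∈ H from hXH hr)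
    exact h1
  obtain ⟨k, hk⟩ := MulAction.exists_smul_eq L R T
  have h2 : k * x₂ * k⁻¹ ∈ (T : Subgroup L) := by
    rw [← hk, Sylow.coe_subgroup_smul]
    exact ⟨x₂, hR (Subgroup.mem_zpowers _), rfl⟩
  have h3 : (k : G) * (g⁻¹ * r' * g) * (k : G)⁻¹ ∈ H := hTH h2
  have hkg : (k : G) * g⁻¹ ∈ H := by
    refine rig _ (M.mul_mem k.2.1 (M.inv_mem hg)) r' hr' ?_
    have : (k : G) * g⁻¹ * r' * ((k : G) * g⁻¹)⁻¹ = (k : G) * (g⁻¹ * r' * g) * (k : G)⁻¹ := by group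
    rw [this]; exact h3
  refine ⟨g * (k : G)⁻¹, ?_, ?_⟩
  · have := H.inv_mem hkg; simpa using this
  · have : (g * (k : G)⁻¹)⁻¹ * g = k := by group
    rw [this]; exact k.2.2

end Cfsg.Agent.MaxCl
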