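/-
Isotropic vectors in perps of small subspaces of a unitary space, and the Siegel elements
`x ↦ x + s f(x,b) a - σ s f(x,a) b` of two orthogonal isotropic vectors.
-/
import Mathlib
import Cfsg.Agent.Lib.MaxCl.UnitaryStab

set_option autoImplicit false

namespace Cfsg.Agent.MaxCl.Unit

open scoped MatrixGroups Matrix

variable {ι : Type} [Fintype ι] [DecidableEq ι] {F : Type*} [Field F]
variable {σ : F ≃+* F} {f : (ι → F) → (ι → F) → F}
variable (hU : Cfsg.Geo.IsUnitaryForm σ f)
include hU

/-- an isotropic vector orthogonal to `X` outside `X`, the perp exceeding the radical by two dimensions -/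
theorem exists_iso_perp_rad [Fintype F] (X : Submodule F (ι → F))
    (h : Module.finrank F ↥(uperp hU X ⊓ X) + 2 ≤ Module.finrank F (uperp hU X)) :
    ∃ u ∈ uperp hU X, f u u = 0 ∧ u ∉ X := by
  obtain ⟨a, ha, haX⟩ := SetLike.not_le_iff_exists.1 (show ¬ uperp hU X ≤ X by
    intro h'; rw [inf_eq_left.2 h'] at h; omega)
  obtain ⟨b, hb, hbX⟩ := SetLike.not_le_iff_exists.1 (show ¬ uperp hU X ≤ X ⊔ F ∙ a by
    intro h'
    have e : uperp hU X ≤ (uperp hU X ⊓ X) ⊔ F ∙ a := fun x hx => by
      obtain ⟨y, hy, z, hz, rfl⟩ := Submodule.mem_sup.1 (h' hx)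
      obtain ⟨k, rfl⟩ := Submodule.mem_span_singleton.1 hz
      exact Submodule.add_mem_sup
        ⟨((uperp hU X).add_mem_iff_left (Submodule.smul_mem _ k ha)).1 hx, hy⟩ hz
    have := Submodule.finrank_mono e
    rw [Submodule.finrank_sup_span_singleton (show a ∉ uperp hU X ⊓ X from fun hmem => haX hmem.2)] at this
    omega)
  obtain ⟨s, t, hst, hiso⟩ := exists_isotropic_pair hU a b
  refine ⟨_, add_mem (Submodule.smul_mem _ s ha) (Submodule.smul_mem _ t hb), hiso, fun h' => ?_⟩
  rcases eq_or_ne t 0 with rfl | ht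
  · have hs : s ≠ 0 := hst.resolve_right (by simp)
    rw [zero_smul, add_zero] at h'
    exact haX ((X.smul_mem_iff hs).1 h')
  · apply hbX
    refine (Submodule.smul_mem_iff _ ht).1 ?_
    rw [show t • b = (s • a + t • b) - s • a by abel]
    exact Submodule.sub_mem _ (Submodule.mem_sup_left h')
      (Submodule.mem_sup_right (Submodule.smul_mem _ _ (Submodule.mem_span_singleton_self a)))

/-- an isotropic vector orthogonal to `X` outside `X` -/
theorem exists_iso_perp [Fintype F] (X : Submodule F (ι → F))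
    (h : 2 * Module.finrank F X + 2 ≤ Fintype.card ι) : ∃ u ∈ uperp hU X, f u u = 0 ∧ u ∉ X := by
  refine exists_iso_perp_rad hU X ?_
  have := finrank_uperp_ge hU X
  have := Submodule.finrank_mono (inf_le_right : uperp hU X ⊓ X ≤ X)
  omega

/-- a hyperbolic partner inside the perp of `X` -/
theorem exists_partner [Fintype F] {X : Submodule F (ι → F)} {b : ι → F} (hb : b ∈ uperp hU X)
    (hbb : f b b = 0) (hbX : b ∉ X) : ∃ z ∈ uperp hU X, f z z = 0 ∧ f z b = 1 := by
  obtain ⟨φ, h0, h1⟩ := exists_dual X hbX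
  obtain ⟨y, hy⟩ := exists_repr hU φ
  have hy0 : y ∈ uperp hU X := fun w hw => eq_zero_symm hU ((hy w).symm.trans (h0 w hw))
  have hy1 : f y b = 1 := by rw [← herm' hU b y, ← hy, h1, map_one]
  obtain ⟨e, he⟩ := exists_isotropic_shift hU hbb hy1
  exact ⟨y + e • b, add_mem hy0 (Submodule.smul_mem _ _ hb), he, by
    rw [add_left hU, smul_left hU, hbb, mul_zero, add_zero, hy1]⟩

/-- a vector orthogonal to `X` is a difference of isotropic ones, `X` having a small radical -/
theorem exists_iso_sub_rad [Fintype F] {X : Submodule F (ι → F)} {x : ι → F} (hx : x ∈ uperp hU X)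
    (h : Module.finrank F X + Module.finrank F ↥(uperp hU X ⊓ X) + 3 ≤ Fintype.card ι) :
    ∃ w₁ ∈ uperp hU X, ∃ w₂ ∈ uperp hU X, f w₁ w₁ = 0 ∧ f w₂ w₂ = 0 ∧ x = w₁ - w₂ := by
  by_cases hxx : f x x = 0
  · exact ⟨x, hx, 0, zero_mem _, hxx, zero_left hU 0, (sub_zero x).symm⟩
  have hY : Module.finrank F ↥(X ⊔ F ∙ x) ≤ Module.finrank F X + 1 := by
    refine (Submodule.finrank_add_le_finrank_add_finrank _ _).trans ?_
    have := finrank_span_singleton (K := F) (show x ≠ 0 from fun h0 => hxx (h0 ▸ zero_left hU _))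
    omega
  have hrad : uperp hU (X ⊔ F ∙ x) ⊓ (X ⊔ F ∙ x) ≤ uperp hU X ⊓ X := by
    rintro z ⟨hz, hzY⟩
    obtain ⟨w, hw, k, hk, rfl⟩ := Submodule.mem_sup.1 hzY
    obtain ⟨t, rfl⟩ := Submodule.mem_span_singleton.1 hk
    have h0 := hz x (Submodule.mem_sup_right (Submodule.mem_span_singleton_self x))
    rw [add_left hU, smul_left hU, eq_zero_symm hU (hx w hw), zero_add] at h0
    obtain rfl : t = 0 := (mul_eq_zero.1 h0).resolve_right hxx
    rw [zero_smul, add_zero] at hz ⊢
    exact ⟨fun y hy => hz y (Submodule.mem_sup_left hy), hw⟩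
  obtain ⟨u, hu, huu, huY⟩ := exists_iso_perp_rad hU (X ⊔ F ∙ x) (by
    have := Submodule.finrank_mono hrad
    have := finrank_uperp_ge hU (X ⊔ F ∙ x)
    omega)
  obtain ⟨u', hu', hu'u', hu'u⟩ := exists_partner hU hu huu huY
  obtain ⟨e, he⟩ := exists_trace_one hU.involutive hU.ne_refl
  obtain ⟨k, hk⟩ : ∃ k, k = -e := ⟨_, rfl⟩
  obtain ⟨a, ha⟩ := exists_trace hU.involutive hU.ne_refl (-(k * σ k * f x x))
    (by rw [map_neg, map_mul, map_mul, hU.involutive, herm' hU]; ring)
  have hm : ∀ y ∈ X ⊔ F ∙ x, f (u' + a • u) y = 0 := fun y hy => by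
    rw [add_left hU, smul_left hU, hu' y hy, hu y hy, mul_zero, add_zero]
  have hmx : f (u' + a • u) x = 0 := hm x (Submodule.mem_sup_right (Submodule.mem_span_singleton_self x))
  have hmm : f (u' + a • u) (u' + a • u) = -(k * σ k * f x x) := by
    rw [add_left hU, add_right hU, add_right hU, smul_left hU, smul_left hU, smul_right hU, smul_right hU,
      huu, hu'u', hu'u, ← herm' hU u' u, hu'u, map_one]
    linear_combination ha
  obtain ⟨m, hm'⟩ : ∃ m, m = u' + a • u := ⟨_, rfl⟩
  simp only [← hm'] at hm hmx hmm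
  have hgen : ∀ l : F, f (l • x + m) (l • x + m) =
      l * σ l * f x x - k * σ k * f x x := fun l => by
    rw [add_left hU, add_right hU, add_right hU, smul_left hU, smul_left hU, smul_right hU, smul_right hU,
      hmx, eq_zero_symm hU hmx, hmm]
    ring
  have hmem : ∀ l : F, l • x + m ∈ uperp hU X := fun l =>
    add_mem (Submodule.smul_mem _ _ hx) fun y hy => hm y (Submodule.mem_sup_left hy)
  refine ⟨_, hmem (1 + k), _, hmem k, ?_, by rw [hgen]; ring, by module⟩
  rw [hgen, map_add, map_one, hk, map_neg]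
  linear_combination (-(f x x)) * he

/-- a vector orthogonal to `X` is a difference of isotropic ones -/
theorem exists_iso_sub [Fintype F] {X : Submodule F (ι → F)} {x : ι → F} (hx : x ∈ uperp hU X)
    (h : 2 * Module.finrank F X + 4 ≤ Fintype.card ι) :
    ∃ w₁ ∈ uperp hU X, ∃ w₂ ∈ uperp hU X, f w₁ w₁ = 0 ∧ f w₂ w₂ = 0 ∧ x = w₁ - w₂ :=
  exists_iso_sub_rad hU hx (by
    have := Submodule.finrank_mono (inf_le_right : uperp hU X ⊓ X ≤ X)
    omega)

/-- the Siegel element of two orthogonal isotropic vectors -/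
noncomputable def sieg (hU : Cfsg.Geo.IsUnitaryForm σ f) (a b : ι → F) (s : F) : GL ι F :=
  ptv hU a (σ s • b) * ptv hU b ((-s) • a)

theorem act_sieg {a b : ι → F} (haa : f a a = 0) (hbb : f b b = 0) (hab : f a b = 0) (s : F) (x : ι → F) :
    act (sieg hU a b s) x = x + (s * f x b) • a - (σ s * f x a) • b := by
  rw [sieg, act_mul, act_ptv hU (by rw [smul_right hU, hab, mul_zero]),
    act_ptv hU (by rw [smul_right hU, eq_zero_symm hU hab, mul_zero]), smul_right hU, smul_right hU, add_left hU,
    smul_left hU, hbb, mul_zero, add_zero, map_neg, hU.involutive]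
  module

theorem sieg_mem {a b : ι → F} (haa : f a a = 0) (hbb : f b b = 0) (hab : f a b = 0) (s : F) :
    sieg hU a b s ∈ uiso f := by
  rw [mem_uiso]; intro x y
  simp only [act_sieg hU haa hbb hab, sub_left hU, sub_right hU, add_left hU, add_right hU, smul_left hU,
    smul_right hU, haa, hbb, hab, eq_zero_symm hU hab, map_mul, herm' hU, hU.involutive]
  ring

theorem det_sieg {a b : ι → F} (hab : f a b = 0) (s : F) :
    sieg hU a b s ∈ Cfsg.Geo.specialLinear ι F :=
  Subgroup.mul_mem _ (det_ptv hU (by rw [smul_right hU, hab, mul_zero]))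
    (det_ptv hU (by rw [smul_right hU, eq_zero_symm hU hab, mul_zero]))

theorem conj_sieg {g : GL ι F} (hg : g ∈ uiso f) {a b : ι → F} (hab : f a b = 0) (s : F) :
    g * sieg hU a b s * g⁻¹ = sieg hU (act g a) (act g b) s := by
  rw [sieg, sieg, ← map_smul, ← map_smul,
    ← conj_ptv hU hg (show f a (σ s • b) = 0 by rw [smul_right hU, hab, mul_zero]),
    ← conj_ptv hU hg (show f b ((-s) • a) = 0 by rw [smul_right hU, eq_zero_symm hU hab, mul_zero])]
  group

theorem utv_zero (u : ι → F) : utv hU u 0 = 1 := by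
  rw [utv, map_zero, zero_smul, ptv_zero_right hU]

theorem utv_add {u : ι → F} (hu : f u u = 0) (c d : F) : utv hU u c * utv hU u d = utv hU u (c + d) := by
  apply gl_ext; intro x
  rw [act_mul, act_utv hU hu, act_utv hU hu, act_utv hU hu, add_left hU, smul_left hU, hu, mul_zero,
    add_zero, add_mul, add_smul]
  abel

theorem utv_neg {u : ι → F} (hu : f u u = 0) (c : F) : utv hU u (-c) = (utv hU u c)⁻¹ :=
  eq_inv_of_mul_eq_one_left (by rw [utv_add hU hu, neg_add_cancel, utv_zero hU])

/-- the transvection at `a + γ b` -/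
theorem utv_shift {a b : ι → F} (haa : f a a = 0) (hbb : f b b = 0) (hab : f a b = 0) (c γ : F)
    (hc : c + σ c = 0) :
    utv hU (a + γ • b) c = utv hU a c * sieg hU a b (c * σ γ) * utv hU b (c * γ * σ γ) := by
  have hba := eq_zero_symm hU hab
  have h : f (a + γ • b) (a + γ • b) = 0 := by
    rw [add_left hU, add_right hU, add_right hU, smul_left hU, smul_left hU, smul_right hU, smul_right hU,
      haa, hbb, hab, hba]; ring
  apply gl_ext; intro x
  rw [act_mul, act_mul, act_utv hU h, act_utv hU hbb, act_sieg hU haa hbb hab, act_utv hU haa,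
    map_mul, hU.involutive, show σ c = -c from eq_neg_of_add_eq_zero_right hc]
  simp only [add_left hU, sub_left hU, add_right hU, smul_left hU, smul_right hU, haa, hbb, hab, hba]
  module

theorem sieg_add {a b : ι → F} (haa : f a a = 0) (hbb : f b b = 0) (hab : f a b = 0) (s t : F) :
    sieg hU a b s * sieg hU a b t = sieg hU a b (s + t) := by
  apply gl_ext; intro x
  rw [act_mul, act_sieg hU haa hbb hab, act_sieg hU haa hbb hab, act_sieg hU haa hbb hab]
  simp only [map_add, add_left hU, sub_left hU, smul_left hU, haa, hbb, hab, eq_zero_symm hU hab]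
  module

theorem sieg_add_left {a a' b : ι → F} (haa : f a a = 0) (ha'a' : f a' a' = 0) (haa' : f a a' = 0)
    (hbb : f b b = 0) (hab : f a b = 0) (ha'b : f a' b = 0) (s : F) :
    sieg hU a b s * sieg hU a' b s = sieg hU (a + a') b s := by
  have h : f (a + a') (a + a') = 0 := by
    rw [add_left hU, add_right hU, add_right hU, haa, ha'a', haa', eq_zero_symm hU haa']; ring
  have h' : f (a + a') b = 0 := by rw [add_left hU, hab, ha'b, add_zero]
  apply gl_ext; intro x
  rw [act_mul, act_sieg hU haa hbb hab, act_sieg hU ha'a' hbb ha'b, act_sieg hU h hbb h']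
  simp only [add_left hU, sub_left hU, add_right hU, smul_left hU, hbb, hab, ha'b, eq_zero_symm hU hab,
    eq_zero_symm hU haa']
  module

theorem sieg_smul_left {a b : ι → F} (haa : f a a = 0) (hbb : f b b = 0) (hab : f a b = 0) (k s : F) :
    sieg hU (k • a) b s = sieg hU a b (s * k) := by
  apply gl_ext; intro x
  rw [act_sieg hU (by rw [smul_left hU, smul_right hU, haa, mul_zero, mul_zero]) hbb
      (by rw [smul_left hU, hab, mul_zero]), act_sieg hU haa hbb hab, smul_right hU, map_mul]
  module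

end Cfsg.Agent.MaxCl.Unit
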