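/-
Unitary spaces of small dimension: prescribing norm and products, transitivity on isotropic vectors, spanning by
isotropic vectors, and changing a component inside a subspace of dimension at least four.
-/
import Mathlib
import Cfsg.Agent.Lib.MaxCl.UnitaryDecompMax

set_option autoImplicit false

namespace Cfsg.Agent.MaxCl.Unit

open scoped MatrixGroups Matrix
open Module (finrank)

variable {ι : Type} [Fintype ι] [DecidableEq ι] {F : Type*} [Field F]
variable {σ : F ≃+* F} {f : (ι → F) → (ι → F) → F}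
variable (hU : Cfsg.Geo.IsUnitaryForm σ f)
include hU

theorem utvGroup_le_sl : utvGroup hU ≤ Cfsg.Geo.specialLinear ι F := by
  rw [utvGroup, Subgroup.closure_le]
  rintro _ ⟨u, c, hu, -, rfl⟩
  exact det_ptv hU (by rw [smul_right hU, hu, mul_zero])

theorem utv_mem_utvGroup {u : ι → F} (hu : f u u = 0) {c : F} (hc : c + σ c = 0) :
    utv hU u c ∈ utvGroup hU := Subgroup.subset_closure ⟨u, c, hu, hc, rfl⟩

/-- one transvection moves `y` to `x` when their product is skew and non-zero -/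
theorem exists_move_skew {x y : ι → F} (hx : f x x = 0) (hy : f y y = 0) (hs : f x y + σ (f x y) = 0)
    (h0 : f x y ≠ 0) : ∃ g ∈ utvGroup hU, act g x = y := by
  have hu : f (y - x) (y - x) = 0 := by
    rw [sub_left hU, sub_right hU, sub_right hU, hx, hy, ← herm' hU x y]
    linear_combination -hs
  obtain ⟨c, hc, he⟩ := exists_utv_move hU (x := y) (y := x) (hy.trans hx.symm) hu
    (by rw [sub_right hU, hx, sub_zero]; exact h0)
  exact ⟨_, utv_mem_utvGroup hU hu hc, he⟩

variable [Fintype F]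

/-- transitivity on isotropic lines -/
theorem exists_move_line {x y : ι → F} (hx0 : x ≠ 0) (hy0 : y ≠ 0) (hx : f x x = 0) (hy : f y y = 0) :
    ∃ g ∈ utvGroup hU, ∃ k : F, k ≠ 0 ∧ act g x = k • y := by
  obtain ⟨θ, hθ0, hθ⟩ := exists_skew hU.ne_refl hU.involutive
  have step : ∀ a b : ι → F, f a a = 0 → f b b = 0 → f a b ≠ 0 →
      ∃ g ∈ utvGroup hU, ∃ k : F, k ≠ 0 ∧ act g a = k • b := by
    intro a b ha hb hab
    obtain ⟨g, hg, he⟩ := exists_move_skew hU (x := a) (y := σ (θ / f a b) • b) ha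
      (by rw [smul_left hU, smul_right hU, hb, mul_zero, mul_zero])
      (by rw [smul_right hU, hU.involutive, div_mul_cancel₀ _ hab]; exact hθ)
      (by rw [smul_right hU, hU.involutive, div_mul_cancel₀ _ hab]; exact hθ0)
    exact ⟨g, hg, σ (θ / f a b), (map_ne_zero σ).2 (div_ne_zero hθ0 hab), he⟩
  by_cases hxy : f x y = 0
  swap; · exact step x y hx hy hxy
  by_cases hdep : y ∈ F ∙ x
  · obtain ⟨s, hs⟩ := Submodule.mem_span_singleton.1 hdep
    have hs0 : s ≠ 0 := by rintro rfl; exact hy0 (by simpa using hs.symm)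
    exact ⟨1, one_mem _, s⁻¹, inv_ne_zero hs0, by rw [act_one, ← hs, inv_smul_smul₀ hs0]⟩
  obtain ⟨φ, hφ0, hφ1⟩ := exists_dual _ hdep
  obtain ⟨χ, -, hχ1⟩ := exists_dual (⊥ : Submodule F (ι → F)) (v := x) (by simpa using hx0)
  obtain ⟨z₀, hz₀⟩ := exists_repr hU (χ + (1 - χ y) • φ)
  have h1 : f z₀ x = 1 := by
    rw [← herm' hU x z₀, ← hz₀]
    simp [hφ0 x (Submodule.mem_span_singleton_self x), hχ1]
  have h2 : f z₀ y = 1 := by
    rw [← herm' hU y z₀, ← hz₀]
    simp [hφ1]
  obtain ⟨a, hz⟩ := exists_isotropic_shift hU hx h1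
  obtain ⟨z, hzdef⟩ : ∃ z, z = z₀ + a • x := ⟨_, rfl⟩
  rw [← hzdef] at hz
  have hzx : f z x = 1 := by rw [hzdef, add_left hU, smul_left hU, hx, h1, mul_zero, add_zero]
  have hzy : f z y = 1 := by rw [hzdef, add_left hU, smul_left hU, hxy, h2, mul_zero, add_zero]
  obtain ⟨g₁, hg₁, k₁, hk₁, e₁⟩ := step x z hx hz (by rw [← herm' hU z x, hzx, map_one]; exact one_ne_zero)
  obtain ⟨g₂, hg₂, k₂, hk₂, e₂⟩ := step z y hz hy (by rw [hzy]; exact one_ne_zero)
  exact ⟨g₂ * g₁, mul_mem hg₂ hg₁, k₁ * k₂, mul_ne_zero hk₁ hk₂, by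
    rw [act_mul, e₁, map_smul, e₂, smul_smul]⟩

/-- a vector of given norm and products in a non-degenerate subspace of dimension at least four -/
theorem exists_vec_two {Y : Submodule F (ι → F)} (hY : Cfsg.Geo.IsNondegenerateOn f Y)
    (hd : 4 ≤ finrank F Y) {b b' : ι → F} (hb : b ∈ Y) (hb' : b' ∈ Y) (hb0 : b ≠ 0)
    (hind : b' ∉ F ∙ b) (α β N : F) (hN : σ N = N)
    (hcase : α ≠ 0 ∨ f b b ≠ 0 ∨ f b b' ≠ 0) :
    ∃ z ∈ Y, f z z = N ∧ f z b = α ∧ f z b' = β := by
  classical
  obtain ⟨φ₂, h20, h21⟩ := exists_dual (F ∙ b) hind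
  obtain ⟨φ₁, -, h11⟩ := exists_dual (⊥ : Submodule F (ι → F)) (v := b) (by simpa using hb0)
  obtain ⟨z₀, hz₀, hzφ⟩ := exists_repr_in hU hY (σ α • φ₁ + (σ β - σ α * φ₁ b') • φ₂)
  have e1 : f z₀ b = α := by
    rw [← herm' hU, ← hzφ b hb]
    simp [h20 b (Submodule.mem_span_singleton_self b), h11, hU.involutive]
  have e2 : f z₀ b' = β := by
    rw [← herm' hU, ← hzφ b' hb']
    simp [h21, hU.involutive]
  set P := Submodule.span F ({b, b'} : Set (ι → F)) with hP
  have hPdim : finrank F P ≤ 2 := by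
    refine (finrank_span_le_card ({b, b'} : Set (ι → F))).trans ?_
    simp only [Set.toFinset_insert, Set.toFinset_singleton]
    exact Finset.card_le_two
  have hPY : P ≤ Y := Submodule.span_le.2 (by
    intro x hx; rcases hx with rfl | rfl; exacts [hb, hb'])
  have hbP : b ∈ P := Submodule.subset_span (Set.mem_insert b _)
  have hb'P : b' ∈ P := Submodule.subset_span (Set.mem_insert_of_mem b rfl)
  by_cases hex : ∃ p ∈ Y ⊓ uperp hU P, f p p ≠ 0
  swap
  · -- the plane is totally singular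
    push Not at hex
    have hno := hex
    have hX : finrank F Y ≤ finrank F ↥(Y ⊓ uperp hU P) + 2 := by
      have h := Submodule.finrank_sup_add_finrank_inf_eq Y (uperp hU P)
      have h1 := finrank_uperp hU P
      have h2 := Submodule.finrank_le (Y ⊔ uperp hU P)
      rw [Module.finrank_pi] at h2
      omega
    have hXX : ∀ p ∈ Y ⊓ uperp hU P, ∀ r ∈ Y ⊓ uperp hU P, f p r = 0 := by
      intro p hp r hr
      obtain ⟨e, he⟩ := exists_moved hU.ne_refl
      have h1 := hno _ (add_mem (Submodule.smul_mem _ e hp) hr)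
      have h2 := hno _ (add_mem hp hr)
      simp only [add_left hU, add_right hU, smul_left hU, smul_right hU, hno p hp, hno r hr, mul_zero,
        add_zero, zero_add] at h1 h2
      have : (e - σ e) * f p r = 0 := by linear_combination h1 - σ e * h2
      exact (mul_eq_zero.1 this).resolve_left (sub_ne_zero.2 (Ne.symm he))
    have hle : Y ⊓ uperp hU P ≤ P := by
      intro p hp
      have h' : p ∈ uperp hU (uperp hU P ⊓ Y) := fun r hr => hXX p hp r ⟨hr.2, hr.1⟩
      have hsub : uperp hU (uperp hU P ⊓ Y) ≤ P ⊔ uperp hU Y := by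
        have h1 : uperp hU (P ⊔ uperp hU Y) ≤ uperp hU P ⊓ Y := by
          intro x hx
          refine ⟨fun w hw => hx w (Submodule.mem_sup_left hw), ?_⟩
          rw [← uperp_uperp hU Y]
          exact fun w hw => hx w (Submodule.mem_sup_right hw)
        intro x hx
        rw [← uperp_uperp hU (P ⊔ uperp hU Y)]
        exact fun w hw => hx w (h1 hw)
      obtain ⟨p₁, hp₁, p₂, hp₂, e⟩ := Submodule.mem_sup.1 (hsub h')
      have : p₂ = 0 := by
        refine inf_uperp_of_nondegenerate hU hY ?_ hp₂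
        rw [show p₂ = p - p₁ by rw [← e]; abel]
        exact Y.sub_mem hp.1 (hPY hp₁)
      rw [this, add_zero] at e
      exact e ▸ hp₁
    have hXd := Submodule.finrank_mono hle
    have heq : Y ⊓ uperp hU P = P := Submodule.eq_of_le_of_finrank_eq hle (by omega)
    have hbX : b ∈ Y ⊓ uperp hU P := heq.symm ▸ hbP
    have hbb : f b b = 0 := hno b hbX
    have hbb' : f b b' = 0 := hbX.2 b' hb'P
    have hα : α ≠ 0 := by
      rcases hcase with h | h | h
      exacts [h, absurd hbb h, absurd hbb' h]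
    obtain ⟨e, he⟩ := exists_trace hU.involutive hU.ne_refl (N - f z₀ z₀) (by rw [map_sub, hN, herm' hU])
    obtain ⟨s, hs⟩ : ∃ s, s = σ (e / α) := ⟨_, rfl⟩
    refine ⟨z₀ + s • b, Y.add_mem hz₀ (Y.smul_mem _ hb), ?_, ?_, ?_⟩
    · have hbz : f b z₀ = σ α := by rw [← herm' hU, e1]
      simp only [add_left hU, add_right hU, smul_left hU, smul_right hU, hbb, e1, hbz, hs, hU.involutive]
      rw [div_mul_cancel₀ _ hα, ← map_mul, div_mul_cancel₀ _ hα]
      linear_combination he
    · rw [add_left hU, smul_left hU, hbb, mul_zero, add_zero, e1]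
    · rw [add_left hU, smul_left hU, hbb', mul_zero, add_zero, e2]
  -- an anisotropic vector of `Y` orthogonal to `b` and `b'`
  obtain ⟨p, hp, hpp⟩ := hex
  have hσp : σ (f p p) = f p p := herm' hU p p
  have hp0b : f p b = 0 := hp.2 b hbP
  have hp0b' : f p b' = 0 := hp.2 b' hb'P
  set l := f p z₀ with hl
  have hσl : σ l = f z₀ p := herm' hU p z₀
  obtain ⟨s, hs⟩ := exists_norm hU.involutive hU.ne_refl ((N - f z₀ z₀) / f p p + l * σ l / (f p p * f p p))
    (by rw [map_add, map_div₀, map_div₀, map_sub, map_mul, map_mul, hN, hσp, herm' hU, hU.involutive]; ring)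
  refine ⟨z₀ + (s - σ l / f p p) • p, Y.add_mem hz₀ (Y.smul_mem _ hp.1), ?_, ?_, ?_⟩
  · simp only [add_left hU, add_right hU, smul_left hU, smul_right hU, map_sub, map_div₀, hU.involutive, hσp,
      ← hl, ← hσl]
    field_simp
    field_simp at hs
    linear_combination hs
  · rw [add_left hU, smul_left hU, hp0b, mul_zero, add_zero, e1]
  · rw [add_left hU, smul_left hU, hp0b', mul_zero, add_zero, e2]

theorem exists_vec_one {Y : Submodule F (ι → F)} (hY : Cfsg.Geo.IsNondegenerateOn f Y)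
    (hd : 4 ≤ finrank F Y) {b : ι → F} (hb : b ∈ Y) (hb0 : b ≠ 0) (α N : F) (hN : σ N = N) :
    ∃ z ∈ Y, z ∉ F ∙ b ∧ f z z = N ∧ f z b = α := by
  obtain ⟨b', ⟨hb', hbb'⟩, hind⟩ := SetLike.not_le_iff_exists.1
    (show ¬ Y ⊓ LinearMap.ker (flinU hU b) ≤ F ∙ b by
      intro h
      have h1 := Submodule.finrank_mono h
      rw [finrank_span_singleton hb0] at h1
      have h2 := Submodule.finrank_sup_add_finrank_inf_eq Y (LinearMap.ker (flinU hU b))
      have h3 := LinearMap.finrank_range_add_finrank_ker (flinU hU b)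
      have h4 := Submodule.finrank_le (LinearMap.range (flinU hU b))
      have h5 := Submodule.finrank_le (Y ⊔ LinearMap.ker (flinU hU b))
      rw [Module.finrank_self] at h4
      omega)
  obtain ⟨z, hz, h1, h2, h3⟩ : ∃ z ∈ Y, f z z = N ∧ f z b = α ∧ f z b' = 1 := by
    by_cases hα : α ≠ 0 ∨ f b b ≠ 0
    · exact exists_vec_two hU hY hd hb hb' hb0 hind α 1 N hN (hα.imp_right Or.inl)
    · -- exchange the roles of `b` and `b'`
      obtain ⟨z, hz, h1, h2, h3⟩ := exists_vec_two hU hY hd hb' hb (fun h => hind (h ▸ Submodule.zero_mem _))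
        (fun h => hind (by
          obtain ⟨k, hk⟩ := Submodule.mem_span_singleton.1 h
          have hk0 : k ≠ 0 := by rintro rfl; exact hb0 (by rw [← hk, zero_smul])
          exact Submodule.mem_span_singleton.2 ⟨k⁻¹, by rw [← hk, inv_smul_smul₀ hk0]⟩))
        1 α N hN (Or.inl one_ne_zero)
      exact ⟨z, hz, h1, h3, h2⟩
  refine ⟨z, hz, fun h => ?_, h1, h2⟩
  obtain ⟨k, rfl⟩ := Submodule.mem_span_singleton.1 h
  rw [smul_left hU, eq_zero_symm hU (LinearMap.mem_ker.1 hbb'), mul_zero] at h3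
  exact zero_ne_one h3

/-- exact transitivity on isotropic vectors in dimension at least four -/
theorem exists_move_exact (hn : 4 ≤ Fintype.card ι) {x y : ι → F} (hx0 : x ≠ 0) (hy0 : y ≠ 0)
    (hx : f x x = 0) (hy : f y y = 0) : ∃ g ∈ utvGroup hU, act g x = y := by
  obtain ⟨θ, hθ0, hθ⟩ := exists_skew hU.ne_refl hU.involutive
  have hT : Cfsg.Geo.IsNondegenerateOn f (⊤ : Submodule F (ι → F)) := fun v _ hv => by
    obtain ⟨⟨a, ha⟩, ⟨b, hb⟩⟩ := hU.nondegenerate v hv
    exact ⟨⟨a, trivial, ha⟩, ⟨b, trivial, hb⟩⟩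
  have hd : 4 ≤ finrank F (⊤ : Submodule F (ι → F)) := by rw [finrank_top, Module.finrank_pi]; exact hn
  have two : ∀ a b : ι → F, a ≠ 0 → f a a = 0 → f b b = 0 → b ∉ F ∙ a → ∃ g ∈ utvGroup hU, act g a = b := by
    intro a b ha0 ha hb hab
    obtain ⟨z, -, hz, hza, hzb⟩ :=
      exists_vec_two hU hT hd (b := a) (b' := b) trivial trivial ha0 hab θ θ 0 (map_zero σ) (Or.inl hθ0)
    have haz : f a z = σ θ := by rw [← hza, herm' hU]
    obtain ⟨g₁, hg₁, e₁⟩ := exists_move_skew hU ha hz (by rw [haz, hU.involutive, add_comm]; exact hθ)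
      (by rw [haz]; exact (map_ne_zero σ).2 hθ0)
    obtain ⟨g₂, hg₂, e₂⟩ := exists_move_skew hU hz hb (by rw [hzb]; exact hθ) (by rw [hzb]; exact hθ0)
    exact ⟨g₂ * g₁, mul_mem hg₂ hg₁, by rw [act_mul, e₁, e₂]⟩
  by_cases hdep : y ∈ F ∙ x
  swap; · exact two x y hx0 hx hy hdep
  obtain ⟨z, -, hzx, hzz, -⟩ := exists_vec_one hU hT hd (b := x) trivial hx0 θ 0 (map_zero σ)
  have hz0 : z ≠ 0 := fun h => hzx (h ▸ Submodule.zero_mem _)
  obtain ⟨g₁, hg₁, e₁⟩ := two x z hx0 hx hzz hzx
  obtain ⟨g₂, hg₂, e₂⟩ := two z y hz0 hzz hy fun h => by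
    obtain ⟨s, hs⟩ := Submodule.mem_span_singleton.1 h
    have hs0 : s ≠ 0 := by rintro rfl; exact hy0 (by simpa using hs.symm)
    obtain ⟨t, ht⟩ := Submodule.mem_span_singleton.1 hdep
    exact hzx (Submodule.mem_span_singleton.2 ⟨s⁻¹ * t, by rw [mul_smul, ht, ← hs, inv_smul_smul₀ hs0]⟩)
  exact ⟨g₂ * g₁, mul_mem hg₂ hg₁, by rw [act_mul, e₁, e₂]⟩

/-- in dimension three two isotropic vectors are proportional or not orthogonal -/
theorem dep_of_iso_orth_three (hn : Fintype.card ι ≤ 3) {a b : ι → F} (ha0 : a ≠ 0) (ha : f a a = 0)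
    (hb : f b b = 0) (hab : f a b = 0) : b ∈ F ∙ a := by
  by_contra hind
  set S := F ∙ a ⊔ F ∙ b with hS
  have hSS : S ≤ uperp hU S := by
    intro x hx y hy
    obtain ⟨_, h1, _, h2, rfl⟩ := Submodule.mem_sup.1 hx
    obtain ⟨s, rfl⟩ := Submodule.mem_span_singleton.1 h1
    obtain ⟨t, rfl⟩ := Submodule.mem_span_singleton.1 h2
    obtain ⟨_, h3, _, h4, rfl⟩ := Submodule.mem_sup.1 hy
    obtain ⟨s', rfl⟩ := Submodule.mem_span_singleton.1 h3
    obtain ⟨t', rfl⟩ := Submodule.mem_span_singleton.1 h4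
    simp only [add_left hU, add_right hU, smul_left hU, smul_right hU, ha, hb, hab, eq_zero_symm hU hab]
    ring
  have h1 := Submodule.finrank_mono hSS
  have h2 := finrank_uperp hU S
  have h3 : finrank F S = 2 := by
    rw [hS, Submodule.finrank_sup_span_singleton hind, finrank_span_singleton ha0]
  omega

/-- an isotropic vector with given products with a hyperbolic pair -/
theorem exists_iso_hyperbolic (hn : 3 ≤ Fintype.card ι) {a b : ι → F} (ha : f a a = 0) (hb : f b b = 0)
    (hab : f a b ≠ 0) (α β : F) : ∃ z, f z z = 0 ∧ f z a = α ∧ f z b = β := by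
  have hba : f b a ≠ 0 := ne_symm hU hab
  set P := F ∙ a ⊔ F ∙ b with hP
  obtain ⟨p, hpP, hpp⟩ : ∃ p ∈ uperp hU P, f p p ≠ 0 := by
    by_contra hno; push Not at hno
    set X := uperp hU P with hX
    have hXX : ∀ p ∈ X, ∀ r ∈ X, f p r = 0 := by
      intro p hp r hr
      obtain ⟨e, he⟩ := exists_moved hU.ne_refl
      have h1 := hno _ (add_mem (Submodule.smul_mem _ e hp) hr)
      have h2 := hno _ (add_mem hp hr)
      simp only [add_left hU, add_right hU, smul_left hU, smul_right hU, hno p hp, hno r hr, mul_zero,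
        add_zero, zero_add] at h1 h2
      have : (e - σ e) * f p r = 0 := by linear_combination h1 - σ e * h2
      exact (mul_eq_zero.1 this).resolve_left (sub_ne_zero.2 (Ne.symm he))
    have hXP : X ≤ uperp hU X := fun p hp r hr => hXX p hp r hr
    rw [hX, uperp_uperp hU] at hXP
    obtain ⟨p, hp, hp0⟩ := Submodule.exists_mem_ne_zero_of_ne_bot (p := X) fun e => by
      have h1 := finrank_uperp hU P
      have h2 : finrank F P ≤ 2 := by
        refine (Submodule.finrank_add_le_finrank_add_finrank _ _).trans ?_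
        have h3 := finrank_span_le_card (R := F) ({a} : Set (ι → F))
        have h4 := finrank_span_le_card (R := F) ({b} : Set (ι → F))
        simp only [Set.toFinset_singleton, Finset.card_singleton] at h3 h4
        omega
      rw [← hX, e, finrank_bot] at h1
      omega
    obtain ⟨_, h1, _, h2, e⟩ := Submodule.mem_sup.1 (hXP hp)
    obtain ⟨s, rfl⟩ := Submodule.mem_span_singleton.1 h1
    obtain ⟨t, rfl⟩ := Submodule.mem_span_singleton.1 h2
    have ka : f p a = 0 := hp a (Submodule.mem_sup_left (Submodule.mem_span_singleton_self a))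
    have kb : f p b = 0 := hp b (Submodule.mem_sup_right (Submodule.mem_span_singleton_self b))
    rw [← e, add_left hU, smul_left hU, smul_left hU, ha, mul_zero, zero_add, mul_eq_zero, or_iff_left hba] at ka
    rw [← e, add_left hU, smul_left hU, smul_left hU, hb, mul_zero, add_zero, mul_eq_zero, or_iff_left hab] at kb
    exact hp0 (by rw [← e, ka, kb, zero_smul, zero_smul, add_zero])
  have hpa : f p a = 0 := hpP a (Submodule.mem_sup_left (Submodule.mem_span_singleton_self a))
  have hpb : f p b = 0 := hpP b (Submodule.mem_sup_right (Submodule.mem_span_singleton_self b))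
  obtain ⟨s, hs⟩ : ∃ s, s = β / f a b := ⟨_, rfl⟩
  obtain ⟨t, ht⟩ : ∃ t, t = α / f b a := ⟨_, rfl⟩
  obtain ⟨r, hr⟩ := exists_norm hU.involutive hU.ne_refl (-(s * σ t * f a b + t * σ s * f b a) / f p p) (by
    rw [map_div₀, map_neg, map_add, map_mul, map_mul, map_mul, map_mul, hU.involutive, hU.involutive,
      herm' hU, herm' hU, herm' hU]
    ring)
  refine ⟨s • a + t • b + r • p, ?_, ?_, ?_⟩
  · simp only [add_left hU, add_right hU, smul_left hU, smul_right hU, ha, hb, hpa, hpb,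
      eq_zero_symm hU hpa, eq_zero_symm hU hpb]
    field_simp at hr
    linear_combination hr
  · simp only [add_left hU, smul_left hU, ha, hpa, ht, div_mul_cancel₀ _ hba]; ring
  · simp only [add_left hU, smul_left hU, hb, hpb, hs, div_mul_cancel₀ _ hab]; ring

/-- exact transitivity on isotropic vectors in dimension at least three -/
theorem exists_move_exact_three (hn : 3 ≤ Fintype.card ι) {x y : ι → F} (hx0 : x ≠ 0) (hy0 : y ≠ 0)
    (hx : f x x = 0) (hy : f y y = 0) : ∃ g ∈ utvGroup hU, act g x = y := by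
  rcases Nat.lt_or_ge (Fintype.card ι) 4 with h3 | h4
  swap; · exact exists_move_exact hU h4 hx0 hy0 hx hy
  obtain ⟨θ, hθ0, hθ⟩ := exists_skew hU.ne_refl hU.involutive
  have two : ∀ a b : ι → F, a ≠ 0 → f a a = 0 → f b b = 0 → b ∉ F ∙ a → ∃ g ∈ utvGroup hU, act g a = b := by
    intro a b ha0 ha hb hab
    have hab' : f a b ≠ 0 := fun h => hab (dep_of_iso_orth_three hU (by omega) ha0 ha hb h)
    obtain ⟨z, hz, hza, hzb⟩ := exists_iso_hyperbolic hU hn ha hb hab' θ θ
    have haz : f a z = σ θ := by rw [← hza, herm' hU]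
    obtain ⟨g₁, hg₁, e₁⟩ := exists_move_skew hU ha hz (by rw [haz, hU.involutive, add_comm]; exact hθ)
      (by rw [haz]; exact (map_ne_zero σ).2 hθ0)
    obtain ⟨g₂, hg₂, e₂⟩ := exists_move_skew hU hz hb (by rw [hzb]; exact hθ) (by rw [hzb]; exact hθ0)
    exact ⟨g₂ * g₁, mul_mem hg₂ hg₁, by rw [act_mul, e₁, e₂]⟩
  by_cases hdep : y ∈ F ∙ x
  swap; · exact two x y hx0 hx hy hdep
  obtain ⟨w, hw⟩ := (hU.nondegenerate x hx0).1
  obtain ⟨a, ha⟩ := exists_isotropic_shift hU hx (show f ((f w x)⁻¹ • w) x = 1 by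
    rw [smul_left hU, inv_mul_cancel₀ hw])
  have hzx : (f w x)⁻¹ • w + a • x ∉ F ∙ x := by
    intro h
    obtain ⟨k, hk⟩ := Submodule.mem_span_singleton.1 h
    have e := congrArg (fun v => f v x) hk
    simp only [add_left hU, smul_left hU, hx, mul_zero, inv_mul_cancel₀ hw, add_zero] at e
    exact zero_ne_one e
  generalize (f w x)⁻¹ • w + a • x = z at ha hzx
  have hz0 : z ≠ 0 := fun h => hzx (h ▸ Submodule.zero_mem _)
  obtain ⟨g₁, hg₁, e₁⟩ := two x z hx0 hx ha hzx
  obtain ⟨g₂, hg₂, e₂⟩ := two z y hz0 ha hy fun h => by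
    obtain ⟨s, hs⟩ := Submodule.mem_span_singleton.1 h
    have hs0 : s ≠ 0 := by rintro rfl; exact hy0 (by simpa using hs.symm)
    obtain ⟨t, ht⟩ := Submodule.mem_span_singleton.1 hdep
    exact hzx (Submodule.mem_span_singleton.2 ⟨s⁻¹ * t, by rw [mul_smul, ht, ← hs, inv_smul_smul₀ hs0]⟩)
  exact ⟨g₂ * g₁, mul_mem hg₂ hg₁, by rw [act_mul, e₁, e₂]⟩

/-- isotropic vectors span every non-degenerate subspace of dimension at least two -/
theorem mem_span_iso {Y : Submodule F (ι → F)} (hY : Cfsg.Geo.IsNondegenerateOn f Y) (hd : 2 ≤ finrank F Y)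
    {x : ι → F} (hx : x ∈ Y) : x ∈ Submodule.span F {u | u ∈ Y ∧ f u u = 0} := by
  by_cases hxx : f x x = 0
  · exact Submodule.subset_span ⟨hx, hxx⟩
  obtain ⟨y, hy, hyx, hyy⟩ : ∃ y ∈ Y, f y x = 0 ∧ f y y ≠ 0 := by
    by_contra hno; push Not at hno
    set X := Y ⊓ LinearMap.ker (flinU hU x) with hX
    have hdec : ∀ p ∈ Y, p - (f p x / f x x) • x ∈ X := fun p hp =>
      ⟨Y.sub_mem hp (Y.smul_mem _ hx), LinearMap.mem_ker.2 (by
        simp only [flinU_apply, sub_left hU, smul_left hU, div_mul_cancel₀ _ hxx, sub_self])⟩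
    have hXX : ∀ p ∈ X, ∀ r ∈ X, f p r = 0 := by
      intro p hp r hr
      obtain ⟨e, he⟩ := exists_moved hU.ne_refl
      have mm : ∀ q ∈ X, f q q = 0 := fun q hq => hno q hq.1 (LinearMap.mem_ker.1 hq.2)
      have h1 := mm _ (add_mem (Submodule.smul_mem _ e hp) hr)
      have h2 := mm _ (add_mem hp hr)
      simp only [add_left hU, add_right hU, smul_left hU, smul_right hU, mm p hp, mm r hr, mul_zero,
        add_zero, zero_add] at h1 h2
      have : (e - σ e) * f p r = 0 := by linear_combination h1 - σ e * h2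
      exact (mul_eq_zero.1 this).resolve_left (sub_ne_zero.2 (Ne.symm he))
    have hle : Y ≤ F ∙ x := by
      intro p hp
      have h0 : p - (f p x / f x x) • x = 0 := by
        by_contra h0
        obtain ⟨q, hq, hqn⟩ := (hY _ (hdec p hp).1 h0).2
        apply hqn
        have : q = (q - (f q x / f x x) • x) + (f q x / f x x) • x := by abel
        rw [this, add_right hU, smul_right hU, hXX _ (hdec p hp) _ (hdec q hq),
          show f (p - (f p x / f x x) • x) x = 0 from LinearMap.mem_ker.1 (hdec p hp).2]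
        ring
      rw [sub_eq_zero] at h0
      rw [h0]; exact Submodule.smul_mem _ _ (Submodule.mem_span_singleton_self x)
    have := Submodule.finrank_mono hle
    rw [finrank_span_singleton (by rintro rfl; exact hxx (zero_left hU _))] at this
    omega
  obtain ⟨t, ht⟩ := exists_norm hU.involutive hU.ne_refl (-(f x x) / f y y)
    (by rw [map_div₀, map_neg, herm' hU, herm' hU])
  have ht0 : t ≠ 0 := by
    rintro rfl
    rw [zero_mul, eq_comm, div_eq_zero_iff, neg_eq_zero] at ht
    tauto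
  obtain ⟨a, ha⟩ := exists_moved hU.ne_refl
  have ha0 : a ≠ 0 := by rintro rfl; exact ha (map_zero σ)
  set l := σ a / a with hl
  have hl1 : l * σ l = 1 := by
    rw [hl, map_div₀, hU.involutive]; field_simp [(map_ne_zero σ).2 ha0]
  have hlne : l ≠ 1 := by rw [hl, Ne, div_eq_one_iff_eq ha0]; exact ha
  have hiso : ∀ s : F, s * σ s = t * σ t → f (x + s • y) (x + s • y) = 0 := by
    intro s hs
    simp only [add_left hU, add_right hU, smul_left hU, smul_right hU, hyx, eq_zero_symm hU hyx]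
    rw [← mul_assoc, hs, ht, div_mul_cancel₀ _ hyy]; ring
  have m1 : x + t • y ∈ Submodule.span F {u | u ∈ Y ∧ f u u = 0} :=
    Submodule.subset_span ⟨Y.add_mem hx (Y.smul_mem _ hy), hiso t rfl⟩
  have m2 : x + (l * t) • y ∈ Submodule.span F {u | u ∈ Y ∧ f u u = 0} :=
    Submodule.subset_span ⟨Y.add_mem hx (Y.smul_mem _ hy), hiso _ (by
      rw [map_mul]; linear_combination (t * σ t) * hl1)⟩
  have := Submodule.smul_mem _ (1 - l)⁻¹ (Submodule.sub_mem _ m2 (Submodule.smul_mem _ l m1))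
  rwa [show x + (l * t) • y - l • (x + t • y) = (1 - l) • x by module,
    inv_smul_smul₀ (sub_ne_zero.2 (Ne.symm hlne))] at this

/-- changing the component inside a subspace whose isotropic vectors carry root groups of `M` -/
theorem rootIn_move_five {M : Subgroup (GL ι F)} {Y : Submodule F (ι → F)}
    (hY : Cfsg.Geo.IsNondegenerateOn f Y) (hd : 4 ≤ finrank F Y)
    (hYM : ∀ u ∈ Y, f u u = 0 → RootIn hU M u) {a b b' : ι → F} (ha : a ∈ uperp hU Y)
    (hb : b ∈ Y) (hb0 : b ≠ 0) (hb' : b' ∈ Y) (hb'0 : b' ≠ 0) (hn : f b' b' = f b b)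
    (h : RootIn hU M (a + b)) : RootIn hU M (a + b') := by
  obtain ⟨s, hs0, hs⟩ := exists_skew hU.ne_refl hU.involutive
  have hN : σ (f b b) = f b b := herm' hU b b
  have step : ∀ p q, p ∈ Y → q ∈ Y → f q q = f p p → f (q - p) (q - p) = 0 → f p (q - p) ≠ 0 →
      RootIn hU M (a + p) → RootIn hU M (a + q) := by
    intro p q hp hq hpq hiso hne hp'
    refine rootIn_step hU (v := a + p) ?_ hp' ?_ ?_
    · rw [add_sub_add_left_eq_sub]; exact hYM _ (Y.sub_mem hq hp) hiso
    · rw [add_sub_add_left_eq_sub, add_left hU, ha _ (Y.sub_mem hq hp), zero_add]; exact hne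
    · rw [add_left hU, add_left hU, add_right hU, add_right hU, add_right hU, add_right hU, ha p hp, ha q hq,
        eq_zero_symm hU (ha p hp), eq_zero_symm hU (ha q hq), hpq]
  have two : ∀ p q, p ∈ Y → p ≠ 0 → q ∈ Y → q ∉ F ∙ p → f q q = f p p → f p p = f b b →
      RootIn hU M (a + p) → RootIn hU M (a + q) := by
    intro p q hp hp0 hq hqp hpq hpb hp'
    obtain ⟨z, hz, hzz, hzp, hzq⟩ := exists_vec_two hU hY hd hp hq hp0 hqp (f b b + s) (f b b + s) _ hN (by
      by_cases h0 : f b b = 0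
      · exact Or.inl (by rw [h0, zero_add]; exact hs0)
      · exact Or.inr (Or.inl (hpb ▸ h0)))
    have hσs : σ s = -s := eq_neg_of_add_eq_zero_right hs
    have hpz : f p z = f b b - s := by rw [← herm' hU, hzp, map_add, hN, hσs]; ring
    have hqz : f q z = f b b - s := by rw [← herm' hU, hzq, map_add, hN, hσs]; ring
    refine step z q hz hq (by rw [hzz, hpq, hpb]) ?_ ?_ (step p z hp hz (by rw [hzz, hpb]) ?_ ?_ hp')
    · simp only [sub_left hU, sub_right hU, hzz, hzq, hqz, hpq, hpb]; ring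
    · rw [sub_right hU, hzq, hzz, add_sub_cancel_left]; exact hs0
    · simp only [sub_left hU, sub_right hU, hzz, hzp, hpz, hpb]; ring
    · rw [sub_right hU, hpz, hpb, sub_sub_cancel_left]; exact neg_ne_zero.2 hs0
  obtain ⟨r, hr, hrb, hrr, -⟩ := exists_vec_one hU hY hd hb hb0 0 _ hN
  by_cases hdep : b' ∈ F ∙ b
  · have hr0 : r ≠ 0 := fun h => hrb (h ▸ Submodule.zero_mem _)
    refine two r b' hr hr0 hb' (fun h' => ?_) (by rw [hn, hrr]) hrr (two b r hb hb0 hr hrb hrr rfl h)
    obtain ⟨k, rfl⟩ := Submodule.mem_span_singleton.1 h'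
    have hk : k ≠ 0 := by rintro rfl; simp at hb'0
    exact hrb ((Submodule.smul_mem_iff _ hk).1 hdep)
  · exact two b b' hb hb0 hb' hdep hn rfl h

end Cfsg.Agent.MaxCl.Unit
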