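/-
A set of hermitian forms on a unitary space, closed under sums, scaling by fixed scalars and the special unitary
group and containing the form itself, is either scalar or contains a form `(x, y) ↦ h(x, v) h(v, y)`, `v` isotropic.
-/
import Mathlib
import Cfsg.Agent.Lib.MaxCl.UnitarySmall
import Cfsg.Agent.Lib.MaxCl.UnitaryIso

set_option autoImplicit false

namespace Cfsg.Agent.MaxCl.Unit

open scoped MatrixGroups Matrix
open Module (finrank)

variable {n : ℕ} {F : Type*} [Field F] {σ : F ≃+* F} {h : (Fin n → F) → (Fin n → F) → F}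

/-- hermitian sesquilinear forms -/
structure IsHermSesq (σ : F ≃+* F) (β : (Fin n → F) → (Fin n → F) → F) : Prop where
  add_left : ∀ x y v, β (x + y) v = β x v + β y v
  smul_left : ∀ (k : F) x v, β (k • x) v = k * β x v
  herm : ∀ v w, β v w = σ (β w v)

theorem IsHermSesq.add_right {β : (Fin n → F) → (Fin n → F) → F} (hβ : IsHermSesq σ β) (v x y : Fin n → F) :
    β v (x + y) = β v x + β v y := by
  rw [hβ.herm, hβ.add_left, map_add, ← hβ.herm, ← hβ.herm]

theorem IsHermSesq.smul_right {β : (Fin n → F) → (Fin n → F) → F} (hβ : IsHermSesq σ β) (k : F)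
    (v x : Fin n → F) : β v (k • x) = σ k * β v x := by
  rw [hβ.herm, hβ.smul_left, map_mul, ← hβ.herm]

theorem IsHermSesq.expand {β : (Fin n → F) → (Fin n → F) → F} (hβ : IsHermSesq σ β) {κ : Type*} [Fintype κ]
    (a b : κ → F) (e : κ → Fin n → F) :
    β (∑ i, a i • e i) (∑ j, b j • e j) = ∑ i, ∑ j, a i * σ (b j) * β (e i) (e j) := by
  let L : (Fin n → F) →ₗ[F] F :=
    { toFun := fun x => β x (∑ j, b j • e j), map_add' := fun x y => hβ.add_left x y _,
      map_smul' := fun k x => hβ.smul_left k x _ }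
  show L (∑ i, a i • e i) = _
  rw [map_sum]
  refine Finset.sum_congr rfl fun i _ => ?_
  rw [map_smul, smul_eq_mul]
  show a i * β (e i) _ = _
  have : ∀ s : Finset κ, β (e i) (∑ j ∈ s, b j • e j) = ∑ j ∈ s, σ (b j) * β (e i) (e j) := by
    intro s
    classical
    induction s using Finset.induction with
    | empty => simpa using hβ.smul_right 0 (e i) 0
    | insert j s hj ih => rw [Finset.sum_insert hj, Finset.sum_insert hj, hβ.add_right, hβ.smul_right, ih]
  rw [this, Finset.mul_sum]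
  exact Finset.sum_congr rfl fun j _ => by ring

/-- the rank one form of a vector -/
def rankForm (h : (Fin n → F) → (Fin n → F) → F) (v x y : Fin n → F) : F := h x v * h v y

/-- the closure properties -/
structure FormSet (σ : F ≃+* F) (h : (Fin n → F) → (Fin n → F) → F)
    (L : ((Fin n → F) → (Fin n → F) → F) → Prop) : Prop where
  hh : Cfsg.Geo.IsUnitaryForm σ h
  herm : ∀ β, L β → IsHermSesq σ β
  one : L h
  add : ∀ β γ, L β → L γ → L fun x y => β x y + γ x y
  smul : ∀ k, σ k = k → ∀ β, L β → L fun x y => k * β x y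
  conj : ∀ a ∈ uiso h ⊓ Cfsg.Geo.specialLinear (Fin n) F, ∀ β, L β → L fun x y => β (act a x) (act a y)

variable {L : ((Fin n → F) → (Fin n → F) → F) → Prop} (S : FormSet σ h L)
include S

theorem utv_in {v : Fin n → F} (hv : h v v = 0) {d : F} (hd : d + σ d = 0) :
    utv S.hh v d ∈ uiso h ⊓ Cfsg.Geo.specialLinear (Fin n) F :=
  ⟨utv_mem S.hh hv hd, det_ptv S.hh (by rw [smul_right S.hh, hv, mul_zero])⟩

theorem delta_utv {β : (Fin n → F) → (Fin n → F) → F} (hβ : L β) {v : Fin n → F} (hv : h v v = 0) {d : F}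
    (hd : d + σ d = 0) :
    L fun x y => d * h x v * β v y + σ d * h v y * β x v + d * σ d * (h x v * h v y) * β v v := by
  have h1 := S.add _ _ (S.conj _ (utv_in S hv hd) β hβ) (S.smul (-1) (by simp) β hβ)
  convert h1 using 1
  funext x y
  have hs := S.herm β hβ
  simp only [act_utv S.hh hv, hs.add_left, hs.add_right, hs.smul_left, hs.smul_right, map_mul, herm' S.hh]
  ring

variable [Fintype F]

/-- a form vanishing on the isotropic vectors is a fixed multiple of `h` -/
theorem scalar_of_iso_zero (hn : 2 ≤ n) {β : (Fin n → F) → (Fin n → F) → F} (hβ : L β)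
    (h0 : ∀ v, h v v = 0 → β v v = 0) : ∃ k, σ k = k ∧ β = fun x y => k * h x y := by
  have hU := S.hh
  have hs := S.herm β hβ
  have hi : ∀ a : F, σ (σ a) = a := hU.involutive
  obtain ⟨θ, hθ0, hθ⟩ := exists_skew hU.ne_refl hi
  -- a hyperbolic pair
  obtain ⟨e, he0, he⟩ : ∃ e : Fin n → F, e ≠ 0 ∧ h e e = 0 := by
    obtain ⟨s, t, hst, he⟩ := exists_isotropic_pair hU (Pi.single ⟨0, by omega⟩ 1) (Pi.single ⟨1, by omega⟩ 1)
    refine ⟨_, fun e => ?_, he⟩
    have e0 := congrFun e ⟨0, by omega⟩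
    have e1 := congrFun e ⟨1, by omega⟩
    simp [Fin.ext_iff] at e0 e1
    tauto
  obtain ⟨φ, -, hφ⟩ := exists_dual (⊥ : Submodule F (Fin n → F)) (v := e) (by simpa using he0)
  obtain ⟨z, hz⟩ := exists_repr hU φ
  have hze : h z e = 1 := by rw [← herm' hU, ← hz, hφ, map_one]
  obtain ⟨a, hf⟩ := exists_isotropic_shift hU he hze
  obtain ⟨f, hfdef⟩ : ∃ f, f = z + a • e := ⟨_, rfl⟩
  rw [← hfdef] at hf
  have hfe : h f e = 1 := by rw [hfdef, MaxCl.Unit.add_left hU, MaxCl.Unit.smul_left hU, hze, he, mul_zero, add_zero]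
  have hef : h e f = 1 := by rw [← herm' hU, hfe, map_one]
  set k := β e f with hk
  have hβe : β e e = 0 := h0 e he
  have hβf : β f f = 0 := h0 f hf
  have hkσ : β f e = σ k := hs.herm f e
  have hσθ : σ θ = -θ := eq_neg_of_add_eq_zero_right hθ
  have hkfix : σ k = k := by
    have hiso : h (e + θ • f) (e + θ • f) = 0 := by
      simp only [MaxCl.Unit.add_left hU, MaxCl.Unit.add_right hU, MaxCl.Unit.smul_left hU, MaxCl.Unit.smul_right hU, he, hf, hef, hfe, hσθ]
      ring
    have := h0 _ hiso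
    simp only [hs.add_left, hs.add_right, hs.smul_left, hs.smul_right, hβe, hβf, ← hk, hkσ, hσθ] at this
    have e2 : θ * (σ k - k) = 0 := by linear_combination this
    exact sub_eq_zero.1 ((mul_eq_zero.1 e2).resolve_left hθ0)
  refine ⟨k, hkfix, ?_⟩
  obtain ⟨γ, hγ⟩ : ∃ γ, γ = fun x y => β x y + (-k) * h x y := ⟨_, rfl⟩
  have hγL : L γ := hγ ▸ S.add _ _ hβ (S.smul (-k) (by rw [map_neg, hkfix]) h S.one)
  have gs := S.herm γ hγL
  have g0 : ∀ v, h v v = 0 → γ v v = 0 := fun v hv => by simp [hγ, h0 v hv, hv]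
  have gef : γ e f = 0 := by simp [hγ, ← hk, hef]
  obtain ⟨e₁, he₁⟩ := exists_trace_one hi hU.ne_refl
  have pair : ∀ e f : Fin n → F, h e e = 0 → h f f = 0 → h e f = 1 → γ e e = 0 → γ f f = 0 → γ e f = 0 →
      ∀ x, h x e = 0 → h x f = 0 → γ f x = 0 := by
    intro e f he hf hef gee gff gef x hxe hxf
    have hfe : h f e = 1 := by rw [← herm' hU, hef, map_one]
    have gfe : γ f e = 0 := by rw [gs.herm, gef, map_zero]
    have key : ∀ (ρ μ : F), μ + σ μ = -(ρ * σ ρ * h x x) →
        ρ * σ ρ * γ x x + (σ ρ * γ e x + ρ * γ x e) + (μ * σ ρ * γ f x + ρ * σ μ * γ x f) = 0 := by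
      intro ρ μ hμ
      have hiso : h (e + μ • f + ρ • x) (e + μ • f + ρ • x) = 0 := by
        simp only [MaxCl.Unit.add_left hU, MaxCl.Unit.add_right hU, MaxCl.Unit.smul_left hU, MaxCl.Unit.smul_right hU, he, hf, hef, hfe,
          hxe, hxf, eq_zero_symm hU hxe, eq_zero_symm hU hxf]
        linear_combination hμ
      have := g0 _ hiso
      simp only [gs.add_left, gs.add_right, gs.smul_left, gs.smul_right, gee, gff, gef, gfe] at this
      linear_combination this
    by_contra hne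
    obtain ⟨ρ, hρ⟩ : ∃ ρ, σ ρ = e₁ / (θ * γ f x) := ⟨σ (e₁ / (θ * γ f x)), hi _⟩
    obtain ⟨μ, hμ⟩ := exists_trace hi hU.ne_refl (-(ρ * σ ρ * h x x))
      (by rw [map_neg, map_mul, map_mul, hi, herm' hU]; ring)
    have k1 := key ρ μ hμ
    have k2 := key ρ (μ + θ) (by rw [map_add]; linear_combination hμ + hθ)
    rw [map_add] at k2
    have k3 : θ * σ ρ * γ f x + ρ * σ θ * γ x f = 0 := by linear_combination k2 - k1
    have k4 : θ * σ ρ * γ f x = e₁ := by rw [hρ]; field_simp
    have k5 : ρ * σ θ * γ x f = σ e₁ := by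
      rw [← k4, map_mul, map_mul, hi, ← gs.herm]; ring
    rw [k4, k5] at k3
    exact one_ne_zero (he₁.symm.trans k3)
  have gfe : γ f e = 0 := by rw [gs.herm, gef, map_zero]
  have perp : ∀ x, h x e = 0 → h x f = 0 → γ x x = 0 ∧ γ f x = 0 ∧ γ e x = 0 := by
    intro x hxe hxf
    have h1 := pair e f he hf hef (g0 e he) (g0 f hf) gef x hxe hxf
    have h2 := pair f e hf he hfe (g0 f hf) (g0 e he) gfe x hxf hxe
    refine ⟨?_, h1, h2⟩
    obtain ⟨μ, hμ⟩ := exists_trace hi hU.ne_refl (-(h x x)) (by rw [map_neg, herm' hU])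
    have hiso : h (e + μ • f + x) (e + μ • f + x) = 0 := by
      simp only [MaxCl.Unit.add_left hU, MaxCl.Unit.add_right hU, MaxCl.Unit.smul_left hU, MaxCl.Unit.smul_right hU, he, hf, hef, hfe,
        hxe, hxf, eq_zero_symm hU hxe, eq_zero_symm hU hxf]
      linear_combination hμ
    have := g0 _ hiso
    have h1' : γ x f = 0 := by rw [gs.herm, h1, map_zero]
    have h2' : γ x e = 0 := by rw [gs.herm, h2, map_zero]
    simpa [gs.add_left, gs.add_right, gs.smul_left, gs.smul_right, g0 e he, g0 f hf, gef, gfe, h1, h2,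
      h1', h2'] using this
  have polar : ∀ x y, h x e = 0 → h x f = 0 → h y e = 0 → h y f = 0 → γ x y = 0 := by
    intro x y hxe hxf hye hyf
    by_contra hne
    obtain ⟨ρ, hρ⟩ : ∃ ρ, σ ρ = e₁ / γ x y := ⟨σ (e₁ / γ x y), hi _⟩
    have := (perp (x + ρ • y) (by rw [MaxCl.Unit.add_left hU, MaxCl.Unit.smul_left hU, hxe, hye]; ring)
      (by rw [MaxCl.Unit.add_left hU, MaxCl.Unit.smul_left hU, hxf, hyf]; ring)).1
    simp only [gs.add_left, gs.add_right, gs.smul_left, gs.smul_right, (perp x hxe hxf).1,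
      (perp y hye hyf).1, mul_zero, add_zero, zero_add] at this
    have k4 : σ ρ * γ x y = e₁ := by rw [hρ, div_mul_cancel₀ _ hne]
    have k5 : ρ * γ y x = σ e₁ := by rw [← k4, map_mul, hi, ← gs.herm]
    rw [k4, k5] at this
    exact one_ne_zero (he₁.symm.trans this)
  have dec : ∀ x, ∃ p, h p e = 0 ∧ h p f = 0 ∧ x = h x f • e + h x e • f + p := by
    intro x
    refine ⟨x - h x f • e - h x e • f, ?_, ?_, by abel⟩
    · rw [sub_left hU, sub_left hU, MaxCl.Unit.smul_left hU, MaxCl.Unit.smul_left hU, he, hfe]; ring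
    · rw [sub_left hU, sub_left hU, MaxCl.Unit.smul_left hU, MaxCl.Unit.smul_left hU, hef, hf]; ring
  funext x y
  have : γ x y = 0 := by
    obtain ⟨p, hpe, hpf, hx⟩ := dec x
    obtain ⟨r, hre, hrf, hy⟩ := dec y
    have a1 : γ p e = 0 := by rw [gs.herm, (perp p hpe hpf).2.2, map_zero]
    have a2 : γ p f = 0 := by rw [gs.herm, (perp p hpe hpf).2.1, map_zero]
    rw [hx, hy]
    simp [gs.add_left, gs.add_right, gs.smul_left, gs.smul_right, g0 e he, g0 f hf, gef, gfe, a1, a2,
      (perp r hre hrf).2.1, (perp r hre hrf).2.2, polar p r hpe hpf hre hrf]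
  simp only [hγ] at this
  linear_combination this

theorem exists_rankForm_large {β : (Fin n → F) → (Fin n → F) → F} (hβ : L β) {v : Fin n → F}
    (hv : h v v = 0) (hb : β v v ≠ 0) {t : F} (ht : σ t = t) (ht0 : t ≠ 0) (ht1 : t ≠ 1) :
    L (rankForm h v) := by
  obtain ⟨θ, hθ0, hθ⟩ := exists_skew S.hh.ne_refl S.hh.involutive
  have h1 := delta_utv S hβ hv hθ
  have h2 := delta_utv S hβ hv (d := t * θ) (by rw [map_mul, ht]; linear_combination t * hθ)
  have hb' : σ (β v v) = β v v := ((S.herm β hβ).herm v v).symm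
  set k := (t * t - t) * (θ * σ θ * β v v) with hk
  have hk0 : k ≠ 0 := mul_ne_zero (by rw [show t * t - t = t * (t - 1) by ring]
                                      exact mul_ne_zero ht0 (sub_ne_zero.2 ht1))
    (mul_ne_zero (mul_ne_zero hθ0 ((map_ne_zero σ).2 hθ0)) hb)
  have hkf : σ k = k := by
    simp only [hk, map_mul, map_sub, ht, hb', S.hh.involutive]; ring
  have h3 := S.smul k⁻¹ (by rw [map_inv₀, hkf]) _ (S.add _ _ h2 (S.smul (-t) (by rw [map_neg, ht]) _ h1))
  convert h3 using 1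
  funext x y
  rw [rankForm]
  field_simp
  simp only [hk, map_mul, ht]
  ring

omit [Fintype F] in
/-- when `0` and `1` are the only fixed scalars -/
theorem small_field (hF : ∀ x : F, σ x = x → x = 0 ∨ x = 1) :
    (2 : F) = 0 ∧ (∀ x : F, x ≠ 0 → x * σ x = 1) := by
  refine ⟨?_, fun x hx => ?_⟩
  · rcases hF 2 (map_ofNat σ 2) with h | h
    · exact h
    · exact absurd (show (1 : F) = 0 by linear_combination h) one_ne_zero
  · exact (hF _ (by rw [map_mul, S.hh.involutive, mul_comm])).resolve_left (mul_ne_zero hx ((map_ne_zero σ).2 hx))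

theorem exists_rankForm_four (hn : 4 ≤ n) (hF : ∀ x : F, σ x = x → x = 0 ∨ x = 1)
    {β : (Fin n → F) → (Fin n → F) → F} (hβ : L β) {v : Fin n → F} (hv : h v v = 0) (hb : β v v ≠ 0) :
    L (rankForm h v) := by
  classical
  have hU := S.hh
  obtain ⟨h2, hN⟩ := small_field S hF
  have hone : (1 : F) + σ 1 = 0 := by rw [map_one]; linear_combination h2
  have hv0 : v ≠ 0 := by
    rintro rfl
    exact hb (by simpa using (S.herm β hβ).smul_left 0 0 0)
  obtain ⟨u, hu, huv, hudep, hbu⟩ : ∃ u, h u u = 0 ∧ h u v = 0 ∧ u ∉ F ∙ v ∧ β u v ≠ 0 := by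
    set K := LinearMap.ker (flinU hU v) with hK
    have hKd : n ≤ finrank F K + 1 := by
      have h3 := LinearMap.finrank_range_add_finrank_ker (flinU hU v)
      have h4 := Submodule.finrank_le (LinearMap.range (flinU hU v))
      rw [Module.finrank_self] at h4
      rw [Module.finrank_fin_fun, ← hK] at h3
      omega
    obtain ⟨p, hp, hpv⟩ := SetLike.not_le_iff_exists.1 (show ¬ K ≤ F ∙ v by
      intro h; have := Submodule.finrank_mono h; rw [finrank_span_singleton hv0] at this; omega)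
    obtain ⟨r, hr, hrv⟩ := SetLike.not_le_iff_exists.1 (show ¬ K ≤ F ∙ v ⊔ F ∙ p by
      intro h; have := Submodule.finrank_mono h
      rw [Submodule.finrank_sup_span_singleton hpv, finrank_span_singleton hv0] at this; omega)
    obtain ⟨s, t, hst, hu⟩ := exists_isotropic_pair hU p r
    have huK : s • p + t • r ∈ K := add_mem (K.smul_mem _ hp) (K.smul_mem _ hr)
    have hudep : s • p + t • r ∉ F ∙ v := by
      intro hh
      rcases eq_or_ne t 0 with rfl | ht
      · rw [zero_smul, add_zero] at hh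
        exact hpv ((Submodule.smul_mem_iff _ (hst.resolve_right (by simp))).1 hh)
      · refine hrv ((Submodule.smul_mem_iff _ ht).1 ?_)
        rw [show t • r = (s • p + t • r) - s • p by abel]
        exact Submodule.sub_mem _ (Submodule.mem_sup_left hh)
          (Submodule.mem_sup_right (Submodule.smul_mem _ _ (Submodule.mem_span_singleton_self p)))
    have huv : h (s • p + t • r) v = 0 := LinearMap.mem_ker.1 huK
    generalize s • p + t • r = w₀ at hu huK hudep huv
    by_cases hb0 : β w₀ v = 0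
    · refine ⟨w₀ + v, ?_, ?_, ?_, ?_⟩
      · rw [MaxCl.Unit.add_left hU, MaxCl.Unit.add_right hU, MaxCl.Unit.add_right hU, hu, hv, huv, eq_zero_symm hU huv]; ring
      · rw [MaxCl.Unit.add_left hU, huv, hv, add_zero]
      · intro hh
        exact hudep (by simpa using (F ∙ v).sub_mem hh (Submodule.mem_span_singleton_self v))
      · rw [(S.herm β hβ).add_left, hb0, zero_add]; exact hb
    · exact ⟨_, hu, huv, hudep, hb0⟩
  set b := β u v with hbdef
  -- the rank two form of the pair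
  have hE : L fun x y => b * (h x u * h v y) + σ b * (h x v * h u y) := by
    have a1 := utv_in S hu hone
    have a2 := utv_in S hv hone
    have h4 := S.add _ _ (S.add _ _ (S.conj _ (mul_mem a1 a2) β hβ) hβ)
      (S.add _ _ (S.conj _ a1 β hβ) (S.conj _ a2 β hβ))
    convert h4 using 1
    funext x y
    have hs := S.herm β hβ
    have hbv : β v u = σ b := hs.herm v u
    simp only [act_mul, act_utv hU hu, act_utv hU hv, one_mul, MaxCl.Unit.add_left hU, MaxCl.Unit.smul_left hU,
      eq_zero_symm hU huv, mul_zero, add_zero, hs.add_left, hs.add_right, hs.smul_left, hs.smul_right,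
      herm' hU, ← hbdef, hbv]
    linear_combination -(2 * β x y + h u y * β x u + h x u * β u y + h x u * h u y * β u u +
      h v y * β x v + h x v * β v y + h x v * h v y * β v v) * h2
  -- its images
  obtain ⟨φ, hφ0, hφ1⟩ := exists_dual _ hudep
  obtain ⟨z₀, hz₀⟩ := exists_repr hU φ
  have hz₀u : h z₀ u = 1 := by rw [← herm' hU, ← hz₀, hφ1, map_one]
  have hz₀v : h z₀ v = 0 := by
    rw [← herm' hU, ← hz₀, hφ0 v (Submodule.mem_span_singleton_self v), map_zero]
  obtain ⟨a, hw⟩ := exists_isotropic_shift hU hu hz₀u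
  obtain ⟨w, hwdef⟩ : ∃ w, w = z₀ + a • u := ⟨_, rfl⟩
  rw [← hwdef] at hw
  have hwu : h w u = 1 := by rw [hwdef, MaxCl.Unit.add_left hU, MaxCl.Unit.smul_left hU, hz₀u, hu, mul_zero, add_zero]
  have huw : h u w = 1 := by rw [← herm' hU, hwu, map_one]
  have hwv : h w v = 0 := by rw [hwdef, MaxCl.Unit.add_left hU, MaxCl.Unit.smul_left hU, hz₀v, huv, mul_zero, add_zero]
  have image : ∀ z, h z z = 0 → h u z = 1 → h v z = 0 →
      L fun x y => b * (h x (u + z) * h v y) + σ b * (h x v * h (u + z) y) := by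
    intro z hz huz hvz
    have hinv : ∀ x, act (utv hU z 1) (act (utv hU z 1) x) = x := fun x => by
      rw [← act_mul, utv_add hU hz, show (1 : F) + 1 = 0 by linear_combination h2, utv_zero, act_one]
    have h5 := S.conj _ (utv_in S hz hone) _ hE
    convert h5 using 1
    funext x y
    have key : ∀ x p, h (act (utv hU z 1) x) p = h x (act (utv hU z 1) p) := fun x p => by
      conv_lhs => rw [← hinv p, mem_uiso.1 (utv_mem hU hz hone)]
    have key' : ∀ y p, h p (act (utv hU z 1) y) = h (act (utv hU z 1) p) y := fun y p => by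
      conv_lhs => rw [← hinv p, mem_uiso.1 (utv_mem hU hz hone)]
    rw [key x u, key' y v, key x v, key' y u, act_utv hU hz, act_utv hU hz, huz, hvz, one_mul, one_smul, mul_zero, zero_smul,
      add_zero]
  obtain ⟨e₁, he₁⟩ := exists_trace_one hU.involutive hU.ne_refl
  obtain ⟨l, hl⟩ : ∃ l, σ l = e₁ / b := ⟨σ (e₁ / b), hU.involutive _⟩
  have hz₁ : h (l • v + w) (l • v + w) = 0 := by
    simp only [MaxCl.Unit.add_left hU, MaxCl.Unit.add_right hU, MaxCl.Unit.smul_left hU, MaxCl.Unit.smul_right hU, hv, hw, hwv,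
      eq_zero_symm hU hwv]
    ring
  have hz₂ : h (u + w) (u + w) = 0 := by
    simp only [MaxCl.Unit.add_left hU, MaxCl.Unit.add_right hU, hu, hw, huw, hwu]
    linear_combination h2
  have i1 := image _ hz₁ (by rw [MaxCl.Unit.add_right hU, MaxCl.Unit.smul_right hU, huv, huw]; ring)
    (by rw [MaxCl.Unit.add_right hU, MaxCl.Unit.smul_right hU, hv, eq_zero_symm hU hwv]; ring)
  have i2 := image _ hz₂ (by rw [MaxCl.Unit.add_right hU, hu, huw, zero_add])
    (by rw [MaxCl.Unit.add_right hU, eq_zero_symm hU huv, eq_zero_symm hU hwv, add_zero])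
  have k4 : b * σ l = e₁ := by rw [hl, mul_div_cancel₀ _ hbu]
  have k5 : σ b * l = σ e₁ := by rw [← k4, map_mul, hU.involutive]
  convert S.add _ _ (S.add _ _ i1 i2) hE using 1
  funext x y
  simp only [rankForm, MaxCl.Unit.add_left hU, MaxCl.Unit.add_right hU, MaxCl.Unit.smul_left hU, MaxCl.Unit.smul_right hU]
  linear_combination (-(h x v * h v y)) * (k4 + k5 + he₁) -
    (b * h v y * (2 * h x u + h x w) + σ b * h x v * (2 * h u y + h w y)) * h2

/-- the field with four elements -/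
theorem four_facts (hF : ∀ x : F, σ x = x → x = 0 ∨ x = 1) {x : F} (h0 : x ≠ 0) (h1 : x ≠ 1) :
    σ x = x * x ∧ x * x + x + 1 = 0 := by
  obtain ⟨h2, hN⟩ := small_field S hF
  have hn := hN x h0
  have hx : σ x ≠ x := fun e => (hF x e).elim h0 h1
  have ht : x + σ x = 1 := by
    refine (hF _ (by rw [map_add, S.hh.involutive, add_comm])).resolve_left fun e => hx ?_
    linear_combination e - x * h2
  have hq : x * x + x + 1 = 0 := by linear_combination x * ht - hn + x * h2
  exact ⟨by linear_combination ht - hq + h2, hq⟩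

omit S in
/-- orthonormal bases -/
theorem onb_expand (hU : Cfsg.Geo.IsUnitaryForm σ h) {u : Fin n → Fin n → F}
    (hu : ∀ r s, h (u r) (u s) = if r = s then 1 else 0) (x : Fin n → F) : x = ∑ i, h x (u i) • u i := by
  classical
  have hli : LinearIndependent F u := by
    rw [Fintype.linearIndependent_iff]
    intro g hg i
    have h0 : flinU hU (u i) (∑ j, g j • u j) = 0 := by rw [hg, map_zero]
    simpa [flinU_apply, hu] using h0
  have hsp := hli.span_eq_top_of_card_eq_finrank' (by simp)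
  have hx : x ∈ Submodule.span F (Set.range u) := hsp ▸ trivial
  obtain ⟨g, rfl⟩ := (Submodule.mem_span_range_iff_exists_fun _).1 hx
  refine Finset.sum_congr rfl fun i _ => ?_
  congr 1
  show g i = flinU hU (u i) (∑ j, g j • u j)
  simp [flinU_apply, hu]

omit S in
theorem onb_ext (hU : Cfsg.Geo.IsUnitaryForm σ h) {u : Fin n → Fin n → F}
    (hu : ∀ r s, h (u r) (u s) = if r = s then 1 else 0) {γ δ : (Fin n → F) → (Fin n → F) → F}
    (hγ : IsHermSesq σ γ) (hδ : IsHermSesq σ δ) (hrs : ∀ r s, γ (u r) (u s) = δ (u r) (u s)) : γ = δ := by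
  funext x y
  rw [onb_expand hU hu x, onb_expand hU hu y, hγ.expand, hδ.expand]
  simp only [hrs]

/-- rank one forms move between orthonormal bases -/
theorem onb_transfer (hF : ∀ x : F, σ x = x → x = 0 ∨ x = 1) {u w : Fin n → Fin n → F}
    (hu : ∀ r s, h (u r) (u s) = if r = s then 1 else 0)
    (hw : ∀ r s, h (w r) (w s) = if r = s then 1 else 0) {i : Fin n} (hi : L (rankForm h (w i))) :
    L (rankForm h (u i)) := by
  classical
  have hU := S.hh
  obtain ⟨-, hN⟩ := small_field S hF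
  let A : (Fin n → F) →ₗ[F] (Fin n → F) := ∑ i, (flinU hU (u i)).smulRight (w i)
  have hA : ∀ x, A x = ∑ i, h x (u i) • w i := fun x => by simp [A, flinU_apply]
  have hh' : IsHermSesq σ h := S.herm h S.one
  have hiso : ∀ x y, h (A x) (A y) = h x y := by
    intro x y
    conv_rhs => rw [onb_expand hU hu x, onb_expand hU hu y, hh'.expand]
    rw [hA, hA, hh'.expand]
    simp only [hu, hw]
  have hinj : Function.Injective A := fun x y hxy => by
    apply flinU_injective hU
    apply LinearMap.ext; intro z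
    simp only [flinU_apply]
    rw [← hiso z x, ← hiso z y, hxy]
  obtain ⟨g, hg⟩ := exists_gl_of_injective A hinj
  have hgi : g ∈ uiso h := mem_uiso.2 fun x y => by rw [hg, hg, hiso]
  have hdet : (g : Matrix (Fin n) (Fin n) F).det ≠ 0 := (Matrix.GeneralLinearGroup.det g).ne_zero
  have hwi : h (w i) (w i) ≠ 0 := by rw [hw, if_pos rfl]; exact one_ne_zero
  set l := ((g : Matrix (Fin n) (Fin n) F).det)⁻¹ with hl
  obtain ⟨d, hd, hdl⟩ := exists_qref hU hwi (l := l) (hN _ (inv_ne_zero hdet))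
  have haS : d * g ∈ uiso h ⊓ Cfsg.Geo.specialLinear (Fin n) F := by
    refine ⟨mul_mem hd hgi, MonoidHom.mem_ker.2 (Units.ext ?_)⟩
    rw [Matrix.GeneralLinearGroup.val_det_apply, Units.val_mul, Matrix.det_mul, det_qref hU hwi hdl, hl,
      inv_mul_cancel₀ hdet]
    rfl
  have hk : act (d * g) (u i) = l • w i := by
    have hgu : act g (u i) = w i := by rw [hg, hA]; simp [hu, ite_smul]
    rw [act_mul, hgu, hdl, hw, if_pos rfl, mul_one, div_one, sub_smul, one_smul]
    abel
  convert S.conj _ haS _ hi using 1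
  funext x y
  have hl0 : l ≠ 0 := inv_ne_zero hdet
  have hwi' : w i = l⁻¹ • act (d * g) (u i) := by rw [hk, inv_smul_smul₀ hl0]
  rw [rankForm, rankForm, hwi', MaxCl.Unit.smul_left hU, MaxCl.Unit.smul_right hU, mem_uiso.1 haS.1,
    mem_uiso.1 haS.1]
  linear_combination (-(h x (u i) * h (u i) y)) * hN l⁻¹ (inv_ne_zero hl0)

/-- the diagonal part of a form in an orthonormal basis of a three dimensional space -/
theorem onb_diag (hn : n = 3) (hF : ∀ x : F, σ x = x → x = 0 ∨ x = 1) {ω : F} (hω0 : ω ≠ 0) (hω1 : ω ≠ 1)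
    {u : Fin n → Fin n → F} (hu : ∀ r s, h (u r) (u s) = if r = s then 1 else 0)
    {γ : (Fin n → F) → (Fin n → F) → F} (hγ : L γ) :
    L fun x y => ∑ i, γ (u i) (u i) * rankForm h (u i) x y := by
  classical
  subst hn
  have hU := S.hh
  obtain ⟨h2, hN⟩ := small_field S hF
  obtain ⟨hσω, hq⟩ := four_facts S hF hω0 hω1
  have h3 : ω * ω * ω = 1 := by linear_combination (ω - 1) * hq
  have n1 : h (u 1) (u 1) ≠ 0 := by rw [hu, if_pos rfl]; exact one_ne_zero
  have n2 : h (u 2) (u 2) ≠ 0 := by rw [hu, if_pos rfl]; exact one_ne_zero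
  obtain ⟨a₁, ha₁, k₁⟩ := exists_qref hU n1 (hN ω hω0)
  obtain ⟨a₂, ha₂, k₂⟩ := exists_qref hU n2 (hN (ω * ω) (mul_ne_zero hω0 hω0))
  set a := a₁ * a₂ with ha
  have haS : a ∈ uiso h ⊓ Cfsg.Geo.specialLinear (Fin 3) F := by
    refine ⟨mul_mem ha₁ ha₂, MonoidHom.mem_ker.2 (Units.ext ?_)⟩
    rw [Matrix.GeneralLinearGroup.val_det_apply, Units.val_mul, Matrix.det_mul, det_qref hU n1 k₁,
      det_qref hU n2 k₂, ← mul_assoc, h3]
    rfl
  have q1 : ∀ i, act a₁ (u i) = (if i = 1 then ω else 1) • u i := fun i => by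
    rw [k₁, hu, hu, if_pos rfl, div_one]
    rcases eq_or_ne i 1 with rfl | hi
    · rw [if_pos rfl, if_pos rfl, mul_one, sub_smul, one_smul]; abel
    · rw [if_neg hi, if_neg hi, mul_zero, zero_smul, add_zero, one_smul]
  have q2 : ∀ i, act a₂ (u i) = (if i = 2 then ω * ω else 1) • u i := fun i => by
    rw [k₂, hu, hu, if_pos rfl, div_one]
    rcases eq_or_ne i 2 with rfl | hi
    · rw [if_pos rfl, if_pos rfl, mul_one, sub_smul, one_smul]; abel
    · rw [if_neg hi, if_neg hi, mul_zero, zero_smul, add_zero, one_smul]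
  have q : ∀ i : Fin 3, act a (u i) = ω ^ (i : ℕ) • u i := fun i => by
    rw [ha, act_mul, q2, map_smul, q1, smul_smul]
    congr 1
    fin_cases i <;> simp [sq]
  have h6 := S.add _ _ (S.add _ _ hγ (S.conj a haS γ hγ)) (S.conj (a * a) (mul_mem haS haS) γ hγ)
  convert h6 using 1
  have gs := S.herm γ hγ
  refine onb_ext hU hu ?_ (S.herm _ h6) fun r s => ?_
  · refine ⟨fun x y v => ?_, fun k x v => ?_, fun v w => ?_⟩
    · simp [rankForm, MaxCl.Unit.add_left hU, Finset.sum_add_distrib, mul_add, add_mul]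
    · simp only [rankForm, MaxCl.Unit.smul_left hU, Finset.mul_sum]
      exact Finset.sum_congr rfl fun i _ => by ring
    · simp only [rankForm, map_sum, map_mul, herm' hU, ← gs.herm]
      exact Finset.sum_congr rfl fun i _ => by ring
  have hsum : ∑ i, γ (u i) (u i) * rankForm h (u i) (u r) (u s) = if r = s then γ (u r) (u r) else 0 := by
    rw [Finset.sum_eq_single r (fun j _ hj => by rw [rankForm, hu, if_neg (Ne.symm hj)]; ring) (by simp),
      rankForm, hu, hu, if_pos rfl, one_mul]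
    split_ifs <;> simp
  show ∑ i, γ (u i) (u i) * rankForm h (u i) (u r) (u s) = _
  rw [hsum]
  simp only [act_mul, q, map_smul, gs.smul_left, gs.smul_right, map_pow]
  set ρ := ω ^ (r : ℕ) * σ ω ^ (s : ℕ) with hρ
  have e : γ (u r) (u s) + ω ^ (r : ℕ) * (σ ω ^ (s : ℕ) * γ (u r) (u s)) +
      ω ^ (r : ℕ) * (ω ^ (r : ℕ) * (σ ω ^ (s : ℕ) * (σ ω ^ (s : ℕ) * γ (u r) (u s)))) =
      (1 + ρ + ρ * ρ) * γ (u r) (u s) := by rw [hρ]; ring
  rw [e]
  rcases eq_or_ne r s with rfl | hrs
  · have h1 : ρ = 1 := by rw [hρ, ← mul_pow, hN ω hω0, one_pow]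
    rw [if_pos rfl, h1]
    linear_combination (-(γ (u r) (u r))) * h2
  · rw [if_neg hrs]
    have hσ0 : σ ω ≠ 0 := (map_ne_zero σ).2 hω0
    have hρ0 : ρ ≠ 0 := mul_ne_zero (pow_ne_zero _ hω0) (pow_ne_zero _ hσ0)
    have hρ1 : ρ ≠ 1 := by
      intro h1
      have h4 : ω ^ (r : ℕ) = ω ^ (s : ℕ) := by
        have h5 : σ ω ^ (s : ℕ) * ω ^ (s : ℕ) = 1 := by rw [← mul_pow, mul_comm, hN ω hω0, one_pow]
        rw [← mul_one (ω ^ (r : ℕ)), ← h5, ← mul_assoc, ← hρ, h1, one_mul]
      have h5 : ω * ω ≠ 1 := fun e5 => hω1 (by linear_combination h3 - ω * e5)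
      have h6 : ω * ω ≠ ω := fun e6 => hω1 (mul_left_cancel₀ hω0 (e6.trans (mul_one ω).symm))
      revert h4 hrs
      fin_cases r <;> fin_cases s <;> simp [sq, hω1, Ne.symm hω1, h5, Ne.symm h5, h6, Ne.symm h6]
    rw [show (1 : F) + ρ + ρ * ρ = 0 by linear_combination (four_facts S hF hρ0 hρ1).2, zero_mul]

theorem exists_rankForm_three (hn : n = 3) (hF : ∀ x : F, σ x = x → x = 0 ∨ x = 1)
    {β : (Fin n → F) → (Fin n → F) → F} (hβ : L β) (hns : ∀ k, σ k = k → β ≠ fun x y => k * h x y) :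
    ∃ v, v ≠ 0 ∧ h v v = 0 ∧ L (rankForm h v) := by
  classical
  subst hn
  have hU := S.hh
  obtain ⟨h2, hN⟩ := small_field S hF
  obtain ⟨ω, hω⟩ := exists_moved hU.ne_refl
  have hω0 : ω ≠ 0 := by rintro rfl; exact hω (map_zero σ)
  have hω1 : ω ≠ 1 := by rintro rfl; exact hω (map_one σ)
  obtain ⟨hσω, hw2⟩ := four_facts S hF hω0 hω1
  have hwc : ω * ω * ω = 1 := by linear_combination (ω - 1) * hw2
  have hp : ∀ r : Fin 3, ω ^ (r : ℕ) * σ (ω ^ (r : ℕ)) = 1 := fun r => hN _ (pow_ne_zero _ hω0)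
  have hTop : Cfsg.Geo.IsNondegenerateOn h (⊤ : Submodule F (Fin 3 → F)) := fun v _ hv => by
    obtain ⟨⟨a, ha⟩, ⟨b, hb⟩⟩ := hU.nondegenerate v hv
    exact ⟨⟨a, trivial, ha⟩, ⟨b, trivial, hb⟩⟩
  obtain ⟨e, -, he⟩ := exists_orthonormal_family hU 3 ⊤ hTop (by simp)
  -- every vector `(1, l, m)` starts an orthonormal basis
  have bases : ∀ l m : F, l ≠ 0 → m ≠ 0 → ∀ r s : Fin 3,
      h (e 0 + (l * ω ^ (r : ℕ)) • e 1 + (m * (ω ^ (r : ℕ) * ω ^ (r : ℕ))) • e 2)
        (e 0 + (l * ω ^ (s : ℕ)) • e 1 + (m * (ω ^ (s : ℕ) * ω ^ (s : ℕ))) • e 2) =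
        if r = s then 1 else 0 := by
    intro l m hl hm r s
    have hrhs : h (e 0 + (l * ω ^ (r : ℕ)) • e 1 + (m * (ω ^ (r : ℕ) * ω ^ (r : ℕ))) • e 2)
        (e 0 + (l * ω ^ (s : ℕ)) • e 1 + (m * (ω ^ (s : ℕ) * ω ^ (s : ℕ))) • e 2) =
        1 + ω ^ (r : ℕ) * σ (ω ^ (s : ℕ)) +
          ω ^ (r : ℕ) * σ (ω ^ (s : ℕ)) * (ω ^ (r : ℕ) * σ (ω ^ (s : ℕ))) := by
      simp only [MaxCl.Unit.add_left hU, MaxCl.Unit.add_right hU, MaxCl.Unit.smul_left hU,
        MaxCl.Unit.smul_right hU, he, map_mul]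
      norm_num [Fin.ext_iff]
      linear_combination (ω ^ (r : ℕ) * σ ω ^ (s : ℕ)) * hN l hl +
        (ω ^ (r : ℕ) * σ ω ^ (s : ℕ) * (ω ^ (r : ℕ) * σ ω ^ (s : ℕ))) * hN m hm
    rw [hrhs]
    set ρ := ω ^ (r : ℕ) * σ (ω ^ (s : ℕ)) with hρ
    rcases eq_or_ne r s with rfl | hrs
    · rw [if_pos rfl, show ρ = 1 from hp r]
      linear_combination h2
    · rw [if_neg hrs]
      have hρ0 : ρ ≠ 0 := mul_ne_zero (pow_ne_zero _ hω0) ((map_ne_zero σ).2 (pow_ne_zero _ hω0))
      have hρ1 : ρ ≠ 1 := by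
        intro h1
        have h4 : ω ^ (r : ℕ) = ω ^ (s : ℕ) := by
          rw [← mul_one (ω ^ (r : ℕ)), ← hp s, mul_comm (ω ^ (s : ℕ)), ← mul_assoc, ← hρ, h1, one_mul]
        have h5 : ω * ω ≠ 1 := fun e5 => hω1 (by linear_combination hwc - ω * e5)
        have h6 : ω * ω ≠ ω := fun e6 => hω1 (mul_left_cancel₀ hω0 (e6.trans (mul_one ω).symm))
        revert h4 hrs
        fin_cases r <;> fin_cases s <;> simp [sq, hω1, Ne.symm hω1, h5, Ne.symm h5, h6, Ne.symm h6]
      linear_combination (four_facts S hF hρ0 hρ1).2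
  -- some orthonormal basis sees that `β` is not scalar
  obtain ⟨u₀, hu₀, i₀, j₀, hij₀⟩ : ∃ u : Fin 3 → Fin 3 → F, (∀ r s, h (u r) (u s) = if r = s then 1 else 0) ∧
      ∃ i j, β (u i) (u i) ≠ β (u j) (u j) := by
    by_contra hno
    push Not at hno
    have hs := S.herm β hβ
    set k := β (e 0) (e 0) with hk
    have hkf : σ k = k := (hs.herm _ _).symm
    have hd : ∀ i, β (e i) (e i) = k := fun i => hno e he i 0
    apply hns k hkf
    set x := β (e 0) (e 1) with hx
    set y := β (e 1) (e 2) with hy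
    set z := β (e 0) (e 2) with hz
    have hx' : β (e 1) (e 0) = σ x := hs.herm _ _
    have hy' : β (e 2) (e 1) = σ y := hs.herm _ _
    have hz' : β (e 2) (e 0) = σ z := hs.herm _ _
    have hQ : ∀ m : F, m ≠ 0 → x + σ m * y + m * σ z = 0 := by
      intro m hm
      set Q := x + σ m * y + m * σ z with hQ
      have val : ∀ t : F, t * σ t = 1 →
          β (e 0 + ((1 : F) * t) • e 1 + (m * (t * t)) • e 2) (e 0 + ((1 : F) * t) • e 1 + (m * (t * t)) • e 2) =
            k + σ t * Q + t * σ Q := by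
        intro t ht
        have e5 : t = σ t * σ t := by
          rcases eq_or_ne (σ t) 1 with h1 | h1
          · rw [← hU.involutive t, h1]; simp
          · have := (four_facts S hF (right_ne_zero_of_mul (ht.symm ▸ one_ne_zero)) h1).1
            rwa [hU.involutive] at this
        simp only [hs.add_left, hs.add_right, hs.smul_left, hs.smul_right, hd, ← hx, ← hy, ← hz, hx', hy', hz',
          one_mul, hQ, map_mul, map_add, hU.involutive]
        grind
      have b0 := hno _ (bases 1 m one_ne_zero hm)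
      have e01 := b0 0 1
      have e02 := b0 0 2
      rw [val _ (hp 0), val _ (hp 1)] at e01
      rw [val _ (hp 0), val _ (hp 2)] at e02
      simp only [Fin.isValue, Fin.val_zero, Fin.val_one, Fin.val_two, pow_zero, pow_one, map_one, map_pow,
        hσω, one_mul] at e01 e02
      have q1 : (1 - ω * ω) * Q + (1 - ω) * σ Q = 0 := by linear_combination e01
      have q2 : (1 - ω) * Q + (1 - ω * ω) * σ Q = 0 := by linear_combination e02 + (ω * Q) * hwc
      have q3 : (ω * ω - ω) * (Q - σ Q) = 0 := by linear_combination q2 - q1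
      have hne : ω * ω - ω ≠ 0 := fun h0 => hω (by rw [hσω]; exact sub_eq_zero.1 h0)
      have q4 := sub_eq_zero.1 ((mul_eq_zero.1 q3).resolve_left hne)
      rw [← q4] at q1
      linear_combination q1 + Q * hw2 - Q * h2
    have hωt : ω + σ ω = 1 := by rw [hσω]; linear_combination hw2 - h2
    have e1 := hQ 1 one_ne_zero
    have e2 := hQ ω hω0
    have e3 := hQ (σ ω) ((map_ne_zero σ).2 hω0)
    rw [map_one] at e1
    rw [hU.involutive] at e3
    have x0 : x = 0 := by linear_combination e1 + e2 + e3 - (y + σ z) * hωt - (x + y + σ z) * h2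
    have y0 : y = 0 := by
      have : (σ ω - ω) * y = 0 := by linear_combination e2 - ω * e1 - (1 - ω) * x0
      exact (mul_eq_zero.1 this).resolve_left (sub_ne_zero.2 hω)
    have z0 : z = 0 := by
      have : σ z = 0 := by linear_combination e1 - x0 - y0
      exact (map_eq_zero σ).1 this
    refine onb_ext hU he hs (S.herm _ (S.smul k hkf h S.one)) fun r s => ?_
    fin_cases r <;> fin_cases s <;>
      simp [he, hd, ← hx, ← hy, ← hz, hx', hy', hz', x0, y0, z0]
  -- one rank one form from a non-constant diagonal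
  obtain ⟨m, hm⟩ : ∃ m, L (rankForm h (u₀ m)) := by
    have hd := onb_diag S rfl hF hω0 hω1 hu₀ hβ
    have hh1 : L fun x y => ∑ i, (β (u₀ i) (u₀ i) + 1) * rankForm h (u₀ i) x y := by
      convert onb_diag S rfl hF hω0 hω1 hu₀ (S.add _ _ hβ S.one) using 1
      funext x y; simp [hu₀]
    have fix : ∀ m, β (u₀ m) (u₀ m) = 0 ∨ β (u₀ m) (u₀ m) = 1 := fun m => hF _ ((S.herm β hβ).herm _ _).symm
    have h11 : (1 : F) + 1 = 0 := by linear_combination h2
    have same : (∀ i, β (u₀ i) (u₀ i) = β (u₀ 0) (u₀ 0)) → False := fun hall =>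
      hij₀ ((hall i₀).trans (hall j₀).symm)
    rcases fix 0 with a0 | a0 <;> rcases fix 1 with a1 | a1 <;> rcases fix 2 with a2 | a2
    · exact (same fun i => by fin_cases i <;> simp [a0, a1, a2]).elim
    · exact ⟨2, by convert hd using 1; funext x y; simp [Fin.sum_univ_three, a0, a1, a2]⟩
    · exact ⟨1, by convert hd using 1; funext x y; simp [Fin.sum_univ_three, a0, a1, a2]⟩
    · exact ⟨0, by convert hh1 using 1; funext x y; simp [Fin.sum_univ_three, a0, a1, a2, h11]⟩
    · exact ⟨0, by convert hd using 1; funext x y; simp [Fin.sum_univ_three, a0, a1, a2]⟩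
    · exact ⟨1, by convert hh1 using 1; funext x y; simp [Fin.sum_univ_three, a0, a1, a2, h11]⟩
    · exact ⟨2, by convert hh1 using 1; funext x y; simp [Fin.sum_univ_three, a0, a1, a2, h11]⟩
    · exact (same fun i => by fin_cases i <;> simp [a0, a1, a2]).elim
  -- every orthonormal vector gives a rank one form
  have allu : ∀ u : Fin 3 → Fin 3 → F, (∀ r s, h (u r) (u s) = if r = s then 1 else 0) →
      ∀ i, L (rankForm h (u i)) := by
    intro u hu i
    have := onb_transfer S hF (u := u ∘ Equiv.swap i m) (fun r s => by simp [hu]) hu₀ hm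
    simpa using this
  have b : ∀ l m : F, l ≠ 0 → m ≠ 0 → L (rankForm h (e 0 + l • e 1 + m • e 2)) := fun l m hl hm => by
    have := allu _ (bases l m hl hm) 0
    simpa using this
  refine ⟨e 1 + e 2, fun h0 => ?_, ?_, ?_⟩
  · have := congrArg (fun x => h x (e 1)) h0
    simp [MaxCl.Unit.add_left hU, he, zero_left hU] at this
  · simp only [MaxCl.Unit.add_left hU, MaxCl.Unit.add_right hU, he]; norm_num [Fin.ext_iff]; linear_combination h2
  convert S.add _ _ (S.add _ _ (allu e he 1) (allu e he 2))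
    (S.add _ _ (S.add _ _ (b 1 1 one_ne_zero one_ne_zero) (b 1 ω one_ne_zero hω0))
      (S.add _ _ (b ω 1 hω0 one_ne_zero) (b ω ω hω0 hω0))) using 1
  funext x y
  simp only [rankForm, MaxCl.Unit.add_left hU, MaxCl.Unit.add_right hU, MaxCl.Unit.smul_left hU, MaxCl.Unit.smul_right hU, one_smul, hσω]
  generalize h x (e 0) = a0
  generalize h x (e 1) = a1
  generalize h x (e 2) = a2
  generalize h (e 0) y = c0
  generalize h (e 1) y = c1
  generalize h (e 2) y = c2
  grind

theorem exists_rankForm (hn : 2 ≤ n) (hex : ¬ (n = 2 ∧ ∀ x : F, σ x = x → x = 0 ∨ x = 1))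
    {β : (Fin n → F) → (Fin n → F) → F} (hβ : L β) (hns : ∀ k, σ k = k → β ≠ fun x y => k * h x y) :
    ∃ v, v ≠ 0 ∧ h v v = 0 ∧ L (rankForm h v) := by
  obtain ⟨v, hv, hb⟩ : ∃ v, h v v = 0 ∧ β v v ≠ 0 := by
    by_contra hno; push Not at hno
    obtain ⟨k, hk, e⟩ := scalar_of_iso_zero S hn hβ hno
    exact hns k hk e
  have hv0 : v ≠ 0 := by
    rintro rfl
    exact hb (by simpa using (S.herm β hβ).smul_left 0 0 0)
  by_cases hF : ∀ x : F, σ x = x → x = 0 ∨ x = 1
  · have : n ≠ 2 := fun e => hex ⟨e, hF⟩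
    by_cases h3 : n = 3
    · exact exists_rankForm_three S h3 hF hβ hns
    · exact ⟨v, hv0, hv, exists_rankForm_four S (by omega) hF hβ hv hb⟩
  · push Not at hF
    obtain ⟨t, ht, ht0, ht1⟩ := hF
    exact ⟨v, hv0, hv, exists_rankForm_large S hβ hv hb ht ht0 ht1⟩

end Cfsg.Agent.MaxCl.Unit
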