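/-
The stabiliser of a decomposition into blocks of at least two coordinates is maximal in the special linear group.
-/
import Mathlib
import Cfsg.Prelude.Def_GeometricClasses
import Cfsg.Agent.Lib.MaxCl.LinearMonomialMax

set_option autoImplicit false

namespace Cfsg.Agent.MaxCl.Monom

open Matrix
open scoped MatrixGroups

variable {ι : Type} [Fintype ι] [DecidableEq ι] {F : Type*} [Field F] {t : ℕ}

/-- `g` permutes the blocks -/
def BlockPerm (blk : ι → Fin t) (g : GL ι F) : Prop :=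
  ∃ σ : Equiv.Perm (Fin t), ∀ p k, blk k ≠ σ (blk p) → act g (Pi.single p 1) k = 0

/-- the overgroup contains the block permuting matrices of determinant one -/
def OverB (blk : ι → Fin t) (M : Subgroup (GL ι F)) : Prop :=
  M ≤ Cfsg.Geo.specialLinear ι F ∧ ∀ g, BlockPerm blk g → g ∈ Cfsg.Geo.specialLinear ι F → g ∈ M

/-- `x ↦ x + (φ ⬝ x) v` lies in `M` -/
def TvIn (M : Subgroup (GL ι F)) (φ v : ι → F) : Prop :=
  φ ⬝ᵥ v = 0 ∧ ∃ g ∈ M, ∀ x, act g x = x + (φ ⬝ᵥ x) • v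

variable {blk : ι → Fin t} {M : Subgroup (GL ι F)}

theorem exists_block_elem (hM : OverB blk M) {k l : ι} (hkl : k ≠ l) (hb : blk k = blk l) (c : F) :
    ∃ e ∈ M, (∀ x, act e x = x + (c * x l) • Pi.single k 1) ∧ ∀ x, act e⁻¹ x = x - (c * x l) • Pi.single k 1 := by
  obtain ⟨φ, hφdef⟩ : ∃ φ : (ι → F) →ₗ[F] F, φ = c • LinearMap.proj l := ⟨_, rfl⟩
  have hφ : φ (Pi.single k 1) = 0 := by simp [hφdef, hkl.symm]
  have hx : ∀ x, act (tv φ (Pi.single k 1)) x = x + (c * x l) • Pi.single k 1 := fun x => by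
    rw [act_tv hφ, hφdef]; rfl
  refine ⟨tv φ (Pi.single k 1), hM.2 _ ⟨1, fun p q hq => ?_⟩ (mem_specialLinear_iff.2 ?_), hx, fun x => ?_⟩
  · rw [Equiv.Perm.one_apply] at hq
    have hqp : q ≠ p := fun e => hq (by rw [e])
    rw [hx, Pi.add_apply, single_apply', Pi.single_eq_of_ne hqp, zero_add]
    by_cases h : q = k
    · subst h
      have hpl : p ≠ l := fun e => hq (by rw [hb, e])
      simp [hpl.symm]
    · simp [h]
  · rw [det_eq_of_fix_hyperplane (act_tv hφ), hφ, add_zero]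
  · apply act_injective (tv φ (Pi.single k 1))
    rw [act_act_inv, hx]
    simp [hkl.symm]

theorem tvIn_elem_conj (hM : OverB blk M) {φ v : ι → F} (h : TvIn M φ v) {k l : ι} (hkl : k ≠ l)
    (hb : blk k = blk l) (c : F) :
    TvIn M (φ - (c * φ k) • Pi.single l 1) (v + (c * v l) • Pi.single k 1) := by
  obtain ⟨hd, g, hg, hgx⟩ := h
  obtain ⟨e, he, hex, heix⟩ := exists_block_elem hM hkl hb c
  refine ⟨?_, e * g * e⁻¹, M.mul_mem (M.mul_mem he hg) (M.inv_mem he), fun x => ?_⟩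
  · simp only [sub_dotProduct, dotProduct_add, smul_dotProduct, dotProduct_smul, dotProduct_single_one,
      single_one_dotProduct, Pi.sub_apply, Pi.smul_apply, Pi.single_eq_of_ne hkl, Pi.single_eq_of_ne hkl.symm,
      hd, smul_eq_mul]
    ring
  rw [act_mul, act_mul, hgx, map_add, map_smul, act_act_inv, hex v, heix, dotProduct_sub, dotProduct_smul,
    dotProduct_single_one, sub_dotProduct, smul_dotProduct, single_one_dotProduct]
  congr 2
  simp only [smul_eq_mul]; ring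

theorem tvIn_diff_centre {φ v w : ι → F} (h : TvIn M φ v) (h' : TvIn M φ (v + w)) : TvIn M φ w := by
  obtain ⟨hd, g, hg, hgx⟩ := h
  obtain ⟨hd', g', hg', hgx'⟩ := h'
  have hdw : φ ⬝ᵥ w = 0 := by rwa [dotProduct_add, hd, zero_add] at hd'
  refine ⟨hdw, g' * g⁻¹, M.mul_mem hg' (M.inv_mem hg), fun x => ?_⟩
  obtain ⟨y, rfl⟩ : ∃ y, act g y = x := ⟨act g⁻¹ x, act_act_inv g x⟩
  rw [act_mul, act_inv_act, hgx', hgx, dotProduct_add, dotProduct_smul, hd]
  simp; abel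

theorem tvIn_diff_axis {φ ψ v : ι → F} (h : TvIn M φ v) (h' : TvIn M (φ + ψ) v) : TvIn M ψ v := by
  obtain ⟨hd, g, hg, hgx⟩ := h
  obtain ⟨hd', g', hg', hgx'⟩ := h'
  have hdw : ψ ⬝ᵥ v = 0 := by rwa [add_dotProduct, hd, zero_add] at hd'
  refine ⟨hdw, g' * g⁻¹, M.mul_mem hg' (M.inv_mem hg), fun x => ?_⟩
  obtain ⟨y, rfl⟩ : ∃ y, act g y = x := ⟨act g⁻¹ x, act_act_inv g x⟩
  rw [act_mul, act_inv_act, hgx', hgx, dotProduct_add, dotProduct_smul, hdw, add_dotProduct, add_smul]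
  simp; abel

/-- an elementary transvection between two blocks -/
def HasCross (blk : ι → Fin t) (M : Subgroup (GL ι F)) : Prop :=
  ∃ a b c, blk a ≠ blk b ∧ c ≠ 0 ∧ TvIn M (Pi.single b c) (Pi.single a 1)

theorem exists_mate (h2 : ∀ i, 2 ≤ (Finset.univ.filter fun k => blk k = i).card) (k : ι) :
    ∃ k', k' ≠ k ∧ blk k' = blk k := by
  obtain ⟨a, ha, b, hb, hab⟩ := Finset.one_lt_card.1 (h2 (blk k))
  rw [Finset.mem_filter] at ha hb
  rcases eq_or_ne a k with rfl | h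
  · exact ⟨b, hab.symm, hb.2⟩
  · exact ⟨a, h, ha.2⟩

/-- centre in a block, axis not in that block -/
theorem cross_of_centre (hM : OverB blk M) (h2 : ∀ i, 2 ≤ (Finset.univ.filter fun k => blk k = i).card)
    {i : Fin t} {φ v : ι → F} (h : TvIn M φ v) (hv : ∀ k, blk k ≠ i → v k = 0) (hv0 : v ≠ 0) {l : ι}
    (hl : blk l ≠ i) (hφl : φ l ≠ 0) : HasCross blk M := by
  obtain ⟨p, hpl, hbp⟩ := exists_mate h2 l
  have h1 := tvIn_elem_conj hM h hpl.symm hbp.symm 1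
  rw [hv p (hbp ▸ hl), mul_zero, zero_smul, add_zero, sub_eq_add_neg] at h1
  have hax := tvIn_diff_axis h h1
  obtain ⟨k, hk⟩ : ∃ k, v k ≠ 0 := Function.ne_iff.1 hv0
  have hki : blk k = i := by by_contra e; exact hk (hv k e)
  obtain ⟨k', hk'k, hbk'⟩ := exists_mate h2 k
  have hpk' : p ≠ k' := fun e => hl (by rw [← hbp, e, hbk', hki])
  have h2' := tvIn_elem_conj hM hax hk'k hbk' (v k)⁻¹
  rw [inv_mul_cancel₀ hk, one_smul] at h2'
  simp only [Pi.neg_apply, Pi.smul_apply, Pi.single_eq_of_ne hpk'.symm, smul_zero, neg_zero, mul_zero, zero_smul,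
    sub_zero] at h2'
  have h3 := tvIn_diff_centre hax h2'
  refine ⟨k', p, -(1 * φ l), by rw [hbp, hbk', hki]; exact hl.symm, neg_ne_zero.2 (by simpa using hφl), ?_⟩
  rwa [show (Pi.single p (-(1 * φ l)) : ι → F) = -((1 * φ l) • Pi.single p 1) from ?_]
  funext q; by_cases e : q = p <;> simp [e]

/-- axis in a block, centre not in that block -/
theorem cross_of_axis (hM : OverB blk M) (h2 : ∀ i, 2 ≤ (Finset.univ.filter fun k => blk k = i).card)
    {j : Fin t} {φ v : ι → F} (h : TvIn M φ v) (hφ : ∀ l, blk l ≠ j → φ l = 0) (hφ0 : φ ≠ 0) {k : ι}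
    (hk : blk k ≠ j) (hvk : v k ≠ 0) : HasCross blk M := by
  obtain ⟨k', hk'k, hbk'⟩ := exists_mate h2 k
  have h1 := tvIn_elem_conj hM h hk'k hbk' (v k)⁻¹
  rw [inv_mul_cancel₀ hvk, one_smul, hφ k' (hbk' ▸ hk), mul_zero, zero_smul, sub_zero] at h1
  have h3 := tvIn_diff_centre h h1
  obtain ⟨l, hl⟩ : ∃ l, φ l ≠ 0 := Function.ne_iff.1 hφ0
  have hlj : blk l = j := by by_contra e; exact hl (hφ l e)
  refine cross_of_centre hM h2 h3 (i := blk k) (fun q hq => ?_) (fun e => by simpa using congrFun e k')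
    (l := l) (by rw [hlj]; exact hk.symm) hl
  rw [Pi.single_eq_of_ne]
  rintro rfl
  exact hq hbk'

/-- the support of the axis in another block -/
theorem cross_of_target (hM : OverB blk M) (h2 : ∀ i, 2 ≤ (Finset.univ.filter fun k => blk k = i).card)
    {φ v : ι → F} (h : TvIn M φ v) {k l : ι} (hb : blk k = blk l) (hφk : φ k = 0) (hvl : v l ≠ 0) (hkl : k ≠ l)
    (hout : ∃ q, blk q ≠ blk k ∧ φ q ≠ 0) : HasCross blk M := by
  have h1 := tvIn_elem_conj hM h hkl hb (v l)⁻¹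
  rw [inv_mul_cancel₀ hvl, one_smul, hφk, mul_zero, zero_smul, sub_zero] at h1
  obtain ⟨q, hq, hφq⟩ := hout
  refine cross_of_centre hM h2 (tvIn_diff_centre h h1) (i := blk k) (fun p hp => ?_) (fun e => by simpa using congrFun e k)
    (l := q) hq hφq
  rw [Pi.single_eq_of_ne]
  rintro rfl
  exact hp rfl

theorem cross_of_source (hM : OverB blk M) (h2 : ∀ i, 2 ≤ (Finset.univ.filter fun k => blk k = i).card)
    {φ v : ι → F} (h : TvIn M φ v) {k l : ι} (hb : blk k = blk l) (hvl : v l = 0) (hφk : φ k ≠ 0) (hkl : k ≠ l)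
    (hout : ∃ q, blk q ≠ blk k ∧ v q ≠ 0) : HasCross blk M := by
  have h1 := tvIn_elem_conj hM h hkl hb (φ k)⁻¹
  rw [inv_mul_cancel₀ hφk, one_smul, hvl, mul_zero, zero_smul, add_zero, sub_eq_add_neg] at h1
  obtain ⟨q, hq, hvq⟩ := hout
  refine cross_of_axis hM h2 (tvIn_diff_axis h h1) (j := blk k) (fun p hp => ?_)
    (fun e => by simpa using congrFun e l) (k := q) hq hvq
  rw [Pi.neg_apply, Pi.single_eq_of_ne, neg_zero]
  rintro rfl
  exact hp hb.symm

/-- the normal form of a pair in a block -/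
theorem normalise (hM : OverB blk M) (h2 : ∀ i, 2 ≤ (Finset.univ.filter fun k => blk k = i).card)
    {φ v : ι → F} (h : TvIn M φ v) {k₀ : ι} (hk₀ : v k₀ ≠ 0)
    (hv : ∀ i, ∃ q, blk q ≠ i ∧ v q ≠ 0) (hφ : ∀ i, ∃ q, blk q ≠ i ∧ φ q ≠ 0) :
    HasCross blk M ∨ ∃ (φ' v' : ι → F) (k l : ι), TvIn M φ' v' ∧ blk k = blk k₀ ∧ blk l = blk k₀ ∧ k ≠ l ∧
      v' k = 0 ∧ v' l ≠ 0 ∧ φ' l = 0 ∧ φ' k ≠ 0 ∧ (∀ q, blk q = blk k₀ → q = k ∨ q = l) ∧
      (∀ q, blk q ≠ blk k₀ → φ' q = φ q ∧ v' q = v q) := by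
  obtain ⟨k, hkk, hbk⟩ := exists_mate h2 k₀
  obtain ⟨c, hc⟩ : ∃ c, c = -(v k / v k₀) := ⟨_, rfl⟩
  have h1 := tvIn_elem_conj hM h hkk hbk c
  obtain ⟨φ', hφ'⟩ : ∃ a, a = φ - (c * φ k) • Pi.single k₀ 1 := ⟨_, rfl⟩
  obtain ⟨v', hv'⟩ : ∃ a, a = v + (c * v k₀) • Pi.single k 1 := ⟨_, rfl⟩
  rw [← hφ', ← hv'] at h1
  have hv'k : v' k = 0 := by
    rw [hv', hc]; simp only [Pi.add_apply, Pi.smul_apply, Pi.single_eq_same, smul_eq_mul]
    field_simp; ring
  have hv'0 : v' k₀ = v k₀ := by simp [hv', hkk.symm]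
  have hout : ∀ q, blk q ≠ blk k₀ → φ' q = φ q ∧ v' q = v q := by
    intro q hq
    have h1 : q ≠ k := fun e => hq (e ▸ hbk)
    have h2 : q ≠ k₀ := fun e => hq (e ▸ rfl)
    simp [hφ', hv', h1, h2]
  obtain ⟨qv, hqv, hqv0⟩ := hv (blk k₀)
  obtain ⟨qφ, hqφ, hqφ0⟩ := hφ (blk k₀)
  have outv : ∀ p, blk p = blk k₀ → ∃ q, blk q ≠ blk p ∧ v' q ≠ 0 := fun p hp =>
    ⟨qv, hp ▸ hqv, by rw [(hout qv hqv).2]; exact hqv0⟩
  have outφ : ∀ p, blk p = blk k₀ → ∃ q, blk q ≠ blk p ∧ φ' q ≠ 0 := fun p hp =>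
    ⟨qφ, hp ▸ hqφ, by rw [(hout qφ hqφ).1]; exact hqφ0⟩
  by_cases hsrc : ∃ p, blk p = blk k₀ ∧ p ≠ k ∧ φ' p ≠ 0
  · obtain ⟨p, hbp, hpk, hp⟩ := hsrc
    exact Or.inl (cross_of_source hM h2 h1 (hbp.trans hbk.symm) hv'k hp hpk (outv p hbp))
  push Not at hsrc
  by_cases hthird : ∃ p, blk p = blk k₀ ∧ p ≠ k ∧ p ≠ k₀
  · obtain ⟨p, hbp, hpk, hpk₀⟩ := hthird
    exact Or.inl (cross_of_target hM h2 h1 hbp (hsrc p hbp hpk) (by rw [hv'0]; exact hk₀) hpk₀ (outφ p hbp))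
  push Not at hthird
  by_cases hk' : φ' k = 0
  · exact Or.inl (cross_of_target hM h2 h1 hbk hk' (by rw [hv'0]; exact hk₀) hkk (outφ k hbk))
  refine Or.inr ⟨φ', v', k, k₀, h1, hbk, rfl, hkk, hv'k, by rw [hv'0]; exact hk₀, hsrc k₀ rfl hkk.symm, hk', ?_, hout⟩
  intro q hq
  by_cases hqk : q = k
  · exact Or.inl hqk
  · exact Or.inr (hthird q hq hqk)

theorem exists_block_diag (hM : OverB blk M) (d : ι → F) (h : ∏ j, d j = 1) :
    ∃ g ∈ M, (∀ x k, act g x k = d k * x k) ∧ ∀ x k, act g⁻¹ x k = (d k)⁻¹ * x k := by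
  have hd : ∀ j, d j ≠ 0 := fun j e => zero_ne_one (α := F) (by
    rw [← h, Finset.prod_eq_zero (Finset.mem_univ j) e])
  obtain ⟨g, hcol, -, hdet⟩ := exists_pm (F := F) 1 d hd
  have hx : ∀ x k, act g x k = d k * x k := fun x k => act_mono_coord (π := 1) hcol x k
  refine ⟨g, hM.2 g ⟨1, fun p k hk => ?_⟩ (mem_specialLinear_iff.2 (by rw [hdet, h]; simp)), hx, fun x k => ?_⟩
  · rw [hx, Pi.single_eq_of_ne, mul_zero]
    rintro rfl; simp at hk
  · have := hx (act g⁻¹ x) k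
    rw [act_act_inv] at this
    rw [this, inv_mul_cancel_left₀ (hd k)]

theorem tvIn_scale (hM : OverB blk M) {φ v : ι → F} (h : TvIn M φ v) (d : ι → F) (hd : ∏ j, d j = 1) :
    TvIn M (fun k => φ k * (d k)⁻¹) (fun k => d k * v k) := by
  obtain ⟨hdot, g, hg, hgx⟩ := h
  obtain ⟨e, he, hex, heix⟩ := exists_block_diag hM d hd
  have hd0 : ∀ j, d j ≠ 0 := fun j z => zero_ne_one (α := F) (by
    rw [← hd, Finset.prod_eq_zero (Finset.mem_univ j) z])
  refine ⟨?_, e * g * e⁻¹, M.mul_mem (M.mul_mem he hg) (M.inv_mem he), fun x => ?_⟩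
  · rw [← hdot, dotProduct, dotProduct]
    refine Finset.sum_congr rfl fun k _ => ?_
    have := hd0 k
    field_simp
  rw [act_mul, act_mul, hgx, map_add, map_smul, act_act_inv]
  have e1 : φ ⬝ᵥ act e⁻¹ x = (fun k => φ k * (d k)⁻¹) ⬝ᵥ x := by
    rw [dotProduct, dotProduct]
    refine Finset.sum_congr rfl fun k _ => ?_
    rw [heix]; ring
  rw [e1]
  congr 2
  funext k; rw [hex]

variable [Fintype F]

theorem cross_of_pair (hM : OverB blk M) (h2 : ∀ i, 2 ≤ (Finset.univ.filter fun k => blk k = i).card)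
    (hn : 5 ≤ Fintype.card ι ∨ (4 ≤ Fintype.card ι ∧ ∃ μ : F, μ ≠ 0 ∧ μ * μ ≠ 1))
    (hμ : (∃ μ : F, μ ≠ 0 ∧ μ ≠ 1) ∨ ∀ i, 3 ≤ (Finset.univ.filter fun k => blk k = i).card)
    {φ v : ι → F} (h : TvIn M φ v) (hv : ∀ i, ∃ q, blk q ≠ i ∧ v q ≠ 0) (hφ : ∀ i, ∃ q, blk q ≠ i ∧ φ q ≠ 0) :
    HasCross blk M := by
  classical
  obtain ⟨a, -⟩ : ∃ a : ι, True := by
    obtain ⟨a⟩ : Nonempty ι := Fintype.card_pos_iff.1 (by omega)
    exact ⟨a, trivial⟩
  obtain ⟨q₁, -, hq₁⟩ := hv (blk a)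
  rcases normalise hM h2 h hq₁ hv hφ with hc | ⟨φ₁, v₁, k₁, l₁, h1, hbk₁, hbl₁, hkl₁, hvk₁, hvl₁, hφl₁, hφk₁, hblock₁, hout₁⟩
  · exact hc
  obtain ⟨q₂, hq₂, hvq₂⟩ := hv (blk q₁)
  have hv' : ∀ i, ∃ q, blk q ≠ i ∧ v₁ q ≠ 0 := by
    intro i
    by_cases hi : blk q₁ = i
    · exact ⟨q₂, hi ▸ hq₂, by rw [(hout₁ q₂ hq₂).2]; exact hvq₂⟩
    · exact ⟨l₁, hbl₁ ▸ hi, hvl₁⟩
  have hφ' : ∀ i, ∃ q, blk q ≠ i ∧ φ₁ q ≠ 0 := by
    intro i
    by_cases hi : blk q₁ = i
    · obtain ⟨q, hq, hq0⟩ := hφ i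
      exact ⟨q, hq, by rw [(hout₁ q (hi ▸ hq)).1]; exact hq0⟩
    · exact ⟨k₁, hbk₁ ▸ hi, hφk₁⟩
  have hvq₂' : v₁ q₂ ≠ 0 := by rw [(hout₁ q₂ hq₂).2]; exact hvq₂
  rcases normalise hM h2 h1 hvq₂' hv' hφ' with hc | ⟨φ₂, v₂, k₂, l₂, h', hbk₂, hbl₂, hkl₂, hvk₂, hvl₂, hφl₂, hφk₂, hblock₂, hout₂⟩
  · exact hc
  have hb12 : ∀ q, blk q = blk q₁ → φ₂ q = φ₁ q ∧ v₂ q = v₁ q := fun q hq => hout₂ q (hq ▸ hq₂.symm)
  have e1 := hb12 k₁ hbk₁
  have e2 := hb12 l₁ hbl₁
  have hμ' : (∃ μ : F, μ ≠ 0 ∧ μ ≠ 1 ∧ (5 ≤ Fintype.card ι ∨ μ * μ ≠ 1)) ∨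
      ∀ i, 3 ≤ (Finset.univ.filter fun k => blk k = i).card := by
    rcases hn with h5 | ⟨-, μ, h0, h1⟩
    · exact hμ.imp (fun ⟨μ, h0, h1⟩ => ⟨μ, h0, h1, Or.inl h5⟩) id
    · exact Or.inl ⟨μ, h0, fun z => h1 (by rw [z, mul_one]), Or.inr h1⟩
  rcases hμ' with ⟨μ, hμ0, hμ1, hbig⟩ | h3
  swap
  · obtain ⟨x, hx, hxk, hxl⟩ : ∃ x, blk x = blk q₂ ∧ x ≠ k₂ ∧ x ≠ l₂ := by
      by_contra hno; push Not at hno
      have := Finset.card_le_card (show (Finset.univ.filter fun k => blk k = blk q₂) ⊆ {k₂, l₂} from fun x hx => by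
        rw [Finset.mem_filter] at hx
        rw [Finset.mem_insert, Finset.mem_singleton]
        by_cases hxk : x = k₂
        · exact Or.inl hxk
        · exact Or.inr (hno x hx.2 hxk))
      have := h3 (blk q₂)
      have h' : ({k₂, l₂} : Finset ι).card ≤ 2 := Finset.card_le_two
      omega
    exact absurd (hblock₂ x hx) (by simp [hxk, hxl])
  -- scale the two normalised blocks
  have ne1 : l₁ ≠ l₂ := fun e => hq₂ (by rw [← hbl₂, ← e, hbl₁])
  have ne2 : k₁ ≠ k₂ := fun e => hq₂ (by rw [← hbk₂, ← e, hbk₁])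
  have ne3 : l₁ ≠ k₂ := fun e => hq₂ (by rw [← hbk₂, ← e, hbl₁])
  have ne4 : k₁ ≠ l₂ := fun e => hq₂ (by rw [← hbl₂, ← e, hbk₁])
  obtain ⟨A, hA⟩ : ∃ A : ι → F, A = (v₂ l₁) • Pi.single l₁ 1 := ⟨_, rfl⟩
  obtain ⟨B, hB⟩ : ∃ B : ι → F, B = (v₂ l₂) • Pi.single l₂ 1 := ⟨_, rfl⟩
  obtain ⟨P, hP⟩ : ∃ P : ι → F, P = (φ₂ k₁) • Pi.single k₁ 1 := ⟨_, rfl⟩
  obtain ⟨Q, hQ⟩ : ∃ Q : ι → F, Q = (φ₂ k₂) • Pi.single k₂ 1 := ⟨_, rfl⟩
  have hT : ∀ α β : F, (α = 0 ∨ α = μ - 1) → (β = 0 ∨ β = μ - 1) →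
      TvIn M (φ₂ + α • P + β • Q) (v₂ + α • A + β • B) := by
    intro α β hα hβ
    have hα1 : 1 + α ≠ 0 := by rcases hα with rfl | rfl <;> simp [hμ0]
    have hβ1 : 1 + β ≠ 0 := by rcases hβ with rfl | rfl <;> simp [hμ0]
    obtain ⟨d, hd⟩ : ∃ d : ι → F, d = fun q => if q = l₁ then 1 + α else if q = k₁ then (1 + α)⁻¹
        else if q = l₂ then 1 + β else if q = k₂ then (1 + β)⁻¹ else 1 := ⟨_, rfl⟩
    have hprod : ∏ q, d q = 1 := by
      rw [← Finset.prod_subset (Finset.subset_univ {l₁, k₁, l₂, k₂}), Finset.prod_insert (by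
          simp [hkl₁.symm, ne1, ne3]), Finset.prod_insert (by simp [ne4, ne2]), Finset.prod_pair hkl₂.symm]
      · simp [hd, hkl₁, hkl₂, ne1.symm, ne2.symm, ne3.symm, ne4.symm]
        field_simp
      · intro q _ hq
        simp only [Finset.mem_insert, Finset.mem_singleton, not_or] at hq
        simp [hd, hq.1, hq.2.1, hq.2.2.1, hq.2.2.2]
    convert tvIn_scale hM h' d hprod using 1
    · funext q
      simp only [hP, hQ, hd, Pi.add_apply, Pi.smul_apply, smul_eq_mul]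
      by_cases c1 : q = l₁
      · subst c1; simp [hkl₁.symm, ne3, e2.1, hφl₁]
      by_cases c2 : q = k₁
      · subst c2; simp [c1, ne2]; ring
      by_cases c3 : q = l₂
      · subst c3; simp [c1, c2, hkl₂.symm, hφl₂]
      by_cases c4 : q = k₂
      · subst c4; simp [c1, c2, c3]; ring
      · simp [c1, c2, c3, c4]
    · funext q
      simp only [hA, hB, hd, Pi.add_apply, Pi.smul_apply, smul_eq_mul]
      by_cases c1 : q = l₁
      · subst c1; simp [ne1]; ring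
      by_cases c2 : q = k₁
      · subst c2; simp [c1, ne4, e1.2, hvk₁]
      by_cases c3 : q = l₂
      · subst c3; simp [c1, c2]; ring
      by_cases c4 : q = k₂
      · subst c4; simp [c1, c2, c3, hvk₂]
      · simp [c1, c2, c3, c4]
  obtain ⟨s, hs⟩ : ∃ s, s = μ - 1 := ⟨_, rfl⟩
  have hs0 : s ≠ 0 := hs ▸ sub_ne_zero.2 hμ1
  obtain ⟨hd00, g00, hg00, hgx00⟩ := hT 0 0 (Or.inl rfl) (Or.inl rfl)
  obtain ⟨hd10, g10, hg10, hgx10⟩ := hT s 0 (Or.inr hs) (Or.inl rfl)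
  obtain ⟨hd01, g01, hg01, hgx01⟩ := hT 0 s (Or.inl rfl) (Or.inr hs)
  obtain ⟨hd11, g11, hg11, hgx11⟩ := hT s s (Or.inr hs) (Or.inr hs)
  simp only [zero_smul, add_zero] at hd00 hgx00 hd10 hgx10 hd01 hgx01
  have p1 : φ₂ ⬝ᵥ A = 0 := by simp [hA, e2.1, hφl₁]
  have p2 : φ₂ ⬝ᵥ B = 0 := by simp [hB, hφl₂]
  have p3 : P ⬝ᵥ v₂ = 0 := by simp [hP, e1.2, hvk₁]
  have p4 : Q ⬝ᵥ v₂ = 0 := by simp [hQ, hvk₂]
  have p5 : P ⬝ᵥ A = 0 := by simp [hP, hA, hkl₁]
  have p6 : P ⬝ᵥ B = 0 := by simp [hP, hB, ne4]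
  have p7 : Q ⬝ᵥ A = 0 := by simp [hQ, hA, ne3.symm]
  have p8 : Q ⬝ᵥ B = 0 := by simp [hQ, hB, hkl₂]
  obtain ⟨X, hX⟩ : ∃ X, X = g11 * g10⁻¹ * g01⁻¹ * g00 := ⟨_, rfl⟩
  have hXM : X ∈ M := hX ▸ M.mul_mem (M.mul_mem (M.mul_mem hg11 (M.inv_mem hg10)) (M.inv_mem hg01)) hg00
  have inv : ∀ {g : GL ι F} {ψ w : ι → F}, ψ ⬝ᵥ w = 0 → (∀ x, act g x = x + (ψ ⬝ᵥ x) • w) →
      ∀ x, act g⁻¹ x = x - (ψ ⬝ᵥ x) • w := by
    intro g ψ w hψ hg x
    apply act_injective g
    rw [act_act_inv, hg, dotProduct_sub, dotProduct_smul, hψ]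
    simp
  have hXx : ∀ x, act X x = x + (s * s * (Q ⬝ᵥ x)) • A + (s * s * (P ⬝ᵥ x)) • B := by
    intro x
    rw [hX, act_mul, act_mul, act_mul, hgx00, inv hd01 hgx01, inv hd10 hgx10, hgx11]
    simp only [dotProduct_add, dotProduct_sub, add_dotProduct, dotProduct_smul, smul_dotProduct, smul_eq_mul,
      hd00, p1, p2, p3, p4, p5, p6, p7, p8]
    match_scalars <;> ring
  -- a diagonal element scaling the first term
  obtain ⟨e, he, ρ, hρ, heA, heB, hQe, hPe⟩ : ∃ e ∈ M, ∃ ρ : F, μ * ρ ≠ 1 ∧ act e A = μ • A ∧ act e B = B ∧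
      (∀ y, Q ⬝ᵥ act e⁻¹ y = ρ * (Q ⬝ᵥ y)) ∧ ∀ y, P ⬝ᵥ act e⁻¹ y = P ⬝ᵥ y := by
    have key : ∀ r, r ≠ l₁ → r ≠ k₁ → r ≠ l₂ → μ * (if r = k₂ then μ else 1) ≠ 1 → ∃ e ∈ M, ∃ ρ : F, μ * ρ ≠ 1 ∧
        act e A = μ • A ∧ act e B = B ∧
        (∀ y, Q ⬝ᵥ act e⁻¹ y = ρ * (Q ⬝ᵥ y)) ∧ ∀ y, P ⬝ᵥ act e⁻¹ y = P ⬝ᵥ y := by
      intro r hr₁ hr₂ hr₃ hρ
      obtain ⟨e, he, hex, heix⟩ := exists_block_diag hM (Function.update (Function.update 1 l₁ μ) r μ⁻¹)
        (by rw [prod_update_pair hr₁.symm, mul_inv_cancel₀ hμ0])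
      refine ⟨e, he, _, hρ, ?_, ?_, fun y => ?_, fun y => ?_⟩
      · funext q
        rw [hex, hA]
        by_cases c : q = l₁
        · subst c; simp [hr₁.symm]
        · simp [c]
      · funext q
        rw [hex, hB]
        by_cases c : q = l₂
        · subst c; simp [hr₃.symm, ne1.symm]
        · simp [c]
      · rw [hQ, smul_dotProduct, smul_dotProduct, single_one_dotProduct, single_one_dotProduct, heix]
        by_cases c : r = k₂
        · subst c; simp; ring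
        · simp [ne3.symm, c, Ne.symm c]
      · rw [hP, smul_dotProduct, smul_dotProduct, single_one_dotProduct, single_one_dotProduct, heix]
        simp [hkl₁, hr₂.symm]
    rcases hbig with h5 | hμ2
    · obtain ⟨r, hr₁, hr₂, hr₃, hr₄⟩ : ∃ r, r ≠ l₁ ∧ r ≠ k₁ ∧ r ≠ l₂ ∧ r ≠ k₂ := by
        by_contra hno; push Not at hno
        have := Finset.card_le_card (show (Finset.univ : Finset ι) ⊆ {l₁, k₁, l₂, k₂} from fun x _ => by
          simp only [Finset.mem_insert, Finset.mem_singleton]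
          by_cases x1 : x = l₁
          · exact Or.inl x1
          by_cases x2 : x = k₁
          · exact Or.inr (Or.inl x2)
          by_cases x3 : x = l₂
          · exact Or.inr (Or.inr (Or.inl x3))
          · exact Or.inr (Or.inr (Or.inr (hno x x1 x2 x3))))
        have h' : ({l₁, k₁, l₂, k₂} : Finset ι).card ≤ 4 := Finset.card_le_four
        rw [Finset.card_univ] at this
        omega
      exact key r hr₁ hr₂ hr₃ (by rwa [if_neg hr₄, mul_one])
    · exact key k₂ ne3.symm ne2.symm hkl₂ (by rwa [if_pos rfl])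
  refine ⟨l₁, k₂, (μ * ρ - 1) * (s * s * φ₂ k₂ * v₂ l₁), by rw [hbl₁, hbk₂]; exact hq₂.symm, ?_, ?_, e * X * e⁻¹ * X⁻¹,
    M.mul_mem (M.mul_mem (M.mul_mem he hXM) (M.inv_mem he)) (M.inv_mem hXM), fun x => ?_⟩
  · exact mul_ne_zero (sub_ne_zero.2 hρ) (mul_ne_zero (mul_ne_zero (mul_ne_zero hs0 hs0) hφk₂)
      (by rw [e2.2]; exact hvl₁))
  · simp [ne3.symm]
  obtain ⟨y, rfl⟩ : ∃ y, act X y = x := ⟨act X⁻¹ x, act_act_inv X x⟩
  rw [act_mul, act_mul, act_mul, act_inv_act, hXx (act e⁻¹ y)]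
  simp only [map_add, map_smul, act_act_inv]
  rw [hQe, hPe, heA, heB, hXx y]
  simp only [single_dotProduct, Pi.add_apply, Pi.smul_apply, hA, hB, hQ, hP, smul_dotProduct, single_one_dotProduct,
    smul_eq_mul, Pi.single_eq_of_ne ne3.symm, Pi.single_eq_of_ne hkl₂, mul_zero, add_zero, mul_one]
  match_scalars <;> ring

/-- the block stabiliser is maximal -/
theorem specialLinear_le_blocks (hM : OverB blk M) (h2 : ∀ i, 2 ≤ (Finset.univ.filter fun k => blk k = i).card)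
    (heq : ∀ i j, (Finset.univ.filter fun k => blk k = i).card = (Finset.univ.filter fun k => blk k = j).card)
    (hn : 5 ≤ Fintype.card ι ∨ (4 ≤ Fintype.card ι ∧ ∃ μ : F, μ ≠ 0 ∧ μ * μ ≠ 1))
    (hμ : (∃ μ : F, μ ≠ 0 ∧ μ ≠ 1) ∨ ∀ i, 3 ≤ (Finset.univ.filter fun k => blk k = i).card)
    {g : GL ι F} (hg : g ∈ M) (hgb : ¬ BlockPerm blk g) : Cfsg.Geo.specialLinear ι F ≤ M := by
  classical
  have hcross : HasCross blk M := by
    by_contra hno
    apply hgb
    have hrowcol : ∀ p p', p ≠ p' → blk p = blk p' →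
        ∃ i, (∀ k, blk k ≠ i → act g (Pi.single p 1) k = 0) ∧ ∀ k, blk k ≠ i → act g⁻¹ (Pi.single k 1) p' = 0 := by
      intro p p' hpp hb
      obtain ⟨φ, hφ⟩ : ∃ φ : ι → F, φ = fun k => act g⁻¹ (Pi.single k 1) p' := ⟨_, rfl⟩
      have hdot : ∀ y, φ ⬝ᵥ y = act g⁻¹ y p' := by
        intro y
        conv_rhs => rw [eq_sum_single y]
        rw [map_sum, Finset.sum_apply, dotProduct]
        refine Finset.sum_congr rfl fun k _ => ?_
        rw [map_smul, hφ]; simp [mul_comm]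
      have hT : TvIn M φ (act g (Pi.single p 1)) := by
        obtain ⟨e, he, hex, -⟩ := exists_block_elem hM hpp hb (1 : F)
        refine ⟨by rw [hdot, act_inv_act, Pi.single_eq_of_ne hpp.symm], g * e * g⁻¹,
          M.mul_mem (M.mul_mem hg he) (M.inv_mem hg), fun x => ?_⟩
        rw [act_mul, act_mul, hex, map_add, map_smul, act_act_inv, hdot, one_mul]
      obtain ⟨kc, hkc⟩ : ∃ k, act g (Pi.single p 1) k ≠ 0 := by
        refine Function.ne_iff.1 fun e => ?_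
        have := act_injective g (e.trans (map_zero _).symm)
        simpa using congrFun this p
      have hφ0 : φ ≠ 0 := fun e => by
        have := hdot (act g (Pi.single p' 1))
        rw [e, zero_dotProduct, act_inv_act, Pi.single_eq_same] at this
        exact zero_ne_one this
      by_cases hv : ∀ k, blk k ≠ blk kc → act g (Pi.single p 1) k = 0
      · refine ⟨blk kc, hv, fun k hk => ?_⟩
        by_contra hk0
        exact hno (cross_of_centre hM h2 hT hv (fun e => hkc (by rw [e]; rfl)) hk (by rw [hφ]; exact hk0))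
      exfalso
      push Not at hv
      obtain ⟨kc', hkc', hkc'0⟩ := hv
      have hv' : ∀ i, ∃ q, blk q ≠ i ∧ act g (Pi.single p 1) q ≠ 0 := by
        intro i
        by_cases hi : blk kc = i
        · exact ⟨kc', hi ▸ hkc', hkc'0⟩
        · exact ⟨kc, hi, hkc⟩
      by_cases hφ1 : ∀ i, ∃ q, blk q ≠ i ∧ φ q ≠ 0
      · exact hno (cross_of_pair hM h2 hn hμ hT hv' hφ1)
      push Not at hφ1
      obtain ⟨j, hj⟩ := hφ1
      obtain ⟨q, hq, hq0⟩ := hv' j
      exact hno (cross_of_axis hM h2 hT hj hφ0 hq hq0)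
    haveI : Nonempty (Fin t) := (Fintype.card_pos_iff.1 (by omega : 0 < Fintype.card ι)).map blk
    choose! β hβ1 hβ2 using hrowcol
    have huniq : ∀ p i j, (∀ k, blk k ≠ i → act g (Pi.single p 1) k = 0) →
        (∀ k, blk k ≠ j → act g⁻¹ (Pi.single k 1) p = 0) → i = j := by
      intro p i j hi hj
      by_contra hne
      have h := congrFun (act_inv_act g (Pi.single p 1)) p
      conv_lhs at h => rw [eq_sum_single (act g (Pi.single p 1))]
      rw [map_sum, Finset.sum_apply, Finset.sum_eq_zero] at h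
      · simp at h
      intro k _
      rw [map_smul, Pi.smul_apply]
      by_cases hk : blk k = i
      · rw [hj k (hk ▸ hne), smul_zero]
      · rw [hi k hk, zero_smul]
    have hsame : ∀ p p', blk p = blk p' → ∃ i, (∀ k, blk k ≠ i → act g (Pi.single p 1) k = 0) ∧
        ∀ k, blk k ≠ i → act g (Pi.single p' 1) k = 0 := by
      intro p p' hb
      rcases eq_or_ne p p' with rfl | hne
      · obtain ⟨p', hp', hb'⟩ := exists_mate h2 p
        exact ⟨β p p', hβ1 p p' hp'.symm hb'.symm, hβ1 p p' hp'.symm hb'.symm⟩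
      · have e := huniq p' (β p' p) (β p p') (hβ1 p' p hne.symm hb.symm) (hβ2 p p' hne hb)
        exact ⟨β p p', hβ1 p p' hne hb, e ▸ hβ1 p' p hne.symm hb.symm⟩
    have hex : ∀ i, ∃ p, blk p = i := fun i => by
      obtain ⟨p, hp⟩ := Finset.card_pos.1 (lt_of_lt_of_le (by norm_num) (h2 i))
      exact ⟨p, (Finset.mem_filter.1 hp).2⟩
    choose p₀ hp₀ using hex
    have hblock : ∀ i, ∃ j, ∀ p, blk p = i → ∀ k, blk k ≠ j → act g (Pi.single p 1) k = 0 := by
      intro i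
      obtain ⟨j, hj, -⟩ := hsame (p₀ i) (p₀ i) rfl
      refine ⟨j, fun p hp => ?_⟩
      obtain ⟨j', hj', hjp⟩ := hsame (p₀ i) p (by rw [hp₀, hp])
      obtain ⟨q, hq⟩ : ∃ q, act g (Pi.single (p₀ i) 1) q ≠ 0 := by
        refine Function.ne_iff.1 fun e => ?_
        have := act_injective g (e.trans (map_zero _).symm)
        simpa using congrFun this (p₀ i)
      have : j = j' := by
        have h1 : blk q = j := by by_contra e; exact hq (hj q e)
        have h2 : blk q = j' := by by_contra e; exact hq (hj' q e)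
        rw [← h1, h2]
      exact this ▸ hjp
    choose σ hσ using hblock
    have hinj : Function.Injective σ := by
      intro i j hij
      by_contra hne
      obtain ⟨s, hs⟩ : ∃ s, s = (Finset.univ.filter fun p => blk p = i) ∪ (Finset.univ.filter fun p => blk p = j) := ⟨_, rfl⟩
      have hli : LinearIndependent F fun a : s => act g (Pi.single (a : ι) 1) := by
        rw [Fintype.linearIndependent_iff]
        intro c hc a
        have h := congrFun (congrArg (act g⁻¹) hc) a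
        rw [map_sum, map_zero, Finset.sum_apply, Finset.sum_eq_single a] at h
        · simpa [act_inv_act] using h
        · intro b _ hb
          have : (a : ι) ≠ b := fun e => hb (Subtype.ext e.symm)
          simp [act_inv_act, this]
        · simp
      have h := card_le_of_supp _ hli (Finset.univ.filter fun k => blk k = σ i) (fun a k hk => by
        simp only [Finset.mem_filter, Finset.mem_univ, true_and] at hk
        have ha := a.2
        simp only [hs, Finset.mem_union, Finset.mem_filter, Finset.mem_univ, true_and] at ha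
        rcases ha with h | h
        · exact hσ i a h k hk
        · exact hσ j a h k (hij ▸ hk))
      rw [Fintype.card_coe, hs, Finset.card_union_of_disjoint] at h
      · have := h2 j; have := heq i (σ i); omega
      · rw [Finset.disjoint_filter]; intro x _ h1 h2; exact hne (h1.symm.trans h2)
    exact ⟨Equiv.ofBijective σ (Finite.injective_iff_bijective.1 hinj), fun p k hk => hσ (blk p) p rfl k hk⟩
  obtain ⟨a, b, c, hab, hc, hT⟩ := hcross
  -- all scalars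
  have hab' : a ≠ b := fun e => hab (congrArg blk e)
  have hel : ∀ e : F, ∃ h ∈ M, ∀ x, act h x = x + (e * x b) • Pi.single a 1 := by
    intro e
    rcases eq_or_ne e 0 with rfl | he
    · exact ⟨1, M.one_mem, fun x => by simp [act_one]⟩
    obtain ⟨r, hra, hrb, -⟩ := exists_third (ι := ι) (by omega) a b a
    obtain ⟨-, h, hh, hhx⟩ := tvIn_scale hM hT (Function.update (Function.update 1 a (e / c)) r (e / c)⁻¹)
      (by rw [prod_update_pair hra.symm, mul_inv_cancel₀ (div_ne_zero he hc)])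
    refine ⟨h, hh, fun x => ?_⟩
    rw [hhx, dotProduct, Finset.sum_eq_single b]
    · funext q
      by_cases hq : q = a
      · subst hq; simp [hrb.symm, hab'.symm, hra.symm]; field_simp
      · simp [hq]
    · intro q _ hq; simp [hq]
    · simp
  have hall : ∀ i j, i ≠ j → ∀ e : F, ∃ h ∈ M, ∀ x, act h x = x + (e * x j) • Pi.single i 1 := by
    intro i j hij e
    by_cases hbij : blk i = blk j
    · obtain ⟨h, hh, hhx, -⟩ := exists_block_elem hM hij hbij e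
      exact ⟨h, hh, hhx⟩
    -- a block permutation carrying the two blocks
    obtain ⟨π, hπa, hπb⟩ : ∃ π : Equiv.Perm (Fin t), π (blk a) = blk i ∧ π (blk b) = blk j := by
      refine ⟨Equiv.swap (Equiv.swap (blk a) (blk i) (blk b)) (blk j) * Equiv.swap (blk a) (blk i), ?_, by simp⟩
      have h1 : blk i ≠ Equiv.swap (blk a) (blk i) (blk b) := fun z => hab (by
        have := congrArg (Equiv.swap (blk a) (blk i)) z
        simpa using this)
      rw [Equiv.Perm.mul_apply, Equiv.swap_apply_left, Equiv.swap_apply_of_ne_of_ne h1 hbij]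
    let f : ∀ u : Fin t, {k // blk k = u} ≃ {k // blk k = π u} := fun u => Fintype.equivOfCardEq (by
      rw [Fintype.card_subtype, Fintype.card_subtype]; exact heq u (π u))
    let σ₀ : ι → ι := fun k => (f (blk k) ⟨k, rfl⟩ : ι)
    have hσ₀ : ∀ k, blk (σ₀ k) = π (blk k) := fun k => (f (blk k) ⟨k, rfl⟩).2
    have hinj : Function.Injective σ₀ := by
      intro x y hxy
      have hb : blk x = blk y := π.injective (by rw [← hσ₀, ← hσ₀, hxy])
      have aux : ∀ (u : Fin t) (hx : blk x = u) (hy : blk y = u),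
          ((f u ⟨x, hx⟩ : ι) = (f u ⟨y, hy⟩ : ι)) → x = y := fun u hx hy h =>
        congrArg Subtype.val ((f u).injective (Subtype.ext h))
      have conv : ∀ (z : ι) (u : Fin t) (hz : blk z = u), σ₀ z = (f u ⟨z, hz⟩ : ι) := by
        rintro z _ rfl; rfl
      exact aux (blk y) hb rfl (by rw [← conv x _ hb, ← conv y _ rfl, hxy])
    obtain ⟨σ, hσ⟩ : ∃ σ : Equiv.Perm ι, ∀ k, σ k = σ₀ k :=
      ⟨Equiv.ofBijective σ₀ (Finite.injective_iff_bijective.1 hinj), fun _ => rfl⟩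
    -- adjust inside the two target blocks
    obtain ⟨τ, hτdef⟩ : ∃ τ : Equiv.Perm ι, τ = Equiv.swap (σ a) i * Equiv.swap (σ b) j * σ := ⟨_, rfl⟩
    have hba : blk (σ a) = blk i := by rw [hσ, hσ₀, hπa]
    have hbb : blk (σ b) = blk j := by rw [hσ, hσ₀, hπb]
    have hswap : ∀ (u v : ι), blk u = blk v → ∀ k, blk (Equiv.swap u v k) = blk k := by
      intro u v huv k
      rcases eq_or_ne k u with rfl | h1
      · rw [Equiv.swap_apply_left, huv]
      rcases eq_or_ne k v with rfl | h2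
      · rw [Equiv.swap_apply_right, huv]
      · rw [Equiv.swap_apply_of_ne_of_ne h1 h2]
    have hτblk : ∀ k, blk (τ k) = π (blk k) := fun k => by
      rw [hτdef, Equiv.Perm.mul_apply, Equiv.Perm.mul_apply, hswap _ _ hba, hswap _ _ hbb, hσ, hσ₀]
    have hτa : τ a = i := by
      rw [hτdef, Equiv.Perm.mul_apply, Equiv.Perm.mul_apply,
        Equiv.swap_apply_of_ne_of_ne (σ.injective.ne hab') (fun z => hbij (by rw [← hba, z])), Equiv.swap_apply_left]
    have hτb : τ b = j := by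
      rw [hτdef, Equiv.Perm.mul_apply, Equiv.Perm.mul_apply, Equiv.swap_apply_left,
        Equiv.swap_apply_of_ne_of_ne (fun z => hbij (by rw [← hba, ← z])) hij.symm]
    obtain ⟨r, hra, hrb, -⟩ := exists_third (ι := ι) (by omega) a b a
    obtain ⟨d, hd⟩ : ∃ d : ι → F, d = Function.update (1 : ι → F) r ((Equiv.Perm.sign τ : ℤ) : F)⁻¹ := ⟨_, rfl⟩
    have hsgn : ((Equiv.Perm.sign τ : ℤ) : F) ≠ 0 := by
      rcases Int.units_eq_one_or (Equiv.Perm.sign τ) with h | h <;> simp [h]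
    have hd0 : ∀ k, d k ≠ 0 := fun k => by
      by_cases hk : k = r <;> simp [hd, hk, hsgn]
    obtain ⟨p, hpcol, -, hdet⟩ := exists_pm τ d hd0
    have hpM : p ∈ M := hM.2 p ⟨π, fun x k hk => by
      rw [hpcol, Pi.smul_apply, Pi.single_eq_of_ne (fun z => hk (by rw [z, hτblk])), smul_zero]⟩
      (mem_specialLinear_iff.2 (by
        rw [hdet, ← Finset.mul_prod_erase _ _ (Finset.mem_univ r), Finset.prod_eq_one fun k hk => by
          simp [hd, Finset.ne_of_mem_erase hk]]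
        simp [hd, hsgn]))
    obtain ⟨h, hh, hhx⟩ := hel e
    refine ⟨p * h * p⁻¹, M.mul_mem (M.mul_mem hpM hh) (M.inv_mem hpM), fun y => ?_⟩
    have hb' : act p⁻¹ y b = y j := by
      have := act_mono_coord hpcol (act p⁻¹ y) b
      rw [act_act_inv, hτb, hd, Function.update_of_ne hrb.symm] at this
      simpa using this.symm
    rw [act_mul, act_mul, hhx, map_add, map_smul, act_act_inv, hb', hpcol, hd, Function.update_of_ne hra.symm, hτa]
    simp
  intro g hg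
  suffices H : ∀ A : Matrix.SpecialLinearGroup ι F, Matrix.SpecialLinearGroup.toGL A ∈ M by
    have := H ⟨(g : Matrix ι ι F), mem_specialLinear_iff.1 hg⟩
    rwa [show Matrix.SpecialLinearGroup.toGL ⟨(g : Matrix ι ι F), mem_specialLinear_iff.1 hg⟩ = g from Units.ext rfl]
      at this
  intro A
  refine Cfsg.Agent.GL.SL_induction (fun A => Matrix.SpecialLinearGroup.toGL A ∈ M) (by simp) (fun i j hij c => ?_)
    (fun A B hA hB => by rw [map_mul]; exact M.mul_mem hA hB) A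
  obtain ⟨h, hh, hhx⟩ := hall i j hij c
  rwa [show Matrix.SpecialLinearGroup.toGL (Matrix.SpecialLinearGroup.transvection hij c) = h from gl_ext fun x => by
    rw [hhx, act_apply]
    change ((Matrix.SpecialLinearGroup.transvection hij c : Matrix.SpecialLinearGroup ι F) : Matrix ι ι F) *ᵥ x = _
    rw [Matrix.SpecialLinearGroup.transvection_coe, Matrix.add_mulVec, Matrix.one_mulVec, Matrix.single_mulVec]
    funext k
    by_cases hk : k = i <;> simp [hk]]

end Cfsg.Agent.MaxCl.Monom
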