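/-
The monomial group is maximal in the special linear group in every degree at least six over at least five scalars.

A row of a further element cannot be free of zeros (the alternating group of degree `n` does not act faithfully
on fewer points), nor have two zeros (a diagonal pair conjugates to monomial matrices), and an element whose rows
all have exactly one zero is moved to one that has two.
-/
import Cfsg.Agent.Lib.MaxCl.LinearMonomialMax

set_option autoImplicit false

namespace Cfsg.Agent.MaxCl.Monom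

open Matrix
open scoped MatrixGroups

variable {ι : Type} [Fintype ι] [DecidableEq ι] {F : Type*} [Field F] [Fintype F]

/-- A monomial matrix has a single entry in each row. -/
theorem Mono.row_unique {g : GL ι F} (hg : Mono g) {i j k : ι} (hj : (g : Matrix ι ι F) i j ≠ 0)
    (hk : (g : Matrix ι ι F) i k ≠ 0) : j = k := by
  obtain ⟨π, d, -, hd⟩ := hg.exists_data
  have key : ∀ l, (g : Matrix ι ι F) i l ≠ 0 → i = π l := fun l hl => by
    by_contra h
    rw [← act_single_apply, hd, single_apply', if_neg h] at hl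
    exact hl rfl
  exact π.injective ((key j hj).symm.trans (key k hk))

/-- An invertible matrix has no zero row. -/
theorem exists_row_ne_zero (g : GL ι F) (i : ι) : ∃ j, (g : Matrix ι ι F) i j ≠ 0 := by
  by_contra h
  push Not at h
  have h1 : ((g : Matrix ι ι F) * ((g⁻¹ : GL ι F) : Matrix ι ι F)) i i = 1 := by
    rw [← Units.val_mul, mul_inv_cancel, Units.val_one, Matrix.one_apply_eq]
  rw [Matrix.mul_apply, Finset.sum_eq_zero fun j _ => by rw [h j, zero_mul]] at h1
  exact zero_ne_one h1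

variable {M : Subgroup (GL ι F)}

/-- The conjugate of a diagonal pair. -/
theorem exists_pair_conj (hM : Over M) {m : GL ι F} (hm : m ∈ M) {a b : ι} (hab : a ≠ b) {l : F} (hl : l ≠ 0) :
    ∃ x ∈ M, (∀ i j, (x : Matrix ι ι F) i j = (1 : Matrix ι ι F) i j +
        ((l - 1) * ((m : Matrix ι ι F) i a * ((m⁻¹ : GL ι F) : Matrix ι ι F) a j) +
          (l⁻¹ - 1) * ((m : Matrix ι ι F) i b * ((m⁻¹ : GL ι F) : Matrix ι ι F) b j))) ∧
      ∀ i j, ((x⁻¹ : GL ι F) : Matrix ι ι F) i j = (1 : Matrix ι ι F) i j +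
        ((l⁻¹ - 1) * ((m : Matrix ι ι F) i a * ((m⁻¹ : GL ι F) : Matrix ι ι F) a j) +
          (l - 1) * ((m : Matrix ι ι F) i b * ((m⁻¹ : GL ι F) : Matrix ι ι F) b j)) := by
  classical
  obtain ⟨d, hd⟩ : ∃ d : ι → F, d = Function.update (Function.update (1 : ι → F) a l) b l⁻¹ := ⟨_, rfl⟩
  obtain ⟨t, ht, htx, htx'⟩ := exists_diag_mem hM d (by rw [hd, prod_update_pair hab, mul_inv_cancel₀ hl])
  have key : ∀ (s : GL ι F) (e : ι → F), (∀ x k, act s x k = e k * x k) → (∀ k, k ≠ a → k ≠ b → e k = 1) →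
      ∀ i j, ((m * s * m⁻¹ : GL ι F) : Matrix ι ι F) i j = (1 : Matrix ι ι F) i j +
        ((e a - 1) * ((m : Matrix ι ι F) i a * ((m⁻¹ : GL ι F) : Matrix ι ι F) a j) +
          (e b - 1) * ((m : Matrix ι ι F) i b * ((m⁻¹ : GL ι F) : Matrix ι ι F) b j)) := by
    intro s e hse he i j
    have hs : ∀ k c, (s : Matrix ι ι F) k c = e k * (1 : Matrix ι ι F) k c := fun k c => by
      rw [← act_single_apply, hse, Matrix.one_apply, Pi.single_apply]
    have h1 : ∀ k, ((s : Matrix ι ι F) * ((m⁻¹ : GL ι F) : Matrix ι ι F)) k j =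
        e k * ((m⁻¹ : GL ι F) : Matrix ι ι F) k j := fun k => by
      simp [Matrix.mul_apply, hs, Matrix.one_apply]
    have h2 : ∑ k, (m : Matrix ι ι F) i k * ((m⁻¹ : GL ι F) : Matrix ι ι F) k j = (1 : Matrix ι ι F) i j := by
      rw [← Matrix.mul_apply, ← Units.val_mul, mul_inv_cancel, Units.val_one]
    rw [mul_assoc, Units.val_mul, Units.val_mul, Matrix.mul_apply]
    simp only [h1]
    rw [← h2, ← sub_eq_iff_eq_add', ← Finset.sum_sub_distrib,
      ← Finset.sum_subset (Finset.subset_univ {a, b}), Finset.sum_pair hab]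
    · ring
    · intro k _ hk
      simp only [Finset.mem_insert, Finset.mem_singleton, not_or] at hk
      rw [he k hk.1 hk.2, one_mul, sub_self]
  have hda : d a = l := by simp [hd, hab]
  have hdb : d b = l⁻¹ := by simp [hd]
  have hdk : ∀ k, k ≠ a → k ≠ b → d k = 1 := fun k ha hb => by simp [hd, ha, hb]
  refine ⟨m * t * m⁻¹, M.mul_mem (M.mul_mem hm ht) (M.inv_mem hm), fun i j => ?_, fun i j => ?_⟩
  · rw [key t d htx hdk, hda, hdb]
  · rw [show (m * t * m⁻¹)⁻¹ = m * t⁻¹ * m⁻¹ by group,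
      key t⁻¹ (fun k => (d k)⁻¹) htx' (fun k ha hb => by rw [hdk k ha hb, inv_one]), hda, hdb, inv_inv]

/-- An elementary transvection transfers through the duality. -/
theorem elem_of_dual {p q : ι} (hpq : p ≠ q) (hel : ElemIn (M.comap (dual (ι := ι) (F := F))) p q) :
    ElemIn M q p := by
  intro e
  obtain ⟨h, hh, hhx⟩ := hel (-e)
  refine ⟨dual h, Subgroup.mem_comap.1 hh, fun x => ?_⟩
  have hi : ∀ y, act h⁻¹ y = y + (e * y q) • Pi.single p 1 := by
    intro y
    apply act_injective h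
    rw [act_act_inv, hhx]
    simp [hpq.symm]
  funext k
  conv_lhs => rw [eq_sum_single x]
  rw [map_sum, Finset.sum_apply]
  simp only [map_smul, Pi.smul_apply, act_dual_single, hi, Pi.add_apply, single_apply', smul_eq_mul]
  simp [Pi.single_apply, mul_add, Finset.sum_add_distrib]
  by_cases hkq : k = q
  · subst hkq; simp; ring
  · simp [hkq, Ne.symm hkq]

/-- Without elementary transvections a row has at most two zeros. -/
theorem row_zeros_le (hM : Over M) (h5 : 5 ≤ Fintype.card F) (h4 : 4 ≤ Fintype.card ι)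
    (hno : ∀ a b, a ≠ b → ¬ ElemIn M a b) {m : GL ι F} (hm : m ∈ M) (hnm : ¬ Mono m) (r : ι)
    {Z : Finset ι} (hZ : ∀ k ∈ Z, (m : Matrix ι ι F) r k = 0) : Z.card ≤ 2 := by
  by_contra h
  obtain ⟨t, ht, ht3⟩ := Finset.exists_subset_card_eq (s := Z) (n := 3) (by omega)
  obtain ⟨a, b, c, hab, hac, hbc, rfl⟩ := Finset.card_eq_three.1 ht3
  have hz : ∀ k ∈ ({a, b, c} : Finset ι), act m (Pi.single k 1) r = 0 := fun k hk => by
    rw [act_single_apply]; exact hZ k (ht hk)
  obtain ⟨p, q, hpq, hel⟩ := elem_of_zeros hM h5 h4 hm hnm hab hac hbc (hz a (by simp)) (hz b (by simp))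
    (hz c (by simp))
  exact hno p q hpq hel

/-- Without elementary transvections a column has at most two zeros. -/
theorem col_zeros_le (hM : Over M) (h5 : 5 ≤ Fintype.card F) (h4 : 4 ≤ Fintype.card ι)
    (hno : ∀ a b, a ≠ b → ¬ ElemIn M a b) {m : GL ι F} (hm : m ∈ M) (hnm : ¬ Mono m) (c : ι)
    {Z : Finset ι} (hZ : ∀ k ∈ Z, (m : Matrix ι ι F) k c = 0) : Z.card ≤ 2 := by
  refine row_zeros_le (over_comap hM) h5 h4 (fun a b hab h => hno b a hab.symm (elem_of_dual hab h))
    (m := dual m⁻¹) (Subgroup.mem_comap.2 (by rw [dual_dual]; exact M.inv_mem hm))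
    (fun h => hnm (by simpa [dual_dual] using (mono_dual h).inv)) c fun k hk => ?_
  rw [coe_dual, inv_inv, Matrix.transpose_apply]
  exact hZ k hk

/-- Without elementary transvections a row has no two zeros. -/
theorem row_zero_unique (hM : Over M) (h5 : 5 ≤ Fintype.card F) (h6 : 6 ≤ Fintype.card ι)
    (hno : ∀ a b, a ≠ b → ¬ ElemIn M a b) {m : GL ι F} (hm : m ∈ M) (hnm : ¬ Mono m) {r a b : ι}
    (ha : (m : Matrix ι ι F) r a = 0) (hb : (m : Matrix ι ι F) r b = 0) : a = b := by
  classical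
  by_contra hab
  obtain ⟨j, hj⟩ : ∃ j, (m : Matrix ι ι F) j a ≠ 0 := by
    by_contra h; push Not at h
    have := col_zeros_le hM h5 (by omega) hno hm hnm a (Z := Finset.univ) fun k _ => h k
    rw [Finset.card_univ] at this; omega
  have hsupp := row_zeros_le hM h5 (by omega) hno (M.inv_mem hm)
    (fun h => hnm (by simpa using h.inv)) a
    (Z := Finset.univ.filter fun k => ((m⁻¹ : GL ι F) : Matrix ι ι F) a k = 0)
    fun k hk => (Finset.mem_filter.1 hk).2
  have h3 : 3 ≤ ((Finset.univ.filter fun k => ((m⁻¹ : GL ι F) : Matrix ι ι F) a k ≠ 0).erase j).card := by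
    have h1 := Finset.card_filter_add_card_filter_not (s := (Finset.univ : Finset ι))
      (fun k => ((m⁻¹ : GL ι F) : Matrix ι ι F) a k = 0)
    have h2 := Finset.pred_card_le_card_erase
      (s := Finset.univ.filter fun k => ((m⁻¹ : GL ι F) : Matrix ι ι F) a k ≠ 0) (a := j)
    rw [Finset.card_univ] at h1
    simp only [ne_eq] at *
    omega
  obtain ⟨T, hT, hT3⟩ := Finset.exists_subset_card_eq h3
  obtain ⟨k₁, k₂, k₃, h12, h13, h23, rfl⟩ := Finset.card_eq_three.1 hT3
  have hk : ∀ k ∈ ({k₁, k₂, k₃} : Finset ι), k ≠ j ∧ ((m⁻¹ : GL ι F) : Matrix ι ι F) a k ≠ 0 := fun k hk => by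
    simpa using hT hk
  -- the conjugated pairs are monomial
  have hP : ∀ l : F, l ≠ 0 → l ≠ 1 → ∀ p q, p ≠ q → p ≠ j → q ≠ j →
      (m : Matrix ι ι F) j a * ((m⁻¹ : GL ι F) : Matrix ι ι F) a p * l =
        (m : Matrix ι ι F) j b * ((m⁻¹ : GL ι F) : Matrix ι ι F) b p ∨
      (m : Matrix ι ι F) j a * ((m⁻¹ : GL ι F) : Matrix ι ι F) a q * l =
        (m : Matrix ι ι F) j b * ((m⁻¹ : GL ι F) : Matrix ι ι F) b q := by
    intro l hl hl1 p q hpq hpj hqj
    obtain ⟨x, hx, hxe, -⟩ := exists_pair_conj hM hm hab hl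
    have hmono : Mono x := by
      by_contra h
      obtain ⟨u, v, huv, hel⟩ := elem_of_row hM h5 (by omega) hx h (r := r) (b := r) fun c hc => by
        rw [act_single_apply, hxe, ha, hb, Matrix.one_apply_ne (Ne.symm hc)]
        ring
      exact hno u v huv hel
    have hz : ∀ c, c ≠ j → (x : Matrix ι ι F) j c = 0 →
        (m : Matrix ι ι F) j a * ((m⁻¹ : GL ι F) : Matrix ι ι F) a c * l =
          (m : Matrix ι ι F) j b * ((m⁻¹ : GL ι F) : Matrix ι ι F) b c := by
      intro c hc h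
      rw [hxe, Matrix.one_apply_ne (Ne.symm hc), zero_add] at h
      have h' : (l - 1) * ((m : Matrix ι ι F) j a * ((m⁻¹ : GL ι F) : Matrix ι ι F) a c * l -
          (m : Matrix ι ι F) j b * ((m⁻¹ : GL ι F) : Matrix ι ι F) b c) = 0 := by
        linear_combination l * h +
          (1 - mul_inv_cancel₀ hl) * 0 - ((m : Matrix ι ι F) j b * ((m⁻¹ : GL ι F) : Matrix ι ι F) b c) *
            mul_inv_cancel₀ hl
      exact sub_eq_zero.1 ((mul_eq_zero.1 h').resolve_left (sub_ne_zero.2 hl1))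
    by_contra h
    rw [not_or] at h
    exact hpq (hmono.row_unique (fun e => h.1 (hz p hpj e)) fun e => h.2 (hz q hqj e))
  obtain ⟨l₁, hl10, hl11⟩ := exists_unit_ne h5 (F := F)
  obtain ⟨l₂, hl20, hl21, hl12⟩ : ∃ l₂ : F, l₂ ≠ 0 ∧ l₂ ≠ 1 ∧ l₁ ≠ l₂ := by
    by_contra h; push Not at h
    have := Finset.card_le_card (show (Finset.univ : Finset F) ⊆ {0, 1, l₁} from fun x _ => by
      by_cases h0 : x = 0
      · simp [h0]
      by_cases h1 : x = 1
      · simp [h1]
      simp [h x h0 h1])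
    have h3' : ({0, 1, l₁} : Finset F).card ≤ 3 := Finset.card_le_three
    rw [Finset.card_univ] at this
    omega
  have both : ∀ k ∈ ({k₁, k₂, k₃} : Finset ι),
      (m : Matrix ι ι F) j a * ((m⁻¹ : GL ι F) : Matrix ι ι F) a k * l₁ =
        (m : Matrix ι ι F) j b * ((m⁻¹ : GL ι F) : Matrix ι ι F) b k →
      (m : Matrix ι ι F) j a * ((m⁻¹ : GL ι F) : Matrix ι ι F) a k * l₂ =
        (m : Matrix ι ι F) j b * ((m⁻¹ : GL ι F) : Matrix ι ι F) b k → False := by
    intro k hk' e1 e2
    exact hl12 (mul_left_cancel₀ (mul_ne_zero hj (hk k hk').2) (e1.trans e2.symm))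
  have j1 := (hk k₁ (by simp)).1
  have j2 := (hk k₂ (by simp)).1
  have j3 := (hk k₃ (by simp)).1
  rcases hP l₁ hl10 hl11 k₁ k₂ h12 j1 j2 with e | e
  · rcases hP l₁ hl10 hl11 k₂ k₃ h23 j2 j3 with e' | e'
    · rcases hP l₂ hl20 hl21 k₁ k₂ h12 j1 j2 with f | f
      · exact both k₁ (by simp) e f
      · exact both k₂ (by simp) e' f
    · rcases hP l₂ hl20 hl21 k₁ k₃ h13 j1 j3 with f | f
      · exact both k₁ (by simp) e f
      · exact both k₃ (by simp) e' f
  · rcases hP l₁ hl10 hl11 k₁ k₃ h13 j1 j3 with e' | e'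
    · rcases hP l₂ hl20 hl21 k₁ k₂ h12 j1 j2 with f | f
      · exact both k₁ (by simp) e' f
      · exact both k₂ (by simp) e f
    · rcases hP l₂ hl20 hl21 k₂ k₃ h23 j2 j3 with f | f
      · exact both k₂ (by simp) e f
      · exact both k₃ (by simp) e' f

/-- Without elementary transvections every row has a zero. -/
theorem exists_row_zero (hM : Over M) (h5 : 5 ≤ Fintype.card F) (h6 : 6 ≤ Fintype.card ι)
    (hno : ∀ a b, a ≠ b → ¬ ElemIn M a b) {m : GL ι F} (hm : m ∈ M) (hnm : ¬ Mono m) (r : ι) :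
    ∃ a, (m : Matrix ι ι F) r a = 0 := by
  classical
  by_contra h
  push Not at h
  obtain ⟨β, hβ⟩ : ∃ β : ι → F, β = fun j => (m : Matrix ι ι F) r j := ⟨_, rfl⟩
  have hβ0 : ∀ j, β j ≠ 0 := fun j => by rw [hβ]; exact h j
  have hex : ∀ σ : alternatingGroup ι, ∃ k ∈ M, ∀ j, act k (Pi.single j 1) =
      (β j / β ((σ : Equiv.Perm ι) j)) • Pi.single ((σ : Equiv.Perm ι) j) 1 := by
    intro σ
    refine exists_mem_pm hM _ _ (fun j => div_ne_zero (hβ0 j) (hβ0 _)) ?_
    rw [show Equiv.Perm.sign (σ : Equiv.Perm ι) = 1 from σ.2, Units.val_one, Int.cast_one, one_mul,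
      Finset.prod_div_distrib, Equiv.prod_comp (σ : Equiv.Perm ι) β,
      div_self (Finset.prod_ne_zero_iff.2 fun j _ => hβ0 j)]
  choose k hkM hk using hex
  obtain ⟨x, hx⟩ : ∃ x : alternatingGroup ι → GL ι F, ∀ σ, x σ = m * k σ * m⁻¹ := ⟨_, fun _ => rfl⟩
  have hxM : ∀ σ, x σ ∈ M := fun σ => hx σ ▸ M.mul_mem (M.mul_mem hm (hkM σ)) (M.inv_mem hm)
  have hfix : ∀ σ y, act (x σ) y r = y r := by
    intro σ y
    obtain ⟨z, rfl⟩ : ∃ z, act m z = y := ⟨act m⁻¹ y, act_act_inv m y⟩
    conv_lhs => rw [eq_sum_single z]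
    conv_rhs => rw [eq_sum_single z]
    simp only [map_sum, map_smul, Finset.sum_apply, Pi.smul_apply]
    refine Finset.sum_congr rfl fun j _ => ?_
    rw [hx, act_mul, act_mul, act_inv_act, hk, map_smul, Pi.smul_apply, act_single_apply, act_single_apply,
      smul_eq_mul, smul_eq_mul, smul_eq_mul]
    have hj : (m : Matrix ι ι F) r j = β j := by rw [hβ]
    have hσj : (m : Matrix ι ι F) r ((σ : Equiv.Perm ι) j) = β ((σ : Equiv.Perm ι) j) := by rw [hβ]
    rw [hj, hσj, div_mul_cancel₀ _ (hβ0 _)]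
  have hmono : ∀ σ, Mono (x σ) := by
    intro σ
    by_contra hn
    obtain ⟨u, v, huv, hel⟩ := elem_of_row hM h5 (by omega) (hxM σ) hn (r := r) (b := r) fun c hc => by
      rw [hfix, Pi.single_eq_of_ne (Ne.symm hc)]
    exact hno u v huv hel
  choose π d hd0 hd using fun σ => (hmono σ).exists_data
  have hπr : ∀ σ, π σ r = r := by
    intro σ
    by_contra hne
    have h1 := hfix σ (Pi.single r 1)
    rw [hd, single_apply', if_neg (Ne.symm hne), Pi.single_eq_same] at h1
    exact zero_ne_one h1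
  have hkmul : ∀ σ τ, k (σ * τ) = k σ * k τ := fun σ τ => gl_ext fun y => by
    rw [eq_sum_single y, map_sum, map_sum]
    refine Finset.sum_congr rfl fun j _ => ?_
    rw [map_smul, map_smul, act_mul, hk (σ * τ), hk τ, map_smul, hk σ, Subgroup.coe_mul,
      Equiv.Perm.mul_apply, smul_smul, smul_smul, smul_smul]
    congr 1
    have := hβ0 ((τ : Equiv.Perm ι) j)
    have := hβ0 ((σ : Equiv.Perm ι) ((τ : Equiv.Perm ι) j))
    field_simp
  have hxmul : ∀ σ τ, x (σ * τ) = x σ * x τ := fun σ τ => by rw [hx, hx, hx, hkmul]; group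
  have hπmul : ∀ σ τ j, π (σ * τ) j = π σ (π τ j) := by
    intro σ τ j
    have h1 := hd (σ * τ) j
    rw [hxmul, act_mul, hd, map_smul, hd, smul_smul] at h1
    by_contra hne
    have h2 := congrFun h1 (π (σ * τ) j)
    rw [single_apply', single_apply', if_neg hne, if_pos rfl] at h2
    exact hd0 _ _ h2.symm
  let f : alternatingGroup ι →* Equiv.Perm {j : ι // j ≠ r} :=
    MonoidHom.mk' (fun σ => (π σ).subtypePerm fun j => by
      constructor
      · intro hj e; exact hj (by rw [e]; exact hπr σ)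
      · intro hj e; exact hj ((π σ).injective (e.trans (hπr σ).symm)))
      fun σ τ => Equiv.ext fun j => Subtype.ext (hπmul σ τ j)
  haveI : Nontrivial ι := Fintype.one_lt_card_iff_nontrivial.1 (by omega)
  haveI := alternatingGroup.isSimpleGroup (α := ι) (by rw [Nat.card_eq_fintype_card]; omega)
  rcases IsSimpleGroup.eq_bot_or_eq_top_of_normal f.ker (MonoidHom.normal_ker f) with hker | hker
  · have h1 := Nat.card_le_card_of_injective f ((MonoidHom.ker_eq_bot_iff f).1 hker)
    have h2 : 2 * Nat.card (alternatingGroup ι) = (Fintype.card ι).factorial := by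
      rw [Nat.card_eq_fintype_card, two_mul_card_alternatingGroup, Fintype.card_perm]
    rw [Nat.card_eq_fintype_card (α := Equiv.Perm _), Fintype.card_perm,
      Fintype.card_subtype_compl (fun j => j = r), Fintype.card_subtype_eq] at h1
    obtain ⟨n, hn⟩ : ∃ n, Fintype.card ι = n + 1 := ⟨Fintype.card ι - 1, by omega⟩
    rw [hn, Nat.add_sub_cancel] at h1
    rw [hn, Nat.factorial_succ] at h2
    have := Nat.factorial_pos n
    nlinarith [show 6 ≤ n + 1 by omega]
  · -- all conjugates are diagonal, so the alternating group would be commutative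
    have hid : ∀ σ j, π σ j = j := by
      intro σ j
      rcases eq_or_ne j r with rfl | hj
      · exact hπr σ
      have h1 : f σ = 1 := (MonoidHom.mem_ker).1 (hker ▸ Subgroup.mem_top σ)
      exact congrArg Subtype.val (Equiv.congr_fun h1 ⟨j, hj⟩)
    have hcomm : ∀ σ τ : alternatingGroup ι, σ * τ = τ * σ := by
      intro σ τ
      have h1 : x σ * x τ = x τ * x σ := gl_ext fun y => by
        rw [eq_sum_single y, map_sum, map_sum]
        refine Finset.sum_congr rfl fun j _ => ?_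
        simp only [map_smul, act_mul, hd, hid, smul_smul]
        rw [mul_comm (d τ j)]
      have h2 : k σ * k τ = k τ * k σ := by
        rw [hx, hx] at h1
        exact mul_left_cancel (a := m) (mul_right_cancel (b := m⁻¹) (by simpa [mul_assoc] using h1))
      refine Subtype.ext (Equiv.ext fun j => ?_)
      have h3 := congrArg (fun g => act g (Pi.single j 1)) ((hkmul σ τ).trans (h2.trans (hkmul τ σ).symm))
      simp only [hk] at h3
      by_contra hne
      have h4 := congrFun h3 (((σ * τ : alternatingGroup ι) : Equiv.Perm ι) j)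
      rw [single_apply', single_apply', if_pos rfl, if_neg hne] at h4
      exact div_ne_zero (hβ0 _) (hβ0 _) h4
    obtain ⟨T, -, hT⟩ := Finset.exists_subset_card_eq (s := (Finset.univ : Finset ι)) (n := 4)
      (by rw [Finset.card_univ]; omega)
    obtain ⟨a, s, has, rfl, hs⟩ := Finset.card_eq_succ.1 hT
    obtain ⟨b, c, e, hbc, hbe, hce, rfl⟩ := Finset.card_eq_three.1 hs
    simp only [Finset.mem_insert, Finset.mem_singleton, not_or] at has
    obtain ⟨hab, hac, hae⟩ := has
    have hσ : Equiv.swap a b * Equiv.swap b c ∈ alternatingGroup ι := by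
      rw [Equiv.Perm.mem_alternatingGroup, map_mul, Equiv.Perm.sign_swap hab, Equiv.Perm.sign_swap hbc]; rfl
    have hτ : Equiv.swap a b * Equiv.swap b e ∈ alternatingGroup ι := by
      rw [Equiv.Perm.mem_alternatingGroup, map_mul, Equiv.Perm.sign_swap hab, Equiv.Perm.sign_swap hbe]; rfl
    have h1 := congrArg (fun g : alternatingGroup ι => (g : Equiv.Perm ι) a) (hcomm ⟨_, hσ⟩ ⟨_, hτ⟩)
    simp [Equiv.Perm.mul_apply, Equiv.swap_apply_def, hab, hac, hae, hbc, hbe, hce, Ne.symm hab, Ne.symm hac,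
      Ne.symm hae, Ne.symm hbc, Ne.symm hbe, Ne.symm hce] at h1


/-- A product of opposite entries of `m` and its inverse is `0` or `1`, if rows have at most one zero. -/
theorem entry_prod_of_unique (hM : Over M) (h4 : 4 ≤ Fintype.card ι)
    (hu : ∀ {x : GL ι F}, x ∈ M → ¬ Mono x → ∀ {r p q : ι},
      (x : Matrix ι ι F) r p = 0 → (x : Matrix ι ι F) r q = 0 → p = q)
    {m : GL ι F} (hm : m ∈ M) (hnm : ¬ Mono m) (i b : ι) (hza : ∃ a, (m : Matrix ι ι F) i a = 0)
    (hzb : ∃ j, ((m⁻¹ : GL ι F) : Matrix ι ι F) b j = 0) :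
    (m : Matrix ι ι F) i b * ((m⁻¹ : GL ι F) : Matrix ι ι F) b i = 0 ∨
      (m : Matrix ι ι F) i b * ((m⁻¹ : GL ι F) : Matrix ι ι F) b i = 1 := by
  classical
  by_contra h
  rw [not_or] at h
  obtain ⟨h0, h1⟩ := h
  obtain ⟨a, ha⟩ := hza
  have hmi : (m : Matrix ι ι F) i b ≠ 0 := fun e => h0 (by rw [e, zero_mul])
  have hab : a ≠ b := fun e => hmi (e ▸ ha)
  have hnm' : ¬ Mono m⁻¹ := fun e => hnm (by simpa using e.inv)
  obtain ⟨j₀, hj₀⟩ := hzb
  have hj₀i : j₀ ≠ i := fun e => h0 (by rw [← e, hj₀, mul_zero])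
  obtain ⟨μ, hμ⟩ : ∃ μ : F, μ = 1 - ((m : Matrix ι ι F) i b * ((m⁻¹ : GL ι F) : Matrix ι ι F) b i)⁻¹ :=
    ⟨_, rfl⟩
  have hμ0 : μ ≠ 0 := by
    rw [hμ, sub_ne_zero]
    exact fun e => h1 (inv_eq_one.1 e.symm)
  obtain ⟨x, hx, hxe, -⟩ := exists_pair_conj hM hm hab (inv_ne_zero hμ0)
  have hrow : ∀ c, (x : Matrix ι ι F) i c = (1 : Matrix ι ι F) i c +
      (μ - 1) * ((m : Matrix ι ι F) i b * ((m⁻¹ : GL ι F) : Matrix ι ι F) b c) := fun c => by
    rw [hxe, ha, inv_inv]; ring
  have hμ1 : μ - 1 ≠ 0 := by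
    rw [hμ, sub_sub_cancel_left, neg_ne_zero]; exact inv_ne_zero h0
  have hxm : ¬ Mono x := by
    intro hmono
    have hz : (Finset.univ.filter fun c => ((m⁻¹ : GL ι F) : Matrix ι ι F) b c = 0).card ≤ 1 :=
      Finset.card_le_one.2 fun p hp q hq =>
        hu (M.inv_mem hm) hnm' (Finset.mem_filter.1 hp).2 (Finset.mem_filter.1 hq).2
    have h2 : 2 ≤ ((Finset.univ.filter fun c => ((m⁻¹ : GL ι F) : Matrix ι ι F) b c ≠ 0).erase i).card := by
      have h1 := Finset.card_filter_add_card_filter_not (s := (Finset.univ : Finset ι))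
        (fun c => ((m⁻¹ : GL ι F) : Matrix ι ι F) b c = 0)
      have h2 := Finset.pred_card_le_card_erase
        (s := Finset.univ.filter fun c => ((m⁻¹ : GL ι F) : Matrix ι ι F) b c ≠ 0) (a := i)
      rw [Finset.card_univ] at h1
      simp only [ne_eq] at *
      omega
    obtain ⟨p, hp, q, hq, hpq⟩ := Finset.one_lt_card.1 h2
    simp only [Finset.mem_erase, Finset.mem_filter, Finset.mem_univ, true_and] at hp hq
    have hne : ∀ c, c ≠ i → ((m⁻¹ : GL ι F) : Matrix ι ι F) b c ≠ 0 → (x : Matrix ι ι F) i c ≠ 0 := by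
      intro c hc hc0
      rw [hrow, Matrix.one_apply_ne (Ne.symm hc), zero_add]
      exact mul_ne_zero hμ1 (mul_ne_zero hmi hc0)
    exact hpq (hmono.row_unique (hne p hp.1 hp.2) (hne q hq.1 hq.2))
  refine hj₀i (hu hx hxm (r := i) ?_ ?_)
  · rw [hrow, Matrix.one_apply_ne (Ne.symm hj₀i), hj₀]; ring
  · rw [hrow, Matrix.one_apply_eq, hμ, sub_sub_cancel_left, neg_mul, inv_mul_cancel₀ h0, add_neg_cancel]

/-- A product of opposite entries of `m` and its inverse is `0` or `1`. -/
theorem entry_prod (hM : Over M) (h5 : 5 ≤ Fintype.card F) (h6 : 6 ≤ Fintype.card ι)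
    (hno : ∀ a b, a ≠ b → ¬ ElemIn M a b) {m : GL ι F} (hm : m ∈ M) (hnm : ¬ Mono m) (i b : ι) :
    (m : Matrix ι ι F) i b * ((m⁻¹ : GL ι F) : Matrix ι ι F) b i = 0 ∨
      (m : Matrix ι ι F) i b * ((m⁻¹ : GL ι F) : Matrix ι ι F) b i = 1 :=
  entry_prod_of_unique hM (by omega) (fun hx hxm => row_zero_unique hM h5 h6 hno hx hxm) hm hnm i b
    (exists_row_zero hM h5 h6 hno hm hnm i)
    (exists_row_zero hM h5 h6 hno (M.inv_mem hm) (fun e => hnm (by simpa using e.inv)) b)

/-- Not every row of a further element can have exactly one zero. -/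
theorem false_of_zeros (hM : Over M) (h5 : 5 ≤ Fintype.card F) (h4 : 4 ≤ Fintype.card ι)
    (hu : ∀ {x : GL ι F}, x ∈ M → ¬ Mono x → ∀ {r p q : ι},
      (x : Matrix ι ι F) r p = 0 → (x : Matrix ι ι F) r q = 0 → p = q)
    (hcu : ∀ {x : GL ι F}, x ∈ M → ¬ Mono x → ∀ {r p q : ι},
      (x : Matrix ι ι F) p r = 0 → (x : Matrix ι ι F) q r = 0 → p = q)
    (hz : ∀ {x : GL ι F}, x ∈ M → ¬ Mono x → ∀ r, ∃ a, (x : Matrix ι ι F) r a = 0)
    {m : GL ι F} (hm : m ∈ M) (hnm : ¬ Mono m) : False := by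
  classical
  have hnm' : ¬ Mono m⁻¹ := fun e => hnm (by simpa using e.inv)
  obtain ⟨i⟩ : Nonempty ι := Fintype.card_pos_iff.1 (by omega)
  obtain ⟨a, ha⟩ := hz hm hnm i
  obtain ⟨b, hb⟩ : ∃ b, (m : Matrix ι ι F) i b * ((m⁻¹ : GL ι F) : Matrix ι ι F) b i ≠ 0 := by
    by_contra h
    push Not at h
    have h1 : ((m : Matrix ι ι F) * ((m⁻¹ : GL ι F) : Matrix ι ι F)) i i = 1 := by
      rw [← Units.val_mul, mul_inv_cancel, Units.val_one, Matrix.one_apply_eq]
    rw [Matrix.mul_apply, Finset.sum_eq_zero fun c _ => h c] at h1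
    exact zero_ne_one h1
  have hPi : (m : Matrix ι ι F) i b * ((m⁻¹ : GL ι F) : Matrix ι ι F) b i = 1 :=
    (entry_prod_of_unique hM h4 hu hm hnm i b (hz hm hnm i) (hz (M.inv_mem hm) hnm' b)).resolve_left hb
  have hmib : (m : Matrix ι ι F) i b ≠ 0 := fun e => hb (by rw [e, zero_mul])
  have hab : a ≠ b := fun e => hmib (e ▸ ha)
  obtain ⟨j₀, hj₀⟩ := hz (M.inv_mem hm) hnm' b
  obtain ⟨j, hji, hmjb, hnbj⟩ : ∃ j, j ≠ i ∧ (m : Matrix ι ι F) j b ≠ 0 ∧
      ((m⁻¹ : GL ι F) : Matrix ι ι F) b j ≠ 0 := by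
    by_contra hc
    push Not at hc
    have hzc : (Finset.univ.filter fun c => (m : Matrix ι ι F) c b = 0).card ≤ 1 :=
      Finset.card_le_one.2 fun p hp q hq => hcu hm hnm (Finset.mem_filter.1 hp).2 (Finset.mem_filter.1 hq).2
    have := Finset.card_le_card (show (Finset.univ : Finset ι) ⊆
        insert i (insert j₀ (Finset.univ.filter fun c => (m : Matrix ι ι F) c b = 0)) from fun c _ => by
      by_cases hci : c = i
      · simp [hci]
      by_cases hcb : (m : Matrix ι ι F) c b = 0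
      · simp [hcb]
      simp [hu (M.inv_mem hm) hnm' (hc c hci hcb) hj₀])
    have h2 := Finset.card_insert_le i (insert j₀ (Finset.univ.filter fun c => (m : Matrix ι ι F) c b = 0))
    have h3 := Finset.card_insert_le j₀ (Finset.univ.filter fun c => (m : Matrix ι ι F) c b = 0)
    rw [Finset.card_univ] at this
    omega
  have hPj : (m : Matrix ι ι F) j b * ((m⁻¹ : GL ι F) : Matrix ι ι F) b j = 1 :=
    (entry_prod_of_unique hM h4 hu hm hnm j b (hz hm hnm j) (hz (M.inv_mem hm) hnm' b)).resolve_left (mul_ne_zero hmjb hnbj)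
  obtain ⟨C, hC⟩ : ∃ C : F, C = ((m⁻¹ : GL ι F) : Matrix ι ι F) b j * (m : Matrix ι ι F) i b *
      ((m : Matrix ι ι F) j a * ((m⁻¹ : GL ι F) : Matrix ι ι F) a i) := ⟨_, rfl⟩
  have hμ : ∀ μ : F, μ ≠ 0 → μ ≠ 1 → (μ - 1) ^ 2 * (C * μ - 1) = 0 ∨ (μ - 1) ^ 2 * (C * μ - 1) = μ := by
    intro μ hμ0 hμ1
    obtain ⟨x, hx, hxe, hxe'⟩ := exists_pair_conj hM hm hab (inv_ne_zero hμ0)
    have hxij : (x : Matrix ι ι F) i j = (μ - 1) * ((m : Matrix ι ι F) i b *
        ((m⁻¹ : GL ι F) : Matrix ι ι F) b j) := by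
      rw [hxe, ha, Matrix.one_apply_ne hji.symm, inv_inv]; ring
    have hxii : (x : Matrix ι ι F) i i = μ := by
      rw [hxe, ha, Matrix.one_apply_eq, inv_inv, hPi]; ring
    have hxm : ¬ Mono x := fun hmono => hji (hmono.row_unique
      (by rw [hxij]; exact mul_ne_zero (sub_ne_zero.2 hμ1) (mul_ne_zero hmib hnbj)) (by rw [hxii]; exact hμ0))
    have hinv : μ * μ⁻¹ = 1 := mul_inv_cancel₀ hμ0
    have hxji : μ * ((x⁻¹ : GL ι F) : Matrix ι ι F) j i =
        μ * (μ - 1) * ((m : Matrix ι ι F) j a * ((m⁻¹ : GL ι F) : Matrix ι ι F) a i) +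
          (1 - μ) * ((m : Matrix ι ι F) j b * ((m⁻¹ : GL ι F) : Matrix ι ι F) b i) := by
      rw [hxe', Matrix.one_apply_ne hji, inv_inv]
      linear_combination ((m : Matrix ι ι F) j b * ((m⁻¹ : GL ι F) : Matrix ι ι F) b i) * hinv
    have hkey : μ * ((x : Matrix ι ι F) i j * ((x⁻¹ : GL ι F) : Matrix ι ι F) j i) = (μ - 1) ^ 2 * (C * μ - 1) := by
      rw [hC, hxij]
      linear_combination ((μ - 1) * ((m : Matrix ι ι F) i b * ((m⁻¹ : GL ι F) : Matrix ι ι F) b j)) * hxji -
        (μ - 1) ^ 2 * ((m : Matrix ι ι F) j b * ((m⁻¹ : GL ι F) : Matrix ι ι F) b j) * hPi -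
        (μ - 1) ^ 2 * hPj
    rcases entry_prod_of_unique hM h4 hu hx hxm i j (hz hx hxm i)
      (hz (M.inv_mem hx) (fun e => hxm (by simpa using e.inv)) j) with e | e
    · rw [e, mul_zero] at hkey; exact Or.inl hkey.symm
    · rw [e, mul_one] at hkey; exact Or.inr hkey.symm
  by_cases hq : Fintype.card F = 5
  · have f5 : (5 : F) = 0 := five_eq_zero hq
    have h10 : (1 : F) ≠ 0 := one_ne_zero
    have h20 : (2 : F) ≠ 0 := fun e => h10 (by linear_combination f5 - 2 * e)
    have h30 : (3 : F) ≠ 0 := fun e => h10 (by linear_combination 2 * e - f5)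
    have h21 : (2 : F) ≠ 1 := fun e => h10 (by linear_combination e)
    have h31 : (3 : F) ≠ 1 := fun e => h20 (by linear_combination e)
    rcases hμ 2 h20 h21 with e | e <;> rcases hμ 3 h30 h31 with e' | e'
    · exact h20 (by linear_combination e' - 6 * e)
    · exact h10 (by linear_combination 6 * e - e')
    · exact h10 (by linear_combination 6 * e - e' + 3 * f5)
    · exact h10 (by linear_combination e' - 6 * e - 2 * f5)
  · let p : Polynomial F := Polynomial.X * (Polynomial.X - 1) *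
      ((Polynomial.C C * Polynomial.X - 1) *
        ((Polynomial.X - 1) ^ 2 * (Polynomial.C C * Polynomial.X - 1) - Polynomial.X))
    have hdeg : p.natDegree ≤ 6 := by simp only [p]; compute_degree
    have hp0 : p ≠ 0 := by
      intro e
      have h1 := congrArg (fun s => Polynomial.coeff s 1) e
      simp only [p, mul_assoc, Polynomial.coeff_X_mul, Polynomial.coeff_zero, Polynomial.coeff_zero_eq_eval_zero] at h1
      simp at h1
    have hcard := Finset.card_le_card (show (Finset.univ : Finset F) ⊆ p.roots.toFinset from fun μ _ => by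
      rw [Multiset.mem_toFinset, Polynomial.mem_roots hp0, Polynomial.IsRoot]
      simp only [p, Polynomial.eval_mul, Polynomial.eval_sub, Polynomial.eval_X, Polynomial.eval_one,
        Polynomial.eval_C, Polynomial.eval_pow]
      by_cases h0 : μ = 0
      · simp [h0]
      by_cases h1 : μ = 1
      · simp [h1]
      rcases hμ μ h0 h1 with e | e
      · rw [(mul_eq_zero.1 e).resolve_left (pow_ne_zero 2 (sub_ne_zero.2 h1))]; ring
      · rw [e]; ring)
    have h1 := (Multiset.toFinset_card_le p.roots).trans (Polynomial.card_roots' p)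
    have h2 := card_ne_six (F := F)
    rw [Finset.card_univ] at hcard
    omega

/-- Zeros in a column are unique if zeros in a row are, for all groups over the monomial group. -/
theorem col_unique_of_row (hM : Over M)
    (H : ∀ {N : Subgroup (GL ι F)}, Over N → (∀ a b, a ≠ b → ¬ ElemIn N a b) → ∀ {x : GL ι F}, x ∈ N →
      ¬ Mono x → ∀ {r p q : ι}, (x : Matrix ι ι F) r p = 0 → (x : Matrix ι ι F) r q = 0 → p = q)
    (hno : ∀ a b, a ≠ b → ¬ ElemIn M a b) {x : GL ι F} (hx : x ∈ M) (hxm : ¬ Mono x) {r p q : ι}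
    (hp : (x : Matrix ι ι F) p r = 0) (hq : (x : Matrix ι ι F) q r = 0) : p = q :=
  H (over_comap hM) (fun a b hab h => hno b a hab.symm (elem_of_dual hab h))
    (x := dual x⁻¹) (Subgroup.mem_comap.2 (by rw [dual_dual]; exact M.inv_mem hx))
    (fun h => hxm (by simpa [dual_dual] using (mono_dual h).inv)) (r := r)
    (by rw [coe_dual, inv_inv, Matrix.transpose_apply]; exact hp)
    (by rw [coe_dual, inv_inv, Matrix.transpose_apply]; exact hq)

/-- A further element of a group over the monomial group yields an elementary transvection. -/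
theorem elem_exists_six (hM : Over M) (h5 : 5 ≤ Fintype.card F) (h6 : 6 ≤ Fintype.card ι) {m : GL ι F}
    (hm : m ∈ M) (hnm : ¬ Mono m) : ∃ a b, a ≠ b ∧ ElemIn M a b := by
  by_contra hgoal
  have hno : ∀ a b, a ≠ b → ¬ ElemIn M a b := fun a b hab h => hgoal ⟨a, b, hab, h⟩
  exact false_of_zeros hM h5 (by omega) (fun hx hxm => row_zero_unique hM h5 h6 hno hx hxm)
    (fun hx hxm => col_unique_of_row hM (fun {_} hN hn {_} hx hxm => row_zero_unique hN h5 h6 hn hx hxm) hno hx hxm)
    (fun hx hxm => exists_row_zero hM h5 h6 hno hx hxm) hm hnm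

/-- An elementary transvection and the monomial group generate the special linear group. -/
theorem specialLinear_le_of_elem (hM : Over M) (h4 : 4 ≤ Fintype.card ι) {a b : ι} (hab : a ≠ b)
    (hel : ElemIn M a b) : Cfsg.Geo.specialLinear ι F ≤ M := by
  classical
  have hall : ∀ i j, i ≠ j → ElemIn M i j := by
    intro i j hij c
    obtain ⟨σ, hσa, hσb⟩ : ∃ σ : Equiv.Perm ι, σ a = i ∧ σ b = j := by
      refine ⟨Equiv.swap (Equiv.swap a i b) j * Equiv.swap a i, ?_, by simp⟩
      have h1 : i ≠ Equiv.swap a i b := fun e => hab (by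
        have := congrArg (Equiv.swap a i) e
        simpa using this)
      rw [Equiv.Perm.mul_apply, Equiv.swap_apply_left, Equiv.swap_apply_of_ne_of_ne h1 hij]
    obtain ⟨r, hra, hrb, -⟩ := exists_third h4 a b a
    obtain ⟨g, hg, γ, hγ, hgr, hgj⟩ := exists_mem_pm_off hM σ r (1 : ι → F) (fun _ _ => one_ne_zero)
    obtain ⟨d, hd⟩ : ∃ d : ι → F, d = Function.update (1 : ι → F) r γ := ⟨_, rfl⟩
    have hcol : ∀ k, act g (Pi.single k 1) = d k • Pi.single (σ k) 1 := by
      intro k
      rcases eq_or_ne k r with rfl | hk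
      · rw [hgr, hd]; simp
      · rw [hgj k hk, hd]; simp [hk]
    obtain ⟨h, hh, hhx⟩ := hel c
    refine ⟨g * h * g⁻¹, M.mul_mem (M.mul_mem hg hh) (M.inv_mem hg), fun y => ?_⟩
    have hb' : act g⁻¹ y b = y j := by
      have := act_mono_coord hcol (act g⁻¹ y) b
      rw [act_act_inv, hσb, hd, Function.update_of_ne hrb.symm] at this
      simpa using this.symm
    rw [act_mul, act_mul, hhx, map_add, map_smul, act_act_inv, hb', hcol, hd, Function.update_of_ne hra.symm, hσa]
    simp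
  intro g hg
  suffices H : ∀ A : Matrix.SpecialLinearGroup ι F, Matrix.SpecialLinearGroup.toGL A ∈ M by
    have := H ⟨(g : Matrix ι ι F), mem_specialLinear_iff.1 hg⟩
    rwa [show Matrix.SpecialLinearGroup.toGL ⟨(g : Matrix ι ι F), mem_specialLinear_iff.1 hg⟩ = g from Units.ext rfl]
      at this
  intro A
  refine Cfsg.Agent.GL.SL_induction (fun A => Matrix.SpecialLinearGroup.toGL A ∈ M) (by simp) (fun i j hij c => ?_)
    (fun A B hA hB => by rw [map_mul]; exact M.mul_mem hA hB) A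
  obtain ⟨h, hh, hhx⟩ := hall i j hij c
  rwa [show Matrix.SpecialLinearGroup.toGL (Matrix.SpecialLinearGroup.transvection hij c) = h from gl_ext fun x => by
    rw [hhx, act_apply]
    change ((Matrix.SpecialLinearGroup.transvection hij c : Matrix.SpecialLinearGroup ι F) : Matrix ι ι F) *ᵥ x = _
    rw [Matrix.SpecialLinearGroup.transvection_coe, Matrix.add_mulVec, Matrix.one_mulVec, Matrix.single_mulVec]
    funext k
    by_cases hk : k = i <;> simp [hk]]

/-- The monomial group is maximal, in degree at least six. -/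
theorem specialLinear_le_six (hM : Over M) (h5 : 5 ≤ Fintype.card F) (h6 : 6 ≤ Fintype.card ι) {m : GL ι F}
    (hm : m ∈ M) (hnm : ¬ Mono m) : Cfsg.Geo.specialLinear ι F ≤ M := by
  obtain ⟨a, b, hab, hel⟩ := elem_exists_six hM h5 h6 hm hnm
  exact specialLinear_le_of_elem hM (by omega) hab hel

end Cfsg.Agent.MaxCl.Monom
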