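/-
The similarity group of a quadratic form in odd characteristic is maximal in the special linear group:
an element outside gives a transvection by a commutator with a Siegel element, and transvections spread.
-/
import Cfsg.Agent.Lib.MaxCl.OrthParabolic

set_option autoImplicit false

namespace Cfsg.Agent.MaxCl.Orth

open scoped MatrixGroups Matrix
open Module (finrank)

variable {ι : Type} [Fintype ι] [DecidableEq ι] {F : Type*} [Field F] {Q : QuadraticForm F (ι → F)}

set_option quotPrecheck false in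
local notation "B" => QuadraticMap.polar (⇑Q)

variable (Q) in
/-- all multiples of the transvection `x ↦ x + B(c,x) v` lie in `M` -/
def TvPol (M : Subgroup (GL ι F)) (c v : ι → F) : Prop :=
  B c v = 0 ∧ ∀ a : F, tv (QuadraticMap.polarBilin Q c) (a • v) ∈ M

theorem act_tvPol {c v : ι → F} (h : B c v = 0) (x : ι → F) :
    act (tv (QuadraticMap.polarBilin Q c) v) x = x + B c x • v :=
  act_tv (φ := QuadraticMap.polarBilin Q c) h x

theorem sg_mem_similarity (u w : ι → F) :
    sg Q u w ∈ Cfsg.Geo.quadSimilarityGroup ⇑Q :=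
  ⟨1, fun v => by rw [Units.val_one, one_mul, ← act_apply, Q_act (sg_mem_iso Q u w)]⟩

theorem det_sg_comm {g : GL ι F} (hg : g ∈ Cfsg.Geo.omegaGL ⇑Q) : g ∈ Cfsg.Geo.specialLinear ι F := by
  obtain ⟨h, hh, rfl⟩ := hg
  exact Abelianization.commutator_subset_ker
    ((Matrix.GeneralLinearGroup.det (n := ι) (R := F)).comp (isometryGroup F ⇑Q).subtype) hh

variable [Fintype F] (hQ : (QuadraticMap.polarBilin Q).Nondegenerate) (h2 : (2 : F) ≠ 0)
  (hn : 6 ≤ Fintype.card ι)
include hQ hn

theorem sg_mem_sl (u w : ι → F) :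
    sg Q u w ∈ Cfsg.Geo.specialLinear ι F := by
  exact det_sg_comm (sg_mem_omega hQ (by omega) u w)

omit hn in
theorem finrank_perp_span_two (a b : ι → F) :
    Fintype.card ι ≤ finrank F (perp Q (Submodule.span F (Set.range ![a, b]))) + 2 := by
  rw [finrank_perp hQ]
  have := finrank_span_list_le (F := F) ![a, b]
  omega

/-- a singular vector of `D` outside `E` -/
theorem exists_singular_outside {D E : Submodule F (ι → F)}
    (hdim : finrank F (perp Q D) + 3 ≤ finrank F ↥(D ⊓ E)) (h : ¬ D ≤ E) :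
    ∃ d ∈ D, d ∉ E ∧ Q d = 0 := by
  obtain ⟨z, hzD, hzE⟩ := SetLike.not_le_iff_exists.1 h
  obtain ⟨s, hs, hsP, hQs⟩ := exists_singular_notMem Q (D := D ⊓ E) (E := perp Q D) hdim
  rw [mem_perp] at hsP
  push Not at hsP
  obtain ⟨e, he, hes⟩ := hsP
  obtain ⟨y, hyD, hyE, hsy⟩ : ∃ y ∈ D, y ∉ E ∧ B s y ≠ 0 := by
    by_cases hsz : B s z = 0
    · by_cases heE : e ∈ E
      · refine ⟨z + e, D.add_mem hzD he, fun h => hzE ((E.add_mem_iff_left heE).1 h), ?_⟩
        rw [B_add_right Q, hsz, zero_add, B_comm Q s e]; exact hes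
      · exact ⟨e, he, heE, by rw [B_comm Q s e]; exact hes⟩
    · exact ⟨z, hzD, hzE, hsz⟩
  refine ⟨y - (Q y / B s y) • s, D.sub_mem hyD (D.smul_mem _ hs.1), fun h => hyE ?_, ?_⟩
  · simpa using E.add_mem h (E.smul_mem (Q y / B s y) hs.2)
  · rw [Q_sub Q, Q_smul Q, B_smul_right Q, hQs, B_comm Q y s, div_mul_cancel₀ _ hsy]; ring

/-- singular vectors of a hyperplane `a⊥` separate its points off `a` -/
theorem exists_singular_sep {a z : ι → F} (haz : B a z = 0) (hz : z ∉ F ∙ a) :
    ∃ s, Q s = 0 ∧ B a s = 0 ∧ B z s ≠ 0 := by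
  obtain ⟨p, hp, hp1⟩ := exists_perp_one hQ (P := F ∙ a) (v := z) hz
  obtain ⟨s, hs, hsz, hQs⟩ := exists_singular_outside hQ hn (D := perp Q (F ∙ a)) (E := perp Q (F ∙ z)) (by
    have h1 := Submodule.finrank_sup_add_finrank_inf_eq (perp Q (F ∙ a)) (perp Q (F ∙ z))
    have h3 := Submodule.finrank_le (perp Q (F ∙ a) ⊔ perp Q (F ∙ z))
    rw [Module.finrank_pi] at h3
    rw [finrank_perp hQ, finrank_perp hQ] at h1
    rw [perp_perp hQ]
    have ha1 : ∀ w : ι → F, finrank F (F ∙ w) ≤ 1 := fun w => (finrank_span_le_card _).trans (by simp)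
    have := ha1 a
    have := ha1 z
    omega) (fun h => by
      have h1 := h hp
      rw [mem_perp_span] at h1
      exact one_ne_zero (hp1.symm.trans (h1 z rfl)))
  rw [mem_perp_span] at hs hsz
  exact ⟨s, hQs, hs a rfl, by simpa using hsz⟩

/-- elements respecting the orthogonality of singular pairs are similarities -/
theorem similarity_of_respects (h2 : (2 : F) ≠ 0) (g : GL ι F)
    (h : ∀ a b y : ι → F, Q a = 0 → Q b = 0 → B a b = 0 → b ∉ F ∙ a → B a y = 0 → B b y = 0 →
      B (act g a) (act g y) = 0) :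
    g ∈ Cfsg.Geo.quadSimilarityGroup ⇑Q := by
  have hker : ∀ a y, Q a = 0 → B a y = 0 → B (act g a) (act g y) = 0 := by
    intro a y ha hay
    rcases eq_or_ne a 0 with rfl | ha0
    · rw [map_zero, B_zero_left Q]
    obtain ⟨b, hb, hba, hQb⟩ := exists_singular_notMem Q (D := perp Q (Submodule.span F (Set.range ![a, y])))
      (E := F ∙ a) (by
        rw [finrank_span_singleton ha0]
        have := finrank_perp_span_two hQ a y
        omega)
    rw [mem_perp_span] at hb
    exact h a b y ha hQb (hb a ⟨0, rfl⟩) hba hay ((B_comm Q b y).trans (hb y ⟨1, rfl⟩))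
  have hprop : ∀ a z, Q a = 0 → B a z ≠ 0 → ∀ y,
      B (act g a) (act g y) = B (act g a) (act g z) / B a z * B a y := by
    intro a z ha haz y
    have h1 := hker a (y - (B a y / B a z) • z) ha (by
      rw [B_sub_right Q, B_smul_right Q, div_mul_cancel₀ _ haz, sub_self])
    rw [map_sub, map_smul, B_sub_right Q, B_smul_right Q, sub_eq_zero] at h1
    rw [h1]; ring
  obtain ⟨u, v, -, -, hu, hv, -, -, huv, -⟩ := exists_two_pairs (Q := Q) hQ (by omega)
  obtain ⟨lam, hlam⟩ : ∃ lam, lam = B (act g u) (act g v) := ⟨_, rfl⟩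
  have hvu : B v u = 1 := (B_comm Q v u).trans huv
  have hpu : ∀ y, B (act g u) (act g y) = lam * B u y := fun y => by
    rw [hprop u v hu (by rw [huv]; exact one_ne_zero) y, huv, hlam, div_one]
  have hpv : ∀ y, B (act g v) (act g y) = lam * B v y := fun y => by
    rw [hprop v u hv (by rw [hvu]; exact one_ne_zero) y, hvu, hlam, div_one, B_comm Q (act g v)]
  have hsing : ∀ a, Q a = 0 → ∀ y, B (act g a) (act g y) = lam * B a y := by
    have hone : ∀ a, Q a = 0 → B a u ≠ 0 → ∀ y, B (act g a) (act g y) = lam * B a y := by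
      intro a ha hau y
      rw [hprop a u ha hau y, B_comm Q (act g a), hpu, B_comm Q u a, mul_div_assoc, div_self hau, mul_one]
    intro a ha y
    by_cases hau : B a u = 0
    · by_cases hav : B a v = 0
      · have h1 := hone (a + v) (by rw [Q_add Q, ha, hv, hav]; ring)
          (by rw [B_add_left Q, hau, hvu, zero_add]; exact one_ne_zero) y
        rw [map_add, B_add_left Q, hpv, B_add_left Q] at h1
        linear_combination h1
      · rw [hprop a v ha hav y, B_comm Q (act g a), hpv, B_comm Q v a, mul_div_assoc, div_self hav, mul_one]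
    · exact hone a ha hau y
  have hall : ∀ w y, B (act g w) (act g y) = lam * B w y := by
    have hone : ∀ w, B u w ≠ 0 → ∀ y, B (act g w) (act g y) = lam * B w y := by
      intro w huw y
      obtain ⟨c, hc⟩ : ∃ c : F, Q (w + c • u) = 0 :=
        ⟨-Q w / B u w, by rw [Q_add Q, Q_smul Q, hu, B_smul_right Q, B_comm Q w u, div_mul_cancel₀ _ huw]; ring⟩
      have h1 := hsing _ hc y
      rw [map_add, map_smul, B_add_left Q, B_smul_left Q, hpu, B_add_left Q, B_smul_left Q] at h1
      linear_combination h1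
    intro w y
    by_cases huw : B u w = 0
    · have h1 := hone (w + v) (by rw [B_add_right Q, huw, huv, zero_add]; exact one_ne_zero) y
      rw [map_add, B_add_left Q, hpv, B_add_left Q] at h1
      linear_combination h1
    · exact hone w huw y
  have hlam0 : lam ≠ 0 := by
    intro e
    obtain ⟨z, hz⟩ := exists_B_ne_zero hQ (x := act g u) (fun e' => by
      have := congrArg (fun x => B x v) (act_injective g (e'.trans (map_zero _).symm))
      simp [huv, B_zero_left Q] at this)
    rw [← act_act_inv g z, hall, e, zero_mul] at hz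
    exact hz rfl
  refine ⟨Units.mk0 lam hlam0, fun w => ?_⟩
  have h1 := hall w w
  rw [B_self Q, B_self Q] at h1
  rw [Units.val_mk0, ← act_apply]
  exact mul_left_cancel₀ h2 (by linear_combination h1)

variable {M : Subgroup (GL ι F)}

/-- a transvection from an element outside the similarity group -/
theorem exists_tvPol (h2 : (2 : F) ≠ 0) (hsg : ∀ u w, sg Q u w ∈ M) {g : GL ι F} (hg : g ∈ M)
    (hgs : g ∉ Cfsg.Geo.quadSimilarityGroup ⇑Q) :
    ∃ c v : ι → F, Q c = 0 ∧ c ≠ 0 ∧ v ≠ 0 ∧ TvPol Q M c v := by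
  -- some singular vector goes to a non-singular one
  obtain ⟨a, ha, hA⟩ : ∃ a, Q a = 0 ∧ Q (act g a) ≠ 0 := by
    by_contra h
    push Not at h
    refine hgs (similarity_of_respects hQ hn h2 g fun a b y ha _ _ _ hay _ => ?_)
    have key : ∀ s, Q s = 0 → B a s = 0 → B (act g a) (act g s) = 0 := fun s hs has => by
      have h1 := h (a + s) (by rw [Q_add Q, ha, hs, has]; ring)
      rwa [map_add, Q_add Q, h a ha, h s hs, zero_add, zero_add] at h1
    by_cases hy : y ∈ F ∙ a
    · obtain ⟨r, rfl⟩ := Submodule.mem_span_singleton.1 hy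
      rw [map_smul, B_smul_right Q, B_self_of_singular Q (h a ha), mul_zero]
    obtain ⟨s, hQs, has, hys⟩ := exists_singular_sep hQ hn hay hy
    have h1 := key (y + (-Q y / B y s) • s)
      (by rw [Q_add Q, Q_smul Q, hQs, B_smul_right Q, div_mul_cancel₀ _ hys]; ring)
      (by rw [B_add_right Q, B_smul_right Q, hay, has]; ring)
    rwa [map_add, map_smul, B_add_right Q, B_smul_right Q, key s hQs has, mul_zero, add_zero] at h1
  have ha0 : a ≠ 0 := fun e => hA (by rw [e, map_zero, QuadraticMap.map_zero])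
  have haa : B a a = 0 := B_self_of_singular Q ha
  have hA2 : B (act g a) (act g a) = 2 * Q (act g a) := B_self Q _
  have hperp1 : ∀ z : ι → F, Fintype.card ι ≤ finrank F (perp Q (F ∙ z)) + 1 := fun z => by
    rw [finrank_perp hQ]
    have : finrank F (F ∙ z) ≤ 1 := (finrank_span_le_card _).trans (by simp)
    omega
  -- the centre of the new transvection
  obtain ⟨u, hu, hu0, hQu⟩ := exists_singular Q (D := perp Q (F ∙ act g a) ⊓ (perp Q (F ∙ a)).map (act g)) (by
    have h1 := Submodule.finrank_sup_add_finrank_inf_eq (perp Q (F ∙ act g a)) ((perp Q (F ∙ a)).map (act g))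
    have h3 := Submodule.finrank_le (perp Q (F ∙ act g a) ⊔ (perp Q (F ∙ a)).map (act g))
    rw [Module.finrank_pi] at h3
    rw [finrank_map_act] at h1
    have := hperp1 a
    have := hperp1 (act g a)
    omega)
  obtain ⟨hu1, u₁, hu₁, hu₁e⟩ := hu
  rw [SetLike.mem_coe, mem_perp_span] at hu1
  rw [SetLike.mem_coe, mem_perp_span] at hu₁
  have hAu : B (act g a) u = 0 := hu1 _ rfl
  have hau : B a (act g⁻¹ u) = 0 := by rw [← hu₁e, act_inv_act]; exact hu₁ a rfl
  have huA : B u (act g a) = 0 := (B_comm Q _ _).trans hAu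
  -- the second vector
  obtain ⟨w, hw, hwa⟩ : ∃ w ∈ perp Q (F ∙ a) ⊓ (perp Q (F ∙ act g⁻¹ u) ⊓ (perp Q (F ∙ u)).map (act g⁻¹)),
      w ∉ F ∙ a := by
    refine SetLike.not_le_iff_exists.1 fun h => ?_
    have h0 := Submodule.finrank_mono h
    rw [finrank_span_singleton ha0] at h0
    have h1 := Submodule.finrank_sup_add_finrank_inf_eq (perp Q (F ∙ a))
      (perp Q (F ∙ act g⁻¹ u) ⊓ (perp Q (F ∙ u)).map (act g⁻¹))
    have h3 := Submodule.finrank_le
      (perp Q (F ∙ a) ⊔ (perp Q (F ∙ act g⁻¹ u) ⊓ (perp Q (F ∙ u)).map (act g⁻¹)))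
    have h4 := Submodule.finrank_sup_add_finrank_inf_eq (perp Q (F ∙ act g⁻¹ u))
      ((perp Q (F ∙ u)).map (act g⁻¹))
    have h5 := Submodule.finrank_le (perp Q (F ∙ act g⁻¹ u) ⊔ (perp Q (F ∙ u)).map (act g⁻¹))
    rw [Module.finrank_pi] at h3 h5
    rw [finrank_map_act] at h4
    have := hperp1 a
    have := hperp1 u
    have := hperp1 (act g⁻¹ u)
    omega
  obtain ⟨hw1, hw2, w₁, hw₁, hw₁e⟩ := hw
  rw [SetLike.mem_coe, mem_perp_span] at hw1 hw2 hw₁
  have haw : B a w = 0 := hw1 a rfl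
  have hwu : B w (act g⁻¹ u) = 0 := (B_comm Q _ _).trans (hw2 _ rfl)
  have huw : B u (act g w) = 0 := by rw [← hw₁e, act_act_inv]; exact hw₁ u rfl
  obtain ⟨s, hs⟩ : ∃ s, s = sg Q u (act g a) := ⟨_, rfl⟩
  have hsM : s ∈ M := hs ▸ hsg _ _
  have hsu : act s u = u := by rw [hs]; exact act_sg_fix Q hQu huA (B_self_of_singular Q hQu) hAu
  -- the commutators
  obtain ⟨ψ, hψ⟩ : ∃ ψ : F → (ι → F) → F, ψ = fun k z => -(B a (act g⁻¹ z) * (k * B (act g a) (act g w)) -
      (k * B w (act g⁻¹ z) + k ^ 2 * Q w * B a (act g⁻¹ z)) * (2 * Q (act g a))) := ⟨_, rfl⟩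
  have hψu : ∀ k, ψ k u = 0 := fun k => by rw [hψ]; simp only [hau, hwu]; ring
  have hT : ∀ k, ∃ T ∈ M, ∀ z, act T z = z + ψ k z • u := by
    intro k
    obtain ⟨x, hx⟩ : ∃ x, x = g * sg Q a (k • w) * g⁻¹ := ⟨_, rfl⟩
    have hxM : x ∈ M := hx ▸ M.mul_mem (M.mul_mem hg (hsg _ _)) (M.inv_mem hg)
    have hxz : ∀ z, act x z = z + B a (act g⁻¹ z) • k • act g w -
        (k * B w (act g⁻¹ z) + k ^ 2 * Q w * B a (act g⁻¹ z)) • act g a := by
      intro z
      rw [hx, act_mul, act_mul, act_sg Q ha (by rw [B_smul_right Q, haw, mul_zero]), B_smul_left Q, Q_smul Q,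
        map_sub, map_add, map_smul, map_smul, map_smul, act_act_inv]
      module
    have hxu : act x u = u := by rw [hxz, hau, hwu]; simp
    refine ⟨(x * s)⁻¹ * (s * x), M.mul_mem (M.inv_mem (M.mul_mem hxM hsM)) (M.mul_mem hsM hxM), fun z => ?_⟩
    apply act_injective (x * s)
    rw [act_mul (x * s)⁻¹, act_act_inv, map_add, map_smul, show act (x * s) u = u by rw [act_mul, hsu, hxu],
      act_mul, act_mul]
    have hsz : ∀ y, act s y = y + B u y • act g a - (B (act g a) y + Q (act g a) * B u y) • u := fun y => by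
      rw [hs]; exact act_sg Q hQu huA y
    have h1 : B a (act g⁻¹ (act s z)) = B a (act g⁻¹ z) := by
      rw [hsz, map_sub, map_add, map_smul, map_smul, act_inv_act, B_sub_right Q, B_add_right Q,
        B_smul_right Q, B_smul_right Q, haa, hau]
      ring
    have h3 : B w (act g⁻¹ (act s z)) = B w (act g⁻¹ z) := by
      rw [hsz, map_sub, map_add, map_smul, map_smul, act_inv_act, B_sub_right Q, B_add_right Q,
        B_smul_right Q, B_smul_right Q, B_comm Q w a, haw, hwu]
      ring
    rw [hxz (act s z), h1, h3, hsz (act x z), hsz z, hψ]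
    rw [hxz z]
    simp only [B_sub_right Q, B_add_right Q, B_smul_right Q, huA, huw, hA2]
    module
  choose T hTM hTz using hT
  obtain ⟨χ, hχ⟩ : ∃ χ : (ι → F) →ₗ[F] F, χ = (B (act g a) (act g w) • QuadraticMap.polarBilin Q a -
      (2 * Q (act g a)) • QuadraticMap.polarBilin Q w).comp (act g⁻¹) := ⟨_, rfl⟩
  have hχz : ∀ z, χ z = B (act g a) (act g w) * B a (act g⁻¹ z) - 2 * Q (act g a) * B w (act g⁻¹ z) :=
    fun z => by rw [hχ]; rfl
  obtain ⟨z₀, hz₀⟩ : ∃ z₀, QuadraticMap.polarBilin Q z₀ = χ :=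
    ⟨(LinearMap.BilinForm.toDual (QuadraticMap.polarBilin Q) hQ).symm χ, LinearMap.ext fun x =>
      LinearMap.BilinForm.apply_toDual_symm_apply _ _⟩
  have hz₀B : ∀ y, B z₀ y = χ y := fun y => by rw [← hz₀]; rfl
  have hz₀u : B z₀ u = 0 := by rw [hz₀B, hχz, hau, hwu]; ring
  have hz₀0 : z₀ ≠ 0 := by
    intro e
    apply hwa
    refine Submodule.mem_span_singleton.2 ⟨B (act g a) (act g w) / (2 * Q (act g a)), ?_⟩
    refine sub_eq_zero.1 (hQ.1 _ fun y => ?_)
    obtain ⟨y, rfl⟩ : ∃ z, act g⁻¹ z = y := ⟨act g y, act_inv_act g y⟩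
    have h1 := hz₀B y
    rw [e, B_zero_left Q, hχz] at h1
    show B _ _ = 0
    rw [B_sub_left Q, B_smul_left Q]
    field_simp
    linear_combination -h1
  have htv : TvPol Q M z₀ u := by
    refine ⟨hz₀u, fun t => ?_⟩
    have h1 : tv (QuadraticMap.polarBilin Q z₀) (t • u) = T (-t / 2) * (T (t / 2))⁻¹ := by
      refine gl_ext fun z => ?_
      obtain ⟨y, rfl⟩ : ∃ y, act (T (t / 2)) y = z := ⟨_, act_act_inv (T (t / 2)) z⟩
      rw [act_mul, act_inv_act, hTz, hTz, act_tvPol (by rw [B_smul_right Q, hz₀u, mul_zero]),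
        B_add_right Q, B_smul_right Q, hz₀u, mul_zero, add_zero, hz₀B, hχz, hψ]
      match_scalars <;> field_simp <;> ring
    rw [h1]
    exact M.mul_mem (hTM _) (M.inv_mem (hTM _))
  refine ⟨u, u, hQu, hu0, hu0, B_self_of_singular Q hQu, fun k => ?_⟩
  by_cases hzu : z₀ ∈ F ∙ u
  · obtain ⟨r, rfl⟩ := Submodule.mem_span_singleton.1 hzu
    have hr : r ≠ 0 := fun e => hz₀0 (by rw [e, zero_smul])
    have h1 : tv (QuadraticMap.polarBilin Q u) (k • u) = tv (QuadraticMap.polarBilin Q (r • u)) ((k / r) • u) :=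
      gl_ext fun z => by
        rw [act_tvPol (by rw [B_smul_right Q, B_self_of_singular Q hQu, mul_zero]),
          act_tvPol (by rw [B_smul_right Q, hz₀u, mul_zero]), B_smul_left Q, smul_smul, smul_smul]
        congr 2; field_simp
    rw [h1]; exact htv.2 _
  obtain ⟨e, he, he1⟩ := exists_perp_one hQ (P := F ∙ u) (v := z₀) hzu
  rw [mem_perp_span] at he
  have hue : B u e = 0 := he u rfl
  have huz : B u z₀ = 0 := (B_comm Q _ _).trans hz₀u
  obtain ⟨σ, hσ⟩ : ∃ σ, σ = sg Q u e := ⟨_, rfl⟩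
  have hσz : act σ z₀ = z₀ - u := by
    rw [hσ, act_sg Q hQu hue, huz, B_comm Q e z₀, he1]; simp
  have hσu : act σ u = u := by
    rw [hσ]; exact act_sg_fix Q hQu hue (B_self_of_singular Q hQu) ((B_comm Q e u).trans hue)
  have h1 : tv (QuadraticMap.polarBilin Q u) (k • u) = tv (QuadraticMap.polarBilin Q z₀) (k • u) *
      (σ * tv (QuadraticMap.polarBilin Q z₀) ((-k) • u) * σ⁻¹) := by
    refine gl_ext fun z => ?_
    obtain ⟨y, rfl⟩ : ∃ y, act σ y = z := ⟨_, act_act_inv σ z⟩
    have z1 : ∀ c : F, B z₀ (c • u) = 0 := fun c => by rw [B_smul_right Q, hz₀u, mul_zero]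
    have u1 : ∀ c : F, B u (c • u) = 0 := fun c => by rw [B_smul_right Q, B_self_of_singular Q hQu, mul_zero]
    rw [act_mul, act_mul, act_mul, act_inv_act, act_tvPol (u1 k), act_tvPol (z1 k), act_tvPol (z1 (-k)), map_add,
      map_smul, map_smul, hσu, B_add_right Q, B_smul_right Q, z1 (-k), mul_zero, add_zero]
    have h3 : B z₀ (act σ y) = B z₀ y + B u (act σ y) := by
      rw [← B_act (hσ ▸ sg_mem_iso Q u e) (x := z₀) (y := y), hσz, B_sub_left Q]; ring
    rw [h3]
    module
  rw [h1]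
  exact M.mul_mem (htv.2 k) (M.mul_mem (M.mul_mem (hσ ▸ hsg u e) (htv.2 (-k))) (M.inv_mem (hσ ▸ hsg u e)))

/-- one transvection gives all -/
theorem sl_le_of_tvPol (h2 : (2 : F) ≠ 0) (hsg : ∀ u w, sg Q u w ∈ M) {c v : ι → F} (hc : Q c = 0) (hc0 : c ≠ 0)
    (hv0 : v ≠ 0) (hcv : TvPol Q M c v) : Cfsg.Geo.specialLinear ι F ≤ M := by
  have hspan : ∀ a z : ι → F, B a z = 0 → z ∉ F ∙ a → ∃ s, Q s = 0 ∧ B a s = 0 ∧ B z s ≠ 0 :=
    fun a z h h' => exists_singular_sep hQ hn h h'
  have htop : ∀ z : ι → F, z ≠ 0 → ∃ w, B z w ≠ 0 := fun z hz => exists_B_ne_zero hQ hz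
  -- the root group of `c`
  have hroot : TvPol Q M c c := by
    refine ⟨B_self_of_singular Q hc, fun k => ?_⟩
    by_cases hvc : v ∈ F ∙ c
    · obtain ⟨r, rfl⟩ := Submodule.mem_span_singleton.1 hvc
      have hr : r ≠ 0 := fun h => hv0 (by rw [h, zero_smul])
      have := hcv.2 (k / r)
      rwa [smul_smul, div_mul_cancel₀ _ hr] at this
    obtain ⟨w, hw, hwv⟩ := exists_perp_one hQ (P := F ∙ c) (v := v) hvc
    rw [mem_perp_span] at hw
    have hcw : B c w = 0 := hw c rfl
    have h1 := hcv.2 (-k)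
    have h3 := M.mul_mem (M.mul_mem (hsg c w) h1) (M.inv_mem (hsg c w))
    have h4 := M.mul_mem h3 (hcv.2 k)
    have hk : B c ((-k) • v) = 0 := by rw [B_smul_right Q, hcv.1, mul_zero]
    have hk' : B c (k • v) = 0 := by rw [B_smul_right Q, hcv.1, mul_zero]
    convert h4 using 1
    apply gl_ext; intro x
    obtain ⟨y, rfl⟩ : ∃ y, act (sg Q c w) y = x := ⟨_, act_act_inv (sg Q c w) x⟩
    have hsc : B c (act (sg Q c w) y) = B c y := by
      rw [act_sg Q hc hcw, B_sub_right Q, B_add_right Q, B_smul_right Q, B_smul_right Q, hcw,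
        B_self_of_singular Q hc]
      ring
    have hsv : act (sg Q c w) v = v - c := by
      rw [act_sg Q hc hcw, hcv.1, B_comm Q w v, hwv]; simp
    have hsy : B c (act (sg Q c w)⁻¹ (act (sg Q c w) y + B c y • k • v)) = B c y := by
      obtain ⟨y', hy'⟩ : ∃ y', y' = act (sg Q c w)⁻¹ (act (sg Q c w) y + B c y • k • v) := ⟨_, rfl⟩
      rw [← hy']
      have h := congrArg (act (sg Q c w)) hy'
      rw [act_act_inv] at h
      have h' := congrArg (B c) h
      rw [B_add_right Q, hsc, B_smul_right Q, hk', mul_zero, add_zero, act_sg Q hc hcw, B_sub_right Q,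
        B_add_right Q, B_smul_right Q, B_smul_right Q, hcw, B_self_of_singular Q hc] at h'
      linear_combination h'
    rw [act_tvPol (by rw [B_smul_right Q, B_self_of_singular Q hc, mul_zero]), act_mul, act_mul, act_mul,
      act_tvPol hk', hsc, act_tvPol hk, hsy, map_add, act_act_inv, map_smul, map_smul, hsv]
    module
  -- moving it around
  have hmove : ∀ {a b : ι → F}, Q a = 0 → Q b = 0 → B a b = 0 → a ≠ 0 → b ∉ F ∙ a → TvPol Q M a a →
      TvPol Q M b b := by
    intro a b ha hb hab ha0 hba h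
    have hb0 : b ≠ 0 := fun e => hba (by rw [e]; exact zero_mem _)
    refine ⟨B_self_of_singular Q hb, fun k => ?_⟩
    obtain ⟨z₁, hz1, hz11⟩ := exists_perp_one hQ (P := F ∙ a) (v := b) hba
    obtain ⟨z₂, hz2, hz22⟩ := exists_perp_one hQ (P := F ∙ b) (v := a) (fun h' => by
      obtain ⟨r, hr⟩ := Submodule.mem_span_singleton.1 h'
      rcases eq_or_ne r 0 with rfl | hr0
      · exact ha0 (by rw [← hr, zero_smul])
      · exact hba (Submodule.mem_span_singleton.2 ⟨r⁻¹, by rw [← hr, inv_smul_smul₀ hr0]⟩))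
    rw [mem_perp_span] at hz1 hz2
    have h11 : B a z₁ = 0 := hz1 a rfl
    have h22 : B b z₂ = 0 := hz2 b rfl
    obtain ⟨z, hz⟩ : ∃ z, z = z₁ + z₂ := ⟨_, rfl⟩
    have haz : B a z = 1 := by rw [hz, B_add_right Q, h11, hz22, zero_add]
    have hbz : B b z = 1 := by rw [hz, B_add_right Q, h22, hz11, add_zero]
    obtain ⟨u, hu⟩ : ∃ u, u = z - Q z • a := ⟨_, rfl⟩
    have hau : B a u = 1 := by rw [hu, B_sub_right Q, B_smul_right Q, haz, B_self_of_singular Q ha]; ring
    have hbu : B b u = 1 := by rw [hu, B_sub_right Q, B_smul_right Q, hbz, B_comm Q b a, hab]; ring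
    have hQu : Q u = 0 := by rw [hu, Q_sub Q, Q_smul Q, B_smul_right Q, B_comm Q z a, haz, ha]; ring
    have huw : B u (b - a) = 0 := by rw [B_sub_right Q, B_comm Q u b, B_comm Q u a, hau, hbu, sub_self]
    have himg : act (sg Q u (b - a)) a = b := by
      rw [act_sg Q hQu huw, Q_sub Q, hb, ha, B_comm Q u a, hau, B_comm Q b a, hab, B_sub_left Q,
        B_comm Q b a, hab, B_self_of_singular Q ha]
      module
    have hS := hsg u (b - a)
    have h1 := M.mul_mem (M.mul_mem hS (h.2 k)) (M.inv_mem hS)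
    rw [conj_tv _ (show QuadraticMap.polarBilin Q a (k • a) = 0 by simp [B_smul_right Q, B_self_of_singular Q ha]),
      map_smul, himg] at h1
    convert h1 using 2
    apply LinearMap.ext; intro x
    simp only [LinearMap.comp_apply, QuadraticMap.polarBilin_apply_apply]
    conv_lhs => rw [← himg, ← act_act_inv (sg Q u (b - a)) x]
    rw [B_act (sg_mem_iso Q u (b - a))]
  have hroots : ∀ a, Q a = 0 → TvPol Q M a a := by
    intro a ha
    rcases eq_or_ne a 0 with rfl | ha0
    · refine ⟨B_zero_left Q 0, fun k => ?_⟩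
      rw [smul_zero, show tv (QuadraticMap.polarBilin Q 0) (0 : ι → F) = 1 from gl_ext fun x => by
        rw [act_tv (by simp)]; simp [act_one]]
      exact M.one_mem
    by_cases hac : a ∈ F ∙ c
    · obtain ⟨r, rfl⟩ := Submodule.mem_span_singleton.1 hac
      refine ⟨B_self_of_singular Q ha, fun k => ?_⟩
      have h1 := hroot.2 (r * k * r)
      rwa [show tv (QuadraticMap.polarBilin Q c) ((r * k * r) • c) =
        tv (QuadraticMap.polarBilin Q (r • c)) (k • r • c) from gl_ext fun z => by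
          rw [act_tvPol (by rw [B_smul_right Q, B_self_of_singular Q hc, mul_zero]),
            act_tvPol (by rw [B_smul_right Q, B_self_of_singular Q ha, mul_zero]), B_smul_left Q]
          module] at h1
    by_cases hca : B c a = 0
    · exact hmove hc ha hca hc0 hac hroot
    obtain ⟨e, he, hec, hQe⟩ : ∃ e ∈ perp Q (Submodule.span F (Set.range ![c, a])),
        e ∉ Submodule.span F (Set.range ![c, a]) ∧ Q e = 0 := by
      obtain ⟨e, he, he0, hQe⟩ := exists_singular Q (D := perp Q (Submodule.span F (Set.range ![c, a]))) (by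
        have := finrank_perp_span_two hQ c a
        omega)
      refine ⟨e, he, fun h => he0 ?_, hQe⟩
      rw [mem_perp_span] at he
      obtain ⟨f, rfl⟩ := (Submodule.mem_span_range_iff_exists_fun F).1 h
      simp only [Fin.sum_univ_two, Matrix.cons_val_zero, Matrix.cons_val_one] at he ⊢
      generalize f 0 = p at he ⊢
      generalize f 1 = q at he ⊢
      have h1 : B c (p • c + q • a) = 0 := he c ⟨0, rfl⟩
      have h3 : B a (p • c + q • a) = 0 := he a ⟨1, rfl⟩
      rw [B_add_right Q, B_smul_right Q, B_smul_right Q, B_self_of_singular Q hc, mul_zero, zero_add] at h1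
      rw [B_add_right Q, B_smul_right Q, B_smul_right Q, B_self_of_singular Q ha, mul_zero, add_zero,
        B_comm Q a c] at h3
      simp [(mul_eq_zero.1 h1).resolve_right hca, (mul_eq_zero.1 h3).resolve_right hca]
    rw [mem_perp_span] at he
    refine hmove hQe ha ((B_comm Q e a).trans (he a ⟨1, rfl⟩)) (fun h => hec (h ▸ Submodule.zero_mem _))
      (fun h => hec ?_) (hmove hc hQe (he c ⟨0, rfl⟩) hc0 (fun h => hec ?_) hroot)
    · obtain ⟨r, hr⟩ := Submodule.mem_span_singleton.1 h
      have hr0 : r ≠ 0 := fun h' => ha0 (by rw [← hr, h', zero_smul])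
      rw [← inv_smul_smul₀ hr0 e, hr]
      exact Submodule.smul_mem _ _ (Submodule.subset_span ⟨1, rfl⟩)
    · obtain ⟨r, rfl⟩ := Submodule.mem_span_singleton.1 h
      exact Submodule.smul_mem _ _ (Submodule.subset_span ⟨0, rfl⟩)
  -- orthogonal singular pairs
  have hpair : ∀ a b, Q a = 0 → Q b = 0 → B a b = 0 → TvPol Q M a b := by
    intro a b ha hb hab
    refine ⟨hab, fun k => ?_⟩
    have hab' : Q (a + b) = 0 := by rw [Q_add Q, ha, hb, hab]; ring
    have h1 := M.mul_mem (M.mul_mem (M.mul_mem (hsg a ((k / 2) • b)) ((hroots _ hab').2 (k / 2)))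
      ((hroots a ha).2 (-(k / 2)))) ((hroots b hb).2 (-(k / 2)))
    convert h1 using 1
    apply gl_ext; intro x
    have hba : B b a = 0 := (B_comm Q b a).trans hab
    rw [act_tvPol (by rw [B_smul_right Q, hab, mul_zero]), act_mul, act_mul, act_mul,
      act_sg Q ha (by rw [B_smul_right Q, hab, mul_zero]),
      act_tvPol (by rw [B_smul_right Q, B_self_of_singular Q hab', mul_zero]),
      act_tvPol (by rw [B_smul_right Q, B_self_of_singular Q ha, mul_zero]),
      act_tvPol (by rw [B_smul_right Q, B_self_of_singular Q hb, mul_zero])]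
    simp only [Q_smul Q, hb, mul_zero, zero_mul, add_zero, B_smul_left Q, B_smul_right Q, B_add_right Q,
      B_add_left Q, hab, hba, B_self_of_singular Q ha, B_self_of_singular Q hb]
    match_scalars <;> field_simp <;> ring
  -- the second vector arbitrary
  have haddv : ∀ a p q, TvPol Q M a p → TvPol Q M a q → TvPol Q M a (p + q) := by
    intro a p q hp hq
    refine ⟨by rw [B_add_right Q, hp.1, hq.1, add_zero], fun k => ?_⟩
    rw [smul_add, ← tv_add_right _ _ _ (by simp [hp.1]) (by simp [hq.1])]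
    exact M.mul_mem (hp.2 k) (hq.2 k)
  have haddc : ∀ a b p, TvPol Q M a p → TvPol Q M b p → TvPol Q M (a + b) p := by
    intro a b p hp hq
    refine ⟨by rw [B_add_left Q, hp.1, hq.1, add_zero], fun k => ?_⟩
    rw [map_add, ← tv_add _ _ _ (by simp [hp.1]) (by simp [hq.1])]
    exact M.mul_mem (hp.2 k) (hq.2 k)
  have hsplit : ∀ a z, B a z = 0 → ∀ P : (ι → F) → Prop, (∀ p q, P p → P q → P (p + q)) →
      (∀ s, Q s = 0 → B a s = 0 → P s) → (∀ r : F, B a (r • a) = 0 → P (r • a)) → P z := by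
    intro a z haz P hadd hs hmul
    by_cases hza : z ∈ F ∙ a
    · obtain ⟨r, rfl⟩ := Submodule.mem_span_singleton.1 hza
      exact hmul r haz
    obtain ⟨s, hQs, has, hzs⟩ := hspan a z haz hza
    have h1 := hadd _ _ (hs (z + (-Q z / B z s) • s)
      (by rw [Q_add Q, Q_smul Q, hQs, B_smul_right Q, div_mul_cancel₀ _ hzs]; ring)
      (by rw [B_add_right Q, B_smul_right Q, haz, has]; ring))
      (hs ((Q z / B z s) • s) (by rw [Q_smul Q, hQs]; ring) (by rw [B_smul_right Q, has]; ring))
    rwa [neg_div, neg_smul, neg_add_cancel_right] at h1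
  have hsecond : ∀ a z, Q a = 0 → B a z = 0 → TvPol Q M a z := fun a z ha haz =>
    hsplit a z haz (TvPol Q M a) (haddv a) (fun s hs has => hpair a s ha hs has)
      (fun r _ => hpair a (r • a) ha (by rw [Q_smul Q, ha]; ring) (by rw [B_smul_right Q, B_self_of_singular Q ha]; ring))
  refine specialLinear_le_of_transvections M fun φ z hφ => ?_
  obtain ⟨w, hw⟩ : ∃ w, QuadraticMap.polarBilin Q w = φ :=
    ⟨(LinearMap.BilinForm.toDual (QuadraticMap.polarBilin Q) hQ).symm φ, LinearMap.ext fun x =>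
      LinearMap.BilinForm.apply_toDual_symm_apply _ _⟩
  have hwz : B w z = 0 := by rw [← hw] at hφ; exact hφ
  suffices h : TvPol Q M w z by
    have := h.2 1
    rwa [one_smul, hw] at this
  refine hsplit z w ((B_comm Q z w).trans hwz) (fun p => TvPol Q M p z) (fun p q => haddc p q z)
    (fun s hs hzs => hsecond s z hs ((B_comm Q s z).trans hzs)) (fun r hr => ?_)
  by_cases hQz : Q z = 0
  · exact hsecond _ z (by rw [Q_smul Q, hQz]; ring) (by rw [B_smul_left Q, B_self_of_singular Q hQz]; ring)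
  · rw [B_smul_right Q, B_self Q] at hr
    rw [(mul_eq_zero.1 hr).resolve_right (mul_ne_zero h2 hQz), zero_smul]
    refine ⟨B_zero_left Q z, fun k => ?_⟩
    rw [map_zero, tv_zero_left]
    exact M.one_mem

end Cfsg.Agent.MaxCl.Orth
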