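/-
Kronecker products acting on the space of matrices: pure vectors, the action on rows and columns, and the linear
maps preserving pure vectors when the two dimensions differ.
-/
import Cfsg.Agent.Lib.MaxCl.Transvection

set_option autoImplicit false
set_option linter.unusedSectionVars false
set_option linter.style.haveILetI false

namespace Cfsg.Agent.MaxCl.TP

open Matrix
open scoped MatrixGroups Kronecker

variable {α β : Type} [Fintype α] [DecidableEq α] [Fintype β] [DecidableEq β] {F : Type*} [Field F]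

/-- the pure vector -/
def pv (y : α → F) (v : β → F) : α × β → F := fun p => y p.1 * v p.2

/-- a row -/
def row (x : α × β → F) (i : α) : β → F := fun j => x (i, j)

/-- a column -/
def col (x : α × β → F) (j : β) : α → F := fun i => x (i, j)

theorem pv_apply (y : α → F) (v : β → F) (i : α) (j : β) : pv y v (i, j) = y i * v j := rfl

theorem col_pv (y : α → F) (v : β → F) (j : β) : col (pv y v) j = v j • y := funext fun _ => mul_comm _ _

theorem row_pv (y : α → F) (v : β → F) (i : α) : row (pv y v) i = y i • v := rfl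

theorem pv_add_left (y y' : α → F) (v : β → F) : pv (y + y') v = pv y v + pv y' v := funext fun _ => add_mul _ _ _

theorem pv_add_right (y : α → F) (v v' : β → F) : pv y (v + v') = pv y v + pv y v' := funext fun _ => mul_add _ _ _

theorem pv_smul_left (c : F) (y : α → F) (v : β → F) : pv (c • y) v = c • pv y v := funext fun _ => mul_assoc _ _ _

theorem pv_smul_right (c : F) (y : α → F) (v : β → F) : pv y (c • v) = c • pv y v :=
  funext fun _ => mul_left_comm _ _ _

theorem pv_zero_left (v : β → F) : pv (0 : α → F) v = 0 := funext fun _ => zero_mul _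

theorem pv_zero_right (y : α → F) : pv y (0 : β → F) = 0 := funext fun _ => mul_zero _

theorem pv_single (i : α) (j : β) : pv (Pi.single i (1 : F)) (Pi.single j (1 : F)) = Pi.single (i, j) 1 := by
  funext p
  obtain ⟨k, l⟩ := p
  by_cases hk : k = i <;> by_cases hl : l = j <;> simp [pv_apply, Pi.single_apply, hk, hl]

theorem pv_eq_zero {y : α → F} {v : β → F} : pv y v = 0 ↔ y = 0 ∨ v = 0 := by
  refine ⟨fun h => ?_, ?_⟩
  · by_contra hn
    push Not at hn
    obtain ⟨i, hi⟩ := Function.ne_iff.1 hn.1
    obtain ⟨j, hj⟩ := Function.ne_iff.1 hn.2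
    exact mul_ne_zero hi hj (congrFun h (i, j))
  · rintro (rfl | rfl)
    · exact pv_zero_left v
    · exact pv_zero_right y

theorem lext {M : Type*} [AddCommGroup M] [Module F M] {f g : (α × β → F) →ₗ[F] M}
    (h : ∀ y v, f (pv y v) = g (pv y v)) : f = g :=
  (Pi.basisFun F (α × β)).ext fun p => by rw [Pi.basisFun_apply, ← pv_single, h]

theorem gl_ext_pv {g h : GL (α × β) F} (H : ∀ y v, act g (pv y v) = act h (pv y v)) : g = h :=
  gl_ext fun x => LinearMap.congr_fun (lext H) x

/-- the Kronecker product as a homomorphism -/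
def kr : GL α F × GL β F →* GL (α × β) F where
  toFun p :=
    { val := (p.1 : Matrix α α F) ⊗ₖ (p.2 : Matrix β β F)
      inv := ((p.1⁻¹ : GL α F) : Matrix α α F) ⊗ₖ ((p.2⁻¹ : GL β F) : Matrix β β F)
      val_inv := by rw [← Matrix.mul_kronecker_mul, ← Units.val_mul, ← Units.val_mul, mul_inv_cancel, mul_inv_cancel,
        Units.val_one, Units.val_one, Matrix.one_kronecker_one]
      inv_val := by rw [← Matrix.mul_kronecker_mul, ← Units.val_mul, ← Units.val_mul, inv_mul_cancel, inv_mul_cancel,
        Units.val_one, Units.val_one, Matrix.one_kronecker_one] }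
  map_one' := Units.ext (by simp)
  map_mul' p q := Units.ext (by simp [Matrix.mul_kronecker_mul])

theorem act_kr_pv (u : GL α F) (w : GL β F) (y : α → F) (v : β → F) :
    act (kr (u, w)) (pv y v) = pv (act u y) (act w v) := by
  funext p
  simp only [act_apply, pv, kr, MonoidHom.coe_mk, OneHom.coe_mk, mulVec, dotProduct, Fintype.sum_prod_type,
    Matrix.kroneckerMap_apply, Finset.sum_mul_sum]
  exact Finset.sum_congr rfl fun _ _ => Finset.sum_congr rfl fun _ _ => mul_mul_mul_comm _ _ _ _

theorem row_kr_one (w : GL β F) (x : α × β → F) (i : α) : row (act (kr ((1 : GL α F), w)) x) i = act w (row x i) := by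
  funext j
  simp only [row, act_apply, kr, MonoidHom.coe_mk, OneHom.coe_mk, mulVec, dotProduct, Fintype.sum_prod_type,
    Matrix.kroneckerMap_apply, Units.val_one, Matrix.one_apply, ite_mul, one_mul, zero_mul]
  rw [Finset.sum_comm]
  simp

theorem col_kr_one (u : GL α F) (x : α × β → F) (j : β) : col (act (kr (u, (1 : GL β F))) x) j = act u (col x j) := by
  funext i
  simp only [col, act_apply, kr, MonoidHom.coe_mk, OneHom.coe_mk, mulVec, dotProduct, Fintype.sum_prod_type,
    Matrix.kroneckerMap_apply, Units.val_one, Matrix.one_apply, mul_ite, ite_mul, mul_one, mul_zero, zero_mul]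
  simp

theorem det_kr (u : GL α F) (w : GL β F) :
    (kr (u, w) : Matrix (α × β) (α × β) F).det =
      (u : Matrix α α F).det ^ Fintype.card β * (w : Matrix β β F).det ^ Fintype.card α :=
  Matrix.det_kronecker _ _

/-- the Kronecker products -/
def Kron (α β : Type) [Fintype α] [DecidableEq α] [Fintype β] [DecidableEq β] (F : Type*) [Field F] :
    Subgroup (GL (α × β) F) :=
  (kr (α := α) (β := β) (F := F)).range

theorem kr_mem (u : GL α F) (w : GL β F) : kr (u, w) ∈ Kron α β F := ⟨(u, w), rfl⟩

theorem exists_of_mem {g : GL (α × β) F} (h : g ∈ Kron α β F) : ∃ u w, g = kr (u, w) := by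
  obtain ⟨⟨u, w⟩, rfl⟩ := h
  exact ⟨u, w, rfl⟩

/-- an element of GL from an injective linear map -/
theorem exists_gl (L : (β → F) →ₗ[F] (β → F)) (hL : Function.Injective L) :
    ∃ g : GL β F, ∀ x, act g x = L x := by
  have hu : IsUnit (LinearMap.toMatrix' L) := by
    rw [← Matrix.mulVec_injective_iff_isUnit]
    intro x y h
    apply hL
    rw [← Matrix.toLin'_toMatrix' L, Matrix.toLin'_apply, Matrix.toLin'_apply]
    exact h
  refine ⟨hu.unit, fun x => ?_⟩
  rw [act_apply, IsUnit.unit_spec, ← Matrix.toLin'_apply, Matrix.toLin'_toMatrix']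

/-! ### linear maps preserving pure vectors -/

/-- two pure vectors with pure sum share a factor -/
theorem share_of_sum {y₁ y₂ z : α → F} {v₁ v₂ w : β → F} (h : pv y₁ v₁ + pv y₂ v₂ = pv z w)
    (hy : LinearIndependent F ![y₁, y₂]) : ∃ a b : F, (a ≠ 0 ∨ b ≠ 0) ∧ a • v₁ + b • v₂ = 0 := by
  rw [LinearIndependent.pair_iff] at hy
  by_contra hcon
  push Not at hcon
  have hv : ∀ a b : F, a • v₁ + b • v₂ = 0 → a = 0 ∧ b = 0 := fun a b e => by
    by_contra hn
    exact hcon a b (by tauto) e
  have hrow : ∀ i, z i • w = y₁ i • v₁ + y₂ i • v₂ := fun i => funext fun j => (congrFun h (i, j)).symm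
  have key : ∀ i k, z i * y₁ k = z k * y₁ i ∧ z i * y₂ k = z k * y₂ i := fun i k => by
    have h1 : (z i * y₁ k - z k * y₁ i) • v₁ + (z i * y₂ k - z k * y₂ i) • v₂ = 0 := by
      calc _ = z i • (y₁ k • v₁ + y₂ k • v₂) - z k • (y₁ i • v₁ + y₂ i • v₂) := by module
        _ = 0 := by rw [← hrow, ← hrow]; module
    obtain ⟨e1, e2⟩ := hv _ _ h1
    exact ⟨sub_eq_zero.1 e1, sub_eq_zero.1 e2⟩
  by_cases hz : z = 0
  · have hy1 : y₁ = 0 := funext fun i => by
      have h1 := hrow i
      rw [hz, Pi.zero_apply, zero_smul] at h1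
      exact (hv _ _ h1.symm).1
    simpa using hy 1 0 (by simp [hy1])
  · obtain ⟨i, hi⟩ := Function.ne_iff.1 hz
    have h1 : y₂ i • y₁ + (-y₁ i) • y₂ = 0 := funext fun k => by
      have e1 := (key i k).1
      have e2 := (key i k).2
      simp only [Pi.add_apply, Pi.smul_apply, smul_eq_mul, Pi.zero_apply]
      refine (mul_eq_zero.1 (show z i * (y₂ i * y₁ k + -y₁ i * y₂ k) = 0 by
        linear_combination y₂ i * e1 - y₁ i * e2)).resolve_left hi
    obtain ⟨h2, h3⟩ := hy _ _ h1
    rw [neg_eq_zero] at h3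
    have h4 : y₁ = 0 := funext fun k => by
      have e1 := (key i k).1
      rw [h3, mul_zero] at e1
      exact (mul_eq_zero.1 e1).resolve_left hi
    simpa using hy 1 0 (by simp [h4])

theorem not_pair {V : Type*} [AddCommGroup V] [Module F V] {x y : V} (hx : x ≠ 0)
    (h : ¬ LinearIndependent F ![x, y]) : ∃ c : F, c • x = y := by
  rw [LinearIndependent.pair_iff] at h
  push Not at h
  obtain ⟨a, b, he, hab⟩ := h
  by_cases hb : b = 0
  · rw [hb, zero_smul, add_zero, smul_eq_zero, or_iff_left hx] at he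
    exact absurd hb (hab he)
  · refine ⟨-(a / b), ?_⟩
    have : b • (-(a / b) • x - y) = 0 := by
      rw [smul_sub, smul_smul, mul_neg, mul_div_cancel₀ _ hb, neg_smul, ← neg_add', he, neg_zero]
    exact sub_eq_zero.1 ((smul_eq_zero.1 this).resolve_left hb)

/-- an injective map into pure vectors from a space larger than the left factor has a constant left factor -/
theorem const_left {L : (β → F) →ₗ[F] (α × β → F)} (hinj : Function.Injective L)
    (hpure : ∀ v, ∃ y w, L v = pv y w) (hab : Fintype.card α < Fintype.card β) :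
    ∃ y, ∀ v, ∃ w, L v = pv y w := by
  obtain ⟨v₁, hv₁⟩ : ∃ v₁ : β → F, v₁ ≠ 0 := by
    haveI : Nonempty β := Fintype.card_pos_iff.1 (by omega)
    exact exists_ne 0
  obtain ⟨y₁, w₁, e₁⟩ := hpure v₁
  have hne : pv y₁ w₁ ≠ 0 := fun e => hv₁ (hinj (by rw [e₁, e, map_zero]))
  rw [Ne, pv_eq_zero, not_or] at hne
  by_contra hcon
  push Not at hcon
  obtain ⟨v₂, hv₂⟩ := hcon y₁
  obtain ⟨y₂, w₂, e₂⟩ := hpure v₂
  have hy12 : LinearIndependent F ![y₁, y₂] := by
    by_contra h
    obtain ⟨c, hc⟩ := not_pair hne.1 h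
    exact hv₂ (c • w₂) (by rw [e₂, ← hc, pv_smul_left, pv_smul_right])
  have share : ∀ {y y' : α → F} {w w' : β → F} {v v' : β → F}, L v = pv y w → L v' = pv y' w' →
      LinearIndependent F ![y, y'] → w ≠ 0 → ∃ c : F, c • w = w' := by
    intro y y' w w' v v' e e' hy hw
    obtain ⟨z, u, ez⟩ := hpure (v + v')
    obtain ⟨a, b, hab', h⟩ := share_of_sum (y₁ := y) (y₂ := y') (v₁ := w) (v₂ := w') (z := z) (w := u)
      (by rw [← e, ← e', ← map_add, ez]) hy
    refine not_pair hw fun hli => ?_
    rw [LinearIndependent.pair_iff] at hli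
    obtain ⟨ha, hb⟩ := hli a b h
    tauto
  obtain ⟨c₂, hc₂⟩ := share e₁ e₂ hy12 hne.2
  have hall : ∀ v, ∃ y, L v = pv y w₁ := by
    intro v
    obtain ⟨y, w, e⟩ := hpure v
    by_cases h1 : LinearIndependent F ![y₁, y]
    · obtain ⟨c, hc⟩ := share e₁ e h1 hne.2
      exact ⟨c • y, by rw [e, ← hc, pv_smul_left, pv_smul_right]⟩
    by_cases hy0 : y = 0
    · exact ⟨0, by rw [e, hy0, pv_zero_left, pv_zero_left]⟩
    obtain ⟨c, hc⟩ := not_pair hne.1 h1
    have h2 : LinearIndependent F ![y₂, y] := by
      have hc0 : c ≠ 0 := fun e0 => hy0 (by rw [← hc, e0, zero_smul])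
      rw [LinearIndependent.pair_iff] at hy12 ⊢
      intro a b he
      obtain ⟨h3, h4⟩ := hy12 (b * c) a (by rw [mul_smul, hc, add_comm]; exact he)
      exact ⟨h4, (mul_eq_zero.1 h3).resolve_right hc0⟩
    have hw2 : c₂ ≠ 0 := fun e0 => by
      rw [e0, zero_smul] at hc₂
      exact hv₂ 0 (by rw [e₂, ← hc₂, pv_zero_right, pv_zero_right])
    obtain ⟨d, hd⟩ := share e₂ e h2 (by rw [← hc₂]; exact smul_ne_zero hw2 hne.2)
    exact ⟨(d * c₂) • y, by rw [e, ← hd, ← hc₂, smul_smul, pv_smul_left, pv_smul_right]⟩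
  let R : (α → F) →ₗ[F] (α × β → F) :=
    { toFun := fun y => pv y w₁
      map_add' := fun y y' => pv_add_left y y' w₁
      map_smul' := fun c y => pv_smul_left c y w₁ }
  have hle : LinearMap.range L ≤ LinearMap.range R := by
    rintro _ ⟨v, rfl⟩
    obtain ⟨y, hy⟩ := hall v
    exact ⟨y, hy.symm⟩
  have h1 := (Submodule.finrank_mono hle).trans (LinearMap.finrank_range_le R)
  rw [LinearMap.finrank_range_of_inj hinj, Module.finrank_fintype_fun_eq_card,
    Module.finrank_fintype_fun_eq_card] at h1
  omega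

/-- pointwise proportional maps are proportional -/
theorem eq_smul_of_forall {W₁ W₂ : (β → F) →ₗ[F] (β → F)} (h1 : Function.Injective W₁)
    (hb : 2 ≤ Fintype.card β) (h : ∀ v, ∃ c : F, c • W₁ v = W₂ v) : ∃ c : F, ∀ v, W₂ v = c • W₁ v := by
  choose c hc using h
  obtain ⟨i, j, hij⟩ := Fintype.exists_pair_of_one_lt_card (α := β) (by omega)
  set e : β → F := Pi.single i 1 with he
  have key : ∀ x v : β → F, LinearIndependent F ![x, v] → c v = c x := by
    intro x v hxv
    rw [LinearIndependent.pair_iff] at hxv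
    have h2 : (c (x + v) - c x) • x + (c (x + v) - c v) • v = 0 := h1 (by
      rw [map_add, map_smul, map_smul, map_zero, sub_smul, sub_smul, hc, hc]
      calc c (x + v) • W₁ x - W₂ x + (c (x + v) • W₁ v - W₂ v)
          = c (x + v) • W₁ (x + v) - W₂ (x + v) := by rw [map_add, map_add]; module
        _ = 0 := by rw [hc, sub_self])
    obtain ⟨e1, e2⟩ := hxv _ _ h2
    rw [sub_eq_zero] at e1 e2
    rw [← e1, ← e2]
  refine ⟨c e, fun v => ?_⟩
  by_cases hev : LinearIndependent F ![e, v]
  · rw [← key e v hev, hc]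
  · have he0 : e ≠ 0 := fun e0 => by simpa [he] using congrFun e0 i
    obtain ⟨a, rfl⟩ := not_pair he0 hev
    rw [map_smul, map_smul, ← hc e, smul_comm]

/-- **maps preserving pure vectors are Kronecker products** -/
theorem mem_kron_of_pure {g : GL (α × β) F} (hab : Fintype.card α < Fintype.card β) (ha : 1 ≤ Fintype.card α)
    (h : ∀ y v, ∃ y' v', act g (pv y v) = pv y' v') : g ∈ Kron α β F := by
  classical
  haveI : Nonempty α := Fintype.card_pos_iff.1 (by omega)
  haveI : Nonempty β := Fintype.card_pos_iff.1 (by omega)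
  obtain ⟨j₀⟩ := ‹Nonempty β›
  let L : (α → F) → ((β → F) →ₗ[F] (α × β → F)) := fun y => act g ∘ₗ
    { toFun := fun v => pv y v
      map_add' := fun v v' => pv_add_right y v v'
      map_smul' := fun c v => pv_smul_right c y v }
  have hLinj : ∀ y, y ≠ 0 → Function.Injective (L y) := fun y hy v v' e => by
    rw [← sub_eq_zero]
    have : pv y (v - v') = 0 := act_injective g (by
      rw [map_zero, show pv y (v - v') = pv y v - pv y v' from funext fun _ => mul_sub _ _ _, map_sub, sub_eq_zero]
      exact e)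
    exact (pv_eq_zero.1 this).resolve_left hy
  have hleft : ∀ y, ∃ u, ∀ v, ∃ w, L y v = pv u w := fun y => by
    by_cases hy : y = 0
    · exact ⟨0, fun v => ⟨0, by simp [L, hy, pv_zero_left]⟩⟩
    exact const_left (hLinj y hy) (fun v => h y v) hab
  choose u hu using hleft
  choose W₀ hW₀ using hu
  have hune : ∀ y, y ≠ 0 → u y ≠ 0 := fun y hy e => by
    obtain ⟨v, hv⟩ := exists_ne (0 : β → F)
    exact hv (hLinj y hy (by rw [hW₀, e, pv_zero_left, map_zero]))
  -- the maps of the right factor
  have hWlin : ∀ y, y ≠ 0 → ∃ W : (β → F) →ₗ[F] (β → F), Function.Injective W ∧ ∀ v, L y v = pv (u y) (W v) := by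
    intro y hy
    obtain ⟨i, hi⟩ := Function.ne_iff.1 (hune y hy)
    let W : (β → F) →ₗ[F] (β → F) :=
      { toFun := fun v j => (u y i)⁻¹ * L y v (i, j)
        map_add' := fun v v' => funext fun j => by simp [mul_add]
        map_smul' := fun c v => funext fun j => by simp [mul_left_comm] }
    have hW : ∀ v, L y v = pv (u y) (W v) := fun v => by
      rw [hW₀ y v]
      congr 1
      funext j
      show W₀ y v j = (u y i)⁻¹ * L y v (i, j)
      rw [hW₀ y v, pv_apply, inv_mul_cancel_left₀ hi]
    exact ⟨W, fun v v' e => hLinj y hy (by rw [hW, hW, e]), hW⟩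
  let e : α → (α → F) := fun i => Pi.single i 1
  have hene : ∀ i, e i ≠ 0 := fun i h => by simpa [e] using congrFun h i
  choose W hWinj hW using fun i => hWlin (e i) (hene i)
  obtain ⟨i₀⟩ := ‹Nonempty α›
  have hprop : ∀ i, ∃ c : F, ∀ v, W i v = c • W i₀ v := by
    intro i
    rcases eq_or_ne i i₀ with rfl | hi
    · exact ⟨1, fun v => (one_smul F _).symm⟩
    have hind : LinearIndependent F ![u (e i₀), u (e i)] := by
      by_contra hd
      obtain ⟨c, hc⟩ := not_pair (hune _ (hene i₀)) hd
      obtain ⟨v, hv⟩ := exists_ne (0 : β → F)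
      obtain ⟨v', hv'⟩ : ∃ v', c • W i v = W i₀ v' :=
        ⟨_, ((W i₀).surjective_of_injective (hWinj i₀) (c • W i v)).choose_spec.symm⟩
      have h1 : pv (e i) v = pv (e i₀) v' := act_injective g (by
        show L (e i) v = L (e i₀) v'
        rw [hW, hW, ← hc, ← hv', pv_smul_left, pv_smul_right])
      obtain ⟨j, hj⟩ := Function.ne_iff.1 hv
      have := congrFun h1 (i, j)
      simp [pv_apply, e, hi] at this
      exact hj this
    refine eq_smul_of_forall (hWinj i₀) (by omega) fun v => ?_
    obtain ⟨z, w, hz⟩ := h (e i₀ + e i) v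
    rw [pv_add_left, map_add, show act g (pv (e i₀) v) = L (e i₀) v from rfl,
      show act g (pv (e i) v) = L (e i) v from rfl, hW, hW] at hz
    obtain ⟨a, b, hab', hs⟩ := share_of_sum hz hind
    by_cases hv : W i₀ v = 0
    · have hv0 : v = 0 := hWinj i₀ (by rw [hv, map_zero])
      exact ⟨0, by simp [hv0]⟩
    · refine not_pair hv fun hli => ?_
      rw [LinearIndependent.pair_iff] at hli
      have := hli a b hs
      tauto
  choose c hc using hprop
  let U : (α → F) →ₗ[F] (α → F) := (Pi.basisFun F α).constr F fun i => c i • u (e i)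
  have hU : ∀ y v, act g (pv y v) = pv (U y) (W i₀ v) := by
    intro y v
    let S : (α → F) →ₗ[F] (α × β → F) := act g ∘ₗ
      { toFun := fun y => pv y v
        map_add' := fun y y' => pv_add_left y y' v
        map_smul' := fun t y => pv_smul_left t y v }
    let S' : (α → F) →ₗ[F] (α × β → F) :=
      { toFun := fun y => pv (U y) (W i₀ v)
        map_add' := fun y y' => by rw [map_add, pv_add_left]
        map_smul' := fun t y => by rw [map_smul, pv_smul_left, RingHom.id_apply] }
    refine LinearMap.congr_fun (show S = S' from (Pi.basisFun F α).ext fun i => ?_) y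
    show L ((Pi.basisFun F α) i) v = pv (U ((Pi.basisFun F α) i)) (W i₀ v)
    rw [Module.Basis.constr_basis, Pi.basisFun_apply, show (Pi.single i 1 : α → F) = e i from rfl, hW, hc,
      pv_smul_left, pv_smul_right]
  have hUinj : Function.Injective U := fun y y' he => by
    obtain ⟨v, hv⟩ := exists_ne (0 : β → F)
    have : pv (y - y') v = 0 := act_injective g (by rw [hU, map_sub, he, sub_self, pv_zero_left, map_zero])
    exact sub_eq_zero.1 ((pv_eq_zero.1 this).resolve_right hv)
  obtain ⟨u', hu'⟩ := exists_gl U hUinj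
  obtain ⟨w', hw'⟩ := exists_gl (W i₀) (hWinj i₀)
  rw [show g = kr (u', w') from gl_ext_pv fun y v => by rw [hU, act_kr_pv, hu', hw']]
  exact kr_mem _ _

end Cfsg.Agent.MaxCl.TP
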