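/-
The maps of an abelian unipotent group of the space of matrices as matrices: an invariant group without elementary
matrices is scalar; one elementary transvection joining two rows generates the special linear group.
-/
import Cfsg.Agent.Lib.MaxCl.TensorBasic
import Cfsg.Agent.Lib.GL.Basic

set_option autoImplicit false
set_option linter.unusedSectionVars false
set_option linter.style.haveILetI false

namespace Cfsg.Agent.MaxCl.TP

open Matrix
open scoped MatrixGroups Kronecker

variable {α β : Type} [Fintype α] [DecidableEq α] [Fintype β] [DecidableEq β] {F : Type*} [Field F]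

/-! ### invariant groups of matrices -/

/-- the difference of a conjugate by an elementary matrix -/
def dconj (i k : α) (c : F) (T : Matrix α α F) : Matrix α α F :=
  Matrix.single i k c * T - T * Matrix.single i k c - Matrix.single i k c * T * Matrix.single i k c

theorem dconj_apply (i k : α) (c : F) (T : Matrix α α F) (x y : α) :
    dconj i k c T x y = (if x = i then c * T k y else 0) - (if y = k then T x i * c else 0) -
      (if x = i ∧ y = k then c * T k i * c else 0) := by
  simp only [dconj, Matrix.sub_apply]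
  by_cases hx : x = i <;> by_cases hy : y = k <;>
    simp [hx, hy, Matrix.single_mul_apply_same, Matrix.single_mul_apply_of_ne, Matrix.mul_single_apply_same,
      Matrix.mul_single_apply_of_ne]

theorem conj_eq_add (i k : α) (hik : i ≠ k) (c : F) (T : Matrix α α F) :
    (1 + Matrix.single i k c) * T * (1 - Matrix.single i k c) = T + dconj i k c T := by
  simp only [dconj]
  noncomm_ring

theorem scalar_of_invariant (hex : 3 ≤ Fintype.card α ∨ ∀ x : F, ∃ c : F, c ≠ 0 ∧ c ≠ x)
    (S : AddSubgroup (Matrix α α F)) (hscal : ∀ s : F, s • (1 : Matrix α α F) ∈ S)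
    (hinv : ∀ T ∈ S, ∀ (i k : α), i ≠ k → ∀ c : F, dconj i k c T ∈ S)
    (hno : ∀ (i k : α), i ≠ k → ∀ c : F, c ≠ 0 → Matrix.single i k c ∉ S) {T : Matrix α α F} (hT : T ∈ S) :
    ∃ t : F, T = t • 1 := by
  have hoff : ∀ i k, i ≠ k → T k i = 0 := by
    intro i k hik
    by_contra hne
    by_cases h3 : ∃ l, l ≠ i ∧ l ≠ k
    · obtain ⟨l, hli, hlk⟩ := h3
      refine hno i k hik (T k i) hne ?_
      have h1 := hinv _ (hinv _ (hinv _ hT i k hik 1) i l hli.symm 1) l k hlk 1
      convert h1 using 1
      · ext x y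
        simp only [dconj_apply, Matrix.single_apply]
        by_cases hxi : x = i <;> by_cases hxl : x = l <;> by_cases hxk : x = k <;> by_cases hyi : y = i <;>
          by_cases hyl : y = l <;> by_cases hyk : y = k <;> subst_vars <;> simp_all [Ne.symm hik, Ne.symm hli, Ne.symm hlk, eq_comm]
    · push Not at h3
      have htwo : ∀ x, x = i ∨ x = k := fun x => by
        by_cases hx : x = i
        · exact Or.inl hx
        · exact Or.inr (h3 x hx)
      have hc2 : Fintype.card α ≤ 2 := by
        calc Fintype.card α ≤ ({i, k} : Finset α).card := Finset.card_le_card fun x _ => by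
              rcases htwo x with rfl | rfl <;> simp
          _ ≤ 2 := Finset.card_le_two
      have hq := hex.resolve_left (by omega)
      by_cases h2 : (2 : F) = 0
      · obtain ⟨c, hc0, hc⟩ := hq ((T k k - T i i) / T k i)
        refine hno i k hik (c * (T k k - T i i - c * T k i)) (mul_ne_zero hc0 fun e => hc ?_) ?_
        · rw [eq_div_iff hne]
          linear_combination -e
        have h1 := S.sub_mem (hinv _ hT i k hik c) (hscal (c * T k i))
        convert h1 using 1
        ext x y
        simp only [dconj_apply, Matrix.sub_apply, Matrix.smul_apply, Matrix.single_apply, smul_eq_mul]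
        rcases htwo x with hx | hx <;> rcases htwo y with hy | hy <;>
          simp [hx, hy, Matrix.one_apply, hik, Ne.symm hik] <;>
          first
            | linear_combination (c * T k i) * h2
            | linear_combination -(c * T k i) * h2
            | linear_combination (c * T i k) * h2
            | linear_combination -(c * T i k) * h2
            | ring1
      · refine hno i k hik (-(2 * T k i)) (neg_ne_zero.2 (mul_ne_zero h2 hne)) ?_
        have h1 := hinv _ (hinv _ hT i k hik 1) i k hik 1
        convert h1 using 1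
        ext x y
        simp only [dconj_apply, Matrix.single_apply]
        rcases htwo x with rfl | rfl <;> rcases htwo y with rfl | rfl <;>
          simp [hik, Ne.symm hik] <;> ring
  have hdiag : ∀ i k, i ≠ k → T i i = T k k := by
    intro i k hik
    by_contra hne
    refine hno i k hik (T k k - T i i) (sub_ne_zero.2 (Ne.symm hne)) ?_
    convert hinv _ hT i k hik 1 using 1
    ext x y
    simp only [dconj_apply, Matrix.single_apply]
    by_cases hxi : x = i <;> by_cases hyk : y = k
    · subst hxi hyk
      simp [hoff _ _ hik]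
    · subst hxi
      simp [hyk, hoff _ _ hyk, Ne.symm hyk]
    · subst hyk
      simp [hxi, Ne.symm hxi, hoff _ _ (Ne.symm hxi)]
    · simp [hxi, hyk, Ne.symm hxi]
  by_cases hα : Nonempty α
  · obtain ⟨i₀⟩ := hα
    refine ⟨T i₀ i₀, ?_⟩
    ext x y
    rcases eq_or_ne x y with rfl | hxy
    · rcases eq_or_ne x i₀ with rfl | hx
      · simp
      · simp [hdiag _ _ hx]
    · simp [Matrix.one_apply_ne hxy, hoff _ _ hxy.symm]
  · exact ⟨0, Matrix.ext fun x => absurd ⟨x⟩ hα⟩

/-- an invariant subspace with one elementary matrix has all of them -/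
theorem single_mem_of_one (hex : 3 ≤ Fintype.card α ∨ ∀ x : F, ∃ c : F, c ≠ 0 ∧ c ≠ x)
    (S : Submodule F (Matrix α α F)) (hinv : ∀ T ∈ S, ∀ (i k : α), i ≠ k → ∀ c : F, dconj i k c T ∈ S)
    {i k : α} (hik : i ≠ k) (h : Matrix.single i k (1 : F) ∈ S) {x y : α} (hxy : x ≠ y) :
    Matrix.single x y (1 : F) ∈ S := by
  have mv1 : ∀ {i k : α}, i ≠ k → Matrix.single i k (1 : F) ∈ S → ∀ x, x ≠ k → Matrix.single x k (1 : F) ∈ S := by
    intro i k hik h x hxk
    rcases eq_or_ne x i with rfl | hxi
    · exact h
    convert hinv _ h x i hxi 1 using 1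
    ext p q
    simp only [dconj_apply, Matrix.single_apply]
    by_cases hp : p = x <;> by_cases hq : q = k <;> by_cases hqi : q = i <;> subst_vars <;>
      simp_all [eq_comm]
  have mv2 : ∀ {i k : α}, i ≠ k → Matrix.single i k (1 : F) ∈ S → ∀ y, y ≠ i → Matrix.single i y (1 : F) ∈ S := by
    intro i k hik h y hyi
    rcases eq_or_ne y k with rfl | hyk
    · exact h
    have h1 := S.neg_mem (hinv _ h k y hyk.symm 1)
    convert h1 using 1
    ext p q
    simp only [dconj_apply, Matrix.single_apply, Matrix.neg_apply]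
    by_cases hp : p = i <;> by_cases hq : q = y <;> by_cases hpk : p = k <;> subst_vars <;>
      simp_all [eq_comm]
  have hswap : Matrix.single k i (1 : F) ∈ S := by
    by_cases h3 : ∃ l, l ≠ i ∧ l ≠ k
    · obtain ⟨l, hli, hlk⟩ := h3
      exact mv1 hli (mv2 hlk (mv1 hik h l hlk) i hli.symm) k hik.symm
    · push Not at h3
      have hc2 : Fintype.card α ≤ 2 := by
        calc Fintype.card α ≤ ({i, k} : Finset α).card := Finset.card_le_card fun x _ => by
              by_cases hx : x = i
              · simp [hx]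
              · simp [h3 x hx]
          _ ≤ 2 := Finset.card_le_two
      obtain ⟨c, hc0, hc1⟩ := (hex.resolve_left (by omega)) 1
      have h1 := hinv _ h k i hik.symm 1
      have h2 := hinv _ h k i hik.symm c
      have h4 : Matrix.single k i (c - c * c) ∈ S := by
        convert S.sub_mem h2 (S.smul_mem c h1) using 1
        ext p q
        simp only [dconj_apply, Matrix.single_apply, Matrix.sub_apply, Matrix.smul_apply, smul_eq_mul]
        by_cases hp : p = i <;> by_cases hq : q = i
        all_goals try (have hpk : p = k := h3 p hp)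
        all_goals try (have hqk : q = k := h3 q hq)
        all_goals subst_vars
        all_goals simp [hik, Ne.symm hik]
        all_goals ring
      have hne : c - c * c ≠ 0 := by
        rw [show c - c * c = c * (1 - c) by ring]
        exact mul_ne_zero hc0 (sub_ne_zero.2 hc1.symm)
      simpa [Matrix.smul_single, inv_mul_cancel₀ hne] using S.smul_mem (c - c * c)⁻¹ h4
  by_cases hyi : y = i
  · subst hyi
    exact mv1 hik.symm hswap x hxy
  · exact mv1 (Ne.symm hyi) (mv2 hik h y hyi) x hxy

/-! ### the elements -/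

/-- `z ↦ z + T (column l of z)` in column `j` -/
def zel (j l : β) (hjl : j ≠ l) (T : Matrix α α F) : GL (α × β) F :=
  have hE : Matrix.single j l (1 : F) * Matrix.single j l (1 : F) = 0 := by
    simp [Matrix.single_mul_single_of_ne, hjl.symm]
  { val := 1 + T ⊗ₖ Matrix.single j l (1 : F)
    inv := 1 - T ⊗ₖ Matrix.single j l (1 : F)
    val_inv := by
      rw [mul_sub, add_mul, add_mul, ← Matrix.mul_kronecker_mul, hE, Matrix.kronecker_zero]
      simp
    inv_val := by
      rw [mul_add, sub_mul, sub_mul, ← Matrix.mul_kronecker_mul, hE, Matrix.kronecker_zero]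
      simp }

theorem act_zel {j l : β} (hjl : j ≠ l) (T : Matrix α α F) (z : α × β → F) :
    act (zel j l hjl T) z = z + pv (T *ᵥ col z l) (Pi.single j 1) := by
  funext p
  obtain ⟨i, q⟩ := p
  simp only [act_apply, zel, Matrix.add_mulVec, Matrix.one_mulVec, Pi.add_apply]
  congr 1
  simp only [mulVec, dotProduct, Fintype.sum_prod_type, Matrix.kroneckerMap_apply, pv_apply, col, Finset.sum_mul]
  refine Finset.sum_congr rfl fun k _ => ?_
  rcases eq_or_ne q j with rfl | hq
  · simp [Matrix.single_apply]
  · simp [Matrix.single_apply, hq, hq.symm]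

/-- the elementary transvection -/
noncomputable def el (p q : α × β) (e : F) : GL (α × β) F := tv (LinearMap.proj q) (e • Pi.single p 1)

theorem act_el {p q : α × β} (hpq : p ≠ q) (e : F) (z : α × β → F) :
    act (el p q e) z = z + (e * z q) • Pi.single p 1 := by
  rw [el, act_tv (by simp [hpq.symm]), smul_smul, mul_comm]
  rfl

theorem zel_single {j l : β} (hjl : j ≠ l) (i k : α) (e : F) :
    zel j l hjl (Matrix.single i k e) = el (i, j) (k, l) e := by
  refine gl_ext fun z => ?_
  rw [act_zel, act_el (by simp [hjl]), Matrix.single_mulVec]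
  congr 1
  funext p
  obtain ⟨x, y⟩ := p
  by_cases hx : x = i <;> by_cases hy : y = j <;>
    simp [pv_apply, col, Pi.single_apply, Function.update, hx, hy]

theorem zel_add {j l : β} (hjl : j ≠ l) (S T : Matrix α α F) :
    zel j l hjl S * zel j l hjl T = zel j l hjl (S + T) := by
  refine gl_ext fun z => ?_
  rw [act_mul, act_zel, act_zel, act_zel]
  have : col (z + pv (T *ᵥ col z l) (Pi.single j 1)) l = col z l := by
    funext i
    simp [col, pv_apply, hjl.symm]
  rw [this, Matrix.add_mulVec, pv_add_left]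
  abel

theorem zel_zero {j l : β} (hjl : j ≠ l) : zel j l hjl (0 : Matrix α α F) = 1 := by
  refine gl_ext fun z => ?_
  rw [act_zel, act_one, Matrix.zero_mulVec, pv_zero_left, add_zero]

/-- the row transvection in the right factor -/
noncomputable def bel (x j : β) (c : F) : GL β F := tv (LinearMap.proj j) (c • Pi.single x 1)

theorem act_bel {x j : β} (hxj : x ≠ j) (c : F) (v : β → F) :
    act (bel x j c) v = v + (c * v j) • Pi.single x 1 := by
  rw [bel, act_tv (by simp [hxj.symm]), smul_smul, mul_comm]
  rfl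

theorem det_bel {x j : β} (hxj : x ≠ j) (c : F) : (bel x j c : Matrix β β F).det = 1 := by
  rw [bel, det_eq_of_fix_hyperplane (act_tv (by simp [hxj.symm]))]
  simp [hxj.symm]

theorem act_kr_bel {x j : β} (hxj : x ≠ j) (c : F) (z : α × β → F) :
    act (kr ((1 : GL α F), bel x j c)) z = z + pv (c • col z j) (Pi.single x 1) := by
  funext p
  obtain ⟨i, y⟩ := p
  have := congrFun (row_kr_one (bel x j c) z i) y
  rw [act_bel hxj] at this
  simp only [row] at this
  rw [this]
  simp [row, col, pv_apply]

theorem kr_bel_eq_zel {x j : β} (hxj : x ≠ j) (c : F) :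
    kr ((1 : GL α F), bel x j c) = zel x j hxj (c • 1) :=
  gl_ext fun z => by rw [act_kr_bel hxj, act_zel, Matrix.smul_mulVec, Matrix.one_mulVec]

/-! ### the overgroup -/

/-- the overgroup contains the Kronecker products of determinant one -/
def Over (M : Subgroup (GL (α × β) F)) : Prop :=
  M ≤ Cfsg.Geo.specialLinear (α × β) F ∧ Kron α β F ⊓ Cfsg.Geo.specialLinear (α × β) F ≤ M

variable {M : Subgroup (GL (α × β) F)}

theorem mem_sl_iff {ι : Type} [Fintype ι] [DecidableEq ι] {g : GL ι F} :
    g ∈ Cfsg.Geo.specialLinear ι F ↔ (g : Matrix ι ι F).det = 1 := by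
  refine ⟨fun h => ?_, fun h => MonoidHom.mem_ker.2 (Units.ext (by simpa using h))⟩
  simpa using congrArg Units.val (MonoidHom.mem_ker.1 h)

theorem kr_mem_over (hM : Over M) {u : GL α F} {w : GL β F} (hu : (u : Matrix α α F).det = 1)
    (hw : (w : Matrix β β F).det = 1) : kr (u, w) ∈ M :=
  hM.2 ⟨kr_mem u w, mem_sl_iff.2 (by rw [det_kr, hu, hw, one_pow, one_pow, one_mul])⟩

theorem kr_bel_mem (hM : Over M) {x j : β} (hxj : x ≠ j) (c : F) : kr ((1 : GL α F), bel x j c) ∈ M :=
  kr_mem_over hM (by simp) (det_bel hxj c)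

/-- the matrices of the elements of `M` in one block position -/
def zGroup (M : Subgroup (GL (α × β) F)) (j l : β) (hjl : j ≠ l) : AddSubgroup (Matrix α α F) where
  carrier := {T | zel j l hjl T ∈ M}
  add_mem' {S T} hS hT := by
    show zel j l hjl (S + T) ∈ M
    rw [← zel_add]
    exact M.mul_mem hS hT
  zero_mem' := by
    show zel j l hjl 0 ∈ M
    rw [zel_zero]
    exact M.one_mem
  neg_mem' {T} hT := by
    show zel j l hjl (-T) ∈ M
    have h : zel j l hjl (-T) = (zel j l hjl T)⁻¹ := eq_inv_of_mul_eq_one_left (by rw [zel_add, neg_add_cancel, zel_zero])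
    rw [h]
    exact M.inv_mem hT

theorem zGroup_conj (hM : Over M) {j l : β} {hjl : j ≠ l} {T : Matrix α α F} (hT : T ∈ zGroup M j l hjl)
    {i k : α} (hik : i ≠ k) (c : F) : dconj i k c T ∈ zGroup M j l hjl := by
  obtain ⟨u, hu⟩ : ∃ u : GL α F, (u : Matrix α α F) = 1 + Matrix.single i k c ∧
      ((u⁻¹ : GL α F) : Matrix α α F) = 1 - Matrix.single i k c :=
    ⟨⟨1 + Matrix.single i k c, 1 - Matrix.single i k c, by simp [add_mul, mul_sub, hik.symm],
      by simp [sub_mul, mul_add, hik.symm]⟩, rfl, rfl⟩
  have hdet : (u : Matrix α α F).det = 1 := by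
    rw [hu.1]
    exact Matrix.det_transvection_of_ne i k hik c
  have hk := kr_mem_over hM hdet (show ((1 : GL β F) : Matrix β β F).det = 1 by simp)
  have h1 : zel j l hjl ((u : Matrix α α F) * T * ((u⁻¹ : GL α F) : Matrix α α F)) ∈ M := by
    have h : kr (u, (1 : GL β F)) * zel j l hjl T * (kr (u, 1))⁻¹ =
        zel j l hjl ((u : Matrix α α F) * T * ((u⁻¹ : GL α F) : Matrix α α F)) := by
      refine Units.ext ?_
      show ((u : Matrix α α F) ⊗ₖ (1 : Matrix β β F)) * (1 + T ⊗ₖ Matrix.single j l (1 : F)) *
        (((u⁻¹ : GL α F) : Matrix α α F) ⊗ₖ ((1⁻¹ : GL β F) : Matrix β β F)) =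
          1 + ((u : Matrix α α F) * T * ((u⁻¹ : GL α F) : Matrix α α F)) ⊗ₖ Matrix.single j l (1 : F)
      simp only [inv_one, Units.val_one, mul_add, add_mul, mul_one, one_mul, ← Matrix.mul_kronecker_mul,
        Units.mul_inv, Matrix.one_kronecker_one]
    rw [← h]
    exact M.mul_mem (M.mul_mem hk hT) (M.inv_mem hk)
  rw [hu.1, hu.2, conj_eq_add i k hik] at h1
  simpa using (zGroup M j l hjl).sub_mem h1 hT

/-- scalars of the block position -/
theorem zGroup_scalar (hM : Over M) {j l : β} {hjl : j ≠ l} (s : F) :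
    s • (1 : Matrix α α F) ∈ zGroup M j l hjl := by
  show zel j l hjl _ ∈ M
  rw [← kr_bel_eq_zel]
  exact kr_bel_mem hM hjl s

/-- an elementary transvection between rows generates everything -/
theorem sl_le_of_seed (hex : 3 ≤ Fintype.card α ∨ ∀ x : F, ∃ c : F, c ≠ 0 ∧ c ≠ x) (hb : 3 ≤ Fintype.card β)
    (hM : Over M) {i₀ k₀ : α} {j₀ l₀ : β} (hik : i₀ ≠ k₀) (hjl : j₀ ≠ l₀) {e₀ : F} (he : e₀ ≠ 0)
    (h : el (i₀, j₀) (k₀, l₀) e₀ ∈ M) : Cfsg.Geo.specialLinear (α × β) F ≤ M := by
  classical
  haveI : Nontrivial α := ⟨⟨i₀, k₀, hik⟩⟩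
  have third : ∀ a b : β, ∃ c, c ≠ a ∧ c ≠ b := fun a b => by
    by_contra hc
    push Not at hc
    have : Fintype.card β ≤ ({a, b} : Finset β).card := Finset.card_le_card fun x _ => by
      by_cases hx : x = a
      · simp [hx]
      · simp [hc x hx]
    have h2 := Finset.card_le_two (a := a) (b := b)
    omega
  -- all multiples
  have hscale : ∀ e : F, el (i₀, j₀) (k₀, l₀) e ∈ M := by
    intro e
    rcases eq_or_ne e 0 with rfl | he'
    · convert M.one_mem
      exact gl_ext fun z => by rw [act_el (by simp [hjl]), act_one]; simp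
    obtain ⟨j₂, hj2, hl2⟩ := third j₀ l₀
    set μ := e / e₀ with hμ
    have hμ0 : μ ≠ 0 := div_ne_zero he' he
    let d : β → F := Function.update (Function.update 1 j₀ μ) j₂ μ⁻¹
    have hdprod : ∏ x, d x = 1 := by
      rw [← Finset.mul_prod_erase _ _ (Finset.mem_univ j₀), ← Finset.mul_prod_erase _ _
        (Finset.mem_erase.2 ⟨hj2, Finset.mem_univ j₂⟩), Finset.prod_eq_one fun x hx => ?_]
      · simp [d, hj2, hj2.symm, mul_inv_cancel₀ hμ0]
      · simp only [Finset.mem_erase] at hx
        simp [d, hx.1, hx.2.1]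
    have hd : ∀ x, d x ≠ 0 := fun x hx => by
      have := Finset.prod_eq_zero (Finset.mem_univ x) hx
      rw [hdprod] at this
      exact one_ne_zero this
    let D : GL β F := Matrix.GeneralLinearGroup.mkOfDetNeZero (Matrix.diagonal d)
      (by rw [Matrix.det_diagonal, hdprod]; exact one_ne_zero)
    have hk : kr ((1 : GL α F), D) ∈ M := kr_mem_over hM (by simp) (by
      show (Matrix.diagonal d).det = 1
      rw [Matrix.det_diagonal, hdprod])
    have hact : ∀ z p, act (kr ((1 : GL α F), D)) z p = d p.2 * z p := fun z p => by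
      obtain ⟨i, x⟩ := p
      have := congrFun (row_kr_one D z i) x
      simp only [row] at this
      rw [this]
      show (Matrix.diagonal d *ᵥ row z i) x = _
      rw [Matrix.mulVec_diagonal]
      rfl
    have h' := M.mul_mem (M.mul_mem hk h) (M.inv_mem hk)
    convert h' using 1
    refine gl_ext fun z => ?_
    obtain ⟨z, rfl⟩ : ∃ z', act (kr ((1 : GL α F), D)) z' = z := ⟨_, act_act_inv _ z⟩
    rw [act_el (by simp [hjl]), act_mul, act_inv_act, act_mul, act_el (by simp [hjl]), map_add]
    congr 1
    funext p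
    simp only [Pi.smul_apply, smul_eq_mul, hact]
    by_cases hp : p = (i₀, j₀)
    · subst hp
      simp [d, hj2.symm, hl2.symm, hjl.symm, hμ]
      field_simp
    · simp [hp]
  -- all pairs of rows
  let P : β → β → Prop := fun j l => ∀ i k : α, i ≠ k → ∀ e : F, el (i, j) (k, l) e ∈ M
  have hP0 : P j₀ l₀ := by
    let S : Submodule F (Matrix α α F) :=
      { carrier := {T | ∀ s : F, s • T ∈ zGroup M j₀ l₀ hjl}
        add_mem' := fun {S T} hS hT s => by rw [smul_add]; exact add_mem (hS s) (hT s)
        zero_mem' := fun s => by rw [smul_zero]; exact zero_mem _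
        smul_mem' := fun c T hT s => by rw [smul_smul]; exact hT _ }
    have hS1 : Matrix.single i₀ k₀ (1 : F) ∈ S := fun s => by
      show zel j₀ l₀ hjl _ ∈ M
      rw [Matrix.smul_single, smul_eq_mul, mul_one, zel_single]
      exact hscale s
    intro i k hne e
    have := single_mem_of_one hex S (fun T hT a b hab c s => by
      have e1 : s • dconj a b c T = dconj a b c (s • T) := by simp [dconj, smul_sub]
      rw [e1]
      exact zGroup_conj hM (hT s) hab c) hik hS1 hne e
    show el _ _ e ∈ M
    rw [← zel_single hjl]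
    rw [Matrix.smul_single, smul_eq_mul, mul_one] at this
    exact this
  have step1 : ∀ {j l x : β}, j ≠ l → x ≠ l → x ≠ j → P j l → P x l := by
    intro j l x hjl hxl hxj hP i k hne e
    have hk := kr_bel_mem hM hxj (1 : F)
    have h1 := M.mul_mem (M.mul_mem (M.mul_mem hk (hP i k hne e)) (M.inv_mem hk)) (M.inv_mem (hP i k hne e))
    convert h1 using 1
    refine gl_ext fun z => ?_
    obtain ⟨z, rfl⟩ : ∃ z', act (el (i, j) (k, l) e) (act (kr ((1 : GL α F), bel x j 1)) z') = z :=
      ⟨_, by rw [act_act_inv, act_act_inv]⟩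
    rw [act_mul, act_inv_act, act_mul, act_inv_act, act_mul, act_el (by simp [hxl]), act_el (by simp [hjl]),
      act_kr_bel hxj, act_el (by simp [hjl]), act_kr_bel hxj]
    funext p
    obtain ⟨a, b⟩ := p
    by_cases ha : a = i <;> by_cases hb' : b = x <;> by_cases hb'' : b = j
    all_goals subst_vars
    all_goals simp [pv_apply, col, hne.symm, *, hxl.symm, hjl.symm, Ne.symm hxj]
    all_goals try ring
  have step2 : ∀ {j l y : β}, j ≠ l → y ≠ j → y ≠ l → P j l → P j y := by
    intro j l y hjl hyj hyl hP i k hne e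
    have hk := kr_bel_mem hM hyl.symm (1 : F)
    have h1 := M.mul_mem (M.mul_mem (M.mul_mem (hP i k hne e) hk) (M.inv_mem (hP i k hne e))) (M.inv_mem hk)
    convert h1 using 1
    refine gl_ext fun z => ?_
    obtain ⟨z, rfl⟩ : ∃ z', act (kr ((1 : GL α F), bel l y 1)) (act (el (i, j) (k, l) e) z') = z :=
      ⟨_, by rw [act_act_inv, act_act_inv]⟩
    rw [act_mul, act_inv_act, act_mul, act_inv_act, act_mul, act_el (by simp [hyj.symm]), act_el (by simp [hjl]),
      act_kr_bel hyl.symm, act_el (by simp [hjl]), act_kr_bel hyl.symm]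
    funext p
    obtain ⟨a, b⟩ := p
    by_cases ha : a = i <;> by_cases hb' : b = l <;> by_cases hb'' : b = j
    all_goals subst_vars
    all_goals simp [pv_apply, col, hne.symm, *, hyl.symm, hjl.symm, Ne.symm hyj]
    all_goals try ring
  have hmid : ∀ j l, j ≠ l → P j l := by
    intro x y hxy
    obtain ⟨z, hzx, hzl⟩ := third x l₀
    have h1 : ∀ x, x ≠ l₀ → P x l₀ := fun x hx => by
      rcases eq_or_ne x j₀ with rfl | hxj
      · exact hP0
      · exact step1 hjl hx hxj hP0
    have h2 : ∀ x y, x ≠ l₀ → y ≠ x → P x y := fun x y hx hy => by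
      rcases eq_or_ne y l₀ with rfl | hyl
      · exact h1 x hx
      · exact step2 hx hy hyl (h1 x hx)
    by_cases hx : x = l₀
    · subst hx
      obtain ⟨w, hwx, hwy⟩ := third x y
      exact step1 hwy hxy hwx.symm (h2 w y hwx hwy.symm)
    · exact h2 x y hx hxy.symm
  -- all pairs
  have hcomm : ∀ {p q r : α × β}, p ≠ q → q ≠ r → p ≠ r → (∀ e, el p q e ∈ M) → (∀ e, el q r e ∈ M) →
      ∀ e, el p r e ∈ M := by
    intro p q r hpq hqr hpr h1 h2 e
    have h3 := M.mul_mem (M.mul_mem (M.mul_mem (h1 e) (h2 1)) (M.inv_mem (h1 e))) (M.inv_mem (h2 1))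
    convert h3 using 1
    refine gl_ext fun z => ?_
    obtain ⟨z, rfl⟩ : ∃ z', act (el q r 1) (act (el p q e) z') = z := ⟨_, by rw [act_act_inv, act_act_inv]⟩
    rw [act_mul, act_inv_act, act_mul, act_inv_act, act_mul, act_el hpr, act_el hpq, act_el hqr, act_el hpq,
      act_el hqr]
    simp only [Pi.add_apply, Pi.smul_apply, smul_eq_mul, Pi.single_eq_of_ne hqr.symm, Pi.single_eq_of_ne hpr.symm,
      Pi.single_eq_of_ne hpq.symm, mul_zero, add_zero, one_mul, Pi.single_eq_same, mul_one]
    module
  have hall : ∀ p q : α × β, p ≠ q → ∀ e, el p q e ∈ M := by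
    have hsame : ∀ (i : α) (j m : β), j ≠ m → ∀ e, el (i, j) (i, m) e ∈ M := by
      intro i j m hjm
      obtain ⟨k, hk⟩ := exists_ne i
      obtain ⟨l, hlj, hlm⟩ := third j m
      exact hcomm (by simp [hk.symm]) (by simp [hk]) (by simp [hjm]) (hmid j l hlj.symm i k hk.symm)
        (hmid l m hlm k i hk)
    rintro ⟨i, j⟩ ⟨k, l⟩ hpq
    by_cases hik' : i = k
    · subst hik'
      exact hsame i j l (fun e => hpq (by rw [e]))
    by_cases hjl' : j = l
    · subst hjl'
      obtain ⟨m, hm, -⟩ := third j j
      exact hcomm (by simp [hm.symm]) (by simp [hm, hik']) (by simp [hik']) (hsame i j m hm.symm)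
        (hmid m j hm i k hik')
    · exact hmid j l hjl' i k hik'
  intro g hg
  rw [Cfsg.Geo.specialLinear, Cfsg.Agent.GL.det_ker_eq_range_toGL] at hg
  obtain ⟨A, rfl⟩ := hg
  have htop : M.comap (SpecialLinearGroup.toGL (n := α × β) (R := F)) = ⊤ := by
    refine Cfsg.Agent.GL.SL_eq_top_of_transvection_mem fun p q hpq e => ?_
    rw [Subgroup.mem_comap]
    convert hall p q hpq e using 1
    refine gl_ext fun z => ?_
    rw [act_el hpq, act_apply]
    show ((SpecialLinearGroup.transvection hpq e : SpecialLinearGroup (α × β) F) : Matrix (α × β) (α × β) F) *ᵥ z = _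
    rw [SpecialLinearGroup.transvection_coe, Matrix.add_mulVec, Matrix.one_mulVec, Matrix.single_mulVec]
    congr 1
    funext r
    by_cases hr : r = p <;> simp [Function.update, hr]
  exact Subgroup.mem_comap.1 (htop ▸ Subgroup.mem_top A : A ∈ M.comap _)

end Cfsg.Agent.MaxCl.TP
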