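/-
The centraliser of a root element of the right factor in a proper overgroup consists of Kronecker products: the
overgroup meets the unipotent radical of the flag of the root element only in Kronecker products.
-/
import Cfsg.Agent.Lib.MaxCl.TensorSeed

set_option autoImplicit false
set_option linter.unusedSectionVars false
set_option linter.style.haveILetI false

namespace Cfsg.Agent.MaxCl.TP

open Matrix
open scoped MatrixGroups Kronecker

variable {α β : Type} [Fintype α] [DecidableEq α] [Fintype β] [DecidableEq β] {F : Type*} [Field F]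

/-- a unipotent matrix has determinant one -/
theorem det_eq_one_of_unip [Finite F] {ι : Type} [Fintype ι] [DecidableEq ι] {g : GL ι F}
    (h : ∀ z, act g (act g (act g z - z) - (act g z - z)) - (act g (act g z - z) - (act g z - z)) = 0) :
    (g : Matrix ι ι F).det = 1 := by
  cases isEmpty_or_nonempty ι
  · exact Matrix.det_isEmpty
  set p := ringChar F with hp
  haveI : Fact p.Prime := ⟨CharP.prime_ringChar F⟩
  have hN : ((g : Matrix ι ι F) - 1) ^ 3 = 0 := by
    refine Matrix.toLin'.injective (LinearMap.ext fun z => ?_)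
    have hsub : ∀ y, ((g : Matrix ι ι F) - 1) *ᵥ y = act g y - y := fun y => by
      rw [Matrix.sub_mulVec, Matrix.one_mulVec, act_apply]
    rw [map_zero, LinearMap.zero_apply, Matrix.toLin'_apply, pow_succ, pow_two, ← Matrix.mulVec_mulVec,
      ← Matrix.mulVec_mulVec, hsub, hsub, hsub]
    exact h z
  have h4 : (3 : ℕ) ≤ p ^ 2 := by
    have := (Fact.out : p.Prime).two_le
    nlinarith
  have h1 : ((g : Matrix ι ι F)) ^ (p ^ 2) = 1 := by
    have h2 := sub_pow_char_pow_of_commute (p := p) (n := 2) (x := (g : Matrix ι ι F)) (y := 1) (Commute.one_right _)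
    rw [one_pow, pow_eq_zero_of_le h4 hN] at h2
    exact sub_eq_zero.1 h2.symm
  have h3 := congrArg Matrix.det h1
  rw [Matrix.det_pow, Matrix.det_one] at h3
  have h5 := sub_pow_char_pow (p := p) ((g : Matrix ι ι F).det) 1 (n := 2)
  rw [h3, one_pow, sub_self] at h5
  exact sub_eq_zero.1 ((pow_eq_zero_iff (by positivity)).1 h5)

theorem lext_single {M : Type*} [AddCommGroup M] [Module F M] {f g : (α × β → F) →ₗ[F] M}
    (h : ∀ y l, f (pv y (Pi.single l 1)) = g (pv y (Pi.single l 1))) : f = g :=
  (Pi.basisFun F (α × β)).ext fun p => by rw [Pi.basisFun_apply, ← pv_single, h]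

theorem gl_ext_single {g h : GL (α × β) F}
    (H : ∀ y l, act g (pv y (Pi.single l 1)) = act h (pv y (Pi.single l 1))) : g = h :=
  gl_ext fun x => LinearMap.congr_fun (lext_single H) x

theorem col_pv_single (y : α → F) (l q : β) :
    col (pv y (Pi.single l (1 : F))) q = if q = l then y else 0 := by
  rw [col_pv]
  by_cases h : q = l <;> simp [h]

theorem col_add (z z' : α × β → F) (j : β) : col (z + z') j = col z j + col z' j := rfl

theorem sum_pv_single (z : α × β → F) : z = ∑ l, pv (col z l) (Pi.single l 1) := by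
  funext p
  obtain ⟨i, q⟩ := p
  simp [Finset.sum_apply, pv_apply, col, Pi.single_apply]

/-- the elements trivial on the successive quotients of the flag of a root element -/
def InR (j₀ j₁ : β) (g : GL (α × β) F) : Prop :=
  (∀ x, col (act g x) j₁ = col x j₁) ∧
    (∀ x, col x j₁ = 0 → ∀ j, j ≠ j₀ → col (act g x) j = col x j) ∧
    ∀ y, act g (pv y (Pi.single j₀ 1)) = pv y (Pi.single j₀ 1)

variable {j₀ j₁ : β}

theorem InR.col0 {g : GL (α × β) F} (hg : InR j₀ j₁ g) {x : α × β → F} (hx : col x j₁ = 0) :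
    act g x = x + pv (col (act g x) j₀ - col x j₀) (Pi.single j₀ 1) := by
  funext p
  obtain ⟨i, q⟩ := p
  rcases eq_or_ne q j₀ with rfl | hq
  · simp [pv_apply, col]
  · have h := congrFun (hg.2.1 x hx q hq) i
    simp only [col] at h
    simp [pv_apply, hq, h]

theorem InR.det [Finite F] {g : GL (α × β) F} (hg : InR j₀ j₁ g) :
    (g : Matrix (α × β) (α × β) F).det = 1 := by
  refine det_eq_one_of_unip fun z => ?_
  set z₁ := act g z - z with hz₁
  have h1 : col z₁ j₁ = 0 := by
    have := hg.1 z
    rw [hz₁]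
    funext i
    simpa [col, sub_eq_zero] using congrFun this i
  rw [hg.col0 h1, add_sub_cancel_left, hg.2.2, sub_self]

variable [Finite F] {M : Subgroup (GL (α × β) F)}

theorem scalar_of_mem (hex : 3 ≤ Fintype.card α ∨ ∀ x : F, ∃ c : F, c ≠ 0 ∧ c ≠ x) (hb : 3 ≤ Fintype.card β)
    (hM : Over M) (hproper : ¬ Cfsg.Geo.specialLinear (α × β) F ≤ M) {j l : β} {hjl : j ≠ l} {T : Matrix α α F}
    (hT : zel j l hjl T ∈ M) : ∃ t : F, T = t • 1 :=
  scalar_of_invariant hex (zGroup M j l hjl) zGroup_scalar' (fun T hT i k hik c => zGroup_conj hM hT hik c)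
    (fun i k hik c hc h => hproper (sl_le_of_seed hex hb hM hik hjl hc (by rw [← zel_single hjl]; exact h))) hT
where
  zGroup_scalar' : ∀ s : F, s • (1 : Matrix α α F) ∈ zGroup M j l hjl := fun s => zGroup_scalar hM s

/-- **the overgroup meets the radical in products of the right factor** -/
theorem rowop_of_inR (hex : 3 ≤ Fintype.card α ∨ ∀ x : F, ∃ c : F, c ≠ 0 ∧ c ≠ x) (hb : 3 ≤ Fintype.card β)
    (hM : Over M) (hproper : ¬ Cfsg.Geo.specialLinear (α × β) F ≤ M) (h01 : j₀ ≠ j₁) {g : GL (α × β) F}
    (hg : g ∈ M) (hR : InR j₀ j₁ g) : ∃ w : GL β F, g = kr (1, w) := by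
  classical
  let ψ : β → Matrix α α F := fun l => LinearMap.toMatrix'
    { toFun := fun y => col (act g (pv y (Pi.single l 1))) j₀ - col (pv y (Pi.single l 1)) j₀
      map_add' := fun y y' => by
        funext i
        simp only [pv_add_left, map_add, col, Pi.sub_apply, Pi.add_apply]
        ring
      map_smul' := fun c y => by
        funext i
        simp only [pv_smul_left, map_smul, col, Pi.sub_apply, Pi.smul_apply, smul_eq_mul, RingHom.id_apply]
        ring }
  let χ : β → Matrix α α F := fun j => LinearMap.toMatrix'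
    { toFun := fun y => col (act g (pv y (Pi.single j₁ 1))) j
      map_add' := fun y y' => by
        funext i
        simp only [pv_add_left, map_add, col, Pi.add_apply]
      map_smul' := fun c y => by
        funext i
        simp only [pv_smul_left, map_smul, col, Pi.smul_apply, smul_eq_mul, RingHom.id_apply] }
  have hψ : ∀ l y, ψ l *ᵥ y = col (act g (pv y (Pi.single l 1))) j₀ - col (pv y (Pi.single l 1)) j₀ := fun l y => by
    rw [← Matrix.toLin'_apply, Matrix.toLin'_toMatrix']
    rfl
  have hχ : ∀ j y, χ j *ᵥ y = col (act g (pv y (Pi.single j₁ 1))) j := fun j y => by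
    rw [← Matrix.toLin'_apply, Matrix.toLin'_toMatrix']
    rfl
  have hgl : ∀ l, l ≠ j₁ → ∀ y, act g (pv y (Pi.single l 1)) =
      pv y (Pi.single l 1) + pv (ψ l *ᵥ y) (Pi.single j₀ 1) := by
    intro l hl y
    rw [hψ]
    exact hR.col0 (by rw [col_pv_single, if_neg hl.symm])
  have hg1 : ∀ y, col (act g (pv y (Pi.single j₁ 1))) j₁ = y := fun y => by rw [hR.1, col_pv_single, if_pos rfl]
  -- the two sides are scalar
  have hs : ∀ l, l ≠ j₀ → l ≠ j₁ → ∃ s : F, ψ l = s • 1 := by
    intro l hl0 hl1
    refine scalar_of_mem hex hb hM hproper (j := j₀) (l := j₁) (hjl := h01) ?_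
    have hp := kr_bel_mem hM hl1 (1 : F)
    have h := M.mul_mem (M.mul_mem hg hp) (M.inv_mem (M.mul_mem hp hg))
    convert h using 1
    refine eq_mul_inv_of_mul_eq (gl_ext_single fun y q => ?_)
    rw [act_mul, act_mul, act_mul, act_zel, act_kr_bel hl1, act_kr_bel hl1, col_pv_single]
    rcases eq_or_ne q j₁ with rfl | hq
    · rw [if_pos rfl, one_smul, map_add, hgl l hl1, hg1, one_smul, col_add, hg1, col_pv_single,
        if_neg hl1.symm, add_zero]
      abel
    · have h0 : col (act g (pv y (Pi.single q 1))) j₁ = 0 := by rw [hR.1, col_pv_single, if_neg hq.symm]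
      rw [if_neg hq.symm, smul_zero, pv_zero_left, add_zero, h0, smul_zero, pv_zero_left, add_zero, h0,
        Matrix.mulVec_zero, pv_zero_left, add_zero]
  have ht : ∀ j, j ≠ j₀ → j ≠ j₁ → ∃ t : F, χ j = t • 1 := by
    intro j hj0 hj1
    refine scalar_of_mem hex hb hM hproper (j := j₀) (l := j₁) (hjl := h01) ?_
    have hq := kr_bel_mem hM hj0.symm (1 : F)
    have h := M.mul_mem (M.mul_mem hq hg) (M.inv_mem (M.mul_mem hg hq))
    convert h using 1
    refine eq_mul_inv_of_mul_eq (gl_ext_single fun y q => ?_)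
    rw [act_mul, act_mul, act_mul, act_zel, act_kr_bel hj0.symm, act_kr_bel hj0.symm, col_pv_single]
    rcases eq_or_ne q j with rfl | hqj
    · rw [if_pos rfl, one_smul, map_add, hR.2.2, one_smul, col_add, col_pv_single, if_neg h01.symm, add_zero,
        hgl q hj1, col_add, col_pv_single, if_neg hj1.symm, col_pv_single, if_neg h01.symm, zero_add,
        Matrix.mulVec_zero, pv_zero_left, add_zero, col_add, col_pv_single, if_pos rfl, col_pv_single, if_neg hj0,
        add_zero]
    · rw [if_neg hqj.symm, smul_zero, pv_zero_left, add_zero, one_smul]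
      rcases eq_or_ne q j₁ with rfl | hq1
      · rw [hg1, hχ]
      · rw [hgl q hq1, col_add, col_add, col_pv_single, if_neg hq1.symm, col_pv_single, if_neg h01.symm,
          col_pv_single, if_neg hqj.symm, col_pv_single, if_neg hj0]
        simp [pv_zero_left, Matrix.mulVec_zero]
  choose! s hs using hs
  choose! t ht using ht
  let s' : β → F := fun l => if l = j₀ ∨ l = j₁ then 0 else s l
  let t' : β → F := fun j => if j = j₀ ∨ j = j₁ then 0 else t j
  let L : (β → F) →ₗ[F] (β → F) :=
    { toFun := fun v => v + (s' ⬝ᵥ v) • Pi.single j₀ 1 + v j₁ • t'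
      map_add' := fun v v' => by rw [dotProduct_add, Pi.add_apply, add_smul, add_smul]; abel
      map_smul' := fun c v => by
        rw [dotProduct_smul, Pi.smul_apply, smul_eq_mul, smul_eq_mul, RingHom.id_apply]
        module }
  have hL : ∀ v, L v = v + (s' ⬝ᵥ v) • Pi.single j₀ 1 + v j₁ • t' := fun v => rfl
  obtain ⟨w₀, hw₀⟩ := exists_gl L fun v v' he => by
    rw [← sub_eq_zero] at he ⊢
    rw [← map_sub] at he
    generalize v - v' = u at he ⊢
    rw [hL] at he
    have hu1 : u j₁ = 0 := by simpa [t', h01.symm] using congrFun he j₁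
    rw [hu1, zero_smul, add_zero] at he
    have hu : ∀ q, q ≠ j₀ → u q = 0 := fun q hq => by simpa [hq] using congrFun he q
    have hsu : s' ⬝ᵥ u = 0 := Finset.sum_eq_zero fun q _ => by
      rcases eq_or_ne q j₀ with rfl | hq
      · simp [s']
      · rw [hu q hq, mul_zero]
    rwa [hsu, zero_smul, add_zero] at he
  have hwT : g = kr ((1 : GL α F), w₀) * zel j₀ j₁ h01 (χ j₀) := by
    refine gl_ext_single fun y q => ?_
    rw [act_mul, act_zel, col_pv_single, map_add, act_kr_pv, act_kr_pv, act_one, act_one, hw₀, hw₀, hL, hL]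
    have e0 : s' ⬝ᵥ Pi.single j₀ (1 : F) = 0 := by simp [s']
    rw [e0, zero_smul, add_zero, Pi.single_eq_of_ne h01.symm, zero_smul, add_zero, dotProduct_single, mul_one]
    rcases eq_or_ne q j₁ with rfl | hq
    · rw [if_pos rfl, show s' q = 0 by simp [s'], zero_smul, add_zero, Pi.single_eq_same, one_smul]
      funext p
      obtain ⟨i, x⟩ := p
      have hx0 : (χ j₀ *ᵥ y) i = act g (pv y (Pi.single q 1)) (i, j₀) := by rw [hχ]; rfl
      have hx1 : act g (pv y (Pi.single q 1)) (i, q) = y i := congrFun (hg1 y) i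
      by_cases hx : x = j₀
      · subst hx
        simp [pv_apply, t', h01, hx0]
      by_cases hx' : x = q
      · subst hx'
        simp [pv_apply, t', h01.symm, hx1]
      · have hxx : act g (pv y (Pi.single q 1)) (i, x) = t x * y i := by
          have h := congrFun (hχ x y) i
          rw [ht x hx hx', Matrix.smul_mulVec, Matrix.one_mulVec] at h
          exact h.symm
        simp [pv_apply, t', hx, hx', hxx]
        ring
    · rw [if_neg hq.symm, Matrix.mulVec_zero, pv_zero_left, add_zero, Pi.single_eq_of_ne hq.symm, zero_smul,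
        add_zero, hgl q hq, pv_add_right, pv_smul_right]
      rcases eq_or_ne q j₀ with rfl | hq0
      · simp [hψ, hR.2.2, s', pv_zero_left]
      · rw [hs q hq0 hq, Matrix.smul_mulVec, Matrix.one_mulVec, pv_smul_left]
        simp [s', hq0, hq]
  have hdet : (kr ((1 : GL α F), w₀) : Matrix (α × β) (α × β) F).det = 1 := by
    refine InR.det (j₀ := j₀) (j₁ := j₁) ⟨fun x => ?_, fun x hx j hj => ?_, fun y => ?_⟩
    · funext i
      have h := congrFun (row_kr_one w₀ x i) j₁
      rw [hw₀, hL] at h
      simpa [row, col, t', h01.symm] using h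
    · funext i
      have h := congrFun (row_kr_one w₀ x i) j
      have hx' : x (i, j₁) = 0 := congrFun hx i
      rw [hw₀, hL] at h
      simpa [row, col, hj, hx'] using h
    · rw [act_kr_pv, act_one, hw₀, hL]
      simp [s', h01.symm]
  have hk : kr ((1 : GL α F), w₀) ∈ M := hM.2 ⟨kr_mem _ _, mem_sl_iff.2 hdet⟩
  have hz : zel j₀ j₁ h01 (χ j₀) ∈ M := by
    have := M.mul_mem (M.inv_mem hk) hg
    rwa [hwT, inv_mul_cancel_left] at this
  obtain ⟨z, hz'⟩ := scalar_of_mem hex hb hM hproper hz
  exact ⟨w₀ * bel j₀ j₁ z, by rw [hwT, hz', ← kr_bel_eq_zel h01, ← map_mul, Prod.mk_mul_mk, one_mul]⟩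

/-- **centralisers of root elements consist of Kronecker products** -/
theorem kron_of_commute (hex : 3 ≤ Fintype.card α ∨ ∀ x : F, ∃ c : F, c ≠ 0 ∧ c ≠ x) (hb : 3 ≤ Fintype.card β)
    (hM : Over M) (hproper : ¬ Cfsg.Geo.specialLinear (α × β) F ≤ M) (h01 : j₀ ≠ j₁) {c : GL (α × β) F}
    (hc : c ∈ M) (hcomm : c * kr ((1 : GL α F), bel j₀ j₁ (1 : F)) = kr ((1 : GL α F), bel j₀ j₁ (1 : F)) * c) :
    c ∈ Kron α β F := by
  classical
  cases isEmpty_or_nonempty α
  · exact ⟨1, gl_ext fun z => Subsingleton.elim _ _⟩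
  let U : (α → F) →ₗ[F] (α → F) :=
    { toFun := fun y => col (act c (pv y (Pi.single j₁ 1))) j₁
      map_add' := fun y y' => by rw [pv_add_left, map_add, col_add]
      map_smul' := fun t y => by rw [pv_smul_left, map_smul]; rfl }
  have hc0 : ∀ x, act c (pv (col x j₁) (Pi.single j₀ 1)) = pv (col (act c x) j₁) (Pi.single j₀ 1) := fun x => by
    have h := congrArg (fun k => act k x) hcomm
    simp only [act_mul, act_kr_bel h01, map_add, one_smul] at h
    exact add_left_cancel h
  have hcU : ∀ y, act c (pv y (Pi.single j₀ 1)) = pv (U y) (Pi.single j₀ 1) := fun y => by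
    have := hc0 (pv y (Pi.single j₁ 1))
    rwa [col_pv_single, if_pos rfl] at this
  have hUinj : Function.Injective U := fun y y' he => by
    have h1 := hcU (y - y')
    rw [map_sub U, he, sub_self, pv_zero_left] at h1
    have h2 : pv (y - y') (Pi.single j₀ (1 : F)) = 0 := act_injective c (by rw [h1, map_zero])
    exact sub_eq_zero.1 ((pv_eq_zero.1 h2).resolve_right fun e => by simpa using congrFun e j₀)
  have hcolU : ∀ x, col (act c x) j₁ = U (col x j₁) := fun x => by
    have h1 := hc0 x
    rw [hcU] at h1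
    funext i
    simpa [pv_apply] using (congrFun h1 (i, j₀)).symm
  have hτ : ∀ l, ∃ τ : β → F, τ j₁ = 0 ∧ (l ≠ j₁ → ∀ y, act c (pv y (Pi.single l 1)) = pv (U y) τ) := by
    intro l
    rcases eq_or_ne l j₁ with rfl | hl1
    · exact ⟨0, rfl, fun h => absurd rfl h⟩
    rcases eq_or_ne l j₀ with rfl | hl0
    · exact ⟨Pi.single l 1, by simp [hl1.symm], fun _ y => hcU y⟩
    have hp := kr_bel_mem hM hl1 (1 : F)
    set p := kr ((1 : GL α F), bel l j₁ (1 : F)) with hpdef
    set g := c * p * c⁻¹ with hgdef
    have hcolinv : ∀ x, U (col (act c⁻¹ x) j₁) = col x j₁ := fun x => by rw [← hcolU, act_act_inv]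
    have hfix : ∀ x, col x j₁ = 0 → act g x = x := fun x hx => by
      have h1 : col (act c⁻¹ x) j₁ = 0 := hUinj (by rw [hcolinv, hx, map_zero])
      rw [hgdef, act_mul, act_mul, hpdef, act_kr_bel hl1, h1, smul_zero, pv_zero_left, add_zero, act_act_inv]
    obtain ⟨w, hw⟩ := rowop_of_inR hex hb hM hproper h01 (M.mul_mem (M.mul_mem hc hp) (M.inv_mem hc))
      (show InR j₀ j₁ g from ⟨fun x => by
        rw [hgdef, act_mul, act_mul, hcolU, hpdef, act_kr_bel hl1, one_smul, col_add, col_pv_single,
          if_neg hl1.symm, add_zero, hcolinv],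
        fun x hx j _ => by rw [hfix x hx],
        fun y => hfix _ (by rw [col_pv_single, if_neg h01.symm])⟩)
    obtain ⟨y₀, hy₀⟩ := exists_ne (0 : α → F)
    have hwfix : ∀ v : β → F, v j₁ = 0 → act w v = v := fun v hv => by
      have h1 := hfix (pv y₀ v) (by rw [col_pv, hv, zero_smul])
      rw [show g = kr ((1 : GL α F), w) from hw, act_kr_pv, act_one, ← sub_eq_zero,
        show pv y₀ (act w v) - pv y₀ v = pv y₀ (act w v - v) from funext fun _ => (mul_sub _ _ _).symm] at h1
      exact sub_eq_zero.1 ((pv_eq_zero.1 h1).resolve_left hy₀)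
    set τ := act w (Pi.single j₁ 1) - Pi.single j₁ 1 with hτdef
    have hcy : ∀ y, act c (pv y (Pi.single l 1)) = pv (U y) τ := by
      intro y
      set x := pv y (Pi.single j₁ (1 : F)) with hx
      have e1 : act g (act c x) = act c x + act c (pv y (Pi.single l 1)) := by
        rw [hgdef, act_mul, act_mul, act_inv_act, hpdef, act_kr_bel hl1, one_smul, hx, col_pv_single, if_pos rfl,
          map_add]
      have e2 : ∀ z, act g z = z + pv (col z j₁) τ := by
        intro z
        rw [show g = kr ((1 : GL α F), w) from hw]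
        funext q
        obtain ⟨i, j⟩ := q
        have h := congrFun (row_kr_one w z i) j
        have hrow : row z i = (row z i - row z i j₁ • Pi.single j₁ 1) + row z i j₁ • Pi.single j₁ 1 := by abel
        rw [hrow, map_add, map_smul, hwfix _ (by simp)] at h
        simp only [row] at h
        rw [h]
        simp [hτdef, pv_apply, col, row]
        ring
      rw [e2, hcolU, hx, col_pv_single, if_pos rfl] at e1
      exact (add_left_cancel e1).symm
    refine ⟨τ, ?_, fun _ => hcy⟩
    have h1 := hcolU (pv y₀ (Pi.single l 1))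
    rw [hcy, col_pv, col_pv_single, if_neg hl1.symm, map_zero, smul_eq_zero] at h1
    exact h1.resolve_right fun e => hy₀ (hUinj (by rw [e, map_zero]))
  choose τ hτ1 hτ using hτ
  obtain ⟨u, hu⟩ := exists_gl U hUinj
  let W : (β → F) →ₗ[F] (β → F) := (Pi.basisFun F β).constr F fun l => if l = j₁ then Pi.single j₁ 1 else τ l
  have hW : ∀ l, W (Pi.single l 1) = if l = j₁ then Pi.single j₁ 1 else τ l := fun l => by
    rw [← Pi.basisFun_apply, Module.Basis.constr_basis]
  have hagree : ∀ y v, v j₁ = 0 → act c (pv y v) = pv (U y) (W v) := by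
    intro y v hv
    rw [(Pi.basisFun F β).sum_repr v |>.symm]
    let Sv : (β → F) →ₗ[F] (α × β → F) :=
      { toFun := fun v => pv y v
        map_add' := fun v v' => pv_add_right y v v'
        map_smul' := fun t v => pv_smul_right t y v }
    let Su : (β → F) →ₗ[F] (α × β → F) :=
      { toFun := fun v => pv (U y) v
        map_add' := fun v v' => pv_add_right _ v v'
        map_smul' := fun t v => pv_smul_right t _ v }
    show act c (Sv _) = Su (W _)
    simp only [map_sum, map_smul]
    refine Finset.sum_congr rfl fun l _ => ?_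
    rcases eq_or_ne l j₁ with rfl | hl
    · simp [hv]
    · congr 1
      show act c (pv y _) = pv (U y) _
      rw [Pi.basisFun_apply, hW, if_neg hl, hτ l hl]
  obtain ⟨w, hw⟩ := exists_gl W fun v v' he => by
    rw [← sub_eq_zero] at he ⊢
    rw [← map_sub] at he
    generalize v - v' = z at he ⊢
    have hz1 : z j₁ = 0 := by
      have h := congrFun he j₁
      rw [← (Pi.basisFun F β).sum_repr z, map_sum, Finset.sum_apply, Finset.sum_eq_single j₁ (fun q _ hq => by
        rw [map_smul, Pi.basisFun_apply, hW, if_neg hq, Pi.smul_apply, hτ1, smul_zero]) (by simp)] at h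
      rw [map_smul, Pi.basisFun_apply, hW, if_pos rfl] at h
      simpa using h
    obtain ⟨y₀, hy₀⟩ := exists_ne (0 : α → F)
    have h1 := hagree y₀ z hz1
    rw [he, pv_zero_right] at h1
    exact (pv_eq_zero.1 (act_injective c (by rw [h1, map_zero]))).resolve_left hy₀
  set k := kr (u, w) with hk
  have hkey : ∀ y v, v j₁ = 0 → act k (pv y v) = act c (pv y v) := fun y v hv => by
    rw [hk, act_kr_pv, hu, hw, hagree y v hv]
  have hKfix : ∀ x, col x j₁ = 0 → act k x = act c x := fun x hx => by
    rw [sum_pv_single x, map_sum, map_sum]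
    refine Finset.sum_congr rfl fun l _ => ?_
    rcases eq_or_ne l j₁ with rfl | hl
    · rw [hx, pv_zero_left, map_zero, map_zero]
    · exact hkey _ _ (by simp [hl.symm])
  have hkcol : ∀ z, col (act k z) j₁ = U (col z j₁) := fun z => by
    conv_lhs => rw [sum_pv_single z]
    rw [map_sum, show col (∑ l, act k (pv (col z l) (Pi.single l 1))) j₁ =
      ∑ l, col (act k (pv (col z l) (Pi.single l 1))) j₁ from funext fun i => by simp [col, Finset.sum_apply]]
    rw [Finset.sum_eq_single j₁ (fun l _ hl => by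
      rw [hk, act_kr_pv, col_pv, hw, hW, if_neg hl, hτ1, zero_smul]) (by simp)]
    rw [hk, act_kr_pv, col_pv, hw, hW, if_pos rfl, hu, Pi.single_eq_same, one_smul]
  have hR : InR j₀ j₁ (k⁻¹ * c) := by
    have hfix : ∀ x, col x j₁ = 0 → act (k⁻¹ * c) x = x := fun x hx => by
      rw [act_mul, ← hKfix x hx, act_inv_act]
    refine ⟨fun x => hUinj ?_, fun x hx j _ => by rw [hfix x hx], fun y => hfix _ (by
      rw [col_pv_single, if_neg h01.symm])⟩
    rw [← hkcol, act_mul, act_act_inv, hcolU]
  have hkM : k ∈ M := hM.2 ⟨kr_mem u w, mem_sl_iff.2 (by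
    have h1 := hR.det
    rw [Units.val_mul, Matrix.det_mul, mem_sl_iff.1 (hM.1 hc), mul_one] at h1
    have h2 : ((k⁻¹ : GL (α × β) F) : Matrix (α × β) (α × β) F).det * (k : Matrix (α × β) (α × β) F).det = 1 := by
      rw [← Matrix.det_mul, ← Units.val_mul, inv_mul_cancel, Units.val_one, Matrix.det_one]
    rwa [h1, one_mul] at h2)⟩
  obtain ⟨w', hw'⟩ := rowop_of_inR hex hb hM hproper h01 (M.mul_mem (M.inv_mem hkM) hc) hR
  rw [inv_mul_eq_iff_eq_mul] at hw'
  rw [hw']
  exact mul_mem (kr_mem u w) (kr_mem _ _)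

end Cfsg.Agent.MaxCl.TP
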