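/-
A proper overgroup of the Kronecker products of unequal dimensions consists of Kronecker products: a root element
of the larger factor is only conjugated into products by products, so the Sylow subgroups of the vector stabilisers
through root elements lie among the products, and every element preserves the pure vectors.
-/
import Cfsg.Agent.Lib.MaxCl.TensorCent

set_option autoImplicit false
set_option linter.unusedSectionVars false
set_option linter.style.haveILetI false

namespace Cfsg.Agent.MaxCl.TP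

open Matrix
open scoped MatrixGroups Kronecker

variable {α β : Type} [Fintype α] [DecidableEq α] [Fintype β] [DecidableEq β] {F : Type*} [Field F]

/-- scaling one coordinate -/
theorem exists_dg (q : β) {c : F} (hc : c ≠ 0) : ∃ D : GL β F, (D : Matrix β β F).det = c ∧
    ∀ v, act D v = v + ((c - 1) * v q) • Pi.single q 1 := by
  obtain ⟨D, hD⟩ := exists_gl (LinearMap.id + ((c - 1) • LinearMap.proj (R := F) (φ := fun _ : β => F) q).smulRight
    (Pi.single q 1)) fun v v' he => by
      funext x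
      have := congrFun he x
      by_cases hx : x = q
      · subst hx
        simp at this
        exact mul_left_cancel₀ hc (by linear_combination this)
      · simpa [hx] using this
  refine ⟨D, ?_, fun v => by rw [hD]; simp⟩
  rw [det_eq_of_fix_hyperplane (φ := (c - 1) • LinearMap.proj q) (v := Pi.single q 1) fun v => by rw [hD]; simp]
  simp

/-- all root elements of the factor are conjugate in the special linear group -/
theorem exists_move_root {j₀ j₁ : β} (h01 : j₀ ≠ j₁) (hb : 3 ≤ Fintype.card β) {φ : (β → F) →ₗ[F] F} {ζ : β → F}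
    (hφ : φ ≠ 0) (hζ : ζ ≠ 0) (hφζ : φ ζ = 0) :
    ∃ w : GL β F, (w : Matrix β β F).det = 1 ∧ w * bel j₀ j₁ 1 * w⁻¹ = tv φ ζ := by
  classical
  set e₀ : β → F := Pi.single j₀ 1 with he₀
  have he₀0 : e₀ ≠ 0 := fun h => by simpa [he₀] using congrFun h j₀
  obtain ⟨w₁, hw₁⟩ : ∃ w₁ : GL β F, act w₁ e₀ = ζ := by
    by_cases hdep : ∃ c : F, c • e₀ = ζ
    · obtain ⟨c, hc⟩ := hdep
      have hc0 : c ≠ 0 := fun h => hζ (by rw [← hc, h, zero_smul])
      obtain ⟨D, -, hD⟩ := exists_dg j₀ hc0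
      refine ⟨D, ?_⟩
      rw [hD, ← hc, he₀]
      simp [sub_smul]
    · obtain ⟨χ, z, -, hz, -⟩ := exists_tv_move ⊥ e₀ ζ (by
        rw [bot_sup_eq, Submodule.mem_span_singleton]
        rintro ⟨a, ha⟩
        rcases eq_or_ne a 1 with rfl | ha1
        · rw [one_smul, sub_eq_self] at ha
          exact he₀0 ha
        · refine hdep ⟨a / (a - 1), ?_⟩
          have h1 : a • e₀ = (a - 1) • ζ := by linear_combination (norm := module) -ha
          rw [div_eq_inv_mul, mul_smul, h1, inv_smul_smul₀ (sub_ne_zero.2 ha1)])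
      exact ⟨_, hz⟩
  set φ' := φ ∘ₗ act w₁ with hφ'
  have hφ'0 : φ' e₀ = 0 := by rw [hφ', LinearMap.comp_apply, hw₁, hφζ]
  have hφ'ne : φ' ≠ 0 := fun h => hφ (LinearMap.ext fun v => by
    have := LinearMap.congr_fun h (act w₁⁻¹ v)
    rwa [hφ', LinearMap.comp_apply, act_act_inv] at this)
  obtain ⟨w₂, hw₂0, hw₂φ⟩ : ∃ w₂ : GL β F, act w₂ e₀ = e₀ ∧ ∀ v, φ' (act w₂ v) = v j₁ := by
    by_cases hdep : ∀ v : β → F, v j₁ = 0 → φ' v = 0
    · have hform : ∀ v, φ' v = v j₁ * φ' (Pi.single j₁ 1) := fun v => by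
        have := hdep (v - v j₁ • Pi.single j₁ 1) (by simp)
        rwa [map_sub, map_smul, sub_eq_zero, smul_eq_mul] at this
      have hc : φ' (Pi.single j₁ 1) ≠ 0 := fun h => hφ'ne (LinearMap.ext fun v => by rw [hform, h]; simp)
      obtain ⟨D, -, hD⟩ := exists_dg j₁ (inv_ne_zero hc)
      refine ⟨D, by rw [hD, he₀]; simp [h01.symm], fun v => ?_⟩
      rw [hform, hD]
      simp only [Pi.add_apply, Pi.smul_apply, Pi.single_eq_same, smul_eq_mul, mul_one]
      field_simp
      ring
    · push Not at hdep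
      obtain ⟨v₀, hv₀, hv₀φ⟩ := hdep
      set z := Pi.single j₁ 1 + ((1 - φ' (Pi.single j₁ 1)) / φ' v₀) • v₀ with hz
      have hzj : z j₁ = 1 := by simp [hz, hv₀]
      have hzφ : φ' z = 1 := by rw [hz, map_add, map_smul, smul_eq_mul, div_mul_cancel₀ _ hv₀φ]; ring
      have hψz : (LinearMap.proj (R := F) (φ := fun _ : β => F) j₁ - φ') z = 0 := by simp [hzj, hzφ]
      refine ⟨tv (LinearMap.proj j₁ - φ') z, ?_, fun v => ?_⟩
      · rw [act_tv hψz]
        have : (LinearMap.proj (R := F) (φ := fun _ : β => F) j₁ - φ') e₀ = 0 := by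
          rw [LinearMap.sub_apply, hφ'0, LinearMap.proj_apply, he₀, Pi.single_eq_of_ne h01.symm, sub_zero]
        rw [this, zero_smul, add_zero]
      · rw [act_tv hψz, map_add, map_smul, hzφ]
        simp
  obtain ⟨j₂, hj0, hj1⟩ : ∃ j₂, j₂ ≠ j₀ ∧ j₂ ≠ j₁ := by
    by_contra hc
    push Not at hc
    have : Fintype.card β ≤ ({j₀, j₁} : Finset β).card := Finset.card_le_card fun x _ => by
      by_cases hx : x = j₀
      · simp [hx]
      · simp [hc x hx]
    have h2 := Finset.card_le_two (a := j₀) (b := j₁)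
    omega
  set d := ((w₁ * w₂ : GL β F) : Matrix β β F).det with hd
  have hd0 : d ≠ 0 := (Matrix.GeneralLinearGroup.det (w₁ * w₂)).ne_zero
  obtain ⟨D, hDdet, hD⟩ := exists_dg j₂ (inv_ne_zero hd0)
  refine ⟨w₁ * w₂ * D, by rw [Units.val_mul, Matrix.det_mul, ← hd, hDdet, mul_inv_cancel₀ hd0], ?_⟩
  have hWe : act (w₁ * w₂ * D) e₀ = ζ := by
    rw [act_mul, act_mul, hD, he₀, Pi.single_eq_of_ne hj0, mul_zero, zero_smul, add_zero, ← he₀, hw₂0, hw₁]
  have hWφ : ∀ v, φ (act (w₁ * w₂ * D) v) = v j₁ := fun v => by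
    rw [act_mul, act_mul]
    show φ' _ = _
    rw [hw₂φ, hD]
    simp [hj1.symm]
  rw [bel, conj_tv _ (by simp [h01.symm]), map_smul, one_smul, hWe]
  congr 1
  refine LinearMap.ext fun v => ?_
  rw [LinearMap.comp_apply, LinearMap.proj_apply, ← hWφ (act (w₁ * w₂ * D)⁻¹ v), act_act_inv]

/-- some root element fixes a given vector when the left factor is smaller -/
theorem exists_root_fix (hab : Fintype.card α < Fintype.card β) (hb : 2 ≤ Fintype.card β) (x : α × β → F) :
    ∃ (φ : (β → F) →ₗ[F] F) (ζ : β → F), φ ≠ 0 ∧ ζ ≠ 0 ∧ φ ζ = 0 ∧ act (kr ((1 : GL α F), tv φ ζ)) x = x := by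
  classical
  set W := Submodule.span F (Set.range (row x)) with hW
  have hWd : Module.finrank F W ≤ Fintype.card α := by
    refine (finrank_span_le_card _).trans ?_
    rw [Set.toFinset_range]
    exact Finset.card_image_le
  obtain ⟨v, hv⟩ : ∃ v, v ∉ W := by
    by_contra h
    push Not at h
    have : W = ⊤ := eq_top_iff.2 fun v _ => h v
    rw [this, finrank_top, Module.finrank_fintype_fun_eq_card] at hWd
    omega
  obtain ⟨φ, hφW, hφv⟩ := exists_dual W hv
  obtain ⟨ζ, hζ, hζ0⟩ := Submodule.exists_mem_ne_zero_of_ne_bot (p := LinearMap.ker φ) fun h => by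
    have h1 := LinearMap.finrank_range_add_finrank_ker φ
    rw [h, finrank_bot, add_zero, Module.finrank_fintype_fun_eq_card] at h1
    have h2 := (Submodule.finrank_le (LinearMap.range φ)).trans_eq (Module.finrank_self F)
    omega
  refine ⟨φ, ζ, fun h => by simp [h] at hφv, hζ0, hζ, ?_⟩
  funext p
  obtain ⟨i, j⟩ := p
  have h := congrFun (row_kr_one (tv φ ζ) x i) j
  rw [act_tv hζ, hφW _ (Submodule.subset_span ⟨i, rfl⟩), zero_smul, add_zero] at h
  exact h

variable [Finite F] {M : Subgroup (GL (α × β) F)} {j₀ j₁ : β}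

/-- **a root element is only conjugated into the products by products** -/
theorem kron_of_conj (hex : 3 ≤ Fintype.card α ∨ ∀ x : F, ∃ c : F, c ≠ 0 ∧ c ≠ x) (ha : 2 ≤ Fintype.card α)
    (hab : Fintype.card α < Fintype.card β) (hb : 3 ≤ Fintype.card β)
    (hM : Over M) (hproper : ¬ Cfsg.Geo.specialLinear (α × β) F ≤ M) (h01 : j₀ ≠ j₁) {c : GL (α × β) F}
    (hc : c ∈ M) (hconj : c * kr ((1 : GL α F), bel j₀ j₁ (1 : F)) * c⁻¹ ∈ Kron α β F) : c ∈ Kron α β F := by
  classical
  set r := kr ((1 : GL α F), bel j₀ j₁ (1 : F)) with hr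
  obtain ⟨u, w, huw⟩ := exists_of_mem hconj
  set g := c * r * c⁻¹ with hg
  let R : (α → F) →ₗ[F] (α × β → F) := act c ∘ₗ
    { toFun := fun y => pv y (Pi.single j₀ 1)
      map_add' := fun y y' => pv_add_left y y' _
      map_smul' := fun t y => pv_smul_left t y _ }
  have himg : ∀ z, act g z - z ∈ LinearMap.range R := fun z => by
    refine ⟨col (act c⁻¹ z) j₁, ?_⟩
    show act c (pv (col (act c⁻¹ z) j₁) (Pi.single j₀ 1)) = _
    rw [hg, act_mul, act_mul, hr, act_kr_bel h01, map_add, act_act_inv, one_smul, add_sub_cancel_left]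
  have hR : Module.finrank F (LinearMap.range R) ≤ Fintype.card α :=
    (LinearMap.finrank_range_le R).trans_eq (Module.finrank_fintype_fun_eq_card F)
  have hpar : ∀ y, ∃ t : F, t • LinearMap.id (R := F) (M := α → F) y = act u y := by
    intro y
    rcases eq_or_ne y 0 with rfl | hy
    · exact ⟨0, by simp⟩
    refine not_pair hy fun hli => ?_
    rw [LinearIndependent.pair_iff] at hli
    let N : (β → F) →ₗ[F] LinearMap.range R := LinearMap.codRestrict _
      ((act g - LinearMap.id) ∘ₗ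
        { toFun := fun v => pv y v
          map_add' := fun v v' => pv_add_right y v v'
          map_smul' := fun t v => pv_smul_right t y v }) fun v => himg _
    have hN : Function.Injective N := by
      rw [← LinearMap.ker_eq_bot, LinearMap.ker_eq_bot']
      intro v hv
      have h1 : act g (pv y v) - pv y v = 0 := congrArg Subtype.val hv
      rw [huw, act_kr_pv] at h1
      funext j
      have h2 : (-v j) • y + act w v j • act u y = 0 := funext fun i => by
        have := congrFun h1 (i, j)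
        simp only [Pi.sub_apply, pv_apply, Pi.zero_apply] at this
        simp only [Pi.add_apply, Pi.smul_apply, smul_eq_mul, Pi.zero_apply]
        linear_combination this
      exact neg_eq_zero.1 (hli _ _ h2).1
    have := (LinearMap.finrank_le_finrank_of_injective hN).trans hR
    rw [Module.finrank_fintype_fun_eq_card] at this
    omega
  obtain ⟨lam, hlam⟩ := eq_smul_of_forall (β := α) (W₁ := LinearMap.id) (W₂ := act u) Function.injective_id ha hpar
  set L := lam • act w with hL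
  have hgpv : ∀ y v, act g (pv y v) = pv y (L v) := fun y v => by
    rw [huw, act_kr_pv, hlam, LinearMap.id_apply, pv_smul_left, hL, LinearMap.smul_apply, pv_smul_right]
  have hdiff : ∀ y v, pv y (L v - v) ∈ LinearMap.range R := fun y v => by
    rw [show pv y (L v - v) = act g (pv y v) - pv y v by rw [hgpv]; exact funext fun _ => mul_sub _ _ _]
    exact himg _
  haveI : Nonempty α := Fintype.card_pos_iff.1 (by omega)
  obtain ⟨y₀, hy₀⟩ := exists_ne (0 : α → F)
  obtain ⟨v₀, hv₀⟩ : ∃ v, L v - v ≠ 0 := by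
    by_contra hall
    push Not at hall
    have h1 : g = 1 := gl_ext_pv fun y v => by rw [hgpv, act_one, sub_eq_zero.1 (hall v)]
    have h2 : r = 1 := by
      have := congrArg (fun k => c⁻¹ * k * c) h1
      simpa [hg, mul_assoc] using this
    have h3 := congrArg (fun k => act k (pv y₀ (Pi.single j₁ 1))) h2
    simp only [act_one, hr, act_kr_bel h01, col_pv_single, if_true, one_smul, add_eq_left] at h3
    exact hy₀ ((pv_eq_zero.1 h3).resolve_right fun e => by simpa using congrFun e j₀)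
  set ζ := L v₀ - v₀ with hζ
  have hline : ∀ v, ∃ t : F, t • ζ = L v - v := fun v => by
    refine not_pair hv₀ fun hli => ?_
    rw [LinearIndependent.pair_iff] at hli
    let N : ((α → F) × (α → F)) →ₗ[F] LinearMap.range R := LinearMap.codRestrict _
      { toFun := fun p => pv p.1 ζ + pv p.2 (L v - v)
        map_add' := fun p q => by simp only [Prod.fst_add, Prod.snd_add, pv_add_left]; abel
        map_smul' := fun t p => by simp only [Prod.smul_fst, Prod.smul_snd, pv_smul_left, smul_add, RingHom.id_apply] }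
      fun p => Submodule.add_mem _ (hdiff _ _) (hdiff _ _)
    have hN : Function.Injective N := by
      rw [← LinearMap.ker_eq_bot, LinearMap.ker_eq_bot']
      rintro ⟨p, q⟩ hpq
      have h1 : pv p ζ + pv q (L v - v) = 0 := congrArg Subtype.val hpq
      have h2 : ∀ i, p i = 0 ∧ q i = 0 := fun i => hli _ _ (funext fun j => congrFun h1 (i, j))
      exact Prod.ext (funext fun i => (h2 i).1) (funext fun i => (h2 i).2)
    have := (LinearMap.finrank_le_finrank_of_injective hN).trans hR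
    rw [Module.finrank_prod, Module.finrank_fintype_fun_eq_card] at this
    omega
  choose t ht using hline
  let φ : (β → F) →ₗ[F] F :=
    { toFun := t
      map_add' := fun v v' => smul_left_injective F hv₀ (by
        show t (v + v') • ζ = (t v + t v') • ζ
        rw [add_smul, ht, ht, ht, map_add]
        abel)
      map_smul' := fun s v => smul_left_injective F hv₀ (by
        show t (s • v) • ζ = (s • t v) • ζ
        rw [smul_assoc, ht, ht, map_smul, smul_sub]) }
  have hφ : ∀ v, L v = v + φ v • ζ := fun v => by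
    show L v = v + t v • ζ
    rw [ht]
    abel
  have hsq : ∀ z, act g (act g z - z) = act g z - z := fun z => by
    obtain ⟨y, hy⟩ := himg z
    rw [← hy]
    show act g (act c _) = act c _
    rw [hg, act_mul, act_mul, act_inv_act]
    congr 1
    show act r (pv y (Pi.single j₀ 1)) = _
    rw [hr, act_kr_bel h01, col_pv_single, if_neg h01.symm, smul_zero, pv_zero_left, add_zero]
    rfl
  have hφζ : φ ζ = 0 := by
    have h1 := hsq (pv y₀ v₀)
    rw [hgpv, show pv y₀ (L v₀) - pv y₀ v₀ = pv y₀ ζ from funext fun _ => (mul_sub _ _ _).symm, hgpv, hφ,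
      pv_add_right, add_eq_left, pv_smul_right, smul_eq_zero] at h1
    exact h1.resolve_right fun e => hv₀ ((pv_eq_zero.1 e).resolve_left hy₀)
  have hφne : φ ≠ 0 := fun h => hv₀ (by
    show L v₀ - v₀ = 0
    rw [hφ, h, LinearMap.zero_apply, zero_smul, add_zero, sub_self])
  obtain ⟨w', hdet, hw'⟩ := exists_move_root h01 hb hφne hv₀ hφζ
  have hgroot : g = kr ((1 : GL α F), w') * r * (kr ((1 : GL α F), w'))⁻¹ := by
    rw [hr, ← map_inv, ← map_mul, ← map_mul, Prod.inv_mk, Prod.mk_mul_mk, Prod.mk_mul_mk, hw', inv_one, one_mul, one_mul]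
    exact gl_ext_pv fun y v => by rw [hgpv, act_kr_pv, act_one, act_tv hφζ, hφ]
  have hkM : kr ((1 : GL α F), w') ∈ M := kr_mem_over hM (by simp) hdet
  have hcomm : (kr ((1 : GL α F), w'))⁻¹ * c * r = r * ((kr ((1 : GL α F), w'))⁻¹ * c) := by
    have h1 : c * r = g * c := by rw [hg, inv_mul_cancel_right]
    rw [mul_assoc, h1, hgroot]
    group
  have := kron_of_commute hex hb hM hproper h01 (M.mul_mem (M.inv_mem hkM) hc) hcomm
  have h2 := (Kron α β F).mul_mem (kr_mem (1 : GL α F) w') this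
  rwa [mul_inv_cancel_left] at h2

/-- the root element has order the characteristic -/
theorem bel_pow_char (h01 : j₀ ≠ j₁) :
    (kr ((1 : GL α F), bel j₀ j₁ (1 : F))) ^ ringChar F = 1 := by
  have h : ∀ n : ℕ, (kr ((1 : GL α F), bel j₀ j₁ (1 : F))) ^ n = zel j₀ j₁ h01 ((n : F) • 1) := by
    intro n
    induction n with
    | zero => rw [pow_zero, Nat.cast_zero, zero_smul, zel_zero]
    | succ n ih => rw [pow_succ, ih, kr_bel_eq_zel h01, zel_add, ← add_smul, Nat.cast_succ]
  rw [h, ringChar.Nat.cast_ringChar, zero_smul, zel_zero]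

/-- **a proper overgroup consists of Kronecker products** -/
theorem le_kron (hex : 3 ≤ Fintype.card α ∨ ∀ x : F, ∃ c : F, c ≠ 0 ∧ c ≠ x) (ha : 2 ≤ Fintype.card α)
    (hab : Fintype.card α < Fintype.card β) (hM : Over M)
    (hproper : ¬ Cfsg.Geo.specialLinear (α × β) F ≤ M) : M ≤ Kron α β F := by
  classical
  have hb : 3 ≤ Fintype.card β := by omega
  obtain ⟨j₀, j₁, h01⟩ := Fintype.exists_pair_of_one_lt_card (α := β) (by omega)
  set r := kr ((1 : GL α F), bel j₀ j₁ (1 : F)) with hr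
  set p := ringChar F with hp
  haveI : Fact p.Prime := ⟨CharP.prime_ringChar F⟩
  have hroot : ∀ x : α × β → F, ∃ k ∈ M, k ∈ Kron α β F ∧ act (k * r * k⁻¹) x = x := fun x => by
    obtain ⟨φ, ζ, hφ, hζ, hφζ, hfix⟩ := exists_root_fix hab (by omega) x
    obtain ⟨w, hdet, hw⟩ := exists_move_root h01 hb hφ hζ hφζ
    refine ⟨kr ((1 : GL α F), w), kr_mem_over hM (by simp) hdet, kr_mem _ _, ?_⟩
    rw [hr, ← map_inv, ← map_mul, ← map_mul, Prod.inv_mk, Prod.mk_mul_mk, Prod.mk_mul_mk, hw, inv_one, one_mul, one_mul]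
    exact hfix
  have hrM : r ∈ M := kr_bel_mem hM h01 1
  have hconjK : ∀ {h k : GL (α × β) F}, h ∈ M → k ∈ M → k ∈ Kron α β F →
      h * (k * r * k⁻¹) * h⁻¹ ∈ Kron α β F → h ∈ Kron α β F := by
    intro h k hh hk hkK hmem
    have := kron_of_conj hex ha hab hb hM hproper h01 (M.mul_mem hh hk) (by
      rwa [_root_.mul_inv_rev, show h * k * r * (k⁻¹ * h⁻¹) = h * (k * r * k⁻¹) * h⁻¹ by group])
    simpa using (Kron α β F).mul_mem this ((Kron α β F).inv_mem hkK)
  intro g hg
  refine mem_kron_of_pure hab (by omega) fun y v => ?_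
  -- the inverse also preserves pure vectors; here directly for `g`
  set v₀ := pv y v with hv₀
  set x := act g v₀ with hx
  obtain ⟨k₁, hk₁, hk₁K, hr₁⟩ := hroot v₀
  obtain ⟨k₂, hk₂, hk₂K, hr₂⟩ := hroot x
  set r₁ := k₁ * r * k₁⁻¹ with hr₁def
  set y₂ := g⁻¹ * (k₂ * r * k₂⁻¹) * g with hy₂
  have hr₁M : r₁ ∈ M := M.mul_mem (M.mul_mem hk₁ hrM) (M.inv_mem hk₁)
  have hy₂M : y₂ ∈ M :=
    M.mul_mem (M.mul_mem (M.inv_mem hg) (M.mul_mem (M.mul_mem hk₂ hrM) (M.inv_mem hk₂))) hg
  let St : Subgroup (GL (α × β) F) :=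
    { carrier := {s | s ∈ M ∧ act s v₀ = v₀}
      mul_mem' := fun {s t} hs ht => ⟨M.mul_mem hs.1 ht.1, by rw [act_mul, ht.2, hs.2]⟩
      one_mem' := ⟨M.one_mem, act_one _⟩
      inv_mem' := fun {s} hs => ⟨M.inv_mem hs.1, act_injective s (by rw [act_act_inv, hs.2])⟩ }
  have hr₁S : r₁ ∈ St := ⟨hr₁M, hr₁⟩
  have hy₂S : y₂ ∈ St := ⟨hy₂M, by rw [hy₂, act_mul, act_mul, ← hx, hr₂, hx, act_inv_act]⟩
  have hpow : ∀ {s : St}, (s : GL (α × β) F) ^ p = 1 → IsPGroup p (Subgroup.zpowers s) := fun {s} hs z => ⟨1, by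
    obtain ⟨z, i, rfl⟩ := z
    refine Subtype.ext (Subtype.ext ?_)
    show ((s : GL (α × β) F) ^ i) ^ p ^ 1 = 1
    rw [pow_one, ← zpow_natCast, ← _root_.zpow_mul, mul_comm, _root_.zpow_mul, zpow_natCast, hs, _root_.one_zpow]⟩
  obtain ⟨P, hP⟩ := IsPGroup.exists_le_sylow (p := p) (P := Subgroup.zpowers (⟨r₁, hr₁S⟩ : St)) (hpow (by
    show r₁ ^ p = 1
    rw [hr₁def, conj_pow, hr, bel_pow_char h01, mul_one, mul_inv_cancel]))
  obtain ⟨P', hP'⟩ := IsPGroup.exists_le_sylow (p := p) (P := Subgroup.zpowers (⟨y₂, hy₂S⟩ : St)) (hpow (by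
    show y₂ ^ p = 1
    rw [show y₂ = (g⁻¹ * k₂) * r * (g⁻¹ * k₂)⁻¹ by rw [hy₂]; group, conj_pow, hr, bel_pow_char h01, mul_one,
      mul_inv_cancel]))
  -- the Sylow subgroup through the root element consists of products
  have hPK : ∀ s : St, s ∈ P → (s : GL (α × β) F) ∈ Kron α β F := by
    haveI : Group.IsNilpotent ((P : Subgroup St) : Subgroup St) := P.2.isNilpotent
    let T : Subgroup ((P : Subgroup St) : Subgroup St) :=
      (Kron α β F).comap (St.subtype.comp (P : Subgroup St).subtype)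
    suffices T = ⊤ by
      intro s hs
      exact (show (⟨s, hs⟩ : (P : Subgroup St)) ∈ T by rw [this]; exact Subgroup.mem_top _)
    by_contra hT
    obtain ⟨n, hn, hnT⟩ := SetLike.exists_of_lt
      (Group.normalizerCondition_of_isNilpotent T (lt_top_iff_ne_top.2 hT))
    refine hnT ?_
    have hr₁P : (⟨r₁, hr₁S⟩ : St) ∈ P := hP (Subgroup.mem_zpowers _)
    have hr₁T : (⟨⟨r₁, hr₁S⟩, hr₁P⟩ : (P : Subgroup St)) ∈ T :=
      mul_mem (mul_mem hk₁K (kr_mem _ _)) (inv_mem hk₁K)
    have := (Subgroup.mem_normalizer_iff.1 hn _).1 hr₁T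
    exact hconjK (n : St).2.1 hk₁ hk₁K this
  obtain ⟨c, hc⟩ := MulAction.exists_smul_eq St P P'
  have hy₂P' : (⟨y₂, hy₂S⟩ : St) ∈ P' := hP' (Subgroup.mem_zpowers _)
  rw [← hc, ← SetLike.mem_coe, Sylow.coe_smul] at hy₂P'
  obtain ⟨s, hs, hse⟩ := hy₂P'
  have hse' : (c : GL (α × β) F) * s * (c : GL (α × β) F)⁻¹ = y₂ := congrArg Subtype.val hse
  have hK : (c : GL (α × β) F)⁻¹ * g⁻¹ ∈ Kron α β F := hconjK (M.mul_mem (M.inv_mem c.2.1) (M.inv_mem hg)) hk₂ hk₂K (by
    have e : ((c : GL (α × β) F)⁻¹ * g⁻¹) * (k₂ * r * k₂⁻¹) * ((c : GL (α × β) F)⁻¹ * g⁻¹)⁻¹ =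
        (c : GL (α × β) F)⁻¹ * y₂ * c := by rw [hy₂]; group
    rw [e, ← hse', show (c : GL (α × β) F)⁻¹ * (c * s * (c : GL (α × β) F)⁻¹) * c = s by group]
    exact hPK s hs)
  obtain ⟨u, w, huw⟩ := exists_of_mem ((Kron α β F).inv_mem hK)
  refine ⟨act u y, act w v, ?_⟩
  have h1 : act (g * (c : GL (α × β) F)) v₀ = pv (act u y) (act w v) := by
    rw [show g * (c : GL (α × β) F) = kr (u, w) by rw [← huw]; group, hv₀, act_kr_pv]
  rwa [act_mul, c.2.2] at h1

end Cfsg.Agent.MaxCl.TP
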