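/-
Maximal geometric subgroups of the special linear groups of degree at least six: the proofs for degree at least
thirteen, which need no more.
-/
import Cfsg.Agent.Lib.MaxCl.LinearBlocks
import Cfsg.Agent.Lib.MaxCl.SympSwap
import Cfsg.Agent.Lib.MaxCl.TensorMax
import Cfsg.Agent.Lib.Aschbacher.MatrixUnits
import Cfsg.Agent.Lib.MaxCl.Symplectic
import Cfsg.Agent.Lib.MaxCl.Unitary
import Cfsg.Agent.Lib.MaxCl.LinearOrth
import Cfsg.Agent.Lib.MaxCl.LinearMonomialSmall
import Cfsg.Agent.Lib.MaxCl.SLFour.Mono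

set_option autoImplicit false

namespace Cfsg.Agent.MaxClLists

open Cfsg Cfsg.Agent.MaxCl

section
open Cfsg.Agent.MaxCl.Monom

/-- For a finite field F with q elements and n ≥ 6 (or n ≥ 4, q ≥ 4, with n = 4 and q ≥ 7 if m = 1), let D be a decomposition of F^n into t ≥ 2 independent subspaces of equal dimension m ≥ 1 spanning F^n. Unless m = 1 and q ≤ 4, or m = 2 and q = 2, the elements of SL_n(F) permuting the members of D form a maximal subgroup of SL_n(F). -/
theorem decomposition_maximal' {F : Type*} [Field F] [Fintype F] (n : ℕ) {t : ℕ} (m : ℕ) (hn : 6 ≤ n ∨ (4 ≤ n ∧ 4 ≤ Fintype.card F ∧ (m = 1 → n = 4 ∧ 7 ≤ Fintype.card F))) (D : Fin t → Submodule F (Fin n → F)) (hD : Cfsg.Geo.IsMDecomposition m D) (h1 : ¬ (m = 1 ∧ Fintype.card F ≤ 4)) (h2 : ¬ (m = 2 ∧ Fintype.card F = 2)) : Cfsg.Geo.IsMaximalIn (Cfsg.Geo.specialLinear (Fin n) F) (Cfsg.Geo.decompositionStabilizer D ⊓ Cfsg.Geo.specialLinear (Fin n) F) := by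
  classical
  have hint : DirectSum.IsInternal D :=
    DirectSum.isInternal_submodule_of_iSupIndep_of_iSup_eq_top hD.indep hD.iSup_eq_top
  obtain ⟨b, hb⟩ : ∃ b : ∀ i, Module.Basis (Fin m) F (D i), True :=
    ⟨fun i => Module.finBasisOfFinrankEq F (D i) (hD.finrank_eq i), trivial⟩
  obtain ⟨B, hB⟩ : ∃ B, B = hint.collectedBasis b := ⟨_, rfl⟩
  let e : Fin n ≃ (Σ _ : Fin t, Fin m) := Fintype.equivOfCardEq (by
    rw [Fintype.card_fin, ← Module.finrank_eq_card_basis B, Module.finrank_fin_fun])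
  let blk : Fin n → Fin t := fun k => (e k).1
  obtain ⟨P, hP⟩ := exists_gl_of_injective ((B.reindex e.symm).equivFun.symm.toLinearMap)
    (B.reindex e.symm).equivFun.symm.injective
  have hPe : ∀ k, act P (Pi.single k 1) = B (e k) := fun k => by
    rw [hP, LinearEquiv.coe_coe, Module.Basis.equivFun_symm_apply, Finset.sum_eq_single k]
    · simp
    · intro l _ hl; simp [hl]
    · simp
  have hcoord : ∀ x k, act P⁻¹ x k = B.repr x (e k) := by
    intro x k
    have e2 : act P ((B.reindex e.symm).equivFun x) = x := by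
      rw [hP, LinearEquiv.coe_coe, LinearEquiv.symm_apply_apply]
    conv_lhs => rw [← e2, act_inv_act]
    simp
  have hmem : ∀ x i, x ∈ D i ↔ ∀ k, blk k ≠ i → act P⁻¹ x k = 0 := by
    intro x i
    refine ⟨fun hx k hk => ?_, fun h => ?_⟩
    · rw [hcoord, hB]
      exact DirectSum.IsInternal.collectedBasis_repr_of_mem_ne hint b (Ne.symm hk) hx
    · rw [← act_act_inv P x, eq_sum_single (act P⁻¹ x), map_sum]
      refine (D i).sum_mem fun k _ => ?_
      rw [map_smul, hPe]
      by_cases hk : blk k = i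
      · refine (D i).smul_mem _ ?_
        rw [← hk, hB]
        exact DirectSum.IsInternal.collectedBasis_mem hint b (e k)
      · rw [h k hk, zero_smul]; exact (D i).zero_mem
  have hcard : ∀ i, (Finset.univ.filter fun k => blk k = i).card = m := by
    intro i
    rw [← Fintype.card_subtype]
    exact (Fintype.card_congr ((Equiv.subtypeEquiv e (fun k => Iff.rfl) :
      {k // blk k = i} ≃ {s : Σ _ : Fin t, Fin m // s.1 = i}).trans (Equiv.sigmaSubtype i))).trans (Fintype.card_fin m)
  have hstab : ∀ g : GL (Fin n) F, BlockPerm blk g ↔ P * g * P⁻¹ ∈ Cfsg.Geo.decompositionStabilizer D := by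
    intro g
    constructor
    · rintro ⟨σ, hσ⟩
      refine ⟨σ, fun i => Submodule.eq_of_le_of_finrank_eq (Submodule.map_le_iff_le_comap.2 fun x hx => ?_) (by
        rw [toLin'_eq_act, finrank_map_act, hD.finrank_eq, hD.finrank_eq])⟩
      rw [Submodule.mem_comap, toLin'_eq_act, hmem]
      intro k hk
      rw [act_mul, act_mul, act_inv_act, eq_sum_single (act P⁻¹ x), map_sum, Finset.sum_apply]
      refine Finset.sum_eq_zero fun p _ => ?_
      rw [map_smul, Pi.smul_apply]
      by_cases hp : blk p = i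
      · rw [hσ p k (hp ▸ hk), smul_zero]
      · rw [(hmem x i).1 hx p hp, zero_smul]
    · rintro ⟨σ, hσ⟩
      refine ⟨σ, fun p k hk => ?_⟩
      have h1 : act P (Pi.single p 1) ∈ D (blk p) := by
        rw [hPe, hB]; exact DirectSum.IsInternal.collectedBasis_mem hint b (e p)
      have h2 : act (P * g * P⁻¹) (act P (Pi.single p 1)) ∈ D (σ (blk p)) := by
        rw [← hσ (blk p)]; exact ⟨_, h1, rfl⟩
      have := (hmem _ _).1 h2 k hk
      rwa [act_mul, act_mul, act_inv_act, act_inv_act] at this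
  have hsl : ∀ g : GL (Fin n) F, P * g * P⁻¹ ∈ Cfsg.Geo.specialLinear (Fin n) F ↔ g ∈ Cfsg.Geo.specialLinear (Fin n) F :=
    fun g => by simp [Cfsg.Geo.specialLinear, MonoidHom.mem_ker]
  have ht := hD.two_le
  refine ⟨lt_of_le_of_ne inf_le_right fun heq => ?_, fun M hM1 hM2 => ?_⟩
  · obtain ⟨a, ha⟩ : ∃ a, blk a = ⟨0, by omega⟩ := ⟨e.symm ⟨⟨0, by omega⟩, ⟨0, hD.pos⟩⟩, by simp [blk]⟩
    obtain ⟨c, hc⟩ : ∃ c, blk c = ⟨1, by omega⟩ := ⟨e.symm ⟨⟨1, by omega⟩, ⟨0, hD.pos⟩⟩, by simp [blk]⟩
    have hac : blk a ≠ blk c := by rw [ha, hc]; simp [Fin.ext_iff]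
    have hca : c ≠ a := fun z => hac (by rw [z])
    obtain ⟨φ, hφ⟩ : ∃ φ : (Fin n → F) →ₗ[F] F, φ = LinearMap.proj c := ⟨_, rfl⟩
    have hφa : φ (Pi.single a 1) = 0 := by simp [hφ, hca]
    have h := (inf_eq_right.1 heq) ((hsl (tv φ (Pi.single a 1))).2 (mem_specialLinear_iff.2 (by
      rw [det_eq_of_fix_hyperplane (act_tv hφa), hφa, add_zero])))
    obtain ⟨σ, hσ⟩ := (hstab _).2 h
    have hx : act (tv φ (Pi.single a 1)) (Pi.single c 1) = Pi.single c 1 + Pi.single a 1 := by
      rw [act_tv hφa, hφ]; simp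
    by_cases hsc : σ (blk c) = blk c
    · have := hσ c a (by rw [hsc]; exact hac)
      rw [hx] at this; simp [hca.symm] at this
    · have := hσ c c (Ne.symm hsc)
      rw [hx] at this; simp [hca] at this
  by_cases hsub : M ≤ Cfsg.Geo.decompositionStabilizer D
  · exact Or.inl (le_antisymm (le_inf hsub hM2) hM1)
  right
  obtain ⟨g, hgM, hg⟩ := SetLike.not_le_iff_exists.1 hsub
  obtain ⟨M', hM'⟩ : ∃ M', M' = M.comap (MulAut.conj P).toMonoidHom := ⟨_, rfl⟩
  have hmemM' : ∀ x, x ∈ M' ↔ P * x * P⁻¹ ∈ M := fun x => by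
    rw [hM', Subgroup.mem_comap]; rfl
  have hover : OverB blk M' := by
    refine ⟨fun x hx => (hsl x).1 (hM2 ((hmemM' x).1 hx)), fun x hx hx' => (hmemM' x).2 (hM1 ⟨(hstab x).1 hx, (hsl x).2 hx'⟩)⟩
  obtain ⟨g', hg'⟩ : ∃ g', g' = P⁻¹ * g * P := ⟨_, rfl⟩
  have hgP : P * g' * P⁻¹ = g := by rw [hg']; group
  have hg'M : g' ∈ M' := (hmemM' g').2 (by rw [hgP]; exact hgM)
  have hg'b : ¬ BlockPerm blk g' := fun h => hg (hgP ▸ (hstab g').1 h)
  suffices hle : Cfsg.Geo.specialLinear (Fin n) F ≤ M' by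
    refine le_antisymm hM2 fun x hx => ?_
    have := (hmemM' _).1 (hle ((hsl (P⁻¹ * x * P)).1 (by rwa [show P * (P⁻¹ * x * P) * P⁻¹ = x by group])))
    rwa [show P * (P⁻¹ * x * P) * P⁻¹ = x by group] at this
  by_cases hm : m = 1
  · have h5 : 5 ≤ Fintype.card F := by
      by_contra h; exact h1 ⟨hm, by omega⟩
    have hinj : Function.Injective blk := by
      intro x y hxy
      refine Finset.card_le_one.1 (le_of_eq ((hcard (blk y)).trans hm)) x ?_ y ?_ <;> simp [hxy]
    have hmono : ∀ x : GL (Fin n) F, Mono x → BlockPerm blk x := by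
      intro x hx
      obtain ⟨π, d, -, hd⟩ := hx.exists_data
      have hsurj : Function.Surjective blk := fun i => ⟨e.symm ⟨i, ⟨0, hD.pos⟩⟩, by simp [blk]⟩
      let E : Fin n ≃ Fin t := Equiv.ofBijective blk ⟨hinj, hsurj⟩
      refine ⟨(E.symm.trans π).trans E, fun p k hk => ?_⟩
      rw [hd, Pi.smul_apply, Pi.single_eq_of_ne, smul_zero]
      rintro rfl
      apply hk
      change E (π p) = _
      rw [Equiv.trans_apply, Equiv.trans_apply, show blk p = E p from rfl, Equiv.symm_apply_apply]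
    have hover' : Over M' := ⟨hover.1, fun x hx hx' => hover.2 x (hmono x hx) hx'⟩
    rcases hn with hn | ⟨-, -, hn⟩
    · exact specialLinear_le_six (M := M') hover' h5 (by simp; omega) hg'M (fun h => hg'b (hmono g' h))
    · obtain ⟨rfl, h7⟩ := hn hm
      exact specialLinear_le_four (M := M') hover' h7 hg'M (fun h => hg'b (hmono g' h))
  · have hm2 : 2 ≤ m := by have := hD.pos; omega
    refine specialLinear_le_blocks hover (fun i => (hcard i).symm ▸ hm2) (fun i j => by rw [hcard, hcard])
      ?_ ?_ hg'M hg'b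
    · rcases hn with hn | ⟨hn, hq, -⟩
      · exact Or.inl (by simp; omega)
      · refine Or.inr ⟨by simpa using hn, ?_⟩
        by_contra h; push Not at h
        have := Finset.card_le_card (show (Finset.univ : Finset F) ⊆ {0, 1, -1} from fun x _ => by
          by_cases hx : x = 0
          · simp [hx]
          · rcases mul_self_eq_one_iff.1 (h x hx) with hx' | hx' <;> simp [hx'])
        rw [Finset.card_univ] at this
        have := Finset.card_le_three (a := (0 : F)) (b := 1) (c := -1)
        omega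
    by_cases hq : 3 ≤ Fintype.card F
    · left
      by_contra h; push Not at h
      have := Finset.card_le_card (show (Finset.univ : Finset F) ⊆ {0, 1} from fun x _ => by
        by_cases hx : x = 0
        · simp [hx]
        · simp [h x hx])
      have h2' : ({0, 1} : Finset F).card ≤ 2 := Finset.card_le_two
      rw [Finset.card_univ] at this
      omega
    · right
      intro i
      rw [hcard]
      have := Fintype.one_lt_card (α := F)
      by_contra h; exact h2 ⟨by omega, by omega⟩

/-- The case `n ≥ 6` of `decomposition_maximal'`. -/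
theorem decomposition_maximal {F : Type*} [Field F] [Fintype F] (n : ℕ) (hn : 6 ≤ n) {t : ℕ} (m : ℕ) (D : Fin t → Submodule F (Fin n → F)) (hD : Cfsg.Geo.IsMDecomposition m D) (h1 : ¬ (m = 1 ∧ Fintype.card F ≤ 4)) (h2 : ¬ (m = 2 ∧ Fintype.card F = 2)) : Cfsg.Geo.IsMaximalIn (Cfsg.Geo.specialLinear (Fin n) F) (Cfsg.Geo.decompositionStabilizer D ⊓ Cfsg.Geo.specialLinear (Fin n) F) :=
  decomposition_maximal' n m (Or.inl hn) D hD h1 h2

end

section
open scoped Matrix MatrixGroups

/-- For a finite field F with q elements and n = n₁ n₂ ≥ 13 with 2 ≤ n₁ < n₂, excluding n₁ = q = 2, the stabiliser in SL_n(F) of a tensor decomposition F^n ≅ F^(n₁) ⊗ F^(n₂) (the conjugate by any P of the Kronecker-product subgroup transported along any bijection Fin n ≃ Fin n₁ × Fin n₂, intersected with SL_n(F)) is a maximal subgroup of SL_n(F). -/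
theorem tensor_maximal {F : Type*} [Field F] [Fintype F] (n : ℕ) (hn : 6 ≤ n) (n₁ n₂ : ℕ) (h1 : 2 ≤ n₁) (h12 : n₁ < n₂) (hex : ¬ (n₁ = 2 ∧ Fintype.card F = 2)) (e : Fin n ≃ Fin n₁ × Fin n₂) (P : Matrix.GeneralLinearGroup (Fin n) F) : Cfsg.Geo.IsMaximalIn (Cfsg.Geo.specialLinear (Fin n) F) (Cfsg.Geo.tensorProductSubgroup n₁ n₂ e P ⊓ Cfsg.Geo.specialLinear (Fin n) F) := by
  classical
  let E := Cfsg.Agent.Aschbacher.coordGL e P
  have hsl : ∀ g, E g ∈ Cfsg.Geo.specialLinear (Fin n) F ↔ g ∈ Cfsg.Geo.specialLinear (Fin n₁ × Fin n₂) F :=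
    fun g => by
      rw [MaxCl.TP.mem_sl_iff, MaxCl.TP.mem_sl_iff, Cfsg.Agent.Aschbacher.coordGL_eq]
      simp [Cfsg.Geo.glReindex, mul_comm (P : Matrix (Fin n) (Fin n) F).det]
      rw [mul_assoc, mul_inv_cancel₀ (show (P : Matrix (Fin n) (Fin n) F).det ≠ 0 from (Matrix.GeneralLinearGroup.det P).ne_zero), mul_one]
  have hkr : ∀ g, E g ∈ Cfsg.Geo.tensorProductSubgroup n₁ n₂ e P ↔ g ∈ MaxCl.TP.Kron (Fin n₁) (Fin n₂) F := by
    intro g
    constructor
    · rintro ⟨_, ⟨h, ⟨a, b, hab⟩, rfl⟩, he⟩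
      refine ⟨(a, b), E.injective ?_⟩
      rw [show MaxCl.TP.kr (a, b) = h from Units.ext hab.symm, Cfsg.Agent.Aschbacher.coordGL_eq]
      exact he
    · rintro ⟨⟨a, b⟩, rfl⟩
      exact ⟨_, ⟨MaxCl.TP.kr (a, b), ⟨a, b, rfl⟩, rfl⟩, (Cfsg.Agent.Aschbacher.coordGL_eq e P _).symm⟩
  have ha : 2 ≤ Fintype.card (Fin n₁) := by rwa [Fintype.card_fin]
  have hab : Fintype.card (Fin n₁) < Fintype.card (Fin n₂) := by rwa [Fintype.card_fin, Fintype.card_fin]
  refine ⟨lt_of_le_of_ne inf_le_right fun heq => ?_, fun M hHM hMS => ?_⟩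
  · obtain ⟨i, k, hik⟩ := Fintype.exists_pair_of_one_lt_card (α := Fin n₁) (by omega)
    obtain ⟨j, l, hjl⟩ := Fintype.exists_pair_of_one_lt_card (α := Fin n₂) (by omega)
    have hne : ((i, j) : Fin n₁ × Fin n₂) ≠ (k, l) := fun h => hik (congrArg Prod.fst h)
    have hel : MaxCl.TP.el (i, j) (k, l) (1 : F) ∈ Cfsg.Geo.specialLinear (Fin n₁ × Fin n₂) F := by
      rw [MaxCl.TP.mem_sl_iff, MaxCl.TP.el, MaxCl.det_eq_of_fix_hyperplane (MaxCl.act_tv (by simp [hne.symm]))]
      simp [hne.symm]
    obtain ⟨u, w, huw⟩ := MaxCl.TP.exists_of_mem ((hkr _).1 ((inf_eq_right.1 heq) ((hsl _).2 hel)))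
    have h := congrArg (fun g => MaxCl.act g (MaxCl.TP.pv (Pi.single k 1) (Pi.single l 1))) huw
    simp only [MaxCl.TP.act_el hne, MaxCl.TP.act_kr_pv, MaxCl.TP.pv_apply, Pi.single_eq_same, mul_one, one_smul] at h
    have e1 := congrFun h (i, j)
    have e2 := congrFun h (k, l)
    have e3 := congrFun h (i, l)
    simp [MaxCl.TP.pv_apply, hik, hik.symm, hjl, hjl.symm, hne, hne.symm] at e1 e2 e3
    rcases e3 with h3 | h3 <;> simp [h3] at e1 e2
  · by_cases hsub : M ≤ Cfsg.Geo.tensorProductSubgroup n₁ n₂ e P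
    · exact Or.inl (le_antisymm (le_inf hsub hMS) hHM)
    refine Or.inr (le_antisymm hMS fun x hx => ?_)
    obtain ⟨x, rfl⟩ := E.surjective x
    have hex' : 3 ≤ Fintype.card (Fin n₁) ∨ ∀ x : F, ∃ c : F, c ≠ 0 ∧ c ≠ x := by
      by_cases hq : 3 ≤ Fintype.card F
      · right
        intro x
        by_contra hc
        push Not at hc
        have h1 : Fintype.card F ≤ ({0, x} : Finset F).card := Finset.card_le_card fun c _ => by
          by_cases hc0 : c = 0
          · simp [hc0]
          · simp [hc c hc0]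
        have h2 := Finset.card_le_two (a := (0 : F)) (b := x)
        omega
      · left
        rw [Fintype.card_fin]
        have := Fintype.one_lt_card (α := F)
        by_contra hlt
        exact hex ⟨by omega, by omega⟩
    have hover : MaxCl.TP.Over (M.comap E.toMonoidHom) := ⟨fun g hg => (hsl g).1 (hMS hg),
      fun g hg => hHM ⟨(hkr g).2 hg.1, (hsl g).2 hg.2⟩⟩
    by_contra hxM
    refine hsub fun y hy => ?_
    obtain ⟨y, rfl⟩ := E.surjective y
    exact (hkr y).2 (MaxCl.TP.le_kron hex' ha hab hover (fun hle => hxM (hle ((hsl x).1 hx))) hy)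

end

section

/-- For a finite field F and n ≥ 4, let f be a non-degenerate symplectic form on F^n (so n is even). Then the elements of SL_n(F) that are similarities of f (f(gu, gv) = c f(u, v) for a non-zero scalar c depending on g) form a maximal subgroup of SL_n(F). -/
theorem sympSim_maximal {F : Type*} [Field F] [Fintype F] (n : ℕ) (hn : 4 ≤ n) (f : (Fin n → F) → (Fin n → F) → F) (hf : Cfsg.Geo.IsSymplecticForm f) : Cfsg.Geo.IsMaximalIn (Cfsg.Geo.specialLinear (Fin n) F) (Cfsg.Geo.similarityGroup f ⊓ Cfsg.Geo.specialLinear (Fin n) F) := by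
  have hn2 : ∀ v : Fin n → F, v ≠ 0 → ∃ w, f v w = 0 ∧ w ∉ F ∙ v := by
    intro v hv
    by_contra h; push Not at h
    have hle : LinearMap.ker (flin hf.bilinear v) ≤ F ∙ v := fun x hx =>
      h x (f_eq_zero_symm hf (LinearMap.mem_ker.1 hx))
    have h1 := Submodule.finrank_mono hle
    rw [finrank_span_singleton hv] at h1
    have h2 := LinearMap.finrank_range_add_finrank_ker (flin hf.bilinear v)
    have h3 : Module.finrank F (LinearMap.range (flin hf.bilinear v)) ≤ 1 := by
      simpa using Submodule.finrank_le (LinearMap.range (flin hf.bilinear v))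
    simp only [Module.finrank_fin_fun] at h2
    omega
  -- the transvection `x ↦ x + f x w • v`
  let T : (Fin n → F) → (Fin n → F) → GL (Fin n) F := fun v w => tv (flin hf.bilinear w) v
  have hTk : ∀ v w, f v w = 0 → flin hf.bilinear w v = 0 := fun v w h => h
  have hTa : ∀ v w, f v w = 0 → ∀ x, act (T v w) x = x + f x w • v := fun v w h x =>
    act_tv (hTk v w h) x
  have hTsl : ∀ v w, f v w = 0 → T v w ∈ Cfsg.Geo.specialLinear (Fin n) F := by
    intro v w h
    refine MonoidHom.mem_ker.2 (Units.ext ?_)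
    simpa [T, det_eq_of_fix_hyperplane (act_tv (hTk v w h))] using hTk v w h
  -- transvections off the diagonal are not similitudes
  have hTnot : ∀ v w, f v w = 0 → v ≠ 0 → w ∉ F ∙ v → T v w ∉ Cfsg.Geo.similarityGroup f := by
    intro v w h hv hw hmem
    obtain ⟨c, hc⟩ := hmem
    simp only [← act_apply, hTa v w h] at hc
    simp only [f_add_left hf, f_add_right hf, f_smul_left hf, f_smul_right hf, f_self hf, mul_zero,
      add_zero] at hc
    obtain ⟨z, hz⟩ := (hf.nondegenerate v hv).2
    have hc1 : (c : F) = 1 := by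
      have := hc v z
      simp only [h, f_self hf, zero_mul, mul_zero, add_zero] at this
      exact mul_right_cancel₀ hz (by rw [one_mul]; exact this.symm)
    obtain ⟨y, hy⟩ := exists_dual (F ∙ v) hw
    obtain ⟨x, hx⟩ := exists_repr hf y
    have hxv : f x v = 0 := by
      apply f_eq_zero_symm hf; rw [← hx]; exact hy.1 v (Submodule.mem_span_singleton_self _)
    have hxw : f x w ≠ 0 := by
      apply f_ne_symm hf; rw [← hx, hy.2]; exact one_ne_zero
    have := hc x z
    rw [hc1, one_mul, hxv] at this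
    simp only [mul_zero, zero_add] at this
    exact (mul_ne_zero hxw hz) (by linear_combination this)
  refine ⟨lt_of_le_of_ne inf_le_right ?_, ?_⟩
  · intro heq
    obtain ⟨v, hv⟩ : ∃ v : Fin n → F, v ≠ 0 := ⟨Pi.single ⟨0, by omega⟩ 1, by simp⟩
    obtain ⟨w, hw1, hw2⟩ := hn2 v hv
    have := hTsl v w hw1
    rw [← heq] at this
    exact hTnot v w hw1 hv hw2 this.1
  intro M hM1 hM2
  by_cases hsub : M ≤ Cfsg.Geo.similarityGroup f
  · exact Or.inl (le_antisymm (le_inf hsub hM2) hM1)
  right
  obtain ⟨g, hgM, hg⟩ := SetLike.not_le_iff_exists.1 hsub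
  have hsp : ∀ u c, stv hf u c ∈ M := by
    intro u c
    apply hM1
    refine ⟨⟨1, fun x y => ?_⟩, MonoidHom.mem_ker.2 (Units.ext ?_)⟩
    · rw [Units.val_one, one_mul]; exact stv_mem hf u c x y
    · simpa [stv, det_eq_of_fix_hyperplane (act_tv (stv_ker hf u c))] using stv_ker hf u c
  obtain ⟨v₀, w₀, hvw, hv₀, hw₀, hTmem⟩ : ∃ v w, f v w = 0 ∧ v ≠ 0 ∧ w ∉ F ∙ v ∧ T v w ∈ M := by
    by_contra hno; push Not at hno
    apply hg
    have hlam : ∀ u : Fin n → F, ∃ l : F, ∀ x, f (act g x) (act g u) * l = f x u := by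
      intro u
      rcases eq_or_ne u 0 with rfl | hu
      · exact ⟨0, fun x => by simp [f_zero_right hf]⟩
      obtain ⟨w, hw⟩ := exists_repr hf ((flin hf.bilinear u) ∘ₗ act g⁻¹)
      have hgu : act g u ≠ 0 := fun h => hu (act_injective g (by rw [h, map_zero]))
      have hk : f (act g u) w = 0 := by
        rw [← hw]; simp [act_inv_act, flin_apply, f_self hf]
      have heq : g * stv hf u 1 * g⁻¹ = T (act g u) w := by
        rw [stv, one_smul, conj_tv g (by simp [flin_apply, f_self hf])]
        congr 1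
        exact LinearMap.ext fun x => hw x
      have hmem : T (act g u) w ∈ M := heq ▸ M.mul_mem (M.mul_mem hgM (hsp u 1)) (M.inv_mem hgM)
      have : w ∈ F ∙ act g u := by
        by_contra hn; exact hno _ _ hk hgu hn hmem
      obtain ⟨l, rfl⟩ := Submodule.mem_span_singleton.1 this
      refine ⟨l, fun x => ?_⟩
      have := hw (act g x)
      rw [LinearMap.comp_apply, act_inv_act, flin_apply, f_smul_right hf] at this
      rw [this, mul_comm]
    choose lam hlam using hlam
    have hgne : ∀ u, u ≠ 0 → act g u ≠ 0 :=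
      fun u hu h => hu (act_injective g (by rw [h, map_zero]))
    have hconst : ∀ u v : Fin n → F, u ≠ 0 → v ≠ 0 → lam u = lam v := by
      intro u v hu hv
      by_cases hdep : v ∈ F ∙ u
      · obtain ⟨a, rfl⟩ := Submodule.mem_span_singleton.1 hdep
        obtain ⟨x, hx⟩ := (hf.nondegenerate u hu).1
        have ha : a ≠ 0 := by rintro rfl; simp at hv
        have h1 := hlam u x
        have h2 := hlam (a • u) x
        rw [map_smul, f_smul_right hf, f_smul_right hf, mul_assoc, mul_right_inj' ha] at h2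
        exact mul_left_cancel₀ (left_ne_zero_of_mul (h1 ▸ hx)) (h1.trans h2.symm)
      · have huv : u + v ≠ 0 := by
          intro h; apply hdep
          rw [eq_neg_of_add_eq_zero_right h]
          exact Submodule.neg_mem _ (Submodule.mem_span_singleton_self _)
        have e : ∀ x, f x ((lam (u + v) - lam u) • act g u + (lam (u + v) - lam v) • act g v) = 0 := by
          intro x
          have h3 := hlam (u + v) (act g⁻¹ x)
          have h1 := hlam u (act g⁻¹ x)
          have h2 := hlam v (act g⁻¹ x)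
          rw [act_act_inv] at h1 h2 h3
          rw [map_add, f_add_right hf, f_add_right hf (act g⁻¹ x) u v] at h3
          rw [f_add_right hf, f_smul_right hf, f_smul_right hf]
          linear_combination h3 - h1 - h2
        have z : (lam (u + v) - lam u) • act g u + (lam (u + v) - lam v) • act g v = 0 := by
          by_contra hz
          obtain ⟨x, hx⟩ := (hf.nondegenerate _ hz).1
          exact hx (e x)
        rw [← map_smul, ← map_smul, ← map_add] at z
        have z' := act_injective g (z.trans (map_zero _).symm)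
        have hb : lam (u + v) - lam v = 0 := by
          by_contra hb
          apply hdep
          refine Submodule.mem_span_singleton.2 ⟨-(lam (u + v) - lam u) / (lam (u + v) - lam v), ?_⟩
          rw [div_eq_inv_mul, ← smul_smul, neg_smul, neg_eq_of_add_eq_zero_right z', inv_smul_smul₀ hb]
        rw [hb, zero_smul, add_zero] at z'
        have ha : lam (u + v) - lam u = 0 := (smul_eq_zero.1 z').resolve_right hu
        linear_combination hb - ha
    obtain ⟨v, hv⟩ : ∃ v : Fin n → F, v ≠ 0 := ⟨Pi.single ⟨0, by omega⟩ 1, by simp⟩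
    obtain ⟨z, hz⟩ := (hf.nondegenerate v hv).1
    have hl : lam v ≠ 0 := right_ne_zero_of_mul ((hlam v z).symm ▸ hz)
    refine ⟨Units.mk0 (lam v)⁻¹ (inv_ne_zero hl), fun x y => ?_⟩
    simp only [← act_apply, Units.val_mk0]
    rcases eq_or_ne y 0 with rfl | hy
    · simp [f_zero_right hf]
    · rw [← hlam y x, hconst y v hy hv]
      field_simp
  -- all transvections lie in `M`
  let P : (Fin n → F) → Prop := fun v => ∀ w, f v w = 0 → T v w ∈ M
  have hP0 : P v₀ := by
    have key : ∀ u, f v₀ u = 0 → f w₀ u ≠ 0 → T v₀ u ∈ M := by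
      intro u hu hwu
      set h := stv hf u (1 / f w₀ u) with hh
      have hfix : act h v₀ = v₀ := by rw [hh, act_stv hf, hu]; simp
      have hmove : act h w₀ = w₀ + u := by
        rw [hh, act_stv hf, one_div_mul_cancel hwu, one_smul]
      have hc : h * T v₀ w₀ * h⁻¹ = T v₀ (w₀ + u) := by
        simp only [T]
        rw [conj_tv h (hTk v₀ w₀ hvw), hfix]
        congr 1
        apply LinearMap.ext; intro x
        simp only [LinearMap.comp_apply, flin_apply]
        conv_rhs => rw [← hmove, ← act_act_inv h x, mem_isoGroup.1 (stv_mem hf _ _)]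
      have hm : T v₀ (w₀ + u) ∈ M :=
        hc ▸ M.mul_mem (M.mul_mem (hsp u _) hTmem) (M.inv_mem (hsp u _))
      have hsum : T v₀ u = (T v₀ w₀)⁻¹ * T v₀ (w₀ + u) := by
        rw [eq_inv_mul_iff_mul_eq]
        simp only [T]
        rw [tv_add _ _ _ (hTk v₀ w₀ hvw) (hTk v₀ u hu)]
        congr 1
        exact (map_add (toBil hf.bilinear).flip w₀ u).symm
      rw [hsum]; exact M.mul_mem (M.inv_mem hTmem) hm
    obtain ⟨u₀, hu₀, hu₀'⟩ : ∃ u, f v₀ u = 0 ∧ f w₀ u ≠ 0 := by
      obtain ⟨y, hy0, hy1⟩ := exists_dual (F ∙ v₀) hw₀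
      obtain ⟨u, hu⟩ := exists_repr hf y
      exact ⟨u, by rw [← hu, hy0 v₀ (Submodule.mem_span_singleton_self _)],
        by rw [← hu, hy1]; exact one_ne_zero⟩
    intro u hu
    by_cases hwu : f w₀ u = 0
    · have h1 := key (u + u₀) (by rw [f_add_right hf, hu, hu₀, add_zero])
        (by rw [f_add_right hf, hwu, zero_add]; exact hu₀')
      have h2 := key u₀ hu₀ hu₀'
      have hsum : T v₀ (u + u₀) = T v₀ u * T v₀ u₀ := by
        simp only [T]
        rw [tv_add _ _ _ (hTk v₀ u hu) (hTk v₀ u₀ hu₀)]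
        congr 1
        exact map_add (toBil hf.bilinear).flip u u₀
      rw [hsum] at h1
      exact (mul_mem_cancel_right h2).1 h1
    · exact key u hu hwu
  have hPall : ∀ v, v ≠ 0 → P v := by
    intro v hv
    refine full_all_of_one hf hsp (P := P) ?_ hv₀ hP0 hv
    intro h hhM hhf x hx w hw
    have hxw : f x (act h⁻¹ w) = 0 := by
      rw [← hw]; conv_rhs => rw [← act_act_inv h w, mem_isoGroup.1 hhf]
    have hc : h * T x (act h⁻¹ w) * h⁻¹ = T (act h x) w := by
      simp only [T]
      rw [conj_tv h (hTk _ _ hxw)]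
      congr 1
      apply LinearMap.ext; intro y
      simp only [LinearMap.comp_apply, flin_apply]
      conv_rhs => rw [← act_act_inv h y, ← act_act_inv h w, mem_isoGroup.1 hhf]
    rw [← hc]
    exact M.mul_mem (M.mul_mem hhM (hx _ hxw)) (M.inv_mem hhM)
  refine le_antisymm hM2 (specialLinear_le_of_transvections M ?_)
  intro φ v hφ
  rcases eq_or_ne v 0 with rfl | hv
  · have : tv φ (0 : Fin n → F) = 1 := by
      apply gl_ext; intro x; rw [act_tv (map_zero φ), act_one]; simp
    rw [this]; exact M.one_mem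
  obtain ⟨w, hw⟩ := exists_repr hf φ
  have : φ = flin hf.bilinear w := LinearMap.ext hw
  rw [this]
  exact hPall v hv w (by rw [← hw]; exact hφ)

end

section
open Cfsg.Agent.MaxCl.Unit

/-- For a finite field F and n ≥ 4, let σ be a field automorphism of F of order two and f a non-degenerate unitary form on F^n with respect to σ. Then the elements of SL_n(F) that are similarities of f form a maximal subgroup of SL_n(F). -/
theorem unitarySim_maximal {F : Type*} [Field F] [Fintype F] (n : ℕ) (hn : 4 ≤ n) (σ : F ≃+* F) (f : (Fin n → F) → (Fin n → F) → F) (hf : Cfsg.Geo.IsUnitaryForm σ f) : Cfsg.Geo.IsMaximalIn (Cfsg.Geo.specialLinear (Fin n) F) (Cfsg.Geo.similarityGroup f ⊓ Cfsg.Geo.specialLinear (Fin n) F) := by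
  classical
  have hn6 : 4 ≤ Fintype.card (Fin n) := by rw [Fintype.card_fin]; omega
  obtain ⟨c₀, hc₀, hc₀s⟩ := exists_skew hf.ne_refl hf.involutive
  -- unitary transvections are determinant one isometries
  have hU0 : ∀ u c, f u u = 0 → c + σ c = 0 →
      utv hf u c ∈ Cfsg.Geo.similarityGroup f ⊓ Cfsg.Geo.specialLinear (Fin n) F := by
    intro u c hu hc
    refine ⟨⟨1, fun x y => ?_⟩, det_ptv hf (by rw [smul_right hf, hu, mul_zero])⟩
    rw [Units.val_one, one_mul]; exact utv_mem hf hu hc x y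
  have hne0 : ∃ x : Fin n → F, x ≠ 0 := ⟨Pi.single ⟨0, by omega⟩ 1, by simp⟩
  obtain ⟨v₁, hv₁⟩ := hne0
  obtain ⟨u₁, hu₁, hu₁v⟩ := exists_isotropic_ne hf hn6 hv₁
  have hu₁0 : u₁ ≠ 0 := fun h => hu₁v (by rw [h]; exact zero_left hf v₁)
  refine ⟨lt_of_le_of_ne inf_le_right ?_, ?_⟩
  · intro heq
    obtain ⟨a, ha⟩ := exists_trace_one hf.involutive hf.ne_refl
    have hmem : ptv hf u₁ (σ a • u₁) ∈ Cfsg.Geo.specialLinear (Fin n) F :=
      det_ptv hf (by rw [smul_right hf, hu₁, mul_zero])
    rw [← heq] at hmem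
    obtain ⟨c, hc⟩ := hmem.1
    simp only [← act_apply, act_ptv hf (show f u₁ (σ a • u₁) = 0 by rw [smul_right hf, hu₁, mul_zero]),
      smul_right hf, hf.involutive, add_left hf, add_right hf, smul_left hf, hu₁, mul_zero, add_zero,
      map_mul, herm' hf] at hc
    have hc1 : (c : F) = 1 := by
      have h1 := hc u₁ v₁
      simp only [hu₁, mul_zero, zero_mul, add_zero] at h1
      exact mul_right_cancel₀ (ne_symm hf (ne_symm hf hu₁v)) (by rw [one_mul]; exact h1.symm)
    have h2 := hc v₁ v₁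
    rw [hc1, one_mul] at h2
    have h3 : (a + σ a) * (f v₁ u₁ * f u₁ v₁) = 0 := by linear_combination h2
    rw [ha, one_mul] at h3
    exact mul_ne_zero (ne_symm hf hu₁v) hu₁v h3
  intro M hM1 hM2
  by_cases hsub : M ≤ Cfsg.Geo.similarityGroup f
  · exact Or.inl (le_antisymm (le_inf hsub hM2) hM1)
  right
  obtain ⟨g, hgM, hg⟩ := SetLike.not_le_iff_exists.1 hsub
  have hutv : ∀ u c, f u u = 0 → c + σ c = 0 → utv hf u c ∈ M := fun u c hu hc => hM1 (hU0 u c hu hc)
  have hskew : ∀ {c : F}, c + σ c = 0 → σ c + σ (σ c) = 0 := fun {c} hc => by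
    rw [hf.involutive, add_comm]; exact hc
  -- a transvection which is not unitary
  obtain ⟨v, w, hvw, hvM, hgood⟩ : ∃ v w, f v w = 0 ∧ ptv hf v w ∈ M ∧ v ≠ 0 ∧ w ≠ 0 ∧
      ∀ d, w = d • v → f v v = 0 → σ d + d ≠ 0 := by
    by_contra hno; push Not at hno
    apply hg
    have hlam : ∀ u, f u u = 0 → u ≠ 0 → ∃ l : F, l ≠ 0 ∧ σ l = l ∧ ∀ x, f (act g x) (act g u) = l * f x u := by
      intro u hu hu0
      obtain ⟨w, hw⟩ := exists_repr hf (c₀ • (flinU hf u ∘ₗ act g⁻¹))
      have hgu : act g u ≠ 0 := fun h => hu0 (act_injective g (h.trans (map_zero _).symm))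
      have hk : f (act g u) w = 0 := by
        rw [← hw]; simp [act_inv_act, flinU_apply, hu]
      have hker : (c₀ • flinU hf u) u = 0 := by simp [flinU_apply, hu]
      have e1 : utv hf u c₀ = tv (c₀ • flinU hf u) u := by
        apply gl_ext; intro x
        rw [act_utv hf hu, act_tv hker]; simp [flinU_apply]
      have e2 : g * utv hf u c₀ * g⁻¹ = ptv hf (act g u) w := by
        rw [e1, conj_tv g hker, ptv]
        congr 1
        exact LinearMap.ext fun x => by rw [flinU_apply, ← hw]; rfl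
      have hmem : ptv hf (act g u) w ∈ M :=
        e2 ▸ M.mul_mem (M.mul_mem hgM (hutv u c₀ hu hc₀s)) (M.inv_mem hgM)
      have hw0 : w ≠ 0 := by
        intro h
        obtain ⟨x, hx⟩ := (hf.nondegenerate u hu0).1
        have := hw (act g x)
        rw [h, zero_right hf] at this
        simp [act_inv_act, flinU_apply, hc₀, hx] at this
      obtain ⟨d, rfl, hgiso, hd⟩ := hno _ _ hk hmem hgu hw0
      have hd0 : d ≠ 0 := by rintro rfl; simp at hw0
      have hsd : σ d ≠ 0 := (map_ne_zero σ).2 hd0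
      refine ⟨c₀ / σ d, div_ne_zero hc₀ hsd, ?_, fun x => ?_⟩
      · rw [map_div₀, hf.involutive, div_eq_div_iff hd0 hsd]
        linear_combination σ d * hc₀s - c₀ * hd
      · have := hw (act g x)
        simp only [LinearMap.smul_apply, LinearMap.comp_apply, act_inv_act, flinU_apply, smul_eq_mul,
          smul_right hf] at this
        rw [div_mul_eq_mul_div, this, mul_div_assoc, mul_comm (σ d), div_mul_cancel₀ _ hsd]
    choose! lam hlam0 hlamσ hlam using hlam
    have hsym : ∀ a b, f a a = 0 → f b b = 0 → f a b ≠ 0 → lam a = lam b := by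
      intro a b ha hb hab
      have ha0 : a ≠ 0 := by rintro rfl; exact hab (zero_left hf b)
      have hb0 : b ≠ 0 := by rintro rfl; exact hab (zero_right hf a)
      have h1 := hlam b hb hb0 a
      have h2 := congrArg σ (hlam a ha ha0 b)
      rw [map_mul, hlamσ a ha ha0, herm' hf, herm' hf, h1] at h2
      exact (mul_right_cancel₀ hab h2).symm
    have hconst : ∀ a b, f a a = 0 → a ≠ 0 → f b b = 0 → b ≠ 0 → lam a = lam b := by
      intro a b ha ha0 hb hb0
      obtain ⟨z, z', iz, -, za, iz', -, zb, hzz⟩ := exists_isotropic_two hf hn6 (v := 0) (a := a) (b := b)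
        (by simpa [Submodule.mem_span_singleton] using ha0) (by simpa [Submodule.mem_span_singleton] using hb0)
      rw [← hsym z a iz ha za, ← hsym z' b iz' hb zb]
      rcases hzz with rfl | h
      · rfl
      · exact hsym z z' iz iz' h
    have hl := hlam0 u₁ hu₁ hu₁0
    refine ⟨Units.mk0 (lam u₁) hl, fun x y => ?_⟩
    simp only [← act_apply, Units.val_mk0]
    obtain ⟨w, hw⟩ := exists_repr hf (flinU hf (act g y) ∘ₗ act g)
    have hwy : w - lam u₁ • y = 0 := by
      by_contra hne
      obtain ⟨u, hu, huw⟩ := exists_isotropic_ne hf hn6 hne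
      apply huw
      have hu0 : u ≠ 0 := fun h => huw (by rw [h]; exact zero_left hf _)
      have h1 : f u w = f (act g u) (act g y) := (hw u).symm
      rw [sub_right hf, smul_right hf, hlamσ u₁ hu₁ hu₁0, h1, ← herm' hf (act g y), hlam u hu hu0 y,
        map_mul, hlamσ u hu hu0, herm' hf, hconst u u₁ hu hu0 hu₁ hu₁0, sub_self]
    have := hw x
    rw [sub_eq_zero.1 hwy, smul_right hf, hlamσ u₁ hu₁ hu₁0] at this
    exact this
  -- moving axes and centres
  have hstepR : ∀ v w u, f v w = 0 → ptv hf v w ∈ M → f u u = 0 → f v u = 0 → ∀ c, c + σ c = 0 →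
      ptv hf v ((c * f w u) • u) ∈ M := by
    intro v w u hvw hM hu hvu c hc
    have hh := hutv u c hu hc
    have := M.mul_mem (M.mul_mem hh hM) (M.inv_mem hh)
    rw [conj_ptv hf (utv_mem hf hu hc) hvw, act_utv hf hu, act_utv hf hu, hvu, mul_zero, zero_smul,
      add_zero, ← ptv_add_right hf hvw (by rw [smul_right hf, hvu, mul_zero])] at this
    exact (mul_mem_cancel_left hM).1 this
  have hstepL : ∀ v w u, f v w = 0 → ptv hf v w ∈ M → f u u = 0 → f w u = 0 → ∀ c, c + σ c = 0 →
      ptv hf ((c * f v u) • u) w ∈ M := by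
    intro v w u hvw hM hu hwu c hc
    have hh := hutv u c hu hc
    have := M.mul_mem (M.mul_mem hh hM) (M.inv_mem hh)
    rw [conj_ptv hf (utv_mem hf hu hc) hvw, act_utv hf hu, act_utv hf hu, hwu, mul_zero, zero_smul,
      add_zero, ← ptv_add_left hf hvw (by rw [smul_left hf, eq_zero_symm hf hwu, mul_zero])] at this
    exact (mul_mem_cancel_left hM).1 this
  -- an isotropic independent pair
  obtain ⟨v, w, hvw, hvM, hvv, hww, hv0, hwv⟩ : ∃ v w, f v w = 0 ∧ ptv hf v w ∈ M ∧ f v v = 0 ∧
      f w w = 0 ∧ v ≠ 0 ∧ w ∉ F ∙ v := by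
    obtain ⟨hv0, hw0, hd⟩ := hgood
    obtain ⟨v, w, hvw, hvM, hv0, hwv⟩ : ∃ v w, f v w = 0 ∧ ptv hf v w ∈ M ∧ v ≠ 0 ∧ w ∉ F ∙ v := by
      by_cases hdep : w ∈ F ∙ v
      · obtain ⟨d, rfl⟩ := Submodule.mem_span_singleton.1 hdep
        have hd0 : d ≠ 0 := by rintro rfl; simp at hw0
        have hvv : f v v = 0 := by
          rw [smul_right hf] at hvw
          exact (mul_eq_zero.1 hvw).resolve_left ((map_ne_zero σ).2 hd0)
        have hd' := hd d rfl hvv
        obtain ⟨u, hu, huv⟩ := exists_isotropic_ne hf hn6 hv0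
        obtain ⟨T, hT⟩ : ∃ T, T = ptv hf v (d • v) := ⟨_, rfl⟩
        have hTa : ∀ x, act T x = x + (σ d * f x v) • v := fun x => by
          rw [hT, act_ptv hf hvw, smul_right hf]
        have hker : (c₀ • flinU hf u) u = 0 := by simp [flinU_apply, hu]
        have e1 : utv hf u c₀ = tv (c₀ • flinU hf u) u := by
          apply gl_ext; intro x
          rw [act_utv hf hu, act_tv hker]; simp [flinU_apply]
        obtain ⟨w', hw'⟩ := exists_repr hf (c₀ • (flinU hf u ∘ₗ act T⁻¹))
        have e2 : T * utv hf u c₀ * T⁻¹ = ptv hf (act T u) w' := by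
          rw [e1, conj_tv T hker, ptv]
          congr 1
          exact LinearMap.ext fun x => by rw [flinU_apply, ← hw']; rfl
        have hTM : T ∈ M := hT ▸ hvM
        have hz : f (act T u) (act T u) ≠ 0 := by
          rw [hTa]
          simp only [add_left hf, add_right hf, smul_left hf, smul_right hf, hu, hvv, map_mul, hf.involutive,
            herm' hf, mul_zero, add_zero, zero_add]
          rw [show d * f v u * f u v + σ d * f u v * f v u = (σ d + d) * (f v u * f u v) by ring]
          exact mul_ne_zero hd' (mul_ne_zero (ne_symm hf huv) huv)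
        have hk : f (act T u) w' = 0 := by
          rw [← hw']; simp [act_inv_act, flinU_apply, hu]
        refine ⟨act T u, w', hk, e2 ▸ M.mul_mem (M.mul_mem hTM (hutv u c₀ hu hc₀s)) (M.inv_mem hTM),
          fun h => hz (by rw [h]; exact zero_left hf _), fun h => ?_⟩
        obtain ⟨a, rfl⟩ := Submodule.mem_span_singleton.1 h
        rw [smul_right hf, mul_eq_zero] at hk
        rcases hk with ha | ha
        · obtain ⟨x, hx⟩ := (hf.nondegenerate u (fun h => huv (by rw [h]; exact zero_left hf v))).1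
          have := hw' (act T x)
          rw [(map_eq_zero σ).1 ha, zero_smul, zero_right hf] at this
          simp [act_inv_act, flinU_apply, hc₀, hx] at this
        · exact hz ha
      · exact ⟨v, w, hvw, hvM, hv0, hdep⟩
    obtain ⟨u, hu, huv, huw, hu'⟩ := exists_isotropic_sep hf hn6 hwv
    set w₁ := (c₀ * f w u) • u with hw₁
    have hs : c₀ * f w u ≠ 0 := mul_ne_zero hc₀ (ne_symm hf huw)
    have hvw₁ : f v w₁ = 0 := by rw [hw₁, smul_right hf, eq_zero_symm hf huv, mul_zero]
    have hw₁M : ptv hf v w₁ ∈ M := hstepR v w u hvw hvM hu (eq_zero_symm hf huv) c₀ hc₀s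
    have hw₁0 : w₁ ≠ 0 := smul_ne_zero hs (fun h => hu' (by rw [h]; exact Submodule.zero_mem _))
    have hvw' : v ∉ F ∙ w₁ := by
      intro h
      obtain ⟨a, ha⟩ := Submodule.mem_span_singleton.1 h
      rcases eq_or_ne a 0 with rfl | ha0
      · exact hv0 (by rw [← ha, zero_smul])
      · refine hu' ((Submodule.smul_mem_iff _ (mul_ne_zero ha0 hs)).1 ?_)
        rw [mul_smul, ← hw₁, ha]; exact Submodule.mem_span_singleton_self v
    obtain ⟨u', hi', hu'w, hu'v, hu''⟩ := exists_isotropic_sep hf hn6 hvw'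
    set v₂ := (c₀ * f v u') • u' with hv₂
    have hs' : c₀ * f v u' ≠ 0 := mul_ne_zero hc₀ (ne_symm hf hu'v)
    have hu'0 : u' ≠ 0 := fun h => hu'' (by rw [h]; exact Submodule.zero_mem _)
    refine ⟨v₂, w₁, ?_, hstepL v w₁ u' hvw₁ hw₁M hi' (eq_zero_symm hf hu'w) c₀ hc₀s, ?_, ?_,
      smul_ne_zero hs' hu'0, fun h => ?_⟩
    · rw [hv₂, smul_left hf, hu'w, mul_zero]
    · rw [hv₂, smul_left hf, smul_right hf, hi', mul_zero, mul_zero]
    · rw [hw₁, smul_left hf, smul_right hf, hu, mul_zero, mul_zero]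
    · obtain ⟨a, ha⟩ := Submodule.mem_span_singleton.1 h
      have ha0 : a ≠ 0 := by rintro rfl; rw [zero_smul] at ha; exact hw₁0 ha.symm
      refine hu'' ((Submodule.smul_mem_iff _ (mul_ne_zero ha0 hs')).1 ?_)
      rw [mul_smul, ← hv₂, ha]; exact Submodule.mem_span_singleton_self _
  -- the product of two transvections on a singular line pair is an isometry
  have hSieg : ∀ a b, f a a = 0 → f b b = 0 → f a b = 0 → ptv hf a b * ptv hf b (-a) ∈ M ∧
      (∀ x, act (ptv hf a b * ptv hf b (-a)) x = x + f x b • a - f x a • b) ∧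
      ptv hf a b * ptv hf b (-a) ∈ uiso f := by
    intro a b ha hb hab
    have h1 : f b (-a) = 0 := by
      rw [← neg_one_smul F a, smul_right hf, eq_zero_symm hf hab, mul_zero]
    have hact : ∀ x, act (ptv hf a b * ptv hf b (-a)) x = x + f x b • a - f x a • b := by
      intro x
      rw [act_mul, act_ptv hf h1, act_ptv hf hab]
      simp only [← neg_one_smul F a, smul_right hf, map_neg, map_one, add_left hf, smul_left hf, hb, mul_zero,
        add_zero]
      module
    have hiso : ptv hf a b * ptv hf b (-a) ∈ uiso f := by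
      rw [mem_uiso]; intro x y
      simp only [hact, sub_left hf, sub_right hf, add_left hf, add_right hf, smul_left hf, smul_right hf, ha, hb,
        hab, eq_zero_symm hf hab, herm' hf, mul_zero, add_zero, sub_zero]
      ring
    refine ⟨hM1 ⟨⟨1, fun x y => ?_⟩, mul_mem (det_ptv hf hab) (det_ptv hf h1)⟩, hact, hiso⟩
    rw [Units.val_one, one_mul]; exact hiso x y
  -- all multiples of an isotropic axis
  have hscale : ∀ v w, f v v = 0 → f w w = 0 → f v w = 0 → w ∉ F ∙ v → ptv hf v w ∈ M →
      ∀ a : F, ptv hf v (a • w) ∈ M := by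
    intro v w hvv hww hvw hwv hM a
    have hwv0 := eq_zero_symm hf hvw
    rcases eq_or_ne v 0 with rfl | hv0
    · rw [ptv_zero_left]; exact M.one_mem
    have hvw' : v ∉ F ∙ w := by
      intro h
      obtain ⟨r, rfl⟩ := Submodule.mem_span_singleton.1 h
      exact hwv (Submodule.mem_span_singleton.2 ⟨r⁻¹, by
        rw [smul_smul, inv_mul_cancel₀ (fun hr => hv0 (by rw [hr, zero_smul])), one_smul]⟩)
    -- an isometry in `M` fixing `q` and adding a multiple of `q` to `p`
    have hL : ∀ p q, f p p = 0 → f q q = 0 → f p q = 0 → p ∉ F ∙ q → ∀ r : F,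
        ∃ h, h ∈ M ∧ h ∈ uiso f ∧ act h q = q ∧ act h p = p + r • q := by
      intro p q hpp hqq hpq hp r
      obtain ⟨u, hu, huq, hup, -⟩ := exists_isotropic_sep hf hn6 hp
      have hk : f p u ≠ 0 := ne_symm hf hup
      obtain ⟨z, hz⟩ : ∃ z, z = σ (r / f p u) • u := ⟨_, rfl⟩
      obtain ⟨h1, h2, h3⟩ := hSieg q z hqq (by rw [hz, smul_left hf, smul_right hf, hu, mul_zero, mul_zero])
        (by rw [hz, smul_right hf, eq_zero_symm hf huq, mul_zero])
      refine ⟨_, h1, h3, ?_, ?_⟩
      · rw [h2, hqq, hz, smul_right hf, eq_zero_symm hf huq, mul_zero, zero_smul, zero_smul, add_zero, sub_zero]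
      · rw [h2, hpq, zero_smul, sub_zero, hz, smul_right hf, hf.involutive, div_mul_cancel₀ _ hk]
    have hvv' : ∀ r : F, ptv hf v (r • v) ∈ M := by
      intro r
      obtain ⟨h, hh, hi, hv', hw'⟩ := hL w v hww hvv hwv0 hwv r
      have := M.mul_mem (M.mul_mem hh hM) (M.inv_mem hh)
      rw [conj_ptv hf hi hvw, hv', hw', ← ptv_add_right hf hvw (by rw [smul_right hf, hvv, mul_zero])] at this
      exact (mul_mem_cancel_left hM).1 this
    have hww' : ∀ r : F, ptv hf (r • w) w ∈ M := by
      intro r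
      obtain ⟨h, hh, hi, hw', hv'⟩ := hL v w hvv hww hvw hvw' r
      have := M.mul_mem (M.mul_mem hh hM) (M.inv_mem hh)
      rw [conj_ptv hf hi hvw, hw', hv', ← ptv_add_left hf hvw (by rw [smul_left hf, hww, mul_zero])] at this
      exact (mul_mem_cancel_left hM).1 this
    obtain ⟨e, he⟩ := exists_trace_one hf.involutive hf.ne_refl
    obtain ⟨h, hh, hi, hw', hv'⟩ := hL v w hvv hww hvw hvw' a
    have hX := M.mul_mem (M.mul_mem hh (hvv' e)) (M.inv_mem hh)
    rw [conj_ptv hf hi (by rw [smul_right hf, hvv, mul_zero]), hv', map_smul, hv', smul_add, smul_smul,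
      ← ptv_add_right hf (by rw [add_left hf, smul_left hf, smul_right hf, smul_right hf, hvv, hwv0]; ring)
        (by rw [add_left hf, smul_left hf, smul_right hf, smul_right hf, hvw, hww]; ring),
      ← ptv_add_left hf (by rw [smul_right hf, hvv, mul_zero])
        (by rw [smul_left hf, smul_right hf, hwv0]; ring),
      ← ptv_add_left hf (by rw [smul_right hf, hvw, mul_zero])
        (by rw [smul_left hf, smul_right hf, hww]; ring)] at hX
    have h4 : ptv hf (a • w) ((e * a) • w) ∈ M := by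
      rw [ptv_smul hf w _ a (by rw [smul_right hf, hww, mul_zero]), smul_smul]
      have h := hww' (σ (σ a * (e * a)))
      rwa [ptv_smul hf w w _ hww, hf.involutive] at h
    -- the isometry cancelling the mixed part
    obtain ⟨d, hd⟩ : ∃ d, d = -(σ e * a) := ⟨_, rfl⟩
    have hS := (hSieg (d • w) v (by rw [smul_left hf, smul_right hf, hww, mul_zero, mul_zero]) hvv
      (by rw [smul_left hf, hwv0, mul_zero])).1
    have hmid : ptv hf (a • w) (e • v) * ptv hf (d • w) v = 1 := by
      rw [show ptv hf (a • w) (e • v) = ptv hf ((σ e * a) • w) v by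
          rw [← smul_smul, ptv_smul hf (a • w) v (σ e) (by rw [smul_left hf, hwv0, mul_zero]), hf.involutive],
        ptv_add_left hf (by rw [smul_left hf, hwv0, mul_zero]) (by rw [smul_left hf, hwv0, mul_zero]), ← add_smul,
        hd, add_neg_cancel, zero_smul, ptv_zero_left]
    simp only [mul_assoc] at hX
    rw [mul_mem_cancel_left (hvv' e), ← mul_assoc, mul_mem_cancel_right h4] at hX
    have k1 : f (a • w) (e • v) = 0 := by rw [smul_left hf, smul_right hf, hwv0]; ring
    have k2 : f v ((e * a) • w) = 0 := by rw [smul_right hf, hvw, mul_zero]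
    have hcomm : ptv hf (a • w) (e • v) * ptv hf v ((e * a) • w) =
        ptv hf v ((e * a) • w) * ptv hf (a • w) (e • v) := by
      apply gl_ext; intro x
      simp only [act_mul, act_ptv hf k1, act_ptv hf k2, add_left hf, smul_left hf, smul_right hf, hvv, hww,
        mul_zero, add_zero]
      module
    rw [hcomm] at hX
    have h5 := M.mul_mem hX hS
    rw [mul_assoc, ← mul_assoc (ptv hf (a • w) (e • v)), hmid, one_mul,
      ptv_add_right hf k2 (by rw [← neg_one_smul F (d • w), smul_right hf, smul_right hf, hvw]; ring),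
      hd, ← neg_smul, ← add_smul, neg_neg, ← add_mul, he, one_mul] at h5
    exact h5
  -- full isotropic axes propagate
  have hmove : ∀ v a, f v v = 0 → f a a = 0 → f v a = 0 → a ∉ F ∙ v → (∀ t : F, ptv hf v (t • a) ∈ M) →
      ∀ z, f z z = 0 → f v z = 0 → f a z ≠ 0 → ∀ t : F, ptv hf v (t • z) ∈ M := by
    intro v a _ haa hva _ hA z hz hvz haz t
    have := hstepR v _ z (by rw [smul_right hf, hva, mul_zero]) (hA (t / (c₀ * f a z))) hz hvz c₀ hc₀s
    rwa [smul_left hf, show c₀ * (t / (c₀ * f a z) * f a z) = t from by field_simp] at this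
  have hspan : ∀ v x, v ≠ 0 → f x v = 0 →
      x ∈ Submodule.span F {u | f u u = 0 ∧ f u v = 0 ∧ u ∉ F ∙ v} := by
    intro v x hv hxv
    by_contra hx
    obtain ⟨φ, h0, h1⟩ := exists_dual _ hx
    obtain ⟨z, hz⟩ := exists_repr hf φ
    have hzv : z ∉ F ∙ v := by
      intro h
      obtain ⟨r, rfl⟩ := Submodule.mem_span_singleton.1 h
      rw [hz, smul_right hf, hxv, mul_zero] at h1
      exact zero_ne_one h1
    obtain ⟨u, hu, huv, huz, hu'⟩ := exists_isotropic_sep hf hn6 hzv
    exact huz (by rw [← hz]; exact h0 u (Submodule.subset_span ⟨hu, huv, hu'⟩))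
  have hP : ∀ v a, v ≠ 0 → f v v = 0 → f a a = 0 → f v a = 0 → a ∉ F ∙ v → ptv hf v a ∈ M →
      ∀ x, f v x = 0 → ptv hf v x ∈ M := by
    intro v a hv0 hvv haa hva hav hM x hvx
    have hA := hscale v a hvv haa hva hav hM
    have hgen : ∀ b, f b b = 0 → f b v = 0 → b ∉ F ∙ v → ∀ t : F, ptv hf v (t • b) ∈ M := by
      intro b hb hbv hb'
      obtain ⟨z, z', iz, zv, za, iz', z'v, zb, hzz⟩ := exists_isotropic_two hf hn6 hav hb'
      have hz' : ∀ {z}, f z v = 0 → ∀ {a}, f z a ≠ 0 → f v a = 0 → z ∉ F ∙ v := by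
        intro z _ a hza hva h
        obtain ⟨r, rfl⟩ := Submodule.mem_span_singleton.1 h
        rw [smul_left hf, hva, mul_zero] at hza
        exact hza rfl
      have hvz := eq_zero_symm hf zv
      have m1 := hmove v a hvv haa hva hav hA z iz hvz (ne_symm hf za)
      have m2 : ∀ t : F, ptv hf v (t • z') ∈ M := by
        rcases hzz with rfl | h
        · exact m1
        · exact hmove v z hvv iz hvz (hz' zv za hva) m1 z' iz' (eq_zero_symm hf z'v) h
      exact hmove v z' hvv iz' (eq_zero_symm hf z'v) (hz' z'v zb (eq_zero_symm hf hbv)) m2 b hb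
        (eq_zero_symm hf hbv) zb
    have hxm := hspan v x hv0 (eq_zero_symm hf hvx)
    have key : ∀ x, x ∈ Submodule.span F {u | f u u = 0 ∧ f u v = 0 ∧ u ∉ F ∙ v} →
        f v x = 0 ∧ ∀ t : F, ptv hf v (t • x) ∈ M := by
      intro x hx
      induction hx using Submodule.span_induction with
      | mem x hx => exact ⟨eq_zero_symm hf hx.2.1, hgen x hx.1 hx.2.1 hx.2.2⟩
      | zero => exact ⟨zero_right hf v, fun t => by rw [smul_zero, ptv_zero_right]; exact M.one_mem⟩
      | add x y _ _ hx hy =>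
        refine ⟨by rw [add_right hf, hx.1, hy.1, add_zero], fun t => ?_⟩
        rw [smul_add, ← ptv_add_right hf (by rw [smul_right hf, hx.1, mul_zero]) (by rw [smul_right hf, hy.1, mul_zero])]
        exact M.mul_mem (hx.2 t) (hy.2 t)
      | smul c x _ hx =>
        refine ⟨by rw [smul_right hf, hx.1, mul_zero], fun t => ?_⟩
        rw [smul_smul]; exact hx.2 _
    simpa using (key x hxm).2 1
  -- every isotropic centre
  have hPv := hP v w hv0 hvv hww hvw hwv hvM
  have hPmove : ∀ v u, v ≠ 0 → f v v = 0 → f u u = 0 → f v u ≠ 0 → (∀ x, f v x = 0 → ptv hf v x ∈ M) →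
      ∀ x, f u x = 0 → ptv hf u x ∈ M := by
    intro v u hv0 hvv hu hvu hPv
    have hu0 : u ≠ 0 := fun h => hvu (by rw [h]; exact zero_right hf v)
    set X := uperp hf (F ∙ v ⊔ F ∙ u) with hX
    have hXd := finrank_uperp_ge hf (F ∙ v ⊔ F ∙ u)
    have h2 : Module.finrank F ↥(F ∙ v ⊔ F ∙ u) ≤ 2 := by
      have := Submodule.finrank_add_le_finrank_add_finrank (F ∙ v) (F ∙ u)
      rw [finrank_span_singleton hv0, finrank_span_singleton hu0] at this
      exact this
    obtain ⟨a, ha, hau⟩ := SetLike.not_le_iff_exists.1 (show ¬ X ≤ F ∙ u by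
      intro h; have := Submodule.finrank_mono h; rw [finrank_span_singleton hu0] at this
      rw [Fintype.card_fin, ← hX] at hXd; omega)
    obtain ⟨b, hb, hba'⟩ := SetLike.not_le_iff_exists.1 (show ¬ X ≤ F ∙ a by
      intro h; have := Submodule.finrank_mono h
      rw [finrank_span_singleton (fun ha0 => hau (by rw [ha0]; exact Submodule.zero_mem _))] at this
      rw [Fintype.card_fin, ← hX] at hXd; omega)
    have hba : b ∉ F ∙ u ⊔ F ∙ a := by
      intro h
      obtain ⟨p, hp, q, hq, e⟩ := Submodule.mem_sup.1 h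
      obtain ⟨r, rfl⟩ := Submodule.mem_span_singleton.1 hp
      have hbv := hb v (Submodule.mem_sup_left (Submodule.mem_span_singleton_self v))
      obtain ⟨r', rfl⟩ := Submodule.mem_span_singleton.1 hq
      rw [← e, add_left hf, smul_left hf, smul_left hf, ha v (Submodule.mem_sup_left (Submodule.mem_span_singleton_self v)),
        mul_zero, add_zero] at hbv
      exact hba' (by rw [← e, (mul_eq_zero.1 hbv).resolve_right (ne_symm hf hvu), zero_smul, zero_add]
                     exact Submodule.smul_mem _ _ (Submodule.mem_span_singleton_self a))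
    obtain ⟨s, t, hst, hiso⟩ := exists_isotropic_pair hf a b
    obtain ⟨x, hxdef⟩ : ∃ x, x = s • a + t • b := ⟨_, rfl⟩
    rw [← hxdef] at hiso
    have hxX : x ∈ X := hxdef ▸ add_mem (X.smul_mem _ ha) (X.smul_mem _ hb)
    have hxv : f x v = 0 := hxX v (Submodule.mem_sup_left (Submodule.mem_span_singleton_self v))
    have hxu : f x u = 0 := hxX u (Submodule.mem_sup_right (Submodule.mem_span_singleton_self u))
    have hxu' : x ∉ F ∙ u := by
      intro h
      rcases eq_or_ne t 0 with rfl | ht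
      · refine hau ((Submodule.smul_mem_iff _ (hst.resolve_right (by simp))).1 ?_)
        rw [hxdef, zero_smul, add_zero] at h; exact h
      · refine hba ((Submodule.smul_mem_iff _ ht).1 ?_)
        rw [show t • b = x - s • a by rw [hxdef]; abel]
        exact Submodule.sub_mem _ (Submodule.mem_sup_left h)
          (Submodule.mem_sup_right (Submodule.smul_mem _ _ (Submodule.mem_span_singleton_self a)))
    have h3 := hstepL v x u (eq_zero_symm hf hxv) (hPv x (eq_zero_symm hf hxv)) hu hxu c₀ hc₀s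
    have hs0 : c₀ * f v u ≠ 0 := mul_ne_zero hc₀ hvu
    rw [ptv_smul hf u x _ (eq_zero_symm hf hxu)] at h3
    have hs0' : σ (c₀ * f v u) ≠ 0 := (map_ne_zero σ).2 hs0
    intro y hy
    refine hP u _ hu0 hu (by rw [smul_left hf, smul_right hf, hiso, mul_zero, mul_zero])
      (by rw [smul_right hf, eq_zero_symm hf hxu, mul_zero]) (fun h => hxu' ?_) h3 y hy
    exact (Submodule.smul_mem_iff _ hs0').1 h
  have hPiso : ∀ u, f u u = 0 → ∀ x, f u x = 0 → ptv hf u x ∈ M := by
    intro u hu
    rcases eq_or_ne u 0 with rfl | hu0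
    · intro x _; rw [ptv_zero_left]; exact M.one_mem
    obtain ⟨z, z', iz, -, za, iz', -, zb, hzz⟩ := exists_isotropic_two hf hn6 (v := 0) (a := v) (b := u)
      (by simpa [Submodule.mem_span_singleton] using hv0) (by simpa [Submodule.mem_span_singleton] using hu0)
    have m1 := hPmove v z hv0 hvv iz (ne_symm hf za) hPv
    have hz0 : z ≠ 0 := fun h => za (by rw [h]; exact zero_left hf _)
    have hz'0 : z' ≠ 0 := fun h => zb (by rw [h]; exact zero_left hf _)
    have m2 : ∀ x, f z' x = 0 → ptv hf z' x ∈ M := by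
      rcases hzz with rfl | h
      · exact m1
      · exact hPmove z z' hz0 iz iz' h m1
    exact hPmove z' u hz'0 iz' hu zb m2
  -- all transvections
  refine le_antisymm hM2 (specialLinear_le_of_transvections M ?_)
  intro φ x hφ
  obtain ⟨y, hy⟩ := exists_repr hf φ
  have hxy : f x y = 0 := by rw [← hy]; exact hφ
  have e : tv φ x = ptv hf x y := by
    apply gl_ext; intro z
    rw [act_tv hφ, act_ptv hf hxy, hy]
  rw [e]
  rcases eq_or_ne y 0 with rfl | hy0
  · rw [ptv_zero_right]; exact M.one_mem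
  have key : ∀ x, x ∈ Submodule.span F {u | f u u = 0 ∧ f u y = 0 ∧ u ∉ F ∙ y} →
      f x y = 0 ∧ ∀ t : F, ptv hf (t • x) y ∈ M := by
    intro x hx
    induction hx using Submodule.span_induction with
    | mem x hx =>
      refine ⟨hx.2.1, fun t => hPiso _ ?_ _ ?_⟩
      · rw [smul_left hf, smul_right hf, hx.1, mul_zero, mul_zero]
      · rw [smul_left hf, hx.2.1, mul_zero]
    | zero => exact ⟨zero_left hf y, fun t => by rw [smul_zero, ptv_zero_left]; exact M.one_mem⟩
    | add a b _ _ ha hb =>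
      refine ⟨by rw [add_left hf, ha.1, hb.1, add_zero], fun t => ?_⟩
      rw [smul_add, ← ptv_add_left hf (by rw [smul_left hf, ha.1, mul_zero]) (by rw [smul_left hf, hb.1, mul_zero])]
      exact M.mul_mem (ha.2 t) (hb.2 t)
    | smul c a _ ha =>
      refine ⟨by rw [smul_left hf, ha.1, mul_zero], fun t => ?_⟩
      rw [smul_smul]; exact ha.2 _
  simpa using (key x (hspan y x hy0 hxy)).2 1

end

section

/-- For a finite field F of odd order and n ≥ 6, let Q be a non-degenerate quadratic form on F^n (its polar form is non-degenerate). Then the elements of SL_n(F) that are similarities of Q (Q(gv) = c Q(v) for a non-zero scalar c depending on g) form a maximal subgroup of SL_n(F). -/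
theorem orthSim_maximal {F : Type*} [Field F] [Fintype F] (n : ℕ) (hn : 6 ≤ n) (hodd : Odd (Fintype.card F)) (Q : (Fin n → F) → F) (hQ : Cfsg.Geo.IsNondegenerateQuadraticForm Q) : Cfsg.Geo.IsMaximalIn (Cfsg.Geo.specialLinear (Fin n) F) (Cfsg.Geo.quadSimilarityGroup Q ⊓ Cfsg.Geo.specialLinear (Fin n) F) := by
  obtain ⟨q, rfl, hnd⟩ := MaxCl.Orth.exists_form hQ
  have hn' : 6 ≤ Fintype.card (Fin n) := by rw [Fintype.card_fin]; omega
  have h2 : (2 : F) ≠ 0 := by
    intro h
    haveI : CharP F 2 := CharTwo.of_one_ne_zero_of_two_eq_zero one_ne_zero h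
    obtain ⟨k, hk⟩ := hodd
    have := FiniteField.even_card_of_char_two (F := F) (ringChar.eq F 2)
    omega
  refine ⟨lt_of_le_of_ne inf_le_right ?_, ?_⟩
  · intro heq
    obtain ⟨u, v, -, -, hu, hv, -, -, huv, -⟩ := MaxCl.Orth.exists_two_pairs (Q := q) hnd (by omega)
    have huu : QuadraticMap.polar (⇑q) u u = 0 := MaxCl.Orth.B_self_of_singular q hu
    have hdet : MaxCl.tv (QuadraticMap.polarBilin q u) u ∈ Cfsg.Geo.specialLinear (Fin n) F := by
      refine MonoidHom.mem_ker.2 (Units.ext ?_)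
      simpa [MaxCl.det_eq_of_fix_hyperplane (MaxCl.act_tv (φ := QuadraticMap.polarBilin q u) huu), QuadraticMap.polarBilin_apply_apply, add_eq_left] using huu
    obtain ⟨c, hc⟩ := (inf_eq_right.1 heq) hdet
    have h1 := hc v
    rw [← MaxCl.act_apply, MaxCl.Orth.act_tvPol huu, huv, one_smul, MaxCl.Orth.Q_add q, hv, hu,
      MaxCl.Orth.B_comm q v u, huv] at h1
    simp at h1
  intro M hM1 hM2
  by_cases hsub : M ≤ Cfsg.Geo.quadSimilarityGroup ⇑q
  · exact Or.inl (le_antisymm (le_inf hsub hM2) hM1)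
  right
  obtain ⟨g, hgM, hg⟩ := SetLike.not_le_iff_exists.1 hsub
  have hsg : ∀ u w, MaxCl.Orth.sg q u w ∈ M := fun u w =>
    hM1 ⟨MaxCl.Orth.sg_mem_similarity u w, MaxCl.Orth.sg_mem_sl hnd hn' u w⟩
  obtain ⟨c, v, hc, hc0, hv0, hcv⟩ := MaxCl.Orth.exists_tvPol hnd hn' h2 hsg hgM hg
  exact le_antisymm hM2 (MaxCl.Orth.sl_le_of_tvPol hnd hn' h2 hsg hc hc0 hv0 hcv)

end

end Cfsg.Agent.MaxClLists
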