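/-
Two elementary facts on a finite subgroup `H` of `SL(2, F)` which contains a non-trivial upper unitriangular
matrix and does not fix the line `e₀`: in odd characteristic `-1 ∈ H`, in characteristic two the upper
unitriangular part of `H` is a scalar multiple of a multiplicatively closed set.
-/
import Mathlib

set_option autoImplicit false

namespace Cfsg.Agent.MaxCl.SLTwo

open Matrix
open scoped MatrixGroups

variable {F : Type*} [Field F]

/-- upper unitriangular matrix -/
def ux (a : F) : SL(2, F) := ⟨!![1, a; 0, 1], by simp [det_fin_two]⟩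

@[simp] theorem ux_val (a : F) : (ux a : Matrix (Fin 2) (Fin 2) F) = !![1, a; 0, 1] := rfl

theorem ux_add (a b : F) : ux a * ux b = ux (a + b) :=
  Subtype.ext (by ext i j; fin_cases i <;> fin_cases j <;> simp [Matrix.mul_apply, Fin.sum_univ_two] <;> ring)

theorem ux_zero : ux (0 : F) = 1 :=
  Subtype.ext (by ext i j; fin_cases i <;> fin_cases j <;> simp)

theorem ux_inv (a : F) : (ux a)⁻¹ = ux (-a) :=
  (eq_inv_of_mul_eq_one_left (by rw [ux_add, neg_add_cancel, ux_zero])).symm

theorem ux_injective : Function.Injective (ux : F → SL(2, F)) := fun a b h => by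
  simpa using congrArg (fun A : SL(2, F) => (A : Matrix (Fin 2) (Fin 2) F) 0 1) h

/-- entrywise form of a product -/
theorem mul_apply2 (A B : SL(2, F)) (i j : Fin 2) :
    (A * B : SL(2, F)) i j = A i 0 * B 0 j + A i 1 * B 1 j := by
  simp [Matrix.mul_apply, Fin.sum_univ_two]

theorem det2 (A : SL(2, F)) : A 0 0 * A 1 1 - A 0 1 * A 1 0 = 1 := by
  have := A.2; rwa [det_fin_two] at this

theorem ext2 {A B : SL(2, F)} (h00 : A 0 0 = B 0 0) (h01 : A 0 1 = B 0 1)
    (h10 : A 1 0 = B 1 0) (h11 : A 1 1 = B 1 1) : A = B :=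
  Subtype.ext (by ext i j; fin_cases i <;> fin_cases j <;> assumption)

theorem one_apply2 : (1 : SL(2, F)) 0 0 = 1 ∧ (1 : SL(2, F)) 0 1 = 0 ∧ (1 : SL(2, F)) 1 0 = 0 ∧
    (1 : SL(2, F)) 1 1 = 1 := by
  simp [SpecialLinearGroup.coe_one]

/-- scalar matrices of `SL(2, F)` -/
def IsScal (A : SL(2, F)) : Prop := A 0 1 = 0 ∧ A 1 0 = 0 ∧ A 0 0 = A 1 1

/-- the commutant of a non-scalar matrix consists of its linear polynomials -/
theorem exists_of_commute {A B : SL(2, F)} (hA : ¬ IsScal A) (h : A * B = B * A) :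
    ∃ x y : F, B 0 1 = y * A 0 1 ∧ B 1 0 = y * A 1 0 ∧
      B 0 0 = x + y * A 0 0 ∧ B 1 1 = x + y * A 1 1 := by
  have e := fun i j => congrArg (fun C : SL(2, F) => C i j) h
  have e00 := e 0 0; have e01 := e 0 1; have e10 := e 1 0
  simp only [mul_apply2] at e00 e01 e10
  by_cases h1 : A 0 1 = 0
  · by_cases h2 : A 1 0 = 0
    · have hd : A 0 0 - A 1 1 ≠ 0 := fun h0 => hA ⟨h1, h2, sub_eq_zero.1 h0⟩
      have b01 : B 0 1 = 0 := mul_left_cancel₀ hd (by rw [h1] at e01; linear_combination e01)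
      have b10 : B 1 0 = 0 := mul_left_cancel₀ hd (by rw [h2] at e10; linear_combination -e10)
      refine ⟨B 0 0 - (B 0 0 - B 1 1) / (A 0 0 - A 1 1) * A 0 0,
        (B 0 0 - B 1 1) / (A 0 0 - A 1 1), by rw [h1, b01, mul_zero], by rw [h2, b10, mul_zero],
        by ring, ?_⟩
      field_simp
      ring
    · refine ⟨B 0 0 - B 1 0 / A 1 0 * A 0 0, B 1 0 / A 1 0, ?_, by field_simp, by ring, ?_⟩
      · field_simp
        linear_combination -e00
      · field_simp
        linear_combination -e10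
  · refine ⟨B 0 0 - B 0 1 / A 0 1 * A 0 0, B 0 1 / A 0 1, by field_simp, ?_, by ring, ?_⟩
    · field_simp
      linear_combination e00
    · field_simp
      linear_combination e01

theorem commute_of_commute {A B C : SL(2, F)} (hA : ¬ IsScal A) (hB : A * B = B * A) (hC : A * C = C * A) :
    B * C = C * B := by
  obtain ⟨x, y, b01, b10, b00, b11⟩ := exists_of_commute hA hB
  obtain ⟨x', y', c01, c10, c00, c11⟩ := exists_of_commute hA hC
  apply ext2 <;> simp only [mul_apply2, b01, b10, b00, b11, c01, c10, c00, c11] <;> ring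

/-- the trace -/
def tr (A : SL(2, F)) : F := A 0 0 + A 1 1

theorem tr_mul_comm (A B : SL(2, F)) : tr (A * B) = tr (B * A) := by
  simp only [tr, mul_apply2]; ring

theorem tr_conj (g A : SL(2, F)) : tr (g * A * g⁻¹) = tr A := by
  rw [tr_mul_comm, inv_mul_cancel_left]

theorem tr_one : tr (1 : SL(2, F)) = 2 := by
  simp only [tr, one_apply2.1, one_apply2.2.2.2]; ring

theorem tr_of_isScal {A : SL(2, F)} (h : IsScal A) : tr A = 2 ∨ tr A = -2 := by
  obtain ⟨h1, h2, h3⟩ := h
  have := det2 A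
  rw [h1, h2, ← h3] at this
  have : (A 0 0 - 1) * (A 0 0 + 1) = 0 := by linear_combination this
  rcases mul_eq_zero.1 this with h | h
  · left; simp only [tr, ← h3]; linear_combination 2 * h
  · right; simp only [tr, ← h3]; linear_combination 2 * h

/-- a conjugate of `A` in the commutant of `A` is `A` or `A⁻¹` -/
theorem conj_eq_or_eq_inv (h2 : (2 : F) ≠ 0) {A B : SL(2, F)} (ht : tr A ≠ 2) (ht' : tr A ≠ -2) (hB : A * B = B * A)
    (htr : tr B = tr A) : B = A ∨ B = A⁻¹ := by
  have hA : ¬ IsScal A := fun h => (tr_of_isScal h).elim ht ht'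
  obtain ⟨x, y, b01, b10, b00, b11⟩ := exists_of_commute hA hB
  have hdA := det2 A
  have hdB := det2 B
  have hx : 2 * x = (1 - y) * tr A := by
    simp only [tr, b00, b11] at htr ⊢
    linear_combination htr
  rw [b01, b10, b00, b11] at hdB
  have hne : (2 - tr A) * (2 + tr A) ≠ 0 :=
    mul_ne_zero (sub_ne_zero.2 (Ne.symm ht)) (fun h => ht' (by linear_combination h))
  have hy : (y - 1) * (y + 1) * ((2 - tr A) * (2 + tr A)) = 0 := by
    simp only [tr] at hx ⊢
    linear_combination (4 : F) * hdB - 4 * y * y * hdA -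
      (2 * x + (1 - y) * (A 0 0 + A 1 1) + 2 * y * (A 0 0 + A 1 1)) * hx
  rcases mul_eq_zero.1 (mul_eq_zero.1 hy |>.resolve_right hne) with h | h
  · have hy1 : y = 1 := sub_eq_zero.1 h
    subst hy1
    have hx0 : x = 0 := (mul_eq_zero.1 (show 2 * x = 0 by rw [hx]; ring)).resolve_left h2
    exact Or.inl (ext2 (by rw [b00, hx0]; ring) (by rw [b01]; ring) (by rw [b10]; ring) (by rw [b11, hx0]; ring))
  · have hy1 : y = -1 := by linear_combination h
    subst hy1
    right
    have hxt : x = tr A := mul_left_cancel₀ h2 (by rw [hx]; ring)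
    have hinv : ((A⁻¹ : SL(2, F)) : Matrix (Fin 2) (Fin 2) F) = !![A 1 1, -A 0 1; -A 1 0, A 0 0] := by
      simp [adjugate_fin_two]
    simp only [tr] at hxt
    apply ext2 <;> simp [hinv, b00, b01, b10, b11, hxt] <;> ring

section Count

variable {G : Type*} [Group G] [Finite G]

omit [Finite G] in
theorem out_eq_of_mem (C : Subgroup G) {a b : G ⧸ C} (h : a.out⁻¹ * b.out ∈ C) : a = b := by
  rw [← a.out_eq', ← b.out_eq']
  exact QuotientGroup.eq.2 h

/-- two classes of non-trivial TI subgroups without common conjugates need too many elements -/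
theorem count_two (C C' D D' : Subgroup G) (hD : D ≤ C) (hD' : D' ≤ C')
    (hTI : ∀ g x, x ∈ D → x ≠ 1 → g * x * g⁻¹ ∈ D → g ∈ C)
    (hTI' : ∀ g x, x ∈ D' → x ≠ 1 → g * x * g⁻¹ ∈ D' → g ∈ C')
    (hdis : ∀ g x, x ∈ D → x ≠ 1 → g * x * g⁻¹ ∉ D')
    (hfull : Nat.card C = Nat.card D) (hfull' : Nat.card C' = Nat.card D')
    (h2 : 2 ≤ Nat.card D) (h2' : 2 ≤ Nat.card D') : False := by
  classical
  haveI := Fintype.ofFinite G
  have key : ∀ (C D : Subgroup G), (∀ g x, x ∈ D → x ≠ 1 → g * x * g⁻¹ ∈ D → g ∈ C) →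
      Function.Injective (fun p : (G ⧸ C) × {x : D // x ≠ 1} => p.1.out * (p.2.1 : G) * p.1.out⁻¹) := by
    intro C D h
    rintro ⟨a, x, hx⟩ ⟨b, y, hy⟩ e
    simp only at e
    have e' : (b.out⁻¹ * a.out) * (x : G) * (b.out⁻¹ * a.out)⁻¹ = y := by
      calc _ = b.out⁻¹ * (a.out * (x : G) * a.out⁻¹) * b.out := by group
        _ = b.out⁻¹ * (b.out * (y : G) * b.out⁻¹) * b.out := by rw [e]
        _ = y := by group
    have hba : b = a := out_eq_of_mem C
      (h _ x x.2 (fun h1 => hx (Subtype.ext h1)) (by rw [e']; exact y.2))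
    subst hba
    simp only [mul_left_inj, mul_right_inj] at e
    obtain rfl : x = y := Subtype.ext e
    rfl
  let f : ((G ⧸ C) × {x : D // x ≠ 1}) ⊕ ((G ⧸ C') × {x : D' // x ≠ 1}) → {g : G // g ≠ 1} :=
    Sum.elim
      (fun p => ⟨p.1.out * (p.2.1 : G) * p.1.out⁻¹, fun h => p.2.2 (Subtype.ext (conj_eq_one_iff.1 h))⟩)
      (fun p => ⟨p.1.out * (p.2.1 : G) * p.1.out⁻¹, fun h => p.2.2 (Subtype.ext (conj_eq_one_iff.1 h))⟩)
  have hf : Function.Injective f := by
    rintro (p | p) (p' | p') e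
    · exact congrArg Sum.inl (key C D hTI (congrArg Subtype.val e))
    · exfalso
      refine hdis (p'.1.out⁻¹ * p.1.out) p.2.1 p.2.1.2 (fun h => p.2.2 (Subtype.ext h)) ?_
      have e' : p.1.out * (p.2.1 : G) * p.1.out⁻¹ = p'.1.out * (p'.2.1 : G) * p'.1.out⁻¹ :=
        congrArg Subtype.val e
      convert p'.2.1.2 using 1
      calc _ = p'.1.out⁻¹ * (p.1.out * (p.2.1 : G) * p.1.out⁻¹) * p'.1.out := by group
        _ = _ := by rw [e']; group
    · exfalso
      refine hdis (p.1.out⁻¹ * p'.1.out) p'.2.1 p'.2.1.2 (fun h => p'.2.2 (Subtype.ext h)) ?_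
      have e' : p.1.out * (p.2.1 : G) * p.1.out⁻¹ = p'.1.out * (p'.2.1 : G) * p'.1.out⁻¹ :=
        congrArg Subtype.val e
      convert p.2.1.2 using 1
      calc _ = p.1.out⁻¹ * (p'.1.out * (p'.2.1 : G) * p'.1.out⁻¹) * p.1.out := by group
        _ = _ := by rw [← e']; group
    · exact congrArg Sum.inr (key C' D' hTI' (congrArg Subtype.val e))
  have hle := Nat.card_le_card_of_injective f hf
  have hsub : ∀ E : Subgroup G, Nat.card {x : E // x ≠ 1} = Nat.card E - 1 := by
    intro E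
    rw [Nat.card_eq_fintype_card, Nat.card_eq_fintype_card, Fintype.card_subtype_compl]
    simp
  have hG : Nat.card {g : G // g ≠ 1} + 1 = Nat.card G := by
    rw [Nat.card_eq_fintype_card, Nat.card_eq_fintype_card, Fintype.card_subtype_compl]
    have : 0 < Fintype.card G := Fintype.card_pos
    simp; omega
  rw [Nat.card_sum, Nat.card_prod, Nat.card_prod, hsub, hsub] at hle
  have i1 : Nat.card (G ⧸ C) * Nat.card D = Nat.card G := by
    rw [← hfull, ← Subgroup.card_eq_card_quotient_mul_card_subgroup]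
  have i2 : Nat.card (G ⧸ C') * Nat.card D' = Nat.card G := by
    rw [← hfull', ← Subgroup.card_eq_card_quotient_mul_card_subgroup]
  have j1 : Nat.card G ≤ 2 * (Nat.card (G ⧸ C) * (Nat.card D - 1)) := by
    rw [← i1, ← mul_assoc, mul_comm 2, mul_assoc]
    exact Nat.mul_le_mul le_rfl (by omega)
  have j2 : Nat.card G ≤ 2 * (Nat.card (G ⧸ C') * (Nat.card D' - 1)) := by
    rw [← i2, ← mul_assoc, mul_comm 2, mul_assoc]
    exact Nat.mul_le_mul le_rfl (by omega)
  omega

omit [Finite G] in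
/-- in a group of odd order an element whose square is in a subgroup is in it -/
theorem mem_of_sq_mem (hodd : Odd (Nat.card G)) (C : Subgroup G) {g : G} (h : g * g ∈ C) : g ∈ C := by
  obtain ⟨k, hk⟩ := hodd
  have e : g ^ (2 * k + 1) = 1 := hk ▸ pow_card_eq_one'
  have : g = (g * g) ^ (k + 1) := by
    rw [← pow_two, ← pow_mul, show 2 * (k + 1) = 2 * k + 1 + 1 by ring, pow_succ, e, one_mul]
  rw [this]
  exact C.pow_mem h _

end Count

/-- In odd characteristic a finite subgroup with a non-trivial element of the upper unitriangular group and an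
element moving the fixed line contains `-1`. -/
theorem neg_one_mem (h2 : (2 : F) ≠ 0) (H : Subgroup SL(2, F)) [Finite H] {a₀ : F} (ha₀ : a₀ ≠ 0)
    (hx : ux a₀ ∈ H) {g₀ : SL(2, F)} (hg₀ : g₀ ∈ H) (hg₀' : g₀ 1 0 ≠ 0) : -1 ∈ H := by
  classical
  by_contra hneg
  -- odd order
  have hodd : Odd (Nat.card H) := by
    by_contra he
    obtain ⟨u, hu⟩ := exists_prime_orderOf_dvd_card' 2
      (even_iff_two_dvd.1 (Nat.not_odd_iff_even.1 he)) (hp := ⟨Nat.prime_two⟩) (G := H)
    apply hneg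
    have hu2 : (u : SL(2, F)) * u = 1 := by
      have : u * u = 1 := by
        rw [← pow_two]
        exact orderOf_dvd_iff_pow_eq_one.1 (dvd_of_eq hu)
      exact congrArg Subtype.val this
    have hu1 : (u : SL(2, F)) ≠ 1 := fun h => by
      have : u = 1 := Subtype.ext h
      rw [this, orderOf_one] at hu; omega
    suffices (u : SL(2, F)) = -1 from this ▸ u.2
    set A : SL(2, F) := (u : SL(2, F)) with hA
    have e := fun i j => congrArg (fun C : SL(2, F) => C i j) hu2
    have e00 := e 0 0; have e01 := e 0 1; have e10 := e 1 0; have e11 := e 1 1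
    simp only [mul_apply2, one_apply2.1, one_apply2.2.1, one_apply2.2.2.1, one_apply2.2.2.2] at e00 e01 e10 e11
    have hd := det2 A
    have ht : (A 0 0 + A 1 1) * A 0 0 = 2 := by linear_combination e00 + hd
    have ht0 : A 0 0 + A 1 1 ≠ 0 := fun h => h2 (by rw [← ht, h, zero_mul])
    have a01 : A 0 1 = 0 := (mul_eq_zero.1 (show (A 0 0 + A 1 1) * A 0 1 = 0 by linear_combination e01)).resolve_left ht0
    have a10 : A 1 0 = 0 := (mul_eq_zero.1 (show (A 0 0 + A 1 1) * A 1 0 = 0 by linear_combination e10)).resolve_left ht0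
    have a11 : A 1 1 = A 0 0 := mul_left_cancel₀ ht0 (by linear_combination e11 - e00)
    have a00 : (A 0 0 - 1) * (A 0 0 + 1) = 0 := by
      rw [a01, a10] at e00; linear_combination e00
    rcases mul_eq_zero.1 a00 with h | h
    · exfalso
      have h' : A 0 0 = 1 := sub_eq_zero.1 h
      exact hu1 (ext2 (by rw [h', one_apply2.1]) (by rw [a01, one_apply2.2.1]) (by rw [a10, one_apply2.2.2.1])
        (by rw [a11, h', one_apply2.2.2.2]))
    · have h' : A 0 0 = -1 := by linear_combination h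
      apply ext2 <;> simp [a01, a10, a11, h', Matrix.one_apply]
  have hpow : ∀ (g : H), (g : SL(2, F)) ^ Nat.card H = 1 := fun g => by
    rw [← SubmonoidClass.coe_pow, pow_card_eq_one']; rfl
  -- no element has trace `-2`
  have htm : ∀ g : H, tr (g : SL(2, F)) ≠ -2 := by
    intro g ht
    set A : SL(2, F) := (g : SL(2, F)) with hA
    -- `(-A - 1)^2 = 0`, so `-A` is unipotent
    have hd := det2 A
    have hsq : ∀ n : ℕ, (A ^ n) 0 0 + (A ^ n) 1 1 = (-1) ^ n * 2 ∧
        (A ^ n) 0 0 = (-1) ^ n * (1 - n * (A 0 0 + 1)) ∧ (A ^ n) 0 1 = -((-1) ^ n * n * A 0 1) ∧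
        (A ^ n) 1 0 = -((-1) ^ n * n * A 1 0) := by
      intro n
      induction n with
      | zero => simp [one_apply2.1, one_apply2.2.1, one_apply2.2.2.1, one_apply2.2.2.2]; ring
      | succ n ih =>
        obtain ⟨i1, i2, i3, i4⟩ := ih
        simp only [tr] at ht
        have i5 : (A ^ n) 1 1 = (-1) ^ n * 2 - (A ^ n) 0 0 := by linear_combination i1
        have ha : A 1 1 = -2 - A 0 0 := by linear_combination ht
        rw [ha] at hd
        refine ⟨?_, ?_, ?_, ?_⟩ <;>
          simp only [pow_succ A, mul_apply2, i2, i3, i4, i5, ha, pow_succ (-1 : F), Nat.cast_succ]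
        · linear_combination (2 * (n : F) * (-1) ^ n) * hd
        · linear_combination ((n : F) * (-1) ^ n) * hd
        · ring
        · ring
    have h1 := (hsq (Nat.card H)).1
    rw [hpow g, one_apply2.1, one_apply2.2.2.2, hodd.neg_one_pow] at h1
    have h4 : (2 : F) * 2 = 0 := by linear_combination h1
    exact h2 (mul_self_eq_zero.1 h4)
  let G := ↥H
  -- the stabiliser of the line and its unipotent part
  let N : Subgroup H :=
    { carrier := {g | (g : SL(2, F)) 1 0 = 0}
      mul_mem' := fun {g h} hg hh => by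
        simp only [Set.mem_setOf_eq] at hg hh ⊢
        rw [Subgroup.coe_mul, mul_apply2, hg, hh]; ring
      one_mem' := one_apply2.2.2.1
      inv_mem' := fun {g} hg => by
        simp only [Set.mem_setOf_eq] at hg ⊢
        simp [adjugate_fin_two, hg] }
  let S : Subgroup H :=
    { carrier := {g | ∃ a, (g : SL(2, F)) = ux a}
      mul_mem' := fun {g h} => by
        rintro ⟨a, ha⟩ ⟨b, hb⟩; exact ⟨a + b, by rw [Subgroup.coe_mul, ha, hb, ux_add]⟩
      one_mem' := ⟨0, by rw [ux_zero]; rfl⟩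
      inv_mem' := fun {g} => by
        rintro ⟨a, ha⟩; exact ⟨-a, by rw [Subgroup.coe_inv, ha, ux_inv]⟩ }
  have hSN : S ≤ N := by rintro g ⟨a, ha⟩; show (g : SL(2, F)) 1 0 = 0; rw [ha]; simp
  let x₀ : H := ⟨ux a₀, hx⟩
  have hx₀S : x₀ ∈ S := ⟨a₀, rfl⟩
  have hx₀1 : x₀ ≠ 1 := fun h => ha₀ (ux_injective (by rw [ux_zero]; exact congrArg Subtype.val h))
  have hS2 : 2 ≤ Nat.card S :=
    Finite.one_lt_card_iff_nontrivial.2 ⟨⟨x₀, hx₀S⟩, 1, fun h => hx₀1 (congrArg Subtype.val h)⟩
  have hTIS : ∀ g x, x ∈ S → x ≠ 1 → g * x * g⁻¹ ∈ S → g ∈ N := by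
    rintro g x ⟨a, ha⟩ hx1 ⟨b, hb⟩
    have hb0 : b ≠ 0 := by
      rintro rfl
      apply hx1
      have : g * x * g⁻¹ = 1 := Subtype.ext (by rw [hb, ux_zero]; rfl)
      exact conj_eq_one_iff.1 this
    have e : (g : SL(2, F)) * ux a = ux b * g := by
      rw [← ha, ← hb]; simp [mul_assoc]
    have e00 := congrArg (fun C : SL(2, F) => C 0 0) e
    simp [mul_apply2] at e00
    exact e00.resolve_left hb0
  -- centralisers of elements of trace `≠ 2`
  let Cz : H → Subgroup H := fun d => Subgroup.centralizer {d}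
  have hCz : ∀ {d y : H}, y ∈ Cz d ↔ (d : SL(2, F)) * y = y * d := fun {d y} => by
    simp only [Cz, Subgroup.mem_centralizer_singleton_iff, Subtype.ext_iff, Subgroup.coe_mul]
    exact eq_comm
  have hns : ∀ d : H, tr (d : SL(2, F)) ≠ 2 → ¬ IsScal (d : SL(2, F)) := fun d hd h =>
    (tr_of_isScal h).elim hd (htm d)
  have hscal1 : ∀ y : H, IsScal (y : SL(2, F)) → y = 1 := by
    intro y h
    obtain ⟨k1, k2, k3⟩ := h
    have := det2 (y : SL(2, F))
    rw [k1, k2, ← k3] at this
    have : ((y : SL(2, F)) 0 0 - 1) * ((y : SL(2, F)) 0 0 + 1) = 0 := by linear_combination this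
    rcases mul_eq_zero.1 this with h | h
    · have h' := sub_eq_zero.1 h
      exact Subtype.ext (ext2 (by rw [h']; exact one_apply2.1.symm) (by rw [k1]; exact one_apply2.2.1.symm)
        (by rw [k2]; exact one_apply2.2.2.1.symm) (by rw [← k3, h']; exact one_apply2.2.2.2.symm))
    · exfalso
      exact htm y (by simp only [tr, ← k3]; linear_combination 2 * h)
  have hCeq : ∀ d : H, tr (d : SL(2, F)) ≠ 2 → ∀ y ∈ Cz d, y ≠ 1 → Cz y = Cz d := by
    intro d hd y hy hy1
    have hy' : ¬ IsScal (y : SL(2, F)) := fun h => hy1 (hscal1 y h)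
    ext z
    rw [hCz, hCz]
    exact ⟨fun h => commute_of_commute hy' (hCz.1 hy).symm h,
      fun h => commute_of_commute (hns d hd) (hCz.1 hy) h⟩
  have hTIC : ∀ d : H, tr (d : SL(2, F)) ≠ 2 → ∀ g x, x ∈ Cz d → x ≠ 1 → g * x * g⁻¹ ∈ Cz d → g ∈ Cz d := by
    intro d hd g x hx hx1 hgx
    have h1 : Cz x = Cz d := hCeq d hd x hx hx1
    have h2' : Cz (g * x * g⁻¹) = Cz d := hCeq d hd _ hgx (fun h => hx1 (conj_eq_one_iff.1 h))
    have hd' : g * d * g⁻¹ ∈ Cz d := by
      rw [← h2', Subgroup.mem_centralizer_singleton_iff]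
      have : d * x = x * d := Subtype.ext (hCz.1 hx)
      calc g * d * g⁻¹ * (g * x * g⁻¹) = g * (d * x) * g⁻¹ := by group
        _ = g * (x * d) * g⁻¹ := by rw [this]
        _ = g * x * g⁻¹ * (g * d * g⁻¹) := by group
    have hmem : g * g ∈ Cz d := by
      rw [hCz]
      rcases conj_eq_or_eq_inv h2 hd (htm d) (hCz.1 hd')
          (by rw [Subgroup.coe_mul, Subgroup.coe_mul, Subgroup.coe_inv, tr_conj]) with e | e
      · have e' : g * d * g⁻¹ = d := Subtype.ext e
        have : d * g = g * d := by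
          calc d * g = g * d * g⁻¹ * g := by rw [e']
            _ = g * d := by group
        have : d * (g * g) = g * g * d := by rw [← mul_assoc, this, mul_assoc, this, ← mul_assoc]
        exact congrArg Subtype.val this
      · have e' : g * d * g⁻¹ = d⁻¹ := Subtype.ext (by rw [e]; rfl)
        have : d * (g * g) = g * g * d := by
          have e'' : g * d⁻¹ * g⁻¹ = d := by
            calc g * d⁻¹ * g⁻¹ = (g * d * g⁻¹)⁻¹ := by group
              _ = d := by rw [e', inv_inv]
          calc d * (g * g) = g * d⁻¹ * g⁻¹ * (g * g) := by rw [e'']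
            _ = g * (d⁻¹ * g) := by group
            _ = g * (g * d * g⁻¹ * g) := by rw [e']
            _ = g * g * d := by group
        exact congrArg Subtype.val this
    exact mem_of_sq_mem hodd _ hmem
  have hC2 : ∀ d : H, tr (d : SL(2, F)) ≠ 2 → 2 ≤ Nat.card (Cz d) := fun d hd =>
    Finite.one_lt_card_iff_nontrivial.2 ⟨⟨d, hCz.2 rfl⟩, 1, fun h => hd (by
      rw [show d = 1 from congrArg Subtype.val h, Subgroup.coe_one, tr_one])⟩
  -- an element of trace `≠ 2`
  let g₁ : H := ⟨g₀, hg₀⟩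
  have htx : ∀ a : F, tr (ux a * g₀) = tr g₀ + a * g₀ 1 0 := fun a => by
    simp [tr, mul_apply2]; ring
  obtain ⟨d₁, hd₁⟩ : ∃ d : H, tr (d : SL(2, F)) ≠ 2 := by
    by_cases h : tr g₀ = 2
    · exact ⟨x₀ * g₁, by
        rw [Subgroup.coe_mul]; show tr (ux a₀ * g₀) ≠ 2
        rw [htx, h]; simpa using mul_ne_zero ha₀ hg₀'⟩
    · exact ⟨g₁, h⟩
  have hdis : ∀ d : H, tr (d : SL(2, F)) ≠ 2 → ∀ g x, x ∈ S → x ≠ 1 → g * x * g⁻¹ ∉ Cz d := by
    intro d hd g x hxS hx1 hgx
    obtain ⟨a, ha⟩ := hxS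
    have ha0 : a ≠ 0 := by rintro rfl; exact hx1 (Subtype.ext (by rw [ha, ux_zero]; rfl))
    have hd' : d ∈ Cz (g * x * g⁻¹) := by rw [hCz]; exact (hCz.1 hgx).symm
    have : g⁻¹ * d * g ∈ Cz x := by
      rw [Subgroup.mem_centralizer_singleton_iff]
      have h' : d * (g * x * g⁻¹) = g * x * g⁻¹ * d := Subgroup.mem_centralizer_singleton_iff.1 hd'
      calc g⁻¹ * d * g * x = g⁻¹ * (d * (g * x * g⁻¹)) * g := by group
        _ = g⁻¹ * (g * x * g⁻¹ * d) * g := by rw [h']
        _ = x * (g⁻¹ * d * g) := by group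
    have e := hCz.1 this
    rw [ha] at e
    have e00 := congrArg (fun C : SL(2, F) => C 0 0) e
    have e01 := congrArg (fun C : SL(2, F) => C 0 1) e
    have htr : tr (((g⁻¹ * d * g : H)) : SL(2, F)) = tr (d : SL(2, F)) := by
      rw [Subgroup.coe_mul, Subgroup.coe_mul, Subgroup.coe_inv, tr_mul_comm, mul_inv_cancel_left]
    set D : SL(2, F) := ((g⁻¹ * d * g : H) : SL(2, F)) with hD
    simp [mul_apply2] at e00 e01
    have d10 : D 1 0 = 0 := e00.resolve_left ha0
    have d11 : D 1 1 = D 0 0 := mul_left_cancel₀ ha0 (by linear_combination e01)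
    have hd3 := det2 D
    rw [d10, d11] at hd3
    have : (D 0 0 - 1) * (D 0 0 + 1) = 0 := by linear_combination hd3
    simp only [tr, d11] at htr
    rcases mul_eq_zero.1 this with h | h
    · exact hd (by rw [tr, ← htr]; linear_combination 2 * h)
    · exact htm d (by rw [tr, ← htr]; linear_combination 2 * h)
  by_cases hNS : N ≤ S
  · have hNS' : N = S := le_antisymm hNS hSN
    exact count_two N (Cz d₁) S (Cz d₁) hSN le_rfl hTIS (hTIC d₁ hd₁)
      (hdis d₁ hd₁) (by rw [hNS']) rfl hS2 (hC2 d₁ hd₁)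
  · obtain ⟨d, hdN, hdS⟩ := SetLike.not_le_iff_exists.1 hNS
    have hd10 : (d : SL(2, F)) 1 0 = 0 := hdN
    have hdet := det2 (d : SL(2, F))
    rw [hd10] at hdet
    have hd : tr (d : SL(2, F)) ≠ 2 := by
      intro h
      apply hdS
      simp only [tr] at h
      have : ((d : SL(2, F)) 0 0 - 1) ^ 2 = 0 := by linear_combination (d : SL(2, F)) 0 0 * h - hdet
      have h0 : (d : SL(2, F)) 0 0 = 1 := sub_eq_zero.1 (eq_zero_of_pow_eq_zero this)
      refine ⟨(d : SL(2, F)) 0 1, ext2 (by simp [h0]) (by simp) (by simp [hd10]) ?_⟩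
      simp; linear_combination h - h0
    have hd00 : (d : SL(2, F)) 0 0 ≠ (d : SL(2, F)) 1 1 := by
      intro h
      rw [← h] at hdet
      have : ((d : SL(2, F)) 0 0 - 1) * ((d : SL(2, F)) 0 0 + 1) = 0 := by linear_combination hdet
      rcases mul_eq_zero.1 this with h' | h'
      · exact hd (by simp only [tr, ← h]; linear_combination 2 * h')
      · exact htm d (by simp only [tr, ← h]; linear_combination 2 * h')
    have hCN : Cz d ≤ N := by
      intro y hy
      have e := congrArg (fun C : SL(2, F) => C 1 0) (hCz.1 hy)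
      simp only [mul_apply2, hd10] at e
      show (y : SL(2, F)) 1 0 = 0
      exact (mul_eq_zero.1 (show ((d : SL(2, F)) 1 1 - (d : SL(2, F)) 0 0) * (y : SL(2, F)) 1 0 = 0 by
        linear_combination e)).resolve_left (sub_ne_zero.2 (Ne.symm hd00))
    -- every element of trace `≠ 2` is conjugate into the centraliser of `d`
    have hinto : ∀ A : H, tr (A : SL(2, F)) ≠ 2 → ∃ g, g * A * g⁻¹ ∈ Cz d := by
      intro A hA
      by_contra hno
      push Not at hno
      refine count_two (Cz d) (Cz A) (Cz d) (Cz A) le_rfl le_rfl (hTIC d hd) (hTIC A hA) ?_ rfl rfl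
        (hC2 d hd) (hC2 A hA)
      intro g y hy hy1 hgy
      have h1 : Cz y = Cz d := hCeq d hd y hy hy1
      have h2' : A ∈ Cz (g * y * g⁻¹) := by rw [hCz]; exact (hCz.1 hgy).symm
      apply hno g⁻¹
      rw [← h1, inv_inv, Subgroup.mem_centralizer_singleton_iff]
      have h' : A * (g * y * g⁻¹) = g * y * g⁻¹ * A := Subgroup.mem_centralizer_singleton_iff.1 h2'
      calc g⁻¹ * A * g * y = g⁻¹ * (A * (g * y * g⁻¹)) * g := by group
        _ = g⁻¹ * (g * y * g⁻¹ * A) * g := by rw [h']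
        _ = y * (g⁻¹ * A * g) := by group
    have htrC : ∀ A : H, ∃ y : Cz d, tr ((y : H) : SL(2, F)) = tr (A : SL(2, F)) := by
      intro A
      by_cases hA : tr (A : SL(2, F)) = 2
      · exact ⟨1, by rw [hA]; simp [tr_one]⟩
      · obtain ⟨g, hg⟩ := hinto A hA
        exact ⟨⟨_, hg⟩, by rw [Subgroup.coe_mul, Subgroup.coe_mul, Subgroup.coe_inv, tr_conj]⟩
    -- `S` has at most as many elements as the centraliser of `d`
    choose y hy using fun s : S => htrC ((s : H) * g₁)
    have hinj : Function.Injective y := by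
      rintro ⟨s, a, ha⟩ ⟨s', b, hb⟩ e
      have := congrArg (fun y : Cz d => tr ((y : H) : SL(2, F))) e
      simp only [hy, Subgroup.coe_mul, ha, hb] at this
      rw [htx, htx, add_right_inj] at this
      have hab : a = b := mul_right_cancel₀ hg₀' this
      subst hab
      obtain rfl : s = s' := Subtype.ext (ha.trans hb.symm)
      rfl
    have hsc := Nat.card_le_card_of_injective y hinj
    -- and the centraliser of `d` acts freely on `S` without `1`
    let f : Cz d → {s : S // s ≠ 1} := fun c => ⟨⟨(c : H) * x₀ * (c : H)⁻¹, by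
        have hc : ((c : H) : SL(2, F)) 1 0 = 0 := hCN c.2
        have hdc := det2 ((c : H) : SL(2, F))
        rw [hc] at hdc
        refine ⟨((c : H) : SL(2, F)) 0 0 * ((c : H) : SL(2, F)) 0 0 * a₀, ?_⟩
        rw [Subgroup.coe_mul, Subgroup.coe_mul, Subgroup.coe_inv, mul_inv_eq_iff_eq_mul]
        apply ext2 <;> simp [mul_apply2, x₀, hc]
        linear_combination -(((c : H) : SL(2, F)) 0 0 * a₀) * hdc⟩,
      fun h => hx₀1 (conj_eq_one_iff.1 (congrArg Subtype.val h))⟩
    have hfinj : Function.Injective f := by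
      intro c c' e
      have e' : (c : H) * x₀ * (c : H)⁻¹ = (c' : H) * x₀ * (c' : H)⁻¹ :=
        congrArg (fun s : {s : S // s ≠ 1} => ((s : S) : H)) e
      have hmem : x₀ ∈ Cz ((c' : H)⁻¹ * c) := by
        rw [Subgroup.mem_centralizer_singleton_iff]
        calc x₀ * ((c' : H)⁻¹ * c) = (c' : H)⁻¹ * ((c' : H) * x₀ * (c' : H)⁻¹) * c := by group
          _ = (c' : H)⁻¹ * ((c : H) * x₀ * (c : H)⁻¹) * c := by rw [e']
          _ = (c' : H)⁻¹ * c * x₀ := by group
      have hc : (c' : H)⁻¹ * c ∈ Cz d := mul_mem (inv_mem c'.2) c.2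
      by_contra hne
      have hne1 : (c' : H)⁻¹ * c ≠ 1 := fun h =>
        hne (Subtype.ext (inv_mul_eq_one.1 h).symm)
      rw [hCeq d hd _ hc hne1] at hmem
      have := hdis d hd 1 x₀ hx₀S hx₀1
      simp only [one_mul, inv_one, mul_one] at this
      exact this hmem
    have hcs := Nat.card_le_card_of_injective f hfinj
    haveI : Fintype S := Fintype.ofFinite _
    rw [Nat.card_eq_fintype_card (α := {s : S // s ≠ 1}), Fintype.card_subtype_compl] at hcs
    simp only [Fintype.card_subtype_eq] at hcs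
    rw [Nat.card_eq_fintype_card (α := S)] at hsc hS2
    omega

/-- In characteristic two every non-trivial upper unitriangular element of such a subgroup is `d₀₀² α` for an
upper triangular element `d` of it. -/
theorem exists_borel (h2 : (2 : F) = 0) (H : Subgroup SL(2, F)) [Finite H] {α : F} (hα : α ≠ 0)
    (hx : ux α ∈ H) {g₀ : SL(2, F)} (hg₀ : g₀ ∈ H) (hg₀' : g₀ 1 0 ≠ 0) {s : F} (hs : ux s ∈ H) (hs0 : s ≠ 0) :
    ∃ d ∈ H, d 1 0 = 0 ∧ d 0 0 * d 0 0 * α = s := by
  classical
  haveI := Fintype.ofFinite H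
  let N : Subgroup H :=
    { carrier := {g | (g : SL(2, F)) 1 0 = 0}
      mul_mem' := fun {g h} hg hh => by
        simp only [Set.mem_setOf_eq] at hg hh ⊢
        rw [Subgroup.coe_mul, mul_apply2, hg, hh]; ring
      one_mem' := one_apply2.2.2.1
      inv_mem' := fun {g} hg => by
        simp only [Set.mem_setOf_eq] at hg ⊢
        simp [adjugate_fin_two, hg] }
  have hN : ∀ g : H, g ∈ N ↔ (g : SL(2, F)) 1 0 = 0 := fun g => Iff.rfl
  let S₀ : Type _ := {a : F // ux a ∈ H ∧ a ≠ 0}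
  have hneg : ∀ a : F, -a = a := fun a => by linear_combination -a * h2
  -- conjugates of non-trivial upper unitriangular elements, outside `N`
  let one : H ⧸ N := QuotientGroup.mk 1
  let u : {c : H ⧸ N // c ≠ one} × S₀ → H := fun p => p.1.1.out * ⟨ux p.2.1, p.2.2.1⟩ * p.1.1.out⁻¹
  have hu2 : ∀ p, u p * u p = 1 := by
    intro p
    have e : (⟨ux p.2.1, p.2.2.1⟩ : H) * ⟨ux p.2.1, p.2.2.1⟩ = 1 :=
      Subtype.ext (by
        show ux p.2.1 * ux p.2.1 = 1
        rw [ux_add, show p.2.1 + p.2.1 = 0 by linear_combination p.2.1 * h2, ux_zero])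
    simp only [u]
    calc _ = p.1.1.out * ((⟨ux p.2.1, p.2.2.1⟩ : H) * ⟨ux p.2.1, p.2.2.1⟩) * p.1.1.out⁻¹ := by group
      _ = 1 := by rw [e]; group
  have huinj : Function.Injective u := by
    rintro ⟨⟨c, hc⟩, a, ha, ha0⟩ ⟨⟨c', hc'⟩, b, hb, hb0⟩ e
    simp only [u] at e
    have hcc : c' = c := by
      refine out_eq_of_mem N ((hN _).2 ?_)
      have e' : (c'.out⁻¹ * c.out) * ⟨ux a, ha⟩ = (⟨ux b, hb⟩ : H) * (c'.out⁻¹ * c.out) := by
        calc _ = c'.out⁻¹ * (c.out * ⟨ux a, ha⟩ * c.out⁻¹) * c.out := by group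
          _ = c'.out⁻¹ * (c'.out * ⟨ux b, hb⟩ * c'.out⁻¹) * c.out := by rw [e]
          _ = _ := by group
      generalize c'.out⁻¹ * c.out = g at e' ⊢
      have e00 := congrArg (fun C : H => (C : SL(2, F)) 0 0) e'
      simp [mul_apply2] at e00
      exact e00.resolve_left hb0
    subst hcc
    have := ux_injective (congrArg Subtype.val (mul_left_cancel (mul_right_cancel e)))
    subst this
    rfl
  have huN : ∀ p, u p ∉ N := by
    rintro ⟨⟨c, hc⟩, a, ha, ha0⟩ hmem
    apply hc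
    have h10 : (u ⟨⟨c, hc⟩, a, ha, ha0⟩ : SL(2, F)) 1 0 = 0 := hmem
    simp only [u, Subgroup.coe_mul, Subgroup.coe_inv] at h10
    refine out_eq_of_mem N ?_
    have hone : (one.out : H) ∈ N := by
      have := QuotientGroup.mk_out_eq_mul N (1 : H)
      obtain ⟨k, hk⟩ := this
      simp only [one]
      rw [hk, one_mul]; exact k.2
    refine N.mul_mem (N.inv_mem ((hN _).2 ?_)) hone
    simp [mul_apply2, adjugate_fin_two] at h10
    exact pow_eq_zero_iff (n := 2) two_ne_zero |>.1
      ((mul_eq_zero.1 (show a * ((c.out : SL(2, F)) 1 0) ^ 2 = 0 by linear_combination -h10)).resolve_left ha0)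
  -- a coset with many of these involutions
  let q : {c : H ⧸ N // c ≠ one} × S₀ → {c : H ⧸ N // c ≠ one} := fun p =>
    ⟨QuotientGroup.mk (u p), fun h => huN p (by
      have := QuotientGroup.eq.1 h
      simpa using this)⟩
  have hne : (Finset.univ : Finset {c : H ⧸ N // c ≠ one}).Nonempty := by
    refine ⟨⟨QuotientGroup.mk ⟨g₀, hg₀⟩, fun h => hg₀' ?_⟩, Finset.mem_univ _⟩
    have := QuotientGroup.eq.1 h
    rw [mul_one] at this
    exact (hN ⟨g₀, hg₀⟩).1 (inv_mem_iff.1 this)
  haveI : Finite S₀ := Finite.of_injective (fun a : S₀ => (⟨ux a.1, a.2.1⟩ : H))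
    fun a b e => Subtype.ext (ux_injective (congrArg Subtype.val e))
  haveI : Fintype S₀ := Fintype.ofFinite _
  obtain ⟨c, -, hc⟩ := Finset.exists_le_card_fiber_of_mul_le_card_of_maps_to (s := Finset.univ) (f := q)
    (n := Fintype.card S₀) (fun p _ => Finset.mem_univ _) hne (by simp [Finset.card_univ, Fintype.card_prod])
  obtain ⟨p₀, hp₀⟩ : ((Finset.univ : Finset _).filter fun p => q p = c).Nonempty := by
    rw [← Finset.card_pos]
    have : 0 < Fintype.card S₀ := Fintype.card_pos_iff.2 ⟨⟨α, hx, hα⟩⟩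
    omega
  have hq₀ : q p₀ = c := (Finset.mem_filter.1 hp₀).2
  let D := {d : H // d ∈ N ∧ (u p₀)⁻¹ * d * u p₀ ∈ N}
  let θ : {p // q p = c} → D := fun p => ⟨(u p₀)⁻¹ * u p.1, by
    have h1 : (u p₀)⁻¹ * u p.1 ∈ N := by
      have := congrArg Subtype.val (hq₀.trans p.2.symm)
      exact QuotientGroup.eq.1 this
    refine ⟨h1, ?_⟩
    have : (u p₀)⁻¹ * ((u p₀)⁻¹ * u p.1) * u p₀ = ((u p₀)⁻¹ * u p.1)⁻¹ := by
      have k1 := inv_eq_of_mul_eq_one_right (hu2 p₀)
      have k2 := inv_eq_of_mul_eq_one_right (hu2 p.1)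
      generalize u p₀ = A, u p.1 = B at k1 k2 ⊢
      calc A⁻¹ * (A⁻¹ * B) * A = A⁻¹ * A⁻¹ * B * A := by group
        _ = A⁻¹ * A * B * A := by rw [k1]
        _ = B * A := by group
        _ = (A⁻¹ * B)⁻¹ := by rw [_root_.mul_inv_rev, inv_inv, k2]
    rw [this]; exact N.inv_mem h1⟩
  have hθ : Function.Injective θ := fun p p' e =>
    Subtype.ext (huinj (mul_left_cancel (congrArg Subtype.val e)))
  have hact : ∀ d : H, d ∈ N → ∀ a, ux a ∈ H → ux ((d : SL(2, F)) 0 0 * (d : SL(2, F)) 0 0 * a) ∈ H := by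
    intro d hd a ha
    have hd10 := (hN d).1 hd
    have hdet := det2 (d : SL(2, F))
    rw [hd10] at hdet
    have e : ux ((d : SL(2, F)) 0 0 * (d : SL(2, F)) 0 0 * a) = (d : SL(2, F)) * ux a * (d : SL(2, F))⁻¹ := by
      rw [eq_mul_inv_iff_mul_eq]
      apply ext2 <;> simp [mul_apply2, hd10]
      linear_combination ((d : SL(2, F)) 0 0 * a) * hdet
    rw [e]; exact H.mul_mem (H.mul_mem d.2 ha) (H.inv_mem d.2)
  let ρ : D → S₀ := fun d => ⟨(d.1 : SL(2, F)) 0 0 * (d.1 : SL(2, F)) 0 0 * α, hact _ d.2.1 α hx, by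
    have hd10 := (hN _).1 d.2.1
    have hdet := det2 (d.1 : SL(2, F))
    rw [hd10] at hdet
    exact mul_ne_zero (mul_self_ne_zero.2 fun h => by simp [h] at hdet) hα⟩
  have hρ : Function.Injective ρ := by
    rintro ⟨d, hd, hd'⟩ ⟨e, he, he'⟩ h
    have h' := mul_right_cancel₀ hα (congrArg Subtype.val h)
    simp only at h'
    have h00 : (d : SL(2, F)) 0 0 = (e : SL(2, F)) 0 0 := by
      have : ((d : SL(2, F)) 0 0 - (e : SL(2, F)) 0 0) ^ 2 = 0 := by
        linear_combination h' + ((e : SL(2, F)) 0 0 * (e : SL(2, F)) 0 0 -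
          (d : SL(2, F)) 0 0 * (e : SL(2, F)) 0 0) * h2
      exact sub_eq_zero.1 (eq_zero_of_pow_eq_zero this)
    have hk : d⁻¹ * e ∈ N := N.mul_mem (N.inv_mem hd) he
    have hk' : (u p₀)⁻¹ * (d⁻¹ * e) * u p₀ ∈ N := by
      have : (u p₀)⁻¹ * (d⁻¹ * e) * u p₀ = ((u p₀)⁻¹ * d * u p₀)⁻¹ * ((u p₀)⁻¹ * e * u p₀) := by group
      rw [this]; exact N.mul_mem (N.inv_mem hd') he'
    have hd10 := (hN d).1 hd
    have he10 := (hN e).1 he
    have hdd := det2 (d : SL(2, F))
    have hee := det2 (e : SL(2, F))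
    rw [hd10] at hdd
    rw [he10] at hee
    set k : SL(2, F) := ((d⁻¹ * e : H) : SL(2, F)) with hkdef
    have k00 : k 0 0 = 1 := by
      simp [hkdef, mul_apply2, adjugate_fin_two, he10]
      linear_combination hdd - (d : SL(2, F)) 1 1 * h00
    have k10 : k 1 0 = 0 := (hN _).1 hk
    have k11 : k 1 1 = 1 := by
      have := det2 k; rw [k00, k10] at this; linear_combination this
    have h10 := (hN _).1 hk'
    have hu10 : (u p₀ : SL(2, F)) 1 0 ≠ 0 := fun h => huN p₀ ((hN _).2 h)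
    simp only [Subgroup.coe_mul, Subgroup.coe_inv] at h10 hkdef
    rw [← hkdef] at h10
    simp [mul_apply2, adjugate_fin_two, k00, k10, k11] at h10
    have k01 : k 0 1 = 0 := (mul_eq_zero.1 (show k 0 1 * ((u p₀ : SL(2, F)) 1 0) ^ 2 = 0 by
      linear_combination -h10)).resolve_right (pow_ne_zero 2 hu10)
    have : d⁻¹ * e = 1 := Subtype.ext (by
      show k = 1
      exact ext2 (by rw [k00, one_apply2.1]) (by rw [k01, one_apply2.2.1]) (by rw [k10, one_apply2.2.2.1])
        (by rw [k11, one_apply2.2.2.2]))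
    obtain rfl : d = e := inv_mul_eq_one.1 this
    rfl
  have hcard : Fintype.card S₀ ≤ Fintype.card {p // q p = c} := by
    refine le_of_le_of_eq hc ?_
    rw [Fintype.card_subtype]
  have hbij : Function.Bijective (ρ ∘ θ) :=
    (Fintype.bijective_iff_injective_and_card _).2
      ⟨hρ.comp hθ, le_antisymm (Fintype.card_le_of_injective _ (hρ.comp hθ)) hcard⟩
  obtain ⟨p, hp⟩ := hbij.2 ⟨s, hs, hs0⟩
  exact ⟨((θ p).1 : SL(2, F)), (θ p).1.2, (hN _).1 (θ p).2.1, congrArg Subtype.val hp⟩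

/-- In characteristic two the upper unitriangular part `S` of such a subgroup satisfies `S * S ⊆ α * S` for
every non-zero `α` in it. -/
theorem char_two_closed (h2 : (2 : F) = 0) (H : Subgroup SL(2, F)) [Finite H] {α : F} (hα : α ≠ 0)
    (hx : ux α ∈ H) {g₀ : SL(2, F)} (hg₀ : g₀ ∈ H) (hg₀' : g₀ 1 0 ≠ 0) {s s' : F} (hs : ux s ∈ H)
    (hs' : ux s' ∈ H) : ux (s * s' / α) ∈ H := by
  rcases eq_or_ne s 0 with rfl | hs0
  · simp [ux_zero]
  obtain ⟨d, hd, hd10, hd'⟩ := exists_borel h2 H hα hx hg₀ hg₀' hs hs0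
  have hdet := det2 d
  rw [hd10] at hdet
  have e : ux (d 0 0 * d 0 0 * s') = d * ux s' * d⁻¹ := by
    rw [eq_mul_inv_iff_mul_eq]
    apply ext2 <;> simp [mul_apply2, hd10]
    linear_combination (d 0 0 * s') * hdet
  have h := H.mul_mem (H.mul_mem hd hs') (H.inv_mem hd)
  rw [← e] at h
  rwa [show s * s' / α = d 0 0 * d 0 0 * s' by rw [← hd']; field_simp]

end Cfsg.Agent.MaxCl.SLTwo
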