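/-
For `n ≥ 3` the subfield group over a subfield of prime index is maximal in the special linear group.

A transvection with irrational matrix in an overgroup `M` gives, by commutators with rational transvections, an
irrational multiple of a rational transvection unless both its centre and its axis are in general position; in
that case the subgroup of `M` inducing the identity modulo the plane of this centre and a rational point is
compared with its image in `SL(2, F)` (`SLTwoSub`).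
-/
import Mathlib
import Cfsg.Prelude.Def_GeometricClasses
import Cfsg.Agent.Lib.MaxCl.Transvection
import Cfsg.Agent.Lib.MaxCl.SympSubfield
import Cfsg.Agent.Lib.MaxCl.SLTwoSub
import Cfsg.Agent.Lib.GL.Basic

set_option autoImplicit false

namespace Cfsg.Agent.MaxCl.LinSubfield

open Matrix
open scoped MatrixGroups

variable {ι : Type} [Fintype ι] [DecidableEq ι] {F : Type*} [Field F]

/-- the functional of a vector -/
def dotL (w : ι → F) : (ι → F) →ₗ[F] F where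
  toFun x := w ⬝ᵥ x
  map_add' := dotProduct_add w
  map_smul' c x := dotProduct_smul c w x

@[simp] theorem dotL_apply (w x : ι → F) : dotL w x = w ⬝ᵥ x := rfl

theorem exists_dotL (φ : (ι → F) →ₗ[F] F) : ∃ w, dotL w = φ :=
  ⟨fun i => φ (Pi.single i 1), (Pi.basisFun F ι).ext fun i => by simp⟩

/-- the transvection `x ↦ x + (w ⬝ᵥ x) • v` -/
noncomputable def T (w v : ι → F) : GL ι F := tv (dotL w) v

theorem act_T {w v : ι → F} (h : w ⬝ᵥ v = 0) (x : ι → F) : act (T w v) x = x + (w ⬝ᵥ x) • v :=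
  act_tv (φ := dotL w) h x

theorem T_mem_sl (w v : ι → F) (h : w ⬝ᵥ v = 0) : T w v ∈ Cfsg.Geo.specialLinear ι F := by
  refine MonoidHom.mem_ker.2 (Units.ext ?_)
  rw [GeneralLinearGroup.val_det_apply, det_eq_of_fix_hyperplane (φ := dotL w) (v := v) (act_T h)]
  simp [h]

theorem T_add_right {w v v' : ι → F} (h : w ⬝ᵥ v = 0) (h' : w ⬝ᵥ v' = 0) :
    T w v * T w v' = T w (v + v') := by
  apply gl_ext; intro x
  have h'' : w ⬝ᵥ (v + v') = 0 := by rw [dotProduct_add, h, h', add_zero]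
  rw [act_mul, act_T h, act_T h', act_T h'', dotProduct_add, dotProduct_smul, h']
  simp; module

theorem T_add_left {w w' v : ι → F} (h : w ⬝ᵥ v = 0) (h' : w' ⬝ᵥ v = 0) :
    T w v * T w' v = T (w + w') v := by
  apply gl_ext; intro x
  have h'' : (w + w') ⬝ᵥ v = 0 := by rw [add_dotProduct, h, h', add_zero]
  rw [act_mul, act_T h, act_T h', act_T h'', dotProduct_add, dotProduct_smul, h, add_dotProduct]
  simp; module

theorem T_zero (w : ι → F) : T w 0 = 1 := by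
  apply gl_ext; intro x
  rw [act_T (dotProduct_zero w), act_one]; simp

theorem T_inv {w v : ι → F} (h : w ⬝ᵥ v = 0) : (T w v)⁻¹ = T w (-v) :=
  (eq_inv_of_mul_eq_one_left (by
    rw [T_add_right (by rw [dotProduct_neg, h, neg_zero]) h, neg_add_cancel, T_zero])).symm

theorem T_smul {w v : ι → F} (c : F) (h : w ⬝ᵥ v = 0) : T (c • w) v = T w (c • v) := by
  apply gl_ext; intro x
  rw [act_T (by rw [smul_dotProduct, h, smul_zero]), act_T (by rw [dotProduct_smul, h, smul_zero]),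
    smul_dotProduct, smul_smul, smul_eq_mul, mul_comm]

/-- conjugation when the centre of the first lies in the axis of the second -/
theorem conj_T_right {φ v χ w : ι → F} (h : φ ⬝ᵥ v = 0) (h' : χ ⬝ᵥ w = 0) (h'' : χ ⬝ᵥ v = 0) :
    T φ v * T χ w * (T φ v)⁻¹ = T χ (w + (φ ⬝ᵥ w) • v) := by
  rw [mul_inv_eq_iff_eq_mul]
  apply gl_ext; intro x
  have h3 : χ ⬝ᵥ (w + (φ ⬝ᵥ w) • v) = 0 := by rw [dotProduct_add, dotProduct_smul, h', h'']; simp
  rw [act_mul, act_mul, act_T h, act_T h', act_T h3, act_T h]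
  simp only [dotProduct_add, dotProduct_smul, h'', smul_eq_mul]
  module

/-- conjugation when the centre of the second lies in the axis of the first -/
theorem conj_T_left {φ v χ w : ι → F} (h : φ ⬝ᵥ v = 0) (h' : χ ⬝ᵥ w = 0) (h'' : φ ⬝ᵥ w = 0) :
    T φ v * T χ w * (T φ v)⁻¹ = T (χ - (χ ⬝ᵥ v) • φ) w := by
  rw [mul_inv_eq_iff_eq_mul]
  apply gl_ext; intro x
  have h3 : (χ - (χ ⬝ᵥ v) • φ) ⬝ᵥ w = 0 := by rw [sub_dotProduct, smul_dotProduct, h', h'']; simp
  rw [act_mul, act_mul, act_T h, act_T h', act_T h3, act_T h]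
  simp only [dotProduct_add, dotProduct_smul, sub_dotProduct, smul_dotProduct, h, h'', smul_eq_mul]
  module

theorem comm_mem_right {M : Subgroup (GL ι F)} {φ v χ w : ι → F} (h : φ ⬝ᵥ v = 0) (h' : χ ⬝ᵥ w = 0)
    (h'' : χ ⬝ᵥ v = 0) (m : T φ v ∈ M) (m' : T χ w ∈ M) : T χ ((φ ⬝ᵥ w) • v) ∈ M := by
  have := M.mul_mem (M.mul_mem m m') (M.inv_mem m)
  rw [conj_T_right h h' h'', ← T_add_right h' (by rw [dotProduct_smul, h'', smul_zero])] at this
  exact (M.mul_mem_cancel_left m').1 this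

theorem comm_mem_left {M : Subgroup (GL ι F)} {φ v χ w : ι → F} (h : φ ⬝ᵥ v = 0) (h' : χ ⬝ᵥ w = 0)
    (h'' : φ ⬝ᵥ w = 0) (m : T φ v ∈ M) (m' : T χ w ∈ M) : T ((χ ⬝ᵥ v) • φ) w ∈ M := by
  have := M.mul_mem (M.mul_mem m m') (M.inv_mem m)
  rw [conj_T_left h h' h'', sub_eq_add_neg, ← T_add_left h' (by rw [neg_dotProduct, smul_dotProduct, h'',
    smul_zero, neg_zero])] at this
  have := M.inv_mem ((M.mul_mem_cancel_left m').1 this)
  have h4 : ((χ ⬝ᵥ v) • φ) ⬝ᵥ w = 0 := by rw [smul_dotProduct, h'', smul_zero]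
  rwa [T_inv (by rw [neg_dotProduct, h4, neg_zero]), ← neg_one_smul F w,
    ← T_smul _ (by rw [neg_dotProduct, h4, neg_zero]), neg_one_smul, neg_neg] at this

/-- vectors with entries in the subfield -/
def RV (F₀ : Subfield F) (x : ι → F) : Prop := ∀ i, x i ∈ F₀

variable {F₀ : Subfield F}

theorem RV.single (F₀ : Subfield F) (i : ι) : RV F₀ (Pi.single i 1 : ι → F) := fun j => by
  by_cases h : j = i <;> simp [h, F₀.one_mem, F₀.zero_mem]

theorem RV.add {x y : ι → F} (hx : RV F₀ x) (hy : RV F₀ y) : RV F₀ (x + y) :=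
  fun i => F₀.add_mem (hx i) (hy i)

theorem RV.sub {x y : ι → F} (hx : RV F₀ x) (hy : RV F₀ y) : RV F₀ (x - y) :=
  fun i => F₀.sub_mem (hx i) (hy i)

theorem RV.smul {c : F} (hc : c ∈ F₀) {x : ι → F} (hx : RV F₀ x) : RV F₀ (c • x) :=
  fun i => F₀.mul_mem hc (hx i)

theorem RV.neg {x : ι → F} (hx : RV F₀ x) : RV F₀ (-x) := fun i => F₀.neg_mem (hx i)

theorem RV.zero (F₀ : Subfield F) : RV F₀ (0 : ι → F) := fun _ => F₀.zero_mem

theorem RV.dot {x y : ι → F} (hx : RV F₀ x) (hy : RV F₀ y) : x ⬝ᵥ y ∈ F₀ :=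
  F₀.sum_mem fun i _ => F₀.mul_mem (hx i) (hy i)

theorem exists_dual_one {v : ι → F} (hv : RV F₀ v) (h0 : v ≠ 0) : ∃ w, RV F₀ w ∧ w ⬝ᵥ v = 1 := by
  obtain ⟨i, hi⟩ := Function.ne_iff.1 h0
  exact ⟨(v i)⁻¹ • Pi.single i 1, (RV.single F₀ i).smul (F₀.inv_mem (hv i)), by
    simp [smul_dotProduct, inv_mul_cancel₀ hi]⟩

theorem exists_dual_two {v u : ι → F} (hv : RV F₀ v) (hu : RV F₀ u) (h : ∀ c ∈ F₀, v ≠ c • u) :
    ∃ w, RV F₀ w ∧ w ⬝ᵥ v = 1 ∧ w ⬝ᵥ u = 0 := by
  by_cases hu0 : u = 0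
  · obtain ⟨w, hw, h1⟩ := exists_dual_one hv (fun h0 => h 0 F₀.zero_mem (by simp [h0]))
    exact ⟨w, hw, h1, by simp [hu0]⟩
  obtain ⟨η, hη, hη1⟩ := exists_dual_one hu hu0
  have h' : v - (η ⬝ᵥ v) • u ≠ 0 := fun h0 => h _ (hη.dot hv) (sub_eq_zero.1 h0)
  obtain ⟨j, hj⟩ := Function.ne_iff.1 h'
  simp only [Pi.sub_apply, Pi.smul_apply, smul_eq_mul, Pi.zero_apply] at hj
  refine ⟨(v j - η ⬝ᵥ v * u j)⁻¹ • (Pi.single j 1 - u j • η),
    ((RV.single F₀ j).sub (hη.smul (hu j))).smul (F₀.inv_mem (F₀.sub_mem (hv j) (F₀.mul_mem (hη.dot hv) (hu j)))),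
    ?_, ?_⟩
  · rw [smul_dotProduct, sub_dotProduct, smul_dotProduct]
    simp only [single_dotProduct, one_mul, smul_eq_mul]
    rw [mul_comm (u j)]
    exact inv_mul_cancel₀ hj
  · simp [smul_dotProduct, sub_dotProduct, hη1]

theorem exists_perp_two (h3 : 3 ≤ Fintype.card ι) {u v : ι → F} (hu : RV F₀ u) (hv : RV F₀ v) :
    ∃ x, RV F₀ x ∧ x ≠ 0 ∧ u ⬝ᵥ x = 0 ∧ v ⬝ᵥ x = 0 := by
  let A : Matrix (Fin 2) ι F₀ := Matrix.of ![fun i => ⟨u i, hu i⟩, fun i => ⟨v i, hv i⟩]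
  have hker : LinearMap.ker A.mulVecLin ≠ ⊥ := LinearMap.ker_ne_bot_of_finrank_lt (by
    simp only [Module.finrank_pi, Fintype.card_fin]; omega)
  obtain ⟨x, hx, hx0⟩ := Submodule.exists_mem_ne_zero_of_ne_bot hker
  refine ⟨fun i => (x i : F), fun i => (x i).2, fun h => hx0 (funext fun i => Subtype.ext (congrFun h i)),
    ?_, ?_⟩
  · have := congrArg Subtype.val (congrFun (LinearMap.mem_ker.1 hx) 0)
    simpa [A, dotProduct, Matrix.mulVec] using this
  · have := congrArg Subtype.val (congrFun (LinearMap.mem_ker.1 hx) 1)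
    simpa [A, dotProduct, Matrix.mulVec] using this

variable {M : Subgroup (GL ι F)}

/-- an irrational multiple of a rational transvection in `M` -/
def Seed (F₀ : Subfield F) (M : Subgroup (GL ι F)) : Prop :=
  ∃ (χ b : ι → F) (c : F), RV F₀ χ ∧ RV F₀ b ∧ χ ≠ 0 ∧ b ≠ 0 ∧ χ ⬝ᵥ b = 0 ∧ c ∉ F₀ ∧ T χ (c • b) ∈ M

theorem seed_of_centre (h3 : 3 ≤ Fintype.card ι)
    (hM : ∀ w v : ι → F, RV F₀ w → RV F₀ v → w ⬝ᵥ v = 0 → T w v ∈ M) {ψ b : ι → F} (hb : RV F₀ b)
    (hb0 : b ≠ 0) (hψb : ψ ⬝ᵥ b = 0) (hψ : ¬ RV F₀ ψ) (hT : T ψ b ∈ M) : Seed F₀ M := by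
  obtain ⟨i, hi⟩ : ∃ i, ψ i ∉ F₀ := by simpa [RV] using hψ
  obtain ⟨χ, hχ, hχ0, hχb, hχi⟩ := exists_perp_two h3 hb (RV.single F₀ i)
  rw [dotProduct_comm] at hχb hχi
  have := comm_mem_left hχi hψb hχb (hM χ _ hχ (RV.single F₀ i) hχi) hT
  rw [show ψ ⬝ᵥ Pi.single i 1 = ψ i by simp, T_smul _ hχb] at this
  exact ⟨χ, b, ψ i, hχ, hb, hχ0, hb0, hχb, hi, this⟩

theorem seed_of_axis (h3 : 3 ≤ Fintype.card ι)
    (hM : ∀ w v : ι → F, RV F₀ w → RV F₀ v → w ⬝ᵥ v = 0 → T w v ∈ M) {χ a : ι → F} (hχ : RV F₀ χ)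
    (hχ0 : χ ≠ 0) (hχa : χ ⬝ᵥ a = 0) (ha : ¬ RV F₀ a) (hT : T χ a ∈ M) : Seed F₀ M := by
  obtain ⟨i, hi⟩ : ∃ i, a i ∉ F₀ := by simpa [RV] using ha
  obtain ⟨w, hw, hw0, hχw, hwi⟩ := exists_perp_two h3 hχ (RV.single F₀ i)
  have := comm_mem_right hwi hχa hχw (hM _ w (RV.single F₀ i) hw hwi) hT
  rw [show Pi.single i 1 ⬝ᵥ a = a i by simp] at this
  exact ⟨χ, w, a i, hχ, hw, hχ0, hw0, hχw, hi, this⟩

section Generic

/-- the elements of `M` trivial modulo the plane of `b, a` and of determinant one on it -/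
noncomputable def planeGroup (M : Subgroup (GL ι F)) (b a β α : ι → F) (hβb : β ⬝ᵥ b = 1) (hβa : β ⬝ᵥ a = 0)
    (hαb : α ⬝ᵥ b = 0) (hαa : α ⬝ᵥ a = 1) : Subgroup (GL ι F) where
  carrier := {g | g ∈ M ∧ (∀ v, act g v - v = (β ⬝ᵥ (act g v - v)) • b + (α ⬝ᵥ (act g v - v)) • a) ∧
    (β ⬝ᵥ act g b) * (α ⬝ᵥ act g a) - (β ⬝ᵥ act g a) * (α ⬝ᵥ act g b) = 1}
  one_mem' := ⟨M.one_mem, fun v => by simp [act_one], by simp [act_one, hβb, hβa, hαb, hαa]⟩
  mul_mem' := by
    rintro g h ⟨hgM, hg, hgd⟩ ⟨hhM, hh, hhd⟩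
    refine ⟨M.mul_mem hgM hhM, fun v => ?_, ?_⟩
    · have e : act (g * h) v - v = (act g (act h v) - act h v) + (act h v - v) := by rw [act_mul]; abel
      rw [e, hg (act h v), hh v]
      simp only [dotProduct_add, dotProduct_smul, hβb, hβa, hαb, hαa, smul_eq_mul, mul_one, mul_zero,
        add_zero, zero_add]
      module
    · have hb' : act h b = (β ⬝ᵥ act h b) • b + (α ⬝ᵥ act h b) • a := by
        have := hh b
        simp only [dotProduct_sub, hβb, hαb, sub_zero] at this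
        linear_combination (norm := module) this
      have ha' : act h a = (β ⬝ᵥ act h a) • b + (α ⬝ᵥ act h a) • a := by
        have := hh a
        simp only [dotProduct_sub, hβa, hαa, sub_zero] at this
        linear_combination (norm := module) this
      rw [act_mul, act_mul, hb', ha']
      simp only [map_add, map_smul, dotProduct_add, dotProduct_smul, smul_eq_mul]
      linear_combination ((β ⬝ᵥ act h b) * (α ⬝ᵥ act h a) - (β ⬝ᵥ act h a) * (α ⬝ᵥ act h b)) * hgd + hhd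
  inv_mem' := by
    rintro g ⟨hgM, hg, hgd⟩
    have hP : ∀ v, act g⁻¹ v - v =
        (β ⬝ᵥ (act g⁻¹ v - v)) • b + (α ⬝ᵥ (act g⁻¹ v - v)) • a := by
      intro v
      have := hg (act g⁻¹ v)
      rw [act_act_inv, dotProduct_sub, dotProduct_sub] at this
      rw [dotProduct_sub, dotProduct_sub]
      linear_combination (norm := module) -this
    refine ⟨M.inv_mem hgM, hP, ?_⟩
    have hb' : act g⁻¹ b = (β ⬝ᵥ act g⁻¹ b) • b + (α ⬝ᵥ act g⁻¹ b) • a := by
      have := hP b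
      simp only [dotProduct_sub, hβb, hαb, sub_zero] at this
      linear_combination (norm := module) this
    have ha' : act g⁻¹ a = (β ⬝ᵥ act g⁻¹ a) • b + (α ⬝ᵥ act g⁻¹ a) • a := by
      have := hP a
      simp only [dotProduct_sub, hβa, hαa, sub_zero] at this
      linear_combination (norm := module) this
    have e1 := congrArg (act g) hb'
    have e2 := congrArg (act g) ha'
    simp only [act_act_inv, map_add, map_smul] at e1 e2
    have k1 := congrArg (β ⬝ᵥ ·) e1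
    have k2 := congrArg (α ⬝ᵥ ·) e1
    have k3 := congrArg (β ⬝ᵥ ·) e2
    have k4 := congrArg (α ⬝ᵥ ·) e2
    simp only [dotProduct_add, dotProduct_smul, smul_eq_mul, hβb, hβa, hαb, hαa] at k1 k2 k3 k4
    calc (β ⬝ᵥ act g⁻¹ b) * (α ⬝ᵥ act g⁻¹ a) - (β ⬝ᵥ act g⁻¹ a) * (α ⬝ᵥ act g⁻¹ b)
        = ((β ⬝ᵥ act g⁻¹ b) * (α ⬝ᵥ act g⁻¹ a) - (β ⬝ᵥ act g⁻¹ a) * (α ⬝ᵥ act g⁻¹ b)) *
          ((β ⬝ᵥ act g b) * (α ⬝ᵥ act g a) - (β ⬝ᵥ act g a) * (α ⬝ᵥ act g b)) := by rw [hgd, mul_one]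
      _ = 1 := by
          linear_combination -((β ⬝ᵥ act g⁻¹ a) * (α ⬝ᵥ act g b) + (α ⬝ᵥ act g⁻¹ a) * (α ⬝ᵥ act g a)) * k1 -
            k4 + ((β ⬝ᵥ act g⁻¹ a) * (β ⬝ᵥ act g b) + (α ⬝ᵥ act g⁻¹ a) * (β ⬝ᵥ act g a)) * k2

variable {b a β α : ι → F} {hβb : β ⬝ᵥ b = 1} {hβa : β ⬝ᵥ a = 0} {hαb : α ⬝ᵥ b = 0} {hαa : α ⬝ᵥ a = 1}

theorem plane_eq {g : GL ι F} (hg : g ∈ planeGroup M b a β α hβb hβa hαb hαa) :
    act g b = (β ⬝ᵥ act g b) • b + (α ⬝ᵥ act g b) • a ∧
      act g a = (β ⬝ᵥ act g a) • b + (α ⬝ᵥ act g a) • a := by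
  constructor
  · have := hg.2.1 b
    simp only [dotProduct_sub, hβb, hαb, sub_zero] at this
    linear_combination (norm := module) this
  · have := hg.2.1 a
    simp only [dotProduct_sub, hβa, hαa, sub_zero] at this
    linear_combination (norm := module) this

/-- the action on the plane -/
noncomputable def planeHom : planeGroup M b a β α hβb hβa hαb hαa →* SL(2, F) where
  toFun g := ⟨!![β ⬝ᵥ act g.1 b, β ⬝ᵥ act g.1 a; α ⬝ᵥ act g.1 b, α ⬝ᵥ act g.1 a], by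
    rw [det_fin_two_of]; exact g.2.2.2⟩
  map_one' := SLTwo.ext2 (by simp [act_one, hβb]) (by simp [act_one, hβa]) (by simp [act_one, hαb])
    (by simp [act_one, hαa])
  map_mul' g h := by
    obtain ⟨h1, h2⟩ := plane_eq h.2
    refine Subtype.ext ?_
    show (!![_, _; _, _] : Matrix (Fin 2) (Fin 2) F) = !![_, _; _, _] * !![_, _; _, _]
    rw [Matrix.mul_fin_two, Subgroup.coe_mul, act_mul, act_mul]
    conv_lhs => rw [h1, h2]
    simp only [map_add, map_smul, dotProduct_add, dotProduct_smul, smul_eq_mul]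
    ext i j
    fin_cases i <;> fin_cases j <;> simp <;> ring

@[simp] theorem planeHom_val (g : planeGroup M b a β α hβb hβa hαb hαa) :
    (planeHom g : Matrix (Fin 2) (Fin 2) F) =
      !![β ⬝ᵥ act g.1 b, β ⬝ᵥ act g.1 a; α ⬝ᵥ act g.1 b, α ⬝ᵥ act g.1 a] := rfl

end Generic

/-- the case of a centre and an axis in general position -/
theorem seed_of_generic [Finite F] (h3 : 3 ≤ Fintype.card ι) {r : ℕ} (hr : r.Prime)
    (hcard : Nat.card F = Nat.card F₀ ^ r)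
    (hM : ∀ w v : ι → F, RV F₀ w → RV F₀ v → w ⬝ᵥ v = 0 → T w v ∈ M) {φ a : ι → F}
    (hφa : φ ⬝ᵥ a = 0) (hT : T φ a ∈ M)
    (hφ : ∀ b, RV F₀ b → b ≠ 0 → φ ⬝ᵥ b ≠ 0) (ha : ∀ χ, RV F₀ χ → χ ≠ 0 → χ ⬝ᵥ a ≠ 0) :
    Seed F₀ M := by
  classical
  haveI : Nonempty ι := Fintype.card_pos_iff.1 (by omega)
  obtain ⟨i₀⟩ := ‹Nonempty ι›
  obtain ⟨b, hbdef⟩ : ∃ b, b = (Pi.single i₀ 1 : ι → F) := ⟨_, rfl⟩
  have hb : RV F₀ b := hbdef ▸ RV.single F₀ i₀
  have hb0 : b ≠ 0 := by rw [hbdef]; simp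
  have hφb := hφ b hb hb0
  have ha0 : a ≠ 0 := fun h => ha _ (RV.single F₀ i₀) (by simp) (by simp [h])
  have hab : b ∉ Submodule.span F {a} := by
    intro h
    obtain ⟨c, hc⟩ := Submodule.mem_span_singleton.1 h
    exact hφb (by rw [← hc, dotProduct_smul, hφa, smul_zero])
  have hba : a ∉ Submodule.span F {b} := by
    intro h
    obtain ⟨c, hc⟩ := Submodule.mem_span_singleton.1 h
    rcases eq_or_ne c 0 with rfl | hc0
    · exact ha0 (by rw [← hc, zero_smul])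
    · apply hφb
      have := hφa
      rw [← hc, dotProduct_smul, smul_eq_mul] at this
      exact (mul_eq_zero.1 this).resolve_left hc0
  obtain ⟨β', h1, h2⟩ := exists_dual _ hab
  obtain ⟨α', h3', h4⟩ := exists_dual _ hba
  obtain ⟨β, rfl⟩ := exists_dotL β'
  obtain ⟨α, rfl⟩ := exists_dotL α'
  have hβb : β ⬝ᵥ b = 1 := h2
  have hβa : β ⬝ᵥ a = 0 := h1 a (Submodule.mem_span_singleton_self a)
  have hαb : α ⬝ᵥ b = 0 := h3' b (Submodule.mem_span_singleton_self b)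
  have hαa : α ⬝ᵥ a = 1 := h4
  set K := planeGroup M b a β α hβb hβa hαb hαa with hK
  have hxK : ∀ ψ : ι → F, ψ ⬝ᵥ b = 0 → T ψ b ∈ M → T ψ b ∈ K := fun ψ h hm =>
    ⟨hm, fun v => by simp [act_T h, dotProduct_smul, hβb, hαb], by
      simp [act_T h, h, dotProduct_smul, hβb, hβa, hαb, hαa, dotProduct_add]⟩
  have htK : T φ a ∈ K :=
    ⟨hT, fun v => by simp [act_T hφa, dotProduct_smul, hβa, hαa], by
      simp [act_T hφa, hφa, dotProduct_smul, hβb, hβa, hαb, hαa, dotProduct_add]⟩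
  let ρ : K →* SL(2, F) := planeHom
  have hρ : ∀ k : K, (ρ k : Matrix (Fin 2) (Fin 2) F) =
      !![β ⬝ᵥ act k.1 b, β ⬝ᵥ act k.1 a; α ⬝ᵥ act k.1 b, α ⬝ᵥ act k.1 a] := fun k => rfl
  have hρx : ∀ (ψ : ι → F) (h : ψ ⬝ᵥ b = 0) (hm : T ψ b ∈ M),
      ρ ⟨_, hxK ψ h hm⟩ = SLTwo.ux (ψ ⬝ᵥ a) := fun ψ h hm => by
    apply SLTwo.ext2 <;> simp [hρ, act_T h, h, dotProduct_smul, hβb, hβa, hαb, hαa, dotProduct_add]
  -- irrational functionals killing the plane
  have hirr : ∀ ψ : ι → F, ψ ≠ 0 → ψ ⬝ᵥ a = 0 → ¬ RV F₀ ψ := fun ψ h0 h hr => ha ψ hr h0 h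
  -- a rational functional vanishing at `b`
  obtain ⟨χ₁, hχ₁, hχ₁0, hχ₁b, -⟩ := exists_perp_two h3 hb hb
  rw [dotProduct_comm] at hχ₁b
  by_cases hinj : Function.Injective ρ
  swap
  · rw [injective_iff_map_eq_one] at hinj
    push Not at hinj
    obtain ⟨⟨k, hk⟩, hk1, hk2⟩ := hinj
    have e := fun i j => congrArg (fun A : SL(2, F) => A i j) hk1
    have e00 := e 0 0; have e01 := e 0 1; have e10 := e 1 0; have e11 := e 1 1
    simp [hρ] at e00 e01 e10 e11
    have kb : act k b = b := by rw [(plane_eq hk).1, e00, e10]; simp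
    have ka : act k a = a := by rw [(plane_eq hk).2, e01, e11]; simp
    obtain ⟨γ₁, hγ₁⟩ := exists_dotL ((dotL β) ∘ₗ (act k - LinearMap.id))
    obtain ⟨γ₂, hγ₂⟩ := exists_dotL ((dotL α) ∘ₗ (act k - LinearMap.id))
    have g₁ : ∀ v, β ⬝ᵥ (act k v - v) = γ₁ ⬝ᵥ v := fun v => (LinearMap.congr_fun hγ₁ v).symm
    have g₂ : ∀ v, α ⬝ᵥ (act k v - v) = γ₂ ⬝ᵥ v := fun v => (LinearMap.congr_fun hγ₂ v).symm
    have hkv : ∀ v, act k v = v + ((γ₁ ⬝ᵥ v) • b + (γ₂ ⬝ᵥ v) • a) := fun v => by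
      rw [← g₁, ← g₂, ← hk.2.1 v]; abel
    have d1 : γ₁ ⬝ᵥ b = 0 := by rw [← g₁, kb]; simp
    have d2 : γ₁ ⬝ᵥ a = 0 := by rw [← g₁, ka]; simp
    have d3 : γ₂ ⬝ᵥ b = 0 := by rw [← g₂, kb]; simp
    have d4 : γ₂ ⬝ᵥ a = 0 := by rw [← g₂, ka]; simp
    by_cases hγ : γ₂ = 0
    · have hγ1 : γ₁ ≠ 0 := by
        intro h
        apply hk2
        exact Subtype.ext (gl_ext fun v => by simp [hkv, h, hγ, act_one])
      refine seed_of_centre h3 hM hb hb0 d1 (hirr _ hγ1 d2) ?_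
      have : k = T γ₁ b := gl_ext fun v => by rw [hkv, act_T d1, hγ]; simp
      exact this ▸ hk.1
    · have hc : χ₁ ⬝ᵥ a ≠ 0 := ha _ hχ₁ hχ₁0
      refine seed_of_centre h3 hM hb hb0 (ψ := (χ₁ ⬝ᵥ a) • γ₂) (by rw [smul_dotProduct, d3, smul_zero])
        (hirr _ (smul_ne_zero hc hγ) (by rw [smul_dotProduct, d4, smul_zero])) ?_
      have hx := hM χ₁ b hχ₁ hb hχ₁b
      have := M.mul_mem (M.mul_mem hx hk.1) (M.inv_mem hx)
      have e' : T χ₁ b * k * (T χ₁ b)⁻¹ = T ((χ₁ ⬝ᵥ a) • γ₂) b * k := by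
        rw [mul_inv_eq_iff_eq_mul]
        apply gl_ext; intro v
        simp only [act_mul, act_T hχ₁b, hkv,
          act_T (show ((χ₁ ⬝ᵥ a) • γ₂) ⬝ᵥ b = 0 by rw [smul_dotProduct, d3, smul_zero])]
        simp only [dotProduct_add, dotProduct_smul, smul_dotProduct, d1, d2, d3, d4, hχ₁b, smul_eq_mul]
        module
      rw [e'] at this
      exact (M.mul_mem_cancel_right hk.1).1 this
  -- the faithful case
  let Hbar : Subgroup SL(2, F) := ρ.range
  have hx₁ : SLTwo.ux (χ₁ ⬝ᵥ a) ∈ Hbar := ⟨_, hρx χ₁ hχ₁b (hM χ₁ b hχ₁ hb hχ₁b)⟩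
  have hχ₁a : χ₁ ⬝ᵥ a ≠ 0 := ha _ hχ₁ hχ₁0
  have ht10 : (ρ ⟨_, htK⟩ : SL(2, F)) 1 0 ≠ 0 := by
    simpa [hρ, act_T hφa, dotProduct_add, dotProduct_smul, hαb, hαa] using hφb
  -- commuting with all rational transvections of centre `b`
  have hcomm : ∀ k : K, (∀ (χ : ι → F) (h : χ ⬝ᵥ b = 0) (hm : T χ b ∈ M), RV F₀ χ →
      ρ k * SLTwo.ux (χ ⬝ᵥ a) = SLTwo.ux (χ ⬝ᵥ a) * ρ k) →
      ∀ χ : ι → F, RV F₀ χ → χ ⬝ᵥ b = 0 → ∀ v,
        (χ ⬝ᵥ v) • (act k.1 b - b) = (χ ⬝ᵥ (act k.1 v - v)) • b := by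
    intro k hk χ hχ hχb v
    have hm := hM χ b hχ hb hχb
    have e : k * ⟨_, hxK χ hχb hm⟩ = ⟨_, hxK χ hχb hm⟩ * k :=
      hinj (by rw [map_mul, map_mul, hρx χ hχb hm]; exact hk χ hχb hm hχ)
    have := congrArg (fun g : K => act g.1 v) e
    simp only [Subgroup.coe_mul, act_mul, act_T hχb, map_add, map_smul] at this
    rw [dotProduct_sub]
    linear_combination (norm := module) this
  by_cases h2 : (2 : F) = 0
  · -- characteristic two
    by_contra hseed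
    let S₀ : Set F := {s | ∃ χ, RV F₀ χ ∧ χ ⬝ᵥ b = 0 ∧ χ ⬝ᵥ a = s}
    have hsub : ∀ s, SLTwo.ux s ∈ Hbar → s ∈ S₀ := by
      rintro s ⟨k, hk⟩
      have e := fun i j => congrArg (fun A : SL(2, F) => A i j) hk
      have e00 := e 0 0; have e01 := e 0 1; have e10 := e 1 0; have e11 := e 1 1
      simp [hρ] at e00 e01 e10 e11
      have kb : act k.1 b = b := by rw [(plane_eq k.2).1, e00, e10]; simp
      have ka : act k.1 a = s • b + a := by rw [(plane_eq k.2).2, e01, e11]; simp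
      have h' := hcomm k (fun χ h hm hr => by rw [hk, SLTwo.ux_add, SLTwo.ux_add, add_comm]) χ₁ hχ₁ hχ₁b
      have hα0 : ∀ v, α ⬝ᵥ (act k.1 v - v) = 0 := fun v => by
        have := h' v
        rw [kb, sub_self, smul_zero] at this
        have h0 : χ₁ ⬝ᵥ (act k.1 v - v) = 0 := (smul_eq_zero.1 this.symm).resolve_right hb0
        rw [k.2.2.1 v, dotProduct_add, dotProduct_smul, dotProduct_smul, hχ₁b, smul_zero, zero_add,
          smul_eq_mul] at h0
        exact (mul_eq_zero.1 h0).resolve_right hχ₁a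
      obtain ⟨γ, hγ⟩ := exists_dotL ((dotL β) ∘ₗ (act k.1 - LinearMap.id))
      have g₁ : ∀ v, β ⬝ᵥ (act k.1 v - v) = γ ⬝ᵥ v := fun v => (LinearMap.congr_fun hγ v).symm
      have d1 : γ ⬝ᵥ b = 0 := by rw [← g₁, kb]; simp
      have d2 : γ ⬝ᵥ a = s := by rw [← g₁, ka]; simp [dotProduct_smul, hβb]
      have hkT : k.1 = T γ b := gl_ext fun v => by
        have := k.2.2.1 v
        rw [hα0, g₁, zero_smul, add_zero] at this
        rw [act_T d1, ← this]; abel
      by_cases hγR : RV F₀ γ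
      · exact ⟨γ, hγR, d1, d2⟩
      · exact absurd (seed_of_centre h3 hM hb hb0 d1 hγR (hkT ▸ k.2.1)) hseed
    have hsup : ∀ s ∈ S₀, SLTwo.ux s ∈ Hbar := by
      rintro s ⟨χ, hχ, hχb, rfl⟩; exact ⟨_, hρx χ hχb (hM χ b hχ hb hχb)⟩
    -- the scaled set is a subfield
    obtain ⟨c₁, hc₁⟩ : ∃ c, c = χ₁ ⬝ᵥ a := ⟨_, rfl⟩
    rw [← hc₁] at hx₁ hχ₁a
    let L : Subalgebra F₀ F :=
      { carrier := {e | e * c₁ ∈ S₀}
        mul_mem' := fun {x y} hx hy => by
          have := hsub _ (SLTwo.char_two_closed h2 Hbar hχ₁a hx₁ ⟨_, rfl⟩ ht10 (hsup _ hx) (hsup _ hy))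
          rwa [show x * c₁ * (y * c₁) / c₁ = x * y * c₁ by field_simp] at this
        add_mem' := fun {x y} => by
          rintro ⟨χ, hχ, hb', hx⟩ ⟨χ', hχ', hb'', hy⟩
          exact ⟨χ + χ', hχ.add hχ', by rw [add_dotProduct, hb', hb'', add_zero],
            by rw [add_dotProduct, hx, hy, add_mul]⟩
        algebraMap_mem' := fun e => ⟨(e : F) • χ₁, hχ₁.smul e.2, by rw [smul_dotProduct, hχ₁b, smul_zero],
          by rw [smul_dotProduct, smul_eq_mul, hc₁]; rfl⟩ }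
    haveI := Fintype.ofFinite F₀
    haveI := Fintype.ofFinite F
    have hrank : Module.finrank F₀ F = r := by
      have e := Module.natCard_eq_pow_finrank (K := F₀) (V := F)
      rw [hcard] at e
      exact (Nat.pow_right_injective (Finite.one_lt_card (α := F₀)) e).symm
    haveI := Subalgebra.isSimpleOrder_of_finrank_prime F₀ F (hrank ▸ hr)
    -- a second rational functional
    obtain ⟨η, hη, hη1⟩ := exists_dual_one hb hb0
    obtain ⟨w, hw, hw1⟩ := exists_dual_one hχ₁ hχ₁0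
    obtain ⟨χ₂, hχ₂, hχ₂0, hχ₂b, hχ₂w⟩ := exists_perp_two h3 hb hw
    rw [dotProduct_comm] at hχ₂b hχ₂w
    rcases IsSimpleOrder.eq_bot_or_eq_top L with h | h
    · have hmem : χ₂ ⬝ᵥ a / c₁ ∈ L := ⟨χ₂, hχ₂, hχ₂b, by field_simp⟩
      rw [h, Algebra.mem_bot] at hmem
      obtain ⟨e, he⟩ := hmem
      have he' : (e : F) = χ₂ ⬝ᵥ a / c₁ := he
      have : ((χ₂ - (e : F) • χ₁)) ⬝ᵥ a = 0 := by
        rw [sub_dotProduct, smul_dotProduct, ← hc₁, he', smul_eq_mul, div_mul_cancel₀ _ hχ₁a, sub_self]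
      by_cases h0 : χ₂ - (e : F) • χ₁ = 0
      · have := congrArg (fun χ : ι → F => χ ⬝ᵥ w) (sub_eq_zero.1 h0)
        simp only [smul_dotProduct, hχ₂w, dotProduct_comm χ₁, hw1, smul_eq_mul, mul_one] at this
        rw [← this, zero_smul, sub_zero] at h0
        exact hχ₂0 h0
      · exact ha _ (hχ₂.sub (hχ₁.smul e.2)) h0 this
    · have hmem : (η ⬝ᵥ a) / c₁ ∈ L := h ▸ trivial
      obtain ⟨χ, hχ, hχb, hχa⟩ := hmem
      rw [div_mul_cancel₀ _ hχ₁a] at hχa
      have : (η - χ) ⬝ᵥ a = 0 := by rw [sub_dotProduct, hχa, sub_self]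
      refine ha _ (hη.sub hχ) (fun h0 => ?_) this
      rw [sub_eq_zero.1 h0, hχb] at hη1
      exact zero_ne_one hη1
  · -- odd characteristic: the preimage of `-1` cannot exist
    exfalso
    obtain ⟨k, hk⟩ := SLTwo.neg_one_mem h2 Hbar hχ₁a hx₁ ⟨_, rfl⟩ ht10
    have e := fun i j => congrArg (fun A : SL(2, F) => A i j) hk
    have e00 := e 0 0; have e01 := e 0 1; have e10 := e 1 0; have e11 := e 1 1
    simp [hρ] at e00 e01 e10 e11
    have kb : act k.1 b = -b := by rw [(plane_eq k.2).1, e00, e10]; simp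
    have ka : act k.1 a = -a := by rw [(plane_eq k.2).2, e01, e11]; simp
    have hχv : ∀ χ : ι → F, RV F₀ χ → χ ⬝ᵥ b = 0 → ∀ v,
        χ ⬝ᵥ ((2 : F) • v + (act k.1 v - v)) = 0 := by
      intro χ hχ hχb v
      have := hcomm k (fun χ' _ _ _ => by rw [hk]; simp) χ hχ hχb v
      rw [kb] at this
      have hz : (χ ⬝ᵥ ((2 : F) • v + (act k.1 v - v))) • b = 0 := by
        rw [dotProduct_add, dotProduct_smul, smul_eq_mul]
        linear_combination (norm := module) -this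
      exact (smul_eq_zero.1 hz).resolve_right hb0
    have hline : ∀ v, (2 : F) • v + (act k.1 v - v) =
        ((2 : F) • v + (act k.1 v - v)) i₀ • b := by
      intro v
      funext j
      rcases eq_or_ne j i₀ with rfl | hj
      · simp [hbdef]
      · have := hχv (Pi.single j 1) (RV.single F₀ j) (by simp [hbdef, hj]) v
        simp only [single_dotProduct, one_mul] at this
        rw [this]; simp [hbdef, hj]
    -- every vector is in the plane
    have hplane : ∀ v : ι → F, ∃ x y : F, v = x • b + y • a := by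
      intro v
      refine ⟨(((2 : F) • v + (act k.1 v - v)) i₀ - β ⬝ᵥ (act k.1 v - v)) / 2,
        -(α ⬝ᵥ (act k.1 v - v)) / 2, ?_⟩
      have h1 := hline v
      have h2' := k.2.2.1 v
      generalize ((2 : F) • v + (act k.1 v - v)) i₀ = x at h1 ⊢
      apply smul_right_injective (ι → F) h2
      simp only [smul_add, smul_smul, mul_div_cancel₀ _ h2]
      linear_combination (norm := module) h1 - h2'
    have htop : (⊤ : Submodule F (ι → F)) ≤ Submodule.span F ((({b, a} : Finset (ι → F)) : Set (ι → F))) := by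
      intro v _
      obtain ⟨x, y, rfl⟩ := hplane v
      exact add_mem (Submodule.smul_mem _ _ (Submodule.subset_span (by simp)))
        (Submodule.smul_mem _ _ (Submodule.subset_span (by simp)))
    have h5 := (Submodule.finrank_mono htop).trans (finrank_span_finset_le_card _)
    rw [finrank_top, Module.finrank_pi] at h5
    have := Finset.card_le_two (a := b) (b := a)
    omega

/-- an irrational transvection gives a seed -/
theorem seed_of_irrational [Finite F] (h3 : 3 ≤ Fintype.card ι) {r : ℕ} (hr : r.Prime)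
    (hcard : Nat.card F = Nat.card F₀ ^ r)
    (hM : ∀ w v : ι → F, RV F₀ w → RV F₀ v → w ⬝ᵥ v = 0 → T w v ∈ M) {φ a : ι → F}
    (hφa : φ ⬝ᵥ a = 0) (hT : T φ a ∈ M) {i j : ι} (hij : a i * φ j ∉ F₀) : Seed F₀ M := by
  classical
  by_cases hsa : ∃ s : F, ∃ a₀, RV F₀ a₀ ∧ a = s • a₀
  · obtain ⟨s, a₀, ha₀, rfl⟩ := hsa
    have hs : s ≠ 0 := by rintro rfl; simp [F₀.zero_mem] at hij
    have h0 : φ ⬝ᵥ a₀ = 0 := by
      rw [dotProduct_smul, smul_eq_mul] at hφa; exact (mul_eq_zero.1 hφa).resolve_left hs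
    refine seed_of_centre h3 hM ha₀ (fun h => hij (by simp [h, F₀.zero_mem])) (ψ := s • φ)
      (by rw [smul_dotProduct, h0, smul_zero]) (fun h => hij ?_) (by rwa [T_smul _ h0])
    have := F₀.mul_mem (ha₀ i) (h j)
    convert this using 1
    simp only [Pi.smul_apply, smul_eq_mul]; ring
  by_cases hsφ : ∃ s : F, ∃ φ₀, RV F₀ φ₀ ∧ φ = s • φ₀
  · obtain ⟨s, φ₀, hφ₀, rfl⟩ := hsφ
    have hs : s ≠ 0 := by rintro rfl; simp [F₀.zero_mem] at hij
    have h0 : φ₀ ⬝ᵥ a = 0 := by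
      rw [smul_dotProduct, smul_eq_mul] at hφa; exact (mul_eq_zero.1 hφa).resolve_left hs
    refine seed_of_axis h3 hM hφ₀ (fun h => hij (by simp [h, F₀.zero_mem])) (a := s • a)
      (by rw [dotProduct_smul, h0, smul_zero]) (fun h => hij ?_) (by rwa [← T_smul _ h0])
    have := F₀.mul_mem (h i) (hφ₀ j)
    convert this using 1
    simp only [Pi.smul_apply, smul_eq_mul]; ring
  by_cases hφ : ∀ b, RV F₀ b → b ≠ 0 → φ ⬝ᵥ b ≠ 0
  swap
  · push Not at hφ
    obtain ⟨b, hb, hb0, hφb⟩ := hφ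
    obtain ⟨χ, hχ, hχb, hχa⟩ : ∃ χ, RV F₀ χ ∧ χ ⬝ᵥ b = 0 ∧ χ ⬝ᵥ a ≠ 0 := by
      by_contra hno
      push Not at hno
      obtain ⟨η, hη, hη1⟩ := exists_dual_one hb hb0
      refine hsa ⟨η ⬝ᵥ a, b, hb, funext fun l => ?_⟩
      have := hno (Pi.single l 1 - b l • η) ((RV.single F₀ l).sub (hη.smul (hb l)))
        (by simp [sub_dotProduct, smul_dotProduct, hη1])
      simp only [sub_dotProduct, smul_dotProduct, single_dotProduct, one_mul, smul_eq_mul, sub_eq_zero] at this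
      rw [this, Pi.smul_apply, smul_eq_mul, mul_comm]
    have := comm_mem_left hφa hχb hφb hT (hM χ b hχ hb hχb)
    refine seed_of_centre h3 hM hb hb0 (by rw [smul_dotProduct, hφb, smul_zero]) (fun h => hsφ ?_) this
    exact ⟨(χ ⬝ᵥ a)⁻¹, _, h, (inv_smul_smul₀ hχa φ).symm⟩
  by_cases ha : ∀ χ, RV F₀ χ → χ ≠ 0 → χ ⬝ᵥ a ≠ 0
  swap
  · push Not at ha
    obtain ⟨χ, hχ, hχ0, hχa⟩ := ha
    obtain ⟨w, hw, hχw, hφw⟩ : ∃ w, RV F₀ w ∧ χ ⬝ᵥ w = 0 ∧ φ ⬝ᵥ w ≠ 0 := by
      by_contra hno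
      push Not at hno
      obtain ⟨η, hη, hη1⟩ := exists_dual_one hχ hχ0
      rw [dotProduct_comm] at hη1
      refine hsφ ⟨φ ⬝ᵥ η, χ, hχ, funext fun l => ?_⟩
      have := hno (Pi.single l 1 - χ l • η) ((RV.single F₀ l).sub (hη.smul (hχ l)))
        (by simp [dotProduct_sub, dotProduct_smul, hη1])
      simp only [dotProduct_sub, dotProduct_smul, dotProduct_single, mul_one, smul_eq_mul, sub_eq_zero] at this
      rw [this, Pi.smul_apply, smul_eq_mul, mul_comm]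
    have := comm_mem_right hφa hχw hχa hT (hM χ w hχ hw hχw)
    refine seed_of_axis h3 hM hχ hχ0 (by rw [dotProduct_smul, hχa, smul_zero]) (fun h => hsa ?_) this
    exact ⟨(φ ⬝ᵥ w)⁻¹, _, h, (inv_smul_smul₀ hφw a).symm⟩
  exact seed_of_generic h3 hr hcard hM hφa hT hφ ha

/-- a seed spreads to all transvections -/
theorem sl_le_of_seed [Finite F] (h3 : 3 ≤ Fintype.card ι) {r : ℕ} (hr : r.Prime)
    (hcard : Nat.card F = Nat.card F₀ ^ r)
    (hM : ∀ w v : ι → F, RV F₀ w → RV F₀ v → w ⬝ᵥ v = 0 → T w v ∈ M) (hs : Seed F₀ M) :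
    Cfsg.Geo.specialLinear ι F ≤ M := by
  classical
  obtain ⟨χ, b, c, hχ, hb, hχ0, hb0, hχb, hc, hTc⟩ := hs
  -- moving the centre and the axis
  have hvec : ∀ {χ b v : ι → F} {c : F}, RV F₀ χ → RV F₀ b → RV F₀ v → b ≠ 0 → χ ⬝ᵥ b = 0 → χ ⬝ᵥ v = 0 →
      T χ (c • b) ∈ M → T χ (c • v) ∈ M := by
    intro χ b v c hχ hb hv hb0 hχb hχv h
    have one : ∀ {b v : ι → F}, RV F₀ b → RV F₀ v → χ ⬝ᵥ b = 0 → χ ⬝ᵥ v = 0 → (∀ e ∈ F₀, b ≠ e • v) →
        T χ (c • b) ∈ M → T χ (c • v) ∈ M := by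
      intro b v hb hv hχb hχv hind h
      obtain ⟨φ, hφ, h1, h0⟩ := exists_dual_two hb hv hind
      have := comm_mem_right h0 (by rw [dotProduct_smul, hχb, smul_zero]) hχv (hM φ v hφ hv h0) h
      rwa [dotProduct_smul, h1, smul_eq_mul, mul_one] at this
    by_cases hind : ∀ e ∈ F₀, b ≠ e • v
    · exact one hb hv hχb hχv hind h
    push Not at hind
    obtain ⟨e, he, hbe⟩ := hind
    have he0 : e ≠ 0 := by rintro rfl; exact hb0 (by rw [hbe, zero_smul])
    have hv0 : v ≠ 0 := by rintro rfl; exact hb0 (by rw [hbe, smul_zero])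
    obtain ⟨η, hη, hη1⟩ := exists_dual_one hv hv0
    obtain ⟨v', hv', hv'0, hχv', hηv'⟩ := exists_perp_two h3 hχ hη
    have i1 : ∀ x ∈ F₀, v' ≠ x • v := by
      intro x _ hh
      rw [hh, dotProduct_smul, hη1, smul_eq_mul, mul_one] at hηv'
      exact hv'0 (by rw [hh, hηv', zero_smul])
    have i2 : ∀ x ∈ F₀, b ≠ x • v' := by
      intro x _ hh
      have := congrArg (η ⬝ᵥ ·) hh
      rw [dotProduct_smul, hηv', smul_zero, hbe, dotProduct_smul, hη1, smul_eq_mul, mul_one] at this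
      exact he0 this
    exact one hv' hv hχv' hχv i1 (one hb hv' hχb hχv' i2 h)
  have hfun : ∀ {χ χ' b : ι → F} {c : F}, RV F₀ χ → RV F₀ χ' → RV F₀ b → χ ≠ 0 → χ ⬝ᵥ b = 0 →
      χ' ⬝ᵥ b = 0 → T χ (c • b) ∈ M → T χ' (c • b) ∈ M := by
    intro χ χ' b c hχ hχ' hb hχ0 hχb hχ'b h
    have one : ∀ {χ χ' : ι → F}, RV F₀ χ → RV F₀ χ' → χ ⬝ᵥ b = 0 → χ' ⬝ᵥ b = 0 → (∀ e ∈ F₀, χ ≠ e • χ') →
        T χ (c • b) ∈ M → T χ' (c • b) ∈ M := by
      intro χ χ' hχ hχ' hχb hχ'b hind h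
      obtain ⟨w, hw, h1, h0⟩ := exists_dual_two hχ hχ' hind
      rw [dotProduct_comm] at h1 h0
      have := comm_mem_right (by rw [dotProduct_smul, hχb, smul_zero]) h0
        (by rw [dotProduct_smul, hχ'b, smul_zero]) h (hM χ' w hχ' hw h0)
      rwa [h1, one_smul] at this
    by_cases hind : ∀ e ∈ F₀, χ ≠ e • χ'
    · exact one hχ hχ' hχb hχ'b hind h
    push Not at hind
    obtain ⟨e, he, hbe⟩ := hind
    have he0 : e ≠ 0 := by rintro rfl; exact hχ0 (by rw [hbe, zero_smul])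
    have hv0 : χ' ≠ 0 := by rintro rfl; exact hχ0 (by rw [hbe, smul_zero])
    obtain ⟨w, hw, hw1⟩ := exists_dual_one hχ' hv0
    obtain ⟨χ'', hχ'', hχ''0, hbχ, hwχ⟩ := exists_perp_two h3 hb hw
    have i1 : ∀ x ∈ F₀, χ'' ≠ x • χ' := by
      intro x _ hh
      rw [hh, dotProduct_smul, hw1, smul_eq_mul, mul_one] at hwχ
      exact hχ''0 (by rw [hh, hwχ, zero_smul])
    have i2 : ∀ x ∈ F₀, χ ≠ x • χ'' := by
      intro x _ hh
      have := congrArg (w ⬝ᵥ ·) hh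
      rw [dotProduct_smul, hwχ, smul_zero, hbe, dotProduct_smul, hw1, smul_eq_mul, mul_one] at this
      exact he0 this
    rw [dotProduct_comm] at hbχ
    exact one hχ'' hχ' hbχ hχ'b i1 (one hχ hχ'' hχb hbχ i2 h)
  have hall : ∀ w v : ι → F, RV F₀ w → RV F₀ v → w ⬝ᵥ v = 0 → T w (c • v) ∈ M := by
    intro w v hw hv hwv
    obtain ⟨χ', hχ', hχ'0, hb', hv'⟩ := exists_perp_two h3 hb hv
    rw [dotProduct_comm] at hb' hv'
    exact hfun hχ' hw hv hχ'0 hv' hwv (hvec hχ' hb hv hb0 hb' hv' (hfun hχ hχ' hb hχ0 hχb hb' hTc))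
  -- the coefficients form a field
  let C : Subalgebra F₀ F :=
    { carrier := {c | ∀ w v : ι → F, RV F₀ w → RV F₀ v → w ⬝ᵥ v = 0 → T w (c • v) ∈ M}
      add_mem' := fun {x y} hx hy w v hw hv hwv => by
        rw [add_smul, ← T_add_right (by rw [dotProduct_smul, hwv, smul_zero])
          (by rw [dotProduct_smul, hwv, smul_zero])]
        exact M.mul_mem (hx w v hw hv hwv) (hy w v hw hv hwv)
      mul_mem' := fun {x y} hx hy w v hw hv hwv => by
        rcases eq_or_ne v 0 with rfl | hv0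
        · rw [smul_zero, T_zero]; exact M.one_mem
        obtain ⟨η, hη, hη1⟩ := exists_dual_one hv hv0
        obtain ⟨u, hu, hu0, hwu, hηu⟩ := exists_perp_two h3 hw hη
        obtain ⟨φ, hφ, h1, h0⟩ := exists_dual_two hu hv (fun e _ h => hu0 (by
          rw [h, dotProduct_smul, hη1, smul_eq_mul, mul_one] at hηu
          rw [h, hηu, zero_smul]))
        have := comm_mem_right (by rw [dotProduct_smul, h0, smul_zero])
          (by rw [dotProduct_smul, hwu, smul_zero]) (by rw [dotProduct_smul, hwv, smul_zero])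
          (hx φ v hφ hv h0) (hy w u hw hu hwu)
        rwa [dotProduct_smul, h1, smul_eq_mul, mul_one, smul_smul, mul_comm] at this
      algebraMap_mem' := fun e w v hw hv hwv =>
        hM w _ hw (hv.smul e.2) (by rw [dotProduct_smul]; simp [hwv]) }
  haveI := Fintype.ofFinite F₀
  haveI := Fintype.ofFinite F
  have hrank : Module.finrank F₀ F = r := by
    have e := Module.natCard_eq_pow_finrank (K := F₀) (V := F)
    rw [hcard] at e
    exact (Nat.pow_right_injective (Finite.one_lt_card (α := F₀)) e).symm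
  haveI := Subalgebra.isSimpleOrder_of_finrank_prime F₀ F (hrank ▸ hr)
  have hC : C = ⊤ := by
    refine (IsSimpleOrder.eq_bot_or_eq_top C).resolve_left fun h => hc ?_
    have : c ∈ C := hall
    rw [h, Algebra.mem_bot] at this
    obtain ⟨e, rfl⟩ := this
    exact e.2
  intro g hg
  rw [Cfsg.Geo.specialLinear, Cfsg.Agent.GL.det_ker_eq_range_toGL] at hg
  obtain ⟨A, rfl⟩ := hg
  have htop : M.comap (SpecialLinearGroup.toGL (n := ι) (R := F)) = ⊤ := by
    refine Cfsg.Agent.GL.SL_eq_top_of_transvection_mem fun i j hij e => ?_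
    have h0 : (Pi.single j 1 : ι → F) ⬝ᵥ Pi.single i 1 = 0 := by simp [hij.symm]
    have he : e ∈ C := hC ▸ Algebra.mem_top
    have := he _ _ (RV.single F₀ j) (RV.single F₀ i) h0
    rw [Subgroup.mem_comap]
    convert this using 1
    apply gl_ext; intro x
    rw [act_T (by rw [dotProduct_smul, h0, smul_zero]), act_apply]
    show ((SpecialLinearGroup.transvection hij e : SpecialLinearGroup ι F) : Matrix ι ι F) *ᵥ x = _
    rw [SpecialLinearGroup.transvection_coe, Matrix.add_mulVec, Matrix.one_mulVec, Matrix.single_mulVec,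
      single_dotProduct, one_mul, smul_smul, mul_comm (x j)]
    congr 1
    ext l
    by_cases hl : l = i <;> simp [Function.update, hl]
  exact Subgroup.mem_comap.1 (htop ▸ Subgroup.mem_top A : A ∈ M.comap _)

/-- the subfield group is maximal in the special linear group -/
theorem subfield_maximal_one [Finite F] (h3 : 3 ≤ Fintype.card ι) (F₀ : Subfield F) {r : ℕ} (hr : r.Prime)
    (hcard : Nat.card F = Nat.card F₀ ^ r) :
    Cfsg.Geo.IsMaximalIn (Cfsg.Geo.specialLinear ι F)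
      (Cfsg.Geo.subfieldSubgroup F₀ (1 : GL ι F) ⊓ Cfsg.Geo.specialLinear ι F) := by
  classical
  haveI : Nonempty ι := Fintype.card_pos_iff.1 (by omega)
  have hrat : ∀ x : ι → F, x ∈ ratVec F₀ (1 : GL ι F) ↔ RV F₀ x := fun x =>
    ⟨by rintro ⟨u, hu, rfl⟩; simpa [act_one, RV] using hu, fun h => ⟨x, h, act_one x⟩⟩
  have hTH : ∀ w v : ι → F, RV F₀ w → RV F₀ v → w ⬝ᵥ v = 0 →
      T w v ∈ Cfsg.Geo.subfieldSubgroup F₀ (1 : GL ι F) ⊓ Cfsg.Geo.specialLinear ι F := by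
    intro w v hw hv h
    refine ⟨mem_subfieldSubgroup F₀ 1 one_ne_zero fun x hx => ?_, T_mem_sl w v h⟩
    rw [hrat] at hx ⊢
    rw [act_T h]
    simpa using hx.add (hv.smul (hw.dot hx))
  obtain ⟨e, he⟩ : ∃ e : F, e ∉ F₀ := by
    by_contra h; push Not at h
    have e : Nat.card F₀ = Nat.card F := Nat.card_congr (Equiv.subtypeUnivEquiv h)
    rw [hcard] at e
    have h1 := hr.two_le
    have h2 : Nat.card F₀ ^ 1 < Nat.card F₀ ^ r := Nat.pow_lt_pow_right Finite.one_lt_card (by omega)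
    rw [pow_one] at h2
    omega
  have hlt : Cfsg.Geo.subfieldSubgroup F₀ (1 : GL ι F) ⊓ Cfsg.Geo.specialLinear ι F <
      Cfsg.Geo.specialLinear ι F := by
    refine lt_of_le_of_ne inf_le_right fun heq => ?_
    obtain ⟨i, j, hij⟩ := Fintype.exists_pair_of_one_lt_card (α := ι) (by omega)
    have h0 : (Pi.single j 1 : ι → F) ⬝ᵥ (e • Pi.single i 1) = 0 := by simp [hij.symm]
    obtain ⟨γ, hγ⟩ := exists_of_mem_subfieldSubgroup F₀ 1
      ((inf_eq_right.1 heq) (T_mem_sl _ _ h0))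
    obtain ⟨y, hy, ey⟩ := hγ _ ((hrat _).2 (RV.single F₀ i))
    obtain ⟨z, hz, ez⟩ := hγ _ ((hrat _).2 (RV.single F₀ j))
    rw [hrat] at hy hz
    rw [act_T h0] at ey ez
    have e1 := congrFun ey i
    have e2 := congrFun ez i
    simp [hij, hij.symm] at e1 e2
    have hγF : γ ∈ F₀ := by
      have hy0 : y i ≠ 0 := fun h => by simp [h] at e1
      rw [show γ = (y i)⁻¹ by field_simp; exact e1.symm]
      exact F₀.inv_mem (hy i)
    exact he (e2 ▸ F₀.mul_mem hγF (hz i))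
  refine ⟨hlt, fun M hM1 hM2 => ?_⟩
  have hM : ∀ w v : ι → F, RV F₀ w → RV F₀ v → w ⬝ᵥ v = 0 → T w v ∈ M :=
    fun w v hw hv h => hM1 (hTH w v hw hv h)
  by_cases hall : ∀ w v : ι → F, w ⬝ᵥ v = 0 → T w v ∈ M → ∀ i j, v i * w j ∈ F₀
  swap
  · push Not at hall
    obtain ⟨w, v, h0, hT, i, j, hij⟩ := hall
    exact Or.inr (le_antisymm hM2
      (sl_le_of_seed h3 hr hcard hM (seed_of_irrational h3 hr hcard hM h0 hT hij)))
  left
  refine le_antisymm (fun g hg => ⟨?_, hM2 hg⟩) hM1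
  -- all transvections of `M` are rational
  set G : Matrix ι ι F := (g : Matrix ι ι F) with hG
  set G' : Matrix ι ι F := ((g⁻¹ : GL ι F) : Matrix ι ι F) with hG'
  have hGG : G' * G = 1 := by rw [hG, hG', ← Units.val_mul, inv_mul_cancel, Units.val_one]
  have hGG' : G * G' = 1 := by rw [hG, hG', ← Units.val_mul, mul_inv_cancel, Units.val_one]
  have key : ∀ k l, k ≠ l → ∀ i j, G i k * G' l j ∈ F₀ := by
    intro k l hkl
    refine hall (fun j => G' l j) (fun i => G i k) ?_ ?_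
    · have := congrFun (congrFun hGG l) k
      rwa [Matrix.one_apply_ne (Ne.symm hkl)] at this
    · have h0 : (Pi.single l 1 : ι → F) ⬝ᵥ Pi.single k 1 = 0 := by simp [hkl]
      have := M.mul_mem (M.mul_mem hg (hM _ _ (RV.single F₀ l) (RV.single F₀ k) h0)) (M.inv_mem hg)
      convert this using 1
      apply gl_ext; intro x
      rw [act_T (by
        have := congrFun (congrFun hGG l) k
        rwa [Matrix.one_apply_ne (Ne.symm hkl)] at this), act_mul, act_mul, act_T h0, map_add, map_smul,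
        act_act_inv]
      congr 1
      congr 1
      · rw [single_dotProduct, one_mul, act_apply]; rfl
      · rw [act_apply, Matrix.mulVec_single_one]; rfl
  obtain ⟨i₁, k₁, h₁⟩ : ∃ i k, G i k ≠ 0 := by
    by_contra h; push Not at h
    obtain ⟨i⟩ := ‹Nonempty ι›
    have := congrFun (congrFun hGG' i) i
    simp [Matrix.mul_apply, h] at this
  have hratio : ∀ i k, G i k / G i₁ k₁ ∈ F₀ := by
    intro i k
    obtain ⟨l, hl⟩ : ∃ l, l ∉ ({k, k₁} : Finset ι) := by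
      by_contra h; push Not at h
      have := Finset.card_le_card (fun x (_ : x ∈ (Finset.univ : Finset ι)) => h x)
      rw [Finset.card_univ] at this
      have := Finset.card_le_two (a := k) (b := k₁)
      omega
    simp only [Finset.mem_insert, Finset.mem_singleton, not_or] at hl
    obtain ⟨j, hj⟩ : ∃ j, G' l j ≠ 0 := by
      by_contra h; push Not at h
      have := congrFun (congrFun hGG l) l
      simp [Matrix.mul_apply, h] at this
    have := F₀.div_mem (key k l (Ne.symm hl.1) i j) (key k₁ l (Ne.symm hl.2) i₁ j)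
    rwa [mul_div_mul_right _ _ hj] at this
  refine mem_subfieldSubgroup F₀ 1 h₁ fun x hx => ?_
  rw [hrat] at hx ⊢
  intro i
  rw [Pi.smul_apply, act_apply, smul_eq_mul]
  simp only [Matrix.mulVec, dotProduct, Finset.mul_sum]
  refine F₀.sum_mem fun k _ => ?_
  rw [← mul_assoc, inv_mul_eq_div]
  exact F₀.mul_mem (hratio i k) (hx k)

/-- the same for any rational structure -/
theorem subfield_maximal [Finite F] (h3 : 3 ≤ Fintype.card ι) (F₀ : Subfield F) {r : ℕ} (hr : r.Prime)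
    (hcard : Nat.card F = Nat.card F₀ ^ r) (P : GL ι F) :
    Cfsg.Geo.IsMaximalIn (Cfsg.Geo.specialLinear ι F)
      (Cfsg.Geo.subfieldSubgroup F₀ P ⊓ Cfsg.Geo.specialLinear ι F) := by
  set e : GL ι F ≃* GL ι F := MulAut.conj P
  haveI : (Cfsg.Geo.specialLinear ι F).Normal := MonoidHom.normal_ker _
  have hS : Subgroup.map e.toMonoidHom (Cfsg.Geo.specialLinear ι F) = Cfsg.Geo.specialLinear ι F :=
    Subgroup.Normal.map_conj_eq _ P
  have hF : Subgroup.map e.toMonoidHom (Cfsg.Geo.subfieldSubgroup F₀ (1 : GL ι F)) =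
      Cfsg.Geo.subfieldSubgroup F₀ P := by
    rw [Cfsg.Geo.subfieldSubgroup, Cfsg.Geo.subfieldSubgroup, Subgroup.map_map]
    congr 1
    apply MonoidHom.ext; intro x
    simp [e]
  obtain ⟨hlt, hmax⟩ := subfield_maximal_one h3 F₀ hr hcard (ι := ι)
  have hH : Subgroup.map e.toMonoidHom
      (Cfsg.Geo.subfieldSubgroup F₀ (1 : GL ι F) ⊓ Cfsg.Geo.specialLinear ι F) =
      Cfsg.Geo.subfieldSubgroup F₀ P ⊓ Cfsg.Geo.specialLinear ι F := by
    rw [Subgroup.map_inf _ _ _ e.injective, hF, hS]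
  have hinj : Function.Injective (Subgroup.map e.toMonoidHom) := Subgroup.map_injective e.injective
  refine ⟨?_, fun M h1 h2 => ?_⟩
  · rw [← hH]
    conv_rhs => rw [← hS]
    exact lt_of_le_of_ne (Subgroup.map_mono hlt.le) (hinj.ne hlt.ne)
  · have hcm : Subgroup.map e.toMonoidHom (M.comap e.toMonoidHom) = M :=
      Subgroup.map_comap_eq_self_of_surjective e.surjective M
    have k1 := Subgroup.comap_mono (f := e.toMonoidHom) h1
    have k2 := Subgroup.comap_mono (f := e.toMonoidHom) h2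
    rw [← hH, Subgroup.comap_map_eq_self_of_injective e.injective] at k1
    rw [← hS, Subgroup.comap_map_eq_self_of_injective e.injective] at k2
    rcases hmax _ k1 k2 with h | h
    · left; rw [← hcm, h, hH]
    · right; rw [← hcm, h, hS]

end Cfsg.Agent.MaxCl.LinSubfield
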