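import Cfsg.Agent.Lib.MaxCl.Transvection

/-!
Subspace stabilisers in `SL`: membership, maximality, and transvections leaving a stabiliser.
-/

set_option autoImplicit false

namespace Cfsg.Agent.MaxCl

variable {ι : Type} [Fintype ι] [DecidableEq ι] {F : Type*} [Field F]

theorem mem_subspaceStabilizer_of_forall_mem {W : Submodule F (ι → F)} {g : Matrix.GeneralLinearGroup ι F}
    (h : ∀ w ∈ W, act g w ∈ W) : g ∈ Cfsg.Geo.subspaceStabilizer W := by
  have hmap : W.map (act g) = W :=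
    Submodule.eq_of_le_of_finrank_eq (Submodule.map_le_iff_le_comap.mpr h)
      (Submodule.equivMapOfInjective _ (act_injective g) W).finrank_eq.symm
  intro v
  change v ∈ W ↔ (g : Matrix ι ι F).mulVec v ∈ W
  refine ⟨fun hv => act_apply g v ▸ h v hv, fun hv => ?_⟩
  rw [← act_apply, ← hmap] at hv
  obtain ⟨w, hw, e⟩ := hv
  exact act_injective g e ▸ hw

theorem act_mem_of_mem_subspaceStabilizer {W : Submodule F (ι → F)}
    {g : Matrix.GeneralLinearGroup ι F} (h : g ∈ Cfsg.Geo.subspaceStabilizer W) {w : ι → F}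
    (hw : w ∈ W) : act g w ∈ W := by
  rw [act_apply]; exact (h w).mp hw

theorem tv_det {φ : (ι → F) →ₗ[F] F} {v : ι → F} (h : φ v = 0) :
    tv φ v ∈ Cfsg.Geo.specialLinear ι F :=
  MonoidHom.mem_ker.mpr (Units.ext (by
    simpa [h] using det_eq_of_fix_hyperplane (act_tv h)))

theorem tv_mem_subspaceStabilizer {W : Submodule F (ι → F)} {φ : (ι → F) →ₗ[F] F} {v : ι → F}
    (h : φ v = 0) (hc : v ∈ W ∨ ∀ w ∈ W, φ w = 0) : tv φ v ∈ Cfsg.Geo.subspaceStabilizer W :=
  mem_subspaceStabilizer_of_forall_mem fun w hw => by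
    rw [act_tv h]
    rcases hc with hc | hc
    · exact W.add_mem hw (W.smul_mem _ hc)
    · rw [hc w hw, zero_smul, add_zero]; exact hw

theorem tv_not_mem_subspaceStabilizer {W : Submodule F (ι → F)} {φ : (ι → F) →ₗ[F] F}
    {v w : ι → F} (h : φ v = 0) (hw : w ∈ W) (h1 : φ w = 1) (hv : v ∉ W) :
    tv φ v ∉ Cfsg.Geo.subspaceStabilizer W := fun hmem => by
  have := act_mem_of_mem_subspaceStabilizer hmem hw
  rw [act_tv h, h1, one_smul] at this
  exact hv (by simpa using W.sub_mem this hw)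

theorem subspaceStabilizer_inf_lt {W : Submodule F (ι → F)} (hW0 : W ≠ ⊥) (hW1 : W ≠ ⊤) :
    Cfsg.Geo.subspaceStabilizer W ⊓ Cfsg.Geo.specialLinear ι F < Cfsg.Geo.specialLinear ι F := by
  obtain ⟨w, hw, hw0⟩ := W.ne_bot_iff.mp hW0
  obtain ⟨v, hv, -⟩ := exists_notMem_two W W hW1 hW1
  have hwv : w ∉ F ∙ v := fun h => by
    obtain ⟨a, rfl⟩ := Submodule.mem_span_singleton.mp h
    exact hv ((Submodule.smul_mem_iff W (fun e => hw0 (by simp [e]))).mp hw)
  obtain ⟨φ, h0, h1⟩ := exists_dual _ hwv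
  have hz : φ v = 0 := h0 v (Submodule.mem_span_singleton_self v)
  refine lt_of_le_of_ne inf_le_right fun e => tv_not_mem_subspaceStabilizer hz hw h1 hv ?_
  exact (e.symm ▸ tv_det hz :
    tv φ v ∈ Cfsg.Geo.subspaceStabilizer W ⊓ Cfsg.Geo.specialLinear ι F).1

theorem subspaceStabilizer_isMaximalIn {W : Submodule F (ι → F)} (hW0 : W ≠ ⊥) (hW1 : W ≠ ⊤) :
    Cfsg.Geo.IsMaximalIn (Cfsg.Geo.specialLinear ι F)
      (Cfsg.Geo.subspaceStabilizer W ⊓ Cfsg.Geo.specialLinear ι F) := by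
  refine ⟨subspaceStabilizer_inf_lt hW0 hW1, fun M hHM hMS => ?_⟩
  by_cases hM : M ≤ Cfsg.Geo.subspaceStabilizer W
  · exact Or.inl (le_antisymm (le_inf hM hMS) hHM)
  right
  refine le_antisymm hMS (specialLinear_le_of_transvections M ?_)
  obtain ⟨g, hg, hgW⟩ := SetLike.not_le_iff_exists.mp hM
  obtain ⟨w, hw, hgw⟩ : ∃ w ∈ W, act g w ∉ W := by
    by_contra h
    push Not at h
    exact hgW (mem_subspaceStabilizer_of_forall_mem h)
  have inW : ∀ (φ : (ι → F) →ₗ[F] F) (v : ι → F), φ v = 0 → v ∈ W → tv φ v ∈ M := fun φ v h hv =>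
    hHM ⟨tv_mem_subspaceStabilizer h (Or.inl hv), tv_det h⟩
  have at0 : ∀ φ : (ι → F) →ₗ[F] F, φ (act g w) = 0 → tv φ (act g w) ∈ M := fun φ h => by
    have h' : (φ ∘ₗ act g) w = 0 := h
    have := M.mul_mem (M.mul_mem hg (inW _ _ h' hw)) (M.inv_mem hg)
    rwa [conj_tv g h', show (φ ∘ₗ act g) ∘ₗ act g⁻¹ = φ from
      LinearMap.ext fun x => by simp [act_act_inv]] at this
  intro φ v hφ
  by_cases hv : v ∈ W
  · exact inW φ v hφ hv
  set a := act g w
  obtain ⟨c, hc, hb⟩ : ∃ c : F, c ≠ 0 ∧ c • v ∉ W ⊔ F ∙ (c • v - a) := by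
    by_cases hva : v ∈ W ⊔ F ∙ a
    · obtain ⟨u, hu, y, hy, e⟩ := Submodule.mem_sup.mp hva
      obtain ⟨k, rfl⟩ := Submodule.mem_span_singleton.mp hy
      have hk : k ≠ 0 := by rintro rfl; exact hv (by rw [← e]; simpa using hu)
      refine ⟨k⁻¹, inv_ne_zero hk, ?_⟩
      have : k⁻¹ • v - a ∈ W := by
        rw [← e, smul_add, inv_smul_smul₀ hk, add_sub_cancel_right]
        exact W.smul_mem _ hu
      rw [sup_eq_left.mpr ((Submodule.span_singleton_le_iff_mem _ _).mpr this),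
        W.smul_mem_iff (inv_ne_zero hk)]
      exact hv
    · refine ⟨1, one_ne_zero, ?_⟩
      rw [one_smul]
      intro h
      obtain ⟨u, hu, y, hy, e⟩ := Submodule.mem_sup.mp h
      obtain ⟨k, rfl⟩ := Submodule.mem_span_singleton.mp hy
      rcases eq_or_ne k 1 with rfl | hk
      · apply hgw
        rw [one_smul, add_sub, add_comm, add_sub_assoc, add_eq_left, sub_eq_zero] at e
        exact e ▸ hu
      · apply hva
        have : (1 - k) • v = u - k • a := by linear_combination (norm := module) -e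
        rw [← Submodule.smul_mem_iff _ (sub_ne_zero.mpr (Ne.symm hk)), this]
        exact Submodule.sub_mem _ (Submodule.mem_sup_left hu)
          (Submodule.mem_sup_right (Submodule.smul_mem _ _ (Submodule.mem_span_singleton_self a)))
  obtain ⟨ψ, u, hψ, hmove, hfix⟩ := exists_tv_move W a (c • v) hb
  have hh : tv ψ u ∈ M :=
    hHM ⟨mem_subspaceStabilizer_of_forall_mem fun x hx => by rw [hfix x hx]; exact hx, tv_det hψ⟩
  set η : (ι → F) →ₗ[F] F := (c⁻¹ • φ) ∘ₗ act (tv ψ u) with hη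
  have hη0 : η a = 0 := by simp [hη, hmove, hφ]
  have := M.mul_mem (M.mul_mem hh (at0 η hη0)) (M.inv_mem hh)
  rwa [conj_tv _ hη0, hmove, show η ∘ₗ act (tv ψ u)⁻¹ = c⁻¹ • φ from
    LinearMap.ext fun x => by simp [hη, act_act_inv], tv_smul_swap _ _ _ (by simp [hφ]),
    inv_smul_smul₀ hc] at this

end Cfsg.Agent.MaxCl
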