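/-
An element which is not semilinear yields an element of the overgroup mapping a singular line to the sum of a
hyperplane of a singular line and one vector orthogonal to it over the extension field.
-/
import Cfsg.Agent.Lib.MaxCl.OrthExtGeom
import Mathlib.FieldTheory.ChevalleyWarning

set_option autoImplicit false
set_option linter.unusedSectionVars false
set_option maxHeartbeats 800000

namespace Cfsg.Agent.MaxCl.OExt

open scoped MatrixGroups Matrix
open Module (finrank)

section ChevalleyWarning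

variable {F : Type*} [Field F] [Fintype F] {V : Type*} [AddCommGroup V] [Module F V]

/-- few quadratic functions without constant term have a common non-zero root -/
theorem exists_common_root (C : Submodule F V) [FiniteDimensional F C] {n : ℕ} (hC : 2 * n < finrank F C)
    (b : Fin n → V →ₗ[F] V →ₗ[F] F) (f : Fin n → V →ₗ[F] F) :
    ∃ c ∈ C, c ≠ 0 ∧ ∀ i, b i c c + f i c = 0 := by
  classical
  let bs := Module.finBasis F C
  obtain ⟨p, hp⟩ := CharP.exists F
  have hp' : p.Prime := CharP.char_is_prime F p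
  let P : Fin n → MvPolynomial (Fin (finrank F C)) F := fun i =>
    (∑ k, ∑ l, MvPolynomial.C (b i (bs k : V) (bs l : V)) * (MvPolynomial.X k * MvPolynomial.X l)) +
      ∑ k, MvPolynomial.C (f i (bs k : V)) * MvPolynomial.X k
  have hdeg : ∀ i, (P i).totalDegree ≤ 2 := fun i => by
    refine (MvPolynomial.totalDegree_add _ _).trans (max_le ?_ ?_)
    · refine MvPolynomial.totalDegree_finsetSum_le fun k _ => ?_
      refine MvPolynomial.totalDegree_finsetSum_le fun l _ => ?_
      refine (MvPolynomial.totalDegree_mul _ _).trans ?_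
      rw [MvPolynomial.totalDegree_C, zero_add]
      exact (MvPolynomial.totalDegree_mul _ _).trans (by rw [MvPolynomial.totalDegree_X, MvPolynomial.totalDegree_X])
    · refine MvPolynomial.totalDegree_finsetSum_le fun k _ => ?_
      refine (MvPolynomial.totalDegree_mul _ _).trans ?_
      rw [MvPolynomial.totalDegree_C, MvPolynomial.totalDegree_X]
      omega
  have hdvd := char_dvd_card_solutions_of_fintype_sum_lt p (f := P) (by
    rw [Fintype.card_fin]
    have := Finset.sum_le_sum (s := Finset.univ) fun i _ => hdeg i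
    simp only [Finset.sum_const, Finset.card_univ, Fintype.card_fin, smul_eq_mul] at this
    omega)
  have hzero : ∀ i, MvPolynomial.eval (fun _ => (0 : F)) (P i) = 0 := fun i => by simp [P]
  have h1 : 1 < Fintype.card {x : Fin (finrank F C) → F // ∀ i, MvPolynomial.eval x (P i) = 0} := by
    have hpos : 0 < Fintype.card {x : Fin (finrank F C) → F // ∀ i, MvPolynomial.eval x (P i) = 0} :=
      Fintype.card_pos_iff.2 ⟨⟨fun _ => 0, hzero⟩⟩
    exact lt_of_lt_of_le hp'.one_lt (Nat.le_of_dvd hpos (by convert hdvd))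
  obtain ⟨⟨x, hx⟩, hne⟩ := Fintype.exists_ne_of_one_lt_card h1 ⟨fun _ => 0, hzero⟩
  obtain ⟨c, hc⟩ : ∃ c : C, c = ∑ k, x k • bs k := ⟨_, rfl⟩
  have hval : ∀ i, b i (c : V) (c : V) + f i (c : V) = 0 := fun i => by
    rw [← hx i, hc]
    simp only [P, map_add, map_sum, map_mul, MvPolynomial.eval_C, MvPolynomial.eval_X, Submodule.coe_sum,
      Submodule.coe_smul, map_smul, LinearMap.sum_apply, LinearMap.smul_apply, smul_eq_mul, Finset.mul_sum]
    congr 1
    · rw [Finset.sum_comm]
      refine Finset.sum_congr rfl fun k _ => Finset.sum_congr rfl fun l _ => ?_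
      ring
    · refine Finset.sum_congr rfl fun k _ => ?_
      ring
  refine ⟨c, c.2, fun h => hne (Subtype.ext (funext fun k => ?_)), hval⟩
  have h0 : c = 0 := Subtype.ext h
  exact Fintype.linearIndependent_iff.1 bs.linearIndependent x (hc ▸ h0) k

end ChevalleyWarning

variable {ι : Type} [Fintype ι] [DecidableEq ι] {F : Type*} [Field F] [Finite F]
  {K : Type*} [Field K] [Algebra F K] [Module K (ι → F)] [IsScalarTower F K (ι → F)] [Module.Finite F K]
variable {Q : QuadraticForm F (ι → F)} {Φ : (ι → F) →ₗ[K] (ι → F) →ₗ[K] K} {M : Subgroup (GL ι F)}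

set_option quotPrecheck false in
local notation "B" => QuadraticMap.polar (⇑Q)

/-- the image of a line -/
noncomputable def lmap (K : Type*) [Field K] [Algebra F K] [Module K (ι → F)] [IsScalarTower F K (ι → F)]
    (g : GL ι F) (a₀ : ι → F) : K →ₗ[F] (ι → F) :=
  act g ∘ₗ (LinearMap.toSpanSingleton K (ι → F) a₀).restrictScalars F

theorem lmap_apply (g : GL ι F) (a₀ : ι → F) (j : K) : lmap K g a₀ j = act g (j • a₀) := rfl

theorem lmap_injective (g : GL ι F) {a₀ : ι → F} (h : a₀ ≠ 0) : Function.Injective (lmap K g a₀) :=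
  fun _ _ e => smul_left_injective K h (act_injective g e)

theorem mem_range_lmap_smul {g : GL ι F} {a₀ : ι → F} {x : K} :
    x • act g a₀ ∈ LinearMap.range (lmap K g a₀) ↔ x ∈ ExtF.lineD K g a₀ := by
  rw [ExtF.mem_lineD]
  exact ⟨fun ⟨i, hi⟩ => ⟨i, hi⟩, fun ⟨i, hi⟩ => ⟨i, hi⟩⟩

/-- a singular line with singular image vector whose image is not in a line -/
structure Cand (Φ : (ι → F) →ₗ[K] (ι → F) →ₗ[K] K) (M : Subgroup (GL ι F)) (g : GL ι F) (a₀ : ι → F) :
    Prop where
  mem : g ∈ M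
  sing : Φ a₀ a₀ = 0
  sing' : Φ (act g a₀) (act g a₀) = 0
  moved : ∃ k : K, act g (k • a₀) ∉ (K ∙ act g a₀)

/-- a candidate with the largest intersection -/
structure IsMax (Φ : (ι → F) →ₗ[K] (ι → F) →ₗ[K] K) (M : Subgroup (GL ι F)) (g : GL ι F) (a₀ : ι → F) :
    Prop extends Cand Φ M g a₀ where
  le : ∀ g' a₀', Cand Φ M g' a₀' → finrank F (ExtF.lineD K g' a₀') ≤ finrank F (ExtF.lineD K g a₀)

omit [Finite F] [Module.Finite F K] in
theorem Cand.ne_zero {g : GL ι F} {a₀ : ι → F} (h : Cand Φ M g a₀) : a₀ ≠ 0 := by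
  rintro rfl
  obtain ⟨k, hk⟩ := h.moved
  simp at hk

omit [Finite F] [Module.Finite F K] in
theorem Cand.image_ne_zero {g : GL ι F} {a₀ : ι → F} (h : Cand Φ M g a₀) : act g a₀ ≠ 0 :=
  fun e => h.ne_zero (act_injective g (by rw [e, map_zero]))

/-- the preimage of the line of the image of the point -/
theorem le_finrank_pre {g : GL ι F} {a₀ : ι → F} (h : Cand Φ M g a₀) :
    finrank F (ExtF.lineD K g a₀) ≤
      finrank F (((K ∙ act g a₀).restrictScalars F).comap (lmap K g a₀)) := by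
  rw [(Submodule.equivMapOfInjective (lmap K g a₀) (lmap_injective g h.ne_zero)
      (((K ∙ act g a₀).restrictScalars F).comap (lmap K g a₀))).finrank_eq,
    (Submodule.equivMapOfInjective ((LinearMap.toSpanSingleton K (ι → F) (act g a₀)).restrictScalars F)
      (smul_left_injective K h.image_ne_zero) (ExtF.lineD K g a₀)).finrank_eq]
  refine Submodule.finrank_mono ?_
  rintro _ ⟨d, hd, rfl⟩
  obtain ⟨i, hi⟩ := (ExtF.mem_lineD g a₀ d).1 hd
  exact ⟨i, Submodule.mem_span_singleton.2 ⟨d, hi.symm⟩, hi⟩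

theorem lineD_lt {g : GL ι F} {a₀ : ι → F} (h : Cand Φ M g a₀) :
    finrank F (ExtF.lineD K g a₀) < finrank F K := by
  obtain ⟨k, hk⟩ := h.moved
  exact (le_finrank_pre h).trans_lt (Submodule.finrank_lt fun e => hk (Submodule.eq_top_iff'.1 e k))

omit [Finite F] [Module.Finite F K] in
theorem one_mem_lineD (g : GL ι F) (a₀ : ι → F) : (1 : K) ∈ ExtF.lineD K g a₀ :=
  (ExtF.mem_lineD g a₀ 1).2 ⟨1, by rw [one_smul, one_smul]⟩

/-- multiples lying in the intersection vanish -/
theorem eq_zero_of_mul_mem {g : GL ι F} {a₀ : ι → F} (h : Cand Φ M g a₀) {x : K}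
    (hx : ∀ c : K, c * x ∈ ExtF.lineD K g a₀) : x = 0 := by
  by_contra hne
  have := lineD_lt h
  rw [(eq_top_iff.2 fun c _ => by simpa [div_mul_cancel₀ c hne] using hx (c / x) :
    ExtF.lineD K g a₀ = ⊤), finrank_top] at this
  omega

variable (hA : Amb Q Φ M)
include hA

/-- conjugating an element fixing the point by a candidate -/
theorem cand_conj {g : GL ι F} {a₀ : ι → F} (h : Cand Φ M g a₀) {u : GL ι F} (hu : u ∈ M)
    (hfix : ∀ k : K, act u (k • act g a₀) = k • act g a₀) {j₀ : K}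
    (hj₀ : act u (act g (j₀ • a₀)) ∉ LinearMap.range (lmap K g a₀)) :
    Cand Φ M (g⁻¹ * u * g) a₀ ∧ act (g⁻¹ * u * g) a₀ = a₀ ∧
      finrank F ((LinearMap.range (lmap K g a₀)).comap (act u ∘ₗ lmap K g a₀)) ≤
        finrank F (ExtF.lineD K (g⁻¹ * u * g) a₀) := by
  have hga : act (g⁻¹ * u * g) a₀ = a₀ := by
    have h2 := hfix 1
    rw [one_smul] at h2
    rw [act_mul, act_mul, h2, act_inv_act]
  refine ⟨⟨M.mul_mem (M.mul_mem (M.inv_mem h.mem) hu) h.mem, h.sing, by rw [hga]; exact h.sing, j₀, ?_⟩, hga, ?_⟩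
  · rw [hga]
    intro hm
    obtain ⟨i, hi⟩ := Submodule.mem_span_singleton.1 hm
    refine hj₀ ⟨i, ?_⟩
    rw [lmap_apply, hi, act_mul, act_mul, act_act_inv]
  · let T : K →ₗ[F] (ι → F) := lmap K (g⁻¹ * u * g) a₀
    rw [(Submodule.equivMapOfInjective T (lmap_injective _ h.ne_zero) _).finrank_eq,
      (Submodule.equivMapOfInjective ((LinearMap.toSpanSingleton K (ι → F) a₀).restrictScalars F)
        (smul_left_injective K h.ne_zero) (ExtF.lineD K (g⁻¹ * u * g) a₀)).finrank_eq]
    refine Submodule.finrank_mono ?_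
    rintro _ ⟨j, ⟨i, hi⟩, rfl⟩
    have he : act (g⁻¹ * u * g) (j • a₀) = i • a₀ := by
      rw [act_mul, act_mul]
      rw [LinearMap.comp_apply, lmap_apply, lmap_apply] at hi
      rw [← hi, act_inv_act]
    exact ⟨i, (ExtF.mem_lineD _ _ _).2 ⟨j, by rw [hga, he]⟩, he.symm⟩

/-- an element fixing the point and one further image vector modulo the image stabilises the image -/
theorem stable_of {g : GL ι F} {a₀ : ι → F} (h : IsMax Φ M g a₀) {u : GL ι F} (hu : u ∈ M)
    (hfix : ∀ k : K, act u (k • act g a₀) = k • act g a₀) {j : K}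
    (hj : act g (j • a₀) ∉ (K ∙ act g a₀))
    (huj : act u (act g (j • a₀)) ∈ LinearMap.range (lmap K g a₀)) (i : K) :
    act u (act g (i • a₀)) ∈ LinearMap.range (lmap K g a₀) := by
  by_contra hi
  obtain ⟨hc, -, hle⟩ := cand_conj hA h.toCand hu hfix hi
  have hlt : finrank F (((K ∙ act g a₀).restrictScalars F).comap (lmap K g a₀)) <
      finrank F ((LinearMap.range (lmap K g a₀)).comap (act u ∘ₗ lmap K g a₀)) := by
    refine Submodule.finrank_lt_finrank_of_lt (lt_of_le_of_ne (fun c hc => ?_) fun e => hj ?_)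
    · obtain ⟨k, hk⟩ := Submodule.mem_span_singleton.1 (show lmap K g a₀ c ∈ (K ∙ act g a₀) from hc)
      exact ⟨c, by rw [LinearMap.comp_apply, ← hk, hfix]⟩
    · have : j ∈ (LinearMap.range (lmap K g a₀)).comap (act u ∘ₗ lmap K g a₀) := huj
      rw [← e] at this
      exact this
  have := le_finrank_pre h.toCand
  have := h.le _ _ hc
  omega

/-- a candidate exists -/
theorem exists_cand (hd : 4 ≤ finrank K (ι → F)) {g₀ : GL ι F} (hg₀ : g₀ ∈ M)
    (hns : ¬ ExtF.IsSemi K g₀) : ∃ g a₀, Cand Φ M g a₀ := by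
  haveI : Module.Finite K (ι → F) := Module.Finite.right F K (ι → F)
  obtain ⟨a₀, haa₀, k, hk⟩ : ∃ a, Φ a a = 0 ∧ ∃ k : K, act g₀ (k • a) ∉ (K ∙ act g₀ a) := by
    by_contra hc
    push Not at hc
    exact hns (isSemi_of_lines hA (by omega) hc)
  set a := act g₀ a₀ with ha
  by_cases haa : Φ a a = 0
  · exact ⟨g₀, a₀, hg₀, haa₀, haa, k, hk⟩
  have ha₀ : a₀ ≠ 0 := by
    rintro rfl
    simp [ha] at haa
  have hane : a ≠ 0 := fun h => by simp [h] at haa
  set L := LinearMap.range (lmap K g₀ a₀) with hL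
  -- otherwise the stabiliser of the image of the point stabilises the image of the line
  suffices H : ∃ u ∈ M, act u a = a ∧ ∃ j : K, act u (act g₀ (j • a₀)) ∉ L by
    obtain ⟨u, hu, hua, j, hj⟩ := H
    have hga : act (g₀⁻¹ * u * g₀) a₀ = a₀ := by rw [act_mul, act_mul, ← ha, hua, ha, act_inv_act]
    refine ⟨g₀⁻¹ * u * g₀, a₀, M.mul_mem (M.mul_mem (M.inv_mem hg₀) hu) hg₀, haa₀, by rw [hga]; exact haa₀, j, ?_⟩
    rw [hga]
    intro hm
    obtain ⟨i, hi⟩ := Submodule.mem_span_singleton.1 hm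
    exact hj ⟨i, by rw [lmap_apply, hi, act_mul, act_mul, act_act_inv]⟩
  by_contra hc
  push Not at hc
  set W := LinearMap.ker (Φ a) with hWdef
  have hW : NDeg Φ W := by
    have := ndeg_perp hA (ndeg_top hA) (Submodule.mem_top (x := a)) haa
    rwa [top_inf_eq] at this
  have hWd := finrank_ker_ge (Φ a)
  rw [← hWdef] at hWd
  obtain ⟨s₀, hs₀, hs₀0, hss₀⟩ := exists_singular hA hW (by omega)
  obtain ⟨x, hax, hlx⟩ := exists_separate hA hane hk
  obtain ⟨s, hs, hss, hsl⟩ := exists_singular_not_perp hA hW hs₀ hs₀0 hss₀ (l := act g₀ (k • a₀))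
    (x := x) hax (by rwa [hA.symm])
  have hs0 : s ≠ 0 := fun e => by simp [e] at hsl
  have has : Φ a s = 0 := hs
  obtain ⟨t, ht, htt, hst⟩ := exists_partner hA hW hs hs0 hss
  have hat : Φ a t = 0 := ht
  have haP : a ∈ LinearMap.ker (Φ s) ⊓ LinearMap.ker (Φ t) :=
    ⟨show Φ s a = 0 by rw [hA.symm, has], show Φ t a = 0 by rw [hA.symm, hat]⟩
  obtain ⟨v, hv, hvv⟩ := exists_nonsingular hA
    (ndeg_perp hA (ndeg_pair hA hss htt (by rw [hst]; exact one_ne_zero)) haP haa) (by
      have h1 := finrank_inf_ker_ge (LinearMap.ker (Φ s)) (Φ t)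
      have h2 := finrank_ker_ge (Φ s)
      have h3 := finrank_inf_ker_ge (LinearMap.ker (Φ s) ⊓ LinearMap.ker (Φ t)) (Φ a)
      omega)
  have hsv : Φ s v = 0 := hv.1.1
  have hav : Φ a v = 0 := hv.2
  set l := act g₀ (k • a₀) with hl
  set m := Φ v v * Φ s l with hm
  have hsq : ∀ c : K, (c * c * m) • s ∈ L := by
    intro c
    obtain ⟨u, hu, hux, -⟩ := exists_E hA hss (v := c • v) (by rw [map_smul, hsv, smul_zero])
    obtain ⟨u', hu', hux', -⟩ := exists_E hA hss (v := -(c • v)) (by rw [map_neg, map_smul, hsv, smul_zero, neg_zero])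
    have hfixu : act u a = a := by
      rw [hux, map_smul, LinearMap.smul_apply, hA.symm s a, has, hA.symm v a, hav]; simp
    have hfixu' : act u' a = a := by
      rw [hux', map_neg, map_smul, LinearMap.neg_apply, LinearMap.smul_apply, hA.symm s a, has, hA.symm v a, hav]
      simp
    have h1 := hc u hu hfixu k
    have h2 := hc u' hu' hfixu' k
    rw [← hl, hux] at h1
    rw [← hl, hux'] at h2
    have h3 : l ∈ L := ⟨k, rfl⟩
    have h := L.sub_mem (L.add_mem h3 h3) (L.add_mem h1 h2)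
    convert h using 1
    have := two_ne hA
    simp only [hm, map_neg, map_smul, LinearMap.neg_apply, LinearMap.smul_apply, smul_eq_mul]
    match_scalars <;> field_simp <;> ring
  have hm0 : m ≠ 0 := mul_ne_zero hvv hsl
  have hKs : (K ∙ s).restrictScalars F ≤ L := by
    intro y hy
    obtain ⟨c, rfl⟩ := Submodule.mem_span_singleton.1 hy
    have hmem := L.sub_mem (L.sub_mem (hsq (c / (2 * m) + 1)) (hsq (c / (2 * m)))) (hsq 1)
    convert hmem using 1
    have := two_ne hA
    match_scalars <;> field_simp <;> ring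
  have hle : finrank F L ≤ finrank F ((K ∙ s).restrictScalars F) := by
    have h1 : finrank F L ≤ finrank F K := LinearMap.finrank_range_le _
    have h2 : finrank F ((K ∙ s).restrictScalars F) = finrank F K := by
      have e : ((⊤ : Submodule F K).map ((LinearMap.toSpanSingleton K (ι → F) s).restrictScalars F)) =
          (K ∙ s).restrictScalars F := by
        ext y
        simp [Submodule.mem_span_singleton]
      rw [← e, ← (Submodule.equivMapOfInjective _ (smul_left_injective K hs0) ⊤).finrank_eq, finrank_top]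
    omega
  have haL : a ∈ (K ∙ s).restrictScalars F := by
    rw [Submodule.eq_of_le_of_finrank_le hKs hle]
    exact ⟨1, by rw [lmap_apply, one_smul, ← ha]⟩
  obtain ⟨c, hcs⟩ := Submodule.mem_span_singleton.1 haL
  exact haa (by rw [← hcs]; simp [hss])

/-- the image of the line in a best candidate is orthogonal to the point if one further vector of it is -/
theorem orth_of_one (hd : 4 ≤ finrank K (ι → F)) {g : GL ι F} {a₀ : ι → F} (h : IsMax Φ M g a₀) {j : K}
    (hj : act g (j • a₀) ∉ (K ∙ act g a₀)) (hφ : Φ (act g a₀) (act g (j • a₀)) = 0) (i : K) :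
    Φ (act g a₀) (act g (i • a₀)) = 0 := by
  haveI : Module.Finite K (ι → F) := Module.Finite.right F K (ι → F)
  by_contra hi
  have hane := h.toCand.image_ne_zero
  set a := act g a₀ with ha
  have haa : Φ a a = 0 := h.sing'
  set l := act g (j • a₀) with hl
  set φ := Φ a (act g (i • a₀)) with hφ'
  set U := LinearMap.ker (Φ a) ⊓ LinearMap.ker (Φ l) with hU
  obtain ⟨v', hv', hv'a⟩ : ∃ v' ∈ U, v' ∉ (K ∙ a) := by
    by_contra hcon
    push Not at hcon
    have h1 := Submodule.finrank_mono hcon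
    rw [finrank_span_singleton hane] at h1
    have h2 := finrank_ker_ge (Φ a)
    have h3 := finrank_inf_ker_ge (LinearMap.ker (Φ a)) (Φ l)
    rw [hU] at h1
    omega
  have hav' : Φ a v' = 0 := hv'.1
  have hlv' : Φ l v' = 0 := hv'.2
  obtain ⟨z, haz, hv'z⟩ := exists_separate hA hane hv'a
  obtain ⟨k, hk0, hk⟩ : ∃ k : K, k ≠ 0 ∧ k * Φ z l ∈ ExtF.lineD K g a₀ := by
    rcases eq_or_ne (Φ z l) 0 with h0 | h0
    · exact ⟨1, one_ne_zero, by rw [h0, mul_zero]; exact zero_mem _⟩
    · exact ⟨(Φ z l)⁻¹, inv_ne_zero h0, by rw [inv_mul_cancel₀ h0]; exact one_mem_lineD g a₀⟩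
  have stab : ∀ v, Φ a v = 0 → Φ v l ∈ ExtF.lineD K g a₀ → ∀ c : K,
      Φ a (act g (c • a₀)) • v - (Φ v (act g (c • a₀)) + Φ v v / 2 * Φ a (act g (c • a₀))) • a ∈
        LinearMap.range (lmap K g a₀) := by
    intro v hav hvl c
    obtain ⟨u, hu, hux, -⟩ := exists_E hA haa hav
    have hfix : ∀ e : K, act u (e • a) = e • a := fun e => by
      rw [hux, map_smul, map_smul (Φ v), haa, hA.symm v a, hav]; simp
    have hul : act u l ∈ LinearMap.range (lmap K g a₀) := by
      rw [hux, hφ, zero_smul, add_zero, mul_zero, add_zero]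
      exact Submodule.sub_mem _ ⟨j, rfl⟩ (mem_range_lmap_smul.2 hvl)
    have h1 := stable_of hA h hu hfix hj hul c
    rw [hux] at h1
    convert Submodule.sub_mem _ h1 (⟨c, rfl⟩ : act g (c • a₀) ∈ LinearMap.range (lmap K g a₀)) using 1
    abel
  obtain ⟨c₁, hc₁⟩ := stab (k • z) (by rw [map_smul, haz, smul_zero])
    (by rwa [map_smul, LinearMap.smul_apply, smul_eq_mul]) i
  rw [lmap_apply] at hc₁
  set m := act g (c₁ • a₀) with hm
  have ham : Φ a m = 0 := by
    rw [hc₁]; simp [haz, haa]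
  have hv'm : Φ v' m = 0 := eq_zero_of_mul_mem h.toCand fun c => by
    have h1 := stab (c • v') (by rw [map_smul, hav', smul_zero])
      (by rw [map_smul, LinearMap.smul_apply, hA.symm v' l, hlv', smul_zero]; exact zero_mem _) c₁
    rw [← hm, ham, zero_smul, zero_sub, mul_zero, add_zero, Submodule.neg_mem_iff, mem_range_lmap_smul,
      map_smul, LinearMap.smul_apply, smul_eq_mul] at h1
    exact h1
  rw [hc₁, map_sub, map_smul (Φ v'), map_smul (Φ v') k, map_smul (Φ v'), hA.symm v' a, hav', smul_zero, sub_zero,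
    smul_eq_mul, smul_eq_mul, mul_eq_zero, mul_eq_zero, or_iff_right hi, or_iff_right hk0] at hv'm
  exact hv'z hv'm

/-- a best candidate with image of the line orthogonal to the point -/
theorem exists_max_orth (hd : 4 ≤ finrank K (ι → F)) {g₀ : GL ι F} (hg₀ : g₀ ∈ M)
    (hns : ¬ ExtF.IsSemi K g₀) :
    ∃ g a₀, IsMax Φ M g a₀ ∧ ∀ i : K, Φ (act g a₀) (act g (i • a₀)) = 0 := by
  classical
  haveI : Module.Finite K (ι → F) := Module.Finite.right F K (ι → F)
  let S : Set ℕ := {n | ∃ g a₀, Cand Φ M g a₀ ∧ finrank F (ExtF.lineD K g a₀) = n}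
  have hbound : ∀ n ∈ S, n ≤ finrank F K := by
    rintro n ⟨g, a, -, rfl⟩
    exact Submodule.finrank_le _
  obtain ⟨g₁, a₁, hc₁⟩ := exists_cand hA hd hg₀ hns
  obtain ⟨g, a₀, hc, hfin⟩ : Nat.findGreatest (· ∈ S) (finrank F K) ∈ S :=
    Nat.findGreatest_spec (hbound _ ⟨g₁, a₁, hc₁, rfl⟩) ⟨g₁, a₁, hc₁, rfl⟩
  have hmax : IsMax Φ M g a₀ := ⟨hc, fun g' a' h' => by
    rw [hfin]; exact Nat.le_findGreatest (hbound _ ⟨g', a', h', rfl⟩) ⟨g', a', h', rfl⟩⟩
  by_cases hall : ∀ i : K, Φ (act g a₀) (act g (i • a₀)) = 0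
  · exact ⟨g, a₀, hmax, hall⟩
  push Not at hall
  obtain ⟨j, hj⟩ := hall
  have hker : ∀ c : K, Φ (act g a₀) (act g (c • a₀)) = 0 → act g (c • a₀) ∈ (K ∙ act g a₀) := fun c h => by
    by_contra hn
    exact hj (orth_of_one hA hd hmax hn h j)
  have hane := hc.image_ne_zero
  set a := act g a₀ with ha
  have haa : Φ a a = 0 := hc.sing'
  set φ := Φ a (act g (j • a₀)) with hφ
  set A₀ := ((K ∙ a).restrictScalars F).comap (lmap K g a₀) with hA₀
  obtain ⟨A', hA'⟩ := Submodule.exists_isCompl A₀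
  have hadd := Submodule.finrank_add_eq_of_isCompl hA'
  have h1A : (1 : K) ∈ A₀ := by
    show lmap K g a₀ 1 ∈ (K ∙ a)
    rw [lmap_apply, one_smul, ← ha]
    exact Submodule.mem_span_singleton_self a
  have hpos : 0 < finrank F A₀ :=
    Module.finrank_pos_iff_exists_ne_zero.2 ⟨⟨1, h1A⟩, fun e => one_ne_zero (congrArg Subtype.val e)⟩
  obtain ⟨C₁, hC₁⟩ := Submodule.exists_isCompl ((K ∙ a).restrictScalars F)
  set C := (LinearMap.ker (Φ a)).restrictScalars F ⊓ C₁ with hC
  have hCdim : 2 * finrank F A' < finrank F C := by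
    have h1 := Submodule.finrank_add_eq_of_isCompl hC₁
    have h2 := Submodule.finrank_sup_add_finrank_inf_eq ((LinearMap.ker (Φ a)).restrictScalars F) C₁
    have h3 := Submodule.finrank_le ((LinearMap.ker (Φ a)).restrictScalars F ⊔ C₁)
    have h4 : finrank F ((LinearMap.ker (Φ a)).restrictScalars F) =
        finrank F K * finrank K (LinearMap.ker (Φ a)) :=
      (Module.finrank_mul_finrank F K (LinearMap.ker (Φ a))).symm
    have h5 : finrank F ((K ∙ a).restrictScalars F) = finrank F K := by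
      rw [show finrank F ((K ∙ a).restrictScalars F) = finrank F K * finrank K (K ∙ a) from
        (Module.finrank_mul_finrank F K (K ∙ a)).symm, finrank_span_singleton hane, mul_one]
    have h6 := finrank_ker_ge (Φ a)
    have h7 : finrank F K * 3 ≤ finrank F K * finrank K (LinearMap.ker (Φ a)) :=
      Nat.mul_le_mul_left _ (by omega)
    rw [← hC] at h2
    rw [h4] at h2
    omega
  letI := Fintype.ofFinite F
  let bs := Module.finBasis F A'
  let l := act g (j • a₀)
  let b : Fin (finrank F A') → (ι → F) →ₗ[F] (ι → F) →ₗ[F] F := fun i =>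
    LinearMap.mk₂ F (fun v v' => -B (act g ((bs i : K) • a₀)) ((Φ v v' / 2 * φ) • a))
      (fun v v' w => by
        rw [map_add, LinearMap.add_apply, add_div, add_mul, add_smul, Orth.B_add_right Q, neg_add])
      (fun t v w => by
        rw [← algebraMap_smul K t v, LinearMap.map_smul Φ (algebraMap F K t) v, LinearMap.smul_apply, smul_eq_mul,
          mul_div_assoc, mul_assoc, mul_smul, algebraMap_smul, Orth.B_smul_right Q, smul_eq_mul, mul_neg])
      (fun v w w' => by rw [map_add, add_div, add_mul, add_smul, Orth.B_add_right Q, neg_add])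
      (fun t v w => by
        rw [← algebraMap_smul K t w, LinearMap.map_smul (Φ v) (algebraMap F K t) w, smul_eq_mul, mul_div_assoc,
          mul_assoc, mul_smul, algebraMap_smul, Orth.B_smul_right Q, smul_eq_mul, mul_neg])
  let f : Fin (finrank F A') → (ι → F) →ₗ[F] F := fun i =>
    { toFun := fun v => B (act g ((bs i : K) • a₀)) (φ • v - Φ v l • a)
      map_add' := fun v w => by
        rw [← Orth.B_add_right Q, smul_add, map_add, LinearMap.add_apply, add_smul]
        congr 1
        abel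
      map_smul' := fun t v => by
        rw [← algebraMap_smul K t v, LinearMap.map_smul Φ (algebraMap F K t) v, LinearMap.smul_apply, smul_eq_mul,
          smul_comm, mul_smul, ← smul_sub,
          algebraMap_smul, Orth.B_smul_right Q, RingHom.id_apply, smul_eq_mul] }
  obtain ⟨v, hv, hv0, hroot⟩ := exists_common_root C hCdim b f
  have hav : Φ a v = 0 := hv.1
  obtain ⟨u, hu, hux, -⟩ := exists_E hA haa hav
  have hfix : ∀ e : K, act u (e • a) = e • a := fun e => by
    rw [hux, map_smul, map_smul (Φ v), haa, hA.symm v a, hav]; simp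
  have hul : act u l ∉ LinearMap.range (lmap K g a₀) := by
    intro hmem
    obtain ⟨c, hc'⟩ := Submodule.sub_mem _ hmem (⟨j, rfl⟩ : l ∈ LinearMap.range (lmap K g a₀))
    rw [hux, lmap_apply] at hc'
    have he : act g (c • a₀) = φ • v - (Φ v l + Φ v v / 2 * φ) • a := by
      rw [hc']
      simp only [hφ, l]
      abel
    have h1 := hker c (by rw [he]; simp [hav, haa])
    rw [he, Submodule.sub_mem_iff_left _ (Submodule.smul_mem _ _ (Submodule.mem_span_singleton_self a)),
      Submodule.smul_mem_iff _ hj] at h1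
    exact hv0 ((Submodule.disjoint_def.1 hC₁.disjoint) v h1 hv.2)
  obtain ⟨hc', hga, hle⟩ := cand_conj hA hc hu hfix hul
  have hA₀le : A₀ ≤ (LinearMap.range (lmap K g a₀)).comap (act u ∘ₗ lmap K g a₀) := fun c hcA => by
    obtain ⟨k, hk⟩ := Submodule.mem_span_singleton.1 (show lmap K g a₀ c ∈ (K ∙ a) from hcA)
    exact ⟨c, by rw [LinearMap.comp_apply, ← hk, hfix]⟩
  have hge : finrank F (ExtF.lineD K g a₀) ≤ finrank F (ExtF.lineD K (g⁻¹ * u * g) a₀) :=
    (le_finrank_pre hc).trans ((Submodule.finrank_mono hA₀le).trans hle)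
  have hmax' : IsMax Φ M (g⁻¹ * u * g) a₀ := ⟨hc', fun g' a' h' => (hmax.le g' a' h').trans hge⟩
  -- the new image is orthogonal to the point
  let T : K →ₗ[F] F :=
    { toFun := fun c => B (act g (c • a₀)) (act u l)
      map_add' := fun x y => by rw [add_smul, map_add, Orth.B_add_left Q]
      map_smul' := fun t x => by rw [smul_assoc, map_smul, Orth.B_smul_left Q, RingHom.id_apply, smul_eq_mul] }
  have hgi := iso_of_mem hA hc.mem
  have hui := iso_of_mem hA hu
  have hlines : ∀ c d : K, B (act g (c • a₀)) (act g (d • a₀)) = 0 := fun c d => by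
    rw [Orth.B_act hgi, B_of_perp hA hc.sing]
  have hT : A₀ ⊔ A' ≤ LinearMap.ker T := by
    refine sup_le (fun c hcA => ?_) fun c hcA => ?_
    · obtain ⟨k, hk⟩ := Submodule.mem_span_singleton.1 (show lmap K g a₀ c ∈ (K ∙ a) from hcA)
      show B (act g (c • a₀)) (act u l) = 0
      rw [← lmap_apply, ← hk, ← hfix k, Orth.B_act hui, hk, lmap_apply, hlines]
    · have hb : ∀ i, T (bs i : K) = 0 := fun i => by
        show B (act g ((bs i : K) • a₀)) (act u l) = 0
        rw [hux, ← hroot i]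
        show B _ _ = -B _ _ + B _ _
        rw [show l + Φ a l • v - (Φ v l + Φ v v / 2 * Φ a l) • a =
          l + ((φ • v - Φ v l • a) - (Φ v v / 2 * φ) • a) by simp only [hφ, l]; module,
          Orth.B_add_right Q, Orth.B_sub_right Q, hlines]
        ring
      have hz : T ∘ₗ A'.subtype = 0 := bs.ext fun i => hb i
      exact LinearMap.congr_fun hz ⟨c, hcA⟩
  refine ⟨g⁻¹ * u * g, a₀, hmax', orth_of_one hA hd hmax' (j := j) ?_ ?_⟩
  · rw [hga]
    intro hm
    obtain ⟨i, hi⟩ := Submodule.mem_span_singleton.1 hm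
    exact hul ⟨i, by rw [lmap_apply, hi, act_mul, act_mul, act_act_inv]⟩
  · rw [hga]
    refine perp_of_B hA fun c => ?_
    rw [← Orth.B_act hgi, act_mul, act_mul, act_act_inv]
    exact hT (hA'.sup_eq_top ▸ Submodule.mem_top)

/-- a best candidate with image of the line orthogonal to the point gives the configuration -/
theorem config_of_max (hr : (finrank F K).Prime) {g : GL ι F} {a₀ : ι → F} (h : IsMax Φ M g a₀)
    (horth : ∀ i : K, Φ (act g a₀) (act g (i • a₀)) = 0) :
    ∃ g ∈ M, ∃ (a₀ v : ι → F) (j₁ : K) (l : K →ₗ[F] F),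
      a₀ ≠ 0 ∧ Φ a₀ a₀ = 0 ∧ Φ (act g a₀) (act g a₀) = 0 ∧
      act g (j₁ • a₀) ∉ (K ∙ act g a₀) ∧
      finrank F (ExtF.lineD K g a₀) + 1 = finrank F K ∧ l 1 = 0 ∧ l j₁ = 1 ∧
      (∀ i : K, Φ (act g a₀) (act g (i • a₀)) = 0) ∧
      Φ (act g a₀) v = 0 ∧ ∀ i : K, Φ v (act g (i • a₀)) = -algebraMap F K (l i) := by
  have hane := h.toCand.image_ne_zero
  set a := act g a₀ with ha
  have haa : Φ a a = 0 := h.sing'
  obtain ⟨j₁, hj₁⟩ := h.moved
  obtain ⟨v, hav, hjv⟩ := exists_separate hA hane hj₁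
  obtain ⟨ψ, hψ⟩ : ∃ ψ : K →ₗ[F] K, ∀ j, ψ j = Φ v (act g (j • a₀)) :=
    ⟨(Φ v).restrictScalars F ∘ₗ lmap K g a₀, fun j => rfl⟩
  have hψ₁ : ψ j₁ ≠ 0 := by rwa [hψ, hA.symm]
  set D := ExtF.lineD K g a₀ with hD
  have htr : ∀ k : K, ∃ u ∈ M, (∀ e : K, act u (e • a) = e • a) ∧
      ∀ j, act u (act g (j • a₀)) = act g (j • a₀) - (k * ψ j) • a := by
    intro k
    obtain ⟨u, hu, hux, -⟩ := exists_E hA haa (v := k • v) (by rw [map_smul, hav, smul_zero])
    refine ⟨u, hu, fun e => ?_, fun j => ?_⟩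
    · rw [hux, map_smul (Φ a) e a, map_smul (Φ (k • v)) e a, LinearMap.map_smul Φ k v, LinearMap.smul_apply, haa,
        hA.symm v a, hav]
      simp
    · rw [hux, horth, zero_smul, add_zero, mul_zero, add_zero, LinearMap.map_smul Φ k v, LinearMap.smul_apply,
        smul_eq_mul, hψ]
  have hmem : ∀ (j x : K), act g (j • a₀) - x • a ∈ LinearMap.range (lmap K g a₀) ↔ x ∈ D := fun j x => by
    rw [Submodule.sub_mem_iff_right _ (⟨j, rfl⟩ : act g (j • a₀) ∈ LinearMap.range (lmap K g a₀)), ha,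
      mem_range_lmap_smul]
  have hDtop : finrank F D < finrank F K := lineD_lt h.toCand
  let Stab : Subalgebra F K :=
    { carrier := {c | ∀ d ∈ D, c * d ∈ D}
      mul_mem' := fun {x y} hx hy d hd => by rw [mul_assoc]; exact hx _ (hy d hd)
      one_mem' := fun d hd => by rwa [one_mul]
      add_mem' := fun {x y} hx hy d hd => by rw [add_mul]; exact D.add_mem (hx d hd) (hy d hd)
      zero_mem' := fun d _ => by rw [zero_mul]; exact D.zero_mem
      algebraMap_mem' := fun c d hd => by rw [← Algebra.smul_def]; exact D.smul_mem c hd }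
  have hStab : Stab = ⊥ := by
    haveI := Subalgebra.isSimpleOrder_of_finrank_prime F K hr
    refine (IsSimpleOrder.eq_bot_or_eq_top Stab).resolve_right fun hb => ?_
    rw [(eq_top_iff.2 fun c _ => by
      have := (hb ▸ Algebra.mem_top : c ∈ Stab) 1 (one_mem_lineD g a₀)
      rwa [mul_one] at this : D = ⊤), finrank_top] at hDtop
    omega
  have hline : ∀ j, ∃ t : F, ψ j = t • ψ j₁ := by
    intro j
    have hmemS : ψ j / ψ j₁ ∈ Stab := by
      intro d hd
      obtain ⟨u, hu, hfix, hux⟩ := htr (d / ψ j₁)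
      have h1 := stable_of hA h hu hfix hj₁ (by rw [hux, hmem, div_mul_cancel₀ _ hψ₁]; exact hd) j
      rw [hux, hmem] at h1
      rwa [div_mul_eq_mul_div, mul_comm, ← div_mul_eq_mul_div]
    obtain ⟨t, ht⟩ := Algebra.mem_bot.1 (hStab ▸ hmemS)
    exact ⟨t, by rw [Algebra.smul_def, ht, div_mul_cancel₀ _ hψ₁]⟩
  choose t ht using hline
  have hinj : Function.Injective fun s : F => s • ψ j₁ := smul_left_injective F hψ₁
  let l : K →ₗ[F] F :=
    { toFun := t
      map_add' := fun x y => hinj (by simp only [add_smul, ← ht, map_add])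
      map_smul' := fun c x => hinj (by simp only [RingHom.id_apply, smul_eq_mul, mul_smul, ← ht, map_smul]) }
  have hl : ∀ j, ψ j = l j • ψ j₁ := ht
  have hl1 : l j₁ = 1 := hinj (by show l j₁ • ψ j₁ = (1 : F) • ψ j₁; rw [one_smul, ← hl])
  have hl0 : l 1 = 0 := hinj (by
    show l 1 • ψ j₁ = (0 : F) • ψ j₁
    rw [zero_smul, ← hl, hψ, one_smul, ← ha, hA.symm, hav])
  -- the kernel is small
  have hkerl : finrank F (LinearMap.ker l) ≤ finrank F D := by
    obtain ⟨c, hc⟩ : ∃ c, c ∉ D := by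
      by_contra hcon
      push Not at hcon
      rw [(eq_top_iff.2 fun x _ => hcon x : D = ⊤), finrank_top] at hDtop
      omega
    obtain ⟨u, hu, hfix, hux⟩ := htr (c / ψ j₁)
    obtain ⟨hc', -, hle⟩ := cand_conj hA h.toCand hu hfix (j₀ := j₁)
      (by rw [hux, hmem, div_mul_cancel₀ _ hψ₁]; exact hc)
    refine ((Submodule.finrank_mono fun i hi => ?_).trans hle).trans (h.le _ _ hc')
    refine ⟨i, ?_⟩
    rw [LinearMap.comp_apply, lmap_apply, hux, hl i, show l i = 0 from hi]
    simp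
  have hrange : finrank F (LinearMap.range l) ≤ 1 := (Submodule.finrank_le _).trans_eq (Module.finrank_self F)
  have hrn := LinearMap.finrank_range_add_finrank_ker l
  rw [hD] at hkerl hDtop
  refine ⟨g, h.mem, a₀, -(ψ j₁)⁻¹ • v, j₁, l, h.toCand.ne_zero, h.sing, haa, hj₁, by omega, hl0, hl1, horth,
    by rw [map_smul, hav, smul_zero], fun i => ?_⟩
  rw [LinearMap.map_smul Φ (-(ψ j₁)⁻¹) v, LinearMap.smul_apply, ← hψ i, hl i, smul_eq_mul, Algebra.smul_def]
  field_simp

/-- the configuration -/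
theorem exists_config (hr : (finrank F K).Prime) (hd : 4 ≤ finrank K (ι → F)) {g₀ : GL ι F} (hg₀ : g₀ ∈ M)
    (hns : ¬ ExtF.IsSemi K g₀) :
    ∃ g ∈ M, ∃ (a₀ v : ι → F) (j₁ : K) (l : K →ₗ[F] F),
      a₀ ≠ 0 ∧ Φ a₀ a₀ = 0 ∧ Φ (act g a₀) (act g a₀) = 0 ∧
      act g (j₁ • a₀) ∉ (K ∙ act g a₀) ∧
      finrank F (ExtF.lineD K g a₀) + 1 = finrank F K ∧ l 1 = 0 ∧ l j₁ = 1 ∧
      (∀ i : K, Φ (act g a₀) (act g (i • a₀)) = 0) ∧
      Φ (act g a₀) v = 0 ∧ ∀ i : K, Φ v (act g (i • a₀)) = -algebraMap F K (l i) := by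
  obtain ⟨g, a₀, h, horth⟩ := exists_max_orth hA hd hg₀ hns
  exact config_of_max hA hr h horth

end Cfsg.Agent.MaxCl.OExt
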