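/-
A finite field of odd characteristic over a subfield of prime index at least five: quadratic functions vanishing on
the squares vanish, the torus orbits of a skew map fill hyperplanes, and twisted symmetric products are independent.
-/
import Cfsg.Agent.Lib.MaxCl.SympExtField
import Cfsg.Agent.Lib.MaxCl.FieldSubalgebra

set_option autoImplicit false
set_option linter.unusedSectionVars false
set_option maxHeartbeats 800000

namespace Cfsg.Agent.MaxCl.OExtF

open Module (finrank)

variable {F : Type*} [Field F] [Finite F] {K : Type*} [Field K] [Algebra F K] [Module.Finite F K]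

local notation "tr" => Algebra.trace F K

theorem eq_scalar_of_quadratic (hr : (finrank F K).Prime) (h3 : 3 ≤ finrank F K) {y : K} {p q : F}
    (h : y * y = p • y + algebraMap F K q) : ∃ e : F, algebraMap F K e = y := by
  set S := Submodule.span F ({1, y} : Set K) with hS
  have hmul : ∀ a ∈ S, ∀ b ∈ S, a * b ∈ S := by
    intro a ha b hb
    obtain ⟨a₁, a₂, rfl⟩ := Submodule.mem_span_pair.1 ha
    obtain ⟨b₁, b₂, rfl⟩ := Submodule.mem_span_pair.1 hb
    refine Submodule.mem_span_pair.2 ⟨a₁ * b₁ + a₂ * b₂ * q, a₁ * b₂ + a₂ * b₁ + a₂ * b₂ * p, ?_⟩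
    simp only [Algebra.smul_def, map_add, map_mul, mul_one] at h ⊢
    linear_combination -(algebraMap F K a₂ * algebraMap F K b₂) * h
  let A : Subalgebra F K :=
    { carrier := S
      mul_mem' := fun {a b} ha hb => hmul a ha b hb
      one_mem' := Submodule.subset_span (Set.mem_insert _ _)
      add_mem' := fun {a b} ha hb => S.add_mem ha hb
      zero_mem' := S.zero_mem
      algebraMap_mem' := fun c => by
        rw [Algebra.algebraMap_eq_smul_one]
        exact S.smul_mem c (Submodule.subset_span (Set.mem_insert _ _)) }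
  haveI := Subalgebra.isSimpleOrder_of_finrank_prime F K hr
  have hy : y ∈ A := Submodule.subset_span (Set.mem_insert_of_mem _ rfl)
  rcases IsSimpleOrder.eq_bot_or_eq_top A with hA | hA
  · exact Algebra.mem_bot.1 (hA ▸ hy)
  · have hle : (⊤ : Submodule F K) ≤ S := fun x _ => (hA ▸ Algebra.mem_top : x ∈ A)
    have h1 := Submodule.finrank_mono hle
    rw [finrank_top] at h1
    classical
    have h2 := finrank_span_le_card (R := F) ({1, y} : Set K)
    have h4 : Set.toFinset ({1, y} : Set K) = {1, y} := by simp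
    rw [h4] at h2
    have h2' : finrank F S ≤ ({1, y} : Finset K).card := h2
    have := Finset.card_le_two (a := (1 : K)) (b := y)
    omega

theorem exists_fourth_not_scalar (hr : (finrank F K).Prime) (h3 : 3 ≤ finrank F K) :
    ∃ k : K, ∀ e : F, algebraMap F K e ≠ k * k * (k * k) := by
  obtain ⟨k, hk⟩ := ExtF.exists_not_scalar (F := F) (K := K) hr.one_lt
  have sq : ∀ x : K, (∀ e : F, algebraMap F K e ≠ x) → ∀ e : F, algebraMap F K e ≠ x * x := by
    intro x hx e he
    obtain ⟨e', he'⟩ := eq_scalar_of_quadratic hr h3 (y := x) (p := 0) (q := e) (by rw [zero_smul, zero_add, he])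
    exact hx e' he'
  exact ⟨k, sq _ (sq _ hk)⟩

/-- the fourth powers span the field -/
theorem eq_zero_of_fourth (hr : (finrank F K).Prime) (h3 : 3 ≤ finrank F K) {l : K →ₗ[F] F}
    (h : ∀ k : K, l (k * k * (k * k)) = 0) (x : K) : l x = 0 := by
  set S := Submodule.span F (Set.range fun k : K => k * k * (k * k)) with hS
  have hl : S ≤ LinearMap.ker l := Submodule.span_le.2 fun _ ⟨k, hk⟩ => hk ▸ h k
  let C : Subalgebra F K :=
    { carrier := {c | ∀ s ∈ S, c * s ∈ S}
      mul_mem' := fun {a b} ha hb s hs => by rw [mul_assoc]; exact ha _ (hb s hs)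
      one_mem' := fun s hs => by rwa [one_mul]
      add_mem' := fun {a b} ha hb s hs => by rw [add_mul]; exact S.add_mem (ha s hs) (hb s hs)
      zero_mem' := fun s _ => by rw [zero_mul]; exact S.zero_mem
      algebraMap_mem' := fun c s hs => by rw [← Algebra.smul_def]; exact S.smul_mem c hs }
  have hmem : ∀ k : K, k * k * (k * k) ∈ C := fun k s hs => by
    induction hs using Submodule.span_induction with
    | mem y hy =>
      obtain ⟨j, rfl⟩ := hy
      exact Submodule.subset_span ⟨k * j, by ring⟩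
    | zero => rw [mul_zero]; exact S.zero_mem
    | add y z _ _ hy hz => rw [mul_add]; exact S.add_mem hy hz
    | smul c y _ hy => rw [mul_smul_comm]; exact S.smul_mem c hy
  haveI := Subalgebra.isSimpleOrder_of_finrank_prime F K hr
  have hC : C = ⊤ := (IsSimpleOrder.eq_bot_or_eq_top C).resolve_left fun hb => by
    obtain ⟨k, hk⟩ := exists_fourth_not_scalar hr h3
    obtain ⟨e, he⟩ := Algebra.mem_bot.1 (hb ▸ hmem k)
    exact hk e he
  have h1 : (1 : K) ∈ S := Submodule.subset_span ⟨1, by simp⟩
  have := (hC ▸ Algebra.mem_top : x ∈ C) 1 h1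
  rw [mul_one] at this
  exact hl this

/-- a quadratic function vanishing on the squares vanishes -/
theorem quad_vanish (hr : (finrank F K).Prime) (h3 : 3 ≤ finrank F K) (h2 : (2 : F) ≠ 0)
    (L : K →ₗ[F] K →ₗ[F] F) (h : ∀ k : K, L (k * k) (k * k) = 0) (x : K) : L x x = 0 := by
  have key : ∀ k : K, 4 * L k k = -(L (k * k) 1 + L 1 (k * k)) := by
    intro k
    have e1 := h (k + 1)
    have e2 := h (k - 1)
    rw [show (k + 1) * (k + 1) = (k * k + 1) + (2 : F) • k by rw [Algebra.smul_def, map_ofNat]; ring] at e1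
    rw [show (k - 1) * (k - 1) = (k * k + 1) - (2 : F) • k by rw [Algebra.smul_def, map_ofNat]; ring] at e2
    have e3 := h k
    have e4 := h 1
    rw [mul_one] at e4
    simp only [map_add, map_sub, map_smul, LinearMap.add_apply, LinearMap.sub_apply, LinearMap.smul_apply,
      smul_eq_mul] at e1 e2
    refine mul_left_cancel₀ h2 ?_
    linear_combination e1 + e2 - 2 * e3 - 2 * e4
  have hl : ∀ y, (L.flip 1 + L 1) y = 0 := eq_zero_of_fourth hr h3 fun k => by
    rw [LinearMap.add_apply, LinearMap.flip_apply]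
    have := key (k * k)
    rw [h k, mul_zero] at this
    linear_combination this
  have h1 := key x
  have h5 : L (x * x) 1 + L 1 (x * x) = 0 := by simpa using hl (x * x)
  rw [h5, neg_zero] at h1
  exact (mul_eq_zero.1 h1).resolve_left (by rw [show (4 : F) = 2 * 2 by norm_num]; exact mul_ne_zero h2 h2)

/-- a vector orthogonal to a hyperplane is a multiple of its normal -/
theorem exists_eq_of_perp {u x : K} (hu : u ≠ 0) (h : ∀ s, tr (s * u) = 0 → tr (s * x) = 0) :
    ∃ e : F, algebraMap F K e * u = x := by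
  obtain ⟨k, hk⟩ := SpExt.exists_trace_eq (F := F) (K := K) 1
  refine ⟨tr (k / u * x), SpExt.ext_trace (F := F) fun y => ?_⟩
  have h1 := h (y - tr (y * u) • (k / u)) (by
    rw [sub_mul, map_sub, smul_mul_assoc, (tr).map_smul, div_mul_cancel₀ _ hu, hk, smul_eq_mul, mul_one, sub_self])
  rw [sub_mul, map_sub, smul_mul_assoc, (tr).map_smul, smul_eq_mul, sub_eq_zero] at h1
  rw [← Algebra.smul_def, mul_smul_comm, (tr).map_smul, smul_eq_mul, h1]
  ring

/-- `t ↦ tr (t a) b - tr (t b) a` -/
noncomputable def wedge (a b : K) : K →ₗ[F] K :=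
  (Algebra.trace F K ∘ₗ LinearMap.mulRight F a).smulRight b -
    (Algebra.trace F K ∘ₗ LinearMap.mulRight F b).smulRight a

theorem wedge_apply (a b t : K) : wedge (F := F) a b t = tr (t * a) • b - tr (t * b) • a := rfl

/-- conjugation of a map by a multiplication -/
noncomputable def twist (μ : K) (X : K →ₗ[F] K) : K →ₗ[F] K :=
  LinearMap.mulLeft F μ ∘ₗ X ∘ₗ LinearMap.mulLeft F μ

theorem twist_apply (μ : K) (X : K →ₗ[F] K) (t : K) : twist μ X t = μ * X (μ * t) := rfl

theorem twist_wedge (μ a b : K) : twist μ (wedge (F := F) a b) = wedge (μ * a) (μ * b) := by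
  refine LinearMap.ext fun t => ?_
  simp only [twist_apply, wedge_apply, mul_sub, mul_smul_comm]
  rw [show μ * t * a = t * (μ * a) by ring, show μ * t * b = t * (μ * b) by ring]

/-- the torus orbit of a non-zero skew map fills the hyperplane orthogonal to any vector -/
theorem exists_image (hr : (finrank F K).Prime) (h3 : 3 ≤ finrank F K) (h2 : (2 : F) ≠ 0)
    {Z : Submodule F (K →ₗ[F] K)} (htw : ∀ X ∈ Z, ∀ k : K, twist (k * k) X ∈ Z) {X₀ : K →ₗ[F] K} (hX₀ : X₀ ∈ Z)
    (hne : X₀ ≠ 0) (hskew : ∀ t, tr (t * X₀ t) = 0) {t₀ : K} (ht₀ : t₀ ≠ 0) {c : K} (hc : tr (c * t₀) = 0) :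
    ∃ X ∈ Z, X t₀ = c := by
  set ev : (K →ₗ[F] K) →ₗ[F] K := LinearMap.applyₗ t₀ with hev
  suffices c ∈ Z.map ev by
    obtain ⟨X, hX, hXc⟩ := this
    exact ⟨X, hX, hXc⟩
  by_contra hcS
  obtain ⟨f, hf, hfS⟩ := Submodule.exists_le_ker_of_notMem hcS
  obtain ⟨w, hw⟩ := SpExt.exists_trace_repr f
  let L : K →ₗ[F] K →ₗ[F] F := LinearMap.mk₂ F (fun x y => tr (x * X₀ (y * t₀) * w))
    (fun x x' y => by rw [add_mul, add_mul, map_add])
    (fun e x y => by rw [smul_mul_assoc, smul_mul_assoc, (tr).map_smul])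
    (fun x y y' => by rw [add_mul, map_add, mul_add, add_mul, map_add])
    (fun e x y => by rw [smul_mul_assoc, map_smul, mul_smul_comm, smul_mul_assoc, (tr).map_smul])
  have hL : ∀ x, L x x = 0 := quad_vanish hr h3 h2 L fun k => by
    show tr (k * k * X₀ (k * k * t₀) * w) = 0
    rw [← hw]
    exact hfS ⟨_, htw X₀ hX₀ k, rfl⟩
  have hpol : ∀ x y, tr (x * X₀ (y * t₀) * w) + tr (y * X₀ (x * t₀) * w) = 0 := fun x y => by
    have h := hL (x + y)
    simp only [map_add, LinearMap.add_apply] at h
    have hx := hL x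
    have hy := hL y
    simp only [L, LinearMap.mk₂_apply] at h hx hy
    linear_combination h - hx - hy
  have hsk : ∀ x y, tr (x * X₀ y) + tr (y * X₀ x) = 0 := fun x y => by
    have h := hskew (x + y)
    rw [map_add, add_mul, mul_add, mul_add, map_add, map_add, map_add] at h
    linear_combination h - hskew x - hskew y
  have hw0 : w ≠ 0 := fun e => hf (by
    rw [hw, e, mul_zero, map_zero])
  -- the map commutes with a multiplication
  set α := w / t₀ with hα
  have hcomm : ∀ z, X₀ (α * z) = α * X₀ z := fun z => SpExt.ext_trace (F := F) fun x => by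
    have e1 := hpol x (z / t₀)
    rw [div_mul_cancel₀ _ ht₀] at e1
    have e2 := hsk (α * z) (x * t₀)
    have e3 := hsk x (α * z)
    have e4 := hpol (z / t₀) (x / t₀)
    have e5 := hpol (x / t₀) (z / t₀)
    rw [div_mul_cancel₀ _ ht₀, div_mul_cancel₀ _ ht₀] at e5
    have a1 : x / t₀ * X₀ z * w = x * (α * X₀ z) := by rw [hα]; field_simp
    have a2 : z / t₀ * X₀ x * w = α * z * X₀ x := by rw [hα]; field_simp
    rw [a1, a2] at e5
    linear_combination e3 - e5
  have hαF : ∃ e : F, algebraMap F K e = α := by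
    by_contra hα'
    push Not at hα'
    let C : Subalgebra F K :=
      { carrier := {a | ∀ z, X₀ (a * z) = a * X₀ z}
        mul_mem' := fun {a b} ha hb z => by rw [mul_assoc, ha, hb, mul_assoc]
        one_mem' := fun z => by rw [one_mul, one_mul]
        add_mem' := fun {a b} ha hb z => by rw [add_mul, map_add, ha, hb, add_mul]
        zero_mem' := fun z => by rw [zero_mul, zero_mul, map_zero]
        algebraMap_mem' := fun e z => by rw [← Algebra.smul_def, map_smul, Algebra.smul_def] }
    haveI := Subalgebra.isSimpleOrder_of_finrank_prime F K hr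
    have hC : C = ⊤ := (IsSimpleOrder.eq_bot_or_eq_top C).resolve_left fun hb => by
      have hαC : α ∈ C := hcomm
      rw [hb] at hαC
      obtain ⟨e, he⟩ := Algebra.mem_bot.1 hαC
      exact hα' e he
    refine hne (LinearMap.ext fun t => ?_)
    have hlin : ∀ a, X₀ a = a * X₀ 1 := fun a => by
      have := (hC ▸ Algebra.mem_top : a ∈ C) 1
      rwa [mul_one] at this
    have h0 : X₀ 1 = 0 := SpExt.ext_trace (F := F) fun y => by
      have h := hsk 1 y
      rw [one_mul, hlin y, ← two_mul, mul_eq_zero] at h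
      rw [mul_zero, map_zero]
      exact h.resolve_left h2
    rw [hlin, h0, mul_zero, LinearMap.zero_apply]
  obtain ⟨e, he⟩ := hαF
  refine hf ?_
  rw [hw, show w = algebraMap F K e * t₀ by rw [he, hα, div_mul_cancel₀ _ ht₀], mul_left_comm, ← Algebra.smul_def,
    (tr).map_smul, hc, smul_zero]

/-- twists of the wedges with a hyperplane of second factors give all wedges -/
theorem wedge_mem (hr : (finrank F K).Prime) (h3 : 3 ≤ finrank F K) (h2 : (2 : F) ≠ 0)
    {Z : Submodule F (K →ₗ[F] K)} (htw : ∀ X ∈ Z, ∀ k : K, twist (k * k) X ∈ Z) {u : K} (hu : u ≠ 0)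
    (hmem : ∀ b, tr (b * u) = 0 → wedge (1 : K) b ∈ Z) (c : K) : wedge (1 : K) c ∈ Z := by
  by_contra hcZ
  obtain ⟨Θ, hΘ, hΘZ⟩ := Submodule.exists_le_ker_of_notMem hcZ
  have hex : ∀ a : K, ∃ o : K, ∀ b, Θ (wedge a b) = tr (b * o) := fun a =>
    SpExt.exists_trace_repr
      { toFun := fun b => Θ (wedge a b)
        map_add' := fun b b' => by
          rw [← map_add]; congr 1; ext t
          simp only [wedge_apply, LinearMap.add_apply, mul_add, map_add, add_smul, smul_add]; abel
        map_smul' := fun e b => by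
          rw [RingHom.id_apply, ← map_smul]; congr 1; ext t
          simp only [wedge_apply, LinearMap.smul_apply, mul_smul_comm, map_smul, smul_smul, smul_sub, smul_eq_mul]
          module }
  choose o ho using hex
  let O : K →ₗ[F] K :=
    { toFun := o
      map_add' := fun a a' => SpExt.ext_trace (F := F) fun b => by
        rw [← ho, mul_add, map_add, ← ho, ← ho, ← map_add]; congr 1; ext t
        simp only [wedge_apply, LinearMap.add_apply, mul_add, map_add, add_smul, smul_add]; abel
      map_smul' := fun e a => SpExt.ext_trace (F := F) fun b => by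
        rw [← ho, RingHom.id_apply, mul_smul_comm, (tr).map_smul, ← ho, ← map_smul]; congr 1; ext t
        simp only [wedge_apply, LinearMap.smul_apply, mul_smul_comm, map_smul, smul_smul, smul_sub, smul_eq_mul]
        module }
  have hO : ∀ a b, Θ (wedge a b) = tr (b * O a) := ho
  have hline : ∀ x : K, ∃ e : F, algebraMap F K e * u = x * O x := fun x => by
    refine exists_eq_of_perp hu fun b hb => ?_
    let L : K →ₗ[F] K →ₗ[F] F := LinearMap.mk₂ F (fun x y => tr (b * (x * O y)))
      (fun x x' y => by rw [add_mul, mul_add, map_add])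
      (fun e x y => by rw [smul_mul_assoc, mul_smul_comm, (tr).map_smul])
      (fun x y y' => by rw [map_add, mul_add, mul_add, map_add])
      (fun e x y => by rw [map_smul, mul_smul_comm, mul_smul_comm, (tr).map_smul])
    refine quad_vanish hr h3 h2 L (fun k => ?_) x
    show tr (b * (k * k * O (k * k))) = 0
    rw [← mul_assoc, ← hO, show wedge (F := F) (k * k) (b * (k * k)) = twist (k * k) (wedge 1 b) by
      rw [twist_wedge, mul_one, mul_comm b]]
    exact hΘZ (htw _ (hmem b hb) k)
  refine hΘ ?_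
  rw [hO]
  suffices O 1 = 0 by rw [this, mul_zero, map_zero]
  by_contra hne
  obtain ⟨e₁, he₁⟩ := hline 1
  rw [one_mul] at he₁
  obtain ⟨y, hy⟩ := ExtF.exists_not_scalar (F := F) (K := K) hr.one_lt
  have hy0 : y ≠ 0 := fun h => hy 0 (by rw [map_zero, h])
  obtain ⟨e₂, he₂⟩ := hline y
  obtain ⟨e₃, he₃⟩ := hline (1 + y)
  rw [map_add] at he₃
  have he10 : e₁ ≠ 0 := fun h => hne (by rw [← he₁, h, map_zero, zero_mul])
  have hq : u * (algebraMap F K e₁ * (y * y) + (algebraMap F K e₁ + algebraMap F K e₂ - algebraMap F K e₃) * y +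
      algebraMap F K e₂) = 0 := by
    linear_combination y * (1 + y) * he₁ + (1 + y) * he₂ - y * he₃
  rw [mul_eq_zero, or_iff_right hu] at hq
  obtain ⟨e, he⟩ := eq_scalar_of_quadratic hr h3 (y := y) (p := -((e₁ + e₂ - e₃) / e₁)) (q := -(e₂ / e₁)) (by
    rw [Algebra.smul_def]
    simp only [map_neg, map_div₀, map_sub, map_add]
    have h0 : algebraMap F K e₁ ≠ 0 := (map_ne_zero _).2 he10
    field_simp
    linear_combination hq)
  exact hy e he

/-! ### Galois twists -/

theorem fixed_scalar (hr : (finrank F K).Prime) {τ : K ≃ₐ[F] K} (hτ : τ ≠ 1) {x : K} (hx : τ x = x) :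
    ∃ e : F, algebraMap F K e = x := by
  let C : Subalgebra F K := AlgHom.equalizer τ.toAlgHom (AlgHom.id F K)
  haveI := Subalgebra.isSimpleOrder_of_finrank_prime F K hr
  rcases IsSimpleOrder.eq_bot_or_eq_top C with hC | hC
  · have hxC : x ∈ C := hx
    rw [hC] at hxC
    exact Algebra.mem_bot.1 hxC
  · refine absurd (AlgEquiv.ext fun y => ?_) hτ
    exact (show y ∈ C by rw [hC]; exact Algebra.mem_top)

theorem mem_zpowers (hr : (finrank F K).Prime) {σ : K ≃ₐ[F] K} (hσ : σ ≠ 1) (τ : K ≃ₐ[F] K) :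
    τ ∈ Subgroup.zpowers σ := by
  haveI := Fact.mk hr
  haveI : Finite K := Module.finite_of_finite F
  exact mem_zpowers_of_prime_card (IsGalois.card_aut_eq_finrank F K) hσ

/-- a twisted recursion of order two has at most a plane of solutions -/
theorem finrank_twisted_le (hr : (finrank F K).Prime) {τ : K ≃ₐ[F] K} (hτ : τ ≠ 1) {c₁ c₀ c₂ : K} (hc₁ : c₁ ≠ 0)
    (hc₂ : c₂ ≠ 0) {S : Submodule F K} (hS : ∀ x ∈ S, c₁ * τ (τ x) + c₀ * τ x + c₂ * x = 0) :
    finrank F S ≤ 2 := by
  by_contra hgt
  obtain ⟨x₁, hx₁, hx₁0⟩ := Submodule.exists_mem_ne_zero_of_ne_bot (p := S) fun e => by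
    rw [e, finrank_bot] at hgt; omega
  let ψ : S →ₗ[F] K :=
    (τ.toLinearMap - LinearMap.id) ∘ₗ LinearMap.mulRight F x₁⁻¹ ∘ₗ S.subtype
  have hψ : ∀ x : S, ψ x = τ ((x : K) / x₁) - (x : K) / x₁ := fun x => by simp [ψ, div_eq_mul_inv]
  have hker : finrank F (LinearMap.ker ψ) ≤ 1 := by
    refine le_trans ?_ (finrank_span_singleton (K := F) (v := (⟨x₁, hx₁⟩ : S)) fun e => hx₁0 (congrArg Subtype.val e)).le
    refine Submodule.finrank_mono fun x hx => ?_
    rw [LinearMap.mem_ker, hψ, sub_eq_zero] at hx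
    obtain ⟨e, he⟩ := fixed_scalar hr hτ hx
    refine Submodule.mem_span_singleton.2 ⟨e, Subtype.ext ?_⟩
    rw [Submodule.coe_smul, Algebra.smul_def, he, div_mul_cancel₀ _ hx₁0]
  have hrange : ∀ z ∈ LinearMap.range ψ, c₁ * τ (τ x₁) * τ z = c₂ * x₁ * z := by
    rintro z ⟨x, rfl⟩
    have h1 := hS x x.2
    have h2 := hS x₁ hx₁
    obtain ⟨y, hy⟩ : ∃ y, y = (x : K) / x₁ := ⟨_, rfl⟩
    have hxy : (x : K) = x₁ * y := by rw [hy, mul_div_cancel₀ _ hx₁0]
    rw [hψ, ← hy]
    rw [hxy, map_mul, map_mul] at h1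
    rw [map_sub]
    linear_combination h1 - τ y * h2
  have hr1 : finrank F (LinearMap.range ψ) ≤ 1 := by
    by_contra hgt'
    obtain ⟨z₁, hz₁, hz₁0⟩ := Submodule.exists_mem_ne_zero_of_ne_bot (p := LinearMap.range ψ) fun e => by
      rw [e, finrank_bot] at hgt'; omega
    refine hgt' (le_trans (Submodule.finrank_mono fun z hz => ?_) (finrank_span_singleton (K := F) hz₁0).le)
    have ha : c₁ * τ (τ x₁) ≠ 0 := mul_ne_zero hc₁ (by simpa using hx₁0)
    obtain ⟨e, he⟩ := fixed_scalar hr hτ (x := z / z₁) (by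
      have h1 := hrange z hz
      have h2 := hrange z₁ hz₁
      have hb : c₂ * x₁ * z₁ ≠ 0 := mul_ne_zero (mul_ne_zero hc₂ hx₁0) hz₁0
      have hτz : τ z₁ ≠ 0 := by simpa using hz₁0
      rw [map_div₀, div_eq_div_iff hτz hz₁0]
      refine mul_left_cancel₀ ha ?_
      linear_combination z₁ * h1 - z * h2)
    exact Submodule.mem_span_singleton.2 ⟨e, by rw [Algebra.smul_def, he, div_mul_cancel₀ _ hz₁0]⟩
  have := LinearMap.finrank_range_add_finrank_ker ψ
  omega

/-- a twisted symmetric product is not a product on the trace-zero elements -/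
theorem twisted_eq_zero (hr : (finrank F K).Prime) (h5 : 5 ≤ finrank F K) {τ : K ≃ₐ[F] K} (hτ : τ ≠ 1) {D w : K}
    (h : ∀ s t, tr s = 0 → tr t = 0 → tr (D * (s * τ t + t * τ s)) = tr (w * (s * t))) : D = 0 := by
  by_contra hD
  let Λ : K →ₗ[F] K := LinearMap.mulLeft F D ∘ₗ τ.toLinearMap +
    τ.symm.toLinearMap ∘ₗ LinearMap.mulLeft F D - LinearMap.mulLeft F w
  let P := LinearMap.ker (Algebra.trace F K)
  have hmem : ∀ t ∈ P, Λ t ∈ (F ∙ (1 : K)) := by
    intro t ht
    obtain ⟨e, he⟩ := exists_eq_of_perp (F := F) (u := (1 : K)) (x := Λ t) one_ne_zero fun s hs => by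
      rw [mul_one] at hs
      have h1 := h s t hs ht
      have h2 : tr (s * τ.symm (D * t)) = tr (D * t * τ s) := by
        rw [← Algebra.trace_eq_of_algEquiv τ (s * τ.symm (D * t)), map_mul, AlgEquiv.apply_symm_apply, mul_comm]
      simp only [Λ, LinearMap.add_apply, LinearMap.sub_apply, LinearMap.comp_apply, LinearMap.mulLeft_apply,
        AlgEquiv.toLinearMap_apply, mul_add, mul_sub, map_add, map_sub, h2]
      rw [mul_add, map_add] at h1
      rw [show s * (D * τ t) = D * (s * τ t) by ring, show D * t * τ s = D * (t * τ s) by ring,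
        show s * (w * t) = w * (s * t) by ring, h1, sub_self]
    exact Submodule.mem_span_singleton.2 ⟨e, by rw [Algebra.smul_def, he]⟩
  let g : P →ₗ[F] (F ∙ (1 : K)) := LinearMap.codRestrict _ (Λ ∘ₗ P.subtype) fun t => hmem t t.2
  have h1 := LinearMap.finrank_range_add_finrank_ker g
  have h2 := Submodule.finrank_le (LinearMap.range g)
  rw [finrank_span_singleton one_ne_zero] at h2
  have h3 := LinearMap.finrank_range_add_finrank_ker (Algebra.trace F K)
  rw [LinearMap.range_eq_top.2 (Algebra.trace_surjective F K), finrank_top, Module.finrank_self] at h3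
  have h4 : finrank F ((LinearMap.ker g).map P.subtype) ≤ 2 := by
    refine finrank_twisted_le hr hτ (c₁ := τ D) (c₀ := -τ w) (c₂ := D) (by simpa using hD) hD ?_
    rintro _ ⟨t, ht, rfl⟩
    have h0 : Λ t = 0 := congrArg Subtype.val (LinearMap.mem_ker.1 ht)
    have := congrArg τ h0
    simp only [Λ, LinearMap.add_apply, LinearMap.sub_apply, LinearMap.comp_apply, LinearMap.mulLeft_apply,
      AlgEquiv.toLinearMap_apply, map_add, map_sub, map_mul, AlgEquiv.apply_symm_apply, map_zero] at this
    simp only [Submodule.coe_subtype]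
    linear_combination this
  rw [Submodule.finrank_map_subtype_eq] at h4
  have h6 : finrank F P = finrank F (LinearMap.ker (Algebra.trace F K)) := rfl
  omega

end Cfsg.Agent.MaxCl.OExtF
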