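/-
The normaliser of a field of self-adjoint maps is maximal in the derived orthogonal group: the commutator of two
Siegel elements over the extension field, one of them conjugated by an element inducing a transvection on a singular
line, is a long root element, and these spread to all Siegel elements.
-/
import Cfsg.Agent.Lib.MaxCl.OrthExtConfig

set_option autoImplicit false
set_option linter.unusedSectionVars false
set_option maxHeartbeats 1600000

namespace Cfsg.Agent.MaxCl.OExt

open scoped MatrixGroups Matrix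
open Module (finrank)

variable {ι : Type} [Fintype ι] [DecidableEq ι] {F : Type*} [Field F] [Finite F]
  {K : Type*} [Field K] [Algebra F K] [Module K (ι → F)] [IsScalarTower F K (ι → F)] [Module.Finite F K]
variable {Q : QuadraticForm F (ι → F)} {Φ : (ι → F) →ₗ[K] (ι → F) →ₗ[K] K} {M : Subgroup (GL ι F)}

set_option quotPrecheck false in
local notation "B" => QuadraticMap.polar (⇑Q)

local notation "tr" => Algebra.trace F K

theorem exists_not_mem_of_finrank {P : Submodule F K} (h : 2 ≤ finrank F P) :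
    ∃ c ∈ P, ∀ e : F, algebraMap F K e ≠ c := by
  by_contra hc
  push Not at hc
  have h1 : P ≤ F ∙ (1 : K) := fun c hcP => by
    obtain ⟨e, he⟩ := hc c hcP
    exact Submodule.mem_span_singleton.2 ⟨e, by rw [← he, Algebra.algebraMap_eq_smul_one]⟩
  have := Submodule.finrank_mono h1
  rw [finrank_span_singleton one_ne_zero] at this
  omega

variable (hA : Amb Q Φ M)
include hA

theorem ndeg_pair_in {W : Submodule K (ι → F)} (hW : NDeg Φ W) {a b : ι → F} (haW : a ∈ W) (hbW : b ∈ W)
    (ha : Φ a a = 0) (hb : Φ b b = 0) (hab : Φ a b ≠ 0) :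
    NDeg Φ (W ⊓ (LinearMap.ker (Φ a) ⊓ LinearMap.ker (Φ b))) := by
  rintro x ⟨hxW, hxa, hxb⟩ hx0
  replace hxa : Φ a x = 0 := hxa
  replace hxb : Φ b x = 0 := hxb
  obtain ⟨y, hyW, hy⟩ := hW x hxW hx0
  have hba : Φ b a ≠ 0 := by rwa [hA.symm]
  refine ⟨y - (Φ b y / Φ b a) • a - (Φ a y / Φ a b) • b,
    ⟨W.sub_mem (W.sub_mem hyW (W.smul_mem _ haW)) (W.smul_mem _ hbW), ?_, ?_⟩, ?_⟩
  · show Φ a _ = 0
    rw [map_sub, map_sub, map_smul, map_smul, ha, smul_eq_mul, smul_eq_mul, mul_zero, sub_zero,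
      div_mul_cancel₀ _ hab, sub_self]
  · show Φ b _ = 0
    rw [map_sub, map_sub, map_smul, map_smul, hb, smul_eq_mul, smul_eq_mul, mul_zero, sub_zero,
      div_mul_cancel₀ _ hba, sub_self]
  · rwa [map_sub, map_sub, map_smul, map_smul, hA.symm x a, hA.symm x b, hxa, hxb, smul_zero, smul_zero,
      sub_zero, sub_zero]

/-- all long root elements of the line of a singular point of the configuration -/
theorem exists_line_roots (hd : 4 ≤ finrank K (ι → F)) {g : GL ι F} (hg : g ∈ M) {a₀ v : ι → F} {j₁ : K}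
    {l : K →ₗ[F] F} (ha₀ : a₀ ≠ 0) (haa₀ : Φ a₀ a₀ = 0) (haa : Φ (act g a₀) (act g a₀) = 0)
    (hD : finrank F (ExtF.lineD K g a₀) + 1 = finrank F K) (hl0 : l 1 = 0) (hl1 : l j₁ = 1)
    (horth : ∀ i : K, Φ (act g a₀) (act g (i • a₀)) = 0) (hav : Φ (act g a₀) v = 0)
    (hv : ∀ i : K, Φ v (act g (i • a₀)) = -algebraMap F K (l i)) (c : K) :
    Orth.sg Q a₀ (c • a₀) ∈ M := by
  haveI : Module.Finite K (ι → F) := Module.Finite.right F K (ι → F)
  set a := act g a₀ with ha
  set D := ExtF.lineD K g a₀ with hDdef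
  obtain ⟨κ, k₁, hk₁, hκD, hproj⟩ : ∃ κ k₁ : K, tr (k₁ * κ) = 1 ∧ (∀ d ∈ D, tr (d * κ) = 0) ∧
      ∀ s : K, s - tr (s * κ) • k₁ ∈ D := by
    have hlt : D < ⊤ := lt_top_iff_ne_top.2 fun h => by rw [h, finrank_top] at hD; omega
    obtain ⟨f, hf0, hfD⟩ := Submodule.exists_le_ker_of_lt_top D hlt
    obtain ⟨κ, hκ⟩ := SpExt.exists_trace_repr f
    obtain ⟨k, hk⟩ : ∃ k, f k ≠ 0 := by
      by_contra h; push Not at h; exact hf0 (LinearMap.ext h)
    have heq : D = LinearMap.ker f := Submodule.eq_of_le_of_finrank_le hfD (by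
      have := Submodule.finrank_lt (lt_top_iff_ne_top.1 (lt_of_le_of_ne (le_top : LinearMap.ker f ≤ ⊤)
        fun h => hf0 (LinearMap.ker_eq_top.1 h)))
      omega)
    refine ⟨κ, (f k)⁻¹ • k, ?_, fun d hd => ?_, fun s => ?_⟩
    · rw [← hκ, map_smul, smul_eq_mul, inv_mul_cancel₀ hk]
    · rw [← hκ]; exact hfD hd
    · rw [heq, LinearMap.mem_ker, ← hκ, map_sub, map_smul, map_smul, smul_eq_mul, smul_eq_mul, inv_mul_cancel₀ hk,
        mul_one, sub_self]
  obtain ⟨lam, hlam⟩ := SpExt.exists_trace_repr l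
  have hlam0 : lam ≠ 0 := by
    intro h
    have := hlam j₁
    rw [h, mul_zero, map_zero, hl1] at this
    exact one_ne_zero this
  have hgi := iso_of_mem hA hg
  -- the transvection of the line
  obtain ⟨u, hu, hux, -⟩ := exists_E hA haa hav
  have hui := iso_of_mem hA hu
  set h := g⁻¹ * u * g with hh
  have hhM : h ∈ M := M.mul_mem (M.mul_mem (M.inv_mem hg) hu) hg
  have hhi := iso_of_mem hA hhM
  set σ : K → K := fun k => k + algebraMap F K (l k) with hσ
  have hline : ∀ k : K, act h (k • a₀) = σ k • a₀ := fun k => by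
    rw [hh, act_mul, act_mul, hux, horth, hv, zero_smul, add_zero, mul_zero, add_zero, neg_smul, sub_neg_eq_add,
      algebraMap_smul, ha, map_add, (act g⁻¹).map_smul, act_inv_act, act_inv_act, hσ, add_smul, algebraMap_smul]
  have htau : ∀ x, Φ a₀ (act h⁻¹ x) = Φ a₀ x + tr (Φ a₀ x) • lam := fun x => by
    refine SpExt.ext_trace (F := F) fun k => ?_
    rw [trace_mul hA, ← Orth.B_act hhi, act_act_inv, hline, ← trace_mul hA, mul_add, mul_smul_comm, map_add,
      (Algebra.trace F K).map_smul, hσ, add_mul, map_add, ← Algebra.smul_def, (Algebra.trace F K).map_smul, hlam,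
      smul_eq_mul, smul_eq_mul]
    ring
  set e₀ := act g⁻¹ (k₁ • a) with he₀
  set ζ₀ := act g⁻¹ (κ • v) with hζ₀
  have hinv : ∀ z, Φ a₀ z = 0 → B e₀ z = 0 →
      ∃ i : K, act h⁻¹ z = z + B ζ₀ z • e₀ + i • a₀ := by
    intro z hz hze
    have hgz : ∀ k : K, B (act g (k • a₀)) (act g z) = 0 := fun k => by
      rw [Orth.B_act hgi, ← trace_mul hA, hz, mul_zero, map_zero]
    have haz : Φ a (act g z) = 0 := perp_of_B hA fun k => by
      obtain ⟨i, hi⟩ := (ExtF.mem_lineD g a₀ _).1 (hproj k)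
      have e : k • a = (k - tr (k * κ) • k₁) • a + tr (k * κ) • (k₁ • a) := by rw [sub_smul, smul_assoc]; abel
      rw [e, Orth.B_add_left Q, Orth.B_smul_left Q, ← hi, hgz, zero_add]
      rw [he₀, ← Orth.B_act hgi, act_act_inv] at hze
      rw [hze, mul_zero]
    set s := Φ v (act g z) with hs
    have ht : tr (s * κ) = B ζ₀ z := by
      rw [mul_comm, hs, trace_mul hA, hζ₀, ← Orth.B_act hgi (act g⁻¹ (κ • v)), act_act_inv]
    obtain ⟨i, hi⟩ := (ExtF.mem_lineD g a₀ _).1 (hproj s)
    refine ⟨i, act_injective h ?_⟩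
    rw [act_act_inv]
    refine act_injective g ?_
    have e : act g (z + B ζ₀ z • e₀ + i • a₀) = act g z + s • a := by
      rw [map_add, map_add, map_smul, he₀, act_act_inv, hi, ← ht, sub_smul, smul_assoc, ← ha]
      abel
    rw [hh, act_mul, act_mul, act_act_inv, e, hux, map_add, map_smul, map_add, map_smul, haa, haz, hA.symm v a,
      hav, ← hs]
    simp
  -- the commutator
  have key : ∀ y y' : ι → F, Φ a₀ y = 0 → Φ a₀ y' = 0 → Φ e₀ y' = 0 → ∃ w ∈ M, ∀ z,
      act w z = z + (algebraMap F K (tr (Φ a₀ z)) * (lam * Φ y y' + l (Φ e₀ y) • Φ y' ζ₀) -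
        algebraMap F K (tr (Φ a₀ z * (lam * Φ y y' + l (Φ e₀ y) • Φ y' ζ₀))) +
        algebraMap F K (tr (Φ a₀ z * Φ e₀ y)) * Φ y' ζ₀ -
        algebraMap F K (tr (Φ a₀ z * Φ y' ζ₀)) * Φ e₀ y) • a₀ := by
    intro y y' hy hy' hey'
    obtain ⟨q, hq, hqx, -⟩ := exists_E hA haa₀ hy'
    obtain ⟨p₀, hp₀, hp₀x, -⟩ := exists_E hA haa₀ hy
    set p := h * p₀ * h⁻¹ with hp
    have hpM : p ∈ M := M.mul_mem (M.mul_mem hhM hp₀) (M.inv_mem hhM)
    have hpfix : ∀ k : K, act p (k • a₀) = k • a₀ := fun k => by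
      have h1 : Φ a₀ (act h⁻¹ (k • a₀)) = 0 := by rw [htau, map_smul, haa₀]; simp
      obtain ⟨k', hk'⟩ : ∃ k' : K, act h⁻¹ (k • a₀) = k' • a₀ := by
        refine ⟨k - algebraMap F K (l k), act_injective h ?_⟩
        rw [act_act_inv, hline, hσ]
        simp only [map_sub, sub_smul, add_smul, LinearMap.map_sub]
        rw [show l (algebraMap F K (l k)) = 0 by rw [Algebra.algebraMap_eq_smul_one, map_smul, hl0, smul_zero]]
        simp
      have h2 : Φ y (k' • a₀) = 0 := by rw [map_smul, hA.symm y a₀, hy, smul_zero]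
      rw [hp, act_mul, act_mul, hp₀x, h1, hk', h2]
      simp only [zero_smul, add_zero, mul_zero, sub_zero]
      rw [← hk', act_act_inv]
    have hqfix : ∀ k : K, act q (k • a₀) = k • a₀ := fun k => by
      rw [hqx, map_smul, map_smul (Φ y') k a₀, haa₀, hA.symm y' a₀, hy']; simp
    have hkeep : ∀ {w : GL ι F}, w ∈ M → (∀ k : K, act w (k • a₀) = k • a₀) →
        ∀ x, Φ a₀ (act w x) = Φ a₀ x := fun {w} hw hwf x =>
      SpExt.ext_trace (F := F) fun k => by
        rw [trace_mul hA, ← hwf k, Orth.B_act (iso_of_mem hA hw), ← trace_mul hA]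
    refine ⟨p * q * (q * p)⁻¹, M.mul_mem (M.mul_mem hpM hq) (M.inv_mem (M.mul_mem hq hpM)), fun z => ?_⟩
    obtain ⟨x, rfl⟩ : ∃ x, act (q * p) x = z := ⟨act (q * p)⁻¹ z, act_act_inv _ z⟩
    rw [act_mul, act_inv_act]
    have ht : Φ a₀ (act (q * p) x) = Φ a₀ x := by rw [act_mul, hkeep hq hqfix, hkeep hpM hpfix]
    rw [ht]
    set t := Φ a₀ x with htdef
    set ε := Φ y y' with hε
    set θ := Φ y' ζ₀ with hθ
    set π := Φ e₀ y with hπ
    have hpty : act p (t • y') = t • y' - σ (t * ε + tr (t * θ) • π) • a₀ := by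
      have hz : Φ a₀ (t • y') = 0 := by rw [map_smul, hy', smul_zero]
      have h1 : Φ a₀ (act h⁻¹ (t • y')) = 0 := by rw [htau, hz]; simp
      obtain ⟨i, hi⟩ := hinv (t • y') hz (by rw [← trace_mul' hA, hey', mul_zero, map_zero])
      have hzt : B ζ₀ (t • y') = tr (t * θ) := by rw [← trace_mul' hA, hA.symm ζ₀ y']
      have h2 : Φ y (act h⁻¹ (t • y')) = t * ε + tr (t * θ) • π := by
        rw [hi, hzt, map_add, map_add, map_smul, map_smul (Φ y) i, hA.symm y a₀, hy, ← algebraMap_smul K _ e₀,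
          map_smul, hA.symm y e₀, smul_zero, add_zero, smul_eq_mul, algebraMap_smul]
      rw [hp, act_mul, act_mul, hp₀x, h1, h2]
      simp only [zero_smul, add_zero, mul_zero, map_sub, act_act_inv, hline]
    have hy'h : ∀ w : ι → F, Φ a₀ w = 0 → Φ y' (act h w) = Φ y' w + B e₀ w • θ := by
      intro w hw
      refine SpExt.ext_trace (F := F) fun k => ?_
      obtain ⟨i, hi⟩ := hinv (k • y') (by rw [map_smul, hy', smul_zero])
        (by rw [← trace_mul' hA, hey', mul_zero, map_zero])
      have hzt : B ζ₀ (k • y') = tr (k * θ) := by rw [← trace_mul' hA, hA.symm ζ₀ y']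
      rw [trace_mul hA, ← act_act_inv h (k • y'), Orth.B_act hhi, hi, hzt, Orth.B_add_left Q, Orth.B_add_left Q,
        Orth.B_smul_left Q, show B (i • a₀) w = 0 by rw [← trace_mul hA, hw, mul_zero, map_zero], add_zero,
        ← trace_mul hA k y' w, mul_add, map_add, mul_smul_comm, (Algebra.trace F K).map_smul, smul_eq_mul]
      ring
    set τ := t + tr t • lam with hτ
    have hty : Φ a₀ (τ • y) = 0 := by rw [map_smul, hy, smul_zero]
    have hτπ : B e₀ (τ • y) = tr (τ * π) := (trace_mul' hA τ e₀ y).symm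
    have hpx : ∀ k : K, Φ y' (k • a₀) = 0 := fun k => by rw [map_smul, hA.symm y' a₀, hy', smul_zero]
    have hΦp : Φ y' (act p x) = Φ y' x + (τ * ε + tr (τ * π) • θ) := by
      rw [hp, act_mul, act_mul, hp₀x, htau, ← htdef, ← hτ, map_sub, map_add, act_act_inv, hline, map_sub, map_add,
        hpx, sub_zero, hy'h _ hty, map_smul (Φ y') τ y, hA.symm y' y, ← hε, hτπ, smul_eq_mul]
    have hlhs : act (p * q) x = act p x + (t • y' - σ (t * ε + tr (t * θ) • π) • a₀) -
        (Φ y' x + Φ y' y' / 2 * t) • a₀ := by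
      rw [act_mul, hqx, ← htdef, map_sub, map_add, hpfix, hpty]
    have hrhs : act (q * p) x = act p x + t • y' - (Φ y' x + (τ * ε + tr (τ * π) • θ) + Φ y' y' / 2 * t) • a₀ := by
      rw [act_mul, hqx, hkeep hpM hpfix, ← htdef, hΦp]
    rw [hlhs, hrhs, hσ, hτ]
    have e1 : l (t * ε + tr (t * θ) • π) = tr (t * (lam * ε)) + tr (t * θ) * l π := by
      rw [map_add, map_smul, smul_eq_mul, hlam (t * ε), mul_comm lam, mul_assoc]
    have e2 : tr ((t + tr t • lam) * π) = tr (t * π) + tr t * l π := by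
      rw [add_mul, map_add, smul_mul_assoc, (Algebra.trace F K).map_smul, smul_eq_mul, hlam π, mul_comm π lam]
    have e3 : tr (t * (lam * ε + l π • θ)) = tr (t * (lam * ε)) + l π * tr (t * θ) := by
      rw [mul_add, map_add, mul_smul_comm, (Algebra.trace F K).map_smul, smul_eq_mul]
    dsimp only
    rw [e1, e2, e3]
    simp only [Algebra.smul_def, map_add, map_mul]
    module
  -- one pair of vectors
  obtain ⟨y', hy', hy'a⟩ : ∃ y' ∈ LinearMap.ker (Φ a₀) ⊓ LinearMap.ker (Φ e₀), y' ∉ (K ∙ a₀) := by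
    by_contra hcon
    push Not at hcon
    have h1 := Submodule.finrank_mono hcon
    rw [finrank_span_singleton ha₀] at h1
    have h2 := finrank_ker_ge (Φ a₀)
    have h3 := finrank_inf_ker_ge (LinearMap.ker (Φ a₀)) (Φ e₀)
    omega
  have hy'0 : Φ a₀ y' = 0 := hy'.1
  have hey' : Φ e₀ y' = 0 := hy'.2
  obtain ⟨y, hy, hy'y⟩ := exists_separate hA ha₀ hy'a
  rw [hA.symm] at hy'y
  set ε := Φ y y' with hε
  set θ := Φ y' ζ₀ with hθ
  set π := Φ e₀ y with hπ
  -- recognise the root element
  have fin : ∀ (i k : K), (∀ t : K, algebraMap F K (tr t) * (lam * (i * (k * ε)) + l (i * π) • (k * θ)) -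
      algebraMap F K (tr (t * (lam * (i * (k * ε)) + l (i * π) • (k * θ)))) +
      algebraMap F K (tr (t * (i * π))) * (k * θ) - algebraMap F K (tr (t * (k * θ))) * (i * π) =
        algebraMap F K (tr t) * c - algebraMap F K (tr (t * c))) → Orth.sg Q a₀ (c • a₀) ∈ M := by
    intro i k heq
    obtain ⟨w, hw, hwx⟩ := key (i • y) (k • y') (by rw [map_smul, hy, smul_zero]) (by rw [map_smul, hy'0, smul_zero])
      (by rw [map_smul, hey', smul_zero])
    suffices Orth.sg Q a₀ (c • a₀) = w by rwa [this]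
    refine gl_ext fun z => ?_
    rw [hwx, Orth.act_sg Q (Q_of_singular hA haa₀) (by rw [← trace_mul' hA, haa₀, mul_zero, map_zero]),
      Q_of_singular hA (show Φ (c • a₀) (c • a₀) = 0 by simp [haa₀]), ← trace_mul hA c a₀ z, ← hA.trace a₀ z]
    have h1 : Φ (i • y) (k • y') = i * (k * ε) := by simp [hε]; ring
    have h2 : Φ (k • y') ζ₀ = k * θ := by simp [hθ]
    have h3 : Φ e₀ (i • y) = i * π := by simp [hπ]
    rw [h1, h2, h3, heq, sub_smul, mul_smul, algebraMap_smul, algebraMap_smul, zero_mul, add_zero, mul_comm c]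
    abel
  by_cases hcase : θ = 0 ∨ π = 0
  · refine fin 1 (c / (lam * ε)) fun t => ?_
    rcases hcase with h0 | h0
    · rw [h0]
      simp only [mul_zero, smul_zero, add_zero, map_zero, zero_mul, sub_zero]
      field_simp
    · rw [h0]
      simp only [mul_zero, map_zero, zero_smul, add_zero, zero_mul, sub_zero]
      field_simp
  push Not at hcase
  obtain ⟨hθ0, hπ0⟩ := hcase
  set S := lam * (ε / π) + θ with hS
  rcases ne_or_eq S 0 with hS0 | hS0
  · refine fin π⁻¹ (c / S) fun t => ?_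
    rw [inv_mul_cancel₀ hπ0, hl0, zero_smul, add_zero, mul_one, mul_one]
    have e : lam * (π⁻¹ * (c / S * ε)) + c / S * θ = c := by
      rw [show lam * (π⁻¹ * (c / S * ε)) + c / S * θ = c / S * S by rw [hS]; ring, div_mul_cancel₀ _ hS0]
    conv_rhs => rw [← e]
    rw [mul_add t, map_add, map_add]
    ring
  · set c' := -(c / 2) with hc'
    have h2 := two_ne hA
    refine fin (c' / π) θ⁻¹ fun t => ?_
    rw [inv_mul_cancel₀ hθ0, div_mul_cancel₀ _ hπ0]
    have e : lam * (c' / π * (θ⁻¹ * ε)) = -c' := by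
      rw [show lam * (c' / π * (θ⁻¹ * ε)) = c' * θ⁻¹ * (lam * (ε / π)) by ring,
        eq_neg_of_add_eq_zero_left hS0, mul_neg, mul_assoc, inv_mul_cancel₀ hθ0, mul_one]
    have hc2 : -(2 * c') = c := by rw [hc']; field_simp
    rw [e, ← hc2]
    simp only [mul_add, map_add, mul_smul_comm, mul_one, (Algebra.trace F K).map_smul, smul_eq_mul,
      Algebra.smul_def, map_mul, mul_neg, map_neg, two_mul]
    rw [show ∀ e : F, tr (t * algebraMap F K e) = e * tr t from fun e => by
      rw [← Algebra.commutes, ← Algebra.smul_def, (Algebra.trace F K).map_smul, smul_eq_mul],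
      map_mul (algebraMap F K)]
    ring

/-! ### Spreading -/

omit hA in
/-- all multiples of `t` are parameters of elements of `M` at `x` -/
def Roots (Q : QuadraticForm F (ι → F)) (M : Subgroup (GL ι F)) (x t : ι → F) : Prop :=
  QuadraticMap.polar (⇑Q) x t = 0 ∧ ∀ e : F, Orth.sg Q x (e • t) ∈ M

omit hA in
/-- the parameters form a subspace -/
def rootSpace (M : Subgroup (GL ι F)) {x : ι → F} (hx : Q x = 0) : Submodule F (ι → F) where
  carrier := {t | Roots Q M x t}
  add_mem' {t t'} h h' := ⟨by rw [Orth.B_add_right Q, h.1, h'.1, add_zero], fun e => by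
    rw [smul_add, ← Orth.sg_add Q hx (by rw [Orth.B_smul_right Q, h.1, mul_zero])
      (by rw [Orth.B_smul_right Q, h'.1, mul_zero])]
    exact M.mul_mem (h.2 e) (h'.2 e)⟩
  zero_mem' := ⟨Orth.B_zero_right Q x, fun e => by rw [smul_zero, Orth.sg_zero Q]; exact M.one_mem⟩
  smul_mem' e t h := ⟨by rw [Orth.B_smul_right Q, h.1, mul_zero], fun e' => by rw [smul_smul]; exact h.2 _⟩

theorem Roots.act {x t : ι → F} (h : Roots Q M x t) {w : GL ι F} (hw : w ∈ M) :
    Roots Q M (act w x) (act w t) := by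
  refine ⟨by rw [Orth.B_act (iso_of_mem hA hw), h.1], fun e => ?_⟩
  rw [← map_smul, ← Orth.conj_sg Q (iso_of_mem hA hw)]
  exact M.mul_mem (M.mul_mem hw (h.2 e)) (M.inv_mem hw)

/-- in degree at least three the root elements of the lines give whole root groups -/
theorem full_of_lines (h3 : 3 ≤ finrank F K)
    (hline : ∀ {x : ι → F}, x ≠ 0 → Φ x x = 0 → ∀ c : K, Roots Q M x (c • x)) {a : ι → F} (hane : a ≠ 0)
    (haa : Φ a a = 0) : Orth.Full Q M a := by
  have hQa := Q_of_singular hA haa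
  set N := rootSpace M hQa with hN
  suffices hall : ∀ w, B a w = 0 → w ∈ N from fun w hw => by simpa using (hall w hw).2 1
  intro w hw
  have hb : ∀ b, Φ b b = 0 → Φ a b ≠ 0 → B a b = 0 → b ∈ N := by
    intro b hbb hab hBab
    have hb0 : b ≠ 0 := fun e => by simp [e] at hab
    set φ := Φ a b with hφ
    have htr : tr φ = 0 := by rw [hA.trace, hBab]
    let f : K →ₗ[F] F := Algebra.trace F K ∘ₗ LinearMap.mulRight F φ
    obtain ⟨c, hc, hcF⟩ := exists_not_mem_of_finrank (P := LinearMap.ker f) (by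
      have h1 := LinearMap.finrank_range_add_finrank_ker f
      have h4 := (Submodule.finrank_le (LinearMap.range f)).trans_eq (Module.finrank_self F)
      omega)
    replace hc : tr (c * φ) = 0 := hc
    obtain ⟨c', hc', hc''⟩ : ∃ c', tr (c' * φ) = 0 ∧ tr (c' * (c * φ)) ≠ 0 := by
      by_contra hcon
      push Not at hcon
      obtain ⟨k, hk⟩ : ∃ k, tr (k * φ) = 1 := by
        obtain ⟨k, hk⟩ := SpExt.exists_trace_eq (F := F) (K := K) 1
        exact ⟨k / φ, by rwa [div_mul_cancel₀ _ hab]⟩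
      refine hcF (tr (k * (c * φ))) (mul_right_cancel₀ hab (SpExt.ext_trace (F := F) fun x => ?_))
      have h1 := hcon (x - tr (x * φ) • k) (by
        rw [sub_mul, map_sub, smul_mul_assoc, (Algebra.trace F K).map_smul, hk, smul_eq_mul, mul_one, sub_self])
      rw [sub_mul, map_sub, smul_mul_assoc, (Algebra.trace F K).map_smul, sub_eq_zero, smul_eq_mul] at h1
      rw [h1, ← Algebra.smul_def, mul_smul_comm, (Algebra.trace F K).map_smul, smul_eq_mul, mul_comm]
    obtain ⟨h, hh⟩ : ∃ h, h = Orth.sg Q b (c • b) := ⟨_, rfl⟩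
    have hhM : h ∈ M := by simpa [hh] using (hline hb0 hbb c).2 1
    have hhx : ∀ x, act h x = x + B b x • (c • b) - B (c • b) x • b := fun x => by
      rw [hh, Orth.act_sg Q (Q_of_singular hA hbb) (hline hb0 hbb c).1,
        Q_of_singular hA (show Φ (c • b) (c • b) = 0 by simp [hbb]), zero_mul, add_zero]
    have hha : act h a = a := by
      rw [hhx, Orth.B_comm Q b a, hBab, Orth.B_comm Q (c • b) a, ← trace_mul' hA, ← hφ, hc]; simp
    have h5 := Roots.act hA (hline hane haa c') hhM
    rw [hha, hhx, Orth.B_comm Q b, ← trace_mul hA, ← hφ, hc', zero_smul, add_zero,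
      Orth.B_comm Q (c • b), show B (c' • a) (c • b) = tr (c' * (c * φ)) by
        rw [← trace_mul hA, map_smul, smul_eq_mul]] at h5
    have h6 := N.smul_mem (tr (c' * (c * φ)))⁻¹ (N.sub_mem (show c' • a ∈ N from hline hane haa c') h5)
    rwa [sub_sub_cancel, inv_smul_smul₀ hc''] at h6
  have hgen : ∀ x, B a x = 0 → Φ a x ≠ 0 → x ∈ N := fun x hx hφ => by
    have h2K := two_ne hA
    have h7 := hb (x - (Φ x x / (2 * Φ a x)) • a) (by
      simp only [map_sub, map_smul, LinearMap.sub_apply, LinearMap.smul_apply, smul_eq_mul, haa, hA.symm x a]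
      field_simp
      ring) (by rwa [map_sub, map_smul, haa, smul_zero, sub_zero]) (by
      rw [Orth.B_sub_right Q, hx, ← trace_mul' hA, haa, mul_zero, map_zero, sub_zero])
    simpa using N.add_mem h7 (show (Φ x x / (2 * Φ a x)) • a ∈ N from hline hane haa _)
  by_cases hφ : Φ a w = 0
  swap
  · exact hgen w hw hφ
  obtain ⟨t, -, htt, hat⟩ := exists_partner hA (ndeg_top hA) (Submodule.mem_top (x := a)) hane haa
  obtain ⟨c, hc, hc0⟩ := Submodule.exists_mem_ne_zero_of_ne_bot (p := LinearMap.ker (Algebra.trace F K)) fun e => by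
    have h1 := LinearMap.finrank_range_add_finrank_ker (Algebra.trace F K)
    rw [LinearMap.range_eq_top.2 (Algebra.trace_surjective F K), finrank_top, Module.finrank_self, e,
      finrank_bot] at h1
    omega
  have hBt : B a (c • t) = 0 := by rw [← trace_mul' hA, hat, mul_one]; exact hc
  have hφt : Φ a (c • t) ≠ 0 := by rwa [map_smul, hat, smul_eq_mul, mul_one]
  have h1 := hgen (w + c • t) (by rw [Orth.B_add_right Q, hw, hBt, add_zero]) (by rwa [map_add, hφ, zero_add])
  simpa using N.sub_mem h1 (hgen _ hBt hφt)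

/-- **The extension field group is maximal.** -/
theorem omega_le (hr : (finrank F K).Prime) (hd : 4 ≤ finrank K (ι → F))
    (hbig : finrank F K = 2 → 5 ≤ finrank K (ι → F)) {g₀ : GL ι F} (hg₀ : g₀ ∈ M)
    (hns : ¬ ExtF.IsSemi K g₀) : Cfsg.Geo.omegaGL Q ≤ M := by
  haveI : Module.Finite K (ι → F) := Module.Finite.right F K (ι → F)
  obtain ⟨g, hg, a₀, v, j₁, l, ha₀, haa₀, haa, hj₁, hD, hl0, hl1, horth, hav, hv⟩ :=
    exists_config hA hr hd hg₀ hns
  have hlines₀ := exists_line_roots hA hd hg ha₀ haa₀ haa hD hl0 hl1 horth hav hv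
  set a := act g a₀ with ha
  have hane : a ≠ 0 := fun h => ha₀ (act_injective g (by rw [← ha, h, map_zero]))
  have hR₀ : ∀ c : K, Roots Q M a₀ (c • a₀) := fun c =>
    ⟨by rw [← trace_mul' hA, haa₀, mul_zero, map_zero], fun e => by
      rw [← smul_assoc]; exact hlines₀ _⟩
  have hline : ∀ {x : ι → F}, x ≠ 0 → Φ x x = 0 → ∀ c : K, Roots Q M x (c • x) := by
    intro x hx hxx c
    obtain ⟨u, hu, hua, huc⟩ := exists_move hA hd ha₀ haa₀ hx hxx
    have := Roots.act hA (hR₀ c) hu
    rwa [huc, hua] at this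
  have hQa := Q_of_singular hA haa
  set N := rootSpace M hQa with hN
  have hwN : act g (j₁ • a₀) ∈ N := Roots.act hA (hR₀ j₁) hg
  suffices hfull : Orth.Full Q M a by
    obtain ⟨t, -, htt, hat⟩ := exists_partner hA (ndeg_top hA) (Submodule.mem_top (x := a)) hane haa
    obtain ⟨c, hc⟩ := SpExt.exists_trace_eq (F := F) (K := K) 1
    have hct : c • t ≠ 0 := smul_ne_zero (fun h => by rw [h, map_zero] at hc; exact zero_ne_one hc)
      fun h => by rw [h, map_zero] at hat; exact zero_ne_one hat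
    have hctt : Φ (c • t) (c • t) = 0 := by simp [htt]
    obtain ⟨u, hu, hua, -⟩ := exists_move hA hd hane haa hct hctt
    refine Orth.omega_le_of_full hA.nondeg hA.five hQa (Q_of_singular hA hctt) ?_ hfull
      (hua ▸ hfull.act hu (iso_of_mem hA hu))
    rw [← trace_mul' hA, hat, mul_one, hc]
    exact one_ne_zero
  suffices hall : ∀ w, B a w = 0 → w ∈ N from fun w hw => by simpa using (hall w hw).2 1
  intro w hw
  rcases eq_or_ne (finrank F K) 2 with h2 | h2
  · -- degree two
    have hd5 := hbig h2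
    obtain ⟨a', -, ha'a', haa'⟩ := exists_partner hA (ndeg_top hA) (Submodule.mem_top (x := a)) hane haa
    set W := LinearMap.ker (Φ a) ⊓ LinearMap.ker (Φ a') with hW
    have hWn : NDeg Φ W := ndeg_pair hA haa ha'a' (by rw [haa']; exact one_ne_zero)
    have hWd : 3 ≤ finrank K W := by
      have h1 := finrank_ker_ge (Φ a)
      have h3 := finrank_inf_ker_ge (LinearMap.ker (Φ a)) (Φ a')
      rw [hW]
      omega
    obtain ⟨s₀, hs₀, hs₀0, hss₀⟩ := exists_singular hA hWn hWd
    set w₀ := act g (j₁ • a₀) with hw₀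
    obtain ⟨x, hax, hwx⟩ := exists_separate hA hane hj₁
    obtain ⟨s, hs, hss, hsw⟩ := exists_singular_not_perp hA hWn hs₀ hs₀0 hss₀ (l := w₀)
      (x := x - Φ a' x • a) ⟨show Φ a _ = 0 by rw [map_sub, map_smul, hax, haa, smul_zero, sub_zero],
        show Φ a' _ = 0 by rw [map_sub, map_smul, hA.symm a' a, haa', smul_eq_mul, mul_one, sub_self]⟩
      (by rwa [map_sub, map_smul, LinearMap.sub_apply, LinearMap.smul_apply, horth, smul_zero, sub_zero, hA.symm])
    have hs0 : s ≠ 0 := fun e => by simp [e] at hsw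
    obtain ⟨t, ht, htt, hst⟩ := exists_partner hA hWn hs hs0 hss
    have claim : ∀ {p q : ι → F}, p ∈ W → q ∈ W → Φ p p = 0 → Φ q q = 0 → Φ p q ≠ 0 →
        ∀ {m : ι → F}, m ∈ N → Φ p m ≠ 0 →
        (∀ c : K, c • p ∈ N) ∧ ∀ x, Φ a x = 0 → Φ p x = 0 → x ∈ N := by
      intro p q hp hq hpp hqq hpq m hm hpm
      have hap : Φ a p = 0 := hp.1
      have hmove : ∀ x, Φ a x = 0 → Φ p x = 0 →
          m + Φ p m • x - (Φ x m + Φ x x / 2 * Φ p m) • p ∈ N := by
        intro x hax hpx
        obtain ⟨u, hu, hux, -⟩ := exists_E hA hpp hpx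
        have hua : act u a = a := by
          rw [hux, hA.symm p a, hap, hA.symm x a, hax]; simp
        have := Roots.act hA (show Roots Q M a m from hm) hu
        rw [hua, hux] at this
        exact this
      obtain ⟨z, hz, hzz⟩ := exists_nonsingular hA (ndeg_pair_in hA hWn hp hq hpp hqq hpq) (by
        have h1 := finrank_inf_ker_ge W (Φ p)
        have h3 := finrank_inf_ker_ge (W ⊓ LinearMap.ker (Φ p)) (Φ q)
        rw [inf_assoc W] at h3
        omega)
      have haz : Φ a z = 0 := hz.1.1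
      have hpz : Φ p z = 0 := hz.2.1
      have h2K := two_ne hA
      set μ := Φ z z * Φ p m with hμ
      have hμ0 : μ ≠ 0 := mul_ne_zero hzz hpm
      have hsq : ∀ c : K, (c * c * μ) • p ∈ N := fun c => by
        have h1 := hmove (c • z) (by rw [map_smul, haz, smul_zero]) (by rw [map_smul, hpz, smul_zero])
        have h3 := hmove (-(c • z)) (by rw [map_neg, map_smul, haz, smul_zero, neg_zero])
          (by rw [map_neg, map_smul, hpz, smul_zero, neg_zero])
        convert N.sub_mem (N.add_mem hm hm) (N.add_mem h1 h3) using 1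
        simp only [hμ, map_neg, map_smul, LinearMap.neg_apply, LinearMap.smul_apply, smul_eq_mul]
        match_scalars <;> field_simp <;> ring
      have hKp : ∀ c : K, c • p ∈ N := fun c => by
        convert N.sub_mem (N.sub_mem (hsq (c / (2 * μ) + 1)) (hsq (c / (2 * μ)))) (hsq 1) using 1
        match_scalars <;> field_simp <;> ring
      refine ⟨hKp, fun x hax hpx => ?_⟩
      have h1 := hmove ((Φ p m)⁻¹ • x) (by rw [map_smul, hax, smul_zero]) (by rw [map_smul, hpx, smul_zero])
      rw [smul_smul, mul_inv_cancel₀ hpm, one_smul] at h1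
      convert N.sub_mem (N.add_mem h1 (hKp (Φ ((Φ p m)⁻¹ • x) m +
        Φ ((Φ p m)⁻¹ • x) ((Φ p m)⁻¹ • x) / 2 * Φ p m))) hm using 1
      abel
    have hpst : Φ s t ≠ 0 := by rw [hst]; exact one_ne_zero
    have hpts : Φ t s ≠ 0 := by rw [hA.symm, hst]; exact one_ne_zero
    obtain ⟨hKs, hs'⟩ := claim hs ht hss htt hpst hwN hsw
    obtain ⟨hKt, -⟩ := claim ht hs htt hss hpts (by simpa using hKs 1) hpts
    have hperp : ∀ x, Φ a x = 0 → x ∈ N := fun x hx => by
      have e : x = (x - Φ s x • t) + Φ s x • t := by abel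
      rw [e]
      refine N.add_mem (hs' _ ?_ ?_) (hKt _)
      · rw [map_sub, map_smul, hx, (ht.1 : Φ a t = 0), smul_zero, sub_zero]
      · rw [map_sub, map_smul, hst, smul_eq_mul, mul_one, sub_self]
    -- the image of the orthogonal space of the point
    obtain ⟨z, hz, hgz⟩ : ∃ z, Φ a₀ z = 0 ∧ Φ a (act g z) ≠ 0 := by
      by_contra hcon
      push Not at hcon
      have : (⊤ : Submodule F K) ≤ ExtF.lineD K g a₀ := fun c _ => by
        by_contra hc
        have hx : act g⁻¹ (c • a) ∉ (K ∙ a₀) := fun hmem => by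
          obtain ⟨i, hi⟩ := Submodule.mem_span_singleton.1 hmem
          exact hc ((ExtF.mem_lineD g a₀ c).2 ⟨i, by rw [hi, act_act_inv]⟩)
        obtain ⟨z, hz, hxz⟩ := exists_separate hA ha₀ hx
        refine hxz (SpExt.ext_trace (F := F) fun k => ?_)
        rw [mul_zero, map_zero, trace_mul' hA, ← Orth.B_act (iso_of_mem hA hg), act_act_inv, ← trace_mul hA,
          hcon _ (by rw [map_smul, hz, smul_zero]), mul_zero, map_zero]
      have h3 := Submodule.finrank_mono this
      rw [finrank_top] at h3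
      omega
    have hzN : act g z ∈ N := by
      obtain ⟨u, hu, hua, huc⟩ := exists_move hA hd hane haa ha₀ haa₀
      have h1 : z = act u (act u⁻¹ z) := (act_act_inv u z).symm
      have h3 : Roots Q M a₀ z := by
        rw [← hua, h1]
        refine Roots.act hA (show Roots Q M a (act u⁻¹ z) from hperp _ (perp_of_B hA fun k => ?_)) hu
        rw [← Orth.B_act (iso_of_mem hA hu), huc, hua, act_act_inv, ← trace_mul hA, hz, mul_zero, map_zero]
      exact Roots.act hA h3 hg
    have htr0 : ∀ {x}, B a x = 0 → tr (Φ a x) = 0 := fun {x} h => by rw [hA.trace, h]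
    have hker : finrank F (LinearMap.ker (Algebra.trace F K)) ≤ 1 := by
      have h1 := LinearMap.finrank_range_add_finrank_ker (Algebra.trace F K)
      rw [LinearMap.range_eq_top.2 (Algebra.trace_surjective F K), finrank_top, Module.finrank_self] at h1
      omega
    have hle : LinearMap.ker (Algebra.trace F K) ≤ F ∙ Φ a (act g z) := by
      refine le_of_eq (Submodule.eq_of_le_of_finrank_le ?_ ?_).symm
      · rw [Submodule.span_singleton_le_iff_mem]
        exact htr0 hzN.1
      · rwa [finrank_span_singleton hgz]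
    obtain ⟨e, he⟩ := Submodule.mem_span_singleton.1 (hle (htr0 hw))
    have h4 := hperp (w - e • act g z) (by
      rw [map_sub, ← algebraMap_smul K e (act g z), map_smul, algebraMap_smul, he, sub_self])
    simpa using N.add_mem h4 (N.smul_mem e hzN)
  · -- degree at least three
    exact ⟨hw, fun e => full_of_lines hA (by have := hr.two_le; omega) hline hane haa (e • w)
      (by rw [Orth.B_smul_right Q, hw, mul_zero])⟩

/-- the derived group is not semilinear -/
theorem exists_not_semi (hr : (finrank F K).Prime) (hd : 3 ≤ finrank K (ι → F)) :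
    ∃ g ∈ Cfsg.Geo.omegaGL Q, ¬ ExtF.IsSemi K g := by
  haveI : Module.Finite K (ι → F) := Module.Finite.right F K (ι → F)
  obtain ⟨a, -, ha, haa⟩ := exists_singular hA (ndeg_top hA) (by rw [finrank_top]; omega)
  obtain ⟨t, -, -, hat⟩ := exists_partner hA (ndeg_top hA) (Submodule.mem_top (x := a)) ha haa
  obtain ⟨φ, hφ, hφ0⟩ := Submodule.exists_mem_ne_zero_of_ne_bot (p := LinearMap.ker (Algebra.trace F K)) fun e => by
    have h1 := LinearMap.finrank_range_add_finrank_ker (Algebra.trace F K)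
    rw [LinearMap.range_eq_top.2 (Algebra.trace_surjective F K), finrank_top, Module.finrank_self, e,
      finrank_bot] at h1
    have := hr.two_le
    omega
  set w := φ • t with hw
  have haw : Φ a w = φ := by rw [hw, map_smul, hat, smul_eq_mul, mul_one]
  have hBaw : B a w = 0 := by rw [← hA.trace, haw]; exact hφ
  obtain ⟨x, hx, hx0⟩ := Submodule.exists_mem_ne_zero_of_ne_bot
    (p := LinearMap.ker (Φ a) ⊓ LinearMap.ker (Φ w)) fun e => by
      have h1 := finrank_ker_ge (Φ a)
      have h2 := finrank_inf_ker_ge (LinearMap.ker (Φ a)) (Φ w)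
      rw [e, finrank_bot] at h2
      omega
  refine ⟨_, Orth.sg_mem_omega hA.nondeg hA.five a w, fun hs => hφ0 (SpExt.ext_trace (F := F) fun k => ?_)⟩
  obtain ⟨k', hk'⟩ := hs k
  have hQa := Q_of_singular hA haa
  have hsg := Orth.act_sg Q hQa hBaw
  have hxfix : ∀ c : K, act (Orth.sg Q a w) (c • x) = c • x := fun c => by
    rw [hsg, ← trace_mul' hA, ← trace_mul' hA, (hx.1 : Φ a x = 0), (hx.2 : Φ w x = 0)]
    simp
  have e1 := hk' x
  rw [hxfix, show act (Orth.sg Q a w) x = x by simpa using hxfix 1] at e1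
  have hkk : k' = k := (smul_left_injective K hx0 e1).symm
  have e2 := hk' a
  rw [hkk, hsg, hsg, Orth.B_self_of_singular Q hQa, Orth.B_comm Q w a, hBaw, ← trace_mul' hA, ← trace_mul' hA,
    haa, hA.symm w a, haw] at e2
  simp only [mul_zero, map_zero, zero_smul, add_zero, sub_zero, sub_eq_self, smul_eq_zero, ha, or_false] at e2
  rw [mul_zero, map_zero, e2]

end Cfsg.Agent.MaxCl.OExt
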