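/-
A three-dimensional orthogonal space over an extension field: the elements of the overgroup inducing skew maps from
the space to a singular line, and the alternatives for an element stabilising a singular line.
-/
import Cfsg.Agent.Lib.MaxCl.OrthExtMax
import Cfsg.Agent.Lib.MaxCl.OrthExtField

set_option autoImplicit false
set_option linter.unusedSectionVars false
set_option maxHeartbeats 1600000

namespace Cfsg.Agent.MaxCl.OExt

open scoped MatrixGroups Matrix
open Module (finrank)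

variable {ι : Type} [Fintype ι] [DecidableEq ι] {F : Type*} [Field F] [Finite F]
  {K : Type*} [Field K] [Algebra F K] [Module K (ι → F)] [IsScalarTower F K (ι → F)] [Module.Finite F K]
variable {Q : QuadraticForm F (ι → F)} {Φ : (ι → F) →ₗ[K] (ι → F) →ₗ[K] K} {M : Subgroup (GL ι F)}

set_option quotPrecheck false in
local notation "B" => QuadraticMap.polar (⇑Q)

local notation "tr" => Algebra.trace F K

variable (hA : Amb Q Φ M)
include hA

theorem mem_line (hd : finrank K (ι → F) = 3) {a z : ι → F} (ha : a ≠ 0) (haa : Φ a a = 0) (haz : Φ a z = 0)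
    (hzz : Φ z z ≠ 0) {x : ι → F} (hax : Φ a x = 0) (hzx : Φ z x = 0) : x ∈ (K ∙ a) := by
  haveI : Module.Finite K (ι → F) := Module.Finite.right F K (ι → F)
  have h1 : LinearMap.ker (Φ a) < ⊤ := lt_top_iff_ne_top.2 fun h => by
    obtain ⟨y, hy⟩ := exists_ne hA ha
    exact hy (show y ∈ LinearMap.ker (Φ a) by rw [h]; exact Submodule.mem_top)
  have h2 : LinearMap.ker (Φ a) ⊓ LinearMap.ker (Φ z) < LinearMap.ker (Φ a) :=
    lt_of_le_of_ne inf_le_left fun h => hzz ((show z ∈ LinearMap.ker (Φ a) ⊓ LinearMap.ker (Φ z) by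
      rw [h]; exact haz).2)
  have h3 := Submodule.finrank_lt h1.ne
  have h4 := Submodule.finrank_lt_finrank_of_lt h2
  have heq : (K ∙ a) = LinearMap.ker (Φ a) ⊓ LinearMap.ker (Φ z) := Submodule.eq_of_le_of_finrank_le
    (by rw [Submodule.span_singleton_le_iff_mem]; exact ⟨haa, show Φ z a = 0 by rw [hA.symm, haz]⟩)
    (by rw [finrank_span_singleton ha]; omega)
  rw [heq]
  exact ⟨hax, hzx⟩

/-- coordinates with respect to a singular vector -/
theorem exists_frame (hd : finrank K (ι → F) = 3) {a : ι → F} (ha : a ≠ 0) (haa : Φ a a = 0) :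
    ∃ b z, Φ b b = 0 ∧ Φ a b = 1 ∧ Φ a z = 0 ∧ Φ b z = 0 ∧ Φ z z ≠ 0 ∧
      ∀ x, x = Φ b x • a + Φ a x • b + (Φ z x / Φ z z) • z := by
  obtain ⟨b, -, hbb, hab⟩ := exists_partner hA (ndeg_top hA) (Submodule.mem_top (x := a)) ha haa
  obtain ⟨z, ⟨hza, hzb⟩, hzz⟩ := exists_nonsingular hA (ndeg_pair hA haa hbb (by rw [hab]; exact one_ne_zero)) (by
    have h1 := finrank_inf_ker_ge (LinearMap.ker (Φ a)) (Φ b)
    have h2 := finrank_ker_ge (Φ a)
    omega)
  replace hza : Φ a z = 0 := hza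
  replace hzb : Φ b z = 0 := hzb
  refine ⟨b, z, hbb, hab, hza, hzb, hzz, fun x => ?_⟩
  set w := x - (Φ b x • a + Φ a x • b + (Φ z x / Φ z z) • z) with hw
  have h1 : Φ a w = 0 := by simp [hw, haa, hab, hza]
  have h2 : Φ z w = 0 := by simp [hw, hA.symm z a, hza, hA.symm z b, hzb, div_mul_cancel₀ _ hzz]
  have h3 : Φ b w = 0 := by simp [hw, hA.symm b a, hab, hbb, hzb]
  obtain ⟨c, hc⟩ := Submodule.mem_span_singleton.1 (mem_line hA hd ha haa hza hzz h1 h2)
  rw [← hc, map_smul, hA.symm b a, hab, smul_eq_mul, mul_one] at h3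
  rw [h3, zero_smul, hw, eq_comm, sub_eq_zero] at hc
  exact hc

theorem Phi_act {h : GL ι F} (hh : h ∈ M) (hl : ∀ (c : K) x, act h (c • x) = c • act h x) (x y : ι → F) :
    Φ (act h x) (act h y) = Φ x y :=
  SpExt.ext_trace (F := F) fun c => by rw [trace_mul hA, ← hl, Orth.B_act (iso_of_mem hA hh), ← trace_mul hA]

/-- the linear part moves every singular line to every other -/
theorem exists_move_line (hd : finrank K (ι → F) = 3) {a b : ι → F} (ha : a ≠ 0) (haa : Φ a a = 0) (hb : b ≠ 0)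
    (hbb : Φ b b = 0) :
    ∃ h ∈ M, ∃ k : K, k ≠ 0 ∧ act h a = k • b ∧ ∀ (c : K) x, act h (c • x) = c • act h x := by
  obtain ⟨a', z, ha'a', haa', haz, ha'z, hzz, hdec⟩ := exists_frame hA hd ha haa
  by_cases hab : Φ a b = 0
  · have hzb : Φ z b = 0 := by
      have := hbb
      conv_lhs at this => rw [hdec b]
      simp only [map_add, map_smul, LinearMap.add_apply, LinearMap.smul_apply, smul_eq_mul, hab, haa, haz,
        hA.symm z a, hA.symm a' a, haa', hA.symm z a', ha'z, ha'a', mul_zero, zero_mul, add_zero, zero_add] at this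
      field_simp at this
      rw [mul_zero] at this
      exact pow_eq_zero_iff two_ne_zero |>.1 this
    obtain ⟨k, hk⟩ := Submodule.mem_span_singleton.1 (mem_line hA hd ha haa haz hzz hab hzb)
    have hk0 : k ≠ 0 := fun h => hb (by rw [← hk, h, zero_smul])
    exact ⟨1, M.one_mem, k⁻¹, inv_ne_zero hk0, by rw [act_one, ← hk, inv_smul_smul₀ hk0],
      fun c x => by simp [act_one]⟩
  have h2K := two_ne hA
  obtain ⟨z', ⟨hz'a, hz'b⟩, hz'z'⟩ := exists_nonsingular hA (ndeg_pair hA haa hbb hab) (by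
    have h1 := finrank_inf_ker_ge (LinearMap.ker (Φ a)) (Φ b)
    have h2 := finrank_ker_ge (Φ a)
    omega)
  replace hz'a : Φ a z' = 0 := hz'a
  replace hz'b : Φ b z' = 0 := hz'b
  set k := -(Φ z' z') / (2 * Φ a b) with hk
  have hk0 : k ≠ 0 := div_ne_zero (neg_ne_zero.2 hz'z') (mul_ne_zero h2K hab)
  set b' := k • b with hb'
  have hb'b : Φ b' b' = 0 := by simp [hb', hbb]
  have hab' : Φ a b' ≠ 0 := by simp [hb', hk0, hab]
  have hval : Φ z' z' = -2 * Φ a b' := by
    simp only [hb', map_smul, smul_eq_mul, hk]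
    field_simp
  have hb'z : Φ b' z' = 0 := by simp [hb', hz'b]
  have hcc : Φ (a + b' + z') (a + b' + z') = 0 := by
    simp only [map_add, LinearMap.add_apply, haa, hb'b, hz'a, hb'z, hA.symm z' a, hA.symm z' b', hA.symm b' a,
      hval]
    ring
  obtain ⟨h, hm, hx, hc⟩ := exists_E hA hcc (v := (Φ a b')⁻¹ • (b' - a)) (by
    simp only [map_add, map_sub, map_smul, LinearMap.add_apply, smul_eq_mul, haa, hb'b, hA.symm z' a, hz'a,
      hA.symm z' b', hb'z, hA.symm b' a]
    ring)
  refine ⟨h, hm, k, hk0, ?_, hc⟩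
  rw [hx, ← hb']
  simp only [map_add, map_sub, map_smul, LinearMap.add_apply, LinearMap.sub_apply, LinearMap.smul_apply,
    smul_eq_mul, haa, hb'b, hA.symm z' a, hz'a, hA.symm b' a]
  match_scalars <;> field_simp <;> ring

/-- the torus of a hyperbolic pair fixes the vectors orthogonal to it -/
theorem exists_torus_pair {a b : ι → F} (haa : Φ a a = 0) (hbb : Φ b b = 0) (hab : Φ a b = 1) {k : K} (hk : k ≠ 0) :
    ∃ T ∈ M, act T a = (k * k) • a ∧ (∀ (c : K) x, act T (c • x) = c • act T x) ∧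
      ∀ x, Φ a x = 0 → Φ b x = 0 → act T x = x := by
  have hba : Φ b a = 1 := by rw [hA.symm, hab]
  let S : K → (ι → F) → (ι → F) := fun k x => x + ((k - 1) * Φ b x) • a + ((k⁻¹ - 1) * Φ a x) • b
  let e : (ι → F) ≃ₗ[F] (ι → F) :=
    { toFun := S k
      map_add' := fun x y => by simp only [S, map_add]; module
      map_smul' := fun t x => by
        simp only [S, RingHom.id_apply, ← algebraMap_smul K t, map_smul, smul_eq_mul]
        module
      invFun := S k⁻¹
      left_inv := fun x => by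
        simp only [S, map_add, map_smul, smul_eq_mul, haa, hbb, hab, hba, inv_inv]
        match_scalars <;> field_simp <;> ring
      right_inv := fun x => by
        simp only [S, map_add, map_smul, smul_eq_mul, haa, hbb, hab, hba, inv_inv]
        match_scalars <;> field_simp <;> ring }
  obtain ⟨T, hT⟩ : ∃ T, T = ExtF.ofEquiv e := ⟨_, rfl⟩
  have hx : ∀ x, act T x = S k x := fun x => by rw [hT, ExtF.act_ofEquiv]; rfl
  have hlin : ∀ (c : K) x, act T (c • x) = c • act T x := fun c x => by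
    simp only [hx, S, map_smul, smul_eq_mul]
    module
  have hiso : T ∈ isometryGroup F Q := by
    rw [Orth.mem_iso Q]
    intro x
    refine mul_left_cancel₀ hA.two ?_
    rw [two_mul_Q hA, two_mul_Q hA, hx]
    congr 1
    simp only [S, map_add, map_smul, LinearMap.add_apply, LinearMap.smul_apply, smul_eq_mul, haa, hbb, hab, hba,
      hA.symm x a, hA.symm x b]
    field_simp
    ring
  have hTa : act T a = k • a := by
    simp only [hx, S, haa, hba, mul_one, mul_zero, zero_smul, add_zero, sub_smul, one_smul]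
    abel
  refine ⟨T * T, hA.lin _ (sq_mem_omega hA hiso) (fun c x => by rw [act_mul, act_mul, hlin, hlin]),
    by rw [act_mul, hTa, hlin, hTa, smul_smul], fun c x => by rw [act_mul, act_mul, hlin, hlin], fun x h1 h2 => ?_⟩
  have hTx : act T x = x := by simp [hx, S, h1, h2]
  rw [act_mul, hTx, hTx]

/-- the torus of a singular point -/
theorem exists_torus (hd : finrank K (ι → F) = 3) {a : ι → F} (ha : a ≠ 0) (haa : Φ a a = 0) {k : K} (hk : k ≠ 0) :
    ∃ T ∈ M, act T a = (k * k) • a ∧ ∀ (c : K) x, act T (c • x) = c • act T x := by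
  obtain ⟨b, z, hbb, hab, -, -, -, -⟩ := exists_frame hA hd ha haa
  obtain ⟨T, hT, hTa, hTl, -⟩ := exists_torus_pair hA haa hbb hab hk
  exact ⟨T, hT, hTa, hTl⟩

/-! ### Skew maps to a singular line -/

omit hA in
/-- the element `x ↦ x + X (Φ (a, x)) a` lies in `M` -/
def InZ (Φ : (ι → F) →ₗ[K] (ι → F) →ₗ[K] K) (M : Subgroup (GL ι F)) (a : ι → F) (X : K →ₗ[F] K) : Prop :=
  ∃ w ∈ M, ∀ x, act w x = x + X (Φ a x) • a

omit hA in
/-- the maps all whose multiples occur -/
def lineZ (M : Subgroup (GL ι F)) {a : ι → F} (haa : Φ a a = 0) : Submodule F (K →ₗ[F] K) where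
  carrier := {X | ∀ e : F, InZ Φ M a (e • X)}
  add_mem' {X Y} hX hY e := by
    obtain ⟨w, hw, hwx⟩ := hX e
    obtain ⟨u, hu, hux⟩ := hY e
    refine ⟨w * u, M.mul_mem hw hu, fun x => ?_⟩
    rw [act_mul, hux, hwx]
    simp only [map_add, map_smul, smul_eq_mul, haa, mul_zero, add_zero, smul_add, LinearMap.add_apply, add_smul,
      LinearMap.smul_apply]
    abel
  zero_mem' e := ⟨1, M.one_mem, fun x => by simp [act_one]⟩
  smul_mem' c X hX e := by rw [smul_smul]; exact hX _

theorem skew_of_mem {a : ι → F} (ha : a ≠ 0) {haa : Φ a a = 0} {X : K →ₗ[F] K} (hX : X ∈ lineZ M haa) (t : K) :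
    tr (t * X t) = 0 := by
  obtain ⟨b, -, hbb, hab⟩ := exists_partner hA (ndeg_top hA) (Submodule.mem_top (x := a)) ha haa
  obtain ⟨w, hw, hwx⟩ := hX 1
  have h := Orth.Q_act (iso_of_mem hA hw) (t • b)
  have h2 := congrArg (2 * ·) h
  simp only [two_mul_Q hA, hwx, one_smul, map_add, map_smul, LinearMap.add_apply, LinearMap.smul_apply, smul_eq_mul,
    haa, hbb, hab, hA.symm b a, mul_one, mul_zero, add_zero, zero_add] at h2
  rw [map_zero, mul_comm (X t) t, ← two_mul] at h2
  exact (mul_eq_zero.1 h2).resolve_left hA.two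

theorem transport_mem {a b : ι → F} {haa : Φ a a = 0} (hbb : Φ b b = 0) {h : GL ι F} (hh : h ∈ M) {k : K}
    (hab : act h a = k • b) (hl : ∀ (c : K) x, act h (c • x) = c • act h x) {X : K →ₗ[F] K}
    (hX : X ∈ lineZ M haa) : OExtF.twist k X ∈ lineZ M hbb := by
  intro e
  obtain ⟨w, hw, hwx⟩ := hX e
  refine ⟨h * w * h⁻¹, M.mul_mem (M.mul_mem hh hw) (M.inv_mem hh), fun x => ?_⟩
  have hΦ : Φ a (act h⁻¹ x) = k * Φ b x := by
    rw [← Phi_act hA hh hl, act_act_inv, hab, map_smul, LinearMap.smul_apply, smul_eq_mul]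
  rw [act_mul, act_mul, hwx, map_add, act_act_inv, hl, hab, hΦ, smul_smul]
  congr 2
  simp only [LinearMap.smul_apply, OExtF.twist_apply]
  rw [mul_comm k (X _), smul_mul_assoc]

theorem twist_mem (hd : finrank K (ι → F) = 3) {a : ι → F} (ha : a ≠ 0) {haa : Φ a a = 0} {X : K →ₗ[F] K}
    (hX : X ∈ lineZ M haa) (k : K) : OExtF.twist (k * k) X ∈ lineZ M haa := by
  rcases eq_or_ne k 0 with rfl | hk
  · rw [show OExtF.twist ((0 : K) * 0) X = 0 from LinearMap.ext fun t => by simp [OExtF.twist_apply]]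
    exact zero_mem _
  obtain ⟨T, hT, hTa, hTl⟩ := exists_torus hA hd ha haa hk
  exact transport_mem hA haa hT hTa hTl hX

/-- a skew map on one line gives one on every line -/
theorem exists_skew (hd : finrank K (ι → F) = 3) {a b : ι → F} (ha : a ≠ 0) {haa : Φ a a = 0} (hb : b ≠ 0)
    (hbb : Φ b b = 0) {X : K →ₗ[F] K} (hX : X ∈ lineZ M haa) (hne : X ≠ 0) : ∃ Y ∈ lineZ M hbb, Y ≠ 0 := by
  obtain ⟨h, hh, k, hk, hab, hl⟩ := exists_move_line hA hd ha haa hb hbb
  refine ⟨_, transport_mem hA hbb hh hab hl hX, fun e => hne (LinearMap.ext fun t => ?_)⟩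
  have := LinearMap.congr_fun e (k⁻¹ * t)
  rw [OExtF.twist_apply, mul_inv_cancel_left₀ hk, LinearMap.zero_apply, mul_eq_zero, or_iff_right hk] at this
  rw [this, LinearMap.zero_apply]

/-- the root elements of the line as skew maps -/
theorem roots_of_wedge {a : ι → F} {haa : Φ a a = 0} {c : K} (h : OExtF.wedge (F := F) (1 : K) c ∈ lineZ M haa) :
    Roots Q M a (c • a) := by
  have hB : ∀ k : K, B a (k • a) = 0 := fun k => by rw [← trace_mul' hA, haa, mul_zero, map_zero]
  refine ⟨hB c, fun e => ?_⟩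
  obtain ⟨w, hw, hwx⟩ := h e
  suffices Orth.sg Q a (e • c • a) = w by rwa [this]
  refine gl_ext fun x => ?_
  rw [hwx, Orth.act_sg Q (Q_of_singular hA haa) (by rw [Orth.B_smul_right Q, hB, mul_zero]),
    Orth.B_smul_left Q, Orth.Q_smul Q, Q_of_singular hA (show Φ (c • a) (c • a) = 0 by simp [haa]),
    ← hA.trace a x, ← trace_mul hA c a x, LinearMap.smul_apply, OExtF.wedge_apply, mul_one, mul_zero,
    zero_mul, add_zero, mul_comm c]
  match_scalars <;> simp [Algebra.smul_def] <;> ring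

/-- an element stabilising a singular line gives a skew map or is semilinear there -/
theorem line_dichotomy (hd : finrank K (ι → F) = 3) {a : ι → F} (ha : a ≠ 0) (haa : Φ a a = 0) {h : GL ι F}
    (hh : h ∈ M) {σ : K →ₗ[F] K} (hσ1 : σ 1 = 1) (hline : ∀ k : K, act h (k • a) = σ k • a) :
    (∃ X ∈ lineZ M haa, X ≠ 0) ∨ ((∀ x y, σ (x * y) = σ x * σ y) ∧
      ∀ z, Φ a z = 0 → Φ z z ≠ 0 → (∀ k, σ k = k) → ∃ c : K, ∀ u : K, Φ z (act h⁻¹ (u • z)) = c * u) := by
  refine or_iff_not_imp_left.2 fun hno => ?_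
  push Not at hno
  haveI : Finite K := Module.finite_of_finite F
  have hhi := iso_of_mem hA hh
  -- the adjoint of the map of the line
  choose s hs using fun t : K => SpExt.exists_trace_repr ((tr) ∘ₗ LinearMap.mulRight F t ∘ₗ σ)
  replace hs : ∀ t c, tr (σ c * t) = tr (c * s t) := fun t c => hs t c
  have hadj : ∀ x, Φ a (act h⁻¹ x) = s (Φ a x) := fun x => SpExt.ext_trace (F := F) fun c => by
    rw [trace_mul hA, ← Orth.B_act hhi, act_act_inv, hline, ← trace_mul hA, hs]
  let sl : K →ₗ[F] K :=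
    { toFun := s
      map_add' := fun t t' => SpExt.ext_trace (F := F) fun c => by
        rw [← hs, mul_add, map_add, hs, hs, mul_add, map_add]
      map_smul' := fun e t => SpExt.ext_trace (F := F) fun c => by
        rw [← hs, RingHom.id_apply, mul_smul_comm, mul_smul_comm, (tr).map_smul, (tr).map_smul, hs] }
  have hsl : ∀ t, sl t = s t := fun t => rfl
  have hσinj : Function.Injective σ := fun x y e =>
    smul_left_injective K ha (act_injective h (by show act h (x • a) = act h (y • a); rw [hline, hline, e]))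
  have main : ∀ z, Φ a z = 0 → Φ z z ≠ 0 → ∀ Y Y' t, σ (Y * Φ z (act h⁻¹ ((t * Y') • z))) =
      Y' * Φ z (act h ((s t * Y) • z)) := by
    intro z haz hzz Y Y' t
    let η : K →ₗ[F] K := (Φ z).restrictScalars F ∘ₗ act h ∘ₗ (LinearMap.toSpanSingleton K (ι → F) z).restrictScalars F
    let η' : K →ₗ[F] K :=
      (Φ z).restrictScalars F ∘ₗ act h⁻¹ ∘ₗ (LinearMap.toSpanSingleton K (ι → F) z).restrictScalars F
    let X : K → (K →ₗ[F] K) := fun Y' => LinearMap.mulLeft F Y' ∘ₗ η ∘ₗ LinearMap.mulRight F Y ∘ₗ sl -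
      σ ∘ₗ LinearMap.mulLeft F Y ∘ₗ η' ∘ₗ LinearMap.mulRight F Y'
    have hX : ∀ Y' t, X Y' t = Y' * Φ z (act h ((s t * Y) • z)) - σ (Y * Φ z (act h⁻¹ ((t * Y') • z))) :=
      fun Y' t => rfl
    have hmem : X Y' ∈ lineZ M haa := by
      intro e
      have heq : e • X Y' = X (e • Y') := LinearMap.ext fun t => by
        simp only [LinearMap.smul_apply, hX, mul_smul_comm, smul_mul_assoc, smul_sub, smul_assoc, map_smul,
          LinearMap.map_smul_of_tower]
      rw [heq]
      generalize e • Y' = Y'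
      obtain ⟨q, hq, hqx, -⟩ := exists_E hA haa (v := Y' • z) (by rw [map_smul, haz, smul_zero])
      obtain ⟨p₀, hp₀, hp₀x, -⟩ := exists_E hA haa (v := Y • z) (by rw [map_smul, haz, smul_zero])
      set p := h * p₀ * h⁻¹ with hp
      have hpM : p ∈ M := M.mul_mem (M.mul_mem hh hp₀) (M.inv_mem hh)
      have hyfix : ∀ (Y : K) (k : K), Φ (Y • z) (k • a) = 0 := fun Y k => by simp [hA.symm z a, haz]
      have hsurj : ∀ k : K, ∃ k' : K, σ k' = k := Finite.surjective_of_injective hσinj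
      have hpfix : ∀ k : K, act p (k • a) = k • a := fun k => by
        obtain ⟨k', rfl⟩ := hsurj k
        rw [hp, act_mul, act_mul, ← hline, act_inv_act, hp₀x, map_smul, haa, smul_zero, hyfix]
        simp
      have hqfix : ∀ k : K, act q (k • a) = k • a := fun k => by
        rw [hqx, map_smul, haa, smul_zero, hyfix]; simp
      have hkeep : ∀ {w : GL ι F}, w ∈ M → (∀ k : K, act w (k • a) = k • a) →
          ∀ x, Φ a (act w x) = Φ a x := fun {w} hw hwf x =>
        SpExt.ext_trace (F := F) fun k => by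
          rw [trace_mul hA, ← hwf k, Orth.B_act (iso_of_mem hA hw), ← trace_mul hA]
      refine ⟨p * q * (q * p)⁻¹, M.mul_mem (M.mul_mem hpM hq) (M.inv_mem (M.mul_mem hq hpM)), fun w => ?_⟩
      obtain ⟨x, rfl⟩ : ∃ x, act (q * p) x = w := ⟨act (q * p)⁻¹ w, act_act_inv _ w⟩
      rw [act_mul, act_inv_act]
      have ht : Φ a (act (q * p) x) = Φ a x := by rw [act_mul, hkeep hq hqfix, hkeep hpM hpfix]
      rw [ht]
      set t := Φ a x with htdef
      have hs0 : s 0 = 0 := map_zero sl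
      have hpty : act p (t • Y' • z) = t • Y' • z - σ (Y * Φ z (act h⁻¹ ((t * Y') • z))) • a := by
        have h1 : Φ a (act h⁻¹ (t • Y' • z)) = 0 := by
          rw [hadj, map_smul, map_smul, haz, smul_zero, smul_zero, hs0]
        rw [hp, act_mul, act_mul, hp₀x, h1]
        simp only [zero_smul, add_zero, mul_zero, map_sub, act_act_inv, hline]
        rw [LinearMap.map_smul Φ Y z, LinearMap.smul_apply, smul_eq_mul, smul_smul t Y' z]
      have hΦp : Φ (Y' • z) (act p x) = Φ (Y' • z) x + Y' * Φ z (act h ((s t * Y) • z)) := by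
        rw [hp, act_mul, act_mul, hp₀x, hadj, ← htdef, map_sub, map_add, act_act_inv, hline, map_sub, map_add,
          hyfix, sub_zero, smul_smul, LinearMap.map_smul Φ Y' z, LinearMap.smul_apply, LinearMap.smul_apply,
          smul_eq_mul, smul_eq_mul]
      have hlhs : act (p * q) x = act p x + (t • Y' • z - σ (Y * Φ z (act h⁻¹ ((t * Y') • z))) • a) -
          (Φ (Y' • z) x + Φ (Y' • z) (Y' • z) / 2 * t) • a := by
        rw [act_mul, hqx, ← htdef, map_sub, map_add, hpfix, hpty]
      have hrhs : act (q * p) x = act p x + t • Y' • z -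
          (Φ (Y' • z) x + Y' * Φ z (act h ((s t * Y) • z)) + Φ (Y' • z) (Y' • z) / 2 * t) • a := by
        rw [act_mul, hqx, hkeep hpM hpfix, ← htdef, hΦp]
      rw [hlhs, hrhs, hX]
      module
    have h0 := LinearMap.congr_fun (hno _ hmem) t
    rw [hX, LinearMap.zero_apply, sub_eq_zero] at h0
    exact h0.symm
  obtain ⟨b, z, hbb, hab, haz, hbz, hzz, -⟩ := exists_frame hA hd ha haa
  have key : ∀ z, Φ a z = 0 → Φ z z ≠ 0 → ∃ γ : K → K, γ 1 ≠ 0 ∧
      ∀ Y u, σ (Y * Φ z (act h⁻¹ (u • z))) = u * γ Y := by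
    intro z haz hzz
    refine ⟨fun Y => σ (Y * Φ z (act h⁻¹ z)), fun e => ?_, fun Y u => ?_⟩
    · dsimp only at e
      rw [one_mul, map_eq_zero_iff σ hσinj] at e
      have h1 : Φ a (act h⁻¹ z) = 0 := by rw [hadj, haz]; exact map_zero sl
      obtain ⟨k, hk⟩ := Submodule.mem_span_singleton.1 (mem_line hA hd ha haa haz hzz h1 e)
      refine hzz ?_
      rw [← act_act_inv h z, ← hk, hline]
      simp [haa]
    · have e1 := main z haz hzz Y u 1
      have e2 := main z haz hzz Y 1 1
      rw [one_mul] at e1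
      rw [one_mul, one_smul, one_mul] at e2
      rw [e1, ← e2]
  refine ⟨fun x y => ?_, fun z haz hzz hid => ?_⟩
  · obtain ⟨γ, hγ, hG⟩ := key z haz hzz
    have hsurj : ∀ y, ∃ u, Φ z (act h⁻¹ (u • z)) = y := fun y => ⟨σ y / γ 1, hσinj (by
      have := hG 1 (σ y / γ 1)
      rwa [one_mul, div_mul_cancel₀ _ hγ] at this)⟩
    obtain ⟨u, hu⟩ := hsurj y
    obtain ⟨u₁, hu₁⟩ := hsurj 1
    have e1 := hG x u
    have e2 := hG x u₁
    have e3 := hG 1 u
    have e4 := hG 1 u₁
    rw [hu] at e1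
    rw [hu₁, mul_one] at e2
    rw [hu, one_mul] at e3
    rw [hu₁, mul_one, hσ1] at e4
    rw [e1, e2, e3]
    linear_combination (u * γ x) * e4
  · obtain ⟨γ, -, hG⟩ := key z haz hzz
    exact ⟨γ 1, fun u => by have := hG 1 u; rw [one_mul, hid, mul_comm] at this; exact this⟩

end Cfsg.Agent.MaxCl.OExt
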