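/-
A three-dimensional orthogonal space over an extension field of prime degree at least three: best candidates exist,
and a skew map to a singular line or a small image of the point gives a best candidate orthogonal to its point.
-/
import Cfsg.Agent.Lib.MaxCl.OrthExtLine

set_option autoImplicit false
set_option linter.unusedSectionVars false
set_option maxHeartbeats 1600000

namespace Cfsg.Agent.MaxCl.OExt

open scoped MatrixGroups Matrix
open Module (finrank)

variable {ι : Type} [Fintype ι] [DecidableEq ι] {F : Type*} [Field F] [Finite F]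
  {K : Type*} [Field K] [Algebra F K] [Module K (ι → F)] [IsScalarTower F K (ι → F)] [Module.Finite F K]
variable {Q : QuadraticForm F (ι → F)} {Φ : (ι → F) →ₗ[K] (ι → F) →ₗ[K] K} {M : Subgroup (GL ι F)}

set_option quotPrecheck false in
local notation "B" => QuadraticMap.polar (⇑Q)

local notation "tr" => Algebra.trace F K

/-- the preimage of the line of the image of the point has the dimension of the intersection -/
theorem finrank_pre {g : GL ι F} {a₀ : ι → F} (h : Cand Φ M g a₀) :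
    finrank F (((K ∙ act g a₀).restrictScalars F).comap (lmap K g a₀)) =
      finrank F (ExtF.lineD K g a₀) := by
  refine le_antisymm ?_ (le_finrank_pre h)
  rw [(Submodule.equivMapOfInjective (lmap K g a₀) (lmap_injective g h.ne_zero)
      (((K ∙ act g a₀).restrictScalars F).comap (lmap K g a₀))).finrank_eq,
    (Submodule.equivMapOfInjective ((LinearMap.toSpanSingleton K (ι → F) (act g a₀)).restrictScalars F)
      (smul_left_injective K h.image_ne_zero) (ExtF.lineD K g a₀)).finrank_eq]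
  refine Submodule.finrank_mono ?_
  rintro _ ⟨i, hi, rfl⟩
  obtain ⟨d, hd⟩ := Submodule.mem_span_singleton.1 (show lmap K g a₀ i ∈ (K ∙ act g a₀) from hi)
  exact ⟨d, (ExtF.mem_lineD g a₀ d).2 ⟨i, hd.symm⟩, hd⟩

variable (hA : Amb Q Φ M)
include hA

theorem exists_cand3 (hd : finrank K (ι → F) = 3) (hr : (finrank F K).Prime) (h3 : 3 ≤ finrank F K)
    {g₀ : GL ι F} (hg₀ : g₀ ∈ M) (hns : ¬ ExtF.IsSemi K g₀) : ∃ g a₀, Cand Φ M g a₀ := by
  haveI : Module.Finite K (ι → F) := Module.Finite.right F K (ι → F)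
  obtain ⟨a₀, haa₀, k, hk⟩ : ∃ a, Φ a a = 0 ∧ ∃ k : K, act g₀ (k • a) ∉ (K ∙ act g₀ a) := by
    by_contra hc
    push Not at hc
    exact hns (isSemi_of_lines hA (by omega) hc)
  set a := act g₀ a₀ with ha
  by_cases haa : Φ a a = 0
  · exact ⟨g₀, a₀, hg₀, haa₀, haa, k, hk⟩
  have ha₀ : a₀ ≠ 0 := by
    rintro rfl
    simp [ha] at haa
  set L := LinearMap.range (lmap K g₀ a₀) with hL
  suffices H : ∃ u ∈ M, act u a = a ∧ ∃ j : K, act u (act g₀ (j • a₀)) ∉ L by
    obtain ⟨u, hu, hua, j, hj⟩ := H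
    have hga : act (g₀⁻¹ * u * g₀) a₀ = a₀ := by rw [act_mul, act_mul, ← ha, hua, ha, act_inv_act]
    refine ⟨g₀⁻¹ * u * g₀, a₀, M.mul_mem (M.mul_mem (M.inv_mem hg₀) hu) hg₀, haa₀, by rw [hga]; exact haa₀, j, ?_⟩
    rw [hga]
    intro hm
    obtain ⟨i, hi⟩ := Submodule.mem_span_singleton.1 hm
    exact hj ⟨i, by rw [lmap_apply, hi, act_mul, act_mul, act_act_inv]⟩
  by_contra hc
  push Not at hc
  have h2K := two_ne hA
  -- an orthogonal basis of the orthogonal space of `a`
  have hW : NDeg Φ (LinearMap.ker (Φ a)) := by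
    have := ndeg_perp hA (ndeg_top hA) (Submodule.mem_top (x := a)) haa
    rwa [top_inf_eq] at this
  have hWd := finrank_ker_ge (Φ a)
  obtain ⟨b₁, hb₁, hn₁⟩ := exists_nonsingular hA hW (by omega)
  obtain ⟨b₂, hb₂', hn₂⟩ := exists_nonsingular hA (ndeg_perp hA hW hb₁ hn₁) (by
    have := finrank_inf_ker_ge (LinearMap.ker (Φ a)) (Φ b₁)
    omega)
  have ha1 : Φ a b₁ = 0 := hb₁
  have ha2 : Φ a b₂ = 0 := hb₂'.1
  have h12 : Φ b₁ b₂ = 0 := hb₂'.2
  have hdec : ∀ x, x = (Φ a x / Φ a a) • a + (Φ b₁ x / Φ b₁ b₁) • b₁ + (Φ b₂ x / Φ b₂ b₂) • b₂ := by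
    intro x
    set w := x - ((Φ a x / Φ a a) • a + (Φ b₁ x / Φ b₁ b₁) • b₁ + (Φ b₂ x / Φ b₂ b₂) • b₂) with hw
    suffices w = 0 from sub_eq_zero.1 this
    have hw1 : Φ a w = 0 := by simp [hw, ha1, ha2, div_mul_cancel₀ _ haa]
    have hw2 : Φ b₁ w = 0 := by simp [hw, hA.symm b₁ a, ha1, h12, div_mul_cancel₀ _ hn₁]
    have hw3 : Φ b₂ w = 0 := by simp [hw, hA.symm b₂ a, ha2, hA.symm b₂ b₁, h12, div_mul_cancel₀ _ hn₂]
    by_contra hw0
    have hlt1 : LinearMap.ker (Φ a) < ⊤ := lt_top_iff_ne_top.2 fun h => haa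
      (show a ∈ LinearMap.ker (Φ a) by rw [h]; exact Submodule.mem_top)
    have hlt2 : LinearMap.ker (Φ a) ⊓ LinearMap.ker (Φ b₁) < LinearMap.ker (Φ a) :=
      lt_of_le_of_ne inf_le_left fun h => hn₁ ((show b₁ ∈ LinearMap.ker (Φ a) ⊓ LinearMap.ker (Φ b₁) by
        rw [h]; exact hb₁).2)
    have hlt3 : LinearMap.ker (Φ a) ⊓ LinearMap.ker (Φ b₁) ⊓ LinearMap.ker (Φ b₂) <
        LinearMap.ker (Φ a) ⊓ LinearMap.ker (Φ b₁) :=
      lt_of_le_of_ne inf_le_left fun h => hn₂ ((show b₂ ∈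
        LinearMap.ker (Φ a) ⊓ LinearMap.ker (Φ b₁) ⊓ LinearMap.ker (Φ b₂) by rw [h]; exact hb₂').2)
    have h3 := Submodule.finrank_lt hlt1.ne
    have h4 := Submodule.finrank_lt_finrank_of_lt hlt2
    have h6 := Submodule.finrank_lt_finrank_of_lt hlt3
    have hmem : w ∈ LinearMap.ker (Φ a) ⊓ LinearMap.ker (Φ b₁) ⊓ LinearMap.ker (Φ b₂) := ⟨⟨hw1, hw2⟩, hw3⟩
    have h7 : 0 < finrank K ↥(LinearMap.ker (Φ a) ⊓ LinearMap.ker (Φ b₁) ⊓ LinearMap.ker (Φ b₂)) :=
      Module.finrank_pos_iff_exists_ne_zero.2 ⟨⟨w, hmem⟩, fun e => hw0 (congrArg Subtype.val e)⟩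
    omega
  -- a rotation with a trace outside the ground field
  obtain ⟨y, x, hy, hyF⟩ : ∃ y x : K, y = Φ b₂ b₂ / Φ b₁ b₁ * (x * x) ∧ ∀ e : F, algebraMap F K e ≠ y := by
    obtain ⟨θ, hθ⟩ := ExtF.exists_not_scalar (F := F) (K := K) hr.one_lt
    by_contra hcon
    push Not at hcon
    obtain ⟨e₁, he₁⟩ := hcon _ 1 rfl
    obtain ⟨e₂, he₂⟩ := hcon _ θ rfl
    rw [one_mul, mul_one] at he₁
    rw [← he₁] at he₂
    have he0 : e₁ ≠ 0 := fun h => div_ne_zero hn₂ hn₁ (by rw [← he₁, h, map_zero])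
    obtain ⟨e, he⟩ := OExtF.eq_scalar_of_quadratic hr (by omega) (y := θ) (p := 0) (q := e₂ / e₁) (by
      rw [zero_smul, zero_add, map_div₀, he₂, mul_div_cancel_left₀ _ ((map_ne_zero _).2 he0)])
    exact hθ e he
  set ρ := Φ b₂ b₂ / Φ b₁ b₁ with hρ
  have hy1 : 1 + ρ * (x * x) ≠ 0 := fun e => hyF (-1) (by
    rw [hy, map_neg, map_one]
    linear_combination -e)
  set S := 2 * x / (1 + ρ * (x * x)) with hS
  set C := (1 - ρ * (x * x)) / (1 + ρ * (x * x)) with hC
  have hCS : C * C + ρ * (S * S) = 1 := by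
    rw [hS, hC, div_mul_div_comm, div_mul_div_comm, ← mul_div_assoc, ← add_div,
      div_eq_one_iff_eq (mul_ne_zero hy1 hy1)]
    ring
  set ζ := -4 * (ρ * (S * S)) with hζ
  have hζF : ∀ e : F, algebraMap F K e ≠ ζ := by
    intro e he
    have h1 : algebraMap F K e * ((1 + y) * (1 + y)) + 16 * y = 0 := by
      rw [he, hζ, hS, hy, div_mul_div_comm, ← mul_div_assoc, ← mul_div_assoc, div_mul_cancel₀ _ (mul_ne_zero hy1 hy1)]
      ring
    have he0 : e ≠ 0 := by
      rintro rfl
      rw [map_zero, zero_mul, zero_add, mul_eq_zero] at h1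
      rcases h1 with h1 | h1
      · exact pow_ne_zero 4 h2K (by linear_combination h1)
      · exact hyF 0 (by rw [map_zero, h1])
    obtain ⟨e', he'⟩ := OExtF.eq_scalar_of_quadratic hr (by omega) (y := y) (p := -((2 * e + 16) / e)) (q := -1) (by
      rw [Algebra.smul_def]
      simp only [map_neg, map_div₀, map_add, map_mul, map_ofNat, map_one]
      have h0 : algebraMap F K e ≠ 0 := (map_ne_zero _).2 he0
      field_simp
      linear_combination h1)
    exact hyF e' he'
  let R : K → (ι → F) → (ι → F) := fun S x =>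
    x + ((C - 1) * (Φ b₁ x / Φ b₁ b₁) - S * ρ * (Φ b₂ x / Φ b₂ b₂)) • b₁ +
      (S * (Φ b₁ x / Φ b₁ b₁) + (C - 1) * (Φ b₂ x / Φ b₂ b₂)) • b₂
  have hinv : ∀ S' x, S' * S' = S * S → R S' (R (-S') x) = x := by
    intro S' x hS'
    simp only [R, map_add, map_smul, smul_eq_mul, h12, hA.symm b₂ b₁]
    have hCS' : C * C + ρ * (S' * S') = 1 := by rw [hS']; exact hCS
    match_scalars <;> field_simp <;> grobner
  let e : (ι → F) ≃ₗ[F] (ι → F) :=
    { toFun := R S
      map_add' := fun x y => by simp only [R, map_add]; module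
      map_smul' := fun t x => by
        simp only [R, RingHom.id_apply, ← algebraMap_smul K t, map_smul, smul_eq_mul]
        module
      invFun := R (-S)
      left_inv := fun x => by
        have := hinv (-S) x (by ring)
        rwa [neg_neg] at this
      right_inv := fun x => hinv S x rfl }
  obtain ⟨T, hT⟩ : ∃ T, T = ExtF.ofEquiv e := ⟨_, rfl⟩
  have hTx : ∀ x, act T x = R S x := fun x => by rw [hT, ExtF.act_ofEquiv]; rfl
  have hTi : ∀ x, act T⁻¹ x = R (-S) x := fun x => act_injective T (by rw [act_act_inv, hTx, hinv S x rfl])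
  have hTl : ∀ (c : K) x, act T (c • x) = c • act T x := fun c x => by
    simp only [hTx, R, map_smul, smul_eq_mul]
    module
  have hiso : T ∈ isometryGroup F Q := by
    rw [Orth.mem_iso Q]
    intro x
    refine mul_left_cancel₀ hA.two ?_
    rw [two_mul_Q hA, two_mul_Q hA, hTx]
    congr 1
    have hr2 : ρ * Φ b₁ b₁ = Φ b₂ b₂ := by rw [hρ, div_mul_cancel₀ _ hn₁]
    simp only [R, map_add, map_smul, LinearMap.add_apply, LinearMap.smul_apply, smul_eq_mul, h12, hA.symm b₂ b₁,
      hA.symm x b₁, hA.symm x b₂]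
    field_simp
    grobner
  have hu : T * T ∈ M := hA.lin _ (sq_mem_omega hA hiso) fun c x => by rw [act_mul, act_mul, hTl, hTl]
  have hRa : ∀ S', R S' a = a := fun S' => by simp [R, hA.symm b₁ a, ha1, hA.symm b₂ a, ha2]
  -- the sum of the rotation and its inverse
  have hsum : ∀ x, act (T * T) x + act (T * T)⁻¹ x - (x + x) = ζ • (x - (Φ a x / Φ a a) • a) := by
    intro x
    have e1 : x - (Φ a x / Φ a a) • a = (Φ b₁ x / Φ b₁ b₁) • b₁ + (Φ b₂ x / Φ b₂ b₂) • b₂ := by
      nth_rewrite 1 [hdec x]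
      abel
    rw [e1, mul_inv_rev, act_mul, act_mul, hTx, hTx, hTi, hTi, hζ]
    simp only [R, map_add, map_smul, smul_eq_mul, h12, hA.symm b₂ b₁]
    match_scalars <;> field_simp <;> grobner
  have hinvM : (T * T)⁻¹ ∈ M := M.inv_mem hu
  have hfix : act (T * T) a = a := by rw [act_mul, hTx a, hRa, hTx a, hRa]
  have hfix' : act (T * T)⁻¹ a = a := act_injective (T * T) (by rw [act_act_inv, hfix])
  have hP : ∀ l ∈ L, ζ • (l - (Φ a l / Φ a a) • a) ∈ L := by
    rintro l ⟨j, rfl⟩
    rw [← hsum]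
    exact L.sub_mem (L.add_mem (hc _ hu hfix j) (hc _ hinvM hfix' j)) (L.add_mem ⟨j, rfl⟩ ⟨j, rfl⟩)
  set w := act g₀ (k • a₀) - (Φ a (act g₀ (k • a₀)) / Φ a a) • a with hw
  have haw : Φ a w = 0 := by simp [hw, div_mul_cancel₀ _ haa]
  have hw0 : w ≠ 0 := fun e => hk (by
    rw [hw, sub_eq_zero] at e
    exact Submodule.mem_span_singleton.2 ⟨_, e.symm⟩)
  set P : Submodule F K := L.comap ((LinearMap.toSpanSingleton K (ι → F) w).restrictScalars F) with hPdef
  have hζP : ζ ∈ P := hP _ ⟨k, rfl⟩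
  have hmul : ∀ c ∈ P, ζ * c ∈ P := fun c hcP => by
    have := hP (c • w) hcP
    rwa [map_smul, haw, smul_zero, zero_div, zero_smul, sub_zero, smul_smul] at this
  let C' : Subalgebra F K :=
    { carrier := {c | ∀ d ∈ P, c * d ∈ P}
      mul_mem' := fun {x y} hx hy d hd => by rw [mul_assoc]; exact hx _ (hy d hd)
      one_mem' := fun d hd => by rwa [one_mul]
      add_mem' := fun {x y} hx hy d hd => by rw [add_mul]; exact P.add_mem (hx d hd) (hy d hd)
      zero_mem' := fun d _ => by rw [zero_mul]; exact P.zero_mem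
      algebraMap_mem' := fun c d hd => by rw [← Algebra.smul_def]; exact P.smul_mem c hd }
  have hC' : C' = ⊤ := by
    haveI := Subalgebra.isSimpleOrder_of_finrank_prime F K hr
    refine (IsSimpleOrder.eq_bot_or_eq_top C').resolve_left fun hb => ?_
    have h1 : ζ ∈ C' := hmul
    rw [hb] at h1
    obtain ⟨e, he⟩ := Algebra.mem_bot.1 h1
    exact hζF e he
  have hζ0 : ζ ≠ 0 := fun h => hζF 0 (by rw [map_zero, h])
  have hKw : (K ∙ w).restrictScalars F ≤ L := by
    intro v hv
    obtain ⟨c, rfl⟩ := Submodule.mem_span_singleton.1 hv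
    have := (hC' ▸ Algebra.mem_top : c / ζ ∈ C') ζ hζP
    rwa [div_mul_cancel₀ _ hζ0] at this
  have hle : finrank F L ≤ finrank F ((K ∙ w).restrictScalars F) := by
    have h1 : finrank F L ≤ finrank F K := LinearMap.finrank_range_le _
    have e : ((⊤ : Submodule F K).map ((LinearMap.toSpanSingleton K (ι → F) w).restrictScalars F)) =
        (K ∙ w).restrictScalars F := by
      ext v
      simp [Submodule.mem_span_singleton]
    rw [← e, ← (Submodule.equivMapOfInjective _ (smul_left_injective K hw0) ⊤).finrank_eq, finrank_top]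
    exact h1
  have haL : a ∈ (K ∙ w).restrictScalars F := by
    rw [Submodule.eq_of_le_of_finrank_le hKw hle]
    exact ⟨1, by rw [lmap_apply, one_smul, ← ha]⟩
  obtain ⟨c, hcw⟩ := Submodule.mem_span_singleton.1 haL
  refine haa ?_
  nth_rewrite 2 [← hcw]
  rw [map_smul, haw, smul_zero]

theorem exists_max {g₁ : GL ι F} {a₁ : ι → F} (hc₁ : Cand Φ M g₁ a₁) : ∃ g a₀, IsMax Φ M g a₀ := by
  classical
  let S : Set ℕ := {n | ∃ g a₀, Cand Φ M g a₀ ∧ finrank F (ExtF.lineD K g a₀) = n}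
  have hbound : ∀ n ∈ S, n ≤ finrank F K := by
    rintro n ⟨g, a, -, rfl⟩
    exact Submodule.finrank_le _
  obtain ⟨g, a₀, hc, hfin⟩ : Nat.findGreatest (· ∈ S) (finrank F K) ∈ S :=
    Nat.findGreatest_spec (hbound _ ⟨g₁, a₁, hc₁, rfl⟩) ⟨g₁, a₁, hc₁, rfl⟩
  exact ⟨g, a₀, hc, fun g' a' h' => by
    rw [hfin]; exact Nat.le_findGreatest (hbound _ ⟨g', a', h', rfl⟩) ⟨g', a', h', rfl⟩⟩

/-- in dimension three the image of the line in a best candidate is orthogonal to the point or meets the orthogonal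
space only in the point -/
theorem orth_of_one3 (hd : finrank K (ι → F) = 3) (hr : (finrank F K).Prime) (h5 : 5 ≤ finrank F K) {g : GL ι F}
    {a₀ : ι → F} (h : IsMax Φ M g a₀) {j : K} (hj : act g (j • a₀) ∉ (K ∙ act g a₀))
    (hφ : Φ (act g a₀) (act g (j • a₀)) = 0) (i : K) : Φ (act g a₀) (act g (i • a₀)) = 0 := by
  by_contra hi
  have hane := h.toCand.image_ne_zero
  set a := act g a₀ with ha
  have haa : Φ a a = 0 := h.sing'
  obtain ⟨b, z, -, -, haz, -, hzz, -⟩ := exists_frame hA hd hane haa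
  set l := act g (j • a₀) with hl
  set χ := Φ z l with hχ
  have hχ0 : χ ≠ 0 := fun e => hj (mem_line hA hd hane haa haz hzz hφ e)
  set D := ExtF.lineD K g a₀ with hD
  have stab : ∀ Y : K, Y * χ ∈ D → ∀ c : K,
      Φ a (act g (c • a₀)) • Y • z - (Y * Φ z (act g (c • a₀)) + Φ (Y • z) (Y • z) / 2 * Φ a (act g (c • a₀))) • a ∈
        LinearMap.range (lmap K g a₀) := by
    intro Y hY c
    obtain ⟨u, hu, hux, -⟩ := exists_E hA haa (v := Y • z) (by rw [map_smul, haz, smul_zero])
    have hΦ : ∀ y, Φ (Y • z) y = Y * Φ z y := fun y => by simp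
    have hfix : ∀ e : K, act u (e • a) = e • a := fun e => by
      rw [hux, map_smul, hΦ, map_smul, haa, hA.symm z a, haz]; simp
    have hul : act u l ∈ LinearMap.range (lmap K g a₀) := by
      rw [hux, hφ, zero_smul, add_zero, mul_zero, add_zero, hΦ]
      exact Submodule.sub_mem _ ⟨j, rfl⟩ (mem_range_lmap_smul.2 hY)
    have h1 := stable_of hA h hu hfix hj hul c
    rw [hux, hΦ (act g (c • a₀))] at h1
    convert Submodule.sub_mem _ h1 (⟨c, rfl⟩ : act g (c • a₀) ∈ LinearMap.range (lmap K g a₀)) using 1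
    abel
  let Stab : Subalgebra F K :=
    { carrier := {c | ∀ d ∈ D, c * d ∈ D}
      mul_mem' := fun {x y} hx hy d hd => by rw [mul_assoc]; exact hx _ (hy d hd)
      one_mem' := fun d hd => by rwa [one_mul]
      add_mem' := fun {x y} hx hy d hd => by rw [add_mul]; exact D.add_mem (hx d hd) (hy d hd)
      zero_mem' := fun d _ => by rw [zero_mul]; exact D.zero_mem
      algebraMap_mem' := fun c d hd => by rw [← Algebra.smul_def]; exact D.smul_mem c hd }
  have hDtop : finrank F D < finrank F K := lineD_lt h.toCand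
  have hStab : Stab = ⊥ := by
    haveI := Subalgebra.isSimpleOrder_of_finrank_prime F K hr
    refine (IsSimpleOrder.eq_bot_or_eq_top Stab).resolve_right fun hb => ?_
    rw [(eq_top_iff.2 fun c _ => by
      have := (hb ▸ Algebra.mem_top : c ∈ Stab) 1 (one_mem_lineD g a₀)
      rwa [mul_one] at this : D = ⊤), finrank_top] at hDtop
    omega
  -- the orthogonal part of the image
  have hN : ∀ c : K, Φ a (act g (c • a₀)) = 0 → ∃ e : F, Φ z (act g (c • a₀)) = algebraMap F K e * χ := by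
    intro c hc
    have hmem : Φ z (act g (c • a₀)) / χ ∈ Stab := by
      intro d hd'
      have h1 := stab (d / χ) (by rwa [div_mul_cancel₀ _ hχ0]) c
      rw [hc, zero_smul, zero_sub, mul_zero, add_zero, Submodule.neg_mem_iff, mem_range_lmap_smul] at h1
      rwa [div_mul_eq_mul_div, mul_comm, ← div_mul_eq_mul_div]
    rw [hStab] at hmem
    obtain ⟨e, he⟩ := Algebra.mem_bot.1 hmem
    exact ⟨e, by rw [he, div_mul_cancel₀ _ hχ0]⟩
  set κ := χ * χ / Φ z z with hκ
  have hκ0 : κ ≠ 0 := div_ne_zero (mul_ne_zero hχ0 hχ0) hzz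
  have himg : ∀ c : K, ∀ d ∈ D, ∃ e : F, Φ a (act g (c • a₀)) * d = algebraMap F K e * κ := by
    intro c d hd'
    obtain ⟨c₁, hc₁⟩ := stab (d / χ) (by rwa [div_mul_cancel₀ _ hχ0]) c
    rw [lmap_apply] at hc₁
    obtain ⟨e, he⟩ := hN c₁ (by rw [hc₁]; simp [haz, haa])
    rw [hc₁, map_sub, map_smul (Φ z), map_smul (Φ z) (d / χ) z, map_smul (Φ z), hA.symm z a, haz, smul_zero, sub_zero,
      smul_eq_mul, smul_eq_mul] at he
    refine ⟨e, ?_⟩
    rw [hκ]
    field_simp at he ⊢
    linear_combination he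
  obtain ⟨e₁, he₁⟩ := himg i 1 (one_mem_lineD g a₀)
  rw [mul_one] at he₁
  have he₁0 : algebraMap F K e₁ ≠ 0 := fun e => hi (by rw [he₁, e, zero_mul])
  have hD1 : finrank F D ≤ 1 := by
    refine le_trans (Submodule.finrank_mono fun d hd' => ?_) (finrank_span_singleton (K := F) (one_ne_zero (α := K))).le
    obtain ⟨e, he⟩ := himg i d hd'
    rw [he₁, mul_right_comm] at he
    have h1 := mul_right_cancel₀ hκ0 he
    exact Submodule.mem_span_singleton.2 ⟨e / e₁, by
      rw [Algebra.smul_def, mul_one, map_div₀, ← h1, mul_div_cancel_left₀ _ he₁0]⟩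
  let φl : K →ₗ[F] K := (Φ a).restrictScalars F ∘ₗ lmap K g a₀
  let χl : K →ₗ[F] K := (Φ z).restrictScalars F ∘ₗ lmap K g a₀
  let ψ : LinearMap.ker φl →ₗ[F] K := χl ∘ₗ (LinearMap.ker φl).subtype
  have hr1 : finrank F (LinearMap.range φl) ≤ 1 := by
    refine le_trans (Submodule.finrank_mono ?_) (finrank_span_singleton (K := F) hκ0).le
    rintro _ ⟨c, rfl⟩
    obtain ⟨e, he⟩ := himg c 1 (one_mem_lineD g a₀)
    rw [mul_one] at he
    exact Submodule.mem_span_singleton.2 ⟨e, by rw [Algebra.smul_def]; exact he.symm⟩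
  have hr2 : finrank F (LinearMap.range ψ) ≤ 1 := by
    refine le_trans (Submodule.finrank_mono ?_) (finrank_span_singleton (K := F) hχ0).le
    rintro _ ⟨⟨c, hc⟩, rfl⟩
    obtain ⟨e, he⟩ := hN c hc
    exact Submodule.mem_span_singleton.2 ⟨e, by rw [Algebra.smul_def]; exact he.symm⟩
  have hker : finrank F (LinearMap.ker ψ) ≤ finrank F D := by
    rw [← Submodule.finrank_map_subtype_eq, ← finrank_pre h.toCand]
    refine Submodule.finrank_mono ?_
    rintro _ ⟨⟨c, hc⟩, hc', rfl⟩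
    exact mem_line hA hd hane haa haz hzz hc hc'
  have h1 := LinearMap.finrank_range_add_finrank_ker φl
  have h2 := LinearMap.finrank_range_add_finrank_ker ψ
  omega

/-- without skew maps an element stabilising a singular line induces an automorphism on it -/
theorem exists_aut (hd : finrank K (ι → F) = 3) (hz : ∀ (a : ι → F) (haa : Φ a a = 0), a ≠ 0 → ∀ X ∈ lineZ M haa, X = 0)
    {a : ι → F} (ha : a ≠ 0) (haa : Φ a a = 0) {h : GL ι F} (hh : h ∈ M) (hha : act h a = a)
    (hst : ∀ k : K, act h (k • a) ∈ (K ∙ a)) : ∃ σ : K ≃ₐ[F] K, ∀ k, act h (k • a) = σ k • a := by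
  choose s hs using fun k => Submodule.mem_span_singleton.1 (hst k)
  haveI : Finite K := Module.finite_of_finite F
  let σl : K →ₗ[F] K :=
    { toFun := s
      map_add' := fun x y => smul_left_injective K ha (by
        show s (x + y) • a = (s x + s y) • a
        rw [add_smul, hs, hs, hs, add_smul, map_add])
      map_smul' := fun t x => smul_left_injective K ha (by
        show s (t • x) • a = (t • s x) • a
        rw [hs, smul_assoc, map_smul, smul_assoc, hs]) }
  have hσ1 : σl 1 = 1 := smul_left_injective K ha (by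
    show s 1 • a = (1 : K) • a
    rw [hs, one_smul, hha])
  rcases line_dichotomy hA hd ha haa hh hσ1 (fun k => (hs k).symm) with ⟨X, hX, hne⟩ | ⟨hmul, -⟩
  · exact absurd (hz a haa ha X hX) hne
  have hinj : Function.Injective (AlgHom.ofLinearMap σl hσ1 hmul) := RingHom.injective (AlgHom.ofLinearMap σl hσ1 hmul).toRingHom
  exact ⟨AlgEquiv.ofBijective _ ⟨hinj, Finite.surjective_of_injective hinj⟩, fun k => (hs k).symm⟩

/-- without skew maps the unipotent of a kernel vector twists the line by a translation of the kernel vector -/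
theorem exists_shift (hd : finrank K (ι → F) = 3)
    (hz : ∀ (a : ι → F) (haa : Φ a a = 0), a ≠ 0 → ∀ X ∈ lineZ M haa, X = 0) {g : GL ι F} {a₀ : ι → F}
    (h : IsMax Φ M g a₀) {j : K} (hj : act g (j • a₀) ∉ (K ∙ act g a₀))
    (hφ : Φ (act g a₀) (act g (j • a₀)) = 0) : ∃ σ : K ≃ₐ[F] K, σ j = j - 1 := by
  have hane := h.toCand.image_ne_zero
  set a := act g a₀ with ha
  have haa : Φ a a = 0 := h.sing'
  obtain ⟨b, z, -, -, haz, -, hzz, -⟩ := exists_frame hA hd hane haa
  have hχ0 : Φ z (act g (j • a₀)) ≠ 0 := fun e => hj (mem_line hA hd hane haa haz hzz hφ e)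
  obtain ⟨E, hE, hEx, -⟩ := exists_E hA haa (v := (Φ z (act g (j • a₀)))⁻¹ • z)
    (by rw [map_smul, haz, smul_zero])
  have hfix : ∀ k : K, act E (k • a) = k • a := fun k => by
    rw [hEx]; simp [haa, hA.symm z a, haz]
  have hEl : act E (act g (j • a₀)) = act g (j • a₀) - a := by
    rw [hEx, hφ, zero_smul, add_zero, mul_zero, add_zero, LinearMap.map_smul Φ, LinearMap.smul_apply, smul_eq_mul,
      inv_mul_cancel₀ hχ0, one_smul]
  have hmem : act E (act g (j • a₀)) ∈ LinearMap.range (lmap K g a₀) := by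
    rw [hEl]
    exact Submodule.sub_mem _ ⟨j, rfl⟩ ⟨1, by rw [lmap_apply, one_smul, ha]⟩
  set w := g⁻¹ * E * g with hw
  have hwM : w ∈ M := M.mul_mem (M.mul_mem (M.inv_mem h.mem) hE) h.mem
  have hwa : act w a₀ = a₀ := by
    have := hfix 1
    rw [one_smul] at this
    rw [hw, act_mul, act_mul, ← ha, this, ha, act_inv_act]
  have hst : ∀ k : K, act w (k • a₀) ∈ (K ∙ a₀) := fun k => by
    obtain ⟨i, hi⟩ := stable_of hA h hE hfix hj hmem k
    exact Submodule.mem_span_singleton.2 ⟨i, by rw [hw, act_mul, act_mul, ← hi, lmap_apply, act_inv_act]⟩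
  obtain ⟨σ, hσ⟩ := exists_aut hA hd hz h.toCand.ne_zero h.sing hwM hwa hst
  refine ⟨σ, smul_left_injective K h.toCand.ne_zero ?_⟩
  show σ j • a₀ = (j - 1) • a₀
  rw [← hσ, hw, act_mul, act_mul, hEl, map_sub, act_inv_act, ha, act_inv_act, sub_smul, one_smul]

/-- in degree three a kernel vector off the point gives a best candidate orthogonal to its point -/
theorem false_of_kernel3 (hd : finrank K (ι → F) = 3) (hr : (finrank F K).Prime) (hr3 : finrank F K = 3)
    (hno : ∀ g a₀, IsMax Φ M g a₀ → ∃ i : K, Φ (act g a₀) (act g (i • a₀)) ≠ 0) {g : GL ι F} {a₀ : ι → F}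
    (h : IsMax Φ M g a₀) {j : K} (hj : act g (j • a₀) ∉ (K ∙ act g a₀))
    (hφ : Φ (act g a₀) (act g (j • a₀)) = 0) : False := by
  have ha₀ := h.toCand.ne_zero
  have hane := h.toCand.image_ne_zero
  set a := act g a₀ with ha
  have haa : Φ a a = 0 := h.sing'
  obtain ⟨i, hi⟩ := hno g a₀ h
  set κ := Φ a (act g (i • a₀)) with hκ
  -- the kernel is a plane and the intersection is the ground field
  let φl : K →ₗ[F] K := (Φ a).restrictScalars F ∘ₗ lmap K g a₀
  set A₀ := ((K ∙ a).restrictScalars F).comap (lmap K g a₀) with hA₀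
  have hδ : finrank F A₀ = finrank F (ExtF.lineD K g a₀) := finrank_pre h.toCand
  have hlt : A₀ < LinearMap.ker φl := lt_of_le_of_ne (fun c hc => by
      obtain ⟨k, hk⟩ := Submodule.mem_span_singleton.1 (show lmap K g a₀ c ∈ (K ∙ a) from hc)
      show Φ a (lmap K g a₀ c) = 0
      rw [← hk, map_smul, haa, smul_zero]) fun e => hj (by
      have : j ∈ A₀ := by rw [e]; exact hφ
      exact this)
  have h1 := Submodule.finrank_lt_finrank_of_lt hlt
  have h2 := LinearMap.finrank_range_add_finrank_ker φl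
  have hD1 : 1 ≤ finrank F (ExtF.lineD K g a₀) := Submodule.one_le_finrank_iff.2 fun e => one_ne_zero (α := K) (by
    rw [← Submodule.mem_bot F, ← e]; exact one_mem_lineD g a₀)
  have hrange : 1 ≤ finrank F (LinearMap.range φl) := Submodule.one_le_finrank_iff.2 fun e => hi (by
    rw [← Submodule.mem_bot F, ← e]; exact ⟨i, rfl⟩)
  have hDeq : ExtF.lineD K g a₀ = F ∙ (1 : K) := (Submodule.eq_of_le_of_finrank_le (by
    rw [Submodule.span_singleton_le_iff_mem]; exact one_mem_lineD g a₀) (by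
    rw [finrank_span_singleton (one_ne_zero (α := K))]; omega)).symm
  have hmul : ∀ c, ∃ e : F, φl c = e • κ := fun c => by
    have : LinearMap.range φl = F ∙ κ := (Submodule.eq_of_le_of_finrank_le (by
      rw [Submodule.span_singleton_le_iff_mem]; exact ⟨i, rfl⟩) (by
      rw [finrank_span_singleton hi]; omega)).symm
    obtain ⟨e, he⟩ := Submodule.mem_span_singleton.1 (this.le ⟨c, rfl⟩)
    exact ⟨e, he.symm⟩
  have hall : ∀ g' a', Cand Φ M g' a' → IsMax Φ M g' a' := fun g' a' hc => ⟨hc, fun g'' a'' hc' => by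
    have h3 : 1 ≤ finrank F (ExtF.lineD K g' a') := Submodule.one_le_finrank_iff.2 fun e =>
      one_ne_zero (α := K) (by rw [← Submodule.mem_bot F, ← e]; exact one_mem_lineD g' a')
    have := h.le _ _ hc'
    omega⟩
  have htκ : tr κ = 0 := by
    rw [hκ, hA.trace, Orth.B_act (iso_of_mem hA h.mem), ← one_smul K a₀, smul_smul, B_of_perp hA h.sing]
  have hnotmem : ∀ c : K, (∀ e : F, algebraMap F K e ≠ c) → c • a ∉ LinearMap.range (lmap K g a₀) := by
    intro c hc hm
    rw [ha, mem_range_lmap_smul, hDeq] at hm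
    obtain ⟨e, he⟩ := Submodule.mem_span_singleton.1 hm
    exact hc e (by rw [Algebra.algebraMap_eq_smul_one, he])
  by_cases hz : ∀ (a : ι → F) (haa : Φ a a = 0), a ≠ 0 → ∀ X ∈ lineZ M haa, X = 0
  swap
  · push Not at hz
    obtain ⟨a₁, haa₁, ha₁, X₁, hX₁, hne₁⟩ := hz
    obtain ⟨X₀, hX₀, hne⟩ := exists_skew hA hd ha₁ hane haa hX₁ hne₁
    obtain ⟨c, hc, hcF⟩ : ∃ c : K, tr (c * κ) = 0 ∧ ∀ e : F, algebraMap F K e ≠ c := by
      by_contra hcon
      push Not at hcon
      have hle : LinearMap.ker ((tr) ∘ₗ LinearMap.mulRight F κ) ≤ F ∙ (1 : K) := fun c hc => by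
        obtain ⟨e, he⟩ := hcon c hc
        exact Submodule.mem_span_singleton.2 ⟨e, by rw [← Algebra.algebraMap_eq_smul_one, he]⟩
      have h3 := Submodule.finrank_mono hle
      rw [finrank_span_singleton (one_ne_zero (α := K))] at h3
      have h4 := LinearMap.finrank_range_add_finrank_ker ((tr) ∘ₗ LinearMap.mulRight F κ)
      have h5 := (Submodule.finrank_le (LinearMap.range ((tr) ∘ₗ LinearMap.mulRight F κ))).trans_eq
        (Module.finrank_self F)
      omega
    obtain ⟨X, hX, hXκ⟩ := OExtF.exists_image hr (by omega) hA.two (fun X hX k => twist_mem hA hd hane hX k)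
      hX₀ hne (skew_of_mem hA hane hX₀) hi hc
    obtain ⟨w, hw, hwx⟩ := hX 1
    rw [one_smul] at hwx
    have hfix : ∀ k : K, act w (k • a) = k • a := fun k => by
      rw [hwx, map_smul, haa, smul_zero, map_zero, zero_smul, add_zero]
    obtain ⟨hcand, hga, -⟩ := cand_conj hA h.toCand hw hfix (j₀ := i) (fun hm => by
      rw [hwx, ← hκ, hXκ] at hm
      exact hnotmem c hcF ((Submodule.add_mem_iff_right _ (⟨i, rfl⟩ :
        act g (i • a₀) ∈ LinearMap.range (lmap K g a₀))).1 hm))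
    obtain ⟨i', hi'⟩ := hno _ _ (hall _ _ hcand)
    refine hi' ?_
    rw [hga]
    refine perp_of_B hA fun k => ?_
    rw [← Orth.B_act (iso_of_mem hA h.mem), act_mul, act_mul, act_act_inv, hwx, Orth.B_add_right Q,
      Orth.B_act (iso_of_mem hA h.mem), B_of_perp hA h.sing, zero_add, ← trace_mul' hA, hA.symm _ a]
    obtain ⟨e₁, he₁⟩ := hmul i'
    obtain ⟨e₂, he₂⟩ := hmul k
    show tr (X (φl i') * φl k) = 0
    rw [he₁, he₂, map_smul, hXκ, smul_mul_smul_comm, map_smul, hc, smul_zero]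
  -- without skew maps a torus fixing the kernel vector gives a second twist
  obtain ⟨σ, hσ⟩ := exists_shift hA hd hz h hj hφ
  set l := act g (j • a₀) with hl
  obtain ⟨b₀, z, hb₀, hab₀, haz, hb₀z, hzz, hdec⟩ := exists_frame hA hd hane haa
  have hχ0 : Φ z l ≠ 0 := fun e => hj (mem_line hA hd hane haa haz hzz hφ e)
  have hll : Φ l l ≠ 0 := by
    conv_lhs => rw [hdec l]
    simp only [hφ, map_add, map_smul, LinearMap.add_apply, LinearMap.smul_apply, smul_eq_mul, haa, haz,
      hA.symm z a, zero_smul, add_zero, mul_zero, zero_add, div_mul_cancel₀ _ hzz, ne_eq]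
    exact mul_ne_zero (div_ne_zero hχ0 hzz) hχ0
  have hW : NDeg Φ (LinearMap.ker (Φ l)) := by
    have := ndeg_perp hA (ndeg_top hA) (Submodule.mem_top (x := l)) hll
    rwa [top_inf_eq] at this
  obtain ⟨b, hbl, hbb, hab⟩ := exists_partner hA hW (s := a) (show Φ l a = 0 by rw [hA.symm, hφ]) hane haa
  replace hbl : Φ l b = 0 := hbl
  -- a square outside the ground field orthogonal to the image
  obtain ⟨s, hs0, hs, hsκ⟩ : ∃ s : K, s ≠ 0 ∧ (∀ e : F, algebraMap F K e ≠ s * s) ∧ tr (s * s * κ) = 0 := by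
    obtain ⟨k, hk⟩ := SpExt.exists_trace_eq (F := F) (K := K) 1
    set w := k / κ with hw
    have hwκ : tr (w * κ) = 1 := by rw [hw, div_mul_cancel₀ _ hi, hk]
    set e := -(tr (w * w * κ) / 2) with he
    have hsF : ∀ e' : F, algebraMap F K e' ≠ w + algebraMap F K e := fun e' he' => by
      have h3 : w = algebraMap F K (e' - e) := by rw [map_sub, he', add_sub_cancel_right]
      rw [h3, ← Algebra.smul_def, map_smul, htκ, smul_zero] at hwκ
      exact zero_ne_one hwκ
    refine ⟨w + algebraMap F K e, fun h0 => hsF 0 (by rw [map_zero, h0]), fun e' he' => ?_, ?_⟩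
    · obtain ⟨e'', he''⟩ := OExtF.eq_scalar_of_quadratic hr (by omega) (y := w + algebraMap F K e) (p := 0)
        (q := e') (by rw [zero_smul, zero_add, he'])
      exact hsF e'' he''
    · rw [show (w + algebraMap F K e) * (w + algebraMap F K e) * κ =
          w * w * κ + (e + e) • (w * κ) + (e * e) • κ by simp only [Algebra.smul_def, map_add, map_mul]; ring,
        map_add, map_add, map_smul, map_smul, hwκ, htκ, smul_zero, add_zero, smul_eq_mul, mul_one, he]
      have := hA.two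
      field_simp
      ring
  obtain ⟨u, hu, hua, hul, hufix⟩ := exists_torus_pair hA haa hbb hab hs0
  have hul' : act u l = l := hufix l hφ (by rw [hA.symm]; exact hbl)
  have hj0 : j ≠ 0 := fun e => hj (by rw [hl, e, zero_smul, map_zero]; exact zero_mem _)
  set a₁ := j • a₀ with ha₁
  set g₁ := g⁻¹ * u * g with hg₁
  have hga₁ : act g₁ a₁ = a₁ := by rw [hg₁, act_mul, act_mul, ← hl, hul', hl, act_inv_act]
  have hja : j⁻¹ • a₁ = a₀ := by rw [ha₁, inv_smul_smul₀ hj0]
  have hg₁a : act g₁ a₀ = act g⁻¹ ((s * s) • a) := by rw [hg₁, act_mul, act_mul, ← ha, hua]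
  have haa₁ : Φ a₁ a₁ = 0 := by simp [ha₁, h.sing]
  have hmoved : act g₁ (j⁻¹ • a₁) ∉ (K ∙ act g₁ a₁) := by
    rw [hga₁, hja, hg₁a]
    intro hm
    obtain ⟨x, hx⟩ := Submodule.mem_span_singleton.1 hm
    refine hnotmem (s * s) hs ⟨x * j, ?_⟩
    rw [lmap_apply, ← smul_smul, ← ha₁, hx, act_act_inv]
  have hcand : Cand Φ M g₁ a₁ :=
    ⟨M.mul_mem (M.mul_mem (M.inv_mem h.mem) hu) h.mem, haa₁, by rw [hga₁]; exact haa₁, j⁻¹, hmoved⟩
  have hperp : Φ (act g₁ a₁) (act g₁ (j⁻¹ • a₁)) = 0 := by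
    rw [hga₁, hja]
    refine perp_of_B hA fun k => ?_
    rw [← Orth.B_act (iso_of_mem hA h.mem), hg₁a, act_act_inv, ha₁, smul_smul, ← trace_mul' hA, hA.symm _ a]
    obtain ⟨e, he⟩ := hmul (k * j)
    show tr (s * s * φl (k * j)) = 0
    rw [he, mul_smul_comm, map_smul, hsκ, smul_zero]
  obtain ⟨τ, hτ⟩ := exists_shift hA hd hz (hall _ _ hcand) hmoved hperp
  have hσ1 : σ ≠ 1 := by
    rintro rfl
    rw [AlgEquiv.one_apply] at hσ
    exact one_ne_zero (α := K) (by linear_combination hσ)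
  obtain ⟨n, rfl⟩ := Subgroup.mem_zpowers_iff.1 (OExtF.mem_zpowers hr hσ1 τ)
  obtain ⟨e, he⟩ := OExtF.fixed_scalar hr hσ1 (x := (σ ^ n) j - j) (by
    rw [map_sub, hσ, ← AlgEquiv.mul_apply, (Commute.self_zpow σ n).eq, AlgEquiv.mul_apply, hσ, map_sub, map_one]
    ring)
  have hinv : (σ ^ n) j * (j⁻¹ - 1) = 1 := by rw [← hτ, ← map_mul, mul_inv_cancel₀ hj0, map_one]
  rw [eq_add_of_sub_eq' he.symm] at hinv
  field_simp at hinv
  obtain ⟨e', he'⟩ := OExtF.eq_scalar_of_quadratic hr (by omega) (y := j) (p := -e) (q := e) (by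
    rw [Algebra.smul_def, map_neg]
    linear_combination -hinv)
  refine hj (Submodule.mem_span_singleton.2 ⟨algebraMap F K e', ?_⟩)
  rw [hl, ha₁, ← he', algebraMap_smul, algebraMap_smul, map_smul, ha]

/-- only the point of a best candidate is orthogonal to it, unless one is orthogonal to the whole image -/
theorem only_point (hd : finrank K (ι → F) = 3) (hr : (finrank F K).Prime) (h3 : 3 ≤ finrank F K)
    (hno : ∀ g a₀, IsMax Φ M g a₀ → ∃ i : K, Φ (act g a₀) (act g (i • a₀)) ≠ 0) {g : GL ι F} {a₀ : ι → F}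
    (h : IsMax Φ M g a₀) {c : K} (hc : Φ (act g a₀) (act g (c • a₀)) = 0) :
    act g (c • a₀) ∈ (K ∙ act g a₀) := by
  by_contra hn
  rcases Nat.eq_or_lt_of_le h3 with e | hlt
  · exact false_of_kernel3 hA hd hr e.symm hno h hn hc
  obtain ⟨i, hi⟩ := hno g a₀ h
  have h4 : finrank F K ≠ 4 := fun e => Nat.not_prime_mul (a := 2) (b := 2) (by norm_num) (by norm_num)
    (show Nat.Prime (2 * 2) by rw [show 2 * 2 = finrank F K by omega]; exact hr)
  exact hi (orth_of_one3 hA hd hr (by omega) h hn hc i)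

/-- an element fixing the point and moving one image vector into the orthogonal space of the image -/
theorem false_of_move (hd : finrank K (ι → F) = 3) (hr : (finrank F K).Prime) (h3 : 3 ≤ finrank F K)
    (hno : ∀ g a₀, IsMax Φ M g a₀ → ∃ i : K, Φ (act g a₀) (act g (i • a₀)) ≠ 0) {g : GL ι F} {a₀ : ι → F}
    (h : IsMax Φ M g a₀) {z : ι → F} (haz : Φ (act g a₀) z = 0) {u : GL ι F} (hu : u ∈ M)
    (hfix : ∀ k : K, act u (k • act g a₀) = k • act g a₀) {j : K}
    (hm : Φ (act g a₀) (act u (act g (j • a₀)) - act g (j • a₀)) = 0)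
    (hmz : Φ z (act u (act g (j • a₀)) - act g (j • a₀)) ≠ 0)
    (horth : ∀ c : K, B (act g (c • a₀)) (act u (act g (j • a₀))) = 0) : False := by
  have hul : act u (act g (j • a₀)) ∉ LinearMap.range (lmap K g a₀) := by
    intro hmem
    obtain ⟨c, hc⟩ := Submodule.sub_mem _ hmem (⟨j, rfl⟩ : act g (j • a₀) ∈ LinearMap.range (lmap K g a₀))
    rw [lmap_apply] at hc
    rw [← hc] at hm hmz
    obtain ⟨k, hk⟩ := Submodule.mem_span_singleton.1 (only_point hA hd hr h3 hno h hm)
    exact hmz (by rw [← hk, map_smul, hA.symm z, haz, smul_zero])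
  obtain ⟨hc', hga, hle⟩ := cand_conj hA h.toCand hu hfix hul
  have hA₀le : ((K ∙ act g a₀).restrictScalars F).comap (lmap K g a₀) ≤
      (LinearMap.range (lmap K g a₀)).comap (act u ∘ₗ lmap K g a₀) := fun c hcA => by
    obtain ⟨k, hk⟩ := Submodule.mem_span_singleton.1 (show lmap K g a₀ c ∈ (K ∙ act g a₀) from hcA)
    exact ⟨c, by rw [LinearMap.comp_apply, ← hk, hfix]⟩
  have hmax' : IsMax Φ M (g⁻¹ * u * g) a₀ := ⟨hc', fun g' a' h' =>
    (h.le g' a' h').trans ((le_finrank_pre h.toCand).trans ((Submodule.finrank_mono hA₀le).trans hle))⟩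
  have hperp : Φ a₀ (act (g⁻¹ * u * g) (j • a₀)) = 0 := perp_of_B hA fun c => by
    rw [← Orth.B_act (iso_of_mem hA h.mem), act_mul, act_mul, act_act_inv]
    exact horth c
  have h1 := only_point hA hd hr h3 hno hmax' (c := j) (by rw [hga]; exact hperp)
  rw [hga] at h1
  obtain ⟨i, hi⟩ := Submodule.mem_span_singleton.1 h1
  exact hul ⟨i, by rw [lmap_apply, hi, act_mul, act_mul, act_act_inv]⟩

/-- the value of the form on a moved image vector -/
theorem B_move {a z : ι → F} {g : GL ι F} {a₀ : ι → F} (hg : g ∈ M) (haa₀ : Φ a₀ a₀ = 0) {Y : K}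
    {u : GL ι F} (hux : ∀ x, act u x = x + Φ a x • (Y • z) - (Φ (Y • z) x + Φ (Y • z) (Y • z) / 2 * Φ a x) • a)
    (c k : K) :
    B (act g (c • a₀)) (act u (act g (k • a₀))) =
      tr (Φ a (act g (k • a₀)) * Y * Φ z (act g (c • a₀)) -
        Φ a (act g (c • a₀)) * (Y * Φ z (act g (k • a₀)) +
          Y * Y * Φ z z / 2 * Φ a (act g (k • a₀)))) := by
  have h0 : B (act g (c • a₀)) (act g (k • a₀)) = 0 := by
    rw [Orth.B_act (iso_of_mem hA hg), B_of_perp hA haa₀]
  rw [hux, Orth.B_sub_right Q, Orth.B_add_right Q, h0, zero_add, ← hA.trace, ← hA.trace, ← map_sub]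
  congr 1
  simp only [map_smul, LinearMap.smul_apply, smul_eq_mul, hA.symm (act g (c • a₀))]
  ring

omit hA in
theorem exists_factor {φl : K →ₗ[F] K} {G : K →ₗ[F] F} (h : LinearMap.ker φl ≤ LinearMap.ker G) :
    ∃ f : K →ₗ[F] F, ∀ c, f (φl c) = G c := by
  obtain ⟨f, hf⟩ := LinearMap.exists_extend
    (((LinearMap.ker φl).liftQ G h) ∘ₗ φl.quotKerEquivRange.symm.toLinearMap)
  refine ⟨f, fun c => ?_⟩
  have := LinearMap.congr_fun hf ⟨φl c, LinearMap.mem_range_self _ c⟩
  simpa [LinearMap.quotKerEquivRange_symm_apply_image] using this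

/-- a skew map on a line contradicts the absence of orthogonal best candidates -/
theorem false_of_skew (hd : finrank K (ι → F) = 3) (hr : (finrank F K).Prime) (h3 : 3 ≤ finrank F K)
    (hno : ∀ g a₀, IsMax Φ M g a₀ → ∃ i : K, Φ (act g a₀) (act g (i • a₀)) ≠ 0) {g : GL ι F} {a₀ : ι → F}
    (h : IsMax Φ M g a₀) {a₁ : ι → F} (ha₁ : a₁ ≠ 0) {haa₁ : Φ a₁ a₁ = 0} {X₁ : K →ₗ[F] K}
    (hX₁ : X₁ ∈ lineZ M haa₁) (hne₁ : X₁ ≠ 0) : False := by
  have hane := h.toCand.image_ne_zero
  set a := act g a₀ with ha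
  have haa : Φ a a = 0 := h.sing'
  obtain ⟨b, z, -, -, haz, -, hzz, -⟩ := exists_frame hA hd hane haa
  obtain ⟨X₀, hX₀, hne⟩ := exists_skew hA hd ha₁ hane haa hX₁ hne₁
  obtain ⟨j, hj⟩ := hno g a₀ h
  set φ := Φ a (act g (j • a₀)) with hφ
  letI := Fintype.ofFinite F
  obtain ⟨Y, -, hY0, hY⟩ := exists_common_root (⊤ : Submodule F K) (n := 1) (by rw [finrank_top]; omega)
    (fun _ => LinearMap.mk₂ F (fun x y => tr (x * y * (Φ z z / 2 * φ * φ)))
      (fun x x' y => by rw [add_mul, add_mul, map_add])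
      (fun e x y => by rw [smul_mul_assoc, smul_mul_assoc, (tr).map_smul])
      (fun x y y' => by rw [mul_add, add_mul, map_add])
      (fun e x y => by rw [mul_smul_comm, smul_mul_assoc, (tr).map_smul]))
    (fun _ => 0)
  have hYq : tr (Y * Y * (Φ z z / 2 * φ * φ)) = 0 := by simpa using hY 0
  obtain ⟨E, hE, hEx, -⟩ := exists_E hA haa (v := Y • z) (by rw [map_smul, haz, smul_zero])
  have hfixE : ∀ k : K, act E (k • a) = k • a := fun k => by
    rw [hEx, map_smul, haa, smul_zero, LinearMap.map_smul Φ Y z, LinearMap.smul_apply, map_smul, hA.symm z a, haz]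
    simp
  let φl : K →ₗ[F] K := (Φ a).restrictScalars F ∘ₗ lmap K g a₀
  let G : K →ₗ[F] F :=
    { toFun := fun c => B (act g (c • a₀)) (act E (act g (j • a₀)))
      map_add' := fun x y => by rw [add_smul, map_add, Orth.B_add_left Q]
      map_smul' := fun t x => by rw [smul_assoc, map_smul, Orth.B_smul_left Q, RingHom.id_apply, smul_eq_mul] }
  have hgi := iso_of_mem hA h.mem
  obtain ⟨f, hf⟩ := exists_factor (φl := φl) (G := G) fun c hc => by
    obtain ⟨k, hk⟩ := Submodule.mem_span_singleton.1 (only_point hA hd hr h3 hno h (c := c) hc)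
    show B (act g (c • a₀)) (act E (act g (j • a₀))) = 0
    rw [← hk, ← hfixE k, Orth.B_act (iso_of_mem hA hE), hk, Orth.B_act hgi, B_of_perp hA h.sing]
  obtain ⟨s, hs⟩ := SpExt.exists_trace_repr f
  have hGj : G j = 0 := by
    show B (act g (j • a₀)) (act E (act g (j • a₀))) = 0
    rw [B_move hA h.mem h.sing hEx, ← hφ]
    rw [show φ * Y * Φ z (act g (j • a₀)) - φ * (Y * Φ z (act g (j • a₀)) + Y * Y * Φ z z / 2 * φ) =
      -(Y * Y * (Φ z z / 2 * φ * φ)) by ring, map_neg, hYq, neg_zero]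
  obtain ⟨X, hX, hXφ⟩ := OExtF.exists_image hr (by omega) hA.two
    (fun X hX k => twist_mem hA hd hane hX k) hX₀ hne (skew_of_mem hA hane hX₀)
    (t₀ := φ) (by exact hj) (c := -s) (by
      rw [neg_mul, map_neg, mul_comm, ← hs]
      show -f (φl j) = 0
      rw [hf, hGj, neg_zero])
  obtain ⟨w, hw, hwx⟩ := hX 1
  rw [one_smul] at hwx
  have hΦEj : Φ a (act E (act g (j • a₀))) = φ := by
    rw [hEx]; simp [haa, haz, ← hφ]
  refine false_of_move hA hd hr h3 hno h haz (u := w * E) (M.mul_mem hw hE)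
    (fun k => ?_) (j := j) ?_ ?_ fun c => ?_
  · rw [act_mul, hfixE, hwx, map_smul, haa, smul_zero, map_zero, zero_smul, add_zero]
  · rw [← ha, act_mul, hwx, hΦEj, map_sub, map_add, map_smul (Φ a), haa, smul_zero, add_zero, hΦEj, ← hφ, sub_self]
  · have hzE : Φ z (act E (act g (j • a₀))) = Φ z (act g (j • a₀)) + φ * (Y * Φ z z) := by
      rw [hEx]; simp [hA.symm z a, haz, ← hφ]
    rw [act_mul, hwx, map_sub, map_add, map_smul (Φ z), hA.symm z a, haz, smul_zero, add_zero, hzE, add_sub_cancel_left]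
    exact mul_ne_zero hj (mul_ne_zero hY0 hzz)
  · rw [act_mul, hwx, hΦEj, hXφ, Orth.B_add_right Q, show B (act g (c • a₀)) (act E (act g (j • a₀))) = G c from rfl,
      ← trace_mul' hA, ← hf c, hs, hA.symm]
    show tr (φl c * s) + tr (-s * φl c) = 0
    rw [neg_mul, map_neg, mul_comm, add_neg_cancel]

/-- a large image of the point contradicts the absence of orthogonal best candidates -/
theorem false_of_large (hd : finrank K (ι → F) = 3) (hr : (finrank F K).Prime) (h3 : 3 ≤ finrank F K)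
    (hno : ∀ g a₀, IsMax Φ M g a₀ → ∃ i : K, Φ (act g a₀) (act g (i • a₀)) ≠ 0) {g : GL ι F} {a₀ : ι → F}
    (h : IsMax Φ M g a₀) (hlarge : finrank F K < 2 * finrank F (ExtF.lineD K g a₀)) : False := by
  have hane := h.toCand.image_ne_zero
  set a := act g a₀ with ha
  have haa : Φ a a = 0 := h.sing'
  obtain ⟨b, z, -, -, haz, -, hzz, -⟩ := exists_frame hA hd hane haa
  obtain ⟨j, hj⟩ := hno g a₀ h
  set φ := Φ a (act g (j • a₀)) with hφ
  set A₀ := ((K ∙ a).restrictScalars F).comap (lmap K g a₀) with hA₀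
  have hdim : finrank F A₀ = finrank F (ExtF.lineD K g a₀) := finrank_pre h.toCand
  obtain ⟨A', hA'⟩ := Submodule.exists_isCompl A₀
  have hadd := Submodule.finrank_add_eq_of_isCompl hA'
  letI := Fintype.ofFinite F
  let bs := Module.finBasis F A'
  let φc : Fin (finrank F A') → K := fun i => Φ a (act g ((bs i : K) • a₀))
  let χc : Fin (finrank F A') → K := fun i => Φ z (act g ((bs i : K) • a₀))
  set χ := Φ z (act g (j • a₀)) with hχ
  obtain ⟨Y, -, hY0, hY⟩ := exists_common_root (⊤ : Submodule F K) (n := finrank F A') (by rw [finrank_top]; omega)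
    (fun i => LinearMap.mk₂ F (fun x y => tr (x * y * (-(φc i * (Φ z z / 2) * φ))))
      (fun x x' y => by rw [add_mul, add_mul, map_add])
      (fun e x y => by rw [smul_mul_assoc, smul_mul_assoc, (tr).map_smul])
      (fun x y y' => by rw [mul_add, add_mul, map_add])
      (fun e x y => by rw [mul_smul_comm, smul_mul_assoc, (tr).map_smul]))
    (fun i => (tr) ∘ₗ LinearMap.mulRight F (φ * χc i - φc i * χ))
  obtain ⟨E, hE, hEx, -⟩ := exists_E hA haa (v := Y • z) (by rw [map_smul, haz, smul_zero])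
  have hfixE : ∀ k : K, act E (k • a) = k • a := fun k => by
    rw [hEx, map_smul, haa, smul_zero, LinearMap.map_smul Φ Y z, LinearMap.smul_apply, map_smul, hA.symm z a, haz]
    simp
  have hgi := iso_of_mem hA h.mem
  let T : K →ₗ[F] F :=
    { toFun := fun c => B (act g (c • a₀)) (act E (act g (j • a₀)))
      map_add' := fun x y => by rw [add_smul, map_add, Orth.B_add_left Q]
      map_smul' := fun t x => by rw [smul_assoc, map_smul, Orth.B_smul_left Q, RingHom.id_apply, smul_eq_mul] }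
  have hT : A₀ ⊔ A' ≤ LinearMap.ker T := by
    refine sup_le (fun c hcA => ?_) fun c hcA => ?_
    · obtain ⟨k, hk⟩ := Submodule.mem_span_singleton.1 (show lmap K g a₀ c ∈ (K ∙ a) from hcA)
      show B (act g (c • a₀)) (act E (act g (j • a₀))) = 0
      rw [← lmap_apply, ← hk, ← hfixE k, Orth.B_act (iso_of_mem hA hE), hk, lmap_apply, Orth.B_act hgi,
        B_of_perp hA h.sing]
    · have hb : ∀ i, T (bs i : K) = 0 := fun i => by
        show B (act g ((bs i : K) • a₀)) (act E (act g (j • a₀))) = 0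
        rw [B_move hA h.mem h.sing hEx, ← hY i]
        simp only [LinearMap.mk₂_apply, LinearMap.comp_apply, LinearMap.mulRight_apply, ← map_add, φc, χc, hχ, hφ]
        congr 1
        ring
      have hz : T ∘ₗ A'.subtype = 0 := bs.ext fun i => hb i
      exact LinearMap.congr_fun hz ⟨c, hcA⟩
  refine false_of_move hA hd hr h3 hno h haz (u := E) hE hfixE (j := j) ?_ ?_ fun c =>
    hT (hA'.sup_eq_top ▸ Submodule.mem_top)
  · rw [← ha, hEx]; simp [haa, haz]
  · have hzE : Φ z (act E (act g (j • a₀))) = Φ z (act g (j • a₀)) + φ * (Y * Φ z z) := by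
      rw [hEx]; simp [hA.symm z a, haz, ← hφ]
    rw [map_sub, hzE, add_sub_cancel_left]
    exact mul_ne_zero hj (mul_ne_zero hY0 hzz)

end Cfsg.Agent.MaxCl.OExt
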