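/-
A three-dimensional orthogonal space over an extension field of prime degree at least three without skew maps to a
singular line: the images of a singular line under one root group of the stabiliser of its point collide, and the
counting of the collisions together with Burnside's transfer refutes a candidate without orthogonal image.
-/
import Cfsg.Agent.Lib.MaxCl.OrthExtSmall

set_option autoImplicit false
set_option linter.unusedSectionVars false
set_option maxHeartbeats 1600000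

namespace Cfsg.Agent.MaxCl.OExt

open scoped MatrixGroups Matrix
open Module (finrank)

variable {ι : Type} [Fintype ι] [DecidableEq ι] {F : Type*} [Field F] [Finite F]
  {K : Type*} [Field K] [Algebra F K] [Module K (ι → F)] [IsScalarTower F K (ι → F)] [Module.Finite F K]
variable {Q : QuadraticForm F (ι → F)} {Φ : (ι → F) →ₗ[K] (ι → F) →ₗ[K] K} {M : Subgroup (GL ι F)}

set_option quotPrecheck false in
local notation "B" => QuadraticMap.polar (⇑Q)

local notation "tr" => Algebra.trace F K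

/-- the elements of `M` fixing a vector -/
def fixer (M : Subgroup (GL ι F)) (a₀ : ι → F) : Subgroup (GL ι F) where
  carrier := {x | x ∈ M ∧ act x a₀ = a₀}
  mul_mem' {x y} hx hy := ⟨M.mul_mem hx.1 hy.1, by rw [act_mul, hy.2, hx.2]⟩
  one_mem' := ⟨M.one_mem, by rw [act_one]⟩
  inv_mem' {x} hx := ⟨M.inv_mem hx.1, act_injective x (by rw [act_act_inv, hx.2])⟩

/-- the subgroup generated by the elements of order `p` fixing a vector -/
def pGen (M : Subgroup (GL ι F)) (a₀ : ι → F) : Subgroup (GL ι F) :=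
  Subgroup.closure {x | x ∈ fixer M a₀ ∧ x ^ ringChar F = 1}

theorem pGen_le (a₀ : ι → F) : pGen M a₀ ≤ fixer M a₀ := (Subgroup.closure_le _).2 fun _ h => h.1

/-- the value of the form on a moved image vector -/
noncomputable def mval (Φ : (ι → F) →ₗ[K] (ι → F) →ₗ[K] K) (g : GL ι F) (a₀ z : ι → F) (Y c k : K) : F :=
  tr (Φ (act g a₀) (act g (k • a₀)) * Y * Φ z (act g (c • a₀)) -
    Φ (act g a₀) (act g (c • a₀)) * (Y * Φ z (act g (k • a₀)) + Y * Y * Φ z z / 2 * Φ (act g a₀) (act g (k • a₀))))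

theorem mval_symm (g : GL ι F) (a₀ z : ι → F) (h2 : (2 : K) ≠ 0) (Y c k : K) :
    mval Φ g a₀ z Y c k + mval Φ g a₀ z Y k c =
      -tr (Y * Y * Φ z z * (Φ (act g a₀) (act g (c • a₀)) * Φ (act g a₀) (act g (k • a₀)))) := by
  rw [mval, mval, ← map_add, ← map_neg]
  congr 1
  field_simp
  ring

variable (hA : Amb Q Φ M)
include hA

theorem E_pow_eq_one {a v : ι → F} (haa : Φ a a = 0) (hav : Φ a v = 0) {h : GL ι F}
    (hx : ∀ x, act h x = x + Φ a x • v - (Φ v x + Φ v v / 2 * Φ a x) • a) : h ^ ringChar F = 1 := by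
  have h2K := two_ne hA
  have hn : ∀ (n : ℕ) x, act (h ^ n) x =
      x + Φ a x • ((n : K) • v) - (Φ ((n : K) • v) x + Φ ((n : K) • v) ((n : K) • v) / 2 * Φ a x) • a := by
    intro n
    induction n with
    | zero => intro x; simp [act_one]
    | succ n ih =>
      intro x
      rw [pow_succ, act_mul, hx, ih]
      simp only [map_add, map_sub, map_smul, LinearMap.smul_apply,
        smul_eq_mul, haa, hav, hA.symm v a, Nat.cast_succ]
      match_scalars <;> field_simp <;> ring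
  refine gl_ext fun x => ?_
  have h0 : ((ringChar F : ℕ) : K) = 0 := by rw [← map_natCast (algebraMap F K), ringChar.Nat.cast_ringChar, map_zero]
  rw [hn, h0, act_one]
  simp

theorem adjoint_id {a : ι → F} {h : GL ι F} (hh : h ∈ M) (hfix : ∀ k : K, act h (k • a) = k • a) (x : ι → F) :
    Φ a (act h x) = Φ a x :=
  SpExt.ext_trace (F := F) fun k => by
    rw [trace_mul hA, ← hfix k, Orth.B_act (iso_of_mem hA hh), ← trace_mul hA]

variable (hd : finrank K (ι → F) = 3) (hz : ∀ (a : ι → F) (haa : Φ a a = 0), a ≠ 0 → ∀ X ∈ lineZ M haa, X = 0)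
include hd hz

/-- an element of odd order prime to the characteristic fixing a singular line pointwise is trivial -/
theorem pointwise_eq_one {a : ι → F} (ha : a ≠ 0) (haa : Φ a a = 0) {x : GL ι F} (hx : x ∈ M)
    (hfix : ∀ k : K, act x (k • a) = k • a) {N : ℕ} (hN : Odd N) (hcop : Nat.Coprime N (ringChar F))
    (hpow : x ^ N = 1) : x = 1 := by
  have hxm : x⁻¹ ∈ M := M.inv_mem hx
  have hfix' : ∀ k : K, act x⁻¹ (k • a) = k • a := fun k => act_injective x (by rw [act_act_inv, hfix])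
  obtain ⟨b, z, hbb, hab, haz, hbz, hzz, hdec⟩ := exists_frame hA hd ha haa
  rcases line_dichotomy hA hd ha haa hx (σ := LinearMap.id) rfl hfix with ⟨X, hX, hne⟩ | ⟨-, hc⟩
  · exact absurd (hz a haa ha X hX) hne
  obtain ⟨c, hc⟩ := hc z haz hzz fun k => rfl
  have hkeep := adjoint_id hA hxm hfix'
  set y := x⁻¹ with hy
  set e := c / Φ z z with he
  have hyz : ∀ u : K, act y (u • z) - (u * e) • z ∈ (K ∙ a) := fun u => by
    refine mem_line hA hd ha haa haz hzz ?_ ?_
    · rw [map_sub, hkeep, map_smul, map_smul, haz, smul_zero, smul_zero, sub_zero]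
    · rw [map_sub, hc, map_smul, he, smul_eq_mul]
      field_simp
      ring
  have he2 : e * e = 1 := by
    refine mul_right_cancel₀ hzz (SpExt.ext_trace (F := F) fun u => ?_)
    obtain ⟨k, hk⟩ := Submodule.mem_span_singleton.1 (hyz u)
    obtain ⟨k', hk'⟩ := Submodule.mem_span_singleton.1 (hyz 1)
    have h1 := Orth.B_act (iso_of_mem hA hxm) (u • z) z
    rw [eq_add_of_sub_eq' hk.symm, show act y z = (1 * e) • z + k' • a by
      rw [← eq_add_of_sub_eq' hk'.symm, one_smul], ← hA.trace, ← hA.trace] at h1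
    simp only [map_add, map_smul, LinearMap.add_apply, LinearMap.smul_apply, smul_eq_mul, haa, haz, hA.symm z a,
      mul_zero, add_zero, one_mul] at h1
    rw [one_mul, ← h1]
    congr 1
    ring
  have hdiff : ∀ w, act y w = w + (act y w - w) ∧ Φ a (act y w - w) = 0 := fun w =>
    ⟨by abel, by rw [map_sub, hkeep, sub_self]⟩
  have hperp : ∀ w, Φ a w = 0 → act y w - e • w ∈ (K ∙ a) := by
    intro w hw
    obtain ⟨k, hk⟩ := Submodule.mem_span_singleton.1 (mem_line hA hd ha haa haz hzz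
      (x := w - (Φ z w / Φ z z) • z) (by rw [map_sub, map_smul, haz, smul_zero, sub_zero, hw])
      (by rw [map_sub, map_smul, smul_eq_mul, div_mul_cancel₀ _ hzz, sub_self]))
    have hw' : w = k • a + (Φ z w / Φ z z) • z := by rw [hk]; abel
    rw [hw', map_add, hfix', smul_add, smul_smul, smul_smul, add_sub_add_comm, ← sub_smul, mul_comm e]
    exact Submodule.add_mem _ (Submodule.smul_mem _ _ (Submodule.mem_span_singleton_self a))
      (by simpa only [mul_comm e] using hyz (Φ z w / Φ z z))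
  -- the multiplier is one
  have hyN : y ^ N = 1 := by rw [hy, inv_pow, hpow, inv_one]
  have hiter : ∀ (n : ℕ), act (y ^ n) z - (e ^ n) • z ∈ (K ∙ a) := by
    intro n
    induction n with
    | zero => simp [act_one]
    | succ n ih =>
      obtain ⟨k, hk⟩ := Submodule.mem_span_singleton.1 ih
      rw [pow_succ' y, act_mul, eq_add_of_sub_eq' hk.symm, map_add, hfix', pow_succ]
      have h1 := hyz (e ^ n)
      have h2 : k • a ∈ (K ∙ a) := Submodule.smul_mem _ _ (Submodule.mem_span_singleton_self a)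
      convert Submodule.add_mem _ h1 h2 using 1
      abel
  have he1 : e = 1 := by
    have h1 := hiter N
    rw [hyN, act_one] at h1
    obtain ⟨k, hk⟩ := Submodule.mem_span_singleton.1 h1
    have h3 := congrArg (Φ z) hk
    rw [map_smul, hA.symm z a, haz, smul_zero, map_sub, map_smul, smul_eq_mul, eq_comm, sub_eq_zero] at h3
    have heN : e ^ N = 1 := mul_right_cancel₀ hzz (by rw [one_mul]; exact h3.symm)
    obtain ⟨m, rfl⟩ := hN
    rwa [pow_succ, pow_mul, pow_two, he2, one_pow, one_mul] at heN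
  -- the element is unipotent
  have hcube : ((y : Matrix ι ι F) - 1) ^ 3 = 0 := by
    refine Matrix.toLin'.injective (LinearMap.ext fun w => ?_)
    have hN1 : ∀ w, Matrix.toLin' ((y : Matrix ι ι F) - 1) w = act y w - w := fun w => by
      simp [act_apply, Matrix.sub_mulVec]
    rw [pow_succ, pow_two, Matrix.toLin'_mul, Matrix.toLin'_mul, LinearMap.comp_apply, LinearMap.comp_apply,
      hN1, hN1, hN1, map_zero, LinearMap.zero_apply]
    have h1 := hperp _ (hdiff w).2
    rw [he1, one_smul] at h1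
    obtain ⟨k, hk⟩ := Submodule.mem_span_singleton.1 h1
    rw [← hk, hfix', sub_self]
  haveI : Nonempty ι := Fintype.card_pos_iff.1 (by have := hA.five; omega)
  haveI : Fintype F := Fintype.ofFinite F
  haveI hp : Fact (ringChar F).Prime := ⟨CharP.char_is_prime F (ringChar F)⟩
  have hp3 : 3 ≤ ringChar F := by
    refine Nat.lt_of_le_of_ne hp.out.two_le fun h => hA.two ?_
    have := ringChar.Nat.cast_ringChar (R := F)
    rw [← h] at this
    exact_mod_cast this
  have hyp : y ^ ringChar F = 1 := by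
    refine Units.ext ?_
    have h2 := sub_pow_char_of_commute (p := ringChar F) (Commute.one_right (y : Matrix ι ι F))
    rw [one_pow] at h2
    rw [Units.val_pow_eq_pow_val, Units.val_one, ← sub_eq_zero, ← h2]
    exact pow_eq_zero_of_le hp3 hcube
  have h4 : y = 1 := by
    have h5 := pow_gcd_eq_one.2 ⟨hyN, hyp⟩
    rwa [hcop, pow_one] at h5
  rwa [hy, inv_eq_one] at h4

variable (hr : (finrank F K).Prime) (h3 : 3 ≤ finrank F K)
  (hno : ∀ g a₀, IsMax Φ M g a₀ → ∃ i : K, Φ (act g a₀) (act g (i • a₀)) ≠ 0)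
include hr h3 hno

/-- the collisions -/
theorem exists_coll {g : GL ι F} {a₀ : ι → F} (h : IsMax Φ M g a₀) :
    ∃ z, Φ (act g a₀) z = 0 ∧ Φ z z ≠ 0 ∧ ∃ (E : Submodule F K) (f : K → K),
      finrank F E + 1 + finrank F (ExtF.lineD K g a₀) = finrank F K ∧
      (∀ Y, Y ≠ 0 → f Y ∈ E) ∧
      ∀ Y W, Y ≠ 0 → W ≠ 0 → f Y = f W → ∃ σ : K ≃ₐ[F] K,
        (∀ c k, mval Φ g a₀ z W c (σ k) = mval Φ g a₀ z Y c k) ∧
        (∀ i ∈ ((K ∙ act g a₀).restrictScalars F).comap (lmap K g a₀), σ i = i) ∧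
        ∃ w ∈ pGen M a₀, ∀ k, act w (k • a₀) = σ k • a₀ := by
  have ha₀ := h.toCand.ne_zero
  have haa₀ : Φ a₀ a₀ = 0 := h.sing
  have hane := h.toCand.image_ne_zero
  set a := act g a₀ with ha
  have haa : Φ a a = 0 := h.sing'
  obtain ⟨b, z, -, -, haz, -, hzz, -⟩ := exists_frame hA hd hane haa
  obtain ⟨b₀, z₀, hb₀, hab₀, haz₀, hbz₀, hzz₀, hdec₀⟩ := exists_frame hA hd ha₀ haa₀
  obtain ⟨j, hj⟩ := hno g a₀ h
  refine ⟨z, haz, hzz, ?_⟩
  choose E hE hEx hEl using fun Y : K => exists_E hA haa (v := Y • z) (by rw [map_smul, haz, smul_zero])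
  choose E₀ hE₀ hE₀x hE₀l using fun y : K => exists_E hA haa₀ (v := y • z₀) (by rw [map_smul, haz₀, smul_zero])
  have hfixE : ∀ Y (k : K), act (E Y) (k • a) = k • a := fun Y k => by
    rw [hEx, map_smul, haa, smul_zero, LinearMap.map_smul Φ Y z, LinearMap.smul_apply, map_smul, hA.symm z a, haz]
    simp
  have hfixE₀ : ∀ Y (k : K), act (E₀ Y) (k • a₀) = k • a₀ := fun Y k => by
    rw [hE₀x, map_smul, haa₀, smul_zero, LinearMap.map_smul Φ Y z₀, LinearMap.smul_apply, map_smul, hA.symm z₀ a₀,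
      haz₀]
    simp
  set G : K → GL ι F := fun Y => g⁻¹ * E Y * g with hG
  have hGmem : ∀ Y, G Y ∈ pGen M a₀ := fun Y => Subgroup.subset_closure ⟨⟨M.mul_mem (M.mul_mem (M.inv_mem h.mem)
    (hE Y)) h.mem, by
      rw [hG, act_mul, act_mul, ← ha]
      have := hfixE Y 1
      rw [one_smul] at this
      rw [this, ha, act_inv_act]⟩, by
    rw [hG]
    have := conj_pow (i := ringChar F) (a := g⁻¹) (b := E Y)
    rw [inv_inv] at this
    rw [this, E_pow_eq_one hA haa (by rw [map_smul, haz, smul_zero]) (hEx Y), mul_one, inv_mul_cancel]⟩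
  have hE₀mem : ∀ y, E₀ y ∈ pGen M a₀ := fun y => Subgroup.subset_closure ⟨⟨hE₀ y, by
    have := hfixE₀ y 1; rwa [one_smul] at this⟩,
    E_pow_eq_one hA haa₀ (by rw [map_smul, haz₀, smul_zero]) (hE₀x y)⟩
  set A₀ := ((K ∙ a).restrictScalars F).comap (lmap K g a₀) with hA₀
  have hδ : finrank F A₀ = finrank F (ExtF.lineD K g a₀) := finrank_pre h.toCand
  -- the conjugates fix the preimage of the point
  have hGfix : ∀ Y, ∀ i ∈ A₀, act (G Y) (i • a₀) = i • a₀ := fun Y i hi => by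
    obtain ⟨k, hk⟩ := Submodule.mem_span_singleton.1 (show lmap K g a₀ i ∈ (K ∙ a) from hi)
    rw [lmap_apply] at hk
    rw [hG, act_mul, act_mul, ← hk, hfixE, hk, act_inv_act]
  have hτ : ∀ Y c k, tr (c * Φ a₀ (act (G Y) (k • a₀))) = mval Φ g a₀ z Y c k := fun Y c k => by
    rw [trace_mul hA, ← Orth.B_act (iso_of_mem hA h.mem), hG, act_mul, act_mul, act_act_inv,
      B_move hA h.mem haa₀ (hEx Y)]
    rfl
  let τ : K → (K →ₗ[F] K) := fun Y => (Φ a₀).restrictScalars F ∘ₗ lmap K (G Y) a₀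
  have hτker : ∀ Y, Y ≠ 0 → LinearMap.ker (τ Y) = A₀ := by
    intro Y hY
    have hmoved : act (E Y) (act g (j • a₀)) ∉ LinearMap.range (lmap K g a₀) := by
      intro hmem
      obtain ⟨c, hc⟩ := Submodule.sub_mem _ hmem (⟨j, rfl⟩ : act g (j • a₀) ∈ LinearMap.range (lmap K g a₀))
      rw [lmap_apply, hEx] at hc
      have hc' : Φ a (act g (c • a₀)) = 0 := by rw [hc]; simp [haa, haz]
      obtain ⟨k, hk⟩ := Submodule.mem_span_singleton.1 (only_point hA hd hr h3 hno h hc')
      have := congrArg (Φ z) (hk.trans hc)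
      rw [← ha] at this
      simp only [map_sub, map_add, map_smul, LinearMap.smul_apply, smul_eq_mul, hA.symm z a, haz, mul_zero, sub_zero,
        add_sub_cancel_left] at this
      exact mul_ne_zero hj (mul_ne_zero hY hzz) this.symm
    obtain ⟨hc', hga, hle⟩ := cand_conj hA h.toCand (hE Y) (hfixE Y) hmoved
    have hA₀le : A₀ ≤ (LinearMap.range (lmap K g a₀)).comap (act (E Y) ∘ₗ lmap K g a₀) := fun c hcA => by
      obtain ⟨k, hk⟩ := Submodule.mem_span_singleton.1 (show lmap K g a₀ c ∈ (K ∙ a) from hcA)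
      exact ⟨c, by rw [LinearMap.comp_apply, ← hk, hfixE]⟩
    have hmax' : IsMax Φ M (G Y) a₀ := ⟨hc', fun g' a' h' =>
      (h.le g' a' h').trans ((le_finrank_pre h.toCand).trans ((Submodule.finrank_mono hA₀le).trans hle))⟩
    have hAeq : A₀ = ((K ∙ act (G Y) a₀).restrictScalars F).comap (lmap K (G Y) a₀) := by
      refine Submodule.eq_of_le_of_finrank_le (fun i hi => ?_) ?_
      · refine Submodule.mem_span_singleton.2 ⟨i, ?_⟩
        rw [hga, lmap_apply, hGfix Y i hi]
      · rw [finrank_pre hc', hδ]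
        exact h.le _ _ hc'
    refine le_antisymm (fun c hc => ?_) fun c hc => ?_
    · rw [hAeq]
      exact only_point hA hd hr h3 hno hmax' (by rw [hga]; exact hc)
    · show Φ a₀ (act (G Y) (c • a₀)) = 0
      rw [hGfix Y c hc, map_smul, haa₀, smul_zero]
  -- the common image
  set P₀ := (Algebra.traceForm F K).orthogonal A₀ with hP₀
  have hP₀dim : finrank F P₀ = finrank F K - finrank F A₀ :=
    LinearMap.BilinForm.finrank_orthogonal SpExt.trace_nondeg A₀
  have hrange : ∀ Y, Y ≠ 0 → LinearMap.range (τ Y) = P₀ := by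
    intro Y hY
    refine Submodule.eq_of_le_of_finrank_le ?_ ?_
    · rintro _ ⟨k, rfl⟩ i hi
      show tr (i * Φ a₀ (act (G Y) (k • a₀))) = 0
      rw [trace_mul hA, ← hGfix Y i hi, Orth.B_act (iso_of_mem hA (pGen_le a₀ (hGmem Y)).1), B_of_perp hA haa₀]
    · have := LinearMap.finrank_range_add_finrank_ker (τ Y)
      rw [hτker Y hY] at this
      omega
  obtain ⟨t₀, ht₀, ht₀0⟩ := Submodule.exists_mem_ne_zero_of_ne_bot (p := P₀) fun e => by
    rw [e, finrank_bot] at hP₀dim
    have := lineD_lt h.toCand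
    omega
  have hk : ∀ Y, ∃ k : K, Y ≠ 0 → Φ a₀ (act (G Y) (k • a₀)) = t₀ := fun Y => by
    by_cases hY : Y = 0
    · exact ⟨0, fun h => absurd hY h⟩
    · obtain ⟨k, hk⟩ := (hrange Y hY).ge ht₀
      exact ⟨k, fun _ => hk⟩
  choose kY hkY using hk
  set H₀ := LinearMap.ker ((tr) ∘ₗ LinearMap.mulRight F t₀) with hH₀
  have hH₀dim : finrank F H₀ + 1 = finrank F K := by
    have h1 := LinearMap.finrank_range_add_finrank_ker ((tr) ∘ₗ LinearMap.mulRight F t₀)
    have hsur : LinearMap.range ((tr) ∘ₗ LinearMap.mulRight F t₀) = ⊤ := LinearMap.range_eq_top.2 fun e => by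
      obtain ⟨c, hc⟩ := SpExt.exists_trace_eq (F := F) (K := K) e
      exact ⟨c / t₀, by simpa [div_mul_cancel₀ _ ht₀0] using hc⟩
    rw [hsur, finrank_top, Module.finrank_self, ← hH₀] at h1
    omega
  have hAH : A₀ ≤ H₀ := fun i hi => ht₀ i hi
  obtain ⟨C, hC⟩ := Submodule.exists_isCompl A₀
  set π : K →ₗ[F] K := C.subtype ∘ₗ C.linearProjOfIsCompl A₀ hC.symm with hπ
  have hπker : LinearMap.ker π = A₀ := by
    rw [hπ, LinearMap.ker_comp, Submodule.ker_subtype]
    exact Submodule.linearProjOfIsCompl_ker hC.symm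
  set x : K → (ι → F) := fun Y => act (E₀ (-(Φ z₀ (act (G Y) (kY Y • a₀))) / (t₀ * Φ z₀ z₀)))
    (act (G Y) (kY Y • a₀)) with hxdef
  have hxa : ∀ Y, Y ≠ 0 → Φ a₀ (x Y) = t₀ := fun Y hY => by
    simp only [hxdef]; rw [hE₀x]; simp [haz₀, haa₀, hkY Y hY]
  have hxz : ∀ Y, Y ≠ 0 → Φ z₀ (x Y) = 0 := fun Y hY => by
    simp only [hxdef]; rw [hE₀x]
    simp only [map_sub, map_add, map_smul, smul_eq_mul, hA.symm z₀ a₀, haz₀, hkY Y hY, mul_zero, sub_zero]
    field_simp
    ring
  refine ⟨H₀.map π, fun Y => π (Φ b₀ (x Y)), ?_, fun Y hY => ⟨_, ?_, rfl⟩, fun Y W hY hW hYW => ?_⟩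
  · have h1 := LinearMap.finrank_range_add_finrank_ker (π ∘ₗ H₀.subtype)
    rw [LinearMap.range_comp, Submodule.range_subtype, LinearMap.ker_comp, hπker,
      (Submodule.comapSubtypeEquivOfLe hAH).finrank_eq] at h1
    omega
  · show tr (Φ b₀ (x Y) * t₀) = 0
    have hx2 : Φ (x Y) (x Y) = 2 * (Φ b₀ (x Y) * t₀) := by
      conv_lhs => rw [hdec₀ (x Y)]
      simp only [hxa Y hY, hxz Y hY, zero_div, zero_smul, add_zero, map_add, map_smul, LinearMap.add_apply,
        LinearMap.smul_apply, smul_eq_mul, haa₀, hb₀, hab₀, hA.symm b₀ a₀]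
      ring
    have hQ0 : B (x Y) (x Y) = 0 := by
      simp only [hxdef]; rw [Orth.B_act (iso_of_mem hA (hE₀ _)), Orth.B_act (iso_of_mem hA (pGen_le a₀ (hGmem Y)).1),
        B_of_perp hA haa₀]
    rw [← hA.trace, hx2, show (2 : K) * (Φ b₀ (x Y) * t₀) = (2 : F) • (Φ b₀ (x Y) * t₀) by
      rw [Algebra.smul_def, map_ofNat], map_smul, smul_eq_zero] at hQ0
    exact hQ0.resolve_left hA.two
  · have he : Φ b₀ (x Y) - Φ b₀ (x W) ∈ A₀ := by
      rw [← hπker, LinearMap.mem_ker, map_sub, sub_eq_zero]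
      exact hYW
    set e := Φ b₀ (x Y) - Φ b₀ (x W) with hedef
    have hxYW : x Y = x W + e • a₀ := by
      rw [hdec₀ (x Y), hdec₀ (x W), hxa Y hY, hxa W hW, hxz Y hY, hxz W hW, hedef]
      module
    set yY := -(Φ z₀ (act (G Y) (kY Y • a₀))) / (t₀ * Φ z₀ z₀)
    set yW := -(Φ z₀ (act (G W) (kY W • a₀))) / (t₀ * Φ z₀ z₀)
    set w := (G W)⁻¹ * (E₀ yW)⁻¹ * E₀ yY * G Y with hw
    have hwmem : w ∈ pGen M a₀ := mul_mem (mul_mem (mul_mem (inv_mem (hGmem W)) (inv_mem (hE₀mem _))) (hE₀mem _))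
      (hGmem Y)
    have hw1 := pGen_le a₀ hwmem
    have hwfix : ∀ i ∈ A₀, act w (i • a₀) = i • a₀ := fun i hi => by
      have h1 : act (E₀ yW)⁻¹ (i • a₀) = i • a₀ := act_injective (E₀ yW) (by rw [act_act_inv, hfixE₀])
      have h2 : act (G W)⁻¹ (i • a₀) = i • a₀ := act_injective (G W) (by rw [act_act_inv, hGfix W i hi])
      rw [hw, act_mul, act_mul, act_mul, hGfix Y i hi, hfixE₀, h1, h2]
    have hwk : act w (kY Y • a₀) = (kY W + e) • a₀ := by
      rw [hw, act_mul, act_mul, act_mul]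
      refine act_injective (G W) (act_injective (E₀ yW) ?_)
      rw [act_act_inv, act_act_inv, add_smul, map_add, map_add, hGfix W e he, hfixE₀]
      exact hxYW
    have hst : ∀ k : K, act w (k • a₀) ∈ (K ∙ a₀) := by
      by_contra hcon
      push Not at hcon
      obtain ⟨k, hk⟩ := hcon
      have hcand : Cand Φ M w a₀ := ⟨hw1.1, haa₀, by rw [hw1.2]; exact haa₀, k, by rw [hw1.2]; exact hk⟩
      have hle := h.le _ _ hcand
      have hlt : finrank F A₀ < finrank F (ExtF.lineD K w a₀) := by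
        refine Submodule.finrank_lt_finrank_of_lt (lt_of_le_of_ne (fun i hi => ?_) fun heq => ?_)
        · exact (ExtF.mem_lineD w a₀ i).2 ⟨i, by rw [hw1.2, hwfix i hi]⟩
        · have h1 : kY W + e ∈ ExtF.lineD K w a₀ := (ExtF.mem_lineD w a₀ _).2 ⟨kY Y, by rw [hw1.2, hwk]⟩
          rw [← heq] at h1
          have h2 : kY W ∈ A₀ := (A₀.add_mem_iff_left he).1 h1
          have h3 := hkY W hW
          rw [hGfix W _ h2, map_smul, haa₀, smul_zero] at h3
          exact ht₀0 h3.symm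
      omega
    obtain ⟨σ, hσ⟩ := exists_aut hA hd hz ha₀ haa₀ hw1.1 hw1.2 hst
    refine ⟨σ, fun c k => ?_, fun i hi => smul_left_injective K ha₀ ((hσ i).symm.trans (hwfix i hi)), w, hwmem, hσ⟩
    rw [← hτ, ← hτ]
    congr 2
    rw [← hσ k, ← act_mul (G W) w, show G W * w = (E₀ yW)⁻¹ * (E₀ yY * G Y) by rw [hw]; group, act_mul, act_mul]
    have hinvfix : ∀ i : K, act (E₀ yW)⁻¹ (i • a₀) = i • a₀ := fun i =>
      act_injective (E₀ yW) (by rw [act_act_inv, hfixE₀])
    rw [adjoint_id hA (M.inv_mem (hE₀ yW)) hinvfix, adjoint_id hA (hE₀ yY) (hfixE₀ yY)]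

/-- two collisions with the same automorphism differ by a sign -/
theorem sq_eq_of_mval {g : GL ι F} {a₀ z : ι → F} (h : IsMax Φ M g a₀) (hzz : Φ z z ≠ 0)
    (hsmall : 2 * finrank F (ExtF.lineD K g a₀) < finrank F K) {W W' : K}
    (heq : ∀ c k, mval Φ g a₀ z W c k = mval Φ g a₀ z W' c k) : W * W = W' * W' := by
  by_contra hne
  set s := (W * W - W' * W') * Φ z z with hs
  have hs0 : s ≠ 0 := mul_ne_zero (sub_ne_zero.2 hne) hzz
  let φl : K →ₗ[F] K := (Φ (act g a₀)).restrictScalars F ∘ₗ lmap K g a₀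
  have hker : LinearMap.ker φl ≤ ((K ∙ act g a₀).restrictScalars F).comap (lmap K g a₀) := fun c hc =>
    only_point hA hd hr h3 hno h hc
  have h1 := LinearMap.finrank_range_add_finrank_ker φl
  have h2 := (Submodule.finrank_mono hker).trans_eq (finrank_pre h.toCand)
  have hle : (LinearMap.range φl).map (LinearMap.mulLeft F s) ≤ (Algebra.traceForm F K).orthogonal (LinearMap.range φl) := by
    rintro _ ⟨_, ⟨k, rfl⟩, rfl⟩ _ ⟨c, rfl⟩
    show tr (φl c * (s * φl k)) = 0
    have e1 := mval_symm (Φ := Φ) g a₀ z (two_ne hA) W c k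
    have e2 := mval_symm (Φ := Φ) g a₀ z (two_ne hA) W' c k
    rw [heq c k, heq k c, e2, neg_inj, ← sub_eq_zero, ← map_sub, ← sub_mul, ← sub_mul] at e1
    rw [← neg_eq_zero, ← map_neg, ← e1]
    congr 1
    simp only [hs, φl, LinearMap.comp_apply, LinearMap.coe_restrictScalars, lmap_apply]
    ring
  have h3 := Submodule.finrank_mono hle
  rw [← (Submodule.equivMapOfInjective (LinearMap.mulLeft F s) (mul_right_injective₀ hs0) _).finrank_eq,
    LinearMap.BilinForm.finrank_orthogonal SpExt.trace_nondeg] at h3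
  omega

omit hA hd hz hno h3 in
theorem false_of_card (h5 : 5 ≤ finrank F K) {q n : ℕ} (hq : 3 ≤ q) {V : ℕ} (hn : n + 2 ≤ finrank F K)
    (h1 : q ^ finrank F K ≤ 1 + (finrank F K - 1) * V + 2 * q ^ n) (h2 : V * V ≤ V + q ^ finrank F K)
    (hV : V ≤ q ^ finrank F K) : False := by
  set r := finrank F K
  have h9 : 9 * q ^ n ≤ q ^ r := by
    calc 9 * q ^ n ≤ q ^ 2 * q ^ n := Nat.mul_le_mul_right _ (Nat.pow_le_pow_left hq 2)
      _ = q ^ (n + 2) := by rw [← pow_add, add_comm]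
      _ ≤ q ^ r := Nat.pow_le_pow_right (by omega) hn
  have hbig : ∀ r, 5 ≤ r → 8 * r * r < 3 ^ r := by
    intro r hr5
    induction r, hr5 using Nat.le_induction with
    | base => norm_num
    | succ n hn ih => rw [pow_succ]; nlinarith
  have h3r : 8 * r * r < q ^ r := lt_of_lt_of_le (hbig r h5) (Nat.pow_le_pow_left hq r)
  obtain ⟨m, hm⟩ : ∃ m, m = r - 1 := ⟨_, rfl⟩
  rw [← hm] at h1
  generalize q ^ r = A at *
  generalize q ^ n = C at *
  have h7 : 7 * A ≤ 9 + 9 * (m * V) := by omega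
  have h6 : 6 * A ≤ 9 * (m * V) := by nlinarith
  have h36 : 36 * (A * A) ≤ 81 * (m * m) * (V * V) := by nlinarith
  have hmr : m * m ≤ r * r := Nat.mul_le_mul (by omega) (by omega)
  have hVV : V * V ≤ 2 * A := by omega
  have h81 : 36 * (A * A) ≤ 162 * (r * r) * A := by
    calc 36 * (A * A) ≤ 81 * (m * m) * (V * V) := h36
      _ ≤ 81 * (r * r) * (2 * A) := Nat.mul_le_mul (Nat.mul_le_mul_left _ hmr) hVV
      _ = 162 * (r * r) * A := by ring
  nlinarith

/-- a candidate with many collisions without twist is impossible -/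
theorem false_of_good {g : GL ι F} {a₀ : ι → F} (h : IsMax Φ M g a₀)
    (hsmall : 2 * finrank F (ExtF.lineD K g a₀) < finrank F K) {z : ι → F} (hzz : Φ z z ≠ 0)
    {E : Submodule F K} {f : K → K} (hEdim : finrank F E + 1 + finrank F (ExtF.lineD K g a₀) = finrank F K)
    (hf : ∀ Y, Y ≠ 0 → f Y ∈ E) {Sg : Finset (K ≃ₐ[F] K)} (T : Finset K) (hT0 : (0 : K) ∉ T)
    (hT : ∀ Y ∈ T, ∀ W ∈ T, f Y = f W → ∃ σ ∈ Sg, ∀ c k, mval Φ g a₀ z W c (σ k) = mval Φ g a₀ z Y c k) :
    T.card ≤ 2 * Sg.card * Nat.card F ^ (finrank F K - 1 - finrank F (ExtF.lineD K g a₀)) := by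
  classical
  haveI : Finite K := Module.finite_of_finite F
  letI := Fintype.ofFinite K
  have himg : (T.image f).card ≤ Nat.card F ^ (finrank F K - 1 - finrank F (ExtF.lineD K g a₀)) := by
    rw [show finrank F K - 1 - finrank F (ExtF.lineD K g a₀) = finrank F E by omega, ← Module.natCard_eq_pow_finrank,
      ← Nat.card_eq_finsetCard]
    exact Nat.card_le_card_of_injective
      (fun v : ↥(T.image f) => (⟨v.1, by
        obtain ⟨Y, hY, hv⟩ := Finset.mem_image.1 v.2
        exact hv ▸ hf Y fun e => hT0 (e ▸ hY)⟩ : E))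
      fun v w e => Subtype.ext (congrArg Subtype.val e :)
  refine (Finset.card_le_mul_card_image T (2 * Sg.card) fun v hv => ?_).trans (Nat.mul_le_mul_left _ himg)
  obtain ⟨Y, hY, rfl⟩ := Finset.mem_image.1 hv
  have hsub : T.filter (fun W => f W = f Y) ⊆
      Sg.biUnion fun σ => T.filter fun W => ∀ c k, mval Φ g a₀ z W c (σ k) = mval Φ g a₀ z Y c k := by
    intro W hW
    rw [Finset.mem_filter] at hW
    obtain ⟨σ, hσ, hσe⟩ := hT Y hY W hW.1 hW.2.symm
    exact Finset.mem_biUnion.2 ⟨σ, hσ, Finset.mem_filter.2 ⟨hW.1, hσe⟩⟩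
  refine (Finset.card_le_card hsub).trans ((Finset.card_biUnion_le_card_mul _ _ 2 fun σ _ => ?_).trans
    (by rw [mul_comm]))
  rcases Finset.eq_empty_or_nonempty (T.filter fun W => ∀ c k, mval Φ g a₀ z W c (σ k) = mval Φ g a₀ z Y c k) with
    he | ⟨W₀, hW₀⟩
  · rw [he]; simp
  · refine (Finset.card_le_card fun W hW => ?_).trans (Finset.card_le_two (a := W₀) (b := -W₀))
    rw [Finset.mem_filter] at hW hW₀
    have heq : ∀ c k, mval Φ g a₀ z W c k = mval Φ g a₀ z W₀ c k := fun c k => by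
      obtain ⟨k', rfl⟩ := σ.surjective k
      rw [hW.2, hW₀.2]
    rcases mul_self_eq_mul_self_iff.1 (sq_eq_of_mval hA hd hz hr h3 hno h hzz hsmall heq) with e | e <;> simp [e]

/-- the twisted collisions of an equivariant candidate are few -/
theorem false_of_equivariant (h5 : 5 ≤ finrank F K) {g : GL ι F} {a₀ : ι → F} (h : IsMax Φ M g a₀) (hga : act g a₀ = a₀)
    (hD : finrank F (ExtF.lineD K g a₀) = 1)
    (hequiv : ∀ σ : K ≃ₐ[F] K, σ ≠ 1 → ∃ τ : K ≃ₐ[F] K, τ ≠ 1 ∧
      ∀ k, Φ (act g a₀) (act g (σ k • a₀)) = τ (Φ (act g a₀) (act g (k • a₀)))) : False := by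
  classical
  haveI : Finite K := Module.finite_of_finite F
  letI := Fintype.ofFinite K
  haveI : Fintype F := Fintype.ofFinite F
  obtain ⟨z, haz, hzz, E, f, hEdim, hf, hcoll⟩ := exists_coll hA hd hz hr h3 hno h
  let V : (K ≃ₐ[F] K) → Finset K := fun σ => Finset.univ.filter fun Y => Y ≠ 0 ∧
    ∃ W, ∀ c k, mval Φ g a₀ z W c k = mval Φ g a₀ z Y c (σ k)
  -- four points
  have h2K := two_ne hA
  let φl : K →ₗ[F] K := (Φ (act g a₀)).restrictScalars F ∘ₗ lmap K g a₀
  have hφ : ∀ k, φl k = Φ (act g a₀) (act g (k • a₀)) := fun k => rfl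
  have hP : LinearMap.ker (Algebra.trace F K) ≤ LinearMap.range φl := by
    refine (Submodule.eq_of_le_of_finrank_le ?_ ?_).ge
    · rintro _ ⟨k, rfl⟩
      rw [LinearMap.mem_ker, hφ, hA.trace, Orth.B_act (iso_of_mem hA h.mem), ← one_smul K a₀, smul_smul,
        B_of_perp hA h.sing]
    · have h1 := LinearMap.finrank_range_add_finrank_ker φl
      have h2 : finrank F (LinearMap.ker φl) ≤ 1 := by
        rw [← hD, ← finrank_pre h.toCand]
        exact Submodule.finrank_mono fun c hc => only_point hA hd hr h3 hno h hc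
      have h3 := LinearMap.finrank_range_add_finrank_ker (Algebra.trace F K)
      rw [LinearMap.range_eq_top.2 (Algebra.trace_surjective F K), finrank_top, Module.finrank_self] at h3
      omega
  have hfour : ∀ σ : K ≃ₐ[F] K, σ ≠ 1 → ∀ Y₁ ∈ V σ, ∀ X₁ ∈ V σ, ∀ Y₂ ∈ V σ, ∀ X₂ ∈ V σ,
      X₁ ≠ Y₁ → X₁ - Y₁ = X₂ - Y₂ → Y₁ = Y₂ := by
    intro σ hσ Y₁ hY₁ X₁ hX₁ Y₂ hY₂ X₂ hX₂ hne hd'
    obtain ⟨τ, hτ, hστ⟩ := hequiv σ hσ
    have hsym : ∀ Y ∈ V σ, ∃ W, ∀ c k,
        -tr (W * W * Φ z z * (φl c * φl k)) =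
          tr (τ (φl k) * Y * Φ z (act g (c • a₀)) - φl c * (Y * Φ z (act g (σ k • a₀))) +
              (τ (φl c) * Y * Φ z (act g (k • a₀)) - φl k * (Y * Φ z (act g (σ c • a₀))))) -
            tr (Y * Y * (Φ z z / 2) * (φl c * τ (φl k) + φl k * τ (φl c))) := by
      intro Y hY
      obtain ⟨-, -, W, hW⟩ := Finset.mem_filter.1 hY
      refine ⟨W, fun c k => ?_⟩
      rw [hφ, hφ, ← mval_symm g a₀ z h2K W c k, hW, hW, mval, mval, hστ, hστ, ← map_add, ← map_sub]
      congr 1
      ring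
    obtain ⟨W₁, e1⟩ := hsym Y₁ hY₁
    obtain ⟨W₁', e1'⟩ := hsym X₁ hX₁
    obtain ⟨W₂, e2⟩ := hsym Y₂ hY₂
    obtain ⟨W₂', e2'⟩ := hsym X₂ hX₂
    have hX : X₁ = Y₁ + (X₂ - Y₂) := by rw [← hd']; abel
    have hD0 : Φ z z * (X₂ - Y₂) * (Y₁ - Y₂) = 0 := OExtF.twisted_eq_zero hr h5 hτ
      (w := Φ z z * (W₁' * W₁' - W₁ * W₁ - (W₂' * W₂' - W₂ * W₂))) fun s t hs ht => by
        obtain ⟨c, rfl⟩ := hP hs
        obtain ⟨k, rfl⟩ := hP ht
        have h := congrArg₂ (· - ·) (congrArg₂ (· - ·) (e1' c k) (e1 c k)) (congrArg₂ (· - ·) (e2' c k) (e2 c k))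
        simp only [← map_neg, ← map_sub] at h
        rw [← sub_eq_zero, ← map_sub]
        rw [← sub_eq_zero, ← map_sub] at h
        rw [← h]
        congr 1
        rw [hX]
        field_simp
        ring
    rw [mul_eq_zero, mul_eq_zero, or_iff_right hzz, or_iff_right (fun e : X₂ - Y₂ = 0 => hne (by
      rw [hX, e, add_zero])), sub_eq_zero] at hD0
    exact hD0
  have hVcard : ∀ σ, σ ≠ 1 → (V σ).card * (V σ).card ≤ (V σ).card + Fintype.card K := by
    intro σ hσ
    have h1 : (V σ).offDiag.card ≤ (Finset.univ : Finset K).card := by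
      refine Finset.card_le_card_of_injOn (fun p => p.1 - p.2) (fun _ _ => Finset.mem_univ _) ?_
      rintro ⟨X₁, Y₁⟩ h₁ ⟨X₂, Y₂⟩ h₂ he
      rw [Finset.mem_coe, Finset.mem_offDiag] at h₁ h₂
      have e := hfour σ hσ Y₁ h₁.2.1 X₁ h₁.1 Y₂ h₂.2.1 X₂ h₂.1 h₁.2.2 he
      simp only at he
      exact Prod.ext (by rw [e, sub_left_inj] at he; exact he) e
    rw [Finset.offDiag_card, Finset.card_univ] at h1
    omega
  -- the good points
  let Bad : Finset K := (Finset.univ.filter fun σ : K ≃ₐ[F] K => σ ≠ 1).biUnion V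
  let T : Finset K := (Finset.univ : Finset K) \ insert 0 Bad
  have hT := false_of_good hA hd hz hr h3 hno h (by omega) hzz hEdim hf (Sg := {1}) T (by simp [T])
    (fun Y hY W hW hYW => by
      have hY' := Finset.mem_sdiff.1 hY
      have hW' := Finset.mem_sdiff.1 hW
      simp only [Finset.mem_insert, not_or] at hY' hW'
      obtain ⟨σ, hσ, -, -⟩ := hcoll W Y hW'.2.1 hY'.2.1 hYW.symm
      refine ⟨1, Finset.mem_singleton_self 1, fun c k => ?_⟩
      have hσ1 : σ = 1 := by
        by_contra hne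
        exact hY'.2.2 (Finset.mem_biUnion.2 ⟨σ, Finset.mem_filter.2 ⟨Finset.mem_univ _, hne⟩,
          Finset.mem_filter.2 ⟨Finset.mem_univ _, hY'.2.1, W, fun c k => (hσ c k).symm⟩⟩)
      subst hσ1
      exact (hσ c k).symm)
  obtain ⟨σm, -, hmax⟩ := Finset.exists_max_image (Finset.univ : Finset (K ≃ₐ[F] K))
    (fun σ => if σ = 1 then 0 else (V σ).card) Finset.univ_nonempty
  set m := if σm = 1 then 0 else (V σm).card with hm
  have hcard : Fintype.card (K ≃ₐ[F] K) = finrank F K := by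
    rw [← Nat.card_eq_fintype_card, IsGalois.card_aut_eq_finrank]
  have hBad : Bad.card ≤ (finrank F K - 1) * m := by
    refine (Finset.card_biUnion_le_card_mul _ _ m fun σ hσ => ?_).trans (le_of_eq ?_)
    · have := hmax σ (Finset.mem_univ σ)
      rwa [if_neg (Finset.mem_filter.1 hσ).2] at this
    · rw [Finset.filter_ne', Finset.card_erase_of_mem (Finset.mem_univ _), Finset.card_univ, hcard]
  have hKcard : Fintype.card K = Nat.card F ^ finrank F K := by
    rw [← Nat.card_eq_fintype_card, Module.natCard_eq_pow_finrank (K := F)]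
  have hq3 : 3 ≤ Nat.card F := by
    rw [Nat.card_eq_fintype_card]
    by_contra hlt
    have h2 : Fintype.card F = 2 := by have := Fintype.one_lt_card (α := F); omega
    apply hA.two
    have := FiniteField.cast_card_eq_zero F
    rw [h2] at this
    exact_mod_cast this
  have hm2 : m * m ≤ m + Nat.card F ^ finrank F K ∧ m ≤ Nat.card F ^ finrank F K := by
    rw [← hKcard, hm]
    split_ifs with h1
    · simp
    · exact ⟨hVcard σm h1, Finset.card_le_univ _⟩
  refine false_of_card hr h5 hq3 (n := finrank F K - 1 - 1) (V := m) (by omega) ?_ hm2.1 hm2.2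
  have h1 := Finset.le_card_sdiff (insert 0 Bad) (Finset.univ : Finset K)
  have h2 := Finset.card_insert_le (0 : K) Bad
  rw [Finset.card_univ, hKcard] at h1
  rw [Finset.card_singleton, hD, mul_one] at hT
  change T.card ≤ _ at hT
  change _ ≤ T.card at h1
  omega

/-- **No skew maps and no orthogonal best candidates is impossible.** -/
theorem false_of_no_skew (hp : ringChar F ≠ finrank F K ∨ 2 * finrank F K + 1 ≤ Nat.card F ^ 2)
    {g : GL ι F} {a₀ : ι → F} (h : IsMax Φ M g a₀)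
    (hsmall : 2 * finrank F (ExtF.lineD K g a₀) < finrank F K) : False := by
  classical
  haveI : Finite K := Module.finite_of_finite F
  letI := Fintype.ofFinite K
  haveI : Fintype F := Fintype.ofFinite F
  obtain ⟨z, haz, hzz, E, f, hEdim, hf, hcoll⟩ := exists_coll hA hd hz hr h3 hno h
  set D := ExtF.lineD K g a₀ with hD
  set A₀ := ((K ∙ act g a₀).restrictScalars F).comap (lmap K g a₀) with hA₀
  have hδ : finrank F A₀ = finrank F D := finrank_pre h.toCand
  have hKcard : Fintype.card K = Nat.card F ^ finrank F K := by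
    rw [← Nat.card_eq_fintype_card, Module.natCard_eq_pow_finrank (K := F)]
  have hq3 : 3 ≤ Nat.card F := by
    rw [Nat.card_eq_fintype_card]
    by_contra hlt
    have h2 : Fintype.card F = 2 := by have := Fintype.one_lt_card (α := F); omega
    apply hA.two
    have := FiniteField.cast_card_eq_zero F
    rw [h2] at this
    exact_mod_cast this
  have hbound : ∀ Sg : Finset (K ≃ₐ[F] K), (∀ Y W, Y ≠ 0 → W ≠ 0 → f Y = f W → ∃ σ ∈ Sg,
      ∀ c k, mval Φ g a₀ z W c (σ k) = mval Φ g a₀ z Y c k) →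
      Nat.card F ^ finrank F K ≤ 1 + 2 * Sg.card * Nat.card F ^ (finrank F K - 1 - finrank F D) := by
    intro Sg hS
    have := false_of_good hA hd hz hr h3 hno h hsmall hzz hEdim hf (Sg := Sg) ((Finset.univ : Finset K).erase 0)
      (Finset.notMem_erase _ _) (fun Y hY W hW hYW => hS Y W (Finset.ne_of_mem_erase hY) (Finset.ne_of_mem_erase hW) hYW)
    rw [Finset.card_erase_of_mem (Finset.mem_univ _), Finset.card_univ, hKcard] at this
    change _ ≤ 2 * Sg.card * Nat.card F ^ (finrank F K - 1 - finrank F D) at this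
    omega
  -- without twists the points are too many
  have hplain : (∀ Y W, Y ≠ 0 → W ≠ 0 → f Y = f W → ∀ σ : K ≃ₐ[F] K, (∀ i ∈ A₀, σ i = i) →
      (∃ w ∈ pGen M a₀, ∀ k, act w (k • a₀) = σ k • a₀) → σ = 1) → False := by
    intro hall
    have := hbound {1} fun Y W hY hW hYW => by
      obtain ⟨σ, hσ, hσA, hσw⟩ := hcoll Y W hY hW hYW
      rw [hall Y W hY hW hYW σ hσA hσw] at hσ
      exact ⟨1, Finset.mem_singleton_self 1, hσ⟩
    rw [Finset.card_singleton, mul_one] at this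
    have h1 : finrank F K - 1 - finrank F D + 1 ≤ finrank F K := by omega
    have h2 := Nat.pow_le_pow_right (show 1 ≤ Nat.card F by omega) h1
    rw [pow_succ] at h2
    have h3 : Nat.card F ^ (finrank F K - 1 - finrank F D) * 3 ≤
        Nat.card F ^ (finrank F K - 1 - finrank F D) * Nat.card F := Nat.mul_le_mul_left _ hq3
    have h4 : 2 ≤ Nat.card F ^ (finrank F K - 1 - finrank F D) :=
      le_trans (by omega) (Nat.le_self_pow (by omega) _)
    omega
  by_cases hδ2 : 2 ≤ finrank F D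
  · refine hplain fun Y W _ _ _ σ hσA _ => ?_
    by_contra hne
    have hle : A₀ ≤ F ∙ (1 : K) := fun i hi => by
      obtain ⟨e, he⟩ := OExtF.fixed_scalar hr hne (hσA i hi)
      exact Submodule.mem_span_singleton.2 ⟨e, by rw [Algebra.smul_def, mul_one, he]⟩
    have := Submodule.finrank_mono hle
    rw [finrank_span_singleton one_ne_zero] at this
    omega
  by_cases hcrude : 2 * finrank F K + 1 ≤ Nat.card F ^ 2
  · have hA1 : 1 ≤ finrank F D := Submodule.one_le_finrank_iff.2 fun e => one_ne_zero (α := K) (by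
      rw [← Submodule.mem_bot F, ← e]; exact one_mem_lineD g a₀)
    have hcard : (Finset.univ : Finset (K ≃ₐ[F] K)).card = finrank F K := by
      rw [Finset.card_univ, ← Nat.card_eq_fintype_card, IsGalois.card_aut_eq_finrank]
    have := hbound Finset.univ fun Y W hY hW hYW => by
      obtain ⟨σ, hσ, -⟩ := hcoll Y W hY hW hYW
      exact ⟨σ, Finset.mem_univ σ, hσ⟩
    rw [hcard, show finrank F K - 1 - finrank F D = finrank F K - 2 by omega] at this
    have h1 : Nat.card F ^ finrank F K = Nat.card F ^ 2 * Nat.card F ^ (finrank F K - 2) := by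
      rw [← pow_add]; congr 1; omega
    have h3 := Nat.mul_le_mul_right (Nat.card F ^ (finrank F K - 2)) hcrude
    rw [add_mul, one_mul] at h3
    have h4 : 2 ≤ Nat.card F ^ (finrank F K - 2) := le_trans (by omega) (Nat.le_self_pow (by omega) _)
    omega
  have hp' : ringChar F ≠ finrank F K := hp.resolve_right hcrude
  have h5 : 5 ≤ finrank F K := by
    by_contra hlt
    have h9 : 9 ≤ Nat.card F ^ 2 := le_trans (by norm_num) (Nat.pow_le_pow_left hq3 2)
    have h4 : finrank F K ≠ 4 := fun e => Nat.not_prime_mul (a := 2) (b := 2) (by norm_num) (by norm_num)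
      (show Nat.Prime (2 * 2) by rw [show 2 * 2 = finrank F K by omega]; exact hr)
    omega
  -- the group fixing the point
  have ha₀ := h.toCand.ne_zero
  have haa₀ : Φ a₀ a₀ = 0 := h.sing
  set G₁ := fixer M a₀ with hG₁
  let St : GL ι F → Prop := fun x => ∀ k : K, act x (k • a₀) ∈ (K ∙ a₀)
  have hDg : finrank F (ExtF.lineD K g a₀) ≤ 1 := by
    change finrank F D ≤ 1
    omega
  have hone : ∀ n ∈ G₁, ¬ St n → IsMax Φ M n a₀ ∧ finrank F (ExtF.lineD K n a₀) = 1 := by
    intro n hn hns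
    simp only [St] at hns
    push Not at hns
    obtain ⟨k, hk⟩ := hns
    have hc : Cand Φ M n a₀ := ⟨hn.1, haa₀, by rw [hn.2]; exact haa₀, k, by rw [hn.2]; exact hk⟩
    have h1 : 1 ≤ finrank F (ExtF.lineD K n a₀) := Submodule.one_le_finrank_iff.2 fun e => one_ne_zero (α := K) (by
      rw [← Submodule.mem_bot F, ← e]; exact one_mem_lineD n a₀)
    have h2 := h.le _ _ hc
    exact ⟨⟨hc, fun g' a' h' => (h.le g' a' h').trans (by omega)⟩, by omega⟩
  -- an element with a twist stabilising another line through the point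
  by_cases hB : ∃ x ∈ G₁, ∃ σ₁ : K ≃ₐ[F] K, σ₁ ≠ 1 ∧ (∀ k, act x (k • a₀) = σ₁ k • a₀) ∧
      ∃ n ∈ G₁, ¬ St n ∧ St (n⁻¹ * x * n)
  · obtain ⟨x, hx, σ₁, hσ₁, hxσ, n, hn, hns, hst⟩ := hB
    obtain ⟨hmax, hn1⟩ := hone n hn hns
    have hy : n⁻¹ * x * n ∈ G₁ := mul_mem (mul_mem (inv_mem hn) hx) hn
    obtain ⟨σ', hσ'⟩ := exists_aut hA hd hz ha₀ haa₀ hy.1 hy.2 hst
    set φ : K → K := fun k => Φ (act n a₀) (act n (k • a₀)) with hφ
    have hint : ∀ k, φ (σ' k) = σ₁ (φ k) := by
      intro k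
      simp only [hφ, hn.2]
      rw [← hσ' k, act_mul, act_mul, act_act_inv]
      refine SpExt.ext_trace (F := F) fun c => ?_
      obtain ⟨c, rfl⟩ := σ₁.surjective c
      rw [trace_mul hA, ← hxσ c, Orth.B_act (iso_of_mem hA hx.1), ← trace_mul hA, ← map_mul,
        Algebra.trace_eq_of_algEquiv]
    let Grp : Subgroup (K ≃ₐ[F] K) :=
      { carrier := {σ | ∃ τ : K ≃ₐ[F] K, ∀ k, φ (σ k) = τ (φ k)}
        mul_mem' := fun {s t} ⟨u, hu⟩ ⟨v, hv⟩ => ⟨u * v, fun k => by
          rw [AlgEquiv.mul_apply, AlgEquiv.mul_apply, hu, hv]⟩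
        one_mem' := ⟨1, fun k => rfl⟩
        inv_mem' := fun {s} ⟨u, hu⟩ => ⟨u⁻¹, fun k => u.injective (by
          rw [← hu, AlgEquiv.aut_inv, AlgEquiv.apply_symm_apply, AlgEquiv.aut_inv, AlgEquiv.apply_symm_apply])⟩ }
    let φl : K →ₗ[F] K := (Φ (act n a₀)).restrictScalars F ∘ₗ lmap K n a₀
    have hkerφ : finrank F (LinearMap.ker φl) ≤ 1 := by
      rw [← hn1, ← finrank_pre hmax.toCand]
      exact Submodule.finrank_mono fun c hc => only_point hA hd hr h3 hno hmax hc
    have hσ'1 : σ' ≠ 1 := by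
      rintro rfl
      have hle : LinearMap.range φl ≤ F ∙ (1 : K) := by
        rintro _ ⟨k, rfl⟩
        obtain ⟨e, he⟩ := OExtF.fixed_scalar hr hσ₁ (hint k).symm
        exact Submodule.mem_span_singleton.2 ⟨e, by rw [Algebra.smul_def, mul_one, he]; rfl⟩
      have h2 := Submodule.finrank_mono hle
      rw [finrank_span_singleton one_ne_zero] at h2
      have := LinearMap.finrank_range_add_finrank_ker φl
      omega
    refine false_of_equivariant hA hd hz hr h3 hno h5 hmax hn.2 hn1 fun σ hσ => ?_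
    obtain ⟨τ, hτ⟩ : σ ∈ Grp :=
      (Subgroup.zpowers_le.2 (show σ' ∈ Grp from ⟨σ₁, hint⟩)) (OExtF.mem_zpowers hr hσ'1 σ)
    refine ⟨τ, ?_, hτ⟩
    rintro rfl
    let d : K →ₗ[F] K := σ.toLinearMap - LinearMap.id
    have hdk : LinearMap.range d ≤ LinearMap.ker φl := by
      rintro _ ⟨k, rfl⟩
      rw [LinearMap.mem_ker]
      show φl (σ k - k) = 0
      rw [map_sub, sub_eq_zero]
      exact hτ k
    have hdker : finrank F (LinearMap.ker d) ≤ 1 := by
      refine le_trans (Submodule.finrank_mono fun k hk => ?_) (finrank_span_singleton (K := F) (one_ne_zero (α := K))).le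
      obtain ⟨e, he⟩ := OExtF.fixed_scalar hr hσ (sub_eq_zero.1 (LinearMap.mem_ker.1 hk) : σ k = k)
      exact Submodule.mem_span_singleton.2 ⟨e, by rw [Algebra.smul_def, mul_one, he]⟩
    have h2 := Submodule.finrank_mono hdk
    have := LinearMap.finrank_range_add_finrank_ker d
    omega
  push Not at hB
  -- otherwise Burnside's transfer removes the twists
  refine hplain fun Y W _ _ _ σ _ hσw => ?_
  obtain ⟨w, hw, hwσ⟩ := hσw
  by_contra hσ1
  set r := finrank F K with hrdef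
  haveI := Fact.mk hr
  haveI hpF : Fact (ringChar F).Prime := ⟨CharP.char_is_prime F (ringChar F)⟩
  have hodd : ∀ e : ℕ, Odd (r ^ e) := fun e => (hr.odd_of_ne_two (by omega)).pow
  have hcop : ∀ e : ℕ, Nat.Coprime (r ^ e) (ringChar F) := fun e =>
    Nat.Coprime.pow_left e ((Nat.coprime_primes hr hpF.out).2 (Ne.symm hp'))
  haveI : Finite G₁ := inferInstance
  let w₁ : G₁ := ⟨w, pGen_le a₀ hw⟩
  obtain ⟨e, m, hm, hN⟩ := Nat.exists_eq_pow_mul_and_not_dvd (orderOf_pos w₁).ne' r hr.ne_one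
  set x := w₁ ^ m with hxdef
  have hxord : x ^ r ^ e = 1 := by rw [hxdef, ← pow_mul, mul_comm, ← hN, pow_orderOf_eq_one]
  have hpowσ : ∀ (n : ℕ) k, act (w ^ n) (k • a₀) = (σ ^ n) k • a₀ := by
    intro n
    induction n with
    | zero => intro k; simp [act_one]
    | succ n ih => intro k; rw [pow_succ, pow_succ, act_mul, hwσ, ih, AlgEquiv.mul_apply]
  have hσr : orderOf σ = r := orderOf_eq_prime (by
    rw [hrdef, ← IsGalois.card_aut_eq_finrank F K]; exact pow_card_eq_one') hσ1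
  have hσm : σ ^ m ≠ 1 := fun e => hm (hσr ▸ orderOf_dvd_of_pow_eq_one e)
  have hxσ : ∀ k, act (x : GL ι F) (k • a₀) = (σ ^ m) k • a₀ := fun k => by
    rw [hxdef]; exact hpowσ m k
  obtain ⟨S, hS⟩ := IsPGroup.exists_le_sylow (p := r) (P := Subgroup.zpowers x) (fun y => ⟨e, by
    obtain ⟨y, i, rfl⟩ := y
    refine Subtype.ext ?_
    show (x ^ i) ^ r ^ e = 1
    rw [← zpow_natCast, ← zpow_mul, mul_comm, zpow_mul, zpow_natCast, hxord, one_zpow]⟩)
  have hxS : x ∈ S := hS (Subgroup.mem_zpowers x)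
  have hx1 : x ≠ 1 := fun h1 => hσm (AlgEquiv.ext fun k => smul_left_injective K ha₀ (by
    show (σ ^ m) k • a₀ = k • a₀
    rw [← hxσ, h1]; simp [act_one]))
  -- elements of the Sylow subgroup fixing the line pointwise are trivial
  have hpt : ∀ s : G₁, s ∈ S → (∀ k : K, act (s : GL ι F) (k • a₀) = k • a₀) → s = 1 := by
    intro s hs hfix
    obtain ⟨f, hf⟩ := S.2 ⟨s, hs⟩
    have hf' : (s : GL ι F) ^ r ^ f = 1 := congrArg (fun y : S => ((y : G₁) : GL ι F)) hf
    exact Subtype.ext (pointwise_eq_one hA hd hz ha₀ haa₀ s.2.1 hfix (hodd f) (hcop f) hf')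
  have hstab : ∀ s ∈ S, St (s : G₁) := by
    haveI : Nontrivial S := ⟨⟨⟨x, hxS⟩, 1, fun h => hx1 (congrArg Subtype.val h)⟩⟩
    haveI : Nontrivial (Subgroup.center (S : Subgroup G₁)) := IsPGroup.center_nontrivial (p := r) S.2
    obtain ⟨⟨c, hc⟩, hc1⟩ := _root_.exists_ne (1 : Subgroup.center (S : Subgroup G₁))
    have hcx := Subgroup.mem_center_iff.1 hc ⟨x, hxS⟩
    have hcst : St ((c : G₁) : GL ι F) := by
      by_contra hns
      refine hB _ x.2 (σ ^ m) hσm hxσ _ (c : G₁).2 hns ?_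
      have : ((c : G₁) : GL ι F)⁻¹ * (x : GL ι F) * (c : G₁) = x := by
        have e1 : (x : GL ι F) * (c : G₁) = (c : G₁) * x := congrArg (fun y : S => ((y : G₁) : GL ι F)) hcx
        rw [mul_assoc, e1, inv_mul_cancel_left]
      rw [this]
      exact fun k => by rw [hxσ]; exact Submodule.smul_mem _ _ (Submodule.mem_span_singleton_self a₀)
    obtain ⟨σc, hσc⟩ := exists_aut hA hd hz ha₀ haa₀ (c : G₁).2.1 (c : G₁).2.2 hcst
    have hσc1 : σc ≠ 1 := by
      rintro rfl
      exact hc1 (Subtype.ext (Subtype.ext (hpt _ c.2 hσc)))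
    intro s hs
    by_contra hns
    refine hB _ (c : G₁).2 σc hσc1 hσc _ s.2 hns ?_
    have : ((s : G₁) : GL ι F)⁻¹ * ((c : G₁) : GL ι F) * s = (c : G₁) := by
      have e1 : ((s : G₁) : GL ι F) * (c : G₁) = (c : G₁) * s :=
        congrArg (fun y : S => ((y : G₁) : GL ι F)) (Subgroup.mem_center_iff.1 hc ⟨s, hs⟩)
      rw [mul_assoc, ← e1, inv_mul_cancel_left]
    rw [this]
    exact hcst
  have hnorm : Subgroup.normalizer (S : Subgroup G₁) ≤ Subgroup.centralizer ((S : Subgroup G₁) : Set G₁) := by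
    intro n hn
    have hnst : St (n : GL ι F) := by
      by_contra hns
      refine hB _ x.2 (σ ^ m) hσm hxσ _ n.2 hns ?_
      have hconj : n⁻¹ * x * n ∈ S := by
        have := (Subgroup.mem_normalizer_iff.1 (inv_mem hn) x).1 hxS
        rwa [inv_inv] at this
      exact hstab _ hconj
    obtain ⟨σn, hσn⟩ := exists_aut hA hd hz ha₀ haa₀ n.2.1 n.2.2 hnst
    rw [Subgroup.mem_centralizer_iff]
    intro s hs
    have hc : n * s * n⁻¹ * s⁻¹ ∈ S :=
      mul_mem ((Subgroup.mem_normalizer_iff.1 hn s).1 hs) (inv_mem hs)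
    obtain ⟨σs, hσs⟩ := exists_aut hA hd hz ha₀ haa₀ s.2.1 s.2.2 (hstab s hs)
    have hcomm : σn * σs = σs * σn := by
      by_cases h1 : σn = 1
      · rw [h1, one_mul, mul_one]
      · obtain ⟨i, rfl⟩ := OExtF.mem_zpowers hr h1 σs
        exact (Commute.self_zpow σn i).eq
    have heq := hpt _ hc fun k => by
      refine (?_ : act (((n * s * n⁻¹ * s⁻¹ : G₁)) : GL ι F) (k • a₀) = k • a₀)
      obtain ⟨k, rfl⟩ : ∃ k', σs (σn k') = k := ⟨σn.symm (σs.symm k), by simp⟩
      simp only [Subgroup.coe_mul, Subgroup.coe_inv, act_mul]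
      rw [← hσs (σn k), act_inv_act, ← hσn k, act_inv_act, hσs, hσn, hσn, hσs,
        ← AlgEquiv.mul_apply σn σs k, hcomm, AlgEquiv.mul_apply]
    exact (mul_inv_eq_iff_eq_mul.1 (mul_inv_eq_one.1 heq)).symm
  haveI : (S : Subgroup G₁).FiniteIndex := inferInstance
  set T := MonoidHom.transferSylow S hnorm with hT
  have hker : pGen M a₀ ≤ T.ker.map G₁.subtype := by
    refine (Subgroup.closure_le _).2 fun y hy => ⟨⟨y, hy.1⟩, ?_, rfl⟩
    rw [SetLike.mem_coe, MonoidHom.mem_ker]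
    obtain ⟨f, hf⟩ := S.2 (T ⟨y, hy.1⟩)
    have h1 : T ⟨y, hy.1⟩ ^ ringChar F = 1 := by
      rw [← map_pow, show (⟨y, hy.1⟩ : G₁) ^ ringChar F = 1 from Subtype.ext hy.2, map_one]
    have h2 := pow_gcd_eq_one.2 ⟨hf, h1⟩
    rwa [hcop f, pow_one] at h2
  obtain ⟨w', hw', hww'⟩ := hker hw
  have hTw : T w₁ = 1 := by
    rw [show w₁ = w' from Subtype.ext hww'.symm]; exact hw'
  have hTx : T x = 1 := by rw [hxdef, map_pow, hTw, one_pow]
  rw [hT, MonoidHom.transferSylow_eq_pow S hnorm x hxS] at hTx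
  have h3 : x ^ (S : Subgroup G₁).index = 1 := congrArg Subtype.val hTx
  have h4 := pow_gcd_eq_one.2 ⟨h3, hxord⟩
  rw [Nat.Coprime.pow_right e ((hr.coprime_iff_not_dvd.2 S.not_dvd_index).symm), pow_one] at h4
  exact hx1 h4

end Cfsg.Agent.MaxCl.OExt
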