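/-
A three-dimensional orthogonal space over an extension field: some best candidate has orthogonal image, the
transvection it induces on a singular line turns every skew map into a long root element, and so the group generated
is the whole derived group.
-/
import Cfsg.Agent.Lib.MaxCl.OrthExtCount

set_option autoImplicit false
set_option linter.unusedSectionVars false
set_option linter.style.haveILetI false
set_option maxHeartbeats 1600000

namespace Cfsg.Agent.MaxCl.OExtF

open Module (finrank)

variable {F : Type*} [Field F] [Finite F] {K : Type*} [Field K] [Algebra F K] [Module.Finite F K]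

theorem smul_wedge (e : F) (a b : K) : e • wedge (F := F) a b = wedge a (e • b) := by
  refine LinearMap.ext fun t => ?_
  simp only [LinearMap.smul_apply, wedge_apply, mul_smul_comm, map_smul, smul_eq_mul, smul_sub, smul_smul]
  module

theorem wedge_add_left (a a' b : K) : wedge (F := F) (a + a') b = wedge a b + wedge a' b := by
  refine LinearMap.ext fun t => ?_
  simp only [LinearMap.add_apply, wedge_apply, mul_add, map_add, add_smul, smul_add]
  abel

/-- twists by squares of the wedges with first factor one give all wedges -/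
theorem wedge_mem_all (h2 : (2 : F) ≠ 0) {Z : Submodule F (K →ₗ[F] K)}
    (htw : ∀ X ∈ Z, ∀ k : K, twist (k * k) X ∈ Z) (h1 : ∀ c : K, wedge (1 : K) c ∈ Z) (a b : K) :
    wedge a b ∈ Z := by
  have hsq : ∀ s : K, wedge (s * s) b ∈ Z := by
    intro s
    rcases eq_or_ne s 0 with rfl | hs
    · convert Z.zero_mem using 1
      refine LinearMap.ext fun t => ?_
      simp [wedge_apply]
    have := htw _ (h1 (b / (s * s))) s
    rwa [twist_wedge, mul_one, mul_div_cancel₀ _ (mul_ne_zero hs hs)] at this
  have key : wedge (F := F) (a + a) b ∈ Z := by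
    have e : wedge (F := F) ((a + 1) * (a + 1)) b = wedge (a * a) b + wedge (a + a) b + wedge (1 * 1) b := by
      rw [← wedge_add_left, ← wedge_add_left]; congr 1; ring
    have h := Z.sub_mem (Z.sub_mem (hsq (a + 1)) (hsq a)) (hsq 1)
    convert h using 1
    rw [e]
    abel
  rw [wedge_add_left, ← two_smul F] at key
  simpa [smul_smul, inv_mul_cancel₀ h2] using Z.smul_mem (2 : F)⁻¹ key

end Cfsg.Agent.MaxCl.OExtF

namespace Cfsg.Agent.MaxCl.OExt

open scoped MatrixGroups Matrix
open Module (finrank)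

variable {ι : Type} [Fintype ι] [DecidableEq ι] {F : Type*} [Field F] [Finite F]
  {K : Type*} [Field K] [Algebra F K] [Module K (ι → F)] [IsScalarTower F K (ι → F)] [Module.Finite F K]
variable {Q : QuadraticForm F (ι → F)} {Φ : (ι → F) →ₗ[K] (ι → F) →ₗ[K] K} {M : Subgroup (GL ι F)}

local notation "tr" => Algebra.trace F K

variable (hA : Amb Q Φ M)
include hA

theorem exists_max_orth3 (hd : finrank K (ι → F) = 3) (hr : (finrank F K).Prime) (h3 : 3 ≤ finrank F K)
    {g₀ : GL ι F} (hg₀ : g₀ ∈ M) (hns : ¬ ExtF.IsSemi K g₀) :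
    ∃ g a₀, IsMax Φ M g a₀ ∧ ∀ i : K, Φ (act g a₀) (act g (i • a₀)) = 0 := by
  by_contra hcon
  push Not at hcon
  obtain ⟨g₁, a₁, hc₁⟩ := exists_cand3 hA hd hr h3 hg₀ hns
  obtain ⟨g, a₀, h⟩ := exists_max hA hc₁
  by_cases hz : ∀ (a : ι → F) (haa : Φ a a = 0), a ≠ 0 → ∀ X ∈ lineZ M haa, X = 0
  · have hp : ringChar F ≠ finrank F K ∨ 2 * finrank F K + 1 ≤ Nat.card F ^ 2 := by
      rcases eq_or_ne (ringChar F) (finrank F K) with he | he
      · refine Or.inr ?_
        haveI := Fintype.ofFinite F
        have hle : finrank F K ≤ Nat.card F := by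
          rw [← he, Nat.card_eq_fintype_card]
          exact Nat.le_of_dvd Fintype.card_pos (ringChar.dvd (FiniteField.cast_card_eq_zero F))
        nlinarith
      · exact Or.inl he
    rcases lt_trichotomy (2 * finrank F (ExtF.lineD K g a₀)) (finrank F K) with hlt | heq | hgt
    · exact false_of_no_skew hA hd hz hr h3 hcon hp h hlt
    · rcases hr.eq_two_or_odd with h2 | h2 <;> omega
    · exact false_of_large hA hd hr h3 hcon h hgt
  · push Not at hz
    obtain ⟨a, haa, ha, X, hX, hne⟩ := hz
    exact false_of_skew hA hd hr h3 hcon h ha hX hne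

/-- the configuration gives all wedges with first factor one at its point -/
theorem wedge_mem_config (hd : finrank K (ι → F) = 3) (hr : (finrank F K).Prime) (h3 : 3 ≤ finrank F K)
    {g : GL ι F} (hg : g ∈ M) {a₀ v : ι → F} {j₁ : K} {l : K →ₗ[F] F} (ha₀ : a₀ ≠ 0) (haa₀ : Φ a₀ a₀ = 0)
    (haa : Φ (act g a₀) (act g a₀) = 0) (hl0 : l 1 = 0) (hl1 : l j₁ = 1)
    (horth : ∀ i : K, Φ (act g a₀) (act g (i • a₀)) = 0) (hav : Φ (act g a₀) v = 0)
    (hv : ∀ i : K, Φ v (act g (i • a₀)) = -algebraMap F K (l i)) (c : K) :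
    OExtF.wedge (1 : K) c ∈ lineZ M haa₀ := by
  obtain ⟨u, hu, hux, -⟩ := exists_E hA haa hav
  set h := g⁻¹ * u * g with hh
  have hhM : h ∈ M := M.mul_mem (M.mul_mem (M.inv_mem hg) hu) hg
  let σ : K →ₗ[F] K := LinearMap.id + (Algebra.linearMap F K) ∘ₗ l
  have hσ : ∀ k, σ k = k + algebraMap F K (l k) := fun k => rfl
  have hline : ∀ k : K, act h (k • a₀) = σ k • a₀ := fun k => by
    rw [hh, act_mul, act_mul, hux, horth, hv, zero_smul, add_zero, mul_zero, add_zero, neg_smul, sub_neg_eq_add,
      algebraMap_smul, map_add, (act g⁻¹).map_smul, act_inv_act, act_inv_act, hσ, add_smul, algebraMap_smul]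
  obtain ⟨lam, hlam⟩ := SpExt.exists_trace_repr l
  have hlam0 : lam ≠ 0 := by
    intro e
    have := hlam j₁
    rw [e, mul_zero, map_zero, hl1] at this
    exact one_ne_zero this
  have htau : ∀ x, Φ a₀ (act h⁻¹ x) = Φ a₀ x + tr (Φ a₀ x) • lam := fun x => by
    refine SpExt.ext_trace (F := F) fun k => ?_
    rw [trace_mul hA, ← Orth.B_act (iso_of_mem hA hhM), act_act_inv, hline, ← trace_mul hA, mul_add, mul_smul_comm,
      map_add, (tr).map_smul, hσ, add_mul, map_add, ← Algebra.smul_def, (tr).map_smul, hlam, smul_eq_mul,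
      smul_eq_mul]
    ring
  -- the map of the line is not multiplicative
  obtain ⟨X₀, hX₀, hne⟩ := (line_dichotomy hA hd ha₀ haa₀ hhM (σ := σ) (by simp [hσ, hl0]) hline).resolve_right
    fun hmul => by
      obtain ⟨c, hc, hcF⟩ := exists_not_mem_of_finrank (P := LinearMap.ker l) (by
        have h1 := LinearMap.finrank_range_add_finrank_ker l
        have h2 := (Submodule.finrank_le (LinearMap.range l)).trans_eq (Module.finrank_self F)
        omega)
      have h1 := hmul.1 c j₁
      rw [hσ, hσ, hσ, (show l c = 0 from hc), map_zero, add_zero, hl1, map_one, mul_add, mul_one,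
        add_right_inj] at h1
      exact hcF _ h1
  set Z := lineZ M haa₀ with hZ
  have htw : ∀ X ∈ Z, ∀ k : K, OExtF.twist (k * k) X ∈ Z := fun X hX k => twist_mem hA hd ha₀ hX k
  -- the commutator with the element of the line
  have hcomm : ∀ X ∈ Z, InZ Φ M a₀ (OExtF.wedge 1 (X lam)) := by
    intro X hX
    obtain ⟨w, hw, hwx⟩ := hX 1
    obtain ⟨w', hw', hw'x⟩ := hX (-1)
    refine ⟨h * w * h⁻¹ * w', M.mul_mem (M.mul_mem (M.mul_mem hhM hw) (M.inv_mem hhM)) hw', fun x => ?_⟩
    set t := Φ a₀ x with ht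
    have hy : Φ a₀ (act w' x) = t := by rw [hw'x, map_add, map_smul, haa₀, smul_zero, add_zero]
    have hl : l (X (t + tr t • lam)) = -tr (t * X lam) := by
      have hsk : ∀ x y, tr (x * X y) + tr (y * X x) = 0 := fun x y => by
        have e := skew_of_mem hA ha₀ hX (x + y)
        rw [map_add, add_mul, mul_add, mul_add, map_add, map_add, map_add] at e
        linear_combination e - skew_of_mem hA ha₀ hX x - skew_of_mem hA ha₀ hX y
      rw [hlam, map_add X, map_smul X, mul_comm _ lam, mul_add, map_add, mul_smul_comm, (tr).map_smul, smul_eq_mul]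
      linear_combination hsk lam t + tr t * skew_of_mem hA ha₀ hX lam
    rw [act_mul, act_mul, act_mul, hwx, map_add, act_act_inv, one_smul, hline, htau, hy, hσ, hl, hw'x, ← ht,
      OExtF.wedge_apply, mul_one, map_add, map_smul X, LinearMap.smul_apply, neg_one_smul, map_neg,
      Algebra.algebraMap_eq_smul_one (tr (t * X lam))]
    module
  refine OExtF.wedge_mem hr (by omega) hA.two htw hlam0 (fun ξ hξ => ?_) c
  obtain ⟨X, hX, rfl⟩ := OExtF.exists_image hr (by omega) hA.two htw hX₀ hne (skew_of_mem hA ha₀ hX₀) hlam0 hξ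
  intro e
  rw [OExtF.smul_wedge, ← LinearMap.smul_apply]
  exact hcomm _ (Z.smul_mem e hX)

/-- **The extension field group is maximal in dimension three over the extension field.** -/
theorem omega_le3 (hd : finrank K (ι → F) = 3) (hr : (finrank F K).Prime) (h3 : 3 ≤ finrank F K)
    {g₀ : GL ι F} (hg₀ : g₀ ∈ M) (hns : ¬ ExtF.IsSemi K g₀) : Cfsg.Geo.omegaGL Q ≤ M := by
  obtain ⟨g', a', h, horth'⟩ := exists_max_orth3 hA hd hr h3 hg₀ hns
  obtain ⟨g, hg, a₀, v, j₁, l, ha₀, haa₀, haa, -, -, hl0, hl1, horth, hav, hv⟩ := config_of_max hA hr h horth'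
  have hall := OExtF.wedge_mem_all hA.two (fun X hX k => twist_mem hA hd ha₀ hX k)
    (wedge_mem_config hA hd hr h3 hg ha₀ haa₀ haa hl0 hl1 horth hav hv)
  have hline : ∀ {x : ι → F}, x ≠ 0 → Φ x x = 0 → ∀ c : K, Roots Q M x (c • x) := by
    intro x hx hxx c
    obtain ⟨u, hu, k, hk, hua, hul⟩ := exists_move_line hA hd ha₀ haa₀ hx hxx
    refine roots_of_wedge hA (haa := hxx) ?_
    have := transport_mem hA hxx hu hua hul (hall k⁻¹ (c / k))
    rwa [OExtF.twist_wedge, mul_inv_cancel₀ hk, mul_div_cancel₀ _ hk] at this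
  obtain ⟨t, -, htt, hat⟩ := exists_partner hA (ndeg_top hA) (Submodule.mem_top (x := a₀)) ha₀ haa₀
  obtain ⟨c, hc⟩ := SpExt.exists_trace_eq (F := F) (K := K) 1
  have hct : c • t ≠ 0 := smul_ne_zero (fun h => by rw [h, map_zero] at hc; exact zero_ne_one hc)
    fun h => by rw [h, map_zero] at hat; exact zero_ne_one hat
  have hctt : Φ (c • t) (c • t) = 0 := by simp [htt]
  refine Orth.omega_le_of_full hA.nondeg hA.five (Q_of_singular hA haa₀) (Q_of_singular hA hctt) ?_
    (full_of_lines hA (by omega) hline ha₀ haa₀) (full_of_lines hA (by omega) hline hct hctt)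
  rw [← trace_mul' hA, hat, mul_one, hc]
  exact one_ne_zero

end Cfsg.Agent.MaxCl.OExt
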