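/-
Spaces of linear maps of an orthogonal space invariant under conjugation by Siegel elements, odd characteristic:
skew maps (a non-zero space contains every `x ↦ B(v,x) y - B(y,x) v`) and commuting self-adjoint maps (scalar).
-/
import Cfsg.Agent.Lib.MaxCl.OrthBase

set_option autoImplicit false
set_option linter.unusedSectionVars false
set_option linter.unusedSimpArgs false

namespace Cfsg.Agent.MaxCl.OTens

open scoped MatrixGroups Matrix
open Module (finrank)
open Orth

variable {κ : Type} [Fintype κ] [DecidableEq κ] {F : Type*} [Field F] (Q : QuadraticForm F (κ → F))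

set_option quotPrecheck false in
local notation "B" => QuadraticMap.polar (⇑Q)

/-- `x ↦ B(v,x) y - B(y,x) v` -/
noncomputable def wedge (v y : κ → F) : Module.End F (κ → F) :=
  (QuadraticMap.polarBilin Q v).smulRight y - (QuadraticMap.polarBilin Q y).smulRight v

theorem wedge_apply (v y x : κ → F) : wedge Q v y x = B v x • y - B y x • v := by simp [wedge]

theorem wedge_add_right (v y y' : κ → F) : wedge Q v (y + y') = wedge Q v y + wedge Q v y' := by
  apply LinearMap.ext; intro x
  simp only [LinearMap.add_apply, wedge_apply, B_add_left Q]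
  module

theorem wedge_smul_right (a : F) (v y : κ → F) : wedge Q v (a • y) = a • wedge Q v y := by
  apply LinearMap.ext; intro x
  simp only [LinearMap.smul_apply, wedge_apply, B_smul_left Q]
  module

theorem wedge_self (v : κ → F) : wedge Q v v = 0 := by
  apply LinearMap.ext; intro x
  simp [wedge_apply]

/-- conjugation of a linear map -/
noncomputable def conjL (a : GL κ F) : Module.End F (κ → F) →ₗ[F] Module.End F (κ → F) :=
  LinearMap.mulLeft F (act a) ∘ₗ LinearMap.mulRight F (act a⁻¹)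

theorem conjL_apply (a : GL κ F) (X : Module.End F (κ → F)) (x : κ → F) :
    conjL a X x = act a (X (act a⁻¹ x)) := rfl

/-- the second difference of `a ↦ a X a⁻¹` along the Siegel element at `(v, y)` -/
noncomputable def sdiff (v y : κ → F) (X : Module.End F (κ → F)) : Module.End F (κ → F) :=
  conjL (sg Q v y) X + conjL (sg Q v (-y)) X - (2 : F) • X

theorem sdiff_mem {v y : κ → F} {L : Submodule F (Module.End F (κ → F))}
    (hinv : ∀ u w, ∀ X ∈ L, conjL (sg Q u w) X ∈ L) {X : Module.End F (κ → F)} (hX : X ∈ L) :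
    sdiff Q v y X ∈ L :=
  L.sub_mem (L.add_mem (hinv _ _ X hX) (hinv _ _ X hX)) (L.smul_mem _ hX)

theorem sdiff_apply {v y : κ → F} (hv : Q v = 0) (hvy : B v y = 0) (X : Module.End F (κ → F)) (x : κ → F) :
    sdiff Q v y X x = (-(2 * Q y) * B v x) • X v - (2 * Q y * B v (X x)) • v
      + (2 * Q y * Q y * B v x * B v (X v)) • v
      - (2 : F) • (B v (B v x • X y - B y x • X v) • y - B y (B v x • X y - B y x • X v) • v) := by
  have hvy' : B v (-y) = 0 := by rw [B_neg_right Q, hvy, neg_zero]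
  have hi : (sg Q v y)⁻¹ = sg Q v (-y) := (sg_neg Q hv hvy).symm
  have hi' : (sg Q v (-y))⁻¹ = sg Q v y := by rw [sg_neg Q hv hvy, inv_inv]
  simp only [sdiff, LinearMap.sub_apply, LinearMap.add_apply, LinearMap.smul_apply, conjL_apply, hi, hi',
    act_sg Q hv hvy, act_sg Q hv hvy', map_add, map_sub, map_smul, B_neg_left Q, Q_neg Q, map_neg,
    B_add_right Q, B_sub_right Q, B_smul_right Q, B_neg_right Q]
  module

variable (two : (2 : F) ≠ 0)
include two

theorem B_self_ne_zero {y : κ → F} (hy : Q y ≠ 0) : B y y ≠ 0 := by rw [B_self Q]; exact mul_ne_zero two hy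

theorem skew_self {S : Module.End F (κ → F)} (hS : ∀ x y, B (S x) y + B x (S y) = 0) (x : κ → F) :
    B (S x) x = 0 := by
  have h := hS x x
  rw [B_comm Q x (S x)] at h
  exact (mul_eq_zero.1 (show (2 : F) * B (S x) x = 0 by linear_combination h)).resolve_left two

theorem sdiff_skew {v y : κ → F} (hv : Q v = 0) (hvy : B v y = 0) {S : Module.End F (κ → F)}
    (hS : ∀ x y, B (S x) y + B x (S y) = 0) :
    sdiff Q v y S = (2 : F) • wedge Q v (B (S v) y • y - Q y • S v) := by
  apply LinearMap.ext; intro x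
  have h0 : B v (S v) = 0 := by rw [B_comm Q]; exact skew_self Q two hS v
  have hyy : B y (S y) = 0 := by rw [B_comm Q]; exact skew_self Q two hS y
  have h1 : B v (S y) = -B (S v) y := by linear_combination hS v y
  have h2 : B v (S x) = -B (S v) x := by linear_combination hS v x
  rw [sdiff_apply Q hv hvy]
  simp only [LinearMap.smul_apply, wedge_apply, B_sub_left Q, B_smul_left Q, B_sub_right Q, B_smul_right Q,
    h0, h1, h2, hyy, B_comm Q y (S v)]
  module

omit two in
theorem sdiff_selfAdj {v y : κ → F} (hv : Q v = 0) (hvy : B v y = 0) {A : Module.End F (κ → F)}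
    (hA : ∀ x y, B (A x) y = B x (A y)) (h0 : B (A v) v = 0) (x : κ → F) :
    sdiff Q v y A x = (2 : F) • (-(Q y * B v x) • A v - (Q y * B (A v) x) • v
      - (B (A v) y * B v x) • y + (B v x * B (A y) y - B y x * B (A v) y) • v) := by
  have e0 : B v (A v) = 0 := by rw [B_comm Q]; exact h0
  rw [sdiff_apply Q hv hvy]
  simp only [B_sub_right Q, B_smul_right Q, e0, ← hA v y, ← hA v x, B_comm Q y (A v), B_comm Q y (A y)]
  module

variable {Q} (hQ : (QuadraticMap.polarBilin Q).Nondegenerate)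

include hQ in
theorem exists_singular_hit [Finite F] (h3 : 3 ≤ Fintype.card κ) {a : κ → F} (ha : a ≠ 0) :
    ∃ v, Q v = 0 ∧ B a v ≠ 0 := by
  obtain ⟨u, -, hu0, hu⟩ := exists_singular Q (D := (⊤ : Submodule F (κ → F))) (by
    rw [finrank_top, Module.finrank_pi]; omega)
  obtain ⟨z, hz⟩ := exists_B_ne_zero hQ hu0
  obtain ⟨v, -, hv, huv⟩ := exists_partner Q (W := ⊤) hu trivial trivial hz
  by_contra hno
  push Not at hno
  have hau := hno u hu
  have hav := hno v hv
  have hQa : Q a = 0 := by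
    have hs : Q (u + a - Q a • v) = 0 := by
      simp only [Q_sub Q, Q_add Q, Q_smul Q, B_add_left Q, B_smul_right Q, hu, hv, huv,
        B_comm Q u a, hau, hav]
      ring
    have e := hno _ hs
    simp only [B_sub_right Q, B_add_right Q, B_smul_right Q, hau, hav, B_self Q] at e
    by_contra h
    have : (2 : F) * Q a = 0 := by linear_combination e
    exact h ((mul_eq_zero.1 this).resolve_left two)
  obtain ⟨w, hw⟩ := exists_B_ne_zero hQ ha
  obtain ⟨a', -, ha', haa'⟩ := exists_partner Q (W := ⊤) hQa trivial trivial hw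
  exact one_ne_zero (haa'.symm.trans (hno a' ha'))

variable [Finite F] (h3 : 3 ≤ Fintype.card κ)

omit two [Finite F] h3 in
theorem wedge_smul_left (a : F) (v y : κ → F) : wedge Q (a • v) y = a • wedge Q v y := by
  apply LinearMap.ext; intro x
  simp only [LinearMap.smul_apply, wedge_apply, B_smul_left Q]
  module

include hQ in
omit [Finite F] h3 in
/-- an anisotropic vector in a space projected onto along a nondegenerate part -/
theorem exists_aniso_proj {p : (κ → F) → Prop} (hadd : ∀ a b, p a → p b → p (a + b)) {y₀ : κ → F}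
    (hy₀ : p y₀) (hy₀0 : y₀ ≠ 0) (π : (κ → F) → (κ → F)) (hπ : ∀ z, p (π z))
    (hB : ∀ y, p y → ∀ z, B y (π z) = B y z) : ∃ y, p y ∧ Q y ≠ 0 := by
  by_contra hno
  push Not at hno
  obtain ⟨z, hz⟩ := exists_B_ne_zero hQ hy₀0
  have := hno _ (hadd _ _ hy₀ (hπ z))
  rw [Q_add Q, hno _ hy₀, hno _ (hπ z), zero_add, zero_add, hB _ hy₀] at this
  exact hz this

include hQ in
omit [Finite F] in
/-- an anisotropic vector orthogonal to a hyperbolic pair -/
theorem exists_aniso_perp {v w : κ → F} (hv : Q v = 0) (hw : Q w = 0) (hvw : B v w = 1)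
    (h3 : 3 ≤ Fintype.card κ) : ∃ y, B v y = 0 ∧ B w y = 0 ∧ Q y ≠ 0 := by
  have hwv : B w v = 1 := by rw [B_comm Q, hvw]
  obtain ⟨y₀, hy, hy0⟩ := Submodule.exists_mem_ne_zero_of_ne_bot
    (p := perp Q (Submodule.span F (Set.range ![v, w]))) fun e => by
      have h1 := finrank_perp hQ (Submodule.span F (Set.range ![v, w]))
      have h2 := finrank_span_list_le (F := F) ![v, w]
      rw [e, finrank_bot] at h1
      omega
  rw [mem_perp_span] at hy
  obtain ⟨y, ⟨h1, h2⟩, h⟩ := exists_aniso_proj two hQ (p := fun y => B v y = 0 ∧ B w y = 0)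
    (fun a b ha hb => ⟨by rw [B_add_right Q, ha.1, hb.1, add_zero], by rw [B_add_right Q, ha.2, hb.2, add_zero]⟩)
    ⟨hy v ⟨0, rfl⟩, hy w ⟨1, rfl⟩⟩ hy0 (fun z => z - B w z • v - B v z • w)
    (fun z => by
      constructor <;> simp [B_sub_right Q, B_smul_right Q, B_self_of_singular Q hv, B_self_of_singular Q hw, hvw,
        hwv])
    fun y hy z => by
      simp [B_sub_right Q, B_smul_right Q, B_comm Q y v, B_comm Q y w, hy.1, hy.2]
  exact ⟨y, h1, h2, h⟩

include hQ in
omit [Finite F] in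
/-- an anisotropic vector orthogonal to a hyperbolic pair and an anisotropic vector -/
theorem exists_aniso_perp_three {v w a : κ → F} (hv : Q v = 0) (hw : Q w = 0) (hvw : B v w = 1)
    (hva : B v a = 0) (hwa : B w a = 0) (ha : Q a ≠ 0) (h4 : 4 ≤ Fintype.card κ) :
    ∃ y, B v y = 0 ∧ B w y = 0 ∧ B a y = 0 ∧ Q y ≠ 0 := by
  have hwv : B w v = 1 := by rw [B_comm Q, hvw]
  have haa : (2 * Q a) ≠ 0 := mul_ne_zero two ha
  obtain ⟨y₀, hy, hy0⟩ := Submodule.exists_mem_ne_zero_of_ne_bot
    (p := perp Q (Submodule.span F (Set.range ![v, w, a]))) fun e => by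
      have h1 := finrank_perp hQ (Submodule.span F (Set.range ![v, w, a]))
      have h2 := finrank_span_list_le (F := F) ![v, w, a]
      rw [e, finrank_bot] at h1
      omega
  rw [mem_perp_span] at hy
  obtain ⟨y, ⟨h1, h2, h2'⟩, h⟩ := exists_aniso_proj two hQ (p := fun y => B v y = 0 ∧ B w y = 0 ∧ B a y = 0)
    (fun y z hy hz => ⟨by rw [B_add_right Q, hy.1, hz.1, add_zero], by rw [B_add_right Q, hy.2.1, hz.2.1, add_zero],
      by rw [B_add_right Q, hy.2.2, hz.2.2, add_zero]⟩)
    ⟨hy v ⟨0, rfl⟩, hy w ⟨1, rfl⟩, hy a ⟨2, rfl⟩⟩ hy0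
    (fun z => z - B w z • v - B v z • w - (B a z / (2 * Q a)) • a)
    (fun z => by
      refine ⟨?_, ?_, ?_⟩ <;> simp only [B_sub_right Q, B_smul_right Q, B_self_of_singular Q hv,
        B_self_of_singular Q hw, hvw, hwv, hva, hwa, B_self Q a, B_comm Q a v, B_comm Q a w] <;>
        field_simp <;> ring)
    fun y hy z => by
      simp [B_sub_right Q, B_smul_right Q, B_comm Q y v, B_comm Q y w, B_comm Q y a, hy.1, hy.2.1, hy.2.2]
  exact ⟨y, h1, h2, h2', h⟩

omit two [Finite F] h3 in
include hQ in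
theorem exists_partner_top {v : κ → F} (hv : Q v = 0) (hv0 : v ≠ 0) : ∃ w, Q w = 0 ∧ B v w = 1 := by
  obtain ⟨z, hz⟩ := exists_B_ne_zero hQ hv0
  obtain ⟨w, -, h⟩ := exists_partner Q (W := ⊤) hv trivial trivial hz
  exact ⟨w, h⟩

include hQ in
omit [Finite F] in
/-- a singular vector not orthogonal to two singular vectors -/
theorem exists_singular_two {v w : κ → F} (hv : Q v = 0) (hw : Q w = 0) (hv0 : v ≠ 0) (hw0 : w ≠ 0)
    (h3 : 3 ≤ Fintype.card κ) : ∃ x, Q x = 0 ∧ B v x ≠ 0 ∧ B w x ≠ 0 := by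
  rcases eq_or_ne (B v w) 0 with h | h
  · obtain ⟨z, hzv, hzw⟩ : ∃ z, B v z ≠ 0 ∧ B w z ≠ 0 := by
      obtain ⟨z₁, h1⟩ := exists_B_ne_zero hQ hv0
      obtain ⟨z₂, h2⟩ := exists_B_ne_zero hQ hw0
      by_cases h1' : B w z₁ = 0
      · by_cases h2' : B v z₂ = 0
        · exact ⟨z₁ + z₂, by rw [B_add_right Q, h2', add_zero]; exact h1,
            by rw [B_add_right Q, h1', zero_add]; exact h2⟩
        · exact ⟨z₂, h2', h2⟩
      · exact ⟨z₁, h1, h1'⟩
    refine ⟨(B v z)⁻¹ • z - Q ((B v z)⁻¹ • z) • v, ?_, ?_, ?_⟩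
    · simp only [Q_sub Q, Q_smul Q, B_smul_left Q, B_smul_right Q, hv, B_comm Q z v]
      field_simp
      ring
    · rw [B_sub_right Q, B_smul_right Q, B_smul_right Q, B_self_of_singular Q hv, inv_mul_cancel₀ hzv, mul_zero,
        sub_zero]
      exact one_ne_zero
    · rw [B_sub_right Q, B_smul_right Q, B_smul_right Q, B_comm Q w v, h, mul_zero, sub_zero]
      exact mul_ne_zero (inv_ne_zero hzv) hzw
  · have h' : Q ((B v w)⁻¹ • w) = 0 := by rw [Q_smul Q, hw, mul_zero]
    have h1 : B v ((B v w)⁻¹ • w) = 1 := by rw [B_smul_right Q, inv_mul_cancel₀ h]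
    obtain ⟨y, hvy, hwy, hy⟩ := exists_aniso_perp two hQ hv h' h1 h3
    rw [B_smul_left Q, mul_eq_zero, or_iff_right (inv_ne_zero h)] at hwy
    refine ⟨v + y - Q y • ((B v w)⁻¹ • w), ?_, ?_, ?_⟩
    · simp only [Q_sub Q, Q_add Q, Q_smul Q, B_add_left Q, B_smul_right Q, hv, hw, hvy, B_comm Q y w, hwy]
      field_simp
      ring
    · rw [B_sub_right Q, B_add_right Q, B_smul_right Q, B_self_of_singular Q hv, hvy, h1, zero_add, mul_one, zero_sub,
        neg_ne_zero]
      exact hy
    · rw [B_sub_right Q, B_add_right Q, B_smul_right Q, B_smul_right Q, B_self_of_singular Q hw, hwy, mul_zero,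
        mul_zero, sub_zero, add_zero, B_comm Q]
      exact h

variable {L : Submodule F (Module.End F (κ → F))} (hinv : ∀ u w, ∀ X ∈ L, conjL (sg Q u w) X ∈ L)

include hQ in
/-- a singular vector which is no eigenvector of a skew map -/
theorem exists_moved_singular {S : Module.End F (κ → F)} (hS : ∀ x y, B (S x) y + B x (S y) = 0) (hS0 : S ≠ 0)
    (h3 : 3 ≤ Fintype.card κ) : ∃ v, Q v = 0 ∧ v ≠ 0 ∧ S v ∉ F ∙ v := by
  by_contra hno
  push Not at hno
  have eig : ∀ v, Q v = 0 → ∃ l : F, S v = l • v := fun v hv => by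
    rcases eq_or_ne v 0 with rfl | hv0
    · exact ⟨0, by simp⟩
    · obtain ⟨l, hl⟩ := Submodule.mem_span_singleton.1 (hno v hv hv0)
      exact ⟨l, hl.symm⟩
  have hzero : ∀ v, Q v = 0 → S v = 0 := by
    intro v hv
    rcases eq_or_ne v 0 with rfl | hv0
    · exact map_zero S
    obtain ⟨w, hw, hvw⟩ := exists_partner_top hQ hv hv0
    obtain ⟨y, hvy, hwy, hy⟩ := exists_aniso_perp two hQ hv hw hvw h3
    set s := v + y - Q y • w with hs
    have hQs : Q s = 0 := by
      simp only [hs, Q_sub Q, Q_add Q, Q_smul Q, B_add_left Q, B_smul_right Q, hv, hw, hvy, hvw, B_comm Q y w, hwy]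
      ring
    obtain ⟨l, hl⟩ := eig v hv
    obtain ⟨m, hm⟩ := eig w hw
    obtain ⟨k, hk⟩ := eig s hQs
    have hvs : B v s = -Q y := by
      rw [hs, B_sub_right Q, B_add_right Q, B_smul_right Q, B_self_of_singular Q hv, hvy, hvw]; ring
    have hws : B w s = 1 := by
      rw [hs, B_sub_right Q, B_add_right Q, B_smul_right Q, B_self_of_singular Q hw, hwy, B_comm Q w v, hvw]; ring
    have e1 := hS v w
    have e2 := hS v s
    have e3 := hS w s
    rw [hl, hm, B_smul_left Q, B_smul_right Q, hvw] at e1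
    rw [hl, hk, B_smul_left Q, B_smul_right Q, hvs] at e2
    rw [hm, hk, B_smul_left Q, B_smul_right Q, hws] at e3
    have hlk : (l + k) * Q y = 0 := by linear_combination -e2
    have hl0 : (2 : F) * l = 0 := by
      linear_combination ((mul_eq_zero.1 hlk).resolve_right hy) + e1 - e3
    rw [hl, (mul_eq_zero.1 hl0).resolve_left two, zero_smul]
  apply hS0
  apply LinearMap.ext; intro x
  by_contra hx
  obtain ⟨v, hv, hne⟩ := exists_singular_hit two hQ h3 hx
  apply hne
  have := hS x v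
  rwa [hzero v hv, B_zero_right Q, add_zero] at this

include hQ hinv in
omit [Finite F] in
theorem wedge_mem_partner (hskew : ∀ S ∈ L, ∀ x y, B (S x) y + B x (S y) = 0) (h3 : 3 ≤ Fintype.card κ)
    (h4 : Fintype.card κ = 4 → ∀ a b, Q a = 0 → Q b = 0 → B a b = 0 → a ≠ 0 → b ∈ F ∙ a)
    {v z : κ → F} (hv : Q v = 0) (hvz : B v z = 0) (hz : z ∉ F ∙ v) (hW : wedge Q v z ∈ L) {w : κ → F}
    (hw : Q w = 0) (hne : B v w ≠ 0) : ∀ y, B w y = 0 → wedge Q w y ∈ L := by
  suffices H : ∀ w, Q w = 0 → B v w = 1 → ∀ y, B w y = 0 → wedge Q w y ∈ L by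
    intro y hy
    have := H ((B v w)⁻¹ • w) (by rw [Q_smul Q, hw, mul_zero]) (by rw [B_smul_right Q, inv_mul_cancel₀ hne]) y
      (by rw [B_smul_left Q, hy, mul_zero])
    rw [wedge_smul_left] at this
    have h' := L.smul_mem (B v w) this
    rwa [smul_smul, mul_inv_cancel₀ hne, one_smul] at h'
  clear hne hw w
  intro w hw hvw
  have hwv : B w v = 1 := by rw [B_comm Q, hvw]
  obtain ⟨z₁, hz₁⟩ : ∃ z₁, z₁ = z - B w z • v := ⟨_, rfl⟩
  have hvz₁ : B v z₁ = 0 := by rw [hz₁, B_sub_right Q, B_smul_right Q, hvz, B_self_of_singular Q hv]; ring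
  have hwz₁ : B w z₁ = 0 := by rw [hz₁, B_sub_right Q, B_smul_right Q, hwv]; ring
  have hz₁0 : z₁ ≠ 0 := fun e => hz (Submodule.mem_span_singleton.2 ⟨B w z, (sub_eq_zero.1 (hz₁.symm.trans e)).symm⟩)
  have hW₁ : wedge Q v z₁ ∈ L := by
    have : wedge Q v z₁ = wedge Q v z := by
      rw [hz₁, sub_eq_add_neg, ← neg_smul, wedge_add_right, wedge_smul_right, wedge_self, smul_zero, add_zero]
    rwa [this]
  let G : Submodule F (κ → F) :=
    { carrier := {y | wedge Q w y ∈ L}
      zero_mem' := by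
        show wedge Q w 0 ∈ L
        rw [← zero_smul F (0 : κ → F), wedge_smul_right, zero_smul]; exact L.zero_mem
      add_mem' := fun {a b} ha hb => by
        show wedge Q w (a + b) ∈ L
        rw [wedge_add_right]; exact L.add_mem ha hb
      smul_mem' := fun k a ha => by
        show wedge Q w (k • a) ∈ L
        rw [wedge_smul_right]; exact L.smul_mem k ha }
  have hSw : wedge Q v z₁ w = z₁ := by
    rw [wedge_apply, hvw, B_comm Q z₁ w, hwz₁]; simp
  have hF : ∀ y, B w y = 0 → B z₁ y • y - Q y • z₁ ∈ G := by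
    intro y hy
    have h := sdiff_mem (Q := Q) (v := w) (y := y) hinv hW₁
    rw [sdiff_skew Q two hw hy (hskew _ hW₁), hSw] at h
    have h' := L.smul_mem (2 : F)⁻¹ h
    rwa [smul_smul, inv_mul_cancel₀ two, one_smul] at h'
  have hwG : w ∈ G := by
    show wedge Q w w ∈ L
    rw [wedge_self]; exact L.zero_mem
  suffices HY : ∀ y, B v y = 0 → B w y = 0 → y ∈ G by
    intro y hy
    have h1 := HY (y - B v y • w) (by rw [B_sub_right Q, B_smul_right Q, hvw]; ring)
      (by rw [B_sub_right Q, B_smul_right Q, hy, B_self_of_singular Q hw]; ring)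
    have := G.add_mem h1 (G.smul_mem (B v y) hwG)
    rwa [sub_add_cancel] at this
  by_cases hq : Q z₁ = 0
  · obtain ⟨z', hz'⟩ := exists_B_ne_zero hQ hz₁0
    obtain ⟨t₀, -, ht₀, hzt⟩ := exists_partner Q (W := ⊤) hq trivial trivial hz'
    obtain ⟨t, htdef⟩ : ∃ t, t = t₀ - B w t₀ • v - B v t₀ • w + (B v t₀ * B w t₀) • z₁ := ⟨_, rfl⟩
    have hvt : B v t = 0 := by
      simp only [htdef, B_add_right Q, B_sub_right Q, B_smul_right Q, B_self_of_singular Q hv, hvw, hvz₁]; ring
    have hwt : B w t = 0 := by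
      simp only [htdef, B_add_right Q, B_sub_right Q, B_smul_right Q, B_self_of_singular Q hw, hwv, hwz₁]; ring
    have hzt' : B z₁ t = 1 := by
      simp only [htdef, B_add_right Q, B_sub_right Q, B_smul_right Q, B_self_of_singular Q hq, hzt, B_comm Q z₁ v,
        B_comm Q z₁ w, hvz₁, hwz₁]; ring
    have hQt : Q t = 0 := by
      simp only [htdef, Q_add Q, Q_sub Q, Q_smul Q, B_sub_left Q, B_smul_left Q, B_smul_right Q, hv, hw, hq, ht₀,
        hvz₁, hwz₁, hvw, B_comm Q t₀ v, B_comm Q t₀ w, B_comm Q t₀ z₁, hzt]; ring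
    have htG : t ∈ G := by
      have := hF t hwt
      rwa [hzt', hQt, one_smul, zero_smul, sub_zero] at this
    have hrest : ∀ y, B v y = 0 → B w y = 0 → B z₁ y = 0 → B t y = 0 → y ∈ G := by
      intro y _ hwy hzy hty
      have h1 := hF (t + y) (by rw [B_add_right Q, hwt, hwy, add_zero])
      have h2 := G.sub_mem (G.sub_mem h1 (hF t hwt)) (hF y hwy)
      rw [B_add_right Q, hzy, Q_add Q, hty, hQt, hzt'] at h2
      convert h2 using 1
      module
    have hzG : z₁ ∈ G := by
      obtain ⟨y, ⟨h1, h2, h5, h6⟩, hy⟩ : ∃ y, (B v y = 0 ∧ B w y = 0 ∧ B z₁ y = 0 ∧ B t y = 0) ∧ Q y ≠ 0 := by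
        have hz₁v : z₁ ∉ F ∙ v := fun h => by
          obtain ⟨k, hk⟩ := Submodule.mem_span_singleton.1 h
          rw [← hk, B_smul_right Q, hwv, mul_one] at hwz₁
          exact hz₁0 (by rw [← hk, hwz₁, zero_smul])
        have hv0 : v ≠ 0 := fun e => by rw [e, B_zero_left Q] at hvw; exact zero_ne_one hvw
        have hn : 5 ≤ Fintype.card κ := by
          by_contra hlt
          have h3' : Fintype.card κ = 3 ∨ Fintype.card κ = 4 := by omega
          rcases h3' with h3' | h4'
          · have := two_mul_finrank_le_of_singular hQ (D := Submodule.span F (Set.range ![v, z₁])) fun x hx => by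
              rw [Submodule.mem_span_range_iff_exists_fun] at hx
              obtain ⟨c, rfl⟩ := hx
              simp [Fin.sum_univ_two, Q_add Q, Q_smul Q, B_smul_left Q, B_smul_right Q, hv, hq, hvz₁]
            rw [finrank_span_eq_card, Fintype.card_fin] at this
            · omega
            · exact LinearIndependent.pair_iff.2 fun a b hab => by
                have e1 := congrArg (B w) hab
                rw [B_add_right Q, B_smul_right Q, B_smul_right Q, hwv, hwz₁, B_zero_right Q] at e1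
                simp only [mul_one, mul_zero, add_zero] at e1
                subst e1
                rw [zero_smul, zero_add, smul_eq_zero] at hab
                exact ⟨rfl, hab.resolve_right hz₁0⟩
          · exact hz₁v (h4 h4' v z₁ hv hq hvz₁ hv0)
        obtain ⟨y₀, hy₀, hy00⟩ := Submodule.exists_mem_ne_zero_of_ne_bot
          (p := perp Q (Submodule.span F (Set.range ![v, w, z₁, t]))) fun e => by
            have h1 := finrank_perp hQ (Submodule.span F (Set.range ![v, w, z₁, t]))
            have h2 := finrank_span_list_le (F := F) ![v, w, z₁, t]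
            rw [e, finrank_bot] at h1
            omega
        rw [mem_perp_span] at hy₀
        exact exists_aniso_proj two hQ (p := fun y => B v y = 0 ∧ B w y = 0 ∧ B z₁ y = 0 ∧ B t y = 0)
          (fun a b ha hb => ⟨by rw [B_add_right Q, ha.1, hb.1, add_zero],
            by rw [B_add_right Q, ha.2.1, hb.2.1, add_zero], by rw [B_add_right Q, ha.2.2.1, hb.2.2.1, add_zero],
            by rw [B_add_right Q, ha.2.2.2, hb.2.2.2, add_zero]⟩)
          ⟨hy₀ v ⟨0, rfl⟩, hy₀ w ⟨1, rfl⟩, hy₀ z₁ ⟨2, rfl⟩, hy₀ t ⟨3, rfl⟩⟩ hy00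
          (fun x => x - B w x • v - B v x • w - B t x • z₁ - B z₁ x • t)
          (fun x => by
            refine ⟨?_, ?_, ?_, ?_⟩ <;> simp [B_sub_right Q, B_smul_right Q, B_self_of_singular Q hv,
              B_self_of_singular Q hw, B_self_of_singular Q hq, B_self_of_singular Q hQt, hvw, hwv, hvz₁, hwz₁,
              hvt, hwt, hzt', B_comm Q z₁ v, B_comm Q z₁ w, B_comm Q t v, B_comm Q t w, B_comm Q t z₁])
          fun y hy x => by
            simp [B_sub_right Q, B_smul_right Q, B_comm Q y v, B_comm Q y w, B_comm Q y z₁, B_comm Q y t, hy.1,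
              hy.2.1, hy.2.2.1, hy.2.2.2]
      have := hF y h2
      rw [h5, zero_smul, zero_sub] at this
      have h' := G.smul_mem (Q y)⁻¹ (G.neg_mem this)
      rwa [neg_neg, smul_smul, inv_mul_cancel₀ hy, one_smul] at h'
    intro y hvy hwy
    have h1 := hrest (y - B t y • z₁ - B z₁ y • t)
      (by simp [B_sub_right Q, B_smul_right Q, hvy, hvz₁, hvt])
      (by simp [B_sub_right Q, B_smul_right Q, hwy, hwz₁, hwt])
      (by simp [B_sub_right Q, B_smul_right Q, B_self_of_singular Q hq, hzt'])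
      (by simp [B_sub_right Q, B_smul_right Q, B_self_of_singular Q hQt, B_comm Q t z₁, hzt'])
    have := G.add_mem (G.add_mem h1 (G.smul_mem (B t y) hzG)) (G.smul_mem (B z₁ y) htG)
    convert this using 1
    module
  · have hzG : z₁ ∈ G := by
      have := hF z₁ hwz₁
      rw [B_self Q, ← sub_smul, show 2 * Q z₁ - Q z₁ = Q z₁ by ring] at this
      have h' := G.smul_mem (Q z₁)⁻¹ this
      rwa [smul_smul, inv_mul_cancel₀ hq, one_smul] at h'
    intro y _ hwy
    have h2 := G.sub_mem (G.sub_mem (hF (y + z₁) (by rw [B_add_right Q, hwy, hwz₁, add_zero])) (hF y hwy))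
      (hF z₁ hwz₁)
    rw [B_add_right Q, Q_add Q, B_self Q, B_comm Q y z₁] at h2
    have h3 : (2 * Q z₁) • y ∈ G := by
      convert h2 using 1
      module
    have h' := G.smul_mem (2 * Q z₁)⁻¹ h3
    rwa [smul_smul, inv_mul_cancel₀ (mul_ne_zero two hq), one_smul] at h'

include hQ hinv in
/-- a non-zero invariant space of skew maps contains every `wedge` -/
theorem wedge_mem_of_skew (hskew : ∀ S ∈ L, ∀ x y, B (S x) y + B x (S y) = 0) (h3 : 3 ≤ Fintype.card κ)
    (h4 : Fintype.card κ = 4 → ∀ a b, Q a = 0 → Q b = 0 → B a b = 0 → a ≠ 0 → b ∈ F ∙ a)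
    (hne : L ≠ ⊥) {v y : κ → F} (hv : Q v = 0) (hvy : B v y = 0) : wedge Q v y ∈ L := by
  rcases eq_or_ne v 0 with rfl | hv0
  · have : wedge Q 0 y = 0 := by rw [← zero_smul F (0 : κ → F), wedge_smul_left, zero_smul]
    rw [this]; exact L.zero_mem
  obtain ⟨S, hS, hS0⟩ := Submodule.exists_mem_ne_zero_of_ne_bot hne
  obtain ⟨u, hu, hu0, hSu⟩ := exists_moved_singular two hQ (hskew S hS) hS0 h3
  obtain ⟨u', hu', huu'⟩ := exists_partner_top hQ hu hu0
  obtain ⟨z, hz, huz, hzW⟩ : ∃ z, z ∉ F ∙ u ∧ B u z = 0 ∧ wedge Q u z ∈ L := by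
    have hs : B u (S u) = 0 := by rw [B_comm Q]; exact skew_self Q two (hskew S hS) u
    have key : ∀ y, B u y = 0 → wedge Q u (B (S u) y • y - Q y • S u) ∈ L := fun y hy => by
      have h := L.smul_mem (2 : F)⁻¹ (sdiff_mem (Q := Q) (v := u) (y := y) hinv hS)
      rwa [sdiff_skew Q two hu hy (hskew S hS), smul_smul, inv_mul_cancel₀ two, one_smul] at h
    by_cases hq : Q (S u) = 0
    · obtain ⟨y₁, h1, -, hy₁⟩ := exists_aniso_perp two hQ hu hu' huu' h3
      refine ⟨_, ?_, ?_, key y₁ h1⟩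
      · intro hmem
        obtain ⟨k, hk⟩ := Submodule.mem_span_singleton.1 hmem
        have e := congrArg (B y₁) hk
        rw [B_smul_right Q, B_sub_right Q, B_smul_right Q, B_smul_right Q, B_self Q, B_comm Q y₁ u, h1,
          B_comm Q y₁ (S u)] at e
        have hb : B (S u) y₁ = 0 :=
          (mul_eq_zero.1 (show Q y₁ * B (S u) y₁ = 0 by linear_combination -e)).resolve_left hy₁
        rw [hb, zero_smul, zero_sub] at hk
        exact hSu (Submodule.mem_span_singleton.2 ⟨-(Q y₁)⁻¹ * k, by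
          rw [mul_smul, hk, neg_smul_neg, smul_smul, inv_mul_cancel₀ hy₁, one_smul]⟩)
      · rw [B_sub_right Q, B_smul_right Q, B_smul_right Q, h1, hs]; ring
    · refine ⟨S u, hSu, hs, ?_⟩
      have h := key (S u) hs
      rw [B_self Q, ← sub_smul, show 2 * Q (S u) - Q (S u) = Q (S u) by ring, wedge_smul_right] at h
      have h' := L.smul_mem (Q (S u))⁻¹ h
      rwa [smul_smul, inv_mul_cancel₀ hq, one_smul] at h'
  have full := fun {w : κ → F} (hw : Q w = 0) (h : B u w ≠ 0) =>
    wedge_mem_partner two hQ hinv hskew h3 h4 hu huz hz hzW hw h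
  have step : ∀ a b : κ → F, Q a = 0 → Q b = 0 → B a b ≠ 0 → (∀ y, B a y = 0 → wedge Q a y ∈ L) →
      ∀ y, B b y = 0 → wedge Q b y ∈ L := by
    intro a b ha hb hab fa
    have ha0 : a ≠ 0 := fun e => hab (by rw [e, B_zero_left Q])
    obtain ⟨a', ha', haa'⟩ := exists_partner_top hQ ha ha0
    obtain ⟨y₁, h1, h2, hy₁⟩ := exists_aniso_perp two hQ ha ha' haa' h3
    exact wedge_mem_partner two hQ hinv hskew h3 h4 ha h1 (fun h => by
      obtain ⟨k, hk⟩ := Submodule.mem_span_singleton.1 h
      exact hy₁ (by rw [← hk, Q_smul Q, ha, mul_zero])) (fa y₁ h1) hb hab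
  obtain ⟨x, hx, h1, h2⟩ := exists_singular_two two hQ hu' hv (fun e => by
    rw [e, B_zero_right Q] at huu'; exact zero_ne_one huu') hv0 h3
  exact step x v hx hv (by rwa [B_comm Q]) (step u' x hu' hx h1 (full hu' (by rw [huu']; exact one_ne_zero))) y hvy

include hQ hinv in
omit [Finite F] in
/-- the diagonal values of a commuting invariant space of self-adjoint maps vanish on singular vectors -/
theorem selfAdj_diag (hadj : ∀ A ∈ L, ∀ x y, B (A x) y = B x (A y)) (hcomm : ∀ A ∈ L, ∀ A' ∈ L, A * A' = A' * A)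
    (h3 : 3 ≤ Fintype.card κ) (hbig : 4 ≤ Fintype.card κ ∨ ∃ t : F, t ≠ 0 ∧ t * t ≠ 1)
    {A : Module.End F (κ → F)} (hA : A ∈ L) {v : κ → F} (hv : Q v = 0) : B (A v) v = 0 := by
  rcases eq_or_ne v 0 with rfl | hv0
  · rw [B_zero_right Q]
  by_contra ha0
  obtain ⟨w, hw, hvw⟩ := exists_partner_top hQ hv hv0
  obtain ⟨y₁, hvy, hwy, hy⟩ := exists_aniso_perp two hQ hv hw hvw h3
  have e0 : B v (A v) = B (A v) v := (hadj A hA v v).symm
  set P : Module.End F (κ → F) := (QuadraticMap.polarBilin Q v).smulRight v with hP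
  have hPmem : P ∈ L := by
    suffices ∃ T ∈ L, ∃ k : F, k ≠ 0 ∧ ∀ x, T x = (k * B v x) • v by
      obtain ⟨T, hT, k, hk, hTx⟩ := this
      convert L.smul_mem k⁻¹ hT using 1
      apply LinearMap.ext; intro x
      simp [hP, hTx, smul_smul, hk]
    rcases hbig with h4 | ⟨t, ht0, ht⟩
    · obtain ⟨y₂, hvy₂, -, h12, hy₂⟩ := exists_aniso_perp_three two hQ hv hw hvw hvy hwy hy h4
      refine ⟨_, sdiff_mem (Q := Q) (v := v) (y := y₁) hinv (sdiff_mem (Q := Q) (v := v) (y := y₂) hinv hA),
        8 * Q y₁ * Q y₂ * B (A v) v, ?_, fun x => ?_⟩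
      · refine mul_ne_zero (mul_ne_zero (mul_ne_zero ?_ hy) hy₂) ha0
        rw [show (8 : F) = 2 ^ 3 by norm_num]
        exact pow_ne_zero 3 two
      · simp only [sdiff_apply Q hv hvy, sdiff_apply Q hv hvy₂, B_self_of_singular Q hv, B_comm Q y₂ v, hvy₂,
          B_comm Q y₁ v, hvy, h12, B_add_right Q, B_sub_right Q, B_smul_right Q, B_neg_right Q, e0, map_zero, B_zero_right Q,
          mul_zero, zero_mul, zero_smul, smul_zero, neg_zero, sub_zero, add_zero, zero_add, zero_sub]
        match_scalars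
        ring
    · refine ⟨sdiff Q v (t • y₁) A - (t * t) • sdiff Q v y₁ A,
        L.sub_mem (sdiff_mem (Q := Q) hinv hA) (L.smul_mem _ (sdiff_mem (Q := Q) hinv hA)),
        (t * t * (t * t - 1)) * (2 * Q y₁ * Q y₁) * B (A v) v, ?_, fun x => ?_⟩
      · exact mul_ne_zero (mul_ne_zero (mul_ne_zero (mul_ne_zero ht0 ht0) (sub_ne_zero.2 ht))
          (mul_ne_zero (mul_ne_zero two hy) hy)) ha0
      · have hvt : B v (t • y₁) = 0 := by rw [B_smul_right Q, hvy, mul_zero]
        simp only [LinearMap.sub_apply, LinearMap.smul_apply, sdiff_apply Q hv hvy, sdiff_apply Q hv hvt,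
          Q_smul Q, B_sub_right Q, B_smul_right Q, B_smul_left Q, map_smul, e0]
        match_scalars <;> ring
  have hwy' : B w y₁ = 0 := hwy
  set v' := act (sg Q w y₁) v with hv'
  have hv'e : v' = v + y₁ - Q y₁ • w := by
    rw [hv', act_sg Q hw hwy', B_comm Q w v, hvw, B_comm Q y₁ v, hvy]; module
  have hP' := hinv w y₁ P hPmem
  have hP'x : ∀ x, conjL (sg Q w y₁) P x = B v' x • v' := fun x => by
    rw [conjL_apply, hP]
    simp only [LinearMap.smulRight_apply, QuadraticMap.polarBilin_apply_apply, map_smul]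
    rw [← hv']
    congr 1
    conv_lhs => rw [← B_act (sg_mem_iso Q w y₁), act_act_inv, ← hv']
  have e := LinearMap.congr_fun (hcomm _ hPmem _ hP') v
  simp only [Module.End.mul_apply, hP'x] at e
  simp only [hP, LinearMap.smulRight_apply, QuadraticMap.polarBilin_apply_apply, B_smul_right Q,
    B_self_of_singular Q hv, zero_smul, B_zero_right Q, smul_eq_zero] at e
  have hvv' : B v v' = -Q y₁ := by
    rw [hv'e, B_sub_right Q, B_add_right Q, B_smul_right Q, B_self_of_singular Q hv, hvy, hvw]; ring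
  rw [B_comm Q v' v, hvv'] at e
  rcases e with e | e
  · exact hy (by simpa using e)
  · exact hv0 e

include hQ in
/-- a self-adjoint map with vanishing diagonal on singular vectors is scalar -/
theorem scalar_of_diag (h3 : 3 ≤ Fintype.card κ) (hbig : 4 ≤ Fintype.card κ ∨ ∃ t : F, t ≠ 0 ∧ t * t ≠ 1)
    {A : Module.End F (κ → F)} (hA : ∀ x y, B (A x) y = B x (A y)) (g0 : ∀ v, Q v = 0 → B (A v) v = 0) :
    ∃ k : F, ∀ x, A x = k • x := by
  have eig : ∀ v, Q v = 0 → ∃ l : F, A v = l • v := by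
    intro v hv
    rcases eq_or_ne v 0 with rfl | hv0
    · exact ⟨0, by simp⟩
    obtain ⟨w, hw, hvw⟩ := exists_partner_top hQ hv hv0
    have hwv : B w v = 1 := by rw [B_comm Q, hvw]
    have eq1 : ∀ y, B v y = 0 → B w y = 0 → B (A v) y = Q y * B (A w) y := by
      intro y hvy hwy
      have ge : ∀ y, B v y = 0 → B w y = 0 →
          2 * B (A v) y + B (A y) y - 2 * Q y * B (A v) w - 2 * Q y * B (A w) y = 0 := by
        intro y hvy hwy
        have hs : Q (v + y - Q y • w) = 0 := by
          simp only [Q_sub Q, Q_add Q, Q_smul Q, B_add_left Q, B_smul_right Q, hv, hw, hvy, hvw, B_comm Q y w, hwy]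
          ring
        have e := g0 _ hs
        simp only [map_sub, map_add, map_smul, B_sub_left Q, B_sub_right Q, B_add_left Q, B_add_right Q,
          B_smul_left Q, B_smul_right Q, g0 v hv, g0 w hw, hA y v, B_comm Q y (A v), hA w v,
          B_comm Q w (A v), hA y w, B_comm Q y (A w)] at e
        linear_combination e
      have e1 := ge y hvy hwy
      have e2 := ge (-y) (by rw [B_neg_right Q, hvy, neg_zero]) (by rw [B_neg_right Q, hwy, neg_zero])
      rw [Q_neg Q, map_neg, B_neg_right Q, B_neg_right Q, B_neg_left Q, B_neg_right Q] at e2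
      apply mul_left_cancel₀ (mul_ne_zero two two)
      linear_combination e1 - e2
    have zero1 : ∀ y, B v y = 0 → B w y = 0 → Q y ≠ 0 → B (A v) y = 0 := by
      intro y hvy hwy hy
      suffices B (A w) y = 0 by rw [eq1 y hvy hwy, this, mul_zero]
      rcases hbig with h4 | ⟨t, ht0, ht⟩
      · obtain ⟨z, hvz, hwz, hyz, hz⟩ := exists_aniso_perp_three two hQ hv hw hvw hvy hwy hy h4
        have a1 := eq1 y hvy hwy
        have a2 := eq1 z hvz hwz
        have a3 := eq1 (y + z) (by rw [B_add_right Q, hvy, hvz, add_zero]) (by rw [B_add_right Q, hwy, hwz, add_zero])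
        have a4 := eq1 (y - z) (by rw [B_sub_right Q, hvy, hvz, sub_zero]) (by rw [B_sub_right Q, hwy, hwz, sub_zero])
        rw [B_add_right Q, Q_add Q, hyz, B_add_right Q] at a3
        rw [B_sub_right Q, Q_sub Q, hyz, B_sub_right Q] at a4
        have : (2 : F) * (Q z * B (A w) y) = 0 := by linear_combination 2 * a1 - a3 - a4
        exact (mul_eq_zero.1 ((mul_eq_zero.1 this).resolve_left two)).resolve_left hz
      · have a1 := eq1 y hvy hwy
        have a2 := eq1 (t • y) (by rw [B_smul_right Q, hvy, mul_zero]) (by rw [B_smul_right Q, hwy, mul_zero])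
        rw [B_smul_right Q, Q_smul Q, B_smul_right Q] at a2
        have : (t * (t * t - 1) * Q y) * B (A w) y = 0 := by linear_combination t * a1 - a2
        exact (mul_eq_zero.1 this).resolve_left (mul_ne_zero (mul_ne_zero ht0 (sub_ne_zero.2 ht)) hy)
    obtain ⟨y₁, hvy₁, hwy₁, hy₁⟩ := exists_aniso_perp two hQ hv hw hvw h3
    have zero2 : ∀ y, B v y = 0 → B w y = 0 → B (A v) y = 0 := by
      intro y hvy hwy
      by_cases hy : Q y = 0
      · by_cases h : Q (y + y₁) = 0
        · have h' : Q (y - y₁) ≠ 0 := fun h' => hy₁ (by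
            rw [Q_sub Q, hy] at h'; rw [Q_add Q, hy] at h
            exact (mul_eq_zero.1 (show (2 : F) * Q y₁ = 0 by linear_combination h + h')).resolve_left two)
          have := zero1 (y - y₁) (by rw [B_sub_right Q, hvy, hvy₁, sub_zero])
            (by rw [B_sub_right Q, hwy, hwy₁, sub_zero]) h'
          rwa [B_sub_right Q, zero1 y₁ hvy₁ hwy₁ hy₁, sub_zero] at this
        · have := zero1 (y + y₁) (by rw [B_add_right Q, hvy, hvy₁, add_zero])
            (by rw [B_add_right Q, hwy, hwy₁, add_zero]) h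
          rwa [B_add_right Q, zero1 y₁ hvy₁ hwy₁ hy₁, add_zero] at this
      · exact zero1 y hvy hwy hy
    refine ⟨B (A v) w, ?_⟩
    by_contra hne
    obtain ⟨z, hz⟩ := exists_B_ne_zero hQ (sub_ne_zero.2 hne)
    apply hz
    have := zero2 (z - B w z • v - B v z • w)
      (by simp [B_sub_right Q, B_smul_right Q, B_self_of_singular Q hv, hvw])
      (by simp [B_sub_right Q, B_smul_right Q, B_self_of_singular Q hw, hwv])
    rw [B_sub_right Q, B_sub_right Q, B_smul_right Q, B_smul_right Q, g0 v hv, mul_zero, sub_zero] at this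
    rw [B_sub_left Q, B_smul_left Q]
    linear_combination this
  obtain ⟨v₀, -, hv₀0, hv₀⟩ := exists_singular Q (D := (⊤ : Submodule F (κ → F))) (by
    rw [finrank_top, Module.finrank_pi]; omega)
  obtain ⟨k, hk⟩ := eig v₀ hv₀
  have same : ∀ v, Q v = 0 → A v = k • v := by
    intro v hv
    rcases eq_or_ne v 0 with rfl | hv0
    · simp
    obtain ⟨x, hx, h1, h2⟩ := exists_singular_two two hQ hv₀ hv hv₀0 hv0 h3
    obtain ⟨l, hl⟩ := eig v hv
    obtain ⟨m, hm⟩ := eig x hx
    have e1 := hA v₀ x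
    have e2 := hA v x
    rw [hk, hm, B_smul_left Q, B_smul_right Q] at e1
    rw [hl, hm, B_smul_left Q, B_smul_right Q] at e2
    rw [hl, mul_right_cancel₀ h2 e2, ← mul_right_cancel₀ h1 e1]
  refine ⟨k, fun x => ?_⟩
  by_contra hne
  obtain ⟨v, hv, hne'⟩ := exists_singular_hit two hQ h3 (sub_ne_zero.2 hne)
  apply hne'
  rw [B_sub_left Q, B_smul_left Q, hA, same v hv, B_smul_right Q, sub_self]

include hQ hinv in
/-- a commuting invariant space of self-adjoint maps is scalar -/
theorem selfAdj_scalar (hadj : ∀ A ∈ L, ∀ x y, B (A x) y = B x (A y)) (hcomm : ∀ A ∈ L, ∀ A' ∈ L, A * A' = A' * A)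
    (h3 : 3 ≤ Fintype.card κ) (hbig : 4 ≤ Fintype.card κ ∨ ∃ t : F, t ≠ 0 ∧ t * t ≠ 1)
    {A : Module.End F (κ → F)} (hA : A ∈ L) : ∃ k : F, ∀ x, A x = k • x :=
  scalar_of_diag two hQ h3 hbig (hadj A hA) fun _ hv => selfAdj_diag two hQ hinv hadj hcomm h3 hbig hA hv

end Cfsg.Agent.MaxCl.OTens
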