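/-
The stabiliser of a pair of complementary maximal totally singular subspaces, of even dimension, is maximal in
`omegaGL`: a Siegel element of an overgroup transfers into the unipotent radical of one of the two parabolic groups
unless the element conjugating it preserves the pair.
-/
import Cfsg.Agent.Lib.MaxCl.OrthSubfield

set_option autoImplicit false

namespace Cfsg.Agent.MaxCl.Orth

open scoped MatrixGroups Matrix
open Module (finrank)

variable {ι : Type} [Fintype ι] [DecidableEq ι] {F : Type*} [Field F] {Q : QuadraticForm F (ι → F)}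

set_option quotPrecheck false in
local notation "B" => QuadraticMap.polar (⇑Q)

variable (Q) in
/-- Two complementary totally singular subspaces of dimension `k`. -/
structure IsSingPair (k : ℕ) (X Y : Submodule F (ι → F)) : Prop where
  singX : ∀ x ∈ X, Q x = 0
  singY : ∀ y ∈ Y, Q y = 0
  dimX : finrank F X = k
  dimY : finrank F Y = k
  disj : ∀ z ∈ X, z ∈ Y → z = 0
  split : ∀ z, ∃ a ∈ X, ∃ b ∈ Y, z = a + b
  card : Fintype.card ι = 2 * k

theorem IsSingPair.symm {k : ℕ} {X Y : Submodule F (ι → F)} (h : IsSingPair Q k X Y) : IsSingPair Q k Y X :=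
  ⟨h.singY, h.singX, h.dimY, h.dimX, fun z hy hx => h.disj z hx hy, fun z => by
    obtain ⟨a, ha, b, hb, e⟩ := h.split z; exact ⟨b, hb, a, ha, by rw [e, add_comm]⟩, h.card⟩

variable (Q) in
/-- A Siegel element of `M` in the unipotent radical attached to `X`. -/
def PairSeed (X : Submodule F (ι → F)) (M : Subgroup (GL ι F)) : Prop :=
  ∃ u ∈ X, u ≠ 0 ∧ ∃ x ∈ X, x ∉ F ∙ u ∧ sg Q u x ∈ M

variable [Finite F] (hQ : (QuadraticMap.polarBilin Q).Nondegenerate) {k : ℕ} {X Y : Submodule F (ι → F)}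
  (h : IsSingPair Q k X Y) (hk : 5 ≤ k) {M : Subgroup (GL ι F)}
include hQ h hk

omit hk [Finite F] in
theorem pair_dual {P : Submodule F (ι → F)} {v : ι → F} (hP : P ≤ X) (hv : v ∈ X) (hvP : v ∉ P) :
    ∃ y ∈ Y, (∀ p ∈ P, B p y = 0) ∧ B v y = 1 := by
  obtain ⟨z, hz, hz1⟩ := exists_perp_one hQ hvP
  obtain ⟨a, ha, b, hb, rfl⟩ := h.split z
  refine ⟨b, hb, fun p hp => ?_, ?_⟩
  · have := hz p hp
    rw [QuadraticMap.polarBilin_apply_apply, B_add_right Q, B_eq_zero_of_singular h.singX (hP hp) ha,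
      zero_add] at this
    exact this
  · rwa [B_add_right Q, B_eq_zero_of_singular h.singX hv ha, zero_add] at hz1

omit hk [Finite F] in
theorem pair_exists_notMem {D : Submodule F (ι → F)} {m : ℕ} (v : Fin m → ι → F) (hlt : m < finrank F D) :
    ∃ u ∈ D, u ∉ Submodule.span F (Set.range v) := by
  refine SetLike.not_le_iff_exists.1 fun hle => ?_
  have h1 := Submodule.finrank_mono hle
  have h2 := finrank_span_list_le v
  omega

variable (hM : ∀ u ∈ X, ∀ w ∈ Y, QuadraticMap.polar (⇑Q) u w = 0 → sg Q u w ∈ M)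
include hM

theorem pair_hop {u x a : ι → F} (hu : u ∈ X) (hx : x ∈ X) (ha : a ∈ X) (hux : sg Q u x ∈ M)
    (hind : x ∉ Submodule.span F (Set.range ![u, a])) : sg Q u a ∈ M := by
  obtain ⟨y, hy, hy0, hy1⟩ := pair_dual hQ h
    (P := Submodule.span F (Set.range ![u, a]))
    (Submodule.span_le.2 (by rintro _ ⟨i, rfl⟩; fin_cases i <;> assumption)) hx hind
  have huy : B u y = 0 := hy0 u (Submodule.subset_span ⟨0, rfl⟩)
  have hay : B a y = 0 := hy0 a (Submodule.subset_span ⟨1, rfl⟩)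
  have hd := (sg_diff_mem (sg_mem_iso Q a y) (hM a ha y hy hay) (h.singX u hu)
    (B_eq_zero_of_singular h.singX hu hx) hux
    (act_sg_fix Q (h.singX a ha) hay (B_eq_zero_of_singular h.singX ha hu) ((B_comm Q y u).trans huy))).2
  rw [act_sg_long (h.singX a ha) (h.singY y hy) hay, B_eq_zero_of_singular h.singX ha hx, B_comm Q y x, hy1,
    zero_smul, add_zero, one_smul, sub_sub_cancel_left,
    sg_neg Q (h.singX u hu) (B_eq_zero_of_singular h.singX hu ha)] at hd
  exact inv_mem_iff.1 hd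

theorem pair_same {u x a : ι → F} (hu : u ∈ X) (hx : x ∈ X) (ha : a ∈ X) (hxu : x ∉ F ∙ u)
    (hux : sg Q u x ∈ M) : sg Q u a ∈ M := by
  by_cases hind : x ∉ Submodule.span F (Set.range ![u, a])
  · exact pair_hop hQ h hk hM hu hx ha hux hind
  push Not at hind
  obtain ⟨m, hm, hmn⟩ := pair_exists_notMem hQ h (D := X) ![u, x] (by rw [h.dimX]; omega)
  have hspan : Submodule.span F (Set.range ![u, a]) ≤ Submodule.span F (Set.range ![u, x]) := by
    obtain ⟨p, q, hpq⟩ := mem_span_pair_iff_range.1 hind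
    rw [Submodule.span_le]
    rintro _ ⟨i, rfl⟩
    fin_cases i
    · exact Submodule.subset_span ⟨0, rfl⟩
    · have hq : q ≠ 0 := fun e => hxu (Submodule.mem_span_singleton.2 ⟨p, by rw [← hpq, e, zero_smul, add_zero]⟩)
      refine mem_span_pair_iff_range.2 ⟨-(q⁻¹ * p), q⁻¹, ?_⟩
      show _ = a
      rw [← hpq]
      match_scalars <;> field_simp
      ring
  refine pair_hop hQ h hk hM hu hm ha (pair_hop hQ h hk hM hu hx hm hux ?_) (fun e => hmn (hspan e))
  intro e
  obtain ⟨p, q, hpq⟩ := mem_span_pair_iff_range.1 e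
  rcases eq_or_ne q 0 with rfl | hq
  · exact hxu (Submodule.mem_span_singleton.2 ⟨p, by rw [← hpq, zero_smul, add_zero]⟩)
  · refine hmn (mem_span_pair_iff_range.2 ⟨-(q⁻¹ * p), q⁻¹, ?_⟩)
    rw [← hpq]
    match_scalars <;> field_simp
    ring

theorem pair_full (hseed : PairSeed Q X M) : ∀ u ∈ X, Full Q M u := by
  obtain ⟨u₀, hu₀, hu₀0, x₀, hx₀, hx₀n, hs⟩ := hseed
  intro u hu w hw
  obtain ⟨a, ha, b, hb, rfl⟩ := h.split w
  have hua : B u a = 0 := B_eq_zero_of_singular h.singX hu ha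
  have hub : B u b = 0 := by rwa [B_add_right Q, hua, zero_add] at hw
  rw [← sg_add Q (h.singX u hu) hua hub]
  refine mul_mem ?_ (hM u hu b hb hub)
  obtain ⟨m, hm, hmn⟩ := pair_exists_notMem hQ h (D := X) ![u₀, u] (by rw [h.dimX]; omega)
  have hm0 : m ∉ F ∙ u₀ := fun e => hmn (Submodule.span_mono (by rintro _ rfl; exact ⟨0, rfl⟩) e)
  rcases eq_or_ne u 0 with rfl | hu0
  · have : sg Q 0 a = 1 := gl_ext fun z => by
      rw [act_sg Q (map_zero Q) (B_zero_left Q a), act_one, B_zero_left Q]; simp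
    rw [this]; exact one_mem _
  have swap : ∀ u m, u ∈ X → m ∈ X → sg Q u m ∈ M → sg Q m (-u) ∈ M := fun u m hu hm hh => by
    rwa [← sg_antisymm (h.singX u hu) (h.singX m hm) (B_eq_zero_of_singular h.singX hu hm)]
  have hindep : ∀ u m : ι → F, u ≠ 0 → m ∉ F ∙ u → u ∉ F ∙ m := by
    intro u m hu hmu hum
    obtain ⟨c, rfl⟩ := Submodule.mem_span_singleton.1 hum
    have hc : c ≠ 0 := fun e => hu (by rw [e, zero_smul])
    exact hmu (Submodule.mem_span_singleton.2 ⟨c⁻¹, by rw [smul_smul, inv_mul_cancel₀ hc, one_smul]⟩)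
  have h1 := swap u₀ m hu₀ hm (pair_same hQ h hk hM hu₀ hx₀ hm hx₀n hs)
  have h2 := pair_same hQ h hk hM hm (X.neg_mem hu₀) hu (fun e => hindep u₀ m hu₀0 hm0 (by
    simpa using Submodule.neg_mem _ e)) h1
  exact pair_same hQ h hk hM hu (X.neg_mem hm) ha (fun e => hmn ((Submodule.span_singleton_le_iff_mem u (Submodule.span F (Set.range ![u₀, u]))).2
    (Submodule.subset_span ⟨1, rfl⟩) (by simpa using Submodule.neg_mem _ e))) (swap m u hm hu h2)

/-- Without a seed the `X`-component of a transferred parameter vanishes. -/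
theorem pair_proj (hns : ¬ PairSeed Q X M) {x b : ι → F} (hQx : Q x = 0) (hxb : B x b = 0)
    (hr : sg Q x b ∈ M) {t : ι → F} (ht : t ∈ Y) {x₁ x₂ b₁ b₂ : ι → F} (hx₁ : x₁ ∈ X) (hx₂ : x₂ ∈ Y)
    (hxe : x = x₁ + x₂) (hb₁ : b₁ ∈ X) (hb₂ : b₂ ∈ Y) (hbe : b = b₁ + b₂) :
    B x t • b₁ - (B b t + Q b * B x t) • x₁ = 0 := by
  set D := X ⊓ perp Q (Submodule.span F (Set.range ![x, b, t])) with hD
  have hDdim : 2 ≤ finrank F D := by
    have h1 := Submodule.finrank_sup_add_finrank_inf_eq X (perp Q (Submodule.span F (Set.range ![x, b, t])))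
    have h2 : finrank F ↥(X ⊔ perp Q (Submodule.span F (Set.range ![x, b, t]))) ≤ Fintype.card ι :=
      (Submodule.finrank_le _).trans_eq (Module.finrank_pi F)
    have h3 := finrank_span_list_le ![x, b, t]
    rw [h.dimX, finrank_perp hQ, ← hD] at h1
    have h4 := h.card
    omega
  set z := B x t • b - (B b t + Q b * B x t) • x with hz
  set z₁ := B x t • b₁ - (B b t + Q b * B x t) • x₁ with hz₁
  set z₂ := B x t • b₂ - (B b t + Q b * B x t) • x₂ with hz₂
  have hzz : z = z₁ + z₂ := by rw [hz, hz₁, hz₂, hxe, hbe]; module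
  have hz₁X : z₁ ∈ X := X.sub_mem (X.smul_mem _ hb₁) (X.smul_mem _ hx₁)
  have hz₂Y : z₂ ∈ Y := Y.sub_mem (Y.smul_mem _ hb₂) (Y.smul_mem _ hx₂)
  have key : ∀ u ∈ D, u ≠ 0 → z₁ ∈ F ∙ u := by
    rintro u ⟨hu, hu'⟩ hu0
    rw [SetLike.mem_coe, mem_perp_span] at hu'
    have hxu : B x u = 0 := hu' x ⟨0, rfl⟩
    have hbu : B b u = 0 := hu' b ⟨1, rfl⟩
    have hut : B u t = 0 := (B_comm Q u t).trans (hu' t ⟨2, rfl⟩)
    have hQu := h.singX u hu
    have hm : sg Q u z ∈ M := sg_sub_mem hQ hQx hxb hr hQu hut (hM u hu t ht hut) hxu hbu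
    have hu1 : B u z₁ = 0 := B_eq_zero_of_singular h.singX hu hz₁X
    have huz : B u z = 0 := by
      rw [hz, B_sub_right Q, B_smul_right Q, B_smul_right Q, B_comm Q u b, hbu, B_comm Q u x, hxu]; ring
    have hu2 : B u z₂ = 0 := by rwa [hzz, B_add_right Q, hu1, zero_add] at huz
    rw [hzz, ← sg_add Q hQu hu1 hu2] at hm
    by_contra hne
    exact hns ⟨u, hu, hu0, z₁, hz₁X, hne, (mul_mem_cancel_right (hM u hu z₂ hz₂Y hu2)).1 hm⟩
  obtain ⟨u, hu, hu0⟩ := Submodule.exists_mem_ne_zero_of_ne_bot (p := D) (fun e => by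
    rw [e, finrank_bot] at hDdim; omega)
  obtain ⟨u', hu', hu'n⟩ := pair_exists_notMem hQ h (D := D) ![u] (by omega)
  obtain ⟨c, hc⟩ := Submodule.mem_span_singleton.1 (key u hu hu0)
  obtain ⟨c', hc'⟩ := Submodule.mem_span_singleton.1 (key u' hu' fun e => hu'n (by rw [e]; exact Submodule.zero_mem _))
  rcases eq_or_ne c' 0 with rfl | hc'0
  · rw [← hc', zero_smul]
  · refine absurd ?_ hu'n
    rw [show u' = (c'⁻¹ * c) • u by rw [← smul_smul, hc, ← hc', inv_smul_smul₀ hc'0]]
    exact Submodule.smul_mem _ _ (Submodule.subset_span ⟨0, rfl⟩)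

/-- Without seeds every element of `M` maps a member into one of the two members. -/
theorem pair_map (hns : ¬ PairSeed Q X M) (hns' : ¬ PairSeed Q Y M) {g : GL ι F} (hg : g ∈ M)
    (hgI : g ∈ isometryGroup F Q) : X.map (act g) ≤ X ∨ X.map (act g) ≤ Y := by
  have hM' : ∀ u ∈ Y, ∀ w ∈ X, B u w = 0 → sg Q u w ∈ M := by
    intro u hu w hw huw
    rw [sg_antisymm (h.singY u hu) (h.singX w hw) huw]
    exact hM w hw _ (Y.neg_mem hu) (by rw [B_neg_right Q, B_comm Q w u, huw, neg_zero])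
  have pts : ∀ u ∈ X, act g u ∈ X ∨ act g u ∈ Y := by
    intro u hu
    obtain ⟨x₁, hx₁, x₂, hx₂, hxe⟩ := h.split (act g u)
    rcases eq_or_ne x₁ 0 with rfl | hx10
    · exact Or.inr (by rw [hxe, zero_add]; exact hx₂)
    rcases eq_or_ne x₂ 0 with rfl | hx20
    · exact Or.inl (by rw [hxe, add_zero]; exact hx₁)
    exfalso
    set W := Y ⊓ perp Q (F ∙ u) with hW
    have hle : W.map (act g) ≤ Submodule.span F (Set.range ![x₁, x₂]) := by
      rintro _ ⟨w, ⟨hwY, hwP⟩, rfl⟩
      have huw : B u w = 0 := hwP u (Submodule.mem_span_singleton_self u)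
      obtain ⟨b₁, hb₁, b₂, hb₂, hbe⟩ := h.split (act g w)
      have hQx : Q (act g u) = 0 := by rw [Q_act hgI, h.singX u hu]
      have hxb : B (act g u) (act g w) = 0 := by rw [B_act hgI, huw]
      have hr : sg Q (act g u) (act g w) ∈ M := by
        rw [← conj_sg Q hgI]; exact mul_mem (mul_mem hg (hM u hu w hwY huw)) (inv_mem hg)
      have c1 : ∀ {X Y : Submodule F (ι → F)}, IsSingPair Q k X Y →
          (∀ u ∈ X, ∀ w ∈ Y, B u w = 0 → sg Q u w ∈ M) → ¬ PairSeed Q X M →
          ∀ {x₁ x₂ b₁ b₂ : ι → F}, x₁ ∈ X → x₂ ∈ Y → act g u = x₁ + x₂ → b₁ ∈ X → b₂ ∈ Y →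
          act g w = b₁ + b₂ → x₁ ≠ 0 → b₁ ∈ F ∙ x₁ := by
        intro X Y h hM hns x₁ x₂ b₁ b₂ hx₁ hx₂ hxe hb₁ hb₂ hbe hx10
        by_contra hne
        obtain ⟨t, ht, ht0, ht1⟩ := pair_dual hQ h
          (P := F ∙ x₁) ((Submodule.span_singleton_le_iff_mem _ _).2 hx₁) hb₁ hne
        have hxt : B (act g u) t = 0 := by
          rw [hxe, B_add_left Q, ht0 x₁ (Submodule.mem_span_singleton_self x₁),
            B_eq_zero_of_singular h.singY hx₂ ht, add_zero]
        have hbt : B (act g w) t = 1 := by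
          rw [hbe, B_add_left Q, ht1, B_eq_zero_of_singular h.singY hb₂ ht, add_zero]
        have := pair_proj hQ h hk hM hns hQx hxb hr ht hx₁ hx₂ hxe hb₁ hb₂ hbe
        rw [hxt, hbt] at this
        simp at this
        exact hx10 this
      obtain ⟨c, hc⟩ := Submodule.mem_span_singleton.1 (c1 h hM hns hx₁ hx₂ hxe hb₁ hb₂ hbe hx10)
      obtain ⟨c', hc'⟩ := Submodule.mem_span_singleton.1 (c1 h.symm hM' hns' hx₂ hx₁ (by rw [hxe, add_comm]) hb₂
        hb₁ (by rw [hbe, add_comm]) hx20)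
      rw [hbe, ← hc, ← hc']
      exact mem_span_pair_iff_range.2 ⟨c, c', rfl⟩
    have h1 := Submodule.finrank_mono hle
    have h1' : finrank F (W.map (act g)) = finrank F W :=
      LinearEquiv.finrank_eq (Submodule.equivMapOfInjective _ (act_injective g) _).symm
    rw [h1'] at h1
    have h2 := finrank_span_list_le ![x₁, x₂]
    have hu0 : u ≠ 0 := fun e => hx10 (h.disj x₁ hx₁ (by
      rw [e, map_zero] at hxe
      rw [show x₁ = -x₂ from eq_neg_of_add_eq_zero_left hxe.symm]; exact Y.neg_mem hx₂))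
    have h3 := Submodule.finrank_sup_add_finrank_inf_eq Y (perp Q (F ∙ u))
    have h4 : finrank F ↥(Y ⊔ perp Q (F ∙ u)) ≤ Fintype.card ι :=
      (Submodule.finrank_le _).trans_eq (Module.finrank_pi F)
    rw [h.dimY, finrank_perp hQ, finrank_span_singleton hu0, ← hW] at h3
    have h5 := h.card
    omega
  by_contra hno
  push Not at hno
  obtain ⟨a, ⟨u, hu, rfl⟩, hua⟩ := SetLike.not_le_iff_exists.1 hno.1
  obtain ⟨b, ⟨v, hv, rfl⟩, hvb⟩ := SetLike.not_le_iff_exists.1 hno.2
  have hu' := (pts u hu).resolve_left hua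
  have hv' := (pts v hv).resolve_right hvb
  rcases pts (u + v) (X.add_mem hu hv) with hs | hs <;> rw [map_add] at hs
  · exact hua (by simpa using X.sub_mem hs hv')
  · exact hvb (by simpa using Y.sub_mem hs hu')

omit [Finite F] hQ h hk hM in
theorem mem_sgGroup_of_even (hQ : (QuadraticMap.polarBilin Q).Nondegenerate) [Finite F]
    (hn : 5 ≤ Fintype.card ι) {c : F} : ∀ (m : ℕ) (l : List (ι → F)), l.length = 2 * m → (∀ a ∈ l, Q a = c) →
      (l.map (refl Q)).prod ∈ sgGroup Q := by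
  intro m
  induction m with
  | zero => intro l hl _; rw [List.length_eq_zero_iff.1 hl]; simp
  | succ m ih =>
    intro l hl hc
    match l, hl with
    | a :: b :: l, hl =>
      simp only [List.map_cons, List.prod_cons, ← mul_assoc]
      refine mul_mem (refl_mul_refl_mem hQ hn ?_) (ih l (by simp at hl; omega) fun x hx => hc x (by simp [hx]))
      rw [hc a (by simp), hc b (by simp)]

omit hM in
/-- An element of the derived group interchanging the two members, for even `k`. -/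
theorem exists_pair_swap (hke : Even k) :
    ∃ s ∈ Cfsg.Geo.omegaGL Q, X.map (act s) ≤ Y ∧ Y.map (act s) ≤ X := by
  classical
  let b := Module.finBasisOfFinrankEq F X h.dimX
  have hdual : ∀ i, ∃ y ∈ Y, ∀ j, B (b j : ι → F) y = if i = j then 1 else 0 := by
    intro i
    obtain ⟨y, hy, hy0, hy1⟩ := pair_dual hQ h
      (P := Submodule.span F ((fun j => ((b j : X) : ι → F)) '' {j | j ≠ i}))
      (Submodule.span_le.2 (by rintro _ ⟨j, -, rfl⟩; exact (b j).2)) (b i).2
      ((b.linearIndependent.map' X.subtype X.ker_subtype).notMem_span_image (by simp))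
    refine ⟨y, hy, fun j => ?_⟩
    by_cases hij : i = j
    · subst hij; rw [if_pos rfl]; exact hy1
    · rw [if_neg hij]; exact hy0 _ (Submodule.subset_span ⟨j, Ne.symm hij, rfl⟩)
  choose y hy hyb using hdual
  set x : Fin k → ι → F := fun i => ((b i : X) : ι → F) with hx
  have hxX : ∀ i, x i ∈ X := fun i => (b i).2
  set z : Fin k → ι → F := fun i => x i - y i with hz
  have hBxy : ∀ i j, B (x j) (y i) = if i = j then 1 else 0 := hyb
  have hQz : ∀ i, Q (z i) = -1 := fun i => by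
    rw [hz, Q_sub Q, h.singX _ (hxX i), h.singY _ (hy i), hBxy, if_pos rfl]; ring
  have hzx : ∀ i j, B (z i) (x j) = -(if i = j then (1 : F) else 0) := fun i j => by
    rw [hz, B_sub_left Q, B_eq_zero_of_singular h.singX (hxX i) (hxX j), B_comm Q (y i), hBxy, zero_sub]
  have hzy : ∀ i j, B (z i) (y j) = if i = j then (1 : F) else 0 := fun i j => by
    rw [hz, B_sub_left Q, B_eq_zero_of_singular h.singY (hy i) (hy j), hBxy, sub_zero]
    by_cases hij : i = j
    · subst hij; rfl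
    · rw [if_neg hij, if_neg (Ne.symm hij)]
  have hQz0 : ∀ i, Q (z i) ≠ 0 := fun i => by rw [hQz]; exact neg_ne_zero.2 one_ne_zero
  have key : ∀ l : List (Fin k), l.Nodup → ∀ j,
      act ((l.map z).map (refl Q)).prod (x j) = (if j ∈ l then y j else x j) ∧
      act ((l.map z).map (refl Q)).prod (y j) = (if j ∈ l then x j else y j) := by
    intro l hl j
    induction l with
    | nil => simp [act_one]
    | cons i l ih =>
      obtain ⟨hil, hl'⟩ := List.nodup_cons.1 hl
      obtain ⟨i1, i2⟩ := ih hl'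
      simp only [List.map_cons, List.prod_cons, act_mul, i1, i2]
      by_cases hij : i = j
      · subst hij
        simp only [if_neg hil, List.mem_cons, true_or, if_true, act_refl Q (hQz0 i), hzx, hzy, hQz]
        simp only [hz]
        constructor <;> match_scalars <;> simp
      · by_cases hjl : j ∈ l
        · simp [hjl, act_refl_fix Q (hQz0 i), hzx, hzy, hij]
        · simp [hjl, act_refl_fix Q (hQz0 i), hzx, hzy, hij, Ne.symm hij]
  obtain ⟨m, hm⟩ := hke
  have hn5 : 5 ≤ Fintype.card ι := by have := h.card; omega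
  refine ⟨(((List.finRange k).map z).map (refl Q)).prod, ?_, ?_⟩
  · rw [omega_eq_sgGroup hQ hn5]
    refine mem_sgGroup_of_even hQ hn5 m _ (by simp; omega) (c := -1) ?_
    intro a ha
    obtain ⟨i, -, rfl⟩ := List.mem_map.1 ha
    exact hQz i
  have k1 := fun j => (key _ (List.nodup_finRange k) j).1
  have k2 := fun j => (key _ (List.nodup_finRange k) j).2
  simp only [List.mem_finRange, if_true] at k1 k2
  have hXY : X.map (act (((List.finRange k).map z).map (refl Q)).prod) ≤ Y := by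
    rintro _ ⟨v, hv, rfl⟩
    have e := congrArg Subtype.val (b.sum_repr ⟨v, hv⟩)
    simp only [Submodule.coe_sum, Submodule.coe_smul] at e
    rw [← e, map_sum]
    refine Submodule.sum_mem _ fun j _ => ?_
    rw [map_smul, show ((b j : X) : ι → F) = x j from rfl, k1]
    exact Y.smul_mem _ (hy j)
  refine ⟨hXY, ?_⟩
  have hYspan : Y ≤ Submodule.span F (Set.range y) := by
    refine le_of_eq (Submodule.eq_of_le_of_finrank_le (Submodule.span_le.2 (Set.range_subset_iff.2 hy)) ?_).symm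
    have hli : LinearIndependent F y := by
      rw [Fintype.linearIndependent_iff]
      intro c hc i
      have h1 : QuadraticMap.polarBilin Q (x i) (∑ j, c j • y j) = 0 := by rw [hc, map_zero]
      simpa [map_sum, hBxy] using h1
    rw [finrank_span_eq_card hli, Fintype.card_fin, h.dimY]
  rw [Submodule.map_le_iff_le_comap]
  refine hYspan.trans (Submodule.span_le.2 ?_)
  rintro _ ⟨j, rfl⟩
  show act _ (y j) ∈ X
  rw [k2]; exact hxX j

omit hM in
/-- The stabiliser of the pair is maximal. -/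
theorem singular_pair_maximal (hke : Even k) (D : Fin 2 → Submodule F (ι → F)) (h0 : D 0 = X) (h1 : D 1 = Y) :
    Cfsg.Geo.IsMaximalIn (Cfsg.Geo.omegaGL Q)
      (Cfsg.Geo.decompositionStabilizer D ⊓ Cfsg.Geo.omegaGL Q) := by
  have hn5 : 5 ≤ Fintype.card ι := by have := h.card; omega
  have hdim : ∀ i, finrank F (D i) = k := by
    intro i; fin_cases i
    · exact h0 ▸ h.dimX
    · exact h1 ▸ h.dimY
  have hdne : X ≠ Y := fun e => by
    obtain ⟨v, hv, hvn⟩ := pair_exists_notMem hQ h (D := X) (![] : Fin 0 → ι → F) (by rw [h.dimX]; omega)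
    exact hvn (by simp [h.disj v hv (e ▸ hv)])
  have hmapeq : ∀ (g : GL ι F) (i j : Fin 2), (D i).map (act g) ≤ D j → (D i).map (act g) = D j :=
    fun g i j hle => Submodule.eq_of_le_of_finrank_eq hle (by
      rw [LinearEquiv.finrank_eq (Submodule.equivMapOfInjective _ (act_injective g) _).symm, hdim, hdim])
  have hstab : ∀ g : GL ι F, X.map (act g) ≤ X → Y.map (act g) ≤ Y →
      g ∈ Cfsg.Geo.decompositionStabilizer D := fun g a b => ⟨1, fun i => by
    fin_cases i
    · exact hmapeq g 0 0 (by rwa [h0])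
    · exact hmapeq g 1 1 (by rwa [h1])⟩
  have hstab' : ∀ g : GL ι F, X.map (act g) ≤ Y → Y.map (act g) ≤ X →
      g ∈ Cfsg.Geo.decompositionStabilizer D := fun g a b => ⟨Equiv.swap 0 1, fun i => by
    fin_cases i
    · exact hmapeq g 0 1 (by rwa [h0, h1])
    · exact hmapeq g 1 0 (by rwa [h0, h1])⟩
  obtain ⟨u, hu, hun⟩ := pair_exists_notMem hQ h (D := X) (![] : Fin 0 → ι → F) (by rw [h.dimX]; omega)
  have hu0 : u ≠ 0 := fun e => hun (by simp [e])
  refine isMaximalIn_inf ?_ fun M hM hMΩ hout => ?_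
  · obtain ⟨x, hx, hxn⟩ := pair_exists_notMem hQ h (D := X) ![u] (by rw [h.dimX]; omega)
    obtain ⟨t, ht, ht0, ht1⟩ := pair_dual hQ h (P := Submodule.span F (Set.range ![u]))
      (Submodule.span_le.2 (by rintro _ ⟨i, rfl⟩; fin_cases i; exact hu)) hx hxn
    have hux : B u x = 0 := B_eq_zero_of_singular h.singX hu hx
    refine ⟨sg Q u x, sg_mem_omega hQ hn5 u x, ?_⟩
    rintro ⟨σ, hσ⟩
    have hmem : act (sg Q u x) t ∈ D (σ 1) := (hσ 1).le ⟨t, h1.symm ▸ ht, rfl⟩
    have ht' : t - u ∈ D (σ 1) := by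
      rwa [act_sg_long (h.singX u hu) (h.singX x hx) hux, ht0 u (Submodule.subset_span ⟨0, rfl⟩), ht1,
        zero_smul, add_zero, one_smul] at hmem
    rcases (Fin.exists_fin_two.1 ⟨σ 1, rfl⟩ : σ 1 = 0 ∨ σ 1 = 1) with e | e <;> rw [e] at ht'
    · rw [h0] at ht'
      have htX : t ∈ X := sub_add_cancel t u ▸ X.add_mem ht' hu
      rw [h.disj t htX ht, B_zero_right Q] at ht1
      exact zero_ne_one ht1
    · rw [h1] at ht'
      exact hu0 (h.disj u hu (sub_sub_cancel t u ▸ Y.sub_mem ht ht'))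
  obtain ⟨g, hgM, hgS⟩ := hout
  have hgI := omega_le_iso (hMΩ hgM)
  have hMX : ∀ u ∈ X, ∀ w ∈ Y, B u w = 0 → sg Q u w ∈ M := by
    intro u hu w hw huw
    refine hM ⟨hstab _ ?_ ?_, sg_mem_omega hQ hn5 u w⟩
    · rintro _ ⟨z, hz, rfl⟩
      rw [act_sg_long (h.singX u hu) (h.singY w hw) huw, B_eq_zero_of_singular h.singX hu hz, zero_smul, add_zero]
      exact X.sub_mem hz (X.smul_mem _ hu)
    · rintro _ ⟨z, hz, rfl⟩
      rw [act_sg_long (h.singX u hu) (h.singY w hw) huw, B_eq_zero_of_singular h.singY hw hz, zero_smul, sub_zero]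
      exact Y.add_mem hz (Y.smul_mem _ hw)
  have hMY : ∀ u ∈ Y, ∀ w ∈ X, B u w = 0 → sg Q u w ∈ M := by
    intro u hu w hw huw
    rw [sg_antisymm (h.singY u hu) (h.singX w hw) huw]
    exact hMX w hw _ (Y.neg_mem hu) (by rw [B_neg_right Q, B_comm Q w u, huw, neg_zero])
  obtain ⟨s, hsΩ, hsX, hsY⟩ := exists_pair_swap hQ h hk hke
  have hsM : s ∈ M := hM ⟨hstab' s hsX hsY, hsΩ⟩
  have fin : ∀ {X Y : Submodule F (ι → F)}, IsSingPair Q k X Y →
      (∀ u ∈ X, ∀ w ∈ Y, B u w = 0 → sg Q u w ∈ M) → X.map (act s) ≤ Y → PairSeed Q X M →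
      Cfsg.Geo.omegaGL Q ≤ M := by
    intro X Y h hMX hsX hseed
    have hfull := pair_full hQ h hk hMX hseed
    obtain ⟨u, hu, hu0, -⟩ := hseed
    have hv : act s u ∈ Y := hsX ⟨u, hu, rfl⟩
    obtain ⟨x, hx, -, hx1⟩ := pair_dual hQ h.symm (P := ⊥) bot_le hv (by
      simpa using fun e => hu0 (act_injective s (e.trans (map_zero _).symm)))
    exact omega_le_of_full hQ hn5 (h.singX x hx) (h.singY _ hv)
      (by rw [B_comm Q, hx1]; exact one_ne_zero) (hfull x hx) ((hfull u hu).act hsM (omega_le_iso hsΩ))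
  by_cases s1 : PairSeed Q X M
  · exact fin h hMX hsX s1
  by_cases s2 : PairSeed Q Y M
  · exact fin h.symm hMY hsY s2
  exfalso
  have big : ∀ (Z : Submodule F (ι → F)), X.map (act g) ≤ Z → Y.map (act g) ≤ Z → finrank F Z = k → False := by
    intro Z a b hZ
    have hall : (⊤ : Submodule F (ι → F)) ≤ Z := by
      intro z _
      obtain ⟨p, hp, q, hq, e⟩ := h.split (act g⁻¹ z)
      rw [← act_act_inv g z, e, map_add]
      exact Z.add_mem (a ⟨p, hp, rfl⟩) (b ⟨q, hq, rfl⟩)
    have := Submodule.finrank_mono hall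
    rw [finrank_top, Module.finrank_pi, hZ, h.card] at this
    omega
  rcases pair_map hQ h hk hMX s1 s2 hgM hgI with a | a <;>
    rcases pair_map hQ h.symm hk hMY s2 s1 hgM hgI with b | b
  · exact hgS (hstab g a b)
  · exact big X a b h.dimX
  · exact big Y a b h.dimY
  · exact hgS (hstab' g a b)

end Cfsg.Agent.MaxCl.Orth
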