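/-
Tensor powers of symplectic spaces of dimension 2 or 4 in even characteristic: a spin group lies strictly between the
stabiliser of such a decomposition and `omegaGL`. Its normaliser is cut out by a space of matrices on which squaring
takes scalar values, spanned by one small such space in every factor.
-/
import Cfsg.Agent.Lib.MaxCl.OrthBetween
import Cfsg.Agent.Lib.Aschbacher.NonContainment
import Cfsg.Agent.Lib.Aschbacher.FormCases

set_option autoImplicit false

namespace Cfsg.Agent.MaxCl.Spin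

open Matrix
open scoped MatrixGroups
open Cfsg.Agent.Aschbacher

/-! ### Rings of characteristic two -/

section Ring

variable {R : Type*} [Ring R]

theorem conj_one_add (h2 : ∀ x : R, x + x = 0) {α P X : R} (hP : P * P = 0) (hα : Commute P α)
    (hX : Commute P X) : (1 + α * P) * X * (1 + α * P) = X + (α * X + X * α) * P := by
  have e1 : α * P * X * (α * P) = 0 := by
    rw [show α * P * X * (α * P) = α * (P * X * α * P) by noncomm_ring,
      show P * X * α * P = X * α * (P * P) by
        rw [hX.eq, mul_assoc X P α, hα.eq]; noncomm_ring]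
    rw [hP, mul_zero, mul_zero]
  have e2 : α * P * X = α * X * P := by rw [mul_assoc, hX.eq, mul_assoc]
  rw [show (1 + α * P) * X * (1 + α * P) = X + α * P * X + X * α * P + α * P * X * (α * P) by noncomm_ring,
    e1, add_zero, e2, add_mul]
  abel

theorem sq_one_add (h2 : ∀ x : R, x + x = 0) {N : R} (h : N * N = 0) : (1 + N) * (1 + N) = 1 := by
  rw [show (1 + N) * (1 + N) = 1 + (N + N) + N * N by noncomm_ring, h2, h, add_zero, add_zero]

/-- The product of two involutions `1 + a X`, `1 + b Y`, squared. -/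
theorem sq_mul_one_add (h2 : ∀ x : R, x + x = 0) {a b X Y : R} (hX : X * X = 0) (hY : Y * Y = 0)
    (hab : a * b + b * a = 1) (hXY : Commute X Y) (haX : Commute a X) (haY : Commute a Y) (hbX : Commute b X)
    (hbY : Commute b Y) :
    (1 + a * X) * (1 + b * Y) * (1 + a * X) * (1 + b * Y) = 1 + X * Y := by
  have hXbX : X * (b * X) = 0 := by rw [← mul_assoc, ← hbX.eq, mul_assoc, hX, mul_zero]
  have hYaY : Y * (a * Y) = 0 := by rw [← mul_assoc, ← haY.eq, mul_assoc, hY, mul_zero]
  have e1 : a * X * (b * Y) = a * b * (X * Y) := by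
    rw [show a * X * (b * Y) = a * (X * b) * Y by noncomm_ring, ← hbX.eq]; noncomm_ring
  have e2 : b * Y * (a * X) = b * a * (X * Y) := by
    rw [show b * Y * (a * X) = b * (Y * a) * X by noncomm_ring, ← haY.eq,
      show b * (a * Y) * X = b * a * (Y * X) by noncomm_ring, ← hXY.eq]
  have e3 : a * X * (a * X) = 0 := by
    rw [show a * X * (a * X) = a * (X * a) * X by noncomm_ring, ← haX.eq,
      show a * (a * X) * X = a * a * (X * X) by noncomm_ring, hX, mul_zero]
  have e4 : b * Y * (b * Y) = 0 := by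
    rw [show b * Y * (b * Y) = b * (Y * b) * Y by noncomm_ring, ← hbY.eq,
      show b * (b * Y) * Y = b * b * (Y * Y) by noncomm_ring, hY, mul_zero]
  set M := a * X + b * Y + a * X * (b * Y) with hM
  have hM2 : M * M = X * Y := by
    rw [show M * M = a * X * (a * X) + b * Y * (b * Y) + (a * X * (b * Y) + b * Y * (a * X))
      + a * X * (a * X) * (b * Y) + a * X * (b * Y) * (b * Y) + a * X * (b * Y) * (a * X)
      + b * Y * (a * X) * (b * Y) + a * X * (b * Y) * (a * X) * (b * Y) by rw [hM]; noncomm_ring]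
    have f1 : a * X * (b * Y) * (b * Y) = 0 := by rw [mul_assoc, e4, mul_zero]
    have f2 : a * X * (b * Y) * (a * X) = 0 := by
      rw [show a * X * (b * Y) * (a * X) = a * X * (b * Y * (a * X)) by noncomm_ring, e2,
        show a * X * (b * a * (X * Y)) = a * (X * (b * a)) * (X * Y) by noncomm_ring,
        ← (hbX.mul_left haX).eq, show a * (b * a * X) * (X * Y) = a * (b * a) * (X * X) * Y by noncomm_ring,
        hX, mul_zero, zero_mul]
    have f3 : b * Y * (a * X) * (b * Y) = 0 := by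
      rw [show b * Y * (a * X) * (b * Y) = b * Y * (a * X * (b * Y)) by noncomm_ring, e1,
        show b * Y * (a * b * (X * Y)) = b * (Y * (a * b)) * (X * Y) by noncomm_ring,
        ← (haY.mul_left hbY).eq, hXY.eq,
        show b * (a * b * Y) * (Y * X) = b * (a * b) * (Y * Y) * X by noncomm_ring, hY, mul_zero, zero_mul]
    have f4 : a * X * (b * Y) * (a * X) * (b * Y) = 0 := by rw [f2, zero_mul]
    rw [f4, f3, f2, f1, e3, e4, e1, e2, ← add_mul, hab, one_mul, zero_mul]
    abel
  rw [show (1 + a * X) * (1 + b * Y) * (1 + a * X) * (1 + b * Y) = (1 + M) * (1 + M) by rw [hM]; noncomm_ring,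
    show (1 + M) * (1 + M) = 1 + (M + M) + M * M by noncomm_ring, h2, hM2, add_zero]

end Ring

variable {F : Type*} [Field F] {k t : ℕ}

/-- The quadratic map of `M` vanishes. -/
def Alt {κ : Type*} [Fintype κ] (M : Matrix κ κ F) : Prop := ∀ v, v ⬝ᵥ (M *ᵥ v) = 0

theorem Alt.diag {κ : Type*} [Fintype κ] [DecidableEq κ] {M : Matrix κ κ F} (h : Alt M) (z : κ) : M z z = 0 := by
  simpa using h (Pi.single z 1)

theorem Alt.congr {κ : Type*} [Fintype κ] [DecidableEq κ] {M : Matrix κ κ F} (h : Alt M) (X : Matrix κ κ F) :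
    Alt (Xᵀ * M * X) := fun v => by
  rw [← Matrix.mulVec_mulVec, ← Matrix.mulVec_mulVec, Matrix.dotProduct_mulVec, Matrix.vecMul_transpose]
  exact h _

theorem Alt.smul {κ : Type*} [Fintype κ] {M : Matrix κ κ F} (h : Alt M) (r : F) : Alt (r • M) := fun v => by
  rw [Matrix.smul_mulVec, dotProduct_smul, h v, smul_zero]

/-! ### Normal form of the wreath subgroup -/

theorem permGL_one : (permGL (1 : Equiv.Perm (Fin t)) : GL (Fin t → Fin k) F) = 1 :=
  Units.ext (Matrix.ext fun x y => by simp [permGL, Matrix.one_apply, eq_comm])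

theorem permGL_conj_pure (σ : Equiv.Perm (Fin t)) (s : Fin t → GL (Fin k) F) :
    permGL σ * pureGL s * (permGL σ)⁻¹ = pureGL fun i => s (σ.symm i) := by
  refine Units.ext (Matrix.ext fun x w => ?_)
  have h1 : ∀ z : Fin t → Fin k, w = z ∘ σ.symm ↔ z = w ∘ σ := fun z => by
    constructor <;> rintro rfl <;> funext j <;> simp
  simp only [permGL, Units.inv_mk, Units.val_mul, Matrix.mul_apply, Matrix.of_apply, ite_mul, one_mul,
    zero_mul, Finset.sum_ite_eq', Finset.mem_univ, if_true, mul_ite, mul_one, mul_zero, h1]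
  show ∏ i, ((s i : GL (Fin k) F) : Matrix (Fin k) (Fin k) F) ((x ∘ σ) i) ((w ∘ σ) i) =
    ∏ i, ((s (σ.symm i) : GL (Fin k) F) : Matrix (Fin k) (Fin k) F) (x i) (w i)
  exact Fintype.prod_equiv σ _ _ fun i => by simp

theorem exists_normal_form {g : GL (Fin t → Fin k) F} (hg : g ∈ Geo.tensorWreathStandard k t F) :
    ∃ (π : Equiv.Perm (Fin t)) (s : Fin t → GL (Fin k) F), g = permGL π * pureGL s := by
  induction hg using Subgroup.closure_induction with
  | mem x hx =>
    rcases hx with ⟨gs, hgs⟩ | ⟨σ, hσ⟩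
    · exact ⟨1, gs, by rw [permGL_one, one_mul]; exact Units.ext (Matrix.ext hgs)⟩
    · exact ⟨σ, 1, by rw [map_one, mul_one]; exact Units.ext (Matrix.ext hσ)⟩
  | one => exact ⟨1, 1, by rw [permGL_one, map_one, mul_one]⟩
  | mul x y _ _ hx hy =>
    obtain ⟨π, s, rfl⟩ := hx
    obtain ⟨π', s', rfl⟩ := hy
    refine ⟨π * π', (fun i => s (π' i)) * s', ?_⟩
    have h := permGL_conj_pure (k := k) (F := F) π' fun i => s (π' i)
    simp only [Equiv.apply_symm_apply] at h
    rw [map_mul, permGL_mul, show (pureGL s : GL (Fin t → Fin k) F) = _ from h.symm]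
    group
  | inv x _ hx =>
    obtain ⟨π, s, rfl⟩ := hx
    refine ⟨π⁻¹, fun i => (s (π⁻¹ i))⁻¹, ?_⟩
    have hinv : (permGL π : GL (Fin t → Fin k) F)⁻¹ = permGL π⁻¹ := Units.ext rfl
    have h := permGL_conj_pure (k := k) (F := F) π s⁻¹
    rw [map_inv] at h
    have h' : (pureGL (fun i => (s (π⁻¹ i))⁻¹) : GL (Fin t → Fin k) F) = permGL π * (pureGL s)⁻¹ * (permGL π)⁻¹ :=
      h.symm
    rw [h', ← hinv]
    group

theorem pureMat_smul_const (f : Fin t → Matrix (Fin k) (Fin k) F) (i : Fin t) (A : Matrix (Fin k) (Fin k) F) :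
    pureMat (Pi.mulSingle i A) * pureMat f = pureMat (Pi.mulSingle i A * f) := (map_mul _ _ _).symm

/-- An element of the wreath subgroup preserving the tensor power of a form acts by similitudes in each factor. -/
theorem similitude_of_preserves {G : Matrix (Fin k) (Fin k) F} (hG : IsUnit G.det) {π : Equiv.Perm (Fin t)}
    {s : Fin t → GL (Fin k) F}
    (h : ((permGL π * pureGL s : GL (Fin t → Fin k) F) : Matrix _ _ F)ᵀ * pureMat (fun _ : Fin t => G) *
      ((permGL π * pureGL s : GL (Fin t → Fin k) F) : Matrix _ _ F) = pureMat fun _ => G) (hzero : G ≠ 0) (i : Fin t) :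
    ∃ μ : F, ((s i : GL (Fin k) F) : Matrix (Fin k) (Fin k) F)ᵀ * G * (s i : Matrix (Fin k) (Fin k) F) = μ • G := by
  classical
  have hperm : ((permGL π : GL (Fin t → Fin k) F) : Matrix _ _ F)ᵀ * pureMat (fun _ : Fin t => G) *
      ((permGL π : GL (Fin t → Fin k) F) : Matrix _ _ F) = pureMat fun _ => G := by
    ext x y
    have h1 : ∀ z w : Fin t → Fin k, z = w ∘ π ↔ w = z ∘ π.symm := fun z w => by
      constructor <;> rintro rfl <;> funext j <;> simp
    simp only [permGL, Matrix.mul_apply, Matrix.transpose_apply, Matrix.of_apply, h1, ite_mul, one_mul, zero_mul,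
      Finset.sum_ite_eq', Finset.mem_univ, if_true, mul_ite, mul_one, mul_zero]
    show ∏ j, G ((x ∘ π.symm) j) ((y ∘ π.symm) j) = ∏ j, G (x j) (y j)
    exact Fintype.prod_equiv π.symm _ _ fun j => rfl
  rw [Units.val_mul, Matrix.transpose_mul, show ∀ A B C D E : Matrix (Fin t → Fin k) (Fin t → Fin k) F,
    A * B * C * (D * E) = A * (B * C * D) * E from fun A B C D E => by noncomm_ring, hperm] at h
  let M : Fin t → Matrix (Fin k) (Fin k) F := fun j => (s j).valᵀ * G * (s j).val
  have hM : pureMat M = pureMat fun _ => G := by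
    rw [← h]
    show pureMat M = (pureMat fun j => (s j).val)ᵀ * _ * (pureMat fun j => (s j).val)
    rw [pureMat_transpose, ← map_mul, ← map_mul]
    rfl
  obtain ⟨a, b, hab⟩ : ∃ a b, G a b ≠ 0 := by
    by_contra hc
    push Not at hc
    obtain rfl | hk := Nat.eq_zero_or_pos k
    · exact hzero (Subsingleton.elim _ _)
    · exact hG.ne_zero (Matrix.det_eq_zero_of_row_eq_zero ⟨0, hk⟩ fun j => hc _ j)
  have hentry : ∀ x y : Fin t → Fin k, ∏ j, M j (x j) (y j) = ∏ j, G (x j) (y j) := fun x y =>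
    congrFun (congrFun hM x) y
  have hne : ∀ j, M j a b ≠ 0 := fun j e => by
    have h1 := hentry (fun _ => a) fun _ => b
    rw [Finset.prod_eq_zero (Finset.mem_univ j) e] at h1
    exact Finset.prod_ne_zero_iff.2 (fun _ _ => hab) h1.symm
  refine ⟨(∏ j ∈ Finset.univ.erase i, G a b) / ∏ j ∈ Finset.univ.erase i, M j a b, Matrix.ext fun c d => ?_⟩
  have h1 := hentry (Function.update (fun _ => a) i c) (Function.update (fun _ => b) i d)
  rw [← Finset.mul_prod_erase _ _ (Finset.mem_univ i), ← Finset.mul_prod_erase _ _ (Finset.mem_univ i)] at h1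
  simp only [Function.update_self] at h1
  rw [Finset.prod_congr rfl fun j hj => by
      rw [Function.update_of_ne (Finset.ne_of_mem_erase hj), Function.update_of_ne (Finset.ne_of_mem_erase hj)],
    Finset.prod_congr (f := fun j => G (Function.update (fun _ => a) i c j) (Function.update (fun _ => b) i d j)) rfl
      fun j hj => by
      rw [Function.update_of_ne (Finset.ne_of_mem_erase hj), Function.update_of_ne (Finset.ne_of_mem_erase hj)]]
    at h1
  have hP : ∏ j ∈ Finset.univ.erase i, M j a b ≠ 0 := Finset.prod_ne_zero_iff.2 fun j _ => hne j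
  show M i c d = _
  rw [Matrix.smul_apply, smul_eq_mul, eq_comm, div_mul_eq_mul_div, div_eq_iff hP]
  linear_combination -h1

/-! ### The quadratic space of matrices -/

/-- The span of a space of matrices placed in every factor. -/
def slots (S : Submodule F (Matrix (Fin k) (Fin k) F)) (t : ℕ) :
    Submodule F (Matrix (Fin t → Fin k) (Fin t → Fin k) F) :=
  ⨆ i : Fin t, S.map (slotHom i).toLinearMap

theorem slot_mem {S : Submodule F (Matrix (Fin k) (Fin k) F)} (i : Fin t) {A : Matrix (Fin k) (Fin k) F}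
    (hA : A ∈ S) : slotHom i A ∈ slots S t :=
  Submodule.mem_iSup_of_mem i ⟨A, hA, rfl⟩

theorem slots_induction {S : Submodule F (Matrix (Fin k) (Fin k) F)}
    {T : Submodule F (Matrix (Fin t → Fin k) (Fin t → Fin k) F)} (h : ∀ i, ∀ A ∈ S, slotHom i A ∈ T) :
    slots S t ≤ T :=
  iSup_le fun i => Submodule.map_le_iff_le_comap.2 fun A hA => h i A hA

theorem slot_commute {i j : Fin t} (h : i ≠ j) (A B : Matrix (Fin k) (Fin k) F) :
    Commute (slotHom i A) (slotHom j B) := by
  rw [slotHom_apply, slotHom_apply]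
  exact (Pi.mulSingle_commute h A B).map pureMat

/-- The normaliser of a space of matrices. -/
def normW {κ : Type} [Fintype κ] [DecidableEq κ] (W : Submodule F (Matrix κ κ F)) : Subgroup (GL κ F) where
  carrier := {g | ∀ X ∈ W, (g : Matrix κ κ F) * X * ((g⁻¹ : GL κ F) : Matrix κ κ F) ∈ W}
  one_mem' X hX := by simpa using hX
  mul_mem' {a b} ha hb X hX := by
    simpa [mul_assoc] using ha _ (hb X hX)
  inv_mem' {g} hg X hX := by
    let L : Matrix κ κ F →ₗ[F] Matrix κ κ F :=
      LinearMap.mulLeft F (g : Matrix κ κ F) ∘ₗ LinearMap.mulRight F ((g⁻¹ : GL κ F) : Matrix κ κ F)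
    have hL : Function.Injective L := fun A B e => by
      have := congrArg (fun Y => ((g⁻¹ : GL κ F) : Matrix κ κ F) * Y * (g : Matrix κ κ F)) e
      simpa [L, mul_assoc] using this
    have hle : W.map L ≤ W := Submodule.map_le_iff_le_comap.2 fun A hA => by
      simpa [L, mul_assoc] using hg A hA
    have heq := Submodule.eq_of_le_of_finrank_le hle
      (Submodule.equivMapOfInjective L hL W).finrank_eq.le
    rw [← heq] at hX
    obtain ⟨Y, hY, rfl⟩ := hX
    simpa [L, mul_assoc] using hY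

/-- The property of the small space of matrices used below. -/
def Anti (S : Submodule F (Matrix (Fin k) (Fin k) F)) (a : Matrix (Fin k) (Fin k) F) : Prop :=
  ∀ A ∈ S, ∃ r : F, a * A + A * a = r • 1

variable {ι : Type} [Fintype ι] [DecidableEq ι] [Fintype F]
variable {Q : QuadraticForm F (ι → F)} (h2 : (2 : F) = 0) (e : ι ≃ (Fin t → Fin k)) (P : GL ι F)
include h2

theorem add_self_mat {κ : Type} (X : Matrix κ κ F) : X + X = 0 := by
  ext x y
  show X x y + X x y = 0
  linear_combination X x y * h2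

set_option quotPrecheck false in
local notation "B" => QuadraticMap.polar (⇑Q)

variable (hQ : (QuadraticMap.polarBilin Q).Nondegenerate) {G : Matrix (Fin k) (Fin k) F} {c₀ : F}
  (hT : ∀ x y : (Fin t → Fin k) → F, QuadraticMap.polar (⇑Q) ((P : Matrix ι ι F) *ᵥ (x ∘ e)) ((P : Matrix ι ι F) *ᵥ (y ∘ e)) =
    c₀ * (x ⬝ᵥ (pureMat (fun _ : Fin t => G) *ᵥ y)))
  (hpure : ∀ xs : Fin t → Fin k → F, Q ((P : Matrix ι ι F) *ᵥ ((fun a => ∏ i, xs i (a i)) ∘ e)) = 0)
  (hGs : Gᵀ = G)
include hT hpure hGs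

/-- The involution `1 + N` for a pure tensor `N`. -/
theorem one_add_mem_iso {f : Fin t → Matrix (Fin k) (Fin k) F} (hf : ∀ i, (f i)ᵀ * G = G * f i)
    (hN : pureMat f * pureMat f = 0) (hA : ∃ i, Alt (G * f i)) {g : GL (Fin t → Fin k) F}
    (hg : (g : Matrix (Fin t → Fin k) (Fin t → Fin k) F) = 1 + pureMat f) :
    coordGL e P g ∈ isometryGroup F Q := by
  classical
  set GG := pureMat (fun _ : Fin t => G) with hGG
  set N := pureMat f with hNdef
  let T : ((Fin t → Fin k) → F) →ₗ[F] (ι → F) := Matrix.mulVecLin (P : Matrix ι ι F) ∘ₗ LinearMap.funLeft F F e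
  have hT' : ∀ x y, B (T x) (T y) = c₀ * (x ⬝ᵥ (GG *ᵥ y)) := hT
  have hGGt : GGᵀ = GG := by rw [hGG, pureMat_transpose, hGs]
  have hadj : Nᵀ * GG = GG * N := by
    rw [hNdef, hGG, pureMat_transpose, ← map_mul, ← map_mul]
    exact congrArg pureMat (funext hf)
  have hmid : ∀ x y, B (T (N *ᵥ x)) (T y) = B (T x) (T (N *ᵥ y)) := fun x y => by
    rw [hT', hT', Matrix.mulVec_mulVec, ← hadj, ← Matrix.mulVec_mulVec, Matrix.dotProduct_mulVec x Nᵀ,
      Matrix.vecMul_transpose]
  let d : ((Fin t → Fin k) → F) → F := fun x => Q (T (N *ᵥ x)) + B (T x) (T (N *ᵥ x))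
  have hNN : ∀ x y, B (T (N *ᵥ x)) (T (N *ᵥ y)) = 0 := fun x y => by
    rw [hmid, Matrix.mulVec_mulVec, hN, Matrix.zero_mulVec, map_zero, QuadraticMap.polar_zero_right]
  let Z : Submodule F ((Fin t → Fin k) → F) :=
    { carrier := {x | d x = 0}
      zero_mem' := by simp [d, QuadraticMap.polar_zero_right]
      add_mem' := fun {x y} (hx : d x = 0) (hy : d y = 0) => by
        show d (x + y) = 0
        have h1 : B (T x) (T (N *ᵥ y)) = B (T y) (T (N *ᵥ x)) := by
          rw [← hmid, QuadraticMap.polar_comm]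
        simp only [d, Matrix.mulVec_add, map_add, QuadraticMap.map_add Q, QuadraticMap.polar_add_left,
          QuadraticMap.polar_add_right, hNN] at hx hy ⊢
        linear_combination hx + hy + h1 + B (T y) (T (N *ᵥ x)) * h2
      smul_mem' := fun a x (hx : d x = 0) => by
        show d (a • x) = 0
        simp only [d, Matrix.mulVec_smul, map_smul, QuadraticMap.map_smul, QuadraticMap.polar_smul_left,
          QuadraticMap.polar_smul_right, smul_eq_mul] at hx ⊢
        linear_combination a * a * hx }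
  have hbasis : ∀ z, Pi.single z (1 : F) ∈ Z := fun z => by
    show d _ = 0
    have hcol : N *ᵥ Pi.single z 1 = fun w => ∏ i, (fun b => f i b (z i)) (w i) := by
      rw [Matrix.mulVec_single_one]
      funext w
      rfl
    have hQ0 : Q (T (N *ᵥ Pi.single z 1)) = 0 := by
      rw [hcol]
      exact hpure fun i b => f i b (z i)
    obtain ⟨i, hi⟩ := hA
    have hB0 : B (T (Pi.single z 1)) (T (N *ᵥ Pi.single z 1)) = 0 := by
      rw [hT', Matrix.mulVec_mulVec, hGG, hNdef, ← map_mul, Matrix.mulVec_single_one, single_dotProduct, one_mul]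
      show c₀ * ∏ j, (G * f j) (z j) (z j) = 0
      rw [Finset.prod_eq_zero (Finset.mem_univ i) (hi.diag (z i)), mul_zero]
    show _ + _ = _
    rw [hQ0, hB0, add_zero]
  have hall : ∀ x, d x = 0 := fun x => by
    have hx : x ∈ Z := by
      rw [pi_eq_sum_univ' x]
      exact Submodule.sum_mem _ fun z _ => Z.smul_mem _ (hbasis z)
    exact hx
  rw [Orth.mem_iso]
  intro v
  obtain ⟨x, rfl⟩ := exists_coord_vec e P v
  rw [MaxCl.act_apply, coordGL_val, coordEquiv_mulVec, hg, Matrix.add_mulVec, Matrix.one_mulVec]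
  show Q (T (x + N *ᵥ x)) = Q (T x)
  rw [map_add, QuadraticMap.map_add Q]
  have := hall x
  simp only [d] at this
  linear_combination this

include hQ in
/-- The main construction. -/
theorem between (hc₀ : c₀ ≠ 0) (hGdet : IsUnit G.det) (hG0 : G ≠ 0) {S : Submodule F (Matrix (Fin k) (Fin k) F)}
    (hS : ∀ (s : GL (Fin k) F) (μ : F), (s : Matrix (Fin k) (Fin k) F)ᵀ * G * (s : Matrix (Fin k) (Fin k) F) = μ • G →
      ∀ A ∈ S, (s : Matrix (Fin k) (Fin k) F) * A * ((s⁻¹ : GL (Fin k) F) : Matrix (Fin k) (Fin k) F) ∈ S)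
    {a b c d : Matrix (Fin k) (Fin k) F} (ha : a ∈ S) (hb : b ∈ S) (hSa : Anti S a) (hSb : Anti S b)
    (haa : a * a = 0) (hcc : c * c = 0) (hdd : d * d = 0)
    (hab : a * b + b * a = 1) (hcd : c * d + d * c = 1)
    (haG : aᵀ * G = G * a) (hcG : cᵀ * G = G * c) (hdG : dᵀ * G = G * d)
    {i j l m : Fin t} (hij : i ≠ j) (hlj : l ≠ j) (hlm : l ≠ m)
    (hli : l = i → Commute c a ∧ Commute c b ∧ Commute d a ∧ Commute d b)
    (hmi : m = i → Commute c a ∧ Commute c b)
    (hmj : m = j → Commute c a ∧ Commute c b)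
    (hA1 : ∃ r, Alt (G * (Pi.mulSingle i a * Pi.mulSingle l c : Fin t → _) r))
    (hA2 : ∃ r, Alt (G * (Pi.mulSingle l d * Pi.mulSingle j a : Fin t → _) r))
    (hA3 : ∃ r, Alt (G * (Pi.mulSingle i a * Pi.mulSingle j a * Pi.mulSingle l c : Fin t → _) r))
    (hA4 : ∃ r, Alt (G * (Pi.mulSingle l d * Pi.mulSingle m c : Fin t → _) r)) :
    ∃ K : Subgroup (GL ι F),
      Cfsg.Geo.tensorWreathSubgroup k t e P ⊓ Cfsg.Geo.omegaGL Q < K ∧ K < Cfsg.Geo.omegaGL Q := by
  classical
  haveI : NeZero k := ⟨by rintro rfl; exact hG0 (Subsingleton.elim _ _)⟩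
  haveI : Nonempty (Fin t → Fin k) := ⟨fun _ => 0⟩
  have h2' : ∀ X : Matrix (Fin t → Fin k) (Fin t → Fin k) F, X + X = 0 := fun X => add_self_mat h2 X
  set Ai := slotHom (F := F) i a with hAi
  set Bi := slotHom (F := F) i b with hBi
  set Aj := slotHom (F := F) j a with hAj
  set Bj := slotHom (F := F) j b with hBj
  set Cl := slotHom (F := F) l c with hCl
  set Dl := slotHom (F := F) l d with hDl
  set Cm := slotHom (F := F) m c with hCm
  have sq0 : ∀ (r : Fin t) (x : Matrix (Fin k) (Fin k) F), x * x = 0 → slotHom r x * slotHom r x = 0 :=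
    fun r x hx => by rw [← map_mul, hx, map_zero]
  have Aisq := sq0 i a haa
  have Ajsq := sq0 j a haa
  have Clsq := sq0 l c hcc
  have Dlsq := sq0 l d hdd
  have Cmsq := sq0 m c hcc
  have eAB : ∀ r : Fin t, slotHom r a * slotHom r b + slotHom r b * slotHom r a = 1 := fun r => by
    rw [← map_mul, ← map_mul, ← map_add, hab, map_one]
  have eCD : Cl * Dl + Dl * Cl = 1 := by rw [hCl, hDl, ← map_mul, ← map_mul, ← map_add, hcd, map_one]
  have comm : ∀ {r r' : Fin t} {x y : Matrix (Fin k) (Fin k) F}, (r = r' → Commute x y) →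
      Commute (slotHom r x) (slotHom r' y) := by
    intro r r' x y h
    by_cases hr : r = r'
    · subst hr; exact (h rfl).map (slotHom r)
    · exact slot_commute hr x y
  have cAiAj : Commute Ai Aj := slot_commute hij a a
  have cBiAj : Commute Bi Aj := slot_commute hij b a
  have cClAi : Commute Cl Ai := comm fun h => (hli h).1
  have cClBi : Commute Cl Bi := comm fun h => (hli h).2.1
  have cDlAi : Commute Dl Ai := comm fun h => (hli h).2.2.1
  have cClAj : Commute Cl Aj := slot_commute hlj c a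
  have cDlAj : Commute Dl Aj := slot_commute hlj d a
  have cDlCm : Commute Dl Cm := slot_commute hlm d c
  have cClCm : Commute Cl Cm := slot_commute hlm c c
  have cCmAi : Commute Cm Ai := comm fun h => (hmi h).1
  have cCmBi : Commute Cm Bi := comm fun h => (hmi h).2
  have cCmAj : Commute Cm Aj := comm fun h => (hmj h).1
  have cCmBj : Commute Cm Bj := comm fun h => (hmj h).2
  have sqmul : ∀ {X Y : Matrix (Fin t → Fin k) (Fin t → Fin k) F}, X * X = 0 → Commute X Y →
      X * Y * (X * Y) = 0 := fun {X Y} hX hc => by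
    rw [show X * Y * (X * Y) = X * (Y * X) * Y by noncomm_ring, ← hc.eq,
      show X * (X * Y) * Y = X * X * (Y * Y) by noncomm_ring, hX, zero_mul]
  -- involutions `1 + N`
  let inv1 : ∀ N : Matrix (Fin t → Fin k) (Fin t → Fin k) F, N * N = 0 → GL (Fin t → Fin k) F := fun N h =>
    ⟨1 + N, 1 + N, sq_one_add h2' h, sq_one_add h2' h⟩
  have iso : ∀ (f : Fin t → Matrix (Fin k) (Fin k) F) (hN : pureMat f * pureMat f = 0),
      (∀ r, (f r)ᵀ * G = G * f r) → (∃ r, Alt (G * f r)) →
      coordGL e P (inv1 _ hN) ∈ isometryGroup F Q := fun f hN hf hA =>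
    one_add_mem_iso h2 e P hT hpure hGs hf hN hA rfl
  have adj1 : ∀ (r : Fin t) (x : Matrix (Fin k) (Fin k) F), xᵀ * G = G * x →
      ∀ r', ((Pi.mulSingle r x : Fin t → _) r')ᵀ * G = G * (Pi.mulSingle r x : Fin t → _) r' := fun r x hx r' => by
    by_cases h : r' = r
    · subst h; simpa using hx
    · simp [Pi.mulSingle_eq_of_ne h]
  have adj2 : ∀ (f g : Fin t → Matrix (Fin k) (Fin k) F), (∀ r, (f r)ᵀ * G = G * f r) →
      (∀ r, (g r)ᵀ * G = G * g r) → (∀ r, Commute (f r) (g r)) → ∀ r, ((f * g) r)ᵀ * G = G * (f * g) r :=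
    fun f g hf hg hc r => by
      show (f r * g r)ᵀ * G = G * (f r * g r)
      rw [Matrix.transpose_mul, mul_assoc, hf, ← mul_assoc, hg, mul_assoc, (hc r).eq]
  have pcomm : ∀ (r r' : Fin t) (x y : Matrix (Fin k) (Fin k) F), (r = r' → Commute x y) →
      ∀ r'', Commute ((Pi.mulSingle r x : Fin t → _) r'') ((Pi.mulSingle r' y : Fin t → _) r'') := by
    intro r r' x y h r''
    by_cases h1 : r'' = r
    · by_cases h3 : r'' = r'
      · subst h1; subst h3; simpa using h rfl
      · simp [Pi.mulSingle_eq_of_ne h3]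
    · simp [Pi.mulSingle_eq_of_ne h1]
  have n1sq : Cl * Ai * (Cl * Ai) = 0 := sqmul Clsq cClAi
  have n2sq : Dl * Aj * (Dl * Aj) = 0 := sqmul Dlsq cDlAj
  have n3sq : Cl * (Ai * Aj) * (Cl * (Ai * Aj)) = 0 := sqmul Clsq (cClAi.mul_right cClAj)
  have n4sq : Dl * Cm * (Dl * Cm) = 0 := sqmul Dlsq cDlCm
  have e1 : pureMat (Pi.mulSingle i a * Pi.mulSingle l c : Fin t → _) = Cl * Ai := by
    rw [map_mul, cClAi.eq]; rfl
  have e2 : pureMat (Pi.mulSingle l d * Pi.mulSingle j a : Fin t → _) = Dl * Aj := by rw [map_mul]; rfl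
  have e3 : pureMat (Pi.mulSingle i a * Pi.mulSingle j a * Pi.mulSingle l c : Fin t → _) = Cl * (Ai * Aj) := by
    rw [map_mul, map_mul, (cClAi.mul_right cClAj).eq]; rfl
  have e4 : pureMat (Pi.mulSingle l d * Pi.mulSingle m c : Fin t → _) = Dl * Cm := by rw [map_mul]; rfl
  have g1 : coordGL e P (inv1 _ n1sq) ∈ isometryGroup F Q := by
    refine one_add_mem_iso h2 e P hT hpure hGs
      (adj2 _ _ (adj1 i a haG) (adj1 l c hcG) (pcomm _ _ _ _ fun h => ((hli h.symm).1).symm)) ?_ hA1 ?_
    · rw [e1]; exact n1sq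
    · rw [e1]
  have g2 : coordGL e P (inv1 _ n2sq) ∈ isometryGroup F Q := by
    refine one_add_mem_iso h2 e P hT hpure hGs
      (adj2 _ _ (adj1 l d hdG) (adj1 j a haG) (pcomm _ _ _ _ fun h => absurd h hlj)) ?_ hA2 ?_
    · rw [e2]; exact n2sq
    · rw [e2]
  have g3 : coordGL e P (inv1 _ n3sq) ∈ isometryGroup F Q := by
    refine one_add_mem_iso h2 e P hT hpure hGs
      (adj2 _ _ (adj2 _ _ (adj1 i a haG) (adj1 j a haG) (pcomm _ _ _ _ fun h => absurd h hij)) (adj1 l c hcG)
        fun r => Commute.mul_left (pcomm _ _ _ _ (fun h => ((hli h.symm).1).symm) r)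
          (pcomm _ _ _ _ (fun h => absurd h.symm hlj) r)) ?_ hA3 ?_
    · rw [e3]; exact n3sq
    · rw [e3]
  have g4 : coordGL e P (inv1 _ n4sq) ∈ isometryGroup F Q := by
    refine one_add_mem_iso h2 e P hT hpure hGs
      (adj2 _ _ (adj1 l d hdG) (adj1 m c hcG) (pcomm _ _ _ _ fun h => absurd h hlm)) ?_ hA4 ?_
    · rw [e4]; exact n4sq
    · rw [e4]
  -- the elements `1 + a a` and `1 + a a c`
  have uval : ((inv1 _ n1sq * inv1 _ n2sq * inv1 _ n1sq * inv1 _ n2sq : GL (Fin t → Fin k) F) : Matrix _ _ F) =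
      1 + Ai * Aj :=
    sq_mul_one_add h2' Aisq Ajsq eCD cAiAj cClAi cClAj cDlAi cDlAj
  have xval : ((inv1 _ n3sq * inv1 _ n4sq * inv1 _ n3sq * inv1 _ n4sq : GL (Fin t → Fin k) F) : Matrix _ _ F) =
      1 + Ai * Aj * Cm :=
    sq_mul_one_add h2' (sqmul Aisq cAiAj) Cmsq eCD (cCmAi.symm.mul_left cCmAj.symm) (cClAi.mul_right cClAj)
      cClCm (cDlAi.mul_right cDlAj) cDlCm
  set u : GL (Fin t → Fin k) F := inv1 _ n1sq * inv1 _ n2sq * inv1 _ n1sq * inv1 _ n2sq
  set x : GL (Fin t → Fin k) F := inv1 _ n3sq * inv1 _ n4sq * inv1 _ n3sq * inv1 _ n4sq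
  have comm_omega : ∀ {g h : GL (Fin t → Fin k) F}, g⁻¹ = g → h⁻¹ = h → coordGL e P g ∈ isometryGroup F Q →
      coordGL e P h ∈ isometryGroup F Q → coordGL e P (g * h * g * h) ∈ Cfsg.Geo.omegaGL Q := by
    intro g h hg hh hgI hhI
    have := Orth.commutator_mem_omega hgI hhI
    rwa [← map_inv, ← map_inv, hg, hh, ← map_mul, ← map_mul, ← map_mul] at this
  have huΩ : coordGL e P u ∈ Cfsg.Geo.omegaGL Q := comm_omega (Units.ext rfl) (Units.ext rfl) g1 g2
  have hxΩ : coordGL e P x ∈ Cfsg.Geo.omegaGL Q := comm_omega (Units.ext rfl) (Units.ext rfl) g3 g4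
  have inv_val : ∀ {g : GL (Fin t → Fin k) F} {N : Matrix (Fin t → Fin k) (Fin t → Fin k) F}, g.val = 1 + N →
      N * N = 0 → g⁻¹.val = 1 + N := fun {g N} hg hN => by
    have : g * g = 1 := Units.ext (by rw [Units.val_mul, hg, sq_one_add h2' hN, Units.val_one])
    rw [inv_eq_of_mul_eq_one_right this, hg]
  set W := slots S t
  refine Orth.exists_between (S := (normW W).map (coordGL e P).toMonoidHom) (fun g hgT hgΩ => ?_) ?_ ?_
  · obtain ⟨_, ⟨g', hg', rfl⟩, rfl⟩ := hgT
    rw [show (MulAut.conj P).toMonoidHom ((Cfsg.Geo.glReindex e.symm).toMonoidHom g') = coordGL e P g' from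
      (coordGL_eq e P g').symm] at hgΩ ⊢
    refine ⟨g', ?_, rfl⟩
    obtain ⟨π, s, rfl⟩ := exists_normal_form hg'
    have hiso := Orth.omega_le_iso hgΩ
    set g := (permGL π * pureGL s : GL (Fin t → Fin k) F)
    have hpres : (g : Matrix _ _ F)ᵀ * pureMat (fun _ : Fin t => G) * (g : Matrix _ _ F) =
        pureMat fun _ => G := by
      refine Matrix.ext fun z w => ?_
      have h1 := Orth.B_act hiso ((P : Matrix ι ι F) *ᵥ (Pi.single z 1 ∘ e))
        ((P : Matrix ι ι F) *ᵥ (Pi.single w 1 ∘ e))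
      simp only [MaxCl.act_apply, coordGL_val, coordEquiv_mulVec, hT] at h1
      have h3 := mul_left_cancel₀ hc₀ h1
      rw [Matrix.mulVec_mulVec, Matrix.dotProduct_mulVec, ← Matrix.vecMul_transpose,
        Matrix.vecMul_vecMul, ← Matrix.dotProduct_mulVec] at h3
      simpa [← mul_assoc, Matrix.mulVec_single_one] using h3
    have hsim := similitude_of_preserves hGdet hpres hG0
    intro X hX
    refine (slots_induction (S := S) (T := W.comap (LinearMap.mulLeft F (g : Matrix _ _ F) ∘ₗ
      LinearMap.mulRight F ((g⁻¹ : GL (Fin t → Fin k) F) : Matrix _ _ F))) fun r A hA => ?_) hX |> fun h => by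
        simpa [mul_assoc] using h
    obtain ⟨μ, hμ⟩ := hsim r
    have e5 : (g : Matrix _ _ F) * slotHom r A * ((g⁻¹ : GL (Fin t → Fin k) F) : Matrix _ _ F) =
        slotHom (π r) ((s r).val * A * ((s r)⁻¹).val) := by
      rw [← permGL_conj_slot, ← pureGL_conj_slot]
      simp only [g, Units.val_mul, _root_.mul_inv_rev, mul_assoc]
    show _ ∈ W
    simp only [LinearMap.comp_apply, LinearMap.mulLeft_apply, LinearMap.mulRight_apply, ← mul_assoc, e5]
    exact slot_mem _ (hS _ μ hμ A hA)
  · refine ⟨_, huΩ, ⟨u, fun X hX => ?_, rfl⟩, fun hu => ?_⟩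
    · rw [inv_val uval (sqmul Aisq cAiAj), uval]
      refine slots_induction (S := S) (T := W.comap (LinearMap.mulLeft F (1 + Ai * Aj) ∘ₗ
        LinearMap.mulRight F (1 + Ai * Aj))) (fun r A hA => ?_) hX |> fun h => by simpa [mul_assoc] using h
      show _ ∈ W
      simp only [LinearMap.comp_apply, LinearMap.mulLeft_apply, LinearMap.mulRight_apply, ← mul_assoc]
      by_cases hri : r = i
      · subst hri
        rw [conj_one_add h2' Ajsq cAiAj.symm (slot_commute hij.symm a A)]
        obtain ⟨μ, hμ⟩ := hSa A hA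
        rw [hAi, ← map_mul, ← map_mul, ← map_add, hμ, map_smul, map_one, smul_mul_assoc, one_mul]
        exact W.add_mem (slot_mem _ hA) (W.smul_mem _ (slot_mem j ha))
      by_cases hrj : r = j
      · subst hrj
        rw [cAiAj.eq, conj_one_add h2' Aisq cAiAj (slot_commute (Ne.symm hri) a A)]
        obtain ⟨μ, hμ⟩ := hSa A hA
        rw [hAj, ← map_mul, ← map_mul, ← map_add, hμ, map_smul, map_one, smul_mul_assoc, one_mul]
        exact W.add_mem (slot_mem _ hA) (W.smul_mem _ (slot_mem i ha))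
      · have hc : Commute (1 + Ai * Aj) (slotHom r A) :=
          (Commute.one_left _).add_left ((slot_commute (Ne.symm hri) a A).mul_left (slot_commute (Ne.symm hrj) a A))
        rw [hc.eq, mul_assoc, sq_one_add h2' (sqmul Aisq cAiAj), mul_one]
        exact slot_mem _ hA
    · obtain ⟨_, ⟨u', hu', rfl⟩, he⟩ := hu
      have hu2 : u = u' := (coordGL e P).injective (by rw [← he, coordGL_eq]; rfl)
      obtain ⟨π, s, hps⟩ := exists_normal_form hu'
      have hconj := permGL_conj_slot (F := F) π i ((s i).val * b * ((s i)⁻¹).val)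
      rw [← pureGL_conj_slot] at hconj
      have hnorm : (u : Matrix _ _ F) * Bi * ((u⁻¹ : GL (Fin t → Fin k) F) : Matrix _ _ F) = Bi + Aj := by
        rw [inv_val uval (sqmul Aisq cAiAj), uval, hBi, conj_one_add h2' Ajsq cAiAj.symm cBiAj.symm,
          hAi, eAB i, one_mul]
      have hmain : slotHom (π i) ((s i).val * b * ((s i)⁻¹).val) = Bi + Aj := by
        rw [← hnorm, ← hconj, hu2, hps]
        simp only [Units.val_mul, _root_.mul_inv_rev, mul_assoc, hBi]
      by_cases hpi : π i = i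
      · have h1 : Commute (slotHom (π i) ((s i).val * b * ((s i)⁻¹).val)) Bj :=
          slot_commute (by rw [hpi]; exact hij) _ _
        rw [hmain] at h1
        have h3 : (Bi + Aj) * Bj + Bj * (Bi + Aj) = 0 := by rw [h1.eq, h2']
        rw [show (Bi + Aj) * Bj + Bj * (Bi + Aj) = (Bi * Bj + Bj * Bi) + (Aj * Bj + Bj * Aj) by noncomm_ring,
          (slot_commute hij b b : Commute Bi Bj).eq, h2', zero_add, hAj, hBj, eAB j] at h3
        exact one_ne_zero h3
      · have h1 : Commute (slotHom (π i) ((s i).val * b * ((s i)⁻¹).val)) Ai := slot_commute hpi _ _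
        rw [hmain] at h1
        have h3 : (Bi + Aj) * Ai + Ai * (Bi + Aj) = 0 := by rw [h1.eq, h2']
        rw [show (Bi + Aj) * Ai + Ai * (Bi + Aj) = (Ai * Bi + Bi * Ai) + (Aj * Ai + Ai * Aj) by noncomm_ring,
          cAiAj.eq, h2', add_zero, hAi, hBi, eAB i] at h3
        exact one_ne_zero h3
  · refine ⟨_, hxΩ, fun hx => ?_⟩
    obtain ⟨x', hx', he⟩ := hx
    have hxn : x ∈ normW W := by
      have : x' = x := (coordGL e P).injective he
      exact this ▸ hx'
    have h1 := hxn Bi (slot_mem i hb)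
    have hPsq : Aj * Cm * (Aj * Cm) = 0 := sqmul Ajsq cCmAj.symm
    have hx0 : (x : Matrix _ _ F) = 1 + Ai * (Aj * Cm) := by rw [xval, mul_assoc]
    rw [inv_val hx0 (sqmul Aisq (cAiAj.mul_right cCmAi.symm)), hx0,
      conj_one_add h2' hPsq (cAiAj.symm.mul_left cCmAi) (cBiAj.symm.mul_left cCmBi), hAi, hBi, eAB i, one_mul] at h1
    have h3 : Aj * Cm ∈ W := by simpa [hBi] using W.sub_mem h1 (slot_mem i hb)
    let L : Matrix (Fin t → Fin k) (Fin t → Fin k) F →ₗ[F] Matrix (Fin t → Fin k) (Fin t → Fin k) F :=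
      LinearMap.mulLeft F Bj + LinearMap.mulRight F Bj
    have hle : W ≤ (F ∙ (1 : Matrix (Fin t → Fin k) (Fin t → Fin k) F)).comap L :=
      slots_induction fun r A hA => by
        rw [Submodule.mem_comap]
        show Bj * slotHom r A + slotHom r A * Bj ∈ _
        by_cases hr : r = j
        · subst hr
          obtain ⟨μ, hμ⟩ := hSb A hA
          rw [hBj, ← map_mul, ← map_mul, ← map_add, hμ, map_smul, map_one]
          exact Submodule.smul_mem _ _ (Submodule.mem_span_singleton_self _)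
        · rw [(slot_commute hr A b : Commute (slotHom r A) Bj).eq, h2']
          exact Submodule.zero_mem _
    obtain ⟨μ, hμ⟩ := Submodule.mem_span_singleton.1 (hle h3)
    have h4 : L (Aj * Cm) = Cm := by
      show Bj * (Aj * Cm) + Aj * Cm * Bj = Cm
      rw [mul_assoc Aj Cm Bj, cCmBj.eq, ← mul_assoc, ← mul_assoc, ← add_mul, add_comm, hAj, hBj, eAB j, one_mul]
    rw [h4] at hμ
    have h5 : (μ * μ) • (1 : Matrix (Fin t → Fin k) (Fin t → Fin k) F) = 0 := by
      rw [← show Cm * Cm = 0 from Cmsq, ← hμ, smul_mul_smul_comm, one_mul]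
    have h6 : Cm ≠ 0 := fun h6 => by
      have : c = 0 := slotHom_injective (F := F) m (h6.trans (map_zero _).symm)
      rw [this] at hcd
      simp at hcd
    rcases smul_eq_zero.1 h5 with h | h
    · exact h6 (by rw [← hμ, mul_self_eq_zero.1 h, zero_smul])
    · exact h6 (by rw [← hμ, h, smul_zero])

end Cfsg.Agent.MaxCl.Spin
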