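/-
The spaces of matrices used in `OrthSpinTensor`, for symplectic factors of dimension 2 and 4 in even characteristic.
-/
import Cfsg.Agent.Lib.MaxCl.OrthSpinTensor

set_option autoImplicit false

namespace Cfsg.Agent.MaxCl.Spin

open Matrix
open scoped MatrixGroups
open Cfsg.Agent.Aschbacher

variable {F : Type*} [Field F]

/-! ### Dimension four -/

/-- The Gram matrix of the standard form in dimension four. -/
def J4 : Matrix (Fin 4) (Fin 4) F := !![0, 0, 0, 1; 0, 0, 1, 0; 0, 1, 0, 0; 1, 0, 0, 0]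

/-- The five-dimensional space of matrices. -/
def par : (Fin 5 → F) →ₗ[F] Matrix (Fin 4) (Fin 4) F where
  toFun v := !![v 0, v 1, v 2, 0; v 3, v 0, 0, v 2; v 4, 0, v 0, v 1; 0, v 4, v 3, v 0]
  map_add' u v := by ext i j; fin_cases i <;> fin_cases j <;> simp
  map_smul' r v := by ext i j; fin_cases i <;> fin_cases j <;> simp

theorem par_apply (v : Fin 5 → F) :
    par v = !![v 0, v 1, v 2, 0; v 3, v 0, 0, v 2; v 4, 0, v 0, v 1; 0, v 4, v 3, v 0] := rfl

theorem J4_par_transpose (v : Fin 5 → F) : (J4 * par v)ᵀ = J4 * par v := by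
  rw [par_apply]
  ext i j
  fin_cases i <;> fin_cases j <;> simp [J4, Matrix.mul_apply, Fin.sum_univ_four]

theorem J4_par_alt (h2 : (2 : F) = 0) (v : Fin 5 → F) : Alt (J4 * par v) := fun x => by
  rw [par_apply]
  simp [J4, Matrix.mul_apply, Matrix.mulVec, dotProduct, Fin.sum_univ_four]
  linear_combination (v 4 * x 0 * x 1 + v 3 * x 0 * x 2 + v 0 * x 0 * x 3 + v 0 * x 1 * x 2 + v 1 * x 1 * x 3 +
    v 2 * x 2 * x 3) * h2

theorem par_sq (h2 : (2 : F) = 0) (v : Fin 5 → F) :
    par v * par v = (v 0 * v 0 + v 1 * v 3 + v 2 * v 4) • (1 : Matrix (Fin 4) (Fin 4) F) := by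
  rw [par_apply]
  ext i j
  fin_cases i <;> fin_cases j <;> simp [Matrix.mul_apply, Fin.sum_univ_four] <;>
    first
    | ring1
    | linear_combination (v 0 * v 1) * h2
    | linear_combination (v 0 * v 2) * h2
    | linear_combination (v 0 * v 3) * h2
    | linear_combination (v 0 * v 4) * h2
    | linear_combination (v 1 * v 2) * h2
    | linear_combination (v 1 * v 4) * h2
    | linear_combination (v 2 * v 3) * h2
    | linear_combination (v 3 * v 4) * h2

theorem par_anti (h2 : (2 : F) = 0) (u v : Fin 5 → F) :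
    ∃ r : F, par u * par v + par v * par u = r • (1 : Matrix (Fin 4) (Fin 4) F) := by
  refine ⟨((u + v) 0 * (u + v) 0 + (u + v) 1 * (u + v) 3 + (u + v) 2 * (u + v) 4) -
    (u 0 * u 0 + u 1 * u 3 + u 2 * u 4) - (v 0 * v 0 + v 1 * v 3 + v 2 * v 4), ?_⟩
  rw [sub_smul, sub_smul, ← par_sq h2, ← par_sq h2, ← par_sq h2, map_add]
  noncomm_ring

/-- Intrinsic description of the space. -/
theorem exists_par_of_alt (h2 : (2 : F) = 0) {A : Matrix (Fin 4) (Fin 4) F} (hA : Alt (J4 * A)) {r : F}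
    (hr : A * A = r • 1) : ∃ v, par v = A := by
  have hd := fun z => hA.diag z
  have d0 := hd 0
  have d1 := hd 1
  have d2 := hd 2
  have d3 := hd 3
  have ho := fun i j : Fin 4 => hA (Pi.single i 1 + Pi.single j 1)
  have o01 := ho 0 1
  have o02 := ho 0 2
  have o03 := ho 0 3
  have o12 := ho 1 2
  have o13 := ho 1 3
  have o23 := ho 2 3
  simp [J4, Matrix.mul_apply, Matrix.mulVec, dotProduct, Fin.sum_univ_four] at d0 d1 d2 d3 o01 o02 o03 o12 o13 o23
  have e0 := congrFun (congrFun hr 0) 0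
  have e1 := congrFun (congrFun hr 1) 1
  simp [Matrix.mul_apply, Fin.sum_univ_four, Matrix.one_apply, d0, d1, d2, d3] at e0 e1
  rw [d0, d1] at o01
  rw [d0, d2] at o02
  rw [d0, d3] at o03
  rw [d1, d2] at o12
  rw [d1, d3] at o13
  rw [d2, d3] at o23
  have h31 : A 3 1 = A 2 0 := by linear_combination o01 - A 2 0 * h2
  have h32 : A 3 2 = A 1 0 := by linear_combination o02 - A 1 0 * h2
  have h33 : A 3 3 = A 0 0 := by linear_combination o03 - A 0 0 * h2
  have h22 : A 2 2 = A 1 1 := by linear_combination o12 - A 1 1 * h2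
  have h23 : A 2 3 = A 0 1 := by linear_combination o13 - A 0 1 * h2
  have h13 : A 1 3 = A 0 2 := by linear_combination o23 - A 0 2 * h2
  have h11 : A 1 1 = A 0 0 := by
    rw [h31, h13] at e1
    have : (A 0 0 - A 1 1) * (A 0 0 - A 1 1) = 0 := by
      linear_combination e0 - e1 + (A 1 1 * A 1 1 - A 0 0 * A 1 1) * h2
    exact (sub_eq_zero.1 (mul_self_eq_zero.1 this)).symm
  refine ⟨![A 0 0, A 0 1, A 0 2, A 1 0, A 2 0], ?_⟩
  rw [par_apply]
  ext i j
  fin_cases i <;> fin_cases j <;> simp [d0, d1, d2, d3, h31, h32, h33, h22, h23, h13, h11]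

/-- An alternating nonsingular form of dimension four is congruent to the standard one. -/
theorem exists_congr_J4 (h2 : (2 : F) = 0) {G : Matrix (Fin 4) (Fin 4) F} (hA : Alt G) (hdet : IsUnit G.det) :
    ∃ T : GL (Fin 4) F, (T : Matrix (Fin 4) (Fin 4) F)ᵀ * G * (T : Matrix (Fin 4) (Fin 4) F) = J4 := by
  let L : LinearMap.BilinForm F (Fin 4 → F) := Matrix.toBilin' G
  have hL : ∀ x y, L x y = x ⬝ᵥ (G *ᵥ y) := fun x y => Matrix.toBilin'_apply' G x y
  have self : ∀ x, L x x = 0 := fun x => by rw [hL, hA x]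
  have symm : ∀ x y, L x y = L y x := fun x y => by
    have := self (x + y)
    simp only [map_add, LinearMap.add_apply, self] at this
    linear_combination this - L y x * h2
  have hnd : ∀ x, (∀ y, L y x = 0) → x = 0 := fun x hx => by
    have h : G *ᵥ x = 0 := funext fun i => by
      have := hx (Pi.single i 1)
      rwa [hL, single_dotProduct, one_mul] at this
    exact Matrix.eq_zero_of_mulVec_eq_zero hdet.ne_zero h
  set u : Fin 4 → F := Pi.single 0 1 with hu
  have hu0 : u ≠ 0 := fun h => by simpa [hu] using congrFun h 0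
  obtain ⟨y, hy⟩ : ∃ y, L u y = 1 := by
    obtain ⟨y, hy⟩ : ∃ y, L y u ≠ 0 := by
      by_contra hc
      push Not at hc
      exact hu0 (hnd u hc)
    exact ⟨(L y u)⁻¹ • y, by rw [map_smul, smul_eq_mul, symm u y, inv_mul_cancel₀ hy]⟩
  have hyu : L y u = 1 := by rw [symm, hy]
  let π : (Fin 4 → F) → (Fin 4 → F) := fun x => x + L y x • u + L u x • y
  have π1 : ∀ x, L u (π x) = 0 := fun x => by
    simp only [π, map_add, map_smul, smul_eq_mul, self, hy]
    linear_combination L u x * h2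
  have π2 : ∀ x, L y (π x) = 0 := fun x => by
    simp only [π, map_add, map_smul, smul_eq_mul, self, hyu]
    linear_combination L y x * h2
  obtain ⟨w, z, hwz, w1, w2, z1, z2⟩ : ∃ w z, L w z = 1 ∧ L u w = 0 ∧ L y w = 0 ∧ L u z = 0 ∧ L y z = 0 := by
    by_cases hall : ∀ x x', L (π x) (π x') = 0
    · exfalso
      have hz : ∀ x, π x = 0 := fun x => hnd _ fun x' => by
        have : x' = π x' + L y x' • u + L u x' • y := by
          funext i
          simp only [π, Pi.add_apply, Pi.smul_apply, smul_eq_mul]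
          linear_combination -(L y x' * u i + L u x' * y i) * h2
        have e := congrArg (fun v => L (π x) v) this
        simp only [map_add, map_smul, hall, smul_eq_mul, symm (π x) u, symm (π x) y, π1, π2, mul_zero, add_zero] at e
        rw [symm x', e]
      let f : (Fin 2 → F) →ₗ[F] (Fin 4 → F) := (LinearMap.proj 0).smulRight u + (LinearMap.proj 1).smulRight y
      have hsurj : Function.Surjective f := fun x => ⟨![L y x, L u x], by
        funext i
        have := congrFun (hz x) i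
        simp only [π, Pi.add_apply, Pi.smul_apply, smul_eq_mul, Pi.zero_apply] at this
        simp [f]
        linear_combination this - x i * h2⟩
      have h := LinearMap.finrank_le_finrank_of_surjective hsurj
      simp at h
    · push Not at hall
      obtain ⟨x, x', hx⟩ := hall
      exact ⟨π x, (L (π x) (π x'))⁻¹ • π x', by rw [map_smul, smul_eq_mul, inv_mul_cancel₀ hx],
        π1 x, π2 x, by rw [map_smul, π1, smul_zero], by rw [map_smul, π2, smul_zero]⟩
  let T : Matrix (Fin 4) (Fin 4) F := Matrix.of fun i c => ![u, w, z, y] c i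
  have hT : Tᵀ * G * T = J4 := by
    ext c c'
    have hc : (Tᵀ * G * T) c c' = L (![u, w, z, y] c) (![u, w, z, y] c') := by
      rw [hL, Matrix.mul_assoc, Matrix.mul_apply]
      rfl
    rw [hc]
    fin_cases c <;> fin_cases c' <;>
      simp [J4, self, hy, hyu, hwz, w1, w2, z1, z2, symm w u, symm w y, symm z u, symm z y, symm z w]
  have hTdet : T.det ≠ 0 := fun h => by
    have h1 := congrArg Matrix.det hT
    rw [Matrix.det_mul, h, mul_zero] at h1
    have h3 : (J4 : Matrix (Fin 4) (Fin 4) F) * J4 = 1 := by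
      ext i j
      fin_cases i <;> fin_cases j <;> simp [J4, Matrix.mul_apply, Fin.sum_univ_four]
    have := congrArg Matrix.det h3
    rw [Matrix.det_mul, ← h1, mul_zero, Matrix.det_one] at this
    exact zero_ne_one this
  exact ⟨Matrix.GeneralLinearGroup.mkOfDetNeZero T hTdet, hT⟩

variable {ι : Type} [Fintype ι] [DecidableEq ι] [Fintype F] {t : ℕ}

/-- Factors of dimension four. -/
theorem between_four (h2 : (2 : F) = 0) {Q : QuadraticForm F (ι → F)}
    (hQ : (QuadraticMap.polarBilin Q).Nondegenerate) (ht : 2 ≤ t) (e : ι ≃ (Fin t → Fin 4)) (P : GL ι F)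
    {G : Matrix (Fin 4) (Fin 4) F} (hA : Alt G) (hGs : Gᵀ = G) (hdet : IsUnit G.det) {c₀ : F} (hc₀ : c₀ ≠ 0)
    (hT : ∀ x y : (Fin t → Fin 4) → F, QuadraticMap.polar (⇑Q) ((P : Matrix ι ι F) *ᵥ (x ∘ e))
      ((P : Matrix ι ι F) *ᵥ (y ∘ e)) = c₀ * (x ⬝ᵥ (pureMat (fun _ : Fin t => G) *ᵥ y)))
    (hpure : ∀ xs : Fin t → Fin 4 → F, Q ((P : Matrix ι ι F) *ᵥ ((fun a => ∏ i, xs i (a i)) ∘ e)) = 0) :
    ∃ K : Subgroup (GL ι F),
      Cfsg.Geo.tensorWreathSubgroup 4 t e P ⊓ Cfsg.Geo.omegaGL Q < K ∧ K < Cfsg.Geo.omegaGL Q := by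
  obtain ⟨T, hTG⟩ := exists_congr_J4 h2 hA hdet
  set X : Matrix (Fin 4) (Fin 4) F := ((T⁻¹ : GL (Fin 4) F) : Matrix (Fin 4) (Fin 4) F) with hX
  have hXT : X * T.val = 1 := by rw [hX, Units.inv_mul]
  have hTX : T.val * X = 1 := by rw [hX, Units.mul_inv]
  have hG : G = Xᵀ * J4 * X := by
    rw [← hTG, show Xᵀ * (T.valᵀ * G * T.val) * X = (Xᵀ * T.valᵀ) * G * (T.val * X) by noncomm_ring,
      ← Matrix.transpose_mul, hTX, Matrix.transpose_one, one_mul, mul_one]
  let τ : Matrix (Fin 4) (Fin 4) F →ₗ[F] Matrix (Fin 4) (Fin 4) F :=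
    LinearMap.mulLeft F T.val ∘ₗ LinearMap.mulRight F X
  have τ_apply : ∀ A, τ A = T.val * A * X := fun A => by simp [τ, mul_assoc]
  have τ_mul : ∀ A B, τ (A * B) = τ A * τ B := fun A B => by
    rw [τ_apply, τ_apply, τ_apply, show T.val * A * X * (T.val * B * X) = T.val * A * (X * T.val) * B * X by
      noncomm_ring, hXT]
    noncomm_ring
  have τ_one : τ 1 = 1 := by rw [τ_apply, mul_one, hTX]
  have hGτ : ∀ A, G * τ A = Xᵀ * (J4 * A) * X := fun A => by
    rw [τ_apply, hG, show Xᵀ * J4 * X * (T.val * A * X) = Xᵀ * J4 * (X * T.val) * A * X by noncomm_ring, hXT]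
    noncomm_ring
  have halt : ∀ v, Alt (G * τ (par v)) := fun v => by rw [hGτ]; exact (J4_par_alt h2 v).congr X
  have hadj : ∀ v, (τ (par v))ᵀ * G = G * τ (par v) := fun v => by
    have : (G * τ (par v))ᵀ = G * τ (par v) := by
      rw [hGτ, Matrix.transpose_mul, Matrix.transpose_mul, Matrix.transpose_transpose, J4_par_transpose,
        ← mul_assoc]
    rwa [Matrix.transpose_mul, hGs] at this
  set a₀ : Fin 5 → F := ![0, 0, 1, 0, 0]
  set b₀ : Fin 5 → F := ![0, 0, 0, 0, 1]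
  set q₀ : Fin 5 → F := ![0, 1, 0, 0, 0]
  set d₀ : Fin 5 → F := ![0, 0, 0, 1, 0]
  have sq : ∀ v : Fin 5 → F, v 0 * v 0 + v 1 * v 3 + v 2 * v 4 = 0 → τ (par v) * τ (par v) = 0 := fun v h => by
    rw [← τ_mul, par_sq h2, h, zero_smul, map_zero]
  have comp : ∀ u v : Fin 5 → F, ∀ M, par u * par v + par v * par u = M →
      τ (par u) * τ (par v) + τ (par v) * τ (par u) = τ M := fun u v M h => by
    rw [← τ_mul, ← τ_mul, ← map_add, h]
  have ecomm : ∀ u v : Fin 5 → F, par u * par v = par v * par u → Commute (τ (par u)) (τ (par v)) :=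
    fun u v h => by
      show _ * _ = _ * _
      rw [← τ_mul, ← τ_mul, h]
  have c1 : Commute (τ (par q₀)) (τ (par a₀)) := ecomm _ _ (by
    ext i j; fin_cases i <;> fin_cases j <;> simp [par_apply, a₀, q₀, Matrix.mul_apply, Fin.sum_univ_four])
  have c2 : Commute (τ (par q₀)) (τ (par b₀)) := ecomm _ _ (by
    ext i j; fin_cases i <;> fin_cases j <;> simp [par_apply, b₀, q₀, Matrix.mul_apply, Fin.sum_univ_four])
  have c3 : Commute (τ (par d₀)) (τ (par a₀)) := ecomm _ _ (by
    ext i j; fin_cases i <;> fin_cases j <;> simp [par_apply, a₀, d₀, Matrix.mul_apply, Fin.sum_univ_four])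
  have c4 : Commute (τ (par d₀)) (τ (par b₀)) := ecomm _ _ (by
    ext i j; fin_cases i <;> fin_cases j <;> simp [par_apply, b₀, d₀, Matrix.mul_apply, Fin.sum_univ_four])
  let i : Fin t := ⟨0, by omega⟩
  let j : Fin t := ⟨1, by omega⟩
  have hij : i ≠ j := by simp [i, j, Fin.ext_iff]
  have hG0 : G ≠ 0 := fun h => by rw [h, Matrix.det_zero] at hdet; exact not_isUnit_zero hdet
  refine between h2 e P hQ hT hpure hGs hc₀ hdet hG0 (S := (LinearMap.range par).map τ) (fun s μ hs A hA' => ?_)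
    ⟨_, ⟨a₀, rfl⟩, rfl⟩ ⟨_, ⟨b₀, rfl⟩, rfl⟩ ?_ ?_ (sq a₀ (by simp [a₀])) (c := τ (par q₀))
    (sq q₀ (by simp [q₀])) (d := τ (par d₀)) (sq d₀ (by simp [d₀]))
    ((comp a₀ b₀ 1 (by
      ext i j; fin_cases i <;> fin_cases j <;>
        simp [par_apply, a₀, b₀, Matrix.mul_apply, Fin.sum_univ_four])).trans τ_one)
    ((comp q₀ d₀ 1 (by
      ext i j; fin_cases i <;> fin_cases j <;>
        simp [par_apply, q₀, d₀, Matrix.mul_apply, Fin.sum_univ_four])).trans τ_one)
    (hadj a₀) (hadj q₀) (hadj d₀) (i := i) (j := j) (l := i) (m := j) hij hij hij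
    (fun _ => ⟨c1, c2, c3, c4⟩) (fun h => absurd h hij.symm) (fun _ => ⟨c1, c2⟩)
    ⟨j, ?_⟩ ⟨i, ?_⟩ ⟨j, ?_⟩ ⟨i, ?_⟩
  · obtain ⟨_, ⟨v, rfl⟩, rfl⟩ := hA'
    -- conjugate back to the standard form
    set Y : Matrix (Fin 4) (Fin 4) F := ((s⁻¹ : GL (Fin 4) F) : Matrix (Fin 4) (Fin 4) F)
    have hsY : s.val * Y = 1 := Units.mul_inv s
    have hYs : Y * s.val = 1 := Units.inv_mul s
    set A := s.val * τ (par v) * Y with hAdef
    have hsq : A * A = (v 0 * v 0 + v 1 * v 3 + v 2 * v 4) • 1 := by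
      rw [hAdef, show s.val * τ (par v) * Y * (s.val * τ (par v) * Y) =
          s.val * τ (par v) * (Y * s.val) * τ (par v) * Y by noncomm_ring, hYs, mul_one,
        mul_assoc s.val, ← τ_mul, par_sq h2, map_smul, τ_one, mul_smul_comm, smul_mul_assoc, mul_one, hsY]
    set A₀ := X * A * T.val with hA₀
    have hA₀sq : A₀ * A₀ = (v 0 * v 0 + v 1 * v 3 + v 2 * v 4) • 1 := by
      rw [hA₀, show X * A * T.val * (X * A * T.val) = X * A * (T.val * X) * A * T.val by noncomm_ring, hTX,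
        mul_one, mul_assoc X, hsq, mul_smul_comm, smul_mul_assoc, mul_one, hXT]
    have hGs' : G * s.val = μ • (Yᵀ * G) := by
      rw [← mul_smul_comm, ← hs, show Yᵀ * (s.valᵀ * G * s.val) = (Yᵀ * s.valᵀ) * G * s.val by noncomm_ring,
        ← Matrix.transpose_mul, hsY, Matrix.transpose_one, one_mul]
    have hAalt : Alt (J4 * A₀) := by
      have h1 : J4 * A₀ = μ • ((Y * T.val)ᵀ * (G * τ (par v)) * (Y * T.val)) := by
        rw [hA₀, ← hTG, show T.valᵀ * G * T.val * (X * A * T.val) = T.valᵀ * G * (T.val * X) * A * T.val by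
          noncomm_ring, hTX, mul_one, hAdef,
          show T.valᵀ * G * (s.val * τ (par v) * Y) * T.val = T.valᵀ * (G * s.val) * τ (par v) * Y * T.val by
            noncomm_ring, hGs', Matrix.transpose_mul]
        simp only [mul_smul_comm, smul_mul_assoc, mul_assoc]
      rw [h1]
      exact ((halt v).congr _).smul μ
    obtain ⟨w, hw⟩ := exists_par_of_alt h2 hAalt hA₀sq
    refine ⟨_, ⟨w, rfl⟩, ?_⟩
    rw [τ_apply, hw, hA₀, show T.val * (X * A * T.val) * X = (T.val * X) * A * (T.val * X) by noncomm_ring, hTX,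
      one_mul, mul_one]
  · rintro _ ⟨_, ⟨v, rfl⟩, rfl⟩
    obtain ⟨r, hr⟩ := par_anti h2 a₀ v
    exact ⟨r, by rw [comp a₀ v _ hr, map_smul, τ_one]⟩
  · rintro _ ⟨_, ⟨v, rfl⟩, rfl⟩
    obtain ⟨r, hr⟩ := par_anti h2 b₀ v
    exact ⟨r, by rw [comp b₀ v _ hr, map_smul, τ_one]⟩
  · simpa [hij.symm] using hA
  · simpa [hij] using halt d₀
  · simpa [hij.symm] using halt a₀
  · simpa [hij] using halt d₀

/-- Factors of dimension two. -/
theorem between_two (h2 : (2 : F) = 0) {Q : QuadraticForm F (ι → F)}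
    (hQ : (QuadraticMap.polarBilin Q).Nondegenerate) (ht : 4 ≤ t) (e : ι ≃ (Fin t → Fin 2)) (P : GL ι F)
    {G : Matrix (Fin 2) (Fin 2) F} (hA : Alt G) (hGs : Gᵀ = G) (hdet : IsUnit G.det) {c₀ : F} (hc₀ : c₀ ≠ 0)
    (hT : ∀ x y : (Fin t → Fin 2) → F, QuadraticMap.polar (⇑Q) ((P : Matrix ι ι F) *ᵥ (x ∘ e))
      ((P : Matrix ι ι F) *ᵥ (y ∘ e)) = c₀ * (x ⬝ᵥ (pureMat (fun _ : Fin t => G) *ᵥ y)))
    (hpure : ∀ xs : Fin t → Fin 2 → F, Q ((P : Matrix ι ι F) *ᵥ ((fun a => ∏ i, xs i (a i)) ∘ e)) = 0) :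
    ∃ K : Subgroup (GL ι F),
      Cfsg.Geo.tensorWreathSubgroup 2 t e P ⊓ Cfsg.Geo.omegaGL Q < K ∧ K < Cfsg.Geo.omegaGL Q := by
  have d0 := hA.diag 0
  have d1 := hA.diag 1
  have hsym : G 1 0 = G 0 1 := congrFun (congrFun hGs 0) 1
  have hG0 : G ≠ 0 := fun h => by rw [h, Matrix.det_zero] at hdet; exact not_isUnit_zero hdet
  have hneg : ∀ x : F, -x = x := fun x => by linear_combination -x * h2
  set a : Matrix (Fin 2) (Fin 2) F := !![0, 1; 0, 0]
  set b : Matrix (Fin 2) (Fin 2) F := !![0, 0; 1, 0]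
  have hab : a * b + b * a = 1 := by
    ext i j; fin_cases i <;> fin_cases j <;> simp [a, b, Matrix.mul_apply, Fin.sum_univ_two]
  have hanti : ∀ x ∈ [a, b], Anti (LinearMap.ker (Matrix.traceLinearMap (Fin 2) F F)) x := by
    intro x hx A hA'
    have htr : A 1 1 = A 0 0 := by
      have : A 0 0 + A 1 1 = 0 := by simpa [Matrix.trace, Fin.sum_univ_two] using hA'
      linear_combination this - A 0 0 * h2
    simp only [List.mem_cons, List.not_mem_nil, or_false] at hx
    rcases hx with rfl | rfl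
    · refine ⟨A 1 0, Matrix.ext fun i j => ?_⟩
      fin_cases i <;> fin_cases j <;> simp [a, Matrix.mul_apply, Matrix.vecMul, dotProduct, Fin.sum_univ_two, htr]
      linear_combination A 0 0 * h2
    · refine ⟨A 0 1, Matrix.ext fun i j => ?_⟩
      fin_cases i <;> fin_cases j <;> simp [b, Matrix.mul_apply, Matrix.vecMul, dotProduct, Fin.sum_univ_two, htr]
      linear_combination A 0 0 * h2
  have hadja : aᵀ * G = G * a := by
    ext i j; fin_cases i <;> fin_cases j <;> simp [a, Matrix.mul_apply, Fin.sum_univ_two, d0, d1, hsym]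
  have hadjb : bᵀ * G = G * b := by
    ext i j; fin_cases i <;> fin_cases j <;> simp [b, Matrix.mul_apply, Fin.sum_univ_two, d0, d1, hsym]
  have haa : a * a = 0 := by
    ext i j; fin_cases i <;> fin_cases j <;> simp [a, Matrix.mul_apply, Fin.sum_univ_two]
  have hbb : b * b = 0 := by
    ext i j; fin_cases i <;> fin_cases j <;> simp [b, Matrix.mul_apply, Fin.sum_univ_two]
  let i : Fin t := ⟨0, by omega⟩
  let j : Fin t := ⟨1, by omega⟩
  let l : Fin t := ⟨2, by omega⟩
  let m : Fin t := ⟨3, by omega⟩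
  refine between h2 e P hQ hT hpure hGs hc₀ hdet hG0 (S := LinearMap.ker (Matrix.traceLinearMap (Fin 2) F F))
    (fun s μ _ A hA' => ?_) (a := a) (b := b) (by simp [a, Matrix.trace, Fin.sum_univ_two])
    (by simp [b, Matrix.trace, Fin.sum_univ_two]) (hanti a (by simp)) (hanti b (by simp)) haa (c := a) haa
    (d := b) hbb hab hab hadja hadja hadjb (i := i) (j := j) (l := l) (m := m)
    (by simp [i, j, Fin.ext_iff]) (by simp [l, j, Fin.ext_iff]) (by simp [l, m, Fin.ext_iff])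
    (fun h => absurd h (by simp [l, i, Fin.ext_iff])) (fun h => absurd h (by simp [m, i, Fin.ext_iff]))
    (fun h => absurd h (by simp [m, j, Fin.ext_iff])) ⟨j, ?_⟩ ⟨i, ?_⟩ ⟨m, ?_⟩ ⟨i, ?_⟩
  · rw [LinearMap.mem_ker] at hA' ⊢
    simp only [Matrix.traceLinearMap_apply] at hA' ⊢
    rwa [Matrix.trace_mul_cycle, Units.inv_mul, one_mul]
  all_goals simpa [i, j, l, m, Fin.ext_iff] using hA

end Cfsg.Agent.MaxCl.Spin
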