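/-
Subfield groups of prime index are maximal in `omegaGL`: the coset count.
-/
import Cfsg.Agent.Lib.MaxCl.OrthSubfield

set_option autoImplicit false

namespace Cfsg.Agent.MaxCl.Orth

open scoped MatrixGroups Matrix
open Module (finrank)

variable {ι : Type} [Fintype ι] [DecidableEq ι] {F : Type*} [Field F] {Q : QuadraticForm F (ι → F)}
  {F₀ : Subfield F} {P : GL ι F}

set_option quotPrecheck false in
local notation "B" => QuadraticMap.polar (⇑Q)

theorem rat_surj [Finite F] {f : (ι → F) → (ι → F)} (hf : Function.Injective f)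
    (h : ∀ x ∈ ratVec F₀ P, f x ∈ ratVec F₀ P) : ∀ y ∈ ratVec F₀ P, ∃ x ∈ ratVec F₀ P, f x = y := by
  intro y hy
  let f' : ratVec F₀ P → ratVec F₀ P := fun x => ⟨f x, h x x.2⟩
  have hinj : Function.Injective f' := fun a b e => Subtype.ext (hf (congrArg Subtype.val e))
  obtain ⟨⟨x, hx⟩, e⟩ := Finite.injective_iff_surjective.1 hinj ⟨y, hy⟩
  exact ⟨x, hx, congrArg Subtype.val e⟩

variable [Finite F]

variable (F₀ P) in
/-- The matrices fixing the set of rational vectors. -/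
def ratStab : Subgroup (GL ι F) where
  carrier := {g | ∀ x ∈ ratVec F₀ P, act g x ∈ ratVec F₀ P}
  mul_mem' {g h} hg hh x hx := by rw [act_mul]; exact hg _ (hh x hx)
  one_mem' x hx := by rwa [act_one]
  inv_mem' {g} hg x hx := by
    obtain ⟨y, hy, rfl⟩ := rat_surj (act_injective g) hg x hx
    rwa [act_inv_act]

theorem mem_ratStab {g : GL ι F} : g ∈ ratStab F₀ P ↔ ∀ x ∈ ratVec F₀ P, act g x ∈ ratVec F₀ P := Iff.rfl

theorem ratStab_le : ratStab F₀ P ≤ Cfsg.Geo.subfieldSubgroup F₀ P := fun g hg =>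
  mem_subfieldSubgroup F₀ P one_ne_zero fun x hx => by rw [inv_one, one_smul]; exact hg x hx

/-- Two elements outside a subfield of prime index with squares in it differ by a factor in it. -/
theorem mul_inv_mem_of_sq {r : ℕ} (hr : r.Prime) (hcard : Nat.card F = Nat.card F₀ ^ r) {a b : F}
    (ha : a * a ∈ F₀) (hb : b * b ∈ F₀) (ha' : a ∉ F₀) (hb' : b ∉ F₀) : a⁻¹ * b ∈ F₀ := by
  haveI := Fintype.ofFinite F₀
  have hsqrt : (2 : F) = 0 → ∀ t : F, t * t ∈ F₀ → t ∈ F₀ := by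
    intro h2 t ht
    obtain ⟨y, hy⟩ := FiniteField.isSquare_of_char_two (F := F₀)
      (ringChar.eq_iff.2 (CharTwo.of_one_ne_zero_of_two_eq_zero one_ne_zero
        (Subtype.ext (h2 : (2 : F) = 0)))) ⟨t * t, ht⟩
    have e : t * t = (y : F) * (y : F) := congrArg Subtype.val hy
    have : (t - (y : F)) * (t - (y : F)) = 0 := by
      linear_combination e + ((y : F) * (y : F) - t * (y : F)) * h2
    rw [sub_eq_zero.1 (mul_self_eq_zero.1 this)]; exact y.2
  have h2 : (2 : F) ≠ 0 := fun h => ha' (hsqrt h a ha)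
  have h2' : (2 : F) ∈ F₀ := by rw [← one_add_one_eq_two]; exact F₀.add_mem F₀.one_mem F₀.one_mem
  let S : Subalgebra F₀ F :=
    { carrier := {z | ∃ x ∈ F₀, ∃ y ∈ F₀, z = x + y * a}
      add_mem' := by
        rintro _ _ ⟨x, hx, y, hy, rfl⟩ ⟨x', hx', y', hy', rfl⟩
        exact ⟨_, F₀.add_mem hx hx', _, F₀.add_mem hy hy', by ring⟩
      mul_mem' := by
        rintro _ _ ⟨x, hx, y, hy, rfl⟩ ⟨x', hx', y', hy', rfl⟩
        exact ⟨_, F₀.add_mem (F₀.mul_mem hx hx') (F₀.mul_mem (F₀.mul_mem hy hy') ha), _,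
          F₀.add_mem (F₀.mul_mem hx hy') (F₀.mul_mem hy hx'), by ring⟩
      algebraMap_mem' := fun e => ⟨e, e.2, 0, F₀.zero_mem, by
        rw [zero_mul, add_zero]; rfl⟩ }
  haveI := Fintype.ofFinite F
  have hrank : finrank F₀ F = r := by
    have e := Module.natCard_eq_pow_finrank (K := F₀) (V := F)
    rw [hcard] at e
    exact (Nat.pow_right_injective (Finite.one_lt_card (α := F₀)) e).symm
  haveI := Subalgebra.isSimpleOrder_of_finrank_prime F₀ F (hrank ▸ hr)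
  have hS : S = ⊤ := (IsSimpleOrder.eq_bot_or_eq_top S).resolve_left fun h => ha' (by
    have : a ∈ S := ⟨0, F₀.zero_mem, 1, F₀.one_mem, by ring⟩
    rw [h, Algebra.mem_bot] at this
    obtain ⟨e, rfl⟩ := this
    exact e.2)
  obtain ⟨x, hx, y, hy, rfl⟩ : b ∈ S := hS ▸ Algebra.mem_top
  have hxy : x * y * a ∈ F₀ := by
    have := F₀.mul_mem (F₀.inv_mem h2') (F₀.sub_mem hb (F₀.add_mem (F₀.mul_mem hx hx)
      (F₀.mul_mem (F₀.mul_mem hy hy) ha)))
    convert this using 1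
    field_simp
    ring
  have ha0 : a ≠ 0 := fun e => ha' (e ▸ F₀.zero_mem)
  rcases eq_or_ne x 0 with rfl | hx0
  · rw [show a⁻¹ * (0 + y * a) = y by field_simp; ring]; exact hy
  rcases eq_or_ne y 0 with rfl | hy0
  · exact absurd (by rw [zero_mul, add_zero]; exact hx) hb'
  · exact absurd (by
      have := F₀.mul_mem (F₀.inv_mem (F₀.mul_mem hx hy)) hxy
      rwa [← mul_assoc, inv_mul_cancel₀ (mul_ne_zero hx0 hy0), one_mul] at this) ha'

variable (hP : ∀ x ∈ ratVec F₀ P, Q x ∈ F₀) (hQ : (QuadraticMap.polarBilin Q).Nondegenerate)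
  (hn : 7 ≤ Fintype.card ι)
include hP hQ hn

/-- The subgroup of isometries fixing the rational vectors has index at most two in the subfield group. -/
theorem inv_mul_mem_ratStab {r : ℕ} (hr : r.Prime) (hcard : Nat.card F = Nat.card F₀ ^ r) {a b : GL ι F}
    (ha : a ∈ Cfsg.Geo.subfieldSubgroup F₀ P) (hb : b ∈ Cfsg.Geo.subfieldSubgroup F₀ P)
    (haI : a ∈ isometryGroup F Q) (hbI : b ∈ isometryGroup F Q) (hiff : a ∈ ratStab F₀ P ↔ b ∈ ratStab F₀ P) :
    a⁻¹ * b ∈ ratStab F₀ P := by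
  by_cases ha1 : a ∈ ratStab F₀ P
  · exact mul_mem (inv_mem ha1) (hiff.1 ha1)
  have hb1 : b ∉ ratStab F₀ P := fun h => ha1 (hiff.2 h)
  obtain ⟨u, t, hu, ht, hQu, -, hut, hu0, -⟩ := exists_rat_line hP hQ hn
  obtain ⟨v, hv, hQv, -, huv⟩ := exists_rat_partner hP hQ (v := (![] : Fin 0 → ι → F)) (fun i => i.elim0) hu hQu
    (fun i => i.elim0) (by simpa using hu0)
  have huvL : u + v ∈ ratVec F₀ P := (ratVec F₀ P).add_mem hu hv
  have hQuv : Q (u + v) = 1 := by rw [Q_add Q, hQu, hQv, huv]; ring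
  have mult : ∀ g ∈ Cfsg.Geo.subfieldSubgroup F₀ P, g ∈ isometryGroup F Q → g ∉ ratStab F₀ P →
      ∃ γ : F, γ ≠ 0 ∧ γ ∉ F₀ ∧ γ * γ ∈ F₀ ∧ ∀ x ∈ ratVec F₀ P, γ⁻¹ • act g x ∈ ratVec F₀ P := by
    intro g hg hgI hg1
    obtain ⟨γ, hγ⟩ := exists_of_mem_subfieldSubgroup F₀ P hg
    obtain ⟨y, hy, e⟩ := hγ _ huvL
    have e1 : γ * γ * Q y = 1 := by rw [← Q_smul Q, ← e, Q_act hgI, hQuv]
    have hγ0 : γ ≠ 0 := fun h => by simp [h] at e1
    refine ⟨γ, hγ0, fun h => hg1 fun x hx => ?_, ?_, fun x hx => ?_⟩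
    · obtain ⟨z, hz, ez⟩ := hγ x hx
      rw [ez]; exact ratVec_smul h hz
    · rw [show γ * γ = (Q y)⁻¹ from eq_inv_of_mul_eq_one_left e1]; exact F₀.inv_mem (hP y hy)
    · obtain ⟨z, hz, ez⟩ := hγ x hx
      rwa [ez, inv_smul_smul₀ hγ0]
  obtain ⟨γ, hγ0, hγ1, hγ2, hγ⟩ := mult a ha haI ha1
  obtain ⟨δ, hδ0, hδ1, hδ2, hδ⟩ := mult b hb hbI hb1
  intro x hx
  have h1 : γ⁻¹ • act b x ∈ ratVec F₀ P := by
    have := ratVec_smul (mul_inv_mem_of_sq hr hcard hγ2 hδ2 hγ1 hδ1) (hδ x hx)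
    rwa [smul_smul, mul_assoc, mul_inv_cancel₀ hδ0, mul_one] at this
  obtain ⟨y, hy, e⟩ := rat_surj (f := fun y => γ⁻¹ • act a y)
    (fun y z e => act_injective a (smul_right_injective _ (inv_ne_zero hγ0) e)) hγ _ h1
  rw [act_mul, ← smul_right_injective _ (inv_ne_zero hγ0) e, act_inv_act]
  exact hy

omit hn in
/-- The support of an element fixing the rational vectors is spanned by rational vectors. -/
theorem exists_rat_range {d : GL ι F} (hd : d ∈ ratStab F₀ P) :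
    ∃ v : Fin (finrank F (LinearMap.range (act d - LinearMap.id))) → ι → F,
      (∀ i, v i ∈ ratVec F₀ P) ∧ LinearMap.range (act d - LinearMap.id) = Submodule.span F (Set.range v) := by
  have hspan : Submodule.span F ((act d - LinearMap.id : (ι → F) →ₗ[F] (ι → F)) '' (ratVec F₀ P : Set (ι → F))) =
      LinearMap.range (act d - LinearMap.id) := by
    refine le_antisymm ?_ ?_
    · rw [Submodule.span_le]
      rintro _ ⟨x, -, rfl⟩
      exact LinearMap.mem_range_self _ x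
    · rintro _ ⟨x, rfl⟩
      obtain ⟨m, c, z, -, hz, rfl⟩ := exists_decomp (F₀ := F₀) (P := P) x
      rw [map_sum]
      refine Submodule.sum_mem _ fun j _ => ?_
      rw [map_smul]
      exact Submodule.smul_mem _ _ (Submodule.subset_span ⟨z j, hz j, rfl⟩)
  obtain ⟨v, hv, hvs, -⟩ := Submodule.exists_fun_fin_finrank_span_eq F
    ((act d - LinearMap.id : (ι → F) →ₗ[F] (ι → F)) '' (ratVec F₀ P : Set (ι → F)))
  have hvs' := hvs.trans hspan
  refine ⟨fun i => v (Fin.cast (by rw [hspan]) i), fun i => ?_, ?_⟩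
  · obtain ⟨x, hx, e⟩ := hv (Fin.cast (by rw [hspan]) i)
    show v _ ∈ _
    rw [← e]
    exact (ratVec F₀ P).sub_mem (hd x hx) hx
  · refine hvs'.symm.trans ?_
    congr 1
    ext y
    constructor
    · rintro ⟨i, rfl⟩; exact ⟨Fin.cast (by rw [hspan]) i, by congr 1⟩
    · rintro ⟨i, rfl⟩; exact ⟨_, rfl⟩

/-- Five rational lines through a rational singular point, in a totally singular subspace. -/
theorem exists_five (hcase : 9 ≤ Fintype.card ι ∨ (2 : F) ≠ 0) :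
    ∃ u ∈ ratVec F₀ P, Q u = 0 ∧ u ≠ 0 ∧ ∃ t : Fin 5 → ι → F, (∀ i, t i ∈ ratVec F₀ P) ∧
      (∀ i, Q (t i) = 0) ∧ (∀ i, B u (t i) = 0) ∧ (∀ i, t i ∉ F ∙ u) ∧
      (∀ i j, i ≠ j → t j - t i ∉ F ∙ u) ∧ ∀ i j, B (t i) (t j) = 0 := by
  rcases hcase with h9 | h2
  · obtain ⟨u, t₁, hu, ht₁, hQu, hQt₁, hut₁, hu0, ht₁n⟩ := exists_rat_line hP hQ hn
    have hv2 : ∀ i, ![u, t₁] i ∈ ratVec F₀ P := by intro i; fin_cases i <;> assumption
    obtain ⟨t₂, ht₂, hQt₂, -, htv₂, ht₂n⟩ := exists_rat_singular hP hQ ![u, t₁] hv2 ![u, t₁] hv2 (by omega)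
    have hv3 : ∀ i, ![u, t₁, t₂] i ∈ ratVec F₀ P := by intro i; fin_cases i <;> assumption
    obtain ⟨t₃, ht₃, hQt₃, -, htv₃, ht₃n⟩ := exists_rat_singular hP hQ ![u, t₁, t₂] hv3 ![u, t₁, t₂] hv3 (by omega)
    have hut₂ : B u t₂ = 0 := htv₂ 0
    have h12 : B t₁ t₂ = 0 := htv₂ 1
    have hut₃ : B u t₃ = 0 := htv₃ 0
    have h13 : B t₁ t₃ = 0 := htv₃ 1
    have h23 : B t₂ t₃ = 0 := htv₃ 2
    have indep : ∀ a b c : F, a • t₁ + b • t₂ + c • t₃ ∈ F ∙ u → a = 0 ∧ b = 0 ∧ c = 0 := by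
      intro a b c h
      obtain ⟨d, hd⟩ := Submodule.mem_span_singleton.1 h
      have hc : c = 0 := by
        by_contra hc
        refine ht₃n (Submodule.mem_span_range_iff_exists_fun _ |>.2 ⟨![c⁻¹ * d, -(c⁻¹ * a), -(c⁻¹ * b)], ?_⟩)
        rw [Fin.sum_univ_three]
        calc (c⁻¹ * d) • u + (-(c⁻¹ * a)) • t₁ + (-(c⁻¹ * b)) • t₂ = c⁻¹ • (d • u - a • t₁ - b • t₂) := by module
          _ = c⁻¹ • (c • t₃) := by rw [hd]; congr 1; abel
          _ = t₃ := inv_smul_smul₀ hc t₃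
      subst hc
      have hb : b = 0 := by
        by_contra hb
        refine ht₂n (Submodule.mem_span_range_iff_exists_fun _ |>.2 ⟨![b⁻¹ * d, -(b⁻¹ * a)], ?_⟩)
        rw [Fin.sum_univ_two]
        calc (b⁻¹ * d) • u + (-(b⁻¹ * a)) • t₁ = b⁻¹ • (d • u - a • t₁) := by module
          _ = b⁻¹ • (b • t₂) := by rw [hd]; congr 1; module
          _ = t₂ := inv_smul_smul₀ hb t₂
      subst hb
      refine ⟨?_, rfl, rfl⟩
      by_contra ha
      refine ht₁n (Submodule.mem_span_singleton.2 ⟨a⁻¹ * d, ?_⟩)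
      calc (a⁻¹ * d) • u = a⁻¹ • (d • u) := by module
        _ = a⁻¹ • (a • t₁) := by rw [hd]; congr 1; module
        _ = t₁ := inv_smul_smul₀ ha t₁
    let co : Fin 5 → Fin 3 → F := ![![1, 0, 0], ![0, 1, 0], ![0, 0, 1], ![1, 1, 0], ![1, 0, 1]]
    let t : Fin 5 → ι → F := fun i => co i 0 • t₁ + co i 1 • t₂ + co i 2 • t₃
    have hco : ∀ i j, co i j ∈ F₀ := by
      intro i j; fin_cases i <;> fin_cases j <;> simp [co, F₀.one_mem, F₀.zero_mem]
    have htL : ∀ i, t i ∈ ratVec F₀ P := fun i => (ratVec F₀ P).add_mem ((ratVec F₀ P).add_mem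
      (ratVec_smul (hco i 0) ht₁) (ratVec_smul (hco i 1) ht₂)) (ratVec_smul (hco i 2) ht₃)
    have hQt : ∀ i, Q (t i) = 0 := fun i => by
      simp only [t, Q_add Q, Q_smul Q, B_add_left Q, B_smul_left Q, B_smul_right Q, hQt₁, hQt₂, hQt₃, h12, h13, h23]
      ring
    have hut : ∀ i, B u (t i) = 0 := fun i => by
      simp only [t, B_add_right Q, B_smul_right Q, hut₁, hut₂, hut₃]; ring
    have htn : ∀ i, t i ∉ F ∙ u := fun i h => by
      have := indep _ _ _ h
      fin_cases i <;> simp [co] at this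
    have htd : ∀ i j, i ≠ j → t j - t i ∉ F ∙ u := fun i j hij h => by
      have h' : (co j 0 - co i 0) • t₁ + (co j 1 - co i 1) • t₂ + (co j 2 - co i 2) • t₃ ∈ F ∙ u := by
        convert h using 1; simp only [t]; module
      have := indep _ _ _ h'
      fin_cases i <;> fin_cases j <;> simp [co] at this hij
    refine ⟨u, hu, hQu, hu0, t, htL, hQt, hut, htn, htd, fun i j => ?_⟩
    simp only [t, B_add_left Q, B_add_right Q, B_smul_left Q, B_smul_right Q, B_self_of_singular Q hQt₁,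
      B_self_of_singular Q hQt₂, B_self_of_singular Q hQt₃, h12, h13, h23, B_comm Q t₂ t₁, B_comm Q t₃ t₁,
      B_comm Q t₃ t₂]
    ring
  obtain ⟨u, t₁, hu, ht₁, hQu, hQt₁, hut₁, hu0, ht₁n⟩ := exists_rat_line hP hQ hn
  have hv2 : ∀ i, ![u, t₁] i ∈ ratVec F₀ P := by intro i; fin_cases i <;> assumption
  obtain ⟨t₂, ht₂, hQt₂, -, htv₂, ht₂n⟩ := exists_rat_singular hP hQ ![u, t₁] hv2 ![u, t₁] hv2 (by omega)
  have h12 : B t₁ t₂ = 0 := htv₂ 1
  have hut₂ : B u t₂ = 0 := htv₂ 0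
  have indep : ∀ a b : F, a • t₁ + b • t₂ ∈ F ∙ u → a = 0 ∧ b = 0 := by
    intro a b h
    obtain ⟨d, hd⟩ := Submodule.mem_span_singleton.1 h
    have hb : b = 0 := by
      by_contra hb
      refine ht₂n (mem_span_pair_iff_range.2 ⟨b⁻¹ * d, -(b⁻¹ * a), ?_⟩)
      calc (b⁻¹ * d) • u + (-(b⁻¹ * a)) • t₁ = b⁻¹ • (d • u - a • t₁) := by module
        _ = b⁻¹ • (b • t₂) := by rw [hd]; congr 1; module
        _ = t₂ := inv_smul_smul₀ hb t₂
    subst hb
    refine ⟨?_, rfl⟩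
    by_contra ha
    refine ht₁n (Submodule.mem_span_singleton.2 ⟨a⁻¹ * d, ?_⟩)
    calc (a⁻¹ * d) • u = a⁻¹ • (d • u) := by module
      _ = a⁻¹ • (a • t₁) := by rw [hd]; congr 1; module
      _ = t₁ := inv_smul_smul₀ ha t₁
  let co : Fin 5 → Fin 2 → F := ![![1, 0], ![0, 1], ![1, 1], ![1, -1], ![-1, 0]]
  let t : Fin 5 → ι → F := fun i => co i 0 • t₁ + co i 1 • t₂
  have hco : ∀ i j, co i j ∈ F₀ := by
    intro i j
    fin_cases i <;> fin_cases j <;> simp [co, F₀.one_mem, F₀.zero_mem]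
  have htL : ∀ i, t i ∈ ratVec F₀ P := fun i =>
    (ratVec F₀ P).add_mem (ratVec_smul (hco i 0) ht₁) (ratVec_smul (hco i 1) ht₂)
  have hne : ∀ i j, i ≠ j → co j 0 - co i 0 ≠ 0 ∨ co j 1 - co i 1 ≠ 0 := by
    have e2 : (1 : F) + 1 ≠ 0 := by rwa [one_add_one_eq_two]
    intro i j hij
    fin_cases i <;> fin_cases j <;> simp [co, sub_eq_zero, eq_neg_iff_add_eq_zero, neg_eq_iff_add_eq_zero, e2]
      at hij ⊢
  refine ⟨u, hu, hQu, hu0, t, htL, fun i => ?_, fun i => ?_, fun i h => ?_, fun i j hij h => ?_, fun i j => ?_⟩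
  · simp only [t, Q_add Q, Q_smul Q, B_smul_left Q, B_smul_right Q, hQt₁, hQt₂, h12]; ring
  · simp only [t, B_add_right Q, B_smul_right Q, hut₁, hut₂]; ring
  · have := indep _ _ h
    fin_cases i <;> simp [co] at this
  · have h' : (co j 0 - co i 0) • t₁ + (co j 1 - co i 1) • t₂ ∈ F ∙ u := by
      convert h using 1; simp only [t]; module
    obtain ⟨ha, hb⟩ := indep _ _ h'
    exact (hne i j hij).elim (fun f => f ha) fun f => f hb
  · simp only [t, B_add_left Q, B_add_right Q, B_smul_left Q, B_smul_right Q, B_self_of_singular Q hQt₁,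
      B_self_of_singular Q hQt₂, h12, B_comm Q t₂ t₁]
    ring

omit hn in
/-- In degree seven two totally singular lines spanning a rational four-space leave rational vectors orthogonal to it
that are not all orthogonal to each other. -/
theorem exists_pair_of_lines (h7 : Fintype.card ι = 7) {x a x' a' : ι → F} (hx : Q x = 0)
    (ha : Q a = 0) (hxa : B x a = 0) (hx' : Q x' = 0) (ha' : Q a' = 0) (hxa' : B x' a' = 0) {k : ℕ}
    {v : Fin k → ι → F} (hv : ∀ i, v i ∈ ratVec F₀ P)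
    (hR : Submodule.span F (Set.range v) ≤ Submodule.span F (Set.range ![x, a, x', a']))
    (hdim : finrank F (Submodule.span F (Set.range v)) = 4) :
    ∃ w ∈ ratVec F₀ P, ∃ w' ∈ ratVec F₀ P, (∀ i, B (v i) w = 0) ∧ (∀ i, B (v i) w' = 0) ∧ B w w' ≠ 0 := by
  by_contra hno
  push Not at hno
  set R := Submodule.span F (Set.range v) with hRdef
  have hperp : ∀ y ∈ perp Q R, ∃ (m : ℕ) (c : Fin m → F) (z : Fin m → ι → F),
      (∀ j, z j ∈ ratVec F₀ P) ∧ (∀ i j, B (v i) (z j) = 0) ∧ y = ∑ j, c j • z j := by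
    intro y hy
    obtain ⟨m, c, z, hc, hz, rfl⟩ := exists_decomp (F₀ := F₀) (P := P) y
    refine ⟨m, c, z, hz, fun i j => coeff_zero hc (fun j => B_rat hP (hv i) (hz j)) ?_ j, rfl⟩
    rw [← (show B (v i) (∑ j, c j • z j) = 0 from hy _ (Submodule.subset_span ⟨i, rfl⟩))]
    show _ = QuadraticMap.polarBilin Q _ _
    simp [map_sum, mul_comm]
  have hle : perp Q R ≤ perp Q (perp Q R) := by
    intro y hy w hw
    obtain ⟨m, c, z, hz, hzv, rfl⟩ := hperp y hy
    obtain ⟨m', c', z', hz', hzv', rfl⟩ := hperp w hw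
    show QuadraticMap.polarBilin Q _ _ = 0
    simp only [map_sum, map_smul, LinearMap.sum_apply, LinearMap.smul_apply, QuadraticMap.polarBilin_apply_apply]
    simp [fun i j => hno _ (hz' i) _ (hz j) (fun l => hzv' l i) (fun l => hzv l j)]
  rw [perp_perp hQ R] at hle
  have hD : finrank F (perp Q R) = 3 := by rw [finrank_perp hQ R, hdim, h7]
  set L := Submodule.span F (Set.range ![x, a]) with hL
  set L' := Submodule.span F (Set.range ![x', a']) with hL'
  have hiso : ∀ x a : ι → F, Q x = 0 → Q a = 0 → B x a = 0 →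
      ∀ p ∈ Submodule.span F (Set.range ![x, a]), ∀ q ∈ Submodule.span F (Set.range ![x, a]), B p q = 0 := by
    intro x a hx ha hxa p hp q hq
    obtain ⟨s, t, rfl⟩ := mem_span_pair_iff_range.1 hp
    obtain ⟨s', t', rfl⟩ := mem_span_pair_iff_range.1 hq
    simp only [B_add_left Q, B_add_right Q, B_smul_left Q, B_smul_right Q, B_self_of_singular Q hx,
      B_self_of_singular Q ha, hxa, B_comm Q a x]
    ring
  have hLs := hiso x a hx ha hxa
  have hLs' := hiso x' a' hx' ha' hxa'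
  rw [← hL] at hLs
  rw [← hL'] at hLs'
  have hsum : Submodule.span F (Set.range ![x, a, x', a']) ≤ L ⊔ L' := by
    rw [Submodule.span_le]
    rintro _ ⟨i, rfl⟩
    fin_cases i
    · exact Submodule.mem_sup_left (Submodule.subset_span ⟨0, rfl⟩)
    · exact Submodule.mem_sup_left (Submodule.subset_span ⟨1, rfl⟩)
    · exact Submodule.mem_sup_right (Submodule.subset_span ⟨0, rfl⟩)
    · exact Submodule.mem_sup_right (Submodule.subset_span ⟨1, rfl⟩)
  have hsl : finrank F L ≤ 2 := finrank_span_list_le _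
  have hsl' : finrank F L' ≤ 2 := finrank_span_list_le _
  have hLL' : finrank F ↥(L ⊔ L') ≤ 4 := by
    have := Submodule.finrank_sup_add_finrank_inf_eq L L'; omega
  have hReq : R = L ⊔ L' := Submodule.eq_of_le_of_finrank_le (hR.trans hsum) (by omega)
  have hrad : perp Q R ≤ (L ⊓ perp Q R) ⊔ (L' ⊓ perp Q R) := by
    intro y hy
    obtain ⟨p, hp, q, hq, rfl⟩ := Submodule.mem_sup.1 (hReq.le (hle hy))
    refine Submodule.add_mem_sup ⟨hp, fun z hz => ?_⟩ ⟨hq, fun z hz => ?_⟩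
    · obtain ⟨z₁, hz₁, z₂, hz₂, rfl⟩ := Submodule.mem_sup.1 (hReq.le hz)
      have e : B z₂ (p + q) = 0 := hy z₂ (hReq.ge (Submodule.mem_sup_right hz₂))
      rw [B_add_right Q, hLs' z₂ hz₂ q hq, add_zero] at e
      show B (z₁ + z₂) p = 0
      rw [B_add_left Q, hLs z₁ hz₁ p hp, e, add_zero]
    · obtain ⟨z₁, hz₁, z₂, hz₂, rfl⟩ := Submodule.mem_sup.1 (hReq.le hz)
      have e : B z₁ (p + q) = 0 := hy z₁ (hReq.ge (Submodule.mem_sup_left hz₁))
      rw [B_add_right Q, hLs z₁ hz₁ p hp, zero_add] at e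
      show B (z₁ + z₂) q = 0
      rw [B_add_left Q, e, hLs' z₂ hz₂ q hq, add_zero]
  have hcross : ∀ p ∈ L, ∀ q ∈ L', B p q = 0 := by
    have h1 := Submodule.finrank_mono hrad
    have h2' := Submodule.finrank_sup_add_finrank_inf_eq (L ⊓ perp Q R) (L' ⊓ perp Q R)
    have h3 : finrank F ↥(L ⊓ perp Q R) ≤ finrank F L := Submodule.finrank_mono inf_le_left
    have h4 : finrank F ↥(L' ⊓ perp Q R) ≤ finrank F L' := Submodule.finrank_mono inf_le_left
    have : finrank F L ≤ finrank F ↥(L ⊓ perp Q R) ∨ finrank F L' ≤ finrank F ↥(L' ⊓ perp Q R) := by omega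
    rcases this with h | h
    · intro p hp q hq
      rw [← Submodule.eq_of_le_of_finrank_le inf_le_left h] at hp
      exact (B_comm Q p q).trans (hp.2 q (hReq.ge (Submodule.mem_sup_right hq)))
    · intro p hp q hq
      rw [← Submodule.eq_of_le_of_finrank_le inf_le_left h] at hq
      exact hq.2 p (hReq.ge (Submodule.mem_sup_left hp))
  have hall : R ≤ perp Q R := by
    intro y hy z hz
    obtain ⟨p, hp, q, hq, rfl⟩ := Submodule.mem_sup.1 (hReq.le hy)
    obtain ⟨p', hp', q', hq', rfl⟩ := Submodule.mem_sup.1 (hReq.le hz)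
    show B (p' + q') (p + q) = 0
    rw [B_add_left Q, B_add_right Q, B_add_right Q, hLs p' hp' p hp, hcross p' hp' q hq,
      B_comm Q q' p, hcross p hp q' hq', hLs' q' hq' q hq]
    ring
  have := Submodule.finrank_mono hall
  omega

variable {M : Subgroup (GL ι F)} (hMΩ : M ≤ Cfsg.Geo.omegaGL Q)
  (hS : ∀ u ∈ ratVec F₀ P, ∀ w ∈ ratVec F₀ P, sg Q u w ∈ M) (hns : ¬ Seed Q F₀ P M)
include hMΩ hS hns

theorem le_subfield_of_noSeed (hcase : 9 ≤ Fintype.card ι ∨ Fintype.card ι = 7 ∧ (2 : F) ≠ 0) {r : ℕ} (hr : r.Prime) (hcard : Nat.card F = Nat.card F₀ ^ r) :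
    M ≤ Cfsg.Geo.subfieldSubgroup F₀ P := by
  classical
  by_contra hnle
  obtain ⟨g₀, hg₀M, hg₀⟩ := SetLike.not_le_iff_exists.1 hnle
  have hI : ∀ g ∈ M, g ∈ isometryGroup F Q := fun g hg => omega_le_iso (hMΩ hg)
  -- five rational lines through a rational point
  obtain ⟨u, hu, hQu, hu0, t, htL, hQt, hut, htn, htd, htt⟩ := exists_five hP hQ hn (hcase.imp id And.right)
  -- the colliding pair of conjugates
  set H1 : Subgroup M := (ratStab F₀ P).subgroupOf M with hH1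
  set H : Subgroup M := (Cfsg.Geo.subfieldSubgroup F₀ P).subgroupOf M with hH
  let f : M ⧸ H1 → (M ⧸ H) × Bool := fun q =>
    (QuotientGroup.mk q.out, decide (((QuotientGroup.mk q.out : M ⧸ H).out⁻¹ * q.out) ∈ H1))
  have hf : Function.Injective f := by
    intro q q' e
    rw [← q.out_eq', ← q'.out_eq', QuotientGroup.eq]
    obtain ⟨e1, e2⟩ := Prod.ext_iff.1 e
    simp only [f] at e1 e2
    rw [← e1, decide_eq_decide] at e2
    set o := (QuotientGroup.mk q.out : M ⧸ H).out with ho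
    have ho1 : o⁻¹ * q.out ∈ H := QuotientGroup.eq.1 (by rw [ho, QuotientGroup.out_eq'])
    have ho2 : o⁻¹ * q'.out ∈ H := QuotientGroup.eq.1 (by rw [ho, QuotientGroup.out_eq', e1])
    have key := inv_mul_mem_ratStab hP hQ hn hr hcard (a := ((o⁻¹ * q.out : M) : GL ι F))
      (b := ((o⁻¹ * q'.out : M) : GL ι F)) ho1 ho2 (hI _ (o⁻¹ * q.out).2) (hI _ (o⁻¹ * q'.out).2) e2
    rw [show q.out⁻¹ * q'.out = (o⁻¹ * q.out)⁻¹ * (o⁻¹ * q'.out) by group]
    exact key
  haveI : Finite M := Subgroup.instFiniteSubtypeMem M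
  haveI := Fintype.ofFinite (M ⧸ H)
  haveI := Fintype.ofFinite (M ⧸ H1)
  let one : M ⧸ H := QuotientGroup.mk 1
  have hN : 2 ≤ Fintype.card (M ⧸ H) := by
    refine Fintype.one_lt_card_iff.2 ⟨QuotientGroup.mk ⟨g₀, hg₀M⟩, one, fun e => hg₀ ?_⟩
    have h1 := QuotientGroup.eq.1 e
    rw [mul_one] at h1
    exact inv_mem_iff.1 h1
  let c : Fin 5 → M := fun i => ⟨sg Q u (t i), hS u hu _ (htL i)⟩
  obtain ⟨⟨⟨q₁, hq₁⟩, i⟩, ⟨⟨q₂, hq₂⟩, j⟩, hne, heq⟩ := Fintype.exists_ne_map_eq_of_card_lt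
    (fun p : {q : M ⧸ H // q ≠ one} × Fin 5 => (QuotientGroup.mk (p.1.1.out * c p.2 * p.1.1.out⁻¹) : M ⧸ H1))
    (by
      have h1 := Fintype.card_le_of_injective f hf
      rw [Fintype.card_prod, Fintype.card_bool] at h1
      rw [Fintype.card_prod, Fintype.card_fin, Fintype.card_subtype_compl, Fintype.card_subtype_eq]
      omega)
  have hout : ∀ q : M ⧸ H, q ≠ one → (q.out : GL ι F) ∉ Cfsg.Geo.subfieldSubgroup F₀ P := by
    intro q hq h
    apply hq
    rw [← q.out_eq']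
    exact QuotientGroup.eq.2 (by rw [mul_one]; exact H.inv_mem h)
  set g₁ : GL ι F := ((q₁.out : M) : GL ι F) with hg₁
  set g₂ : GL ι F := ((q₂.out : M) : GL ι F) with hg₂
  have hg₁M : g₁ ∈ M := q₁.out.2
  have hg₂M : g₂ ∈ M := q₂.out.2
  have hg₁I := hI _ hg₁M
  have hg₂I := hI _ hg₂M
  obtain ⟨d, hddef⟩ : ∃ d, d = (g₁ * sg Q u (t i) * g₁⁻¹)⁻¹ * (g₂ * sg Q u (t j) * g₂⁻¹) := ⟨_, rfl⟩
  have hd : d ∈ ratStab F₀ P := by
    rw [hddef]; exact Subgroup.mem_subgroupOf.1 (QuotientGroup.eq.1 heq)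
  obtain ⟨v, hv, hR⟩ := exists_rat_range hP hQ hd
  have finish : (finrank F (LinearMap.range (act d - LinearMap.id)) ≤ 3 ∨ Wide Q F₀ P v) →
      act g₁ u ∈ LinearMap.range (act d - LinearMap.id) → False := fun hw h =>
    hout q₁ hq₁ (mem_subfield_of_point hP hQ hn hS hns hg₁M hg₁I hu hQu hu0
      (hw.elim (fun h3 => wide_of_le hP hQ hn hv (by omega)) id) hv (hR ▸ h))
  rw [conj_sg Q hg₁I, conj_sg Q hg₂I] at hddef
  set x₁ := act g₁ u with hx₁
  set a₁ := act g₁ (t i) with ha₁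
  set x₂ := act g₂ u with hx₂
  set a₂ := act g₂ (t j) with ha₂
  have hQx₁ : Q x₁ = 0 := by rw [hx₁, Q_act hg₁I, hQu]
  have hQa₁ : Q a₁ = 0 := by rw [ha₁, Q_act hg₁I, hQt]
  have hQx₂ : Q x₂ = 0 := by rw [hx₂, Q_act hg₂I, hQu]
  have hQa₂ : Q a₂ = 0 := by rw [ha₂, Q_act hg₂I, hQt]
  have h1 : B x₁ a₁ = 0 := by rw [hx₁, ha₁, B_act hg₁I, hut]
  have h2 : B x₂ a₂ = 0 := by rw [hx₂, ha₂, B_act hg₂I, hut]
  have hx₁0 : x₁ ≠ 0 := fun e => hu0 (act_injective g₁ (e.trans (map_zero _).symm))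
  have ha₁n : a₁ ∉ F ∙ x₁ := fun h => by
    obtain ⟨s, hs⟩ := Submodule.mem_span_singleton.1 h
    exact htn i (Submodule.mem_span_singleton.2 ⟨s, act_injective g₁ (by rw [map_smul]; exact hs)⟩)
  have ha₂n : a₂ ∉ F ∙ x₂ := fun h => by
    obtain ⟨s, hs⟩ := Submodule.mem_span_singleton.1 h
    exact htn j (Submodule.mem_span_singleton.2 ⟨s, act_injective g₂ (by rw [map_smul]; exact hs)⟩)
  by_cases hq : q₁ = q₂
  · subst hq
    have hij : i ≠ j := fun e => hne (by rw [e])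
    set y := a₂ - a₁ with hy
    have hxy : B x₁ y = 0 := by rw [hy, B_sub_right Q, h1]; simpa [hx₁, hx₂] using h2
    have hQy : Q y = 0 := by
      rw [hy, ha₁, ha₂, ← map_sub, Q_act hg₁I, Q_sub Q, hQt, hQt]
      rw [htt]
      ring
    have hde : d = sg Q x₁ y := by
      rw [hddef, ← sg_neg Q hQx₁ h1, hy, sub_eq_add_neg, add_comm a₂]
      exact sg_add Q hQx₁ (by rw [B_neg_right Q, h1, neg_zero]) (by simpa [hx₁, hx₂] using h2)
    have hyn : y ∉ F ∙ x₁ := fun h => by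
      obtain ⟨s, hs⟩ := Submodule.mem_span_singleton.1 h
      exact htd i j hij (Submodule.mem_span_singleton.2 ⟨s, act_injective g₁ (by
        rw [map_smul, map_sub]; exact hs)⟩)
    refine finish (Or.inl ?_) ?_
    · have hle : LinearMap.range (act d - LinearMap.id) ≤ Submodule.span F (Set.range ![x₁, y]) := by
        rintro _ ⟨z, rfl⟩
        rw [LinearMap.sub_apply, LinearMap.id_apply, hde, act_sg_long hQx₁ hQy hxy, mem_span_pair_iff_range]
        exact ⟨-B y z, B x₁ z, by module⟩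
      have h3 := Submodule.finrank_mono hle
      have h4 := finrank_span_list_le ![x₁, y]
      omega
    · obtain ⟨z, hz, hz1⟩ := exists_perp_one hQ hyn
      have hxz : B x₁ z = 0 := hz x₁ (Submodule.mem_span_singleton_self x₁)
      refine ⟨-z, ?_⟩
      rw [map_neg, LinearMap.sub_apply, LinearMap.id_apply, hde, act_sg_long hQx₁ hQy hxy, hxz, hz1]
      module
  have hk : g₂⁻¹ * g₁ ∉ Cfsg.Geo.subfieldSubgroup F₀ P := fun h => hq (by
    rw [← q₁.out_eq', ← q₂.out_eq']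
    exact QuotientGroup.eq.2 (by
      have := H.inv_mem (show q₂.out⁻¹ * q₁.out ∈ H from h)
      rwa [_root_.mul_inv_rev, inv_inv] at this))
  have hna₁ : B x₁ (-a₁) = 0 := by rw [B_neg_right Q, h1, neg_zero]
  have hdz : ∀ z, act d z = act (sg Q x₁ (-a₁)) (z + (B x₂ z • a₂ - B a₂ z • x₂)) := by
    intro z
    rw [hddef, ← sg_neg Q hQx₁ h1, act_mul, act_sg_long hQx₂ hQa₂ h2, add_sub_assoc]
  have he₁ : ∀ z, act (sg Q x₁ (-a₁)) z = z + (B a₁ z • x₁ - B x₁ z • a₁) := by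
    intro z
    rw [act_sg_long hQx₁ (by rw [Q_neg Q, hQa₁]) hna₁, B_neg_left Q]
    module
  have hrank : finrank F (LinearMap.range (act d - LinearMap.id)) ≤ 4 := by
    have hle : LinearMap.range (act d - LinearMap.id) ≤ Submodule.span F (Set.range ![x₁, a₁, x₂, a₂]) := by
      rintro _ ⟨z, rfl⟩
      rw [LinearMap.sub_apply, LinearMap.id_apply, hdz, he₁, Submodule.mem_span_range_iff_exists_fun]
      refine ⟨![B a₁ (z + (B x₂ z • a₂ - B a₂ z • x₂)), -B x₁ (z + (B x₂ z • a₂ - B a₂ z • x₂)),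
        -B a₂ z, B x₂ z], ?_⟩
      rw [Fin.sum_univ_four]
      simp only [Matrix.cons_val]
      module
    have h3 := Submodule.finrank_mono hle
    have h4 := finrank_span_list_le ![x₁, a₁, x₂, a₂]
    omega
  have hwide : finrank F (LinearMap.range (act d - LinearMap.id)) ≤ 3 ∨ Wide Q F₀ P v := by
    rcases Nat.lt_or_ge (finrank F (LinearMap.range (act d - LinearMap.id))) 4 with hlt | hge
    · exact Or.inl (by omega)
    refine Or.inr ?_
    rcases hcase with h9 | ⟨h7, h2'⟩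
    · exact wide_of_le hP hQ hn hv (by omega)
    refine exists_rat_admissible hP hQ v hv (by omega) (Or.inr h2')
      (exists_pair_of_lines hP hQ h7 hQx₁ hQa₁ h1 hQx₂ hQa₂ h2 hv (hR.ge.trans ?_) (by rw [← hR]; omega))
    rintro _ ⟨z, rfl⟩
    rw [LinearMap.sub_apply, LinearMap.id_apply, hdz, he₁, Submodule.mem_span_range_iff_exists_fun]
    refine ⟨![B a₁ (z + (B x₂ z • a₂ - B a₂ z • x₂)), -B x₁ (z + (B x₂ z • a₂ - B a₂ z • x₂)),
      -B a₂ z, B x₂ z], ?_⟩
    rw [Fin.sum_univ_four]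
    simp only [Matrix.cons_val]
    module
  by_cases htest : a₁ ∈ Submodule.span F (Set.range ![x₁, x₂, a₂])
  swap
  · obtain ⟨z, hz, hz1⟩ := exists_perp_one hQ htest
    rw [mem_perp_span] at hz
    have k1 : B x₁ z = 0 := hz x₁ ⟨0, rfl⟩
    have k2 : B x₂ z = 0 := hz x₂ ⟨1, rfl⟩
    have k3 : B a₂ z = 0 := hz a₂ ⟨2, rfl⟩
    refine finish hwide ⟨z, ?_⟩
    rw [LinearMap.sub_apply, LinearMap.id_apply, hdz, k2, k3, zero_smul, zero_smul, sub_zero, add_zero, he₁,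
      k1, hz1]
    module
  obtain ⟨e, he⟩ := (Submodule.mem_span_range_iff_exists_fun _).1 htest
  rw [Fin.sum_univ_three] at he
  simp only [Matrix.cons_val] at he
  set P₀ := a₁ - e 0 • x₁ with hP₀
  have hP₀B : P₀ = e 1 • x₂ + e 2 • a₂ := by rw [hP₀, ← he]; abel
  have hP₀0 : P₀ ≠ 0 := fun h => ha₁n (Submodule.mem_span_singleton.2 ⟨e 0, (sub_eq_zero.1 h).symm⟩)
  have hx₁B : x₁ ∉ Submodule.span F (Set.range ![x₂, a₂]) := by
    intro h
    obtain ⟨s, s', hs⟩ := mem_span_pair_iff_range.1 h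
    refine hk (mem_subfield_of_point hP hQ hn hS hns (mul_mem (inv_mem hg₂M) hg₁M)
      (mul_mem (inv_mem hg₂I) hg₁I) hu hQu hu0 (k := 2) (v := ![u, t j])
      (wide_of_le hP hQ hn (by intro l; fin_cases l; exacts [hu, htL j]) (by omega))
      (by intro l; fin_cases l; exacts [hu, htL j]) ?_)
    rw [act_mul, ← hx₁, ← hs, map_add, map_smul, map_smul, hx₂, ha₂, act_inv_act, act_inv_act]
    exact mem_span_pair_iff_range.2 ⟨s, s', rfl⟩
  have hxP : B x₁ P₀ = 0 := by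
    rw [hP₀, B_sub_right Q, B_smul_right Q, h1, B_self_of_singular Q hQx₁]; ring
  have haP : B a₁ P₀ = 0 := by
    rw [hP₀, B_sub_right Q, B_smul_right Q, B_self_of_singular Q hQa₁, B_comm Q a₁ x₁, h1]; ring
  have hQP : Q P₀ = 0 := by
    rw [hP₀, Q_sub Q, Q_smul Q, B_smul_right Q, hQa₁, hQx₁, B_comm Q a₁ x₁, h1]; ring
  have hPR : P₀ ∈ LinearMap.range (act d - LinearMap.id) := by
    obtain ⟨z, kx, kP, kne⟩ : ∃ z, B x₁ z = 0 ∧ B P₀ z = 0 ∧ ¬ (B x₂ z = 0 ∧ B a₂ z = 0) := by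
      by_contra hno
      push Not at hno
      have key : ∀ y ∈ ({x₂, a₂} : Set (ι → F)), ∃ b : F, b • P₀ = y := by
        intro y hy
        have hy' : y ∈ Submodule.span F (Set.range ![x₁, P₀]) := by
          by_contra hyn
          obtain ⟨z, hz, hz1⟩ := exists_perp_one hQ hyn
          rw [mem_perp_span] at hz
          obtain ⟨k2, k3⟩ := hno z (hz x₁ ⟨0, rfl⟩) (hz P₀ ⟨1, rfl⟩)
          rcases hy with rfl | hy
          · rw [k2] at hz1; exact zero_ne_one hz1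
          · rw [Set.mem_singleton_iff.1 hy, k3] at hz1; exact zero_ne_one hz1
        obtain ⟨a, b, hab⟩ := mem_span_pair_iff_range.1 hy'
        refine ⟨b, ?_⟩
        rcases eq_or_ne a 0 with rfl | ha
        · rwa [zero_smul, zero_add] at hab
        · exfalso
          apply hx₁B
          have hyB : y ∈ Submodule.span F (Set.range ![x₂, a₂]) := by
            rcases hy with rfl | hy
            · exact Submodule.subset_span ⟨0, rfl⟩
            · rw [Set.mem_singleton_iff.1 hy]; exact Submodule.subset_span ⟨1, rfl⟩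
          rw [show x₁ = a⁻¹ • (y - b • P₀) by rw [← hab, add_sub_cancel_right, inv_smul_smul₀ ha]]
          exact Submodule.smul_mem _ _ (Submodule.sub_mem _ hyB (Submodule.smul_mem _ _
            (hP₀B ▸ mem_span_pair_iff_range.2 ⟨_, _, rfl⟩)))
      obtain ⟨b, hb⟩ := key x₂ (Set.mem_insert _ _)
      obtain ⟨b', hb'⟩ := key a₂ (Set.mem_insert_of_mem _ rfl)
      rcases eq_or_ne b 0 with rfl | hb0
      · rw [zero_smul] at hb
        exact hu0 (act_injective g₂ (hb.symm.trans (map_zero _).symm))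
      · exact ha₂n (Submodule.mem_span_singleton.2 ⟨b' * b⁻¹, by
          rw [← hb, smul_smul, mul_assoc, inv_mul_cancel₀ hb0, mul_one, hb']⟩)
    have hrel : e 1 * B x₂ z + e 2 * B a₂ z = 0 := by
      rw [hP₀B, B_add_left Q, B_smul_left Q, B_smul_left Q] at kP; exact kP
    obtain ⟨μ, hμ, hμ0⟩ : ∃ μ : F, B x₂ z • a₂ - B a₂ z • x₂ = μ • P₀ ∧ μ ≠ 0 := by
      rcases eq_or_ne (e 2) 0 with he2 | he2
      · have he1 : e 1 ≠ 0 := fun h => hP₀0 (by rw [hP₀B, h, he2]; simp)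
        have hx2z : B x₂ z = 0 := by simpa [he2, he1] using hrel
        refine ⟨-B a₂ z / e 1, ?_, div_ne_zero (neg_ne_zero.2 fun h => kne ⟨hx2z, h⟩) he1⟩
        rw [hP₀B, hx2z, he2]
        match_scalars <;> field_simp <;> ring
      · refine ⟨B x₂ z / e 2, ?_, div_ne_zero (fun h => kne ⟨h, ?_⟩) he2⟩
        · rw [hP₀B]
          match_scalars
          · field_simp
          · field_simp
            linear_combination -hrel
        · simpa [h, he2] using hrel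
    have kA : B a₁ z = 0 := by
      rw [show a₁ = P₀ + e 0 • x₁ by rw [hP₀]; abel, B_add_left Q, B_smul_left Q, kP, kx]; ring
    refine ⟨μ⁻¹ • z, ?_⟩
    rw [map_smul, LinearMap.sub_apply, LinearMap.id_apply, hdz, hμ, he₁, B_add_right Q, B_add_right Q,
      B_smul_right Q, B_smul_right Q, kA, kx, haP, hxP]
    simp [inv_smul_smul₀ hμ0]
  have hmemP : sg Q P₀ (-x₁) ∈ M := by
    rw [← sg_antisymm hQx₁ hQP hxP,
      ← sg_add_smul Q hQx₁ hxP (e 0), show P₀ + e 0 • x₁ = a₁ by rw [hP₀]; abel, ha₁, hx₁, ← conj_sg Q hg₁I]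
    exact mul_mem (mul_mem hg₁M (hS u hu _ (htL i))) (inv_mem hg₁M)
  have hPn : B P₀ (-x₁) = 0 := by rw [B_neg_right Q, B_comm Q P₀ x₁, hxP, neg_zero]
  by_cases hrat : ∀ c : F, c ≠ 0 → c • P₀ ∉ ratVec F₀ P
  · have hle : LinearMap.range (act d - LinearMap.id) ≤ Submodule.span F (Set.range ![x₁, x₂, a₂]) := by
      rintro _ ⟨z, rfl⟩
      rw [LinearMap.sub_apply, LinearMap.id_apply, hdz, he₁]
      have m0 : x₁ ∈ Submodule.span F (Set.range ![x₁, x₂, a₂]) := Submodule.subset_span ⟨0, rfl⟩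
      have m1 : x₂ ∈ Submodule.span F (Set.range ![x₁, x₂, a₂]) := Submodule.subset_span ⟨1, rfl⟩
      have m2 : a₂ ∈ Submodule.span F (Set.range ![x₁, x₂, a₂]) := Submodule.subset_span ⟨2, rfl⟩
      rw [add_assoc, add_sub_cancel_left]
      exact Submodule.add_mem _ (Submodule.sub_mem _ (Submodule.smul_mem _ _ m2) (Submodule.smul_mem _ _ m1))
        (Submodule.sub_mem _ (Submodule.smul_mem _ _ m0) (Submodule.smul_mem _ _ htest))
    have hrank3 := (Submodule.finrank_mono hle).trans (finrank_span_list_le ![x₁, x₂, a₂])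
    rcases Nat.lt_or_ge (finrank F (LinearMap.range (act d - LinearMap.id))) 3 with hlt | hge
    · have := mem_span_of_sg hP hQ hn hS hns (by omega) hv (hR ▸ hPR) hQP hrat hPn hmemP
      exact finish (Or.inl hrank3) (hR ▸ (by simpa using Submodule.neg_mem _ this))
    · refine finish (Or.inl hrank3) ?_
      rw [Submodule.eq_of_le_of_finrank_le hle ((finrank_span_list_le ![x₁, x₂, a₂]).trans hge)]
      exact Submodule.subset_span ⟨0, rfl⟩
  push Not at hrat
  obtain ⟨s, hs0, hs⟩ := hrat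
  have hQp : Q (s • P₀) = 0 := by rw [Q_smul Q, hQP, mul_zero]
  have hp0 : s • P₀ ≠ 0 := smul_ne_zero hs0 hP₀0
  have hBp : B (s • P₀) (-(s⁻¹ • x₁)) = 0 := by
    rw [B_neg_right Q, B_smul_left Q, B_smul_right Q, B_comm Q P₀ x₁, hxP]; ring
  obtain ⟨c', hc'⟩ := rat_of_noSeed hns hs hQp hp0 hBp (by
    rw [sg_smul_left Q hQP (by rw [B_neg_right Q, B_smul_right Q, B_comm Q P₀ x₁, hxP, mul_zero, neg_zero]),
      smul_neg, smul_inv_smul₀ hs0]
    exact hmemP)
  refine hout q₁ hq₁ (mem_subfield_of_point hP hQ hn hS hns hg₁M hg₁I hu hQu hu0 (k := 2)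
    (v := ![s • P₀, -(s⁻¹ • x₁) + c' • (s • P₀)])
    (wide_of_le hP hQ hn (by intro l; fin_cases l; exacts [hs, hc']) (by omega))
    (by intro l; fin_cases l; exacts [hs, hc']) ?_)
  rw [mem_span_pair_iff_range]
  refine ⟨c' * s, -s, ?_⟩
  rw [← hx₁]
  match_scalars <;> field_simp <;> ring

omit hMΩ hS hns in
/-- Subfield groups of prime index are maximal: degree at least nine, or degree seven in odd characteristic. -/
theorem orth_subfield_maximal' (hcase : 9 ≤ Fintype.card ι ∨ Fintype.card ι = 7 ∧ (2 : F) ≠ 0) {r : ℕ}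
    (hr : r.Prime) (hcard : Nat.card F = Nat.card F₀ ^ r) :
    Cfsg.Geo.IsMaximalIn (Cfsg.Geo.omegaGL Q)
      (Cfsg.Geo.subfieldSubgroup F₀ P ⊓ Cfsg.Geo.omegaGL Q) := by
  have hn5 : 5 ≤ Fintype.card ι := by omega
  refine isMaximalIn_inf ?_ fun M hM hMΩ hout => ?_
  · obtain ⟨u, t, hu, ht, hQu, hQt, hut, hu0, htu⟩ := exists_rat_line hP hQ hn
    obtain ⟨c, hc⟩ : ∃ c : F, c ∉ F₀ := by
      by_contra h; push Not at h
      have e : Nat.card F₀ = Nat.card F := Nat.card_congr (Equiv.subtypeUnivEquiv h)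
      rw [hcard] at e
      have h1 := hr.two_le
      have h2 : Nat.card F₀ ^ 1 < Nat.card F₀ ^ r := Nat.pow_lt_pow_right Finite.one_lt_card (by omega)
      rw [pow_one] at h2
      omega
    have hct : B u (c • t) = 0 := by rw [B_smul_right Q, hut, mul_zero]
    refine ⟨sg Q u (c • t), sg_mem_omega hQ hn5 u _, fun h => hc ?_⟩
    obtain ⟨γ, hγ⟩ := exists_of_mem_subfieldSubgroup F₀ P h
    obtain ⟨y, hy, ey⟩ := hγ u hu
    rw [act_sg_fix Q hQu hct (B_self_of_singular Q hQu)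
      (by rw [B_smul_left Q, B_comm Q t u, hut, mul_zero])] at ey
    have hγ0 : γ ≠ 0 := fun e => hu0 (by rw [ey, e, zero_smul])
    have hγF : γ ∈ F₀ := by
      have := smul_rat_mem hu hu0 (a := γ⁻¹) (by rw [ey, inv_smul_smul₀ hγ0]; exact hy)
      simpa using F₀.inv_mem this
    have hnot : u ∉ Submodule.span F (Set.range ![t]) := by
      simp only [Matrix.range_cons, Matrix.range_empty, Set.union_empty]
      exact (IsRatLine.symm ⟨hu, ht, hQu, hQt, hut, hu0, htu⟩).2.2.2.2.2.2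
    obtain ⟨z, hz, hzt, huz⟩ := exists_rat_dual hP hQ ![t] (fun i => by fin_cases i; exact ht) hu hnot
    obtain ⟨y', hy', ey'⟩ := hγ z hz
    have htz : B t z = 0 := hzt 0
    rw [act_sg_long hQu (by rw [Q_smul Q, hQt, mul_zero]) hct, huz, B_smul_left Q, htz, mul_zero, zero_smul,
      sub_zero, one_smul] at ey'
    refine smul_rat_mem ht (fun e => htu (by rw [e]; exact Submodule.zero_mem _)) ?_
    rw [show c • t = γ • y' - z by rw [← ey', add_sub_cancel_left]]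
    exact (ratVec F₀ P).sub_mem (ratVec_smul hγF hy') hz
  have hS : ∀ u ∈ ratVec F₀ P, ∀ w ∈ ratVec F₀ P, sg Q u w ∈ M := by
    intro u hu w hw
    refine hM ⟨ratStab_le fun x hx => ?_, sg_mem_omega hQ hn5 u w⟩
    by_cases h : Q u = 0 ∧ B u w = 0
    · rw [act_sg Q h.1 h.2]
      exact (ratVec F₀ P).sub_mem ((ratVec F₀ P).add_mem hx (ratVec_smul (B_rat hP hu hx) hw))
        (ratVec_smul (F₀.add_mem (B_rat hP hw hx) (F₀.mul_mem (hP w hw) (B_rat hP hu hx))) hu)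
    · rw [sg_of_not Q h, act_one]; exact hx
  by_cases hseed : Seed Q F₀ P M
  · exact omega_le_of_seed hP hQ hn hS r hr hcard hseed
  · obtain ⟨g, hgM, hg⟩ := hout
    exact absurd (le_subfield_of_noSeed hP hQ hn hMΩ hS hseed hcase hr hcard hgM) hg

omit hn hMΩ hS hns in
/-- Subfield groups of prime index are maximal. -/
theorem orth_subfield_maximal (h9 : 9 ≤ Fintype.card ι) {r : ℕ} (hr : r.Prime)
    (hcard : Nat.card F = Nat.card F₀ ^ r) :
    Cfsg.Geo.IsMaximalIn (Cfsg.Geo.omegaGL Q)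
      (Cfsg.Geo.subfieldSubgroup F₀ P ⊓ Cfsg.Geo.omegaGL Q) :=
  orth_subfield_maximal' hP hQ (by omega) (Or.inl h9) hr hcard

end Cfsg.Agent.MaxCl.Orth
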