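/-
Tensor coordinates `F^ι ≅ F^(n₁) ⊗ F^(n₂)` through a change of basis and a bijection of index sets:
pure tensors, contractions, and the elements `a ⊗ b`.
-/
import Mathlib
import Cfsg.Prelude.Def_GeometricClasses
import Cfsg.Agent.Lib.MaxCl.Transvection

set_option autoImplicit false

namespace Cfsg.Agent.MaxCl.Tens

open scoped MatrixGroups Matrix Kronecker

/-- a system of tensor coordinates -/
structure TSys (ι : Type) [Fintype ι] [DecidableEq ι] (F : Type*) [Field F] (n₁ n₂ : ℕ) where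
  /-- the bijection of index sets -/
  e : ι ≃ Fin n₁ × Fin n₂
  /-- the change of basis -/
  P : GL ι F

variable {ι : Type} [Fintype ι] [DecidableEq ι] {F : Type*} [Field F] {n₁ n₂ : ℕ} (T : TSys ι F n₁ n₂)

/-- the vector with the given tensor coordinates -/
def emb : (Fin n₁ × Fin n₂ → F) →ₗ[F] (ι → F) := act T.P ∘ₗ LinearMap.funLeft F F T.e

/-- the tensor coordinates of a vector -/
def crd : (ι → F) →ₗ[F] (Fin n₁ × Fin n₂ → F) := LinearMap.funLeft F F T.e.symm ∘ₗ act T.P⁻¹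

theorem crd_emb (x : Fin n₁ × Fin n₂ → F) : crd T (emb T x) = x := by
  show (act T.P⁻¹ (act T.P (x ∘ T.e))) ∘ T.e.symm = x
  rw [act_inv_act]; funext p; simp

theorem emb_crd (x : ι → F) : emb T (crd T x) = x := by
  show act T.P ((act T.P⁻¹ x ∘ T.e.symm) ∘ T.e) = x
  rw [Function.comp_assoc, Equiv.symm_comp_self, Function.comp_id, act_act_inv]

/-- a pure tensor -/
def pt (u : Fin n₁ → F) (v : Fin n₂ → F) : ι → F := emb T fun p => u p.1 * v p.2

theorem crd_pt (u : Fin n₁ → F) (v : Fin n₂ → F) (i : Fin n₁) (j : Fin n₂) :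
    crd T (pt T u v) (i, j) = u i * v j := by rw [pt, crd_emb]

theorem pt_add_left (u u' : Fin n₁ → F) (v : Fin n₂ → F) : pt T (u + u') v = pt T u v + pt T u' v := by
  rw [pt, pt, pt, ← map_add]; congr 1; funext p; simp [add_mul]

theorem pt_add_right (u : Fin n₁ → F) (v v' : Fin n₂ → F) : pt T u (v + v') = pt T u v + pt T u v' := by
  rw [pt, pt, pt, ← map_add]; congr 1; funext p; simp [mul_add]

theorem pt_smul_left (c : F) (u : Fin n₁ → F) (v : Fin n₂ → F) : pt T (c • u) v = c • pt T u v := by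
  rw [pt, pt, ← map_smul]; congr 1; funext p; simp [mul_assoc]

theorem pt_smul_right (c : F) (u : Fin n₁ → F) (v : Fin n₂ → F) : pt T u (c • v) = c • pt T u v := by
  rw [pt, pt, ← map_smul]; congr 1; funext p; simp; ring

theorem pt_smul_comm (c : F) (u : Fin n₁ → F) (v : Fin n₂ → F) : pt T (c • u) v = pt T u (c • v) := by
  rw [pt_smul_left, pt_smul_right]

theorem pt_zero_left (v : Fin n₂ → F) : pt T 0 v = 0 := by simpa using pt_smul_left T 0 0 v
theorem pt_zero_right (u : Fin n₁ → F) : pt T u 0 = 0 := by simpa using pt_smul_right T 0 u 0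

theorem pt_neg_right (u : Fin n₁ → F) (v : Fin n₂ → F) : pt T u (-v) = -pt T u v := by
  simpa using pt_smul_right T (-1) u v

theorem pt_neg_left (u : Fin n₁ → F) (v : Fin n₂ → F) : pt T (-u) v = -pt T u v := by
  simpa using pt_smul_left T (-1) u v

theorem pt_sub_right (u : Fin n₁ → F) (v v' : Fin n₂ → F) : pt T u (v - v') = pt T u v - pt T u v' := by
  rw [sub_eq_add_neg, pt_add_right, pt_neg_right, sub_eq_add_neg]

theorem pt_sub_left (u u' : Fin n₁ → F) (v : Fin n₂ → F) : pt T (u - u') v = pt T u v - pt T u' v := by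
  rw [sub_eq_add_neg, pt_add_left, pt_neg_left, sub_eq_add_neg]

/-- `u ↦ pt u v` -/
def ptL (v : Fin n₂ → F) : (Fin n₁ → F) →ₗ[F] (ι → F) where
  toFun u := pt T u v
  map_add' u u' := pt_add_left T u u' v
  map_smul' c u := pt_smul_left T c u v

/-- `v ↦ pt u v` -/
def ptR (u : Fin n₁ → F) : (Fin n₂ → F) →ₗ[F] (ι → F) where
  toFun v := pt T u v
  map_add' v v' := pt_add_right T u v v'
  map_smul' c v := pt_smul_right T c u v

theorem ptL_apply (v : Fin n₂ → F) (u : Fin n₁ → F) : ptL T v u = pt T u v := rfl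
theorem ptR_apply (u : Fin n₁ → F) (v : Fin n₂ → F) : ptR T u v = pt T u v := rfl

/-- contracting the second factor -/
def cR (ψ : (Fin n₂ → F) →ₗ[F] F) : (ι → F) →ₗ[F] (Fin n₁ → F) :=
  LinearMap.pi fun i => ψ ∘ₗ LinearMap.pi fun j => LinearMap.proj (i, j) ∘ₗ crd T

/-- contracting the first factor -/
def cL (φ : (Fin n₁ → F) →ₗ[F] F) : (ι → F) →ₗ[F] (Fin n₂ → F) :=
  LinearMap.pi fun j => φ ∘ₗ LinearMap.pi fun i => LinearMap.proj (i, j) ∘ₗ crd T

theorem cR_pt (ψ : (Fin n₂ → F) →ₗ[F] F) (u : Fin n₁ → F) (v : Fin n₂ → F) :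
    cR T ψ (pt T u v) = ψ v • u := by
  funext i
  show ψ (fun j => crd T (pt T u v) (i, j)) = _
  simp only [crd_pt]
  rw [show (fun j => u i * v j) = u i • v from rfl, map_smul, Pi.smul_apply, smul_eq_mul, smul_eq_mul, mul_comm]

theorem cL_pt (φ : (Fin n₁ → F) →ₗ[F] F) (u : Fin n₁ → F) (v : Fin n₂ → F) :
    cL T φ (pt T u v) = φ u • v := by
  funext j
  show φ (fun i => crd T (pt T u v) (i, j)) = _
  simp only [crd_pt]
  rw [show (fun i => u i * v j) = v j • u from funext fun i => mul_comm _ _, map_smul, Pi.smul_apply,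
    smul_eq_mul, smul_eq_mul, mul_comm]

theorem sum_pt (x : ι → F) :
    x = ∑ i, ∑ j, crd T x (i, j) • pt T (Pi.single i 1) (Pi.single j 1) := by
  classical
  conv_lhs => rw [← emb_crd T x]
  simp only [pt, ← map_smul, ← map_sum]
  congr 1
  funext p
  obtain ⟨a, b⟩ := p
  simp [Pi.single_apply, Finset.sum_apply]

theorem pt_ext {M : Type*} [AddCommGroup M] [Module F M] {L L' : (ι → F) →ₗ[F] M}
    (h : ∀ u v, L (pt T u v) = L' (pt T u v)) : L = L' := by
  apply LinearMap.ext; intro x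
  rw [sum_pt T x]
  simp only [map_sum, map_smul, h]

theorem eq_zero_of_cR {x : ι → F} (h : ∀ ψ, cR T ψ x = 0) : x = 0 := by
  rw [← emb_crd T x]
  have : crd T x = 0 := by
    funext p
    have := congrFun (h (LinearMap.proj p.2)) p.1
    exact this
  rw [this, map_zero]

theorem pt_eq_zero {u : Fin n₁ → F} {v : Fin n₂ → F} : pt T u v = 0 ↔ u = 0 ∨ v = 0 := by
  constructor
  · intro h
    by_contra hc; push Not at hc
    obtain ⟨φ, -, hφ⟩ := exists_dual (⊥ : Submodule F (Fin n₁ → F)) (v := u) (by simpa using hc.1)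
    have := congrArg (cL T φ) h
    rw [cL_pt, map_zero, hφ, one_smul] at this
    exact hc.2 this
  · rintro (rfl | rfl)
    · exact pt_zero_left T v
    · exact pt_zero_right T u

/-- equal pure tensors have proportional factors -/
theorem mem_span_of_pt_eq {u a : Fin n₁ → F} {v b : Fin n₂ → F} (h : pt T u v = pt T a b) (hu : u ≠ 0) :
    v ∈ F ∙ b := by
  obtain ⟨φ, -, hφ⟩ := exists_dual (⊥ : Submodule F (Fin n₁ → F)) (v := u) (by simpa using hu)
  have := congrArg (cL T φ) h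
  rw [cL_pt, cL_pt, hφ, one_smul] at this
  rw [this]; exact Submodule.smul_mem _ _ (Submodule.mem_span_singleton_self b)

theorem mem_span_of_pt_eq' {u a : Fin n₁ → F} {v b : Fin n₂ → F} (h : pt T u v = pt T a b) (hv : v ≠ 0) :
    u ∈ F ∙ a := by
  obtain ⟨ψ, -, hψ⟩ := exists_dual (⊥ : Submodule F (Fin n₂ → F)) (v := v) (by simpa using hv)
  have := congrArg (cR T ψ) h
  rw [cR_pt, cR_pt, hψ, one_smul] at this
  rw [this]; exact Submodule.smul_mem _ _ (Submodule.mem_span_singleton_self a)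

/-- two pure tensors with a pure sum share a factor -/
theorem share {u u' a : Fin n₁ → F} {v v' b : Fin n₂ → F} (h : pt T u v + pt T u' v' = pt T a b)
    (hv : v ≠ 0) (hu : u ≠ 0) (hu' : u' ∉ F ∙ u) : v' ∈ F ∙ v := by
  have hu'0 : u' ≠ 0 := fun e => hu' (e ▸ Submodule.zero_mem _)
  have hu2 : u ∉ F ∙ u' := by
    intro e
    obtain ⟨k, hk⟩ := Submodule.mem_span_singleton.1 e
    have hk0 : k ≠ 0 := by rintro rfl; exact hu (by simpa using hk.symm)
    exact hu' (Submodule.mem_span_singleton.2 ⟨k⁻¹, by rw [← hk, inv_smul_smul₀ hk0]⟩)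
  obtain ⟨φ, hφ0, hφ1⟩ := exists_dual _ hu2
  obtain ⟨χ, hχ0, hχ1⟩ := exists_dual _ hu'
  have e1 := congrArg (cL T φ) h
  have e2 := congrArg (cL T χ) h
  simp only [map_add, cL_pt, hφ1, hχ1, hφ0 u' (Submodule.mem_span_singleton_self u'),
    hχ0 u (Submodule.mem_span_singleton_self u), zero_smul, one_smul, add_zero, zero_add] at e1 e2
  have hφa : φ a ≠ 0 := fun e => hv (by rw [e1, e, zero_smul])
  rw [e2]
  refine Submodule.mem_span_singleton.2 ⟨χ a / φ a, ?_⟩
  rw [e1, smul_smul, div_mul_cancel₀ _ hφa]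

/-! ### The elements `a ⊗ b` -/

/-- the Kronecker product of invertible matrices -/
def kronGL (a : GL (Fin n₁) F) (b : GL (Fin n₂) F) : GL (Fin n₁ × Fin n₂) F where
  val := (a : Matrix (Fin n₁) (Fin n₁) F) ⊗ₖ (b : Matrix (Fin n₂) (Fin n₂) F)
  inv := ((a⁻¹ : GL (Fin n₁) F) : Matrix (Fin n₁) (Fin n₁) F) ⊗ₖ ((b⁻¹ : GL (Fin n₂) F) : Matrix (Fin n₂) (Fin n₂) F)
  val_inv := by rw [← Matrix.mul_kronecker_mul]; simp [Matrix.one_kronecker_one]
  inv_val := by rw [← Matrix.mul_kronecker_mul]; simp [Matrix.one_kronecker_one]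

/-- the element `a ⊗ b` in the coordinates `T` -/
def gl (a : GL (Fin n₁) F) (b : GL (Fin n₂) F) : GL ι F :=
  T.P * Cfsg.Geo.glReindex T.e.symm (kronGL a b) * T.P⁻¹

theorem gl_mem (a : GL (Fin n₁) F) (b : GL (Fin n₂) F) :
    gl T a b ∈ Cfsg.Geo.tensorProductSubgroup n₁ n₂ T.e T.P :=
  ⟨_, ⟨kronGL a b, ⟨a, b, rfl⟩, rfl⟩, rfl⟩

theorem exists_of_mem {g : GL ι F} (hg : g ∈ Cfsg.Geo.tensorProductSubgroup n₁ n₂ T.e T.P) :
    ∃ a b, g = gl T a b := by
  obtain ⟨_, ⟨k, ⟨a, b, hk⟩, rfl⟩, rfl⟩ := hg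
  refine ⟨a, b, ?_⟩
  have : k = kronGL a b := Units.ext hk
  rw [this]; rfl

theorem act_gl_pt (a : GL (Fin n₁) F) (b : GL (Fin n₂) F) (u : Fin n₁ → F) (v : Fin n₂ → F) :
    act (gl T a b) (pt T u v) = pt T (act a u) (act b v) := by
  have e1 : act (Cfsg.Geo.glReindex T.e.symm (kronGL a b)) ((fun p => u p.1 * v p.2) ∘ T.e) =
      (fun p => act a u p.1 * act b v p.2) ∘ T.e := by
    rw [act_apply]
    show Matrix.reindex T.e.symm T.e.symm ((kronGL a b : GL _ F) : Matrix _ _ F) *ᵥ _ = _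
    rw [Matrix.reindex_apply, Matrix.submatrix_mulVec_equiv]
    simp only [Equiv.symm_symm, Function.comp_assoc, Equiv.self_comp_symm, Function.comp_id]
    congr 1
    funext p
    simp only [kronGL, Matrix.mulVec, dotProduct, Matrix.kroneckerMap_apply, Fintype.sum_prod_type,
      act_apply, Finset.sum_mul, Finset.mul_sum]
    rw [Finset.sum_comm]
    exact Finset.sum_congr rfl fun i _ => Finset.sum_congr rfl fun j _ => by ring
  show act (T.P * _ * T.P⁻¹) (act T.P ((fun p => u p.1 * v p.2) ∘ T.e)) = act T.P _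
  rw [act_mul, act_inv_act, act_mul, e1]
  rfl

theorem gl_ext_pt {g h : GL ι F} (H : ∀ u v, act g (pt T u v) = act h (pt T u v)) : g = h :=
  gl_ext fun x => LinearMap.congr_fun (pt_ext T H) x

theorem gl_mul (a a' : GL (Fin n₁) F) (b b' : GL (Fin n₂) F) :
    gl T a b * gl T a' b' = gl T (a * a') (b * b') :=
  gl_ext_pt T fun u v => by simp only [act_mul, act_gl_pt]

theorem gl_one : gl T (1 : GL (Fin n₁) F) (1 : GL (Fin n₂) F) = 1 :=
  gl_ext_pt T fun u v => by simp only [act_gl_pt, act_one]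

theorem gl_inv (a : GL (Fin n₁) F) (b : GL (Fin n₂) F) : (gl T a b)⁻¹ = gl T a⁻¹ b⁻¹ :=
  (eq_inv_of_mul_eq_one_left (by rw [gl_mul, inv_mul_cancel, inv_mul_cancel, gl_one])).symm

theorem det_gl (a : GL (Fin n₁) F) (b : GL (Fin n₂) F) :
    (gl T a b : Matrix ι ι F).det =
      (a : Matrix (Fin n₁) (Fin n₁) F).det ^ n₂ * (b : Matrix (Fin n₂) (Fin n₂) F).det ^ n₁ := by
  show (((T.P : Matrix ι ι F) * (Cfsg.Geo.glReindex T.e.symm (kronGL a b) : GL ι F).val) *
    ((T.P⁻¹ : GL ι F) : Matrix ι ι F)).det = _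
  rw [Matrix.det_units_conj]
  show (Matrix.reindex T.e.symm T.e.symm _).det = _
  rw [Matrix.det_reindex_self]
  show ((a : Matrix (Fin n₁) (Fin n₁) F) ⊗ₖ (b : Matrix (Fin n₂) (Fin n₂) F)).det = _
  rw [Matrix.det_kronecker, Fintype.card_fin, Fintype.card_fin]

end Cfsg.Agent.MaxCl.Tens
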