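/-
An orthogonal space with tensor coordinates, odd characteristic: the context of an overgroup of the stabiliser,
contractions, tensor products of Siegel elements, transitivity on singular vectors of a factor, exchanging factors.
-/
import Cfsg.Agent.Lib.MaxCl.OrthInvOps
import Cfsg.Agent.Lib.MaxCl.TensorPt
import Cfsg.Agent.Lib.MaxCl.OrthTensor
import Cfsg.Agent.Lib.MaxCl.OrthParabolic

set_option autoImplicit false
set_option linter.unusedSectionVars false
set_option linter.unusedSimpArgs false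
set_option linter.style.haveILetI false

namespace Cfsg.Agent.MaxCl.OTens

open scoped MatrixGroups Matrix commutatorElement
open Module (finrank)
open Orth Tens

variable {ι : Type} [Fintype ι] [DecidableEq ι] {F : Type*} [Field F] {n₁ n₂ : ℕ}

/-! ### General facts -/

section General

variable {κ : Type} [Fintype κ] [DecidableEq κ] {Q : QuadraticForm F (κ → F)}

set_option quotPrecheck false in
local notation "B" => QuadraticMap.polar (⇑Q)

theorem mem_iso_of_polar (two : (2 : F) ≠ 0) {g : GL κ F}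
    (h : ∀ x y, B (act g x) (act g y) = B x y) : g ∈ isometryGroup F Q := by
  rw [mem_iso]
  intro x
  have := h x x
  rw [B_self Q, B_self Q] at this
  exact mul_left_cancel₀ two this

/-- squares of isometries lie in the derived group -/
theorem sq_mem_omega [Finite F] (hQ : (QuadraticMap.polarBilin Q).Nondegenerate) (h5 : 5 ≤ Fintype.card κ)
    {g : GL κ F} (hg : g ∈ isometryGroup F Q) : g * g ∈ Cfsg.Geo.omegaGL Q := by
  let φ : isometryGroup F Q →* Abelianization (isometryGroup F Q) := Abelianization.of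
  let K : Subgroup (isometryGroup F Q) := (powMonoidHom 2).ker.comap φ
  have hK : ∀ x : isometryGroup F Q, x * x = 1 → x ∈ K := fun x hx => by
    show φ x ^ 2 = 1
    rw [pow_two, ← map_mul, hx, map_one]
  have hle : sgGroup Q ⊔ Subgroup.closure (Set.range (refl Q)) ≤ K.map (isometryGroup F Q).subtype := by
    refine sup_le (fun s hs => ?_) ?_
    · rw [← omega_eq_sgGroup hQ h5] at hs
      obtain ⟨x, hx, rfl⟩ := hs
      refine ⟨x, ?_, rfl⟩
      show φ x ^ 2 = 1
      rw [show φ x = 1 from (QuotientGroup.eq_one_iff x).2 hx, one_pow]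
    · rw [Subgroup.closure_le]
      rintro _ ⟨a, rfl⟩
      exact ⟨⟨refl Q a, refl_mem_iso Q a⟩, hK _ (Subtype.ext (refl_mul_self Q a)), rfl⟩
  obtain ⟨x, hx, rfl⟩ := hle (mem_closure_sg_refl hQ hg)
  refine ⟨x * x, ?_, rfl⟩
  have h1 : φ (x * x) = 1 := by rw [map_mul, ← pow_two]; exact hx
  exact (QuotientGroup.eq_one_iff _).1 h1

/-- isometries of odd order lie in the derived group -/
theorem mem_omega_of_odd_order [Finite F] (hQ : (QuadraticMap.polarBilin Q).Nondegenerate)
    (h5 : 5 ≤ Fintype.card κ) {g : GL κ F} (hg : g ∈ isometryGroup F Q) {m : ℕ} (hm : Odd m) (h : g ^ m = 1) :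
    g ∈ Cfsg.Geo.omegaGL Q := by
  obtain ⟨k, hk⟩ := hm
  have e : g = (g * g) ^ (k + 1) := by
    rw [← pow_two, ← pow_mul, show 2 * (k + 1) = m + 1 by omega, pow_succ, h, one_mul]
  rw [e]
  exact pow_mem (sq_mem_omega hQ h5 hg) _

theorem sg_pow {u w : κ → F} (hu : Q u = 0) (h : B u w = 0) (m : ℕ) :
    sg Q u w ^ m = sg Q u ((m : F) • w) := by
  induction m with
  | zero => rw [pow_zero, Nat.cast_zero, zero_smul, sg_zero]
  | succ m ih =>
    rw [pow_succ, ih, sg_add Q hu (by rw [B_smul_right Q, h, mul_zero]) h, Nat.cast_succ, add_smul, one_smul]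

theorem sg_pow_char {p : ℕ} [CharP F p] (u w : κ → F) : sg Q u w ^ p = 1 := by
  by_cases h : Q u = 0 ∧ B u w = 0
  · rw [sg_pow h.1 h.2, CharP.cast_eq_zero, zero_smul, sg_zero]
  · rw [sg_of_not Q h, one_pow]

theorem exists_odd_char (two : (2 : F) ≠ 0) [Finite F] : ∃ p, Odd p ∧ p.Prime ∧ CharP F p := by
  obtain ⟨p, hp⟩ := CharP.exists F
  haveI := hp
  have hprime := CharP.char_is_prime F p
  refine ⟨p, hprime.odd_of_ne_two ?_, hprime, hp⟩
  rintro rfl
  exact two (CharP.cast_eq_zero F 2)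

/-- the Siegel group moves singular lines onto each other -/
theorem exists_move_line [Finite F] (two : (2 : F) ≠ 0) (hQ : (QuadraticMap.polarBilin Q).Nondegenerate)
    (h3 : 3 ≤ Fintype.card κ) {u z : κ → F} (hu : Q u = 0) (hu0 : u ≠ 0) (hz : Q z = 0) (hz0 : z ≠ 0) :
    ∃ s ∈ sgGroup Q, ∃ k : F, k ≠ 0 ∧ act s u = k • z := by
  obtain ⟨v, hv, huv, hzv⟩ := exists_singular_two two hQ hu hz hu0 hz0 h3
  set w := (B u v)⁻¹ • ((B u v / B z v) • z - u) with hw
  have hvw : B v w = 0 := by
    rw [hw, B_smul_right Q, B_sub_right Q, B_smul_right Q, B_comm Q v z, B_comm Q v u,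
      div_mul_cancel₀ _ hzv, sub_self, mul_zero]
  refine ⟨_, sg_mem_sgGroup v w, B u v / B z v, div_ne_zero huv hzv, ?_⟩
  rw [act_sg Q hv hvw, B_comm Q v u]
  have : B w u + Q w * B u v = 0 := by
    rw [hw, B_smul_left Q, Q_smul Q, B_sub_left Q, B_smul_left Q, Q_sub Q, Q_smul Q, B_smul_left Q, hz, hu,
      B_self_of_singular Q hu]
    field_simp
    ring
  rw [this, zero_smul, sub_zero, hw, smul_smul, mul_inv_cancel₀ huv, one_smul]
  abel

/-- every value is taken orthogonally to a hyperbolic pair -/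
theorem exists_value_perp [Finite F] (two : (2 : F) ≠ 0) (hQ : (QuadraticMap.polarBilin Q).Nondegenerate)
    (h4 : 4 ≤ Fintype.card κ) {v w : κ → F} (hv : Q v = 0) (hw : Q w = 0) (hvw : B v w = 1) (k : F) :
    ∃ y, B v y = 0 ∧ B w y = 0 ∧ Q y = k := by
  obtain ⟨a, hva, hwa, ha⟩ := exists_aniso_perp two hQ hv hw hvw (by omega)
  obtain ⟨b, hvb, hwb, hab, hb⟩ := exists_aniso_perp_three two hQ hv hw hvw hva hwa ha h4
  haveI := Fintype.ofFinite F
  obtain ⟨x, y, hxy⟩ := FiniteField.exists_root_sum_quadratic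
    (f := Polynomial.C (Q a) * Polynomial.X ^ 2) (g := Polynomial.C (Q b) * Polynomial.X ^ 2 + Polynomial.C (-k))
    (Polynomial.degree_C_mul_X_pow 2 ha)
    (by rw [Polynomial.degree_add_C (by rw [Polynomial.degree_C_mul_X_pow 2 hb]; decide),
      Polynomial.degree_C_mul_X_pow 2 hb]; rfl)
    (FiniteField.odd_card_of_char_ne_two fun hc => two (by
      haveI := ringChar.of_eq hc
      exact CharTwo.two_eq_zero))
  simp only [Polynomial.eval_mul, Polynomial.eval_C, Polynomial.eval_pow, Polynomial.eval_X,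
    Polynomial.eval_add] at hxy
  refine ⟨x • a + y • b, ?_, ?_, ?_⟩
  · rw [B_add_right Q, B_smul_right Q, B_smul_right Q, hva, hvb]; ring
  · rw [B_add_right Q, B_smul_right Q, B_smul_right Q, hwa, hwb]; ring
  · rw [Q_add Q, Q_smul Q, Q_smul Q, B_smul_left Q, B_smul_right Q, hab]
    linear_combination hxy

/-- the Siegel group scales singular vectors by every non-zero scalar -/
theorem exists_torus [Finite F] (two : (2 : F) ≠ 0) (hQ : (QuadraticMap.polarBilin Q).Nondegenerate)
    (h5 : 5 ≤ Fintype.card κ) {e : κ → F} (he : Q e = 0) (he0 : e ≠ 0) {l : F} (hl : l ≠ 0) :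
    ∃ b ∈ sgGroup Q, act b e = l • e := by
  obtain ⟨f, hf, hef⟩ := exists_partner_top hQ he he0
  have hfe : B f e = 1 := by rw [B_comm Q, hef]
  set a := e + f with ha
  set c := e + l⁻¹ • f with hc
  have hQa : Q a = 1 := by rw [ha, Q_add Q, he, hf, hef]; ring
  have hQc : Q c = l⁻¹ := by rw [hc, Q_add Q, Q_smul Q, B_smul_right Q, he, hf, hef]; ring
  obtain ⟨a', hea', hfa', hQa'⟩ := exists_value_perp two hQ (by omega) he hf hef (1 : F)
  obtain ⟨c', hec', hfc', hQc'⟩ := exists_value_perp two hQ (by omega) he hf hef l⁻¹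
  refine ⟨refl Q c * (refl Q a * refl Q a') * refl Q c', ?_, ?_⟩
  · have h1 := conj_mem_sgGroup (refl_mem_iso Q c) (refl_mul_refl_mem hQ h5 (hQa.trans hQa'.symm))
    have h2 := mul_mem h1 (refl_mul_refl_mem hQ h5 (hQc.trans hQc'.symm))
    convert h2 using 1
    group
  · have hc' : Q c' ≠ 0 := by rw [hQc']; exact inv_ne_zero hl
    have ha' : Q a' ≠ 0 := by rw [hQa']; exact one_ne_zero
    rw [act_mul, act_mul, act_mul, act_refl_fix Q hc' (by rw [B_comm Q, hec']),
      act_refl_fix Q ha' (by rw [B_comm Q, hea']), act_refl (a := c) Q (by rw [hQc]; exact inv_ne_zero hl),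
      act_refl (a := a) Q (by rw [hQa]; exact one_ne_zero), hQa, hQc, ha, hc]
    simp only [B_add_left Q, B_add_right Q, B_smul_left Q, B_smul_right Q, B_sub_right Q,
      B_self_of_singular Q he, B_self_of_singular Q hf, hef, hfe]
    match_scalars <;> field_simp <;> ring

/-- the Siegel group is transitive on non-zero singular vectors -/
theorem exists_move_exact [Finite F] (two : (2 : F) ≠ 0) (hQ : (QuadraticMap.polarBilin Q).Nondegenerate)
    (h5 : 5 ≤ Fintype.card κ) {u z : κ → F} (hu : Q u = 0) (hu0 : u ≠ 0) (hz : Q z = 0) (hz0 : z ≠ 0) :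
    ∃ s ∈ sgGroup Q, act s u = z := by
  obtain ⟨s, hs, k, hk, e⟩ := exists_move_line two hQ (by omega) hu hu0 hz hz0
  obtain ⟨b, hb, e'⟩ := exists_torus two hQ h5 hz hz0 (inv_ne_zero hk)
  exact ⟨b * s, mul_mem hb hs, by rw [act_mul, e, map_smul, e', smul_smul, mul_inv_cancel₀ hk, one_smul]⟩

end General

/-! ### Exchanging the factors -/

/-- the coordinates with exchanged factors -/
def swapSys (T : TSys ι F n₁ n₂) : TSys ι F n₂ n₁ := ⟨T.e.trans (Equiv.prodComm _ _), T.P⟩

theorem pt_swapSys (T : TSys ι F n₁ n₂) (u : Fin n₁ → F) (v : Fin n₂ → F) :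
    pt (swapSys T) v u = pt T u v := by
  show act T.P ((fun p => v p.1 * u p.2) ∘ (T.e.trans (Equiv.prodComm _ _))) = act T.P _
  congr 1
  funext i
  simp [mul_comm]

theorem gl_swapSys (T : TSys ι F n₁ n₂) (a : GL (Fin n₁) F) (b : GL (Fin n₂) F) :
    gl (swapSys T) b a = gl T a b :=
  gl_ext_pt T fun u v => by rw [← pt_swapSys, act_gl_pt, pt_swapSys, pt_swapSys, act_gl_pt]

theorem tensor_swapSys (T : TSys ι F n₁ n₂) :
    Cfsg.Geo.tensorProductSubgroup n₂ n₁ (swapSys T).e (swapSys T).P =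
      Cfsg.Geo.tensorProductSubgroup n₁ n₂ T.e T.P := by
  ext g
  constructor
  · intro h
    obtain ⟨b, a, rfl⟩ := exists_of_mem (swapSys T) h
    rw [gl_swapSys]; exact gl_mem T a b
  · intro h
    obtain ⟨a, b, rfl⟩ := exists_of_mem T h
    rw [← gl_swapSys]; exact gl_mem (swapSys T) b a

/-! ### The context -/

/-- an overgroup of the stabiliser of an orthogonal tensor decomposition -/
structure OCtx (T : TSys ι F n₁ n₂) (Q : QuadraticForm F (ι → F)) (q₁ : QuadraticForm F (Fin n₁ → F))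
    (q₂ : QuadraticForm F (Fin n₂ → F)) (M : Subgroup (GL ι F)) : Prop where
  two : (2 : F) ≠ 0
  hQ : (QuadraticMap.polarBilin Q).Nondegenerate
  h₁ : (QuadraticMap.polarBilin q₁).Nondegenerate
  h₂ : (QuadraticMap.polarBilin q₂).Nondegenerate
  form : ∀ u v u' v', QuadraticMap.polar Q (pt T u v) (pt T u' v') =
    QuadraticMap.polar q₁ u u' * QuadraticMap.polar q₂ v v'
  three₁ : 3 ≤ n₁
  three₂ : 3 ≤ n₂
  le : M ≤ Cfsg.Geo.omegaGL Q
  ge : ∀ a b, gl T a b ∈ Cfsg.Geo.omegaGL Q → gl T a b ∈ M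

variable {T : TSys ι F n₁ n₂} {Q : QuadraticForm F (ι → F)} {q₁ : QuadraticForm F (Fin n₁ → F)}
variable {q₂ : QuadraticForm F (Fin n₂ → F)} {M : Subgroup (GL ι F)}

set_option quotPrecheck false in
local notation "B" => QuadraticMap.polar (⇑Q)
set_option quotPrecheck false in
local notation "B₁" => QuadraticMap.polar (⇑q₁)
set_option quotPrecheck false in
local notation "B₂" => QuadraticMap.polar (⇑q₂)

/-- contraction against `w` -/
noncomputable def proj (T : TSys ι F n₁ n₂) (q₂ : QuadraticForm F (Fin n₂ → F)) (w : Fin n₂ → F) :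
    (ι → F) →ₗ[F] (Fin n₁ → F) := cR T (QuadraticMap.polarBilin q₂ w)

theorem proj_pt (w : Fin n₂ → F) (u : Fin n₁ → F) (v : Fin n₂ → F) :
    proj T q₂ w (pt T u v) = B₂ w v • u := cR_pt T _ u v

/-- contraction of the first factor against `u` -/
noncomputable def projL (T : TSys ι F n₁ n₂) (q₁ : QuadraticForm F (Fin n₁ → F)) (u : Fin n₁ → F) :
    (ι → F) →ₗ[F] (Fin n₂ → F) := cL T (QuadraticMap.polarBilin q₁ u)

theorem projL_pt (w : Fin n₁ → F) (u : Fin n₁ → F) (v : Fin n₂ → F) :
    projL T q₁ w (pt T u v) = B₁ w u • v := cL_pt T _ u v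

variable (C : OCtx T Q q₁ q₂ M)
include C

theorem OCtx.swap : OCtx (swapSys T) Q q₂ q₁ M where
  two := C.two
  hQ := C.hQ
  h₁ := C.h₂
  h₂ := C.h₁
  form u v u' v' := by rw [pt_swapSys, pt_swapSys, C.form, mul_comm]
  three₁ := C.three₂
  three₂ := C.three₁
  le := C.le
  ge a b h := by rw [gl_swapSys] at h ⊢; exact C.ge b a h

theorem five_le : 5 ≤ Fintype.card ι := by
  rw [Fintype.card_congr T.e, Fintype.card_prod, Fintype.card_fin, Fintype.card_fin]
  have := C.three₁
  have := C.three₂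
  nlinarith

theorem Q_pt (u : Fin n₁ → F) (v : Fin n₂ → F) : Q (pt T u v) = 2 * q₁ u * q₂ v := by
  have h := C.form u v u v
  rw [B_self Q, B_self q₁, B_self q₂] at h
  exact mul_left_cancel₀ C.two (h.trans (by ring))

theorem form_right (x : ι → F) (u : Fin n₁ → F) (w : Fin n₂ → F) :
    B x (pt T u w) = B₁ (proj T q₂ w x) u := by
  have : (QuadraticMap.polarBilin Q).flip (pt T u w) = (QuadraticMap.polarBilin q₁).flip u ∘ₗ proj T q₂ w :=
    pt_ext T fun a b => by
      show B (pt T a b) (pt T u w) = B₁ (proj T q₂ w (pt T a b)) u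
      rw [C.form, proj_pt, B_smul_left q₁, B_comm q₂ w b]; ring
  exact LinearMap.congr_fun this x

theorem eq_of_form {x y : ι → F} (h : ∀ u v, B x (pt T u v) = B y (pt T u v)) : x = y := by
  by_contra hne
  obtain ⟨z, hz⟩ := exists_B_ne_zero C.hQ (sub_ne_zero.2 hne)
  apply hz
  have : QuadraticMap.polarBilin Q (x - y) = 0 := pt_ext T fun u v => by
    show B (x - y) (pt T u v) = 0
    rw [B_sub_left Q, h, sub_self]
  exact LinearMap.congr_fun this z

theorem eq_of_proj {x y : ι → F} (h : ∀ w, proj T q₂ w x = proj T q₂ w y) : x = y :=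
  eq_of_form C fun u v => by rw [form_right C, form_right C, h]

/-- pairs of similitudes with inverse multipliers give isometries -/
theorem gl_mem_iso {a : GL (Fin n₁) F} {b : GL (Fin n₂) F} {μ : F}
    (ha : ∀ u u', B₁ (act a u) (act a u') = μ * B₁ u u') (hb : ∀ v v', μ * B₂ (act b v) (act b v') = B₂ v v') :
    gl T a b ∈ isometryGroup F Q := by
  refine mem_iso_of_polar C.two fun x y => ?_
  have key : ∀ y u v, B (act (gl T a b) y) (act (gl T a b) (pt T u v)) = B y (pt T u v) := by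
    intro y u v
    have : (QuadraticMap.polarBilin Q).flip (act (gl T a b) (pt T u v)) ∘ₗ act (gl T a b) =
        (QuadraticMap.polarBilin Q).flip (pt T u v) := pt_ext T fun u' v' => by
      show B (act (gl T a b) (pt T u' v')) (act (gl T a b) (pt T u v)) = B (pt T u' v') (pt T u v)
      rw [act_gl_pt, act_gl_pt, C.form, C.form, ha, ← hb v' v]; ring
    exact LinearMap.congr_fun this y
  have : QuadraticMap.polarBilin Q (act (gl T a b) x) ∘ₗ act (gl T a b) = QuadraticMap.polarBilin Q x :=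
    pt_ext T fun u v => key x u v
  exact LinearMap.congr_fun this y

theorem gl_mem_iso_of_iso {a : GL (Fin n₁) F} {b : GL (Fin n₂) F} (ha : a ∈ isometryGroup F q₁)
    (hb : b ∈ isometryGroup F q₂) : gl T a b ∈ isometryGroup F Q :=
  gl_mem_iso C (μ := 1) (fun u u' => by rw [B_act ha, one_mul]) (fun v v' => by rw [B_act hb, one_mul])

theorem M_le_iso : M ≤ isometryGroup F Q := C.le.trans omega_le_iso

variable [Finite F]

theorem gl_right_sg (u w : Fin n₂ → F) : gl T 1 (sg q₂ u w) ∈ M := by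
  refine C.ge _ _ ?_
  obtain ⟨p, hodd, -, hp⟩ := exists_odd_char C.two
  refine mem_omega_of_odd_order C.hQ (five_le C) (gl_mem_iso_of_iso C (one_mem _) (sg_mem_iso q₂ u w)) hodd ?_
  have : ∀ m : ℕ, gl T (1 : GL (Fin n₁) F) (sg q₂ u w) ^ m = gl T 1 (sg q₂ u w ^ m) := fun m => by
    induction m with
    | zero => rw [pow_zero, pow_zero, gl_one]
    | succ m ih => rw [pow_succ, pow_succ, ih, gl_mul, one_mul]
  rw [this, sg_pow_char, gl_one]

theorem gl_right_mem {b : GL (Fin n₂) F} (hb : b ∈ sgGroup q₂) : gl T 1 b ∈ M := by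
  induction hb using Subgroup.closure_induction with
  | mem x hx => obtain ⟨⟨u, w⟩, rfl⟩ := hx; exact gl_right_sg C u w
  | one => rw [gl_one]; exact one_mem _
  | mul x y _ _ hx hy =>
    have e : gl T (1 : GL (Fin n₁) F) (x * y) = gl T 1 x * gl T 1 y := by rw [gl_mul, one_mul]
    rw [e]; exact mul_mem hx hy
  | inv x _ hx =>
    have e : gl T (1 : GL (Fin n₁) F) x⁻¹ = (gl T 1 x)⁻¹ := by rw [gl_inv, inv_one]
    rw [e]; exact inv_mem hx

theorem gl_left_mem {a : GL (Fin n₁) F} (ha : a ∈ sgGroup q₁) : gl T a 1 ∈ M := by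
  rw [← gl_swapSys]; exact gl_right_mem C.swap ha

end Cfsg.Agent.MaxCl.OTens
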