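/-
A non-trivial top element in an overgroup of an orthogonal tensor stabiliser gives the full root group of a pure
singular vector, so the overgroup is the whole derived orthogonal group.
-/
import Cfsg.Agent.Lib.MaxCl.OrthTensorBase

set_option autoImplicit false
set_option linter.unusedSectionVars false
set_option linter.unusedSimpArgs false

namespace Cfsg.Agent.MaxCl.OTens

open scoped MatrixGroups Matrix
open Module (finrank)
open Orth Tens

variable {ι : Type} [Fintype ι] [DecidableEq ι] {F : Type*} [Field F] {n₁ n₂ : ℕ}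
variable {T : TSys ι F n₁ n₂} {Q : QuadraticForm F (ι → F)} {q₁ : QuadraticForm F (Fin n₁ → F)}
variable {q₂ : QuadraticForm F (Fin n₂ → F)} {M : Subgroup (GL ι F)}

set_option quotPrecheck false in
local notation "B" => QuadraticMap.polar (⇑Q)
set_option quotPrecheck false in
local notation "B₁" => QuadraticMap.polar (⇑q₁)
set_option quotPrecheck false in
local notation "B₂" => QuadraticMap.polar (⇑q₂)

/-- `z` adds `B₂(e, p) S u ⊗ e` to `u ⊗ p` -/
def IsTop (T : TSys ι F n₁ n₂) (q₂ : QuadraticForm F (Fin n₂ → F)) (e : Fin n₂ → F) (z : GL ι F)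
    (S : Module.End F (Fin n₁ → F)) : Prop :=
  ∀ u p, act z (pt T u p) = pt T u p + QuadraticMap.polar q₂ e p • pt T (S u) e

/-- the only element of `M` fixing some `F ⊗ e^⊥`, `e` singular, is the identity -/
def TopTrivial (T : TSys ι F n₁ n₂) (q₂ : QuadraticForm F (Fin n₂ → F)) (M : Subgroup (GL ι F)) : Prop :=
  ∀ e, q₂ e = 0 → e ≠ 0 → ∀ z ∈ M, ∀ S, IsTop T q₂ e z S → z = 1

theorem proj_add (w w' : Fin n₂ → F) (x : ι → F) :
    proj T q₂ (w + w') x = proj T q₂ w x + proj T q₂ w' x := by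
  have : proj T q₂ (w + w') = proj T q₂ w + proj T q₂ w' := pt_ext T fun u v => by
    rw [LinearMap.add_apply, proj_pt, proj_pt, proj_pt, B_add_left q₂, add_smul]
  exact LinearMap.congr_fun this x

theorem proj_smul (k : F) (w : Fin n₂ → F) (x : ι → F) : proj T q₂ (k • w) x = k • proj T q₂ w x := by
  have : proj T q₂ (k • w) = k • proj T q₂ w := pt_ext T fun u v => by
    rw [LinearMap.smul_apply, proj_pt, proj_pt, B_smul_left q₂, mul_smul]
  exact LinearMap.congr_fun this x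

theorem proj_sub (w w' : Fin n₂ → F) (x : ι → F) :
    proj T q₂ (w - w') x = proj T q₂ w x - proj T q₂ w' x := by
  rw [eq_sub_iff_add_eq, ← proj_add, sub_add_cancel]

theorem sg_zero_left (w : ι → F) : sg Q 0 w = 1 := by
  by_cases h : Q 0 = 0 ∧ B 0 w = 0
  · apply gl_ext; intro x
    rw [act_sg Q h.1 h.2, act_one]
    simp [B_zero_left Q]
  · exact sg_of_not Q h

theorem sg_flip {u w : ι → F} (hu : Q u = 0) (hw : Q w = 0) (h : B u w = 0) : sg Q w u = (sg Q u w)⁻¹ := by
  rw [← sg_neg Q hu h]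
  apply gl_ext; intro x
  rw [act_sg Q hw (by rw [B_comm Q, h]), act_sg Q hu (by rw [B_neg_right Q, h, neg_zero])]
  simp only [B_neg_left Q, Q_neg Q, hu, hw]
  module

theorem isTop_apply {e : Fin n₂ → F} {z : GL ι F} {S : Module.End F (Fin n₁ → F)} (h : IsTop T q₂ e z S)
    (x : ι → F) : act z x = x + pt T (S (proj T q₂ e x)) e := by
  have : act z = LinearMap.id + ptL T e ∘ₗ S ∘ₗ proj T q₂ e := pt_ext T fun u p => by
    rw [h u p]
    show _ = pt T u p + pt T (S (proj T q₂ e (pt T u p))) e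
    rw [proj_pt, map_smul, pt_smul_left]
  rw [this]; rfl

/-- a subspace containing the singular vectors not orthogonal to `u` is everything -/
theorem eq_top_of_opp {κ : Type} [Fintype κ] [DecidableEq κ] [Finite F] {q : QuadraticForm F (κ → F)}
    (two : (2 : F) ≠ 0) (hq : (QuadraticMap.polarBilin q).Nondegenerate) (h3 : 3 ≤ Fintype.card κ) {u : κ → F}
    (hu : q u = 0) (hu0 : u ≠ 0) (G : Submodule F (κ → F))
    (hG : ∀ s, q s = 0 → QuadraticMap.polar q u s ≠ 0 → s ∈ G) (p : κ → F) : p ∈ G := by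
  obtain ⟨f, hf, huf⟩ := exists_partner_top hq hu hu0
  obtain ⟨y₁, hy₁u, hy₁f, hy₁⟩ := exists_aniso_perp two hq hu hf huf h3
  have hfu : QuadraticMap.polar q f u = 1 := by rw [B_comm q, huf]
  have hfG : f ∈ G := hG f hf (by rw [huf]; exact one_ne_zero)
  have key : ∀ y, QuadraticMap.polar q u y = 0 → QuadraticMap.polar q f y = 0 → y - q y • u ∈ G := by
    intro y h1 h2
    have h := hG (f + y - q y • u) (by
      simp only [Q_sub q, Q_add q, Q_smul q, B_add_left q, B_smul_right q, hf, hu, h2, hfu, B_comm q y u, h1]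
      ring) (by
      simp only [B_sub_right q, B_add_right q, B_smul_right q, huf, h1, B_self_of_singular q hu]
      simp)
    have := G.sub_mem h hfG
    convert this using 1
    abel
  have hlin : ∀ y, QuadraticMap.polar q u y = 0 → QuadraticMap.polar q f y = 0 →
      y ∈ G ∧ q y • u ∈ G := by
    intro y h1 h2
    have a := key y h1 h2
    have b := key (-y) (by rw [B_neg_right q, h1, neg_zero]) (by rw [B_neg_right q, h2, neg_zero])
    rw [Q_neg q] at b
    have h := G.smul_mem (2 : F)⁻¹ (G.sub_mem a b)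
    rw [show y - q y • u - (-y - q y • u) = (2 : F) • y by module, smul_smul, inv_mul_cancel₀ two, one_smul] at h
    refine ⟨h, ?_⟩
    have := G.sub_mem h a
    rwa [sub_sub_cancel] at this
  have huG : u ∈ G := by
    have := G.smul_mem (q y₁)⁻¹ (hlin y₁ hy₁u hy₁f).2
    rwa [smul_smul, inv_mul_cancel₀ hy₁, one_smul] at this
  have h := (hlin (p - QuadraticMap.polar q f p • u - QuadraticMap.polar q u p • f)
    (by simp [B_sub_right q, B_smul_right q, B_self_of_singular q hu, huf])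
    (by simp [B_sub_right q, B_smul_right q, B_self_of_singular q hf, hfu])).1
  have := G.add_mem (G.add_mem h (G.smul_mem (QuadraticMap.polar q f p) huG))
    (G.smul_mem (QuadraticMap.polar q u p) hfG)
  convert this using 1
  abel

variable (C : OCtx T Q q₁ q₂ M)
include C

theorem isTop_sg {v y : Fin n₁ → F} (hv : q₁ v = 0) (hvy : B₁ v y = 0) {e : Fin n₂ → F} (he : q₂ e = 0) :
    IsTop T q₂ e (sg Q (pt T v e) (pt T y e)) (wedge q₁ v y) := by
  intro u p
  rw [act_sg Q (by rw [Q_pt C, hv]; ring) (by rw [C.form, hvy]; ring), C.form, C.form, Q_pt C y e, he,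
    wedge_apply, pt_sub_left, pt_smul_left, pt_smul_left]
  module

theorem isTop_unique {e : Fin n₂ → F} {z z' : GL ι F} {S : Module.End F (Fin n₁ → F)}
    (h : IsTop T q₂ e z S) (h' : IsTop T q₂ e z' S) : z = z' :=
  gl_ext_pt T fun u p => (h u p).trans (h' u p).symm

theorem exists_isTop {e : Fin n₂ → F} (he : q₂ e = 0) (he0 : e ≠ 0) {z : GL ι F} (hz : z ∈ isometryGroup F Q)
    (hfix : ∀ u p, B₂ e p = 0 → act z (pt T u p) = pt T u p) : ∃ S, IsTop T q₂ e z S := by
  obtain ⟨f, hf, hef⟩ := exists_partner_top C.h₂ he he0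
  let E : (Fin n₁ → F) →ₗ[F] (ι → F) := (act z - LinearMap.id) ∘ₗ ptL T f
  refine ⟨proj T q₂ f ∘ₗ E, fun u p => ?_⟩
  have hperp : ∀ b, B₂ e b = 0 → proj T q₂ b (E u) = 0 := by
    intro b hb
    by_contra hne
    obtain ⟨a, ha⟩ := exists_B_ne_zero C.h₁ hne
    apply ha
    rw [← form_right C]
    show B (act z (pt T u f) - pt T u f) (pt T a b) = 0
    rw [B_sub_left Q]
    conv_lhs => arg 1; rw [← hfix a b hb, B_act hz]
    exact sub_self _
  have hEu : E u = pt T (proj T q₂ f (E u)) e := by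
    refine eq_of_proj C fun w => ?_
    have h := hperp (w - B₂ e w • f) (by rw [B_sub_right q₂, B_smul_right q₂, hef]; ring)
    rw [proj_sub, proj_smul, sub_eq_zero] at h
    rw [h, proj_pt, B_comm q₂ w e]
  have hp : pt T u p = pt T u (p - B₂ e p • f) + B₂ e p • pt T u f := by
    rw [pt_sub_right, pt_smul_right]; abel
  rw [hp, map_add, map_smul, hfix u _ (by rw [B_sub_right q₂, B_smul_right q₂, hef]; ring)]
  show _ = _ + _ • pt T (proj T q₂ f (E u)) e
  rw [← hEu]
  show _ = _ + B₂ e p • (act z (pt T u f) - pt T u f)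
  rw [smul_sub]; abel

theorem shift_mem {u₁ w₁ u₂ w₂ : ι → F} (h₁m : sg Q u₁ w₁ ∈ M) (h₂m : sg Q u₂ w₂ ∈ M)
    (hu₁ : Q u₁ = 0) (h11 : B u₁ w₁ = 0) (hu₂ : Q u₂ = 0) (h22 : B u₂ w₂ = 0)
    (h12 : B u₁ u₂ = 0) (hw12 : B w₁ u₂ = 0) :
    sg Q u₂ (B u₁ w₂ • w₁ - (B w₁ w₂ + Q w₁ * B u₁ w₂) • u₁) ∈ M := by
  obtain ⟨d, hd⟩ : ∃ d, d = B u₁ w₂ • w₁ - (B w₁ w₂ + Q w₁ * B u₁ w₂) • u₁ := ⟨_, rfl⟩
  have hu2d : B u₂ d = 0 := by
    rw [hd, B_sub_right Q, B_smul_right Q, B_smul_right Q, B_comm Q u₂ w₁, hw12, B_comm Q u₂ u₁, h12]; ring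
  have e := conj_sg Q (M_le_iso C h₁m) u₂ w₂
  rw [act_sg_fix Q hu₁ h11 h12 hw12, show act (sg Q u₁ w₁) w₂ = w₂ + d by rw [act_sg Q hu₁ h11, hd]; abel,
    ← sg_add Q hu₂ h22 hu2d] at e
  have hm : sg Q u₂ w₂ * sg Q u₂ d ∈ M := e ▸ M.mul_mem (M.mul_mem h₁m h₂m) (M.inv_mem h₁m)
  rw [← hd]
  simpa using M.mul_mem (M.inv_mem h₂m) hm

omit C in
/-- the vectors whose root elements at `u` lie in `M` -/
def rootSpace (_C : OCtx T Q q₁ q₂ M) (u : ι → F) (hu : Q u = 0) : Submodule F (ι → F) where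
  carrier := {w | B u w = 0 ∧ ∀ k : F, sg Q u (k • w) ∈ M}
  zero_mem' := ⟨B_zero_right Q u, fun k => by rw [smul_zero, sg_zero]; exact M.one_mem⟩
  add_mem' {a b} ha hb := ⟨by rw [B_add_right Q, ha.1, hb.1, add_zero], fun k => by
    rw [smul_add, ← sg_add Q hu (by rw [B_smul_right Q, ha.1, mul_zero]) (by rw [B_smul_right Q, hb.1, mul_zero])]
    exact M.mul_mem (ha.2 k) (hb.2 k)⟩
  smul_mem' c a ha := ⟨by rw [B_smul_right Q, ha.1, mul_zero], fun k => by rw [smul_smul]; exact ha.2 _⟩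

variable [Finite F]

/-- the roots of `v ⊗ e` and `y ⊗ e` give the roots of `v ⊗ e` and `v ⊗ q` -/
theorem roots_transpose
    (R : ∀ (v y : Fin n₁ → F) (e : Fin n₂ → F), q₁ v = 0 → B₁ v y = 0 → q₂ e = 0 →
      sg Q (pt T v e) (pt T y e) ∈ M)
    (v : Fin n₁ → F) (e p : Fin n₂ → F) (hv : q₁ v = 0) (he : q₂ e = 0) :
    sg Q (pt T v e) (pt T v p) ∈ M := by
  rcases eq_or_ne v 0 with rfl | hv0
  · rw [pt_zero_left, sg_zero_left]; exact M.one_mem
  rcases eq_or_ne e 0 with rfl | he0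
  · rw [pt_zero_right, sg_zero_left]; exact M.one_mem
  have hQu : Q (pt T v e) = 0 := by rw [Q_pt C, hv]; ring
  obtain ⟨w, hw, hvw⟩ := exists_partner_top C.h₁ hv hv0
  obtain ⟨y, hvy, -, hy⟩ := exists_aniso_perp C.two C.h₁ hv hw hvw (by rw [Fintype.card_fin]; exact C.three₁)
  have hall := eq_top_of_opp C.two C.h₂ (by rw [Fintype.card_fin]; exact C.three₂) he he0
    ((rootSpace C (pt T v e) hQu).comap (ptR T v)) (fun s hs hne => by
      refine ⟨by rw [ptR_apply, C.form, B_self_of_singular q₁ hv]; ring, fun k => ?_⟩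
      rw [ptR_apply]
      obtain ⟨l, hl⟩ : ∃ l, l = -(k / (2 * q₁ y * B₂ e s)) := ⟨_, rfl⟩
      have h := shift_mem C (R v (l • y) s hv (by rw [B_smul_right q₁, hvy, mul_zero]) hs) (R v y e hv hvy he)
        (by rw [Q_pt C, hv]; ring) (by rw [C.form, B_smul_right q₁, hvy]; ring) hQu (by rw [C.form, hvy]; ring)
        (by rw [C.form, B_self_of_singular q₁ hv]; ring)
        (by rw [C.form, B_smul_left q₁, B_comm q₁ y v, hvy]; ring)
      simp only [C.form, hvy, Q_pt C, hs, B_smul_left q₁, B_self q₁, mul_zero, zero_mul, zero_smul, add_zero,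
        zero_sub, ← neg_smul] at h
      convert h using 3
      rw [hl, B_comm q₂ s e]
      field_simp [C.two, hy, hne]) p
  have := hall.2 1
  rwa [one_smul, ptR_apply] at this

/-- pure singular vectors have full root groups -/
theorem full_of_roots (h5 : 5 ≤ n₂)
    (R : ∀ (v y : Fin n₁ → F) (e : Fin n₂ → F), q₁ v = 0 → B₁ v y = 0 → q₂ e = 0 →
      sg Q (pt T v e) (pt T y e) ∈ M)
    {v : Fin n₁ → F} {e : Fin n₂ → F} (hv : q₁ v = 0) (he : q₂ e = 0) (hv0 : v ≠ 0) (he0 : e ≠ 0) :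
    Orth.Full Q M (pt T v e) := by
  have R₂ := roots_transpose C R
  have R₁ : ∀ (v a : Fin n₁ → F) (e : Fin n₂ → F), q₁ v = 0 → q₂ e = 0 → sg Q (pt T v e) (pt T a e) ∈ M := by
    intro v a e hv he
    have h := roots_transpose C.swap (fun p q u hp _ hu => by rw [pt_swapSys, pt_swapSys]; exact R₂ u p q hu hp)
      e v a he hv
    rwa [pt_swapSys, pt_swapSys] at h
  have hQu : ∀ {v : Fin n₁ → F} (e : Fin n₂ → F), q₁ v = 0 → Q (pt T v e) = 0 := fun e hv => by
    rw [Q_pt C, hv]; ring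
  have h3 : 3 ≤ Fintype.card (Fin n₁) := by rw [Fintype.card_fin]; exact C.three₁
  have hcard : 5 ≤ Fintype.card (Fin n₂) := by rwa [Fintype.card_fin]
  have mixed : ∀ (v : Fin n₁ → F) (a : Fin n₁ → F) (e s : Fin n₂ → F), q₁ v = 0 → v ≠ 0 → q₂ e = 0 → q₂ s = 0 →
      B₂ e s = 0 → B₁ v a = 0 → sg Q (pt T v e) (pt T a s) ∈ M := by
    intro v a e s hv hv0 he hs hes hva
    rcases eq_or_ne s 0 with rfl | hs0
    · rw [pt_zero_right, sg_zero]; exact M.one_mem
    obtain ⟨w, hw, hvw⟩ := exists_partner_top C.h₁ hv hv0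
    obtain ⟨p, hp, hsp⟩ := exists_partner_top C.h₂ hs hs0
    have hse : B₂ s e = 0 := by rw [B_comm q₂, hes]
    have hpv : B₁ w v = 1 := by rw [B_comm q₁, hvw]
    have h := shift_mem C (R₁ w a s hw hs) (R₂ v e p hv he) (hQu s hw)
      (by rw [C.form, B_self_of_singular q₂ hs]; ring) (hQu e hv)
      (by rw [C.form, B_self_of_singular q₁ hv]; ring) (by rw [C.form, hse]; ring)
      (by rw [C.form, hse]; ring)
    simp only [C.form, hpv, hsp, B_comm q₁ a v, hva, Q_pt C, hs, mul_one, mul_zero, zero_mul, one_smul, zero_add,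
      zero_smul, sub_zero] at h
    exact h
  obtain ⟨w, hw, hvw⟩ := exists_partner_top C.h₁ hv hv0
  have hwv : B₁ w v = 1 := by rw [B_comm q₁, hvw]
  obtain ⟨y, hvy, hwy, hy⟩ := exists_aniso_perp C.two C.h₁ hv hw hvw h3
  obtain ⟨f, hf, hef⟩ := exists_partner_top C.h₂ he he0
  have hfe : B₂ f e = 1 := by rw [B_comm q₂, hef]
  let G := rootSpace C (pt T v e) (hQu e hv)
  have hsingY : ∀ (a : Fin n₁ → F) (s : Fin n₂ → F), q₂ s = 0 → B₂ e s = 0 → pt T a s ∈ G := by
    intro a s hs hes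
    have perpv : ∀ a, B₁ v a = 0 → pt T a s ∈ G := fun a ha =>
      ⟨by rw [C.form, ha]; ring, fun k => by
        rw [← pt_smul_left]
        exact mixed v (k • a) e s hv hv0 he hs hes (by rw [B_smul_right q₁, ha, mul_zero])⟩
    suffices pt T w s ∈ G by
      have h := G.add_mem (perpv (a - B₁ v a • w) (by rw [B_sub_right q₁, B_smul_right q₁, hvw]; ring))
        (G.smul_mem (B₁ v a) this)
      rwa [← pt_smul_left, ← pt_add_left, sub_add_cancel] at h
    by_cases hse : s ∈ F ∙ e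
    · obtain ⟨l, rfl⟩ := Submodule.mem_span_singleton.1 hse
      refine ⟨by rw [C.form, B_smul_right q₂, B_self_of_singular q₂ he]; ring, fun k => ?_⟩
      rw [pt_smul_right, smul_smul, ← pt_smul_left]
      exact R₁ v _ e hv he
    · obtain ⟨z, hz, hz1⟩ := Orth.exists_perp_one C.h₂ hse
      have hez : B₂ e z = 0 := Orth.mem_perp q₂ |>.1 hz e (Submodule.mem_span_singleton_self e)
      obtain ⟨s', hs', hQs', hss'⟩ := Orth.exists_partner q₂ (W := Orth.perp q₂ (F ∙ e)) hs
        ((Orth.mem_perp q₂).2 fun b hb => by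
          obtain ⟨l, rfl⟩ := Submodule.mem_span_singleton.1 hb
          rw [B_smul_left q₂, hes, mul_zero])
        hz (by rw [hz1]; exact one_ne_zero)
      have hes' : B₂ e s' = 0 := (Orth.mem_perp q₂).1 hs' e (Submodule.mem_span_singleton_self e)
      refine ⟨by rw [C.form, hes]; ring, fun k => ?_⟩
      obtain ⟨l, hl⟩ : ∃ l, l = -(k / (2 * q₁ y)) := ⟨_, rfl⟩
      have h := shift_mem C (R₁ w (l • y) s hw hs) (mixed v y e s' hv hv0 he hQs' hes' hvy) (hQu s hw)
        (by rw [C.form, B_self_of_singular q₂ hs]; ring) (hQu e hv) (by rw [C.form, hvy]; ring)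
        (by rw [C.form, B_comm q₂ s e, hes]; ring) (by rw [C.form, B_comm q₂ s e, hes]; ring)
      simp only [C.form, hwy, hss', B_smul_left q₁, B_self q₁, Q_pt C, hs, mul_one, mul_zero, zero_mul, zero_smul,
        add_zero, zero_sub, ← neg_smul] at h
      convert h using 3
      rw [hl]
      field_simp [C.two, hy]
  -- the layer opposite to `e`
  have hmid : ∀ (a : Fin n₁ → F) (p : Fin n₂ → F), B₂ e p = 0 → pt T a p ∈ G := by
    intro a p hp
    by_contra hne
    obtain ⟨y₁, hy₁e, hy₁f, hy₁⟩ := exists_aniso_perp C.two C.h₂ he hf hef (by omega)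
    let W : Submodule F (Fin n₂ → F) := G.comap (ptR T a)
    have heW : e ∈ W := hsingY a e he (B_self_of_singular q₂ he)
    let D := Orth.perp q₂ (Submodule.span F (Set.range ![e, f]))
    have hD : 3 ≤ finrank F D := by
      show 3 ≤ finrank F (Orth.perp q₂ (Submodule.span F (Set.range ![e, f])))
      have h1 := Orth.finrank_perp C.h₂ (Submodule.span F (Set.range ![e, f]))
      have h2 := finrank_span_list_le (F := F) ![e, f]
      omega
    have hDe : ∀ {x}, x ∈ D → B₂ e x = 0 ∧ B₂ f x = 0 := fun hx =>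
      ⟨(Orth.mem_perp_span q₂).1 hx e ⟨0, rfl⟩, (Orth.mem_perp_span q₂).1 hx f ⟨1, rfl⟩⟩
    obtain ⟨p₀, hp₀⟩ : ∃ p₀, p₀ = p - B₂ f p • e := ⟨_, rfl⟩
    have hp₀D : p₀ ∈ D := by
      rw [Orth.mem_perp_span]
      rintro x ⟨i, rfl⟩
      fin_cases i <;> simp [hp₀, B_sub_right q₂, B_smul_right q₂, hp, B_self_of_singular q₂ he, hfe]
    suffices p₀ ∈ W by
      apply hne
      have := W.add_mem this (W.smul_mem (B₂ f p) heW)
      rw [hp₀, sub_add_cancel] at this
      exact this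
    obtain ⟨s, hsD, hs0, hs⟩ := Orth.exists_singular q₂ hD
    obtain ⟨z, hz⟩ := exists_B_ne_zero C.h₂ hs0
    obtain ⟨s', hs'D, hs', hss'⟩ := Orth.exists_partner q₂ (W := D) hs hsD
      (z := z - B₂ f z • e - B₂ e z • f) ((Orth.mem_perp_span q₂).2 (by
        rintro x ⟨i, rfl⟩
        fin_cases i <;> simp [B_sub_right q₂, B_smul_right q₂, B_self_of_singular q₂ he,
          B_self_of_singular q₂ hf, hef, hfe]))
      (by
        rw [B_sub_right q₂, B_sub_right q₂, B_smul_right q₂, B_smul_right q₂, B_comm q₂ s e, B_comm q₂ s f,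
          (hDe hsD).1, (hDe hsD).2, mul_zero, mul_zero, sub_zero, sub_zero]
        exact hz)
    have hs'' : B₂ s' s = 1 := by rw [B_comm q₂, hss']
    have key : ∀ d ∈ D, B₂ s d = 0 → B₂ s' d = 0 → d - q₂ d • s ∈ W := by
      intro d hd h1 h2
      have h := hsingY a (s' + d - q₂ d • s) (by
        simp only [Q_sub q₂, Q_add q₂, Q_smul q₂, B_add_left q₂, B_smul_right q₂, hs, hs', h2, hs'',
          B_comm q₂ d s, h1]
        ring) (hDe (D.sub_mem (D.add_mem hs'D hd) (D.smul_mem _ hsD))).1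
      have := W.sub_mem h (hsingY a s' hs' (hDe hs'D).1)
      convert this using 1
      abel
    have hsW : s ∈ W := hsingY a s hs (hDe hsD).1
    have hs'W : s' ∈ W := hsingY a s' hs' (hDe hs'D).1
    obtain ⟨d, hd⟩ : ∃ d, d = p₀ - B₂ s' p₀ • s - B₂ s p₀ • s' := ⟨_, rfl⟩
    have := key d (hd ▸ D.sub_mem (D.sub_mem hp₀D (D.smul_mem _ hsD)) (D.smul_mem _ hs'D))
      (by simp [hd, B_sub_right q₂, B_smul_right q₂, B_self_of_singular q₂ hs, hss'])
      (by simp [hd, B_sub_right q₂, B_smul_right q₂, B_self_of_singular q₂ hs', hs''])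
    have := W.add_mem (W.add_mem (W.add_mem this (W.smul_mem (q₂ d) hsW)) (W.smul_mem (B₂ s' p₀) hsW))
      (W.smul_mem (B₂ s p₀) hs'W)
    convert this using 1
    rw [hd]; abel
  have hlast : ∀ a, B₁ v a = 0 → pt T a f ∈ G := by
    intro a ha
    refine ⟨by rw [C.form, ha]; ring, fun k => ?_⟩
    rw [← pt_smul_left]
    obtain ⟨s, hs, hs0, hQs⟩ := Orth.exists_singular q₂ (D := Orth.perp q₂ (Submodule.span F (Set.range ![e, f]))) (by
      have h1 := Orth.finrank_perp C.h₂ (Submodule.span F (Set.range ![e, f]))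
      have h2 := finrank_span_list_le (F := F) ![e, f]
      omega)
    have hes : B₂ e s = 0 := (Orth.mem_perp_span q₂).1 hs e ⟨0, rfl⟩
    have hfs : B₂ f s = 0 := (Orth.mem_perp_span q₂).1 hs f ⟨1, rfl⟩
    obtain ⟨z, hz⟩ := exists_B_ne_zero C.h₂ hs0
    obtain ⟨z', hz'def⟩ : ∃ z', z' = (B₂ s z)⁻¹ • (z - B₂ e z • f) := ⟨_, rfl⟩
    have hez' : B₂ e z' = 0 := by rw [hz'def, B_smul_right q₂, B_sub_right q₂, B_smul_right q₂, hef]; ring
    have hsz' : B₂ s z' = 1 := by
      rw [hz'def, B_smul_right q₂, B_sub_right q₂, B_smul_right q₂, B_comm q₂ s f, hfs, mul_zero, sub_zero,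
        inv_mul_cancel₀ hz]
    obtain ⟨a', ha'⟩ : ∃ a', a' = k • a := ⟨_, rfl⟩
    have hva' : B₁ v a' = 0 := by rw [ha', B_smul_right q₁, ha, mul_zero]
    obtain ⟨b, hb⟩ : ∃ b, b = w - B₁ a' w • v := ⟨_, rfl⟩
    -- `b ⊗ z'` is moved onto `a' ⊗ f` modulo `v ⊗ s`
    have hbm : sg Q (pt T v e) (pt T b z') ∈ M := by simpa using (hmid b z' hez').2 1
    have hfm : sg Q (pt T v s) (pt T a' f) ∈ M :=
      mixed v a' s f hv hv0 hQs hf (by rw [B_comm q₂, hfs]) hva'
    have h := shift_mem C hfm hbm (hQu s hv) (by rw [C.form, hva']; ring) (hQu e hv)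
      (by rw [C.form, hez']; ring) (by rw [C.form, B_comm q₂ s e, hes]; ring)
      (by rw [C.form, B_comm q₁ a' v, hva']; ring)
    have hvb : B₁ v b = 1 := by
      rw [hb, B_sub_right q₁, B_smul_right q₁, hvw, B_self_of_singular q₁ hv]; ring
    simp only [C.form, hvb, hsz', Q_pt C, hf, mul_one, mul_zero, zero_mul, one_smul, add_zero] at h
    obtain ⟨j, hj⟩ : ∃ j, j = B₁ a' b * B₂ f z' := ⟨_, rfl⟩
    rw [← hj] at h
    have hvs : sg Q (pt T v e) (j • pt T v s) ∈ M := by
      rw [← pt_smul_right]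
      exact R₂ v e _ hv he
    have := M.mul_mem h hvs
    rw [sg_add Q (hQu e hv) (by
      rw [B_sub_right Q, B_smul_right Q, C.form, C.form, hva', B_self_of_singular q₁ hv]; ring)
      (by rw [B_smul_right Q, C.form, B_self_of_singular q₁ hv]; ring), sub_add_cancel] at this
    rw [ha'] at this
    exact this
  intro x hx
  have hx0 : B₁ v (proj T q₂ e x) = 0 := by
    rwa [B_comm Q, form_right C, B_comm q₁] at hx
  have hE : (act (1 : GL ι F) - ptL T f ∘ₗ proj T q₂ e) x ∈ G := by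
    rw [sum_pt T x]
    simp only [map_sum, map_smul]
    refine G.sum_mem fun i _ => G.sum_mem fun j _ => G.smul_mem _ ?_
    simp only [LinearMap.sub_apply, LinearMap.comp_apply, act_one, proj_pt, ptL_apply]
    rw [pt_smul_left, ← pt_smul_right, ← pt_sub_right]
    exact hmid _ _ (by rw [B_sub_right q₂, B_smul_right q₂, hef]; ring)
  simp only [LinearMap.sub_apply, LinearMap.comp_apply, act_one, ptL_apply] at hE
  have := (G.add_mem hE (hlast _ hx0)).2 1
  rwa [sub_add_cancel, one_smul] at this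

/-- a non-trivial top element generates -/
theorem eq_omega_of_top (h5 : 5 ≤ n₂)
    (h4 : n₁ = 4 → ∀ a b, q₁ a = 0 → q₁ b = 0 → B₁ a b = 0 → a ≠ 0 → b ∈ F ∙ a)
    (hT : ¬ TopTrivial T q₂ M) : M = Cfsg.Geo.omegaGL Q := by
  refine le_antisymm C.le ?_
  simp only [TopTrivial] at hT
  push Not at hT
  obtain ⟨e, he, he0, z, hz, S, hS, hz1⟩ := hT
  have hcard : 5 ≤ Fintype.card (Fin n₂) := by rwa [Fintype.card_fin]
  have hsq : ∀ l : F, ∀ z ∈ M, ∀ S, IsTop T q₂ e z S → ∃ z' ∈ M, IsTop T q₂ e z' ((l * l) • S) := by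
    intro l z hz S hS
    rcases eq_or_ne l 0 with rfl | hl
    · exact ⟨1, M.one_mem, fun u p => by simp [act_one, pt_zero_left]⟩
    obtain ⟨b, hb, hbe⟩ := exists_torus C.two C.h₂ hcard he he0 hl
    refine ⟨gl T 1 b * z * (gl T 1 b)⁻¹, M.mul_mem (M.mul_mem (gl_right_mem C hb) hz)
      (M.inv_mem (gl_right_mem C hb)), fun u p => ?_⟩
    have hbi : B₂ e (act b⁻¹ p) = l * B₂ e p := by
      conv_lhs => rw [← B_act (sgGroup_le_iso hb), hbe, act_act_inv, B_smul_left q₂]
    rw [gl_inv, act_mul, act_mul, act_gl_pt, inv_one, act_one, hS, map_add, map_smul, act_gl_pt, act_gl_pt,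
      act_one, act_one, act_act_inv, hbe, hbi, pt_smul_right, LinearMap.smul_apply, pt_smul_left, smul_smul,
      smul_smul]
    congr 2
    ring
  let L : Submodule F (Module.End F (Fin n₁ → F)) :=
    { carrier := {S | ∃ z ∈ M, IsTop T q₂ e z S}
      zero_mem' := ⟨1, M.one_mem, fun u p => by simp [act_one, pt_zero_left]⟩
      add_mem' := by
        rintro S S' ⟨z, hz, hS⟩ ⟨z', hz', hS'⟩
        refine ⟨z * z', M.mul_mem hz hz', fun u p => ?_⟩
        rw [act_mul, hS', map_add, map_smul, hS, hS, B_self_of_singular q₂ he, zero_smul, add_zero,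
          LinearMap.add_apply, pt_add_left, smul_add]
        abel
      smul_mem' := by
        rintro k S ⟨z, hz, hS⟩
        obtain ⟨z₁, hz₁, hS₁⟩ := hsq ((k + 1) / 2) z hz S hS
        obtain ⟨z₂, hz₂, hS₂⟩ := hsq ((k - 1) / 2) z hz S hS
        refine ⟨z₁ * z₂⁻¹, M.mul_mem hz₁ (M.inv_mem hz₂), fun u p => ?_⟩
        have e2 : act z₂⁻¹ (pt T u p) = pt T u p - B₂ e p • pt T (((k - 1) / 2 * ((k - 1) / 2)) • S u) e := by
          apply act_injective z₂
          rw [act_act_inv, map_sub, map_smul, hS₂, hS₂, B_self_of_singular q₂ he, zero_smul, add_zero,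
            LinearMap.smul_apply]
          abel
        have hk : (k + 1) / 2 * ((k + 1) / 2) - (k - 1) / 2 * ((k - 1) / 2) = k := by
          field_simp [C.two]
          ring
        rw [act_mul, e2, map_sub, map_smul, hS₁, hS₁, B_self_of_singular q₂ he, zero_smul, add_zero]
        simp only [LinearMap.smul_apply, pt_smul_left]
        conv_rhs => rw [← hk]
        module }
  have hinv : ∀ u w, ∀ X ∈ L, conjL (sg q₁ u w) X ∈ L := by
    rintro u w X ⟨z, hz, hX⟩
    have ha := gl_left_mem C (sg_mem_sgGroup (Q := q₁) u w)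
    refine ⟨gl T (sg q₁ u w) 1 * z * (gl T (sg q₁ u w) 1)⁻¹, M.mul_mem (M.mul_mem ha hz) (M.inv_mem ha),
      fun a p => ?_⟩
    rw [gl_inv, act_mul, act_mul, act_gl_pt, inv_one, act_one, hX, map_add, map_smul, act_gl_pt, act_gl_pt,
      act_one, act_one, act_act_inv, conjL_apply]
  obtain ⟨f, hf, hef⟩ := exists_partner_top C.h₂ he he0
  have hskew : ∀ X ∈ L, ∀ x y, B₁ (X x) y + B₁ x (X y) = 0 := by
    rintro X ⟨z, hz, hX⟩ x y
    have h := B_act (M_le_iso C hz) (pt T x f) (pt T y f)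
    rw [hX, hX, hef, one_smul, one_smul] at h
    simp only [B_add_left Q, B_add_right Q, C.form, B_self_of_singular q₂ he, B_self_of_singular q₂ hf, hef,
      B_comm q₂ f e] at h
    linear_combination h
  have hne : L ≠ ⊥ := by
    intro h
    have hSL : S ∈ L := ⟨z, hz, hS⟩
    rw [h, Submodule.mem_bot] at hSL
    subst hSL
    exact hz1 (gl_ext_pt T fun u p => by rw [hS, act_one, LinearMap.zero_apply, pt_zero_left, smul_zero, add_zero])
  have h3 : 3 ≤ Fintype.card (Fin n₁) := by rw [Fintype.card_fin]; exact C.three₁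
  have R : ∀ (v y : Fin n₁ → F) (e' : Fin n₂ → F), q₁ v = 0 → B₁ v y = 0 → q₂ e' = 0 →
      sg Q (pt T v e') (pt T y e') ∈ M := by
    intro v y e' hv hvy he'
    rcases eq_or_ne e' 0 with rfl | he'0
    · rw [pt_zero_right, sg_zero_left]; exact M.one_mem
    obtain ⟨z', hz', hS'⟩ := wedge_mem_of_skew C.two C.h₁ hinv hskew h3 (by rw [Fintype.card_fin]; exact h4) hne
      hv hvy
    have hm : sg Q (pt T v e) (pt T y e) ∈ M := by
      rw [isTop_unique C (isTop_sg C hv hvy he) hS']; exact hz'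
    obtain ⟨b, hb, hbe⟩ := exists_move_exact C.two C.h₂ hcard he he0 he' he'0
    have hbm := gl_right_mem C hb
    have := M.mul_mem (M.mul_mem hbm hm) (M.inv_mem hbm)
    rwa [conj_sg Q (M_le_iso C hbm), act_gl_pt, act_gl_pt, act_one, act_one, hbe] at this
  obtain ⟨v, -, hv0, hv⟩ := Orth.exists_singular q₁ (D := (⊤ : Submodule F (Fin n₁ → F))) (by
    rw [finrank_top, Module.finrank_pi]; omega)
  obtain ⟨w, hw, hvw⟩ := exists_partner_top C.h₁ hv hv0
  have hw0 : w ≠ 0 := fun h => by rw [h, B_zero_right q₁] at hvw; exact zero_ne_one hvw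
  have hf0 : f ≠ 0 := fun h => by rw [h, B_zero_right q₂] at hef; exact zero_ne_one hef
  refine omega_le_of_full C.hQ (five_le C) (x := pt T v e) (y := pt T w f) (by rw [Q_pt C, hv]; ring)
    (by rw [Q_pt C, hw]; ring) (by rw [C.form, hvw, hef, mul_one]; exact one_ne_zero)
    (full_of_roots C h5 R hv he hv0 he0) (full_of_roots C h5 R hw hf hw0 hf0)

end Cfsg.Agent.MaxCl.OTens
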