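/-
Without top elements, the stabiliser of `F ⊗ e`, `e` singular, in an overgroup of an orthogonal tensor stabiliser
consists of tensor products: its radical part gives commuting self-adjoint maps, so is scalar.
-/
import Cfsg.Agent.Lib.MaxCl.OrthTensorTop
import Cfsg.Agent.Lib.MaxCl.SympSwap

set_option autoImplicit false
set_option linter.unusedSectionVars false
set_option linter.unusedSimpArgs false
set_option linter.style.haveILetI false

namespace Cfsg.Agent.MaxCl.OTens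

open scoped MatrixGroups Matrix
open Module (finrank)
open Orth Tens

variable {ι : Type} [Fintype ι] [DecidableEq ι] {F : Type*} [Field F] {n₁ n₂ : ℕ}
variable {T : TSys ι F n₁ n₂} {Q : QuadraticForm F (ι → F)} {q₁ : QuadraticForm F (Fin n₁ → F)}
variable {q₂ : QuadraticForm F (Fin n₂ → F)} {M : Subgroup (GL ι F)}

set_option quotPrecheck false in
local notation "B" => QuadraticMap.polar (⇑Q)
set_option quotPrecheck false in
local notation "B₁" => QuadraticMap.polar (⇑q₁)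
set_option quotPrecheck false in
local notation "B₂" => QuadraticMap.polar (⇑q₂)

/-- the elements of the unipotent radical of the stabiliser of `F ⊗ e` -/
def IsRad (T : TSys ι F n₁ n₂) (q₂ : QuadraticForm F (Fin n₂ → F)) (e : Fin n₂ → F) (ρ : GL ι F) : Prop :=
  (∀ u, act ρ (pt T u e) = pt T u e) ∧
    ∀ u p, QuadraticMap.polar q₂ e p = 0 → ∃ a, act ρ (pt T u p) = pt T u p + pt T a e

/-- the middle part of a radical element -/
noncomputable def radMap (T : TSys ι F n₁ n₂) (q₂ : QuadraticForm F (Fin n₂ → F)) (f : Fin n₂ → F)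
    (ρ : GL ι F) (p : Fin n₂ → F) : Module.End F (Fin n₁ → F) :=
  proj T q₂ f ∘ₗ (act ρ - LinearMap.id) ∘ₗ ptL T p

theorem radMap_apply (f : Fin n₂ → F) (ρ : GL ι F) (p : Fin n₂ → F) (u : Fin n₁ → F) :
    radMap T q₂ f ρ p u = proj T q₂ f (act ρ (pt T u p) - pt T u p) := rfl

theorem radMap_add (f : Fin n₂ → F) (ρ : GL ι F) (p p' : Fin n₂ → F) :
    radMap T q₂ f ρ (p + p') = radMap T q₂ f ρ p + radMap T q₂ f ρ p' := by
  apply LinearMap.ext; intro u
  simp only [LinearMap.add_apply, radMap_apply, pt_add_right, map_add, map_sub]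
  abel

theorem radMap_smul (f : Fin n₂ → F) (ρ : GL ι F) (k : F) (p : Fin n₂ → F) :
    radMap T q₂ f ρ (k • p) = k • radMap T q₂ f ρ p := by
  apply LinearMap.ext; intro u
  simp only [LinearMap.smul_apply, radMap_apply, pt_smul_right, map_smul, map_sub, smul_sub]

theorem radMap_sub (f : Fin n₂ → F) (ρ : GL ι F) (p p' : Fin n₂ → F) :
    radMap T q₂ f ρ (p - p') = radMap T q₂ f ρ p - radMap T q₂ f ρ p' := by
  rw [eq_sub_iff_add_eq, ← radMap_add, sub_add_cancel]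

/-- a subspace containing the singular vectors orthogonal to a hyperbolic pair contains all such vectors -/
theorem mem_of_singular_perp [Finite F] {κ : Type} [Fintype κ] [DecidableEq κ] {q : QuadraticForm F (κ → F)}
    (hq : (QuadraticMap.polarBilin q).Nondegenerate) (h5 : 5 ≤ Fintype.card κ) {e f : κ → F} (he : q e = 0)
    (hf : q f = 0) (hef : QuadraticMap.polar q e f = 1) (W : Submodule F (κ → F))
    (hW : ∀ s, q s = 0 → QuadraticMap.polar q e s = 0 → QuadraticMap.polar q f s = 0 → s ∈ W) {p : κ → F}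
    (hep : QuadraticMap.polar q e p = 0) (hfp : QuadraticMap.polar q f p = 0) : p ∈ W := by
  have hfe : QuadraticMap.polar q f e = 1 := by rw [B_comm q, hef]
  have hD : 3 ≤ finrank F (Orth.perp q (Submodule.span F (Set.range ![e, f]))) := by
    have h1 := Orth.finrank_perp hq (Submodule.span F (Set.range ![e, f]))
    have h2 := finrank_span_list_le (F := F) ![e, f]
    omega
  obtain ⟨s, hsD, hs0, hs⟩ := Orth.exists_singular q hD
  have hes : QuadraticMap.polar q e s = 0 := (Orth.mem_perp_span q).1 hsD e ⟨0, rfl⟩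
  have hfs : QuadraticMap.polar q f s = 0 := (Orth.mem_perp_span q).1 hsD f ⟨1, rfl⟩
  obtain ⟨z, hz⟩ := exists_B_ne_zero hq hs0
  obtain ⟨s', hs'D, hs', hss'⟩ := Orth.exists_partner q
    (W := Orth.perp q (Submodule.span F (Set.range ![e, f]))) hs hsD
    (z := z - QuadraticMap.polar q f z • e - QuadraticMap.polar q e z • f) ((Orth.mem_perp_span q).2 (by
      rintro x ⟨i, rfl⟩
      fin_cases i <;> simp [B_sub_right q, B_smul_right q, B_self_of_singular q he,
        B_self_of_singular q hf, hef, hfe]))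
    (by
      rw [B_sub_right q, B_sub_right q, B_smul_right q, B_smul_right q, B_comm q s e, B_comm q s f,
        hes, hfs, mul_zero, mul_zero, sub_zero, sub_zero]
      exact hz)
  have hes' : QuadraticMap.polar q e s' = 0 := (Orth.mem_perp_span q).1 hs'D e ⟨0, rfl⟩
  have hfs' : QuadraticMap.polar q f s' = 0 := (Orth.mem_perp_span q).1 hs'D f ⟨1, rfl⟩
  have hs's : QuadraticMap.polar q s' s = 1 := by rw [B_comm q, hss']
  obtain ⟨d, hd⟩ : ∃ d, d = p - QuadraticMap.polar q s' p • s - QuadraticMap.polar q s p • s' := ⟨_, rfl⟩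
  have h1 : QuadraticMap.polar q s d = 0 := by
    simp [hd, B_sub_right q, B_smul_right q, B_self_of_singular q hs, hss']
  have h2 : QuadraticMap.polar q s' d = 0 := by
    simp [hd, B_sub_right q, B_smul_right q, B_self_of_singular q hs', hs's]
  have h3 : QuadraticMap.polar q e d = 0 := by simp [hd, B_sub_right q, B_smul_right q, hep, hes, hes']
  have h4 : QuadraticMap.polar q f d = 0 := by simp [hd, B_sub_right q, B_smul_right q, hfp, hfs, hfs']
  have hsW := hW s hs hes hfs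
  have hs'W := hW s' hs' hes' hfs'
  have h := hW (s' + d - q d • s) (by
    simp only [Q_sub q, Q_add q, Q_smul q, B_add_left q, B_smul_right q, hs, hs', h2, hs's, B_comm q d s, h1]
    ring) (by simp [B_sub_right q, B_add_right q, B_smul_right q, h3, hes, hes'])
    (by simp [B_sub_right q, B_add_right q, B_smul_right q, h4, hfs, hfs'])
  have := W.add_mem (W.add_mem (W.add_mem (W.sub_mem h hs'W) (W.smul_mem (q d) hsW))
    (W.smul_mem (QuadraticMap.polar q s' p) hsW)) (W.smul_mem (QuadraticMap.polar q s p) hs'W)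
  convert this using 1
  rw [hd]; abel

theorem pow_eq_one_of_unipotent [Finite F] {p : ℕ} [CharP F p] [Fact p.Prime] {g : GL ι F}
    (h : ∀ x, act g (act g (act g x)) - (3 : F) • act g (act g x) + (3 : F) • act g x - x = 0) :
    g ^ p ^ 3 = 1 := by
  rcases isEmpty_or_nonempty ι with hι | hι
  · exact Units.ext (Subsingleton.elim _ _)
  haveI : CharP (Matrix ι ι F) p := Matrix.charP p
  set N : Matrix ι ι F := (g : Matrix ι ι F) - 1 with hN
  have h3 : N ^ 3 = 0 := by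
    refine Matrix.toLin'.injective (LinearMap.ext fun x => ?_)
    rw [map_zero, LinearMap.zero_apply, Matrix.toLin'_apply, pow_succ, pow_two, ← Matrix.mulVec_mulVec,
      ← Matrix.mulVec_mulVec, hN]
    simp only [Matrix.sub_mulVec, Matrix.one_mulVec, Matrix.mulVec_sub, ← act_apply, map_sub]
    rw [← h x]; module
  have hg : (g : Matrix ι ι F) = 1 + N := by rw [hN]; abel
  apply Units.ext
  rw [Units.val_pow_eq_pow_val, Units.val_one, hg, add_pow_char_pow_of_commute p 3 (Commute.one_left N), one_pow,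
    pow_eq_zero_of_le (le_trans (Nat.lt_pow_self (n := 3) (Fact.out : p.Prime).one_lt).le le_rfl) h3, add_zero]

variable (C : OCtx T Q q₁ q₂ M)
include C

theorem proj_projL (w : Fin n₂ → F) (χ : (Fin n₁ → F) →ₗ[F] F) (x : ι → F) :
    B₂ w (cL T χ x) = χ (proj T q₂ w x) := by
  have : QuadraticMap.polarBilin q₂ w ∘ₗ cL T χ = χ ∘ₗ proj T q₂ w := pt_ext T fun u v => by
    show B₂ w (cL T χ (pt T u v)) = χ (proj T q₂ w (pt T u v))
    rw [cL_pt, proj_pt, map_smul, B_smul_right q₂, smul_eq_mul]; ring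
  exact LinearMap.congr_fun this x

theorem act_glSiegel {e φ : Fin n₂ → F} (he : q₂ e = 0) (heφ : B₂ e φ = 0) (x : ι → F) :
    act (gl T 1 (sg q₂ e φ)) x =
      x + pt T (proj T q₂ e x) φ - pt T (proj T q₂ φ x + q₂ φ • proj T q₂ e x) e := by
  have : act (gl T 1 (sg q₂ e φ)) = LinearMap.id + ptL T φ ∘ₗ proj T q₂ e -
      ptL T e ∘ₗ (proj T q₂ φ + q₂ φ • proj T q₂ e) := pt_ext T fun u v => by
    show _ = pt T u v + pt T (proj T q₂ e (pt T u v)) φ -
      pt T (proj T q₂ φ (pt T u v) + q₂ φ • proj T q₂ e (pt T u v)) e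
    rw [act_gl_pt, act_one, act_sg q₂ he heφ, proj_pt, proj_pt, pt_sub_right, pt_add_right, pt_smul_right,
      pt_smul_right, pt_smul_left, smul_smul, ← add_smul, pt_smul_left]
  rw [this]; rfl

theorem isRad_glSiegel {e φ : Fin n₂ → F} (he : q₂ e = 0) (heφ : B₂ e φ = 0) :
    IsRad T q₂ e (gl T 1 (sg q₂ e φ)) := by
  refine ⟨fun u => ?_, fun u p hp => ⟨-(B₂ φ p • u), ?_⟩⟩
  · rw [act_gl_pt, act_one, act_sg_fix q₂ he heφ (B_self_of_singular q₂ he) (by rw [B_comm q₂, heφ])]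
  · rw [act_gl_pt, act_one, act_sg q₂ he heφ, hp, zero_smul, mul_zero, add_zero, add_zero, pt_sub_right,
      pt_smul_right, pt_neg_left, pt_smul_left, sub_eq_add_neg]

theorem IsRad.one (e : Fin n₂ → F) : IsRad T q₂ e 1 :=
  ⟨fun _ => act_one _, fun _ _ _ => ⟨0, by rw [act_one, pt_zero_left, add_zero]⟩⟩

theorem IsRad.mul {e : Fin n₂ → F} {ρ ρ' : GL ι F} (h : IsRad T q₂ e ρ) (h' : IsRad T q₂ e ρ') :
    IsRad T q₂ e (ρ * ρ') := by
  refine ⟨fun u => by rw [act_mul, h'.1, h.1], fun u p hp => ?_⟩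
  obtain ⟨a, ha⟩ := h'.2 u p hp
  obtain ⟨b, hb⟩ := h.2 u p hp
  exact ⟨b + a, by rw [act_mul, ha, map_add, hb, h.1, pt_add_left]; abel⟩

theorem IsRad.inv {e : Fin n₂ → F} {ρ : GL ι F} (h : IsRad T q₂ e ρ) : IsRad T q₂ e ρ⁻¹ := by
  refine ⟨fun u => ?_, fun u p hp => ?_⟩
  · apply act_injective ρ; rw [act_act_inv, h.1]
  · obtain ⟨a, ha⟩ := h.2 u p hp
    refine ⟨-a, act_injective ρ ?_⟩
    rw [act_act_inv, map_add, ha, h.1, pt_neg_left]; abel

theorem IsRad.conj {e : Fin n₂ → F} {ρ : GL ι F} (h : IsRad T q₂ e ρ) {a : GL (Fin n₁) F} {b : GL (Fin n₂) F}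
    (hb : b ∈ isometryGroup F q₂) (hbe : act b e = e) : IsRad T q₂ e (gl T a b * ρ * (gl T a b)⁻¹) := by
  have hbe' : act b⁻¹ e = e := by conv_lhs => rw [← hbe, act_inv_act]
  refine ⟨fun u => ?_, fun u p hp => ?_⟩
  · rw [gl_inv, act_mul, act_mul, act_gl_pt, hbe', h.1, act_gl_pt, act_act_inv, hbe]
  · have hp' : B₂ e (act b⁻¹ p) = 0 := by rw [← B_act hb, hbe, act_act_inv, hp]
    obtain ⟨x, hx⟩ := h.2 (act a⁻¹ u) _ hp'
    exact ⟨act a x, by rw [gl_inv, act_mul, act_mul, act_gl_pt, hx, map_add, act_gl_pt, act_gl_pt, act_act_inv,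
      act_act_inv, hbe]⟩

variable {e f : Fin n₂ → F} (he : q₂ e = 0) (hf : q₂ f = 0) (hef : QuadraticMap.polar q₂ e f = 1)
include he hf hef

theorem rad_apply {ρ : GL ι F} (h : IsRad T q₂ e ρ) (u : Fin n₁ → F) {p : Fin n₂ → F} (hp : B₂ e p = 0) :
    act ρ (pt T u p) = pt T u p + pt T (radMap T q₂ f ρ p u) e := by
  obtain ⟨a, ha⟩ := h.2 u p hp
  rw [radMap_apply, ha, add_sub_cancel_left, proj_pt, B_comm q₂ f e, hef, one_smul]

theorem radMap_self {ρ : GL ι F} (h : IsRad T q₂ e ρ) : radMap T q₂ f ρ e = 0 := by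
  apply LinearMap.ext; intro u
  rw [radMap_apply, h.1, sub_self, map_zero, LinearMap.zero_apply]

theorem radMap_mul {ρ ρ' : GL ι F} (h : IsRad T q₂ e ρ) (h' : IsRad T q₂ e ρ') {p : Fin n₂ → F}
    (hp : B₂ e p = 0) : radMap T q₂ f (ρ * ρ') p = radMap T q₂ f ρ p + radMap T q₂ f ρ' p := by
  apply LinearMap.ext; intro u
  rw [LinearMap.add_apply, radMap_apply, act_mul, rad_apply C he hf hef h' u hp, map_add,
    rad_apply C he hf hef h u hp, h.1]
  rw [show pt T u p + pt T (radMap T q₂ f ρ p u) e + pt T (radMap T q₂ f ρ' p u) e - pt T u p =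
    pt T (radMap T q₂ f ρ p u) e + pt T (radMap T q₂ f ρ' p u) e by abel, ← pt_add_left, proj_pt,
    B_comm q₂ f e, hef, one_smul]

theorem radMap_inv {ρ : GL ι F} (h : IsRad T q₂ e ρ) {p : Fin n₂ → F} (hp : B₂ e p = 0) :
    radMap T q₂ f ρ⁻¹ p = -radMap T q₂ f ρ p := by
  rw [eq_neg_iff_add_eq_zero, ← radMap_mul C he hf hef (IsRad.inv C h) h hp, inv_mul_cancel]
  apply LinearMap.ext; intro u
  rw [radMap_apply, act_one, sub_self, map_zero, LinearMap.zero_apply]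

theorem radMap_conj {ρ : GL ι F} (h : IsRad T q₂ e ρ) {a : GL (Fin n₁) F} {b : GL (Fin n₂) F}
    (hb : b ∈ isometryGroup F q₂) (hbe : act b e = e) {p : Fin n₂ → F} (hp : B₂ e p = 0) :
    radMap T q₂ f (gl T a b * ρ * (gl T a b)⁻¹) p = conjL a (radMap T q₂ f ρ (act b⁻¹ p)) := by
  have hp' : B₂ e (act b⁻¹ p) = 0 := by rw [← B_act hb, hbe, act_act_inv, hp]
  apply LinearMap.ext; intro u
  rw [radMap_apply, gl_inv, act_mul, act_mul, act_gl_pt, rad_apply C he hf hef h _ hp', map_add, act_gl_pt,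
    act_gl_pt, act_act_inv, act_act_inv, hbe, add_sub_cancel_left, proj_pt, B_comm q₂ f e, hef, one_smul,
    conjL_apply]

theorem proj_rad {ρ : GL ι F} (hρ : ρ ∈ isometryGroup F Q) (h : IsRad T q₂ e ρ) (x : ι → F) :
    proj T q₂ e (act ρ x) = proj T q₂ e x := by
  by_contra hne
  obtain ⟨a, ha⟩ := exists_B_ne_zero C.h₁ (sub_ne_zero.2 hne)
  apply ha
  rw [B_sub_left q₁, ← form_right C, ← form_right C]
  conv_lhs => arg 1; rw [← h.1 a, B_act hρ]
  exact sub_self _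

/-- on the hyperplane layer two radical elements commute -/
theorem layer_comm {ρ ρ' : GL ι F} (h : IsRad T q₂ e ρ) (h' : IsRad T q₂ e ρ') {x : ι → F}
    (hx : proj T q₂ e x = 0) : act ρ (act ρ' x) = act ρ' (act ρ x) := by
  let E : (ι → F) →ₗ[F] (ι → F) := LinearMap.id - ptL T f ∘ₗ proj T q₂ e
  have : (act ρ ∘ₗ act ρ') ∘ₗ E = (act ρ' ∘ₗ act ρ) ∘ₗ E := pt_ext T fun u v => by
    have hE : E (pt T u v) = pt T u (v - B₂ e v • f) := by
      show pt T u v - pt T (proj T q₂ e (pt T u v)) f = _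
      rw [proj_pt, pt_sub_right, pt_smul_left, pt_smul_right]
    have hv : B₂ e (v - B₂ e v • f) = 0 := by rw [B_sub_right q₂, B_smul_right q₂, hef]; ring
    simp only [LinearMap.comp_apply, hE, rad_apply C he hf hef h _ hv, rad_apply C he hf hef h' _ hv, map_add,
      h.1, h'.1]
    abel
  have e' := LinearMap.congr_fun this x
  have hEx : E x = x := by
    show x - pt T (proj T q₂ e x) f = x
    rw [hx, pt_zero_left, sub_zero]
  simpa [hEx] using e'

theorem layer_apply {ρ : GL ι F} (h : IsRad T q₂ e ρ) {e₁ : Fin n₂ → F} {A : Module.End F (Fin n₁ → F)}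
    (hA : ∀ p, B₂ e p = 0 → radMap T q₂ f ρ p = B₂ e₁ p • A) {x : ι → F} (hx : proj T q₂ e x = 0) :
    act ρ x = x + pt T (A (proj T q₂ e₁ x)) e := by
  let E : (ι → F) →ₗ[F] (ι → F) := LinearMap.id - ptL T f ∘ₗ proj T q₂ e
  have : act ρ ∘ₗ E = (LinearMap.id + ptL T e ∘ₗ A ∘ₗ proj T q₂ e₁) ∘ₗ E := pt_ext T fun u v => by
    have hE : E (pt T u v) = pt T u (v - B₂ e v • f) := by
      show pt T u v - pt T (proj T q₂ e (pt T u v)) f = _
      rw [proj_pt, pt_sub_right, pt_smul_left, pt_smul_right]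
    have hv : B₂ e (v - B₂ e v • f) = 0 := by rw [B_sub_right q₂, B_smul_right q₂, hef]; ring
    simp only [LinearMap.comp_apply, LinearMap.add_apply, LinearMap.id_apply, hE,
      rad_apply C he hf hef h _ hv, hA _ hv, LinearMap.smul_apply, proj_pt, map_smul, ptL_apply, pt_smul_left]
  have e' := LinearMap.congr_fun this x
  have hEx : E x = x := by
    show x - pt T (proj T q₂ e x) f = x
    rw [hx, pt_zero_left, sub_zero]
  simpa [hEx, ptL_apply] using e'

variable [Finite F] (hT : TopTrivial T q₂ M) (he0 : e ≠ 0)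
include hT he0

theorem eq_one_of_fix {z : GL ι F} (hz : z ∈ M)
    (hfix : ∀ u p, B₂ e p = 0 → act z (pt T u p) = pt T u p) : z = 1 := by
  obtain ⟨S, hS⟩ := exists_isTop C he he0 (M_le_iso C hz) hfix
  exact hT e he he0 z hz S hS

theorem rad_commute {ρ ρ' : GL ι F} (hρ : ρ ∈ M) (hρ' : ρ' ∈ M) (h : IsRad T q₂ e ρ) (h' : IsRad T q₂ e ρ') :
    ρ * ρ' = ρ' * ρ := by
  have hz : ρ * ρ' * (ρ' * ρ)⁻¹ = 1 := eq_one_of_fix C he hf hef hT he0
    (M.mul_mem (M.mul_mem hρ hρ') (M.inv_mem (M.mul_mem hρ' hρ))) fun u p hp => by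
      set y := act (ρ' * ρ)⁻¹ (pt T u p) with hy
      have hy0 : proj T q₂ e y = 0 := by
        have e1 := proj_rad C he hf hef (M_le_iso C (M.mul_mem hρ' hρ)) (IsRad.mul C h' h) y
        rw [hy, act_act_inv, proj_pt, hp, zero_smul] at e1
        exact e1.symm
      rw [act_mul, ← hy, act_mul, layer_comm C he hf hef h h' hy0, ← act_mul, hy, act_act_inv]
  exact mul_inv_eq_one.1 hz

/-- the middle part determines the action on the opposite layer -/
theorem proj_opp {ρ : GL ι F} (hρ : ρ ∈ M) (h : IsRad T q₂ e ρ) {φ : Fin n₂ → F} (heφ : B₂ e φ = 0)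
    (hfφ : B₂ f φ = 0) (u : Fin n₁ → F) :
    radMap T q₂ f ρ φ u = -proj T q₂ φ (act ρ (pt T u f) - pt T u f) := by
  set Z := act ρ (pt T u f) - pt T u f with hZ
  have hρf : act ρ (pt T u f) = pt T u f + Z := by rw [hZ]; abel
  have hZe : proj T q₂ e Z = 0 := by
    rw [hZ, map_sub, proj_rad C he hf hef (M_le_iso C hρ) h, sub_self]
  have hq := gl_right_mem C (sg_mem_sgGroup (Q := q₂) e φ)
  have hc := congrArg (fun g => act g (pt T u f))
    (rad_commute C he hf hef hT he0 hρ hq h (isRad_glSiegel C he heφ))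
  simp only [act_mul] at hc
  rw [hρf, map_add (act (gl T 1 (sg q₂ e φ))), act_glSiegel C he heφ (pt T u f), act_glSiegel C he heφ Z,
    hZe, proj_pt, proj_pt, hef, one_smul, B_comm q₂ φ f, hfφ, zero_smul, zero_add, smul_zero, add_zero,
    pt_zero_left, add_zero, map_sub, map_add, hρf, h.1, rad_apply C he hf hef h u heφ] at hc
  have h0 : pt T (radMap T q₂ f ρ φ u + proj T q₂ φ Z) e = 0 := by
    rw [pt_add_left]
    linear_combination (norm := module) hc
  exact eq_neg_of_add_eq_zero_left (((pt_eq_zero T).1 h0).resolve_right he0)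

theorem radMap_adj {ρ : GL ι F} (hρ : ρ ∈ M) (h : IsRad T q₂ e ρ) {φ : Fin n₂ → F} (heφ : B₂ e φ = 0)
    (hfφ : B₂ f φ = 0) (x y : Fin n₁ → F) :
    B₁ (radMap T q₂ f ρ φ x) y = B₁ x (radMap T q₂ f ρ φ y) := by
  set Z := act ρ (pt T x f) - pt T x f with hZ
  have hρf : act ρ (pt T x f) = pt T x f + Z := by rw [hZ]; abel
  have hZe : proj T q₂ e Z = 0 := by
    rw [hZ, map_sub, proj_rad C he hf hef (M_le_iso C hρ) h, sub_self]
  have e1 := B_act (M_le_iso C hρ) (pt T x f) (pt T y φ)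
  rw [hρf, rad_apply C he hf hef h y heφ] at e1
  simp only [B_add_left Q, B_add_right Q, form_right C Z, hZe, C.form, B_comm q₂ f e, hef, hfφ,
    B_zero_left q₁] at e1
  have hp := proj_opp C he hf hef hT he0 hρ h heφ hfφ x
  rw [← hZ] at hp
  rw [hp, B_neg_left q₁]
  linear_combination -e1

/-- the values at `e₁` of elements whose middle part is concentrated at `e₁` -/
def radSet (C : OCtx T Q q₁ q₂ M) (e f e₁ : Fin n₂ → F) : Set (Module.End F (Fin n₁ → F)) :=
  {A | ∃ ρ ∈ M, IsRad T q₂ e ρ ∧ ∀ p, B₂ e p = 0 → radMap T q₂ f ρ p = B₂ e₁ p • A}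

theorem concentrate {ρ : GL ι F} (hρ : ρ ∈ M) (h : IsRad T q₂ e ρ) {e₁ : Fin n₂ → F} (h1 : q₂ e₁ = 0)
    (hee₁ : B₂ e e₁ = 0) {y : Fin n₂ → F} (hey : B₂ e y = 0) (h1y : B₂ e₁ y = 0) :
    (-(2 * q₂ y)) • radMap T q₂ f ρ e₁ ∈ radSet C e f e₁ := by
  have hy' : B₂ e₁ (-y) = 0 := by rw [B_neg_right q₂, h1y, neg_zero]
  have hfix : ∀ y, B₂ e₁ y = 0 → B₂ e y = 0 → act (sg q₂ e₁ y) e = e := fun y a b =>
    act_sg_fix q₂ h1 a (by rw [B_comm q₂, hee₁]) (by rw [B_comm q₂, b])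
  have hey' : B₂ e (-y) = 0 := by rw [B_neg_right q₂, hey, neg_zero]
  have m1 := gl_right_mem C (sg_mem_sgGroup (Q := q₂) e₁ y)
  have m2 := gl_right_mem C (sg_mem_sgGroup (Q := q₂) e₁ (-y))
  have r1 := IsRad.conj C (a := (1 : GL (Fin n₁) F)) h (sg_mem_iso q₂ e₁ y) (hfix y h1y hey)
  have r2 := IsRad.conj C (a := (1 : GL (Fin n₁) F)) h (sg_mem_iso q₂ e₁ (-y)) (hfix _ hy' hey')
  refine ⟨_, M.mul_mem (M.mul_mem (M.mul_mem (M.mul_mem m1 hρ) (M.inv_mem m1))
    (M.mul_mem (M.mul_mem m2 hρ) (M.inv_mem m2))) (M.inv_mem (M.mul_mem hρ hρ)),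
    IsRad.mul C (IsRad.mul C r1 r2) (IsRad.inv C (IsRad.mul C h h)), fun p hp => ?_⟩
  rw [radMap_mul C he hf hef (IsRad.mul C r1 r2) (IsRad.inv C (IsRad.mul C h h)) hp,
    radMap_mul C he hf hef r1 r2 hp, radMap_inv C he hf hef (IsRad.mul C h h) hp,
    radMap_mul C he hf hef h h hp, radMap_conj C he hf hef h (sg_mem_iso q₂ e₁ y) (hfix y h1y hey) hp,
    radMap_conj C he hf hef h (sg_mem_iso q₂ e₁ (-y)) (hfix _ hy' hey') hp, (sg_neg q₂ h1 h1y).symm,
    (sg_neg q₂ h1 hy').symm, neg_neg, act_sg q₂ h1 hy', act_sg q₂ h1 h1y]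
  apply LinearMap.ext; intro u
  simp only [LinearMap.add_apply, LinearMap.neg_apply, LinearMap.smul_apply, conjL_apply, inv_one, act_one,
    radMap_add, radMap_sub, radMap_smul, LinearMap.sub_apply, B_neg_left q₂, Q_neg q₂]
  rw [← neg_one_smul F y, radMap_smul, LinearMap.smul_apply]
  module

/-- the middle part of a radical element is scalar -/
theorem rad_scalar (h5 : 5 ≤ n₂) (hbig : 4 ≤ n₁ ∨ ∃ t : F, t ≠ 0 ∧ t * t ≠ 1) {ρ : GL ι F} (hρ : ρ ∈ M)
    (h : IsRad T q₂ e ρ) {p : Fin n₂ → F} (hep : B₂ e p = 0) (hfp : B₂ f p = 0) :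
    ∃ l : F, ∀ u, radMap T q₂ f ρ p u = l • u := by
  have hfe : B₂ f e = 1 := by rw [B_comm q₂, hef]
  let W : Submodule F (Fin n₂ → F) :=
    { carrier := {p | ∃ l : F, ∀ u, radMap T q₂ f ρ p u = l • u}
      zero_mem' := ⟨0, fun u => by rw [← zero_smul F (0 : Fin n₂ → F), radMap_smul, zero_smul]; simp⟩
      add_mem' := by
        rintro a b ⟨l, hl⟩ ⟨m, hm⟩
        exact ⟨l + m, fun u => by rw [radMap_add, LinearMap.add_apply, hl, hm, add_smul]⟩
      smul_mem' := by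
        rintro k a ⟨l, hl⟩
        exact ⟨k * l, fun u => by rw [radMap_smul, LinearMap.smul_apply, hl, smul_smul]⟩ }
  refine mem_of_singular_perp C.h₂ (by rwa [Fintype.card_fin]) he hf hef W (fun e₁ h1 hee₁ hfe₁ => ?_) hep hfp
  show ∃ l : F, ∀ u, radMap T q₂ f ρ e₁ u = l • u
  rcases eq_or_ne e₁ 0 with rfl | he₁0
  · exact ⟨0, fun u => by rw [← zero_smul F (0 : Fin n₂ → F), radMap_smul, zero_smul]; simp⟩
  -- a singular partner of `e₁` orthogonal to the pair
  obtain ⟨z, hz⟩ := exists_B_ne_zero C.h₂ he₁0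
  let D := Orth.perp q₂ (Submodule.span F (Set.range ![e, f]))
  obtain ⟨e₂, he₂D, h2, h12⟩ := Orth.exists_partner q₂ (W := D) h1 ((Orth.mem_perp_span q₂).2 (by
      rintro x ⟨i, rfl⟩
      fin_cases i
      · simpa using hee₁
      · simpa using hfe₁))
    (z := z - B₂ f z • e - B₂ e z • f) ((Orth.mem_perp_span q₂).2 (by
      rintro x ⟨i, rfl⟩
      fin_cases i <;> simp [B_sub_right q₂, B_smul_right q₂, B_self_of_singular q₂ he,
        B_self_of_singular q₂ hf, hef, hfe]))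
    (by
      rw [B_sub_right q₂, B_sub_right q₂, B_smul_right q₂, B_smul_right q₂, B_comm q₂ e₁ e, B_comm q₂ e₁ f,
        hee₁, hfe₁, mul_zero, mul_zero, sub_zero, sub_zero]
      exact hz)
  have hee₂ : B₂ e e₂ = 0 := (Orth.mem_perp_span q₂).1 he₂D e ⟨0, rfl⟩
  have hfe₂ : B₂ f e₂ = 0 := (Orth.mem_perp_span q₂).1 he₂D f ⟨1, rfl⟩
  have h21 : B₂ e₂ e₁ = 1 := by rw [B_comm q₂, h12]
  obtain ⟨y, hy1, hy2, hye, hyf, hy⟩ : ∃ y, B₂ e₁ y = 0 ∧ B₂ e₂ y = 0 ∧ B₂ e y = 0 ∧ B₂ f y = 0 ∧ q₂ y ≠ 0 := by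
    obtain ⟨y₀, hy₀, hy₀0⟩ := Submodule.exists_mem_ne_zero_of_ne_bot
      (p := Orth.perp q₂ (Submodule.span F (Set.range ![e, f, e₁, e₂]))) fun e' => by
        have h1 := Orth.finrank_perp C.h₂ (Submodule.span F (Set.range ![e, f, e₁, e₂]))
        have h2 := finrank_span_list_le (F := F) ![e, f, e₁, e₂]
        rw [e', finrank_bot, Fintype.card_fin] at h1
        omega
    rw [Orth.mem_perp_span] at hy₀
    obtain ⟨y, ⟨a, b, c, d⟩, hy⟩ := exists_aniso_proj C.two C.h₂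
      (p := fun y => B₂ e₁ y = 0 ∧ B₂ e₂ y = 0 ∧ B₂ e y = 0 ∧ B₂ f y = 0)
      (fun a b ha hb => ⟨by rw [B_add_right q₂, ha.1, hb.1, add_zero],
        by rw [B_add_right q₂, ha.2.1, hb.2.1, add_zero], by rw [B_add_right q₂, ha.2.2.1, hb.2.2.1, add_zero],
        by rw [B_add_right q₂, ha.2.2.2, hb.2.2.2, add_zero]⟩)
      ⟨hy₀ e₁ ⟨2, rfl⟩, hy₀ e₂ ⟨3, rfl⟩, hy₀ e ⟨0, rfl⟩, hy₀ f ⟨1, rfl⟩⟩ hy₀0
      (fun x => x - B₂ e₂ x • e₁ - B₂ e₁ x • e₂ - B₂ f x • e - B₂ e x • f)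
      (fun x => by
        refine ⟨?_, ?_, ?_, ?_⟩ <;> simp [B_sub_right q₂, B_smul_right q₂, B_self_of_singular q₂ h1,
          B_self_of_singular q₂ h2, B_self_of_singular q₂ he, B_self_of_singular q₂ hf, h12, h21, hef, hfe,
          hee₁, hfe₁, hee₂, hfe₂, B_comm q₂ e₁ e, B_comm q₂ e₁ f, B_comm q₂ e₂ e, B_comm q₂ e₂ f])
      fun y hy x => by
        simp [B_sub_right q₂, B_smul_right q₂, B_comm q₂ y e₁, B_comm q₂ y e₂, B_comm q₂ y e, B_comm q₂ y f,
          hy.1, hy.2.1, hy.2.2.1, hy.2.2.2]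
    exact ⟨y, a, b, c, d, hy⟩
  set L₁ := Submodule.span F (radSet C e f e₁)
  set L₂ := Submodule.span F (radSet C e f e₂)
  have hk : -(2 * q₂ y) ≠ 0 := neg_ne_zero.2 (mul_ne_zero C.two hy)
  have hcross : ∀ a b, q₂ b = 0 → B₂ e b = 0 → B₂ b y = 0 → B₂ a b = 1 →
      radSet C e f a ⊆ (Submodule.span F (radSet C e f b) : Set (Module.End F (Fin n₁ → F))) := by
    intro a b hb heb hby hab A ⟨τ, hτ, hτr, hA⟩
    have := Submodule.subset_span (R := F) (concentrate C he hf hef hT he0 hτ hτr hb heb hye hby)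
    rw [hA b heb, hab, one_smul] at this
    have h' := (Submodule.span F (radSet C e f b)).smul_mem (-(2 * q₂ y))⁻¹ this
    rwa [smul_smul, inv_mul_cancel₀ hk, one_smul] at h'
  have h12' : L₁ ≤ L₂ := Submodule.span_le.2 (hcross e₁ e₂ h2 hee₂ hy2 h12)
  have hA₁ : radMap T q₂ f ρ e₁ ∈ L₁ := by
    have := L₁.smul_mem (-(2 * q₂ y))⁻¹
      (Submodule.subset_span (concentrate C he hf hef hT he0 hρ h h1 hee₁ hye hy1))
    rwa [smul_smul, inv_mul_cancel₀ hk, one_smul] at this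
  have hadj : ∀ A ∈ L₁, ∀ x z, B₁ (A x) z = B₁ x (A z) := by
    intro A hA
    induction hA using Submodule.span_induction with
    | mem A hA =>
      obtain ⟨τ, hτ, hτr, hAe⟩ := hA
      intro x z
      have e' := radMap_adj C he hf hef hT he0 hτ hτr hee₂ hfe₂ x z
      rwa [hAe e₂ hee₂, h12, one_smul] at e'
    | zero => intro x z; simp [B_zero_left q₁, B_zero_right q₁]
    | add a b _ _ ha hb => intro x z; simp [B_add_left q₁, B_add_right q₁, ha, hb]
    | smul k a _ ha => intro x z; simp [B_smul_left q₁, B_smul_right q₁, ha]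
  have hcomm₀ : ∀ A ∈ radSet C e f e₁, ∀ A' ∈ radSet C e f e₂, A * A' = A' * A := by
    rintro A ⟨τ, hτ, hτr, hA⟩ A' ⟨τ', hτ', hτr', hA'⟩
    apply LinearMap.ext; intro u
    have hc := congrArg (fun g => act g (pt T u f)) (rad_commute C he hf hef hT he0 hτ hτ' hτr hτr')
    simp only [act_mul] at hc
    obtain ⟨Z, hZ⟩ : ∃ Z, Z = act τ (pt T u f) - pt T u f := ⟨_, rfl⟩
    obtain ⟨Z', hZ'⟩ : ∃ Z', Z' = act τ' (pt T u f) - pt T u f := ⟨_, rfl⟩
    have hZe : proj T q₂ e Z = 0 := by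
      rw [hZ, map_sub, proj_rad C he hf hef (M_le_iso C hτ) hτr, sub_self]
    have hZe' : proj T q₂ e Z' = 0 := by
      rw [hZ', map_sub, proj_rad C he hf hef (M_le_iso C hτ') hτr', sub_self]
    have eZ : act τ (pt T u f) = pt T u f + Z := by rw [hZ]; abel
    have eZ' : act τ' (pt T u f) = pt T u f + Z' := by rw [hZ']; abel
    rw [eZ, eZ', map_add, map_add, eZ, eZ', layer_apply C he hf hef hτr hA hZe',
      layer_apply C he hf hef hτr' hA' hZe] at hc
    have h0 : pt T (A (proj T q₂ e₁ Z') - A' (proj T q₂ e₂ Z)) e = 0 := by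
      rw [pt_sub_left]
      linear_combination (norm := module) hc
    have h0' := sub_eq_zero.1 (((pt_eq_zero T).1 h0).resolve_right he0)
    have p1 := proj_opp C he hf hef hT he0 hτ' hτr' hee₁ hfe₁ u
    have p2 := proj_opp C he hf hef hT he0 hτ hτr hee₂ hfe₂ u
    rw [← hZ', hA' e₁ hee₁, h21, one_smul] at p1
    rw [← hZ, hA e₂ hee₂, h12, one_smul] at p2
    rw [Module.End.mul_apply, Module.End.mul_apply, p1, p2, map_neg, map_neg, h0']
  have hcomm : ∀ A ∈ L₁, ∀ A' ∈ L₁, A * A' = A' * A := by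
    intro A hA A' hA'
    have hA'2 := h12' hA'
    clear hA'
    induction hA, hA'2 using Submodule.span_induction₂ with
    | mem_mem a b ha hb => exact hcomm₀ a ha b hb
    | zero_left => simp
    | zero_right => simp
    | add_left a b c _ _ _ h1 h2 => rw [add_mul, mul_add, h1, h2]
    | add_right a b c _ _ _ h1 h2 => rw [mul_add, add_mul, h1, h2]
    | smul_left k a b _ _ h1 => rw [smul_mul_assoc, mul_smul_comm, h1]
    | smul_right k a b _ _ h1 => rw [mul_smul_comm, smul_mul_assoc, h1]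
  have hinv : ∀ u w, ∀ X ∈ L₁, conjL (sg q₁ u w) X ∈ L₁ := by
    intro u w X hX
    refine (show L₁ ≤ L₁.comap (conjL (sg q₁ u w)) from Submodule.span_le.2 ?_) hX
    rintro A ⟨τ, hτ, hτr, hA⟩
    have hm := gl_left_mem C (sg_mem_sgGroup (Q := q₁) u w)
    refine Submodule.subset_span ⟨_, M.mul_mem (M.mul_mem hm hτ) (M.inv_mem hm),
      IsRad.conj C hτr (one_mem _) (act_one e), fun p hp => ?_⟩
    rw [radMap_conj C he hf hef hτr (one_mem _) (act_one e) hp, inv_one, act_one, hA p hp, map_smul]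
  exact selfAdj_scalar C.two C.h₁ hinv hadj hcomm (by rw [Fintype.card_fin]; exact C.three₁)
    (by rwa [Fintype.card_fin]) hA₁

/-- the radical elements of `M` come from the factor, if their middle parts are scalar -/
theorem rad_eq_of (hsc : ∀ ρ ∈ M, IsRad T q₂ e ρ → ∀ p, B₂ e p = 0 → B₂ f p = 0 →
      ∃ l : F, ∀ u, radMap T q₂ f ρ p u = l • u) {ρ : GL ι F} (hρ : ρ ∈ M)
    (h : IsRad T q₂ e ρ) : ∃ φ, B₂ e φ = 0 ∧ ρ = gl T 1 (sg q₂ e φ) := by
  have hn₁ : 0 < n₁ := lt_of_lt_of_le (by norm_num) C.three₁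
  have hfe : B₂ f e = 1 := by rw [B_comm q₂, hef]
  let u₀ : Fin n₁ → F := Pi.single ⟨0, hn₁⟩ 1
  let χ : (Fin n₁ → F) →ₗ[F] F := LinearMap.proj ⟨0, hn₁⟩
  have hχ : χ u₀ = 1 := by simp [χ, u₀]
  let l : (Fin n₂ → F) →ₗ[F] F := -(χ ∘ₗ proj T q₂ f ∘ₗ (act ρ - LinearMap.id) ∘ₗ ptR T u₀)
  have hl : ∀ p, l p = -χ (radMap T q₂ f ρ p u₀) := fun p => rfl
  obtain ⟨φ, hφdef⟩ : ∃ φ, φ = (LinearMap.BilinForm.toDual (QuadraticMap.polarBilin q₂) C.h₂).symm l := ⟨_, rfl⟩
  have hφ : ∀ p, B₂ φ p = l p := fun p => by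
    rw [hφdef]
    exact LinearMap.BilinForm.apply_toDual_symm_apply (hB := C.h₂) l p
  have heφ : B₂ e φ = 0 := by
    rw [B_comm q₂, hφ, hl, radMap_self C he hf hef h, LinearMap.zero_apply, map_zero, neg_zero]
  refine ⟨φ, heφ, ?_⟩
  have hq := gl_right_mem C (sg_mem_sgGroup (Q := q₂) e φ)
  have hz : (gl T 1 (sg q₂ e φ))⁻¹ * ρ = 1 := eq_one_of_fix C he hf hef hT he0
    (M.mul_mem (M.inv_mem hq) hρ) fun u p hp => by
      apply act_injective (gl T 1 (sg q₂ e φ))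
      rw [act_mul, act_act_inv, act_gl_pt, act_one, act_sg q₂ he heφ, hp, zero_smul, mul_zero, add_zero, add_zero,
        rad_apply C he hf hef h u hp, pt_sub_right, pt_smul_right]
      obtain ⟨p₀, hp₀⟩ : ∃ p₀, p₀ = p - B₂ f p • e := ⟨_, rfl⟩
      obtain ⟨k, hk⟩ := hsc ρ hρ h p₀
        (by rw [hp₀, B_sub_right q₂, B_smul_right q₂, hp, B_self_of_singular q₂ he]; ring)
        (by rw [hp₀, B_sub_right q₂, B_smul_right q₂, hfe]; ring)
      have hk' : ∀ u, radMap T q₂ f ρ p u = k • u := fun u => by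
        rw [show p = p₀ + B₂ f p • e by rw [hp₀, sub_add_cancel], radMap_add, radMap_smul,
          radMap_self C he hf hef h, smul_zero, add_zero, hk]
      have hkv : B₂ φ p = -k := by rw [hφ, hl, hk', map_smul, hχ, smul_eq_mul, mul_one]
      rw [hk', hkv, pt_smul_left]
      module
  exact (inv_mul_eq_one.1 hz).symm

/-- the radical elements of `M` come from the factor -/
theorem rad_eq (h5 : 5 ≤ n₂) (hbig : 4 ≤ n₁ ∨ ∃ t : F, t ≠ 0 ∧ t * t ≠ 1) {ρ : GL ι F} (hρ : ρ ∈ M)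
    (h : IsRad T q₂ e ρ) : ∃ φ, B₂ e φ = 0 ∧ ρ = gl T 1 (sg q₂ e φ) :=
  rad_eq_of C he hf hef hT he0 (fun _ hρ h _ => rad_scalar C he hf hef hT he0 h5 hbig hρ h) hρ h

/-- the stabiliser of `F ⊗ e`, if middle parts are scalar -/
theorem stab_singular_of (hsc : ∀ ρ ∈ M, IsRad T q₂ e ρ → ∀ p, B₂ e p = 0 → B₂ f p = 0 →
      ∃ l : F, ∀ u, radMap T q₂ f ρ p u = l • u) {g : GL ι F} (hg : g ∈ M)
    (hW : ∀ u, ∃ a, act g (pt T u e) = pt T a e) :
    g ∈ Cfsg.Geo.tensorProductSubgroup n₁ n₂ T.e T.P := by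
  classical
  have hn₁ : 0 < n₁ := lt_of_lt_of_le (by norm_num) C.three₁
  have hfe : B₂ f e = 1 := by rw [B_comm q₂, hef]
  have hgI := M_le_iso C hg
  let A₀ : (Fin n₁ → F) →ₗ[F] (Fin n₁ → F) := proj T q₂ f ∘ₗ act g ∘ₗ ptL T e
  have hA₀ : ∀ u, act g (pt T u e) = pt T (A₀ u) e := fun u => by
    obtain ⟨a, ha⟩ := hW u
    show _ = pt T (proj T q₂ f (act g (pt T u e))) e
    rw [ha, proj_pt, hfe, one_smul]
  have hinj : Function.Injective A₀ := fun u u' hu => by
    have h1 : pt T u e = pt T u' e := act_injective g (by rw [hA₀, hA₀, hu])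
    have h2 : pt T (u - u') e = 0 := by rw [pt_sub_left, h1, sub_self]
    exact sub_eq_zero.1 (((pt_eq_zero T).1 h2).resolve_right he0)
  obtain ⟨A, hA⟩ := exists_gl_of_injective A₀ hinj
  have hgA : ∀ u, act g (pt T u e) = pt T (act A u) e := fun u => by rw [hA, hA₀]
  have hgA' : ∀ u, act g⁻¹ (pt T u e) = pt T (act A⁻¹ u) e := fun u => by
    apply act_injective g
    rw [act_act_inv, hgA, act_act_inv]
  have hperp : ∀ (k : GL ι F), k ∈ isometryGroup F Q → (∀ u, ∃ a, act k⁻¹ (pt T u e) = pt T a e) →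
      ∀ u p, B₂ e p = 0 → proj T q₂ e (act k (pt T u p)) = 0 := by
    intro k hk hk' u p hp
    by_contra hne
    obtain ⟨a, ha⟩ := exists_B_ne_zero C.h₁ hne
    apply ha
    rw [← form_right C, ← B_act (inv_mem hk), act_inv_act]
    obtain ⟨a', ha'⟩ := hk' a
    rw [ha', C.form, B_comm q₂ p e, hp, mul_zero]
  have hgperp := hperp g hgI fun u => ⟨_, hgA' u⟩
  have hgperp' := hperp g⁻¹ (inv_mem hgI) fun u => ⟨act A u, by rw [inv_inv]; exact hgA u⟩
  let Y : Set (Fin n₂ → F) := {φ | B₂ e φ = 0 ∧ B₂ f φ = 0}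
  have hmove : ∀ φ : Y, ∃ φ' : Y, g * gl T 1 (sg q₂ e φ) = gl T 1 (sg q₂ e φ') * g := by
    rintro ⟨φ, heφ, hfφ⟩
    have hq := gl_right_mem C (sg_mem_sgGroup (Q := q₂) e φ)
    obtain ⟨φ', heφ', hρ⟩ := rad_eq_of C he hf hef hT he0 hsc
      (M.mul_mem (M.mul_mem hg hq) (M.inv_mem hg)) (show IsRad T q₂ e (g * gl T 1 (sg q₂ e φ) * g⁻¹) from
        ⟨fun u => by rw [act_mul, act_mul, hgA', (isRad_glSiegel C he heφ).1, hgA, act_act_inv],
         fun u p hp => ⟨-(act A (proj T q₂ φ (act g⁻¹ (pt T u p)))), by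
           rw [act_mul, act_mul, act_glSiegel C he heφ, hgperp' u p hp, pt_zero_left, smul_zero, add_zero, add_zero,
             map_sub, act_act_inv, hgA, pt_neg_left, sub_eq_add_neg]⟩⟩)
    refine ⟨⟨φ' - B₂ f φ' • e, by rw [B_sub_right q₂, B_smul_right q₂, heφ', B_self_of_singular q₂ he]; ring,
      by rw [B_sub_right q₂, B_smul_right q₂, hfe]; ring⟩, ?_⟩
    show g * gl T 1 (sg q₂ e φ) = gl T 1 (sg q₂ e (φ' - B₂ f φ' • e)) * g
    rw [sub_eq_add_neg, ← neg_smul, sg_add_smul q₂ he heφ', ← hρ]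
    group
  choose Φ hΦ using hmove
  obtain ⟨u₀, hu₀⟩ : ∃ u₀ : Fin n₁ → F, act A u₀ = Pi.single ⟨0, hn₁⟩ 1 :=
    ⟨act A⁻¹ (Pi.single ⟨0, hn₁⟩ 1), act_act_inv A _⟩
  have hu₀0 : u₀ ≠ 0 := fun h => by
    rw [h, map_zero] at hu₀
    have := congrFun hu₀ ⟨0, hn₁⟩
    simp at this
  have hΦinj : Function.Injective Φ := by
    intro φ φ' h
    have h1 : gl T (1 : GL (Fin n₁) F) (sg q₂ e φ) = gl T 1 (sg q₂ e φ') := by
      have := (hΦ φ).trans (h ▸ (hΦ φ').symm)
      exact mul_left_cancel this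
    have h2 : ∀ w, B₂ w f + B₂ w φ - q₂ (φ : Fin n₂ → F) * B₂ w e =
        B₂ w f + B₂ w φ' - q₂ (φ' : Fin n₂ → F) * B₂ w e := by
      intro w
      have h3 := congrArg (fun g => proj T q₂ w (act g (pt T u₀ f))) h1
      simp only [act_gl_pt, act_one, act_sg q₂ he φ.2.1, act_sg q₂ he φ'.2.1, hef, B_comm q₂ _ f, φ.2.2, φ'.2.2,
        proj_pt, one_smul, mul_one, zero_add, B_sub_right q₂, B_add_right q₂, B_smul_right q₂] at h3
      have := smul_left_injective F hu₀0 h3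
      linear_combination this
    have hQ' : q₂ (φ : Fin n₂ → F) = q₂ φ' := by
      have := h2 f
      rw [φ.2.2, φ'.2.2, hfe] at this
      linear_combination -this
    apply Subtype.ext
    by_contra hne
    obtain ⟨w, hw⟩ := exists_B_ne_zero C.h₂ (sub_ne_zero.2 hne)
    apply hw
    have := h2 w
    rw [B_sub_left q₂, B_comm q₂ _ w, B_comm q₂ _ w]
    linear_combination this + hQ' * B₂ w e
  have hΦsurj : Function.Surjective Φ := Finite.injective_iff_surjective.1 hΦinj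
  have hcontract : ∀ (φ : Y) u p, B₂ e p = 0 →
      proj T q₂ (Φ φ : Fin n₂ → F) (act g (pt T u p)) = B₂ φ p • act A u := by
    intro φ u p hp
    have h := congrArg (fun k => act k (pt T u p)) (hΦ φ)
    simp only [act_mul] at h
    rw [act_gl_pt, act_one, act_sg q₂ he φ.2.1, hp, zero_smul, mul_zero, add_zero, add_zero, pt_sub_right,
      pt_smul_right, map_sub, map_smul, hgA, act_glSiegel C he (Φ φ).2.1, hgperp u p hp, pt_zero_left, smul_zero,
      add_zero, add_zero] at h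
    have h0 : pt T (proj T q₂ (Φ φ : Fin n₂ → F) (act g (pt T u p)) - B₂ φ p • act A u) e = 0 := by
      rw [pt_sub_left, pt_smul_left]
      linear_combination (norm := module) h
    exact sub_eq_zero.1 (((pt_eq_zero T).1 h0).resolve_right he0)
  let PY : (Fin n₂ → F) →ₗ[F] (Fin n₂ → F) := LinearMap.id - (QuadraticMap.polarBilin q₂ f).smulRight e -
    (QuadraticMap.polarBilin q₂ e).smulRight f
  have hPY : ∀ v, PY v = v - B₂ f v • e - B₂ e v • f := fun v => by simp [PY]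
  have hPYperp : ∀ v, B₂ e (PY v) = 0 ∧ B₂ f (PY v) = 0 := fun v => by
    constructor <;>
      simp [hPY, B_sub_right q₂, B_smul_right q₂, B_self_of_singular q₂ he, B_self_of_singular q₂ hf, hef, hfe]
  let χ : (Fin n₁ → F) →ₗ[F] F := LinearMap.proj ⟨0, hn₁⟩
  let β : (Fin n₂ → F) →ₗ[F] (Fin n₂ → F) := PY ∘ₗ cL T χ ∘ₗ act g ∘ₗ ptR T u₀
  have hβperp : ∀ p, B₂ e (β p) = 0 ∧ B₂ f (β p) = 0 := fun p => hPYperp _
  have hmid : ∀ u p, B₂ e p = 0 → ∃ a, act g (pt T u p) = pt T (act A u) (β p) + pt T a e := by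
    intro u p hp
    obtain ⟨x, hx⟩ : ∃ x, x = act g (pt T u p) - pt T (act A u) (β p) := ⟨_, rfl⟩
    refine ⟨proj T q₂ f x, ?_⟩
    suffices x = pt T (proj T q₂ f x) e by rw [← this, hx]; abel
    have hxe : proj T q₂ e x = 0 := by
      rw [hx, map_sub, hgperp u p hp, proj_pt, (hβperp p).1, zero_smul, sub_zero]
    have hxY : ∀ ψ : Y, proj T q₂ (ψ : Fin n₂ → F) x = 0 := by
      intro ψ
      obtain ⟨φ, rfl⟩ := hΦsurj ψ
      have hB : B₂ (Φ φ : Fin n₂ → F) (β p) = B₂ φ p := by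
        show B₂ (Φ φ : Fin n₂ → F) (PY (cL T χ (act g (pt T u₀ p)))) = _
        rw [hPY, B_sub_right q₂, B_sub_right q₂, B_smul_right q₂, B_smul_right q₂, B_comm q₂ _ e, (Φ φ).2.1,
          B_comm q₂ _ f, (Φ φ).2.2, mul_zero, mul_zero, sub_zero, sub_zero, proj_projL C,
          hcontract φ u₀ p hp, map_smul, hu₀]
        simp [χ]
      rw [hx, map_sub, hcontract φ u p hp, proj_pt, hB, sub_self]
    refine eq_of_proj C fun w => ?_
    have h := hxY ⟨PY w, hPYperp w⟩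
    rw [show ((⟨PY w, hPYperp w⟩ : Y) : Fin n₂ → F) = PY w from rfl, hPY, proj_sub, proj_sub, proj_smul, proj_smul,
      hxe, sub_eq_zero, sub_eq_iff_eq_add] at h
    rw [h, proj_pt, B_comm q₂ w e]
    simp only [zero_add, smul_zero, add_zero]
  have hβform : ∀ u u' p p', B₂ e p = 0 → B₂ e p' = 0 →
      B₁ (act A u) (act A u') * B₂ (β p) (β p') = B₁ u u' * B₂ p p' := by
    intro u u' p p' hp hp'
    obtain ⟨a, ha⟩ := hmid u p hp
    obtain ⟨a', ha'⟩ := hmid u' p' hp'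
    have h := B_act hgI (pt T u p) (pt T u' p')
    rw [ha, ha'] at h
    simp only [B_add_left Q, B_add_right Q, C.form, B_comm q₂ (β p) e, (hβperp p).1, (hβperp p').1,
      B_self_of_singular q₂ he, mul_zero, add_zero] at h
    exact h
  obtain ⟨p₀, hep₀, -, hp₀⟩ := exists_aniso_perp C.two C.h₂ he hf hef (by rw [Fintype.card_fin]; exact C.three₂)
  have hβ₀ : B₂ (β p₀) (β p₀) ≠ 0 := fun h0 => by
    obtain ⟨u', hu'⟩ := exists_B_ne_zero C.h₁ hu₀0
    have := hβform u₀ u' p₀ p₀ hep₀ hep₀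
    rw [h0, mul_zero] at this
    exact mul_ne_zero hu' (B_self_ne_zero q₂ C.two hp₀) this.symm
  obtain ⟨μ, hμ⟩ : ∃ μ, μ = B₂ p₀ p₀ / B₂ (β p₀) (β p₀) := ⟨_, rfl⟩
  have hμ0 : μ ≠ 0 := hμ ▸ div_ne_zero (B_self_ne_zero q₂ C.two hp₀) hβ₀
  have hAsim : ∀ u u', B₁ (act A u) (act A u') = μ * B₁ u u' := fun u u' => by
    rw [hμ, div_mul_eq_mul_div, eq_div_iff hβ₀, hβform u u' p₀ p₀ hep₀ hep₀, mul_comm]
  have hβsim : ∀ p p', B₂ e p = 0 → B₂ e p' = 0 → μ * B₂ (β p) (β p') = B₂ p p' := by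
    intro p p' hp hp'
    obtain ⟨u', hu'⟩ := exists_B_ne_zero C.h₁ hu₀0
    have := hβform u₀ u' p p' hp hp'
    rw [hAsim, mul_comm μ, mul_assoc] at this
    exact mul_left_cancel₀ hu' this
  let L : (Fin n₂ → F) →ₗ[F] (Fin n₂ → F) := β ∘ₗ PY + (QuadraticMap.polarBilin q₂ f).smulRight e +
    μ⁻¹ • (QuadraticMap.polarBilin q₂ e).smulRight f
  have hL : ∀ v, L v = β (PY v) + B₂ f v • e + (μ⁻¹ * B₂ e v) • f := fun v => by simp [L, smul_smul]
  have hLiso : ∀ v v', μ * B₂ (L v) (L v') = B₂ v v' := by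
    intro v v'
    have h := hβsim (PY v) (PY v') (hPYperp v).1 (hPYperp v').1
    have e1 : B₂ (PY v) (PY v') = B₂ v v' - B₂ f v * B₂ e v' - B₂ e v * B₂ f v' := by
      simp only [hPY, B_sub_left q₂, B_sub_right q₂, B_smul_left q₂, B_smul_right q₂, B_self_of_singular q₂ he,
        B_self_of_singular q₂ hf, hef, hfe, B_comm q₂ v e, B_comm q₂ v f]
      ring
    simp only [hL, B_add_left q₂, B_add_right q₂, B_smul_left q₂, B_smul_right q₂, B_self_of_singular q₂ he,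
      B_self_of_singular q₂ hf, hef, hfe, (hβperp _).1, (hβperp _).2, B_comm q₂ (β _) e, B_comm q₂ (β _) f]
    linear_combination h + e1 + (B₂ f v * B₂ e v' + B₂ e v * B₂ f v') * (mul_inv_cancel₀ hμ0)
  have hLinj : Function.Injective L := fun x y hxy => by
    by_contra hne
    obtain ⟨z, hz⟩ := exists_B_ne_zero C.h₂ (sub_ne_zero.2 hne)
    apply hz
    rw [B_sub_left q₂, ← hLiso x z, ← hLiso y z, hxy, sub_self]
  obtain ⟨b, hb⟩ := exists_gl_of_injective L hLinj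
  have hh : gl T A b ∈ isometryGroup F Q := gl_mem_iso C hAsim (fun v v' => by rw [hb, hb]; exact hLiso v v')
  have hbe : act b e = e := by
    have h1 : PY e = 0 := by simp [hPY, hfe, B_self_of_singular q₂ he]
    rw [hb, hL, h1, map_zero, hfe, B_self_of_singular q₂ he]
    simp
  obtain ⟨ρ, hρdef⟩ : ∃ ρ, ρ = (gl T A b)⁻¹ * g := ⟨_, rfl⟩
  have hgρ : g = gl T A b * ρ := by rw [hρdef, mul_inv_cancel_left]
  have hρI : ρ ∈ isometryGroup F Q := hρdef ▸ mul_mem (inv_mem hh) hgI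
  have hρrad : IsRad T q₂ e ρ := by
    refine ⟨fun u => act_injective (gl T A b) ?_, fun u p hp => ?_⟩
    · rw [← act_mul, ← hgρ, hgA, act_gl_pt, hbe]
    · obtain ⟨a, ha⟩ := hmid u p hp
      refine ⟨act A⁻¹ a - B₂ f p • u, act_injective (gl T A b) ?_⟩
      have hβe : β e = 0 := by
        show PY (cL T χ (act g (pt T u₀ e))) = 0
        rw [hgA, cL_pt, hu₀]
        simp [χ, hPY, hfe, B_self_of_singular q₂ he]
      have hβp : β (PY p) = β p := by
        rw [hPY, hp, zero_smul, sub_zero, map_sub, map_smul, hβe, smul_zero, sub_zero]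
      rw [← act_mul, ← hgρ, ha, map_add, act_gl_pt, act_gl_pt, hbe, hb, hL, hp, hβp, map_sub, act_act_inv, map_smul,
        mul_zero, zero_smul, add_zero, pt_add_right, pt_smul_right, pt_sub_left, pt_smul_left]
      abel
  obtain ⟨p, hodd, hprime, hchar⟩ := exists_odd_char C.two
  haveI := hchar
  haveI : Fact p.Prime := ⟨hprime⟩
  have hpow : ρ ^ p ^ 3 = 1 := by
    refine pow_eq_one_of_unipotent fun x => ?_
    let D : (ι → F) →ₗ[F] (ι → F) := act ρ - LinearMap.id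
    let E : (ι → F) →ₗ[F] (ι → F) := LinearMap.id - ptL T f ∘ₗ proj T q₂ e
    have hDD : D ∘ₗ D ∘ₗ E = 0 := pt_ext T fun u v => by
      have hE : E (pt T u v) = pt T u (v - B₂ e v • f) := by
        show pt T u v - pt T (proj T q₂ e (pt T u v)) f = _
        rw [proj_pt, pt_sub_right, pt_smul_left, pt_smul_right]
      obtain ⟨a, ha⟩ := hρrad.2 u (v - B₂ e v • f) (by rw [B_sub_right q₂, B_smul_right q₂, hef]; ring)
      show D (D (E (pt T u v))) = 0
      rw [hE]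
      show act ρ (act ρ _ - _) - (act ρ _ - _) = 0
      simp only [LinearMap.id_apply, ha, add_sub_cancel_left, hρrad.1, sub_self]
    have hD : proj T q₂ e (D x) = 0 := by
      show proj T q₂ e (act ρ x - x) = 0
      rw [map_sub, proj_rad C he hf hef hρI hρrad, sub_self]
    have e1 := LinearMap.congr_fun hDD (D x)
    have hEx : E (D x) = D x := by
      show D x - pt T (proj T q₂ e (D x)) f = D x
      rw [hD, pt_zero_left, sub_zero]
    simp only [LinearMap.comp_apply, hEx, LinearMap.zero_apply] at e1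
    change act ρ (act ρ (act ρ x - x) - (act ρ x - x)) - (act ρ (act ρ x - x) - (act ρ x - x)) = 0 at e1
    simp only [map_sub] at e1
    rw [← e1]; module
  have hρΩ := mem_omega_of_odd_order C.hQ (five_le C) hρI (hodd.pow) hpow
  have hhM : gl T A b ∈ M := by
    refine C.ge _ _ ?_
    have : gl T A b = g * ρ⁻¹ := by rw [hgρ, mul_inv_cancel_right]
    rw [this]
    exact mul_mem (C.le hg) (inv_mem hρΩ)
  have hρM : ρ ∈ M := hρdef ▸ M.mul_mem (M.inv_mem hhM) hg
  obtain ⟨φ, -, hρeq⟩ := rad_eq_of C he hf hef hT he0 hsc hρM hρrad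
  rw [hgρ, hρeq]
  exact mul_mem (gl_mem T _ _) (gl_mem T _ _)

/-- the stabiliser of `F ⊗ e` -/
theorem stab_singular (h5 : 5 ≤ n₂) (hbig : 4 ≤ n₁ ∨ ∃ t : F, t ≠ 0 ∧ t * t ≠ 1) {g : GL ι F} (hg : g ∈ M)
    (hW : ∀ u, ∃ a, act g (pt T u e) = pt T a e) :
    g ∈ Cfsg.Geo.tensorProductSubgroup n₁ n₂ T.e T.P :=
  stab_singular_of C he hf hef hT he0 (fun _ hρ h _ => rad_scalar C he hf hef hT he0 h5 hbig hρ h) hg hW

end Cfsg.Agent.MaxCl.OTens
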