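/-
Siegel elements of the second factor are rigid in an overgroup of an orthogonal tensor stabiliser: a conjugate
inside the stabiliser forces membership. So two vectors fixed by such elements in one orbit are in one tensor orbit.
-/
import Cfsg.Agent.Lib.MaxCl.OrthTensorStab
import Cfsg.Agent.Lib.MaxCl.FixedRootCore
import Cfsg.Agent.Lib.MaxCl.TensorBasic

set_option autoImplicit false
set_option linter.unusedSectionVars false
set_option linter.unusedSimpArgs false
set_option linter.style.haveILetI false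

namespace Cfsg.Agent.MaxCl.OTens

open scoped MatrixGroups Matrix
open Module (finrank)
open Orth Tens

variable {ι : Type} [Fintype ι] [DecidableEq ι] {F : Type*} [Field F] {n₁ n₂ : ℕ}

/-! ### Scalars, powers and fixed vectors -/

section General

variable {κ : Type} [Fintype κ] [DecidableEq κ]

/-- a scalar matrix -/
noncomputable def scalG (c : Fˣ) : GL κ F := Units.map (Matrix.scalar κ).toMonoidHom c

theorem act_scalG (c : Fˣ) (x : κ → F) : act (scalG c : GL κ F) x = (c : F) • x := by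
  funext i
  simp [act_apply, scalG, Matrix.scalar_apply, Matrix.mulVec_diagonal]

/-- a `p`-element fixes a non-zero vector of every non-zero stable subspace in characteristic `p` -/
theorem exists_fixed_of_unipotent {p k : ℕ} [CharP F p] [Fact p.Prime] {a : GL κ F} (ha : a ^ p ^ k = 1)
    {S : Submodule F (κ → F)} (hS : ∀ x ∈ S, act a x ∈ S) (hne : S ≠ ⊥) : ∃ x ∈ S, x ≠ 0 ∧ act a x = x := by
  classical
  obtain ⟨s, hs, hs0⟩ := Submodule.exists_mem_ne_zero_of_ne_bot hne
  haveI : Nonempty κ := by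
    by_contra h
    rw [not_nonempty_iff] at h
    exact hs0 (Subsingleton.elim _ _)
  haveI : CharP (Matrix κ κ F) p := Matrix.charP p
  set N : Matrix κ κ F := (a : Matrix κ κ F) - 1 with hN
  have hN0 : N ^ p ^ k = 0 := by
    rw [hN, sub_pow_char_pow_of_commute p k (Commute.one_right _), one_pow, ← Units.val_pow_eq_pow_val, ha,
      Units.val_one, sub_self]
  have hmem : ∀ j, (N ^ j) *ᵥ s ∈ S := by
    intro j
    induction j with
    | zero => rw [pow_zero, Matrix.one_mulVec]; exact hs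
    | succ j ih =>
      rw [pow_succ', ← Matrix.mulVec_mulVec, hN, Matrix.sub_mulVec, Matrix.one_mulVec, ← act_apply]
      exact S.sub_mem (hS _ ih) ih
  have hex : ∃ j, (N ^ j) *ᵥ s = 0 := ⟨p ^ k, by rw [hN0, Matrix.zero_mulVec]⟩
  obtain ⟨j, hj⟩ : ∃ j, Nat.find hex = j + 1 := Nat.exists_eq_succ_of_ne_zero fun h => by
    have := Nat.find_spec hex
    rw [h, pow_zero, Matrix.one_mulVec] at this
    exact hs0 this
  refine ⟨_, hmem j, Nat.find_min hex (by omega), sub_eq_zero.1 ?_⟩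
  have := Nat.find_spec hex
  rwa [hj, pow_succ', ← Matrix.mulVec_mulVec, hN, Matrix.sub_mulVec, Matrix.one_mulVec, ← act_apply] at this

end General

variable (T : TSys ι F n₁ n₂)

theorem gl_pow (a : GL (Fin n₁) F) (b : GL (Fin n₂) F) (m : ℕ) : gl T a b ^ m = gl T (a ^ m) (b ^ m) := by
  induction m with
  | zero => rw [pow_zero, pow_zero, pow_zero, gl_one]
  | succ m ih => rw [pow_succ, pow_succ, pow_succ, ih, gl_mul]

theorem cR_gl (a : GL (Fin n₁) F) (b : GL (Fin n₂) F) (ψ : (Fin n₂ → F) →ₗ[F] F) (x : ι → F) :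
    cR T ψ (act (gl T a b) x) = act a (cR T (ψ ∘ₗ act b) x) := by
  have : cR T ψ ∘ₗ act (gl T a b) = act a ∘ₗ cR T (ψ ∘ₗ act b) := pt_ext T fun u v => by
    simp only [LinearMap.comp_apply, act_gl_pt, cR_pt, map_smul]
  exact LinearMap.congr_fun this x

/-- a tensor product equal to one has scalar factors -/
theorem scalar_of_gl_eq_one (h1 : 0 < n₁) (h2 : 0 < n₂) {a : GL (Fin n₁) F} {b : GL (Fin n₂) F}
    (h : gl T a b = 1) : ∃ c : F, c ≠ 0 ∧ (∀ u, act a u = c • u) ∧ ∀ v, act b v = c⁻¹ • v := by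
  let v₀ : Fin n₂ → F := Pi.single ⟨0, h2⟩ 1
  let u₀ : Fin n₁ → F := Pi.single ⟨0, h1⟩ 1
  let ψ : (Fin n₂ → F) →ₗ[F] F := LinearMap.proj ⟨0, h2⟩
  let φ : (Fin n₁ → F) →ₗ[F] F := LinearMap.proj ⟨0, h1⟩
  have hψ : ψ v₀ = 1 := by simp [ψ, v₀]
  have hφ : φ u₀ = 1 := by simp [φ, u₀]
  have he : ∀ u v, pt T (act a u) (act b v) = pt T u v := fun u v => by
    rw [← act_gl_pt, h, act_one]
  have ha : ∀ u, ψ (act b v₀) • act a u = u := fun u => by
    have := congrArg (cR T ψ) (he u v₀)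
    rwa [cR_pt, cR_pt, hψ, one_smul] at this
  have hd : ψ (act b v₀) ≠ 0 := fun e => by
    have := congrArg φ (ha u₀)
    rw [e, zero_smul, map_zero, hφ] at this
    exact zero_ne_one this
  have haa : ∀ u, act a u = (ψ (act b v₀))⁻¹ • u := fun u => by
    conv_rhs => rw [← ha u, inv_smul_smul₀ hd]
  refine ⟨_, inv_ne_zero hd, haa, fun v => ?_⟩
  have := congrArg (cL T φ) (he u₀ v)
  rw [cL_pt, cL_pt, haa, map_smul, hφ, smul_eq_mul, mul_one, one_smul] at this
  rw [inv_inv]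
  conv_rhs => rw [← this]
  rw [smul_smul, mul_inv_cancel₀ hd, one_smul]

/-- contraction, linear in the functional and in the vector -/
noncomputable def cRB : (ι → F) →ₗ[F] ((Fin n₂ → F) →ₗ[F] F) →ₗ[F] (Fin n₁ → F) :=
  LinearMap.mk₂ F (fun x ψ => cR T ψ x) (fun x y ψ => map_add _ x y) (fun c x ψ => map_smul _ c x)
    (fun _ _ _ => rfl) (fun _ _ _ => rfl)

theorem cRB_apply (x : ι → F) (ψ : (Fin n₂ → F) →ₗ[F] F) : cRB T x ψ = cR T ψ x := rfl

/-- the fixed space of `a ⊗ b`, `a` a `p`-element -/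
theorem finrank_fix_le {p k : ℕ} [CharP F p] [Fact p.Prime] {a : GL (Fin n₁) F} {b : GL (Fin n₂) F}
    (ha : a ^ p ^ k = 1) (D : Submodule F (ι → F)) (hD : ∀ x ∈ D, act (gl T a b) x = x) :
    finrank F D ≤ n₂ * finrank F (LinearMap.ker (act a - LinearMap.id)) := by
  set K := LinearMap.ker (act a - LinearMap.id) with hK
  obtain ⟨ρ, hρ⟩ := LinearMap.exists_leftInverse_of_injective K.subtype (Submodule.ker_subtype K)
  let Φ : D →ₗ[F] (((Fin n₂ → F) →ₗ[F] F) →ₗ[F] K) :=
    { toFun := fun x => ρ ∘ₗ cRB T (x : ι → F)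
      map_add' := fun x y => by rw [Submodule.coe_add, map_add, LinearMap.comp_add]
      map_smul' := fun c x => by rw [Submodule.coe_smul, map_smul, LinearMap.comp_smul, RingHom.id_apply] }
  have hΦ : Function.Injective Φ := (injective_iff_map_eq_zero Φ).2 fun x hx => by
    by_contra hx0
    have hstab : ∀ y ∈ LinearMap.range (cRB T (x : ι → F)), act a y ∈ LinearMap.range (cRB T (x : ι → F)) := by
      rintro _ ⟨ψ, rfl⟩
      refine ⟨ψ ∘ₗ act b⁻¹, ?_⟩
      rw [cRB_apply, cRB_apply]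
      conv_lhs => rw [← hD x x.2, cR_gl]
      rw [LinearMap.comp_assoc, show act b⁻¹ ∘ₗ act b = LinearMap.id from LinearMap.ext fun v => act_inv_act b v,
        LinearMap.comp_id]
    have hne : LinearMap.range (cRB T (x : ι → F)) ≠ ⊥ := fun e => hx0 (Subtype.ext (eq_zero_of_cR T fun ψ => by
      have : cRB T (x : ι → F) ψ ∈ LinearMap.range (cRB T (x : ι → F)) := ⟨ψ, rfl⟩
      rwa [e, Submodule.mem_bot, cRB_apply] at this))
    obtain ⟨y, ⟨ψ, rfl⟩, hy0, hy⟩ := exists_fixed_of_unipotent ha hstab hne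
    apply hy0
    have hyK : cRB T (x : ι → F) ψ ∈ K := by
      rw [hK, LinearMap.mem_ker, LinearMap.sub_apply, LinearMap.id_apply, hy, sub_self]
    have h1 := LinearMap.congr_fun hρ ⟨_, hyK⟩
    have h2 : ρ (cRB T (x : ι → F) ψ) = 0 := LinearMap.congr_fun hx ψ
    rw [LinearMap.comp_apply, Submodule.subtype_apply, h2, LinearMap.id_apply] at h1
    exact congrArg Subtype.val h1.symm
  have h := LinearMap.finrank_le_finrank_of_injective hΦ
  rwa [Module.finrank_linearMap, Module.finrank_linearMap, Module.finrank_self, Module.finrank_fin_fun,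
    mul_one] at h

variable {T}

/-- a space of pure tensors has a common factor -/
theorem pure_dichotomy {M : Type*} [AddCommGroup M] [Module F M] (L : M →ₗ[F] (ι → F))
    (h : ∀ m, ∃ a b, L m = pt T a b) :
    (∃ b, ∀ m, ∃ a, L m = pt T a b) ∨ ∃ a, ∀ m, ∃ b, L m = pt T a b := by
  by_cases hz : ∀ m, L m = 0
  · exact Or.inl ⟨0, fun m => ⟨0, by rw [hz, pt_zero_left]⟩⟩
  push Not at hz
  obtain ⟨m₁, hm₁⟩ := hz
  obtain ⟨a₁, b₁, e₁⟩ := h m₁
  rw [e₁, Ne, pt_eq_zero, not_or] at hm₁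
  by_cases hall : ∀ m, ∃ a, L m = pt T a b₁
  · exact Or.inl ⟨b₁, hall⟩
  push Not at hall
  obtain ⟨m₂, hm₂⟩ := hall
  obtain ⟨a₂, b₂, e₂⟩ := h m₂
  have hb₂ : b₂ ∉ F ∙ b₁ := fun hb => by
    obtain ⟨s, rfl⟩ := Submodule.mem_span_singleton.1 hb
    exact hm₂ (s • a₂) (by rw [e₂, pt_smul_comm])
  have hshare : ∀ {m m' a a' b b'}, L m = pt T a b → L m' = pt T a' b' → a ≠ 0 → b ≠ 0 → b' ∉ F ∙ b →
      a' ∈ F ∙ a := by
    intro m m' a a' b b' e e' ha hb hb'
    by_contra hne
    obtain ⟨a'', b'', e''⟩ := h (m + m')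
    rw [map_add, e, e'] at e''
    exact hb' (share T e'' hb ha hne)
  obtain ⟨s, rfl⟩ := Submodule.mem_span_singleton.1 (hshare e₁ e₂ hm₁.1 hm₁.2 hb₂)
  have hb₂0 : b₂ ≠ 0 := fun e => hb₂ (e ▸ Submodule.zero_mem _)
  have hs : s ≠ 0 := fun e => hm₂ 0 (by rw [e₂, e, zero_smul, pt_zero_left, pt_zero_left])
  refine Or.inr ⟨a₁, fun m => ?_⟩
  obtain ⟨a, b, e⟩ := h m
  by_cases hb : b ∈ F ∙ b₁
  · rcases eq_or_ne b 0 with rfl | hb0
    · exact ⟨0, by rw [e, pt_zero_right, pt_zero_right]⟩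
    have hb' : b ∉ F ∙ b₂ := fun hb' => hb₂ (by
      obtain ⟨t, rfl⟩ := Submodule.mem_span_singleton.1 hb'
      have ht : t ≠ 0 := fun e => hb0 (by rw [e, zero_smul])
      have := (F ∙ b₁).smul_mem t⁻¹ hb
      rwa [inv_smul_smul₀ ht] at this)
    obtain ⟨t, rfl⟩ := Submodule.mem_span_singleton.1
      (hshare e₂ e (smul_ne_zero hs hm₁.1) hb₂0 hb')
    exact ⟨(t * s) • b, by rw [e, ← mul_smul, pt_smul_comm]⟩
  · obtain ⟨t, rfl⟩ := Submodule.mem_span_singleton.1 (hshare e₁ e hm₁.1 hm₁.2 hb)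
    exact ⟨t • b, by rw [e, pt_smul_comm]⟩

/-- a bijection preserving pure tensors is a tensor product -/
theorem mem_of_pure (lt : n₁ < n₂) (h1 : 1 ≤ n₁) {g : GL ι F}
    (h : ∀ u v, ∃ a b, act g (pt T u v) = pt T a b) :
    g ∈ Cfsg.Geo.tensorProductSubgroup n₁ n₂ T.e T.P := by
  obtain ⟨g', hg'⟩ := TP.exists_gl (crd T ∘ₗ act g ∘ₗ emb T) fun x y e => by
    have e' : crd T (act g (emb T x)) = crd T (act g (emb T y)) := e
    have := congrArg (crd T) (act_injective g ((congrArg (emb T) e').symm.trans (emb_crd T _) |>.symm.trans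
      (emb_crd T _)))
    rwa [crd_emb, crd_emb] at this
  obtain ⟨a, b, hab⟩ := TP.exists_of_mem (TP.mem_kron_of_pure (g := g') (by simpa using lt) (by simpa using h1)
    fun y v => by
      obtain ⟨a, b, e⟩ := h y v
      refine ⟨a, b, ?_⟩
      rw [hg']
      show crd T (act g (pt T y v)) = _
      rw [e, pt, crd_emb]; rfl)
  have : g = gl T a b := gl_ext_pt T fun u v => by
    rw [act_gl_pt, ← emb_crd T (act g (pt T u v))]
    show emb T ((crd T ∘ₗ act g ∘ₗ emb T) (TP.pv u v)) = emb T (TP.pv (act a u) (act b v))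
    rw [← hg', hab, TP.act_kr_pv]
  rw [this]
  exact gl_mem T a b

variable {Q : QuadraticForm F (ι → F)} {q₁ : QuadraticForm F (Fin n₁ → F)}
variable {q₂ : QuadraticForm F (Fin n₂ → F)} {M : Subgroup (GL ι F)}

set_option quotPrecheck false in
local notation "B" => QuadraticMap.polar (⇑Q)
set_option quotPrecheck false in
local notation "B₁" => QuadraticMap.polar (⇑q₁)
set_option quotPrecheck false in
local notation "B₂" => QuadraticMap.polar (⇑q₂)

/-- an overgroup without top elements, with the larger factor second -/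
structure Rigid (T : TSys ι F n₁ n₂) (Q : QuadraticForm F (ι → F)) (q₁ : QuadraticForm F (Fin n₁ → F))
    (q₂ : QuadraticForm F (Fin n₂ → F)) (M : Subgroup (GL ι F)) : Prop where
  ctx : OCtx T Q q₁ q₂ M
  top : TopTrivial T q₂ M
  five : 5 ≤ n₂
  lt : n₁ < n₂
  big : 4 ≤ n₁ ∨ ∃ t : F, t ≠ 0 ∧ t * t ≠ 1

/-- an overgroup in which elements mapping a singular layer onto another are tensor products -/
structure Mover (T : TSys ι F n₁ n₂) (Q : QuadraticForm F (ι → F)) (q₁ : QuadraticForm F (Fin n₁ → F))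
    (q₂ : QuadraticForm F (Fin n₂ → F)) (M : Subgroup (GL ι F)) : Prop where
  ctx : OCtx T Q q₁ q₂ M
  lt : n₁ < n₂
  move : ∀ g ∈ M, ∀ e e', q₂ e = 0 → e ≠ 0 → q₂ e' = 0 → e' ≠ 0 →
    (∀ u, ∃ a, act g (pt T u e) = pt T a e') → g ∈ Cfsg.Geo.tensorProductSubgroup n₁ n₂ T.e T.P

/-- two independent vectors `e`, `w` spanning a degenerate plane, `e` singular, kill `y` -/
def Covered (T : TSys ι F n₁ n₂) (q₂ : QuadraticForm F (Fin n₂ → F)) (y : ι → F) : Prop :=
  ∃ e w, q₂ e = 0 ∧ e ≠ 0 ∧ QuadraticMap.polar q₂ e w = 0 ∧ w ∉ F ∙ e ∧ proj T q₂ e y = 0 ∧ proj T q₂ w y = 0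

/-- `s ↦ proj s y` -/
noncomputable def projFlip (T : TSys ι F n₁ n₂) (q₂ : QuadraticForm F (Fin n₂ → F)) (y : ι → F) :
    (Fin n₂ → F) →ₗ[F] (Fin n₁ → F) where
  toFun s := proj T q₂ s y
  map_add' s t := proj_add s t y
  map_smul' c s := proj_smul c s y

theorem finrank_projFlip_ker (y : ι → F) : n₂ ≤ finrank F (LinearMap.ker (projFlip T q₂ y)) + n₁ := by
  have h := LinearMap.finrank_range_add_finrank_ker (projFlip T q₂ y)
  have h' := Submodule.finrank_le (LinearMap.range (projFlip T q₂ y))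
  rw [Module.finrank_fin_fun] at h h'
  omega

/-- contraction pulled back along a Siegel element -/
theorem finrank_pair_ker (e w : Fin n₂ → F) :
    finrank F (ι → F) ≤ finrank F (LinearMap.ker ((proj T q₂ e).prod (proj T q₂ w))) + 2 * n₁ := by
  have h := LinearMap.finrank_range_add_finrank_ker ((proj T q₂ e).prod (proj T q₂ w))
  have h' := Submodule.finrank_le (LinearMap.range ((proj T q₂ e).prod (proj T q₂ w)))
  rw [Module.finrank_prod, Module.finrank_fin_fun] at h'
  omega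

theorem finrank_space (T : TSys ι F n₁ n₂) : finrank F (ι → F) = n₁ * n₂ := by
  rw [Module.finrank_pi, Fintype.card_congr T.e, Fintype.card_prod, Fintype.card_fin, Fintype.card_fin]

variable [Finite F] (R : Rigid T Q q₁ q₂ M)
include R

theorem Rigid.pos₁ : 0 < n₁ := lt_of_lt_of_le (by norm_num) R.ctx.three₁

theorem Rigid.card₂ : 5 ≤ Fintype.card (Fin n₂) := by rw [Fintype.card_fin]; exact R.five

omit R in
/-- mapping one singular layer onto another -/
theorem mem_of_layer (C : OCtx T Q q₁ q₂ M) (top : TopTrivial T q₂ M) (h5 : 5 ≤ n₂)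
    (big : 4 ≤ n₁ ∨ ∃ t : F, t ≠ 0 ∧ t * t ≠ 1) {g : GL ι F} (hg : g ∈ M) {e e' : Fin n₂ → F} (he : q₂ e = 0)
    (he0 : e ≠ 0) (he' : q₂ e' = 0) (he'0 : e' ≠ 0) (h : ∀ u, ∃ a, act g (pt T u e) = pt T a e') :
    g ∈ Cfsg.Geo.tensorProductSubgroup n₁ n₂ T.e T.P := by
  obtain ⟨s, hs, hse⟩ := exists_move_exact C.two C.h₂ (by rwa [Fintype.card_fin]) he' he'0 he he0
  obtain ⟨f, hf, hef⟩ := exists_partner_top C.h₂ he he0
  have h1 := stab_singular C he hf hef top he0 h5 big (M.mul_mem (gl_right_mem C hs) hg)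
    fun u => by
      obtain ⟨a, ha⟩ := h u
      exact ⟨a, by rw [act_mul, ha, act_gl_pt, act_one, hse]⟩
  have h2 := (Cfsg.Geo.tensorProductSubgroup n₁ n₂ T.e T.P).mul_mem (inv_mem (gl_mem T 1 s)) h1
  rwa [inv_mul_cancel_left] at h2

theorem Rigid.mover : Mover T Q q₁ q₂ M :=
  ⟨R.ctx, R.lt, fun _ hg _ _ he he0 he' he'0 h => mem_of_layer R.ctx R.top R.five R.big hg he he0 he' he'0 h⟩

omit R

section MoverSection

variable (V : Mover T Q q₁ q₂ M)
include V

/-- a conjugate of a Siegel element of the second factor in the tensor group comes from the second factor -/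
theorem root_conj {g : GL ι F} (hg : g ∈ M) {e w : Fin n₂ → F} (he : q₂ e = 0) (hew : B₂ e w = 0)
    (h : g * gl T 1 (sg q₂ e w) * g⁻¹ ∈ Cfsg.Geo.tensorProductSubgroup n₁ n₂ T.e T.P) :
    ∃ b, g * gl T 1 (sg q₂ e w) * g⁻¹ = gl T 1 b := by
  obtain ⟨a, b, hab⟩ := exists_of_mem T h
  have hn₂ : 0 < n₂ := by have := V.ctx.three₂; omega
  obtain ⟨p, -, hprime, hchar⟩ := exists_odd_char V.ctx.two
  haveI := hchar
  haveI : Fact p.Prime := ⟨hprime⟩
  have hgI := M_le_iso V.ctx hg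
  have hp1 : gl T (a ^ p) (b ^ p) = 1 := by
    rw [← gl_pow, ← hab, conj_pow, gl_pow, one_pow, sg_pow_char, gl_one, mul_one, mul_inv_cancel]
  obtain ⟨c, hc0, hca, -⟩ := scalar_of_gl_eq_one T (Nat.lt_of_lt_of_le (by norm_num : (0:ℕ) < 3) V.ctx.three₁) hn₂ hp1
  obtain ⟨μ, hμ⟩ := Finite.surjective_of_injective (frobenius_inj F p) c
  have hμ' : μ ^ p = c := hμ
  have hμ0 : μ ≠ 0 := fun e => hc0 (by rw [← hμ', e, zero_pow hprime.ne_zero])
  obtain ⟨a', ha'⟩ : ∃ a', a' = scalG (Units.mk0 μ hμ0)⁻¹ * a := ⟨_, rfl⟩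
  obtain ⟨b', hb'⟩ : ∃ b', b' = scalG (Units.mk0 μ hμ0) * b := ⟨_, rfl⟩
  have hgl : gl T a' b' = gl T a b := gl_ext_pt T fun u v => by
    rw [act_gl_pt, act_gl_pt, ha', hb', act_mul, act_mul, act_scalG, act_scalG, Units.val_inv_eq_inv_val,
      Units.val_mk0, pt_smul_left, pt_smul_right, inv_smul_smul₀ hμ0]
  have ha'p : a' ^ p ^ 1 = 1 := by
    have hcom : Commute (scalG (Units.mk0 μ hμ0)⁻¹ : GL (Fin n₁) F) a := gl_ext fun u => by
      rw [act_mul, act_mul, act_scalG, act_scalG, map_smul]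
    apply gl_ext; intro u
    rw [pow_one, ha', hcom.mul_pow, act_mul, act_one, hca,
      show (scalG (Units.mk0 μ hμ0)⁻¹ : GL (Fin n₁) F) ^ p = scalG ((Units.mk0 μ hμ0)⁻¹ ^ p) from
        (map_pow _ _ _).symm, act_scalG, smul_smul, Units.val_pow_eq_pow_val, Units.val_inv_eq_inv_val,
      Units.val_mk0, ← hμ', ← mul_pow, inv_mul_cancel₀ hμ0, one_pow, one_smul]
  have hr : gl T 1 (sg q₂ e w) ∈ M := gl_right_mem V.ctx (sg_mem_sgGroup e w)
  have hiso : gl T a' b' ∈ isometryGroup F Q := by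
    rw [hgl, ← hab]; exact mul_mem (mul_mem hgI (M_le_iso V.ctx hr)) (inv_mem hgI)
  have ha'I : a' ∈ isometryGroup F q₁ := by
    obtain ⟨v, hv⟩ := exists_B_ne_zero V.ctx.h₂ (x := Pi.single (⟨0, hn₂⟩ : Fin n₂) (1 : F)) (by simp)
    set x : Fin n₂ → F := Pi.single ⟨0, hn₂⟩ 1
    obtain ⟨ν, hν⟩ : ∃ ν, ν = B₂ (act b' x) (act b' v) / B₂ x v := ⟨_, rfl⟩
    have hsim : ∀ u u', ν * B₁ (act a' u) (act a' u') = B₁ u u' := fun u u' => by
      have e1 := B_act hiso (pt T u x) (pt T u' v)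
      rw [act_gl_pt, act_gl_pt, V.ctx.form, V.ctx.form] at e1
      rw [hν]; field_simp
      linear_combination e1
    have hiter : ∀ m : ℕ, ∀ u u', ν ^ m * B₁ (act (a' ^ m) u) (act (a' ^ m) u') = B₁ u u' := by
      intro m
      induction m with
      | zero => intro u u'; simp [act_one]
      | succ m ih =>
        intro u u'
        rw [pow_succ' a', act_mul, act_mul, pow_succ, mul_assoc, hsim, ih]
    have hν1 : ν = 1 := by
      obtain ⟨u, hu⟩ := exists_B_ne_zero V.ctx.h₁ (x := Pi.single (⟨0, (Nat.lt_of_lt_of_le (by norm_num : (0:ℕ) < 3) V.ctx.three₁)⟩ : Fin n₁) (1 : F)) (by simp)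
      have e1 := hiter p (Pi.single ⟨0, (Nat.lt_of_lt_of_le (by norm_num : (0:ℕ) < 3) V.ctx.three₁)⟩ 1) u
      rw [show a' ^ p = 1 by rwa [pow_one] at ha'p, act_one, act_one, mul_left_eq_self₀, or_iff_left hu] at e1
      exact frobenius_inj F p (by rw [frobenius_def, frobenius_def, e1, one_pow])
    exact mem_iso_of_polar V.ctx.two fun u u' => by
      have := hsim u u'
      rwa [hν1, one_mul] at this
  set D := (LinearMap.ker ((proj T q₂ e).prod (proj T q₂ w))).map (act g) with hD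
  have hDfix : ∀ x ∈ D, act (gl T a' b') x = x := by
    rintro _ ⟨y, hy, rfl⟩
    have hy1 : proj T q₂ e y = 0 := congrArg Prod.fst (LinearMap.mem_ker.1 hy)
    have hy2 : proj T q₂ w y = 0 := congrArg Prod.snd (LinearMap.mem_ker.1 hy)
    rw [hgl, ← hab, act_mul, act_mul, act_inv_act, act_glSiegel V.ctx he hew, hy1, hy2, smul_zero, add_zero,
      pt_zero_left, pt_zero_left, add_zero, sub_zero]
  have hDdim : n₁ * n₂ ≤ finrank F D + 2 * n₁ := by
    have h1 := finrank_pair_ker (T := T) (q₂ := q₂) e w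
    rw [finrank_space T] at h1
    have h2 : finrank F D = finrank F (LinearMap.ker ((proj T q₂ e).prod (proj T q₂ w))) :=
      (Submodule.equivMapOfInjective _ (act_injective g) _).symm.finrank_eq
    omega
  have hle := finrank_fix_le T ha'p D hDfix
  set K := LinearMap.ker (act a' - LinearMap.id) with hKdef
  have hKmem : ∀ {u}, u ∈ K ↔ act a' u = u := fun {u} => by
    rw [hKdef, LinearMap.mem_ker, LinearMap.sub_apply, LinearMap.id_apply, sub_eq_zero]
  have hKn : n₁ ≤ finrank F K + 1 := by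
    by_contra hlt
    have h1 : n₂ * finrank F K + 2 * n₂ ≤ n₁ * n₂ := by
      have : (finrank F K + 2) * n₂ ≤ n₁ * n₂ := Nat.mul_le_mul_right _ (by omega)
      linarith
    have := V.lt
    omega
  suffices hK : ∀ u, act a' u = u by
    refine ⟨b', ?_⟩
    rw [hab, ← hgl, show a' = 1 from gl_ext fun u => by rw [hK, act_one]]
  by_contra hne
  push Not at hne
  obtain ⟨u, hu⟩ := hne
  have hperp : ∀ x, act a' x - x ∈ Orth.perp q₁ K := fun x k hk => by
    show B₁ k (act a' x - x) = 0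
    rw [B_sub_right q₁]
    conv_lhs => arg 1; rw [← hKmem.1 hk, B_act ha'I]
    exact sub_self _
  set d := act a' u - u with hd
  have hd0 : d ≠ 0 := sub_ne_zero.2 hu
  have hline : Orth.perp q₁ K = F ∙ d := by
    refine (Submodule.eq_of_le_of_finrank_le ((Submodule.span_singleton_le_iff_mem _ _).2 (hperp u)) ?_).symm
    rw [finrank_span_singleton hd0, Orth.finrank_perp V.ctx.h₁, Fintype.card_fin]
    omega
  obtain ⟨s, hs⟩ := Submodule.mem_span_singleton.1 (hline ▸ hperp d)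
  have hds : ∀ m : ℕ, act (a' ^ m) d = (1 + s) ^ m • d := fun m => by
    induction m with
    | zero => rw [pow_zero, act_one, pow_zero, one_smul]
    | succ m ih =>
      rw [pow_succ', act_mul, ih, map_smul, pow_succ, mul_smul, add_smul (1 : F), one_smul, hs, add_sub_cancel]
  have hdK : d ∈ K := by
    have e1 := hds p
    rw [show a' ^ p = 1 by rwa [pow_one] at ha'p, act_one] at e1
    have e2 : (1 + s) ^ p = 1 :=
      smul_left_injective F hd0 (show (1 + s) ^ p • d = (1 : F) • d by rw [← e1, one_smul])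
    have e3 : 1 + s = 1 := frobenius_inj F p (by rw [frobenius_def, frobenius_def, e2, one_pow])
    rw [hKmem, ← sub_eq_zero, ← hs, show s = 0 by linear_combination e3, zero_smul]
  have hdd : q₁ d = 0 := by
    have : B₁ d (act a' u - u) = 0 := hperp u d hdK
    rw [← hd, B_self q₁] at this
    exact (mul_eq_zero.1 this).resolve_left V.ctx.two
  have hud : B₁ u d = 0 := by
    have e1 := Q_act ha'I u
    rw [show act a' u = u + d by rw [hd]; abel, Q_add q₁, hdd, add_zero] at e1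
    simpa using e1
  apply hu
  rw [← hKmem, ← Orth.perp_perp V.ctx.h₁ K, hline]
  refine (Orth.mem_perp_span q₁).2 fun z hz => ?_
  rw [Set.mem_singleton_iff.1 hz, B_comm q₁, hud]

/-- short Siegel elements are rigid -/
theorem rig_short {g : GL ι F} (hg : g ∈ M) {e w : Fin n₂ → F} (he : q₂ e = 0) (he0 : e ≠ 0)
    (hew : B₂ e w = 0) (hw : q₂ w ≠ 0)
    (h : g * gl T 1 (sg q₂ e w) * g⁻¹ ∈ Cfsg.Geo.tensorProductSubgroup n₁ n₂ T.e T.P) :
    g ∈ Cfsg.Geo.tensorProductSubgroup n₁ n₂ T.e T.P := by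
  obtain ⟨b, hb⟩ := root_conj V hg he hew h
  obtain ⟨f, hf, hef⟩ := exists_partner_top V.ctx.h₂ he he0
  set L : Module.End F (Fin n₂ → F) := (act b - LinearMap.id) ∘ₗ (act b - LinearMap.id) with hL
  set r := gl T (1 : GL (Fin n₁) F) (sg q₂ e w) with hr
  set Dr : Module.End F (ι → F) := act r - LinearMap.id with hDr
  have hgx : ∀ x, act g (Dr x) = act (gl T 1 b) (act g x) - act g x := fun x => by
    rw [← hb, act_mul, act_mul, act_inv_act, hDr, LinearMap.sub_apply, LinearMap.id_apply, map_sub]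
  have hgx2 : ∀ u v x, act g x = pt T u v → act g (Dr (Dr x)) = pt T u (L v) := by
    intro u v x e1
    have e2 : act g (Dr x) = pt T u (act b v - v) := by
      rw [hgx, e1, act_gl_pt, act_one, pt_sub_right]
    rw [hgx, e2, act_gl_pt, act_one, ← pt_sub_right]
    rfl
  have hDr2 : ∀ x, Dr (Dr x) = pt T ((-(2 * q₂ w)) • proj T q₂ e x) e := by
    have : Dr ∘ₗ Dr = ptL T e ∘ₗ ((-(2 * q₂ w)) • proj T q₂ e) := pt_ext T fun u v => by
      have e1 : ∀ u v, Dr (pt T u v) = pt T u (B₂ e v • w - (B₂ w v + q₂ w * B₂ e v) • e) := fun u v => by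
        rw [hDr, LinearMap.sub_apply, LinearMap.id_apply, hr, act_gl_pt, act_one, act_sg q₂ he hew,
          ← pt_sub_right]
        congr 1; abel
      rw [LinearMap.comp_apply, e1, e1, LinearMap.comp_apply, LinearMap.smul_apply, proj_pt, ptL_apply]
      simp only [B_sub_right q₂, B_smul_right q₂, hew, B_self_of_singular q₂ he, B_self q₂ w, B_comm q₂ w e,
        pt_sub_right, pt_smul_right, pt_smul_left, pt_zero_right, mul_zero, sub_zero, zero_smul, add_zero,
        zero_sub, smul_smul, neg_smul, pt_neg_right]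
      module
    exact fun x => LinearMap.congr_fun this x
  have hback : ∀ u v, ∃ a, act g⁻¹ (pt T u (L v)) = pt T a e := fun u v =>
    ⟨_, by rw [← hgx2 u v _ (act_act_inv g _), act_inv_act, hDr2]⟩
  obtain ⟨v₀, hv₀⟩ : ∃ v, L v ≠ 0 := by
    by_contra hall
    push Not at hall
    obtain ⟨u, hu⟩ : ∃ u : Fin n₁ → F, u ≠ 0 := ⟨Pi.single ⟨0, (Nat.lt_of_lt_of_le (by norm_num : (0:ℕ) < 3) V.ctx.three₁)⟩ 1, by simp⟩
    have h0 : ∀ x, act g (Dr (Dr x)) = 0 := by
      have : act g ∘ₗ Dr ∘ₗ Dr ∘ₗ act g⁻¹ = 0 := pt_ext T fun a v => by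
        show act g (Dr (Dr (act g⁻¹ (pt T a v)))) = 0
        rw [hgx2 a v _ (act_act_inv g _), hall, pt_zero_right]
      intro x
      have h1 := LinearMap.congr_fun this (act g x)
      simpa [act_inv_act] using h1
    have h1 := h0 (pt T u f)
    rw [hDr2, proj_pt, hef, one_smul] at h1
    have h2 : pt T ((-(2 * q₂ w)) • u) e = 0 := act_injective g (by rw [h1, map_zero])
    rw [pt_eq_zero, or_iff_left he0, smul_eq_zero, neg_eq_zero, mul_eq_zero] at h2
    exact hu (h2.resolve_left (not_or.2 ⟨V.ctx.two, hw⟩))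
  let A : (Fin n₁ → F) →ₗ[F] (Fin n₁ → F) := proj T q₂ f ∘ₗ act g⁻¹ ∘ₗ ptL T (L v₀)
  have hA : ∀ u, act g⁻¹ (pt T u (L v₀)) = pt T (A u) e := fun u => by
    obtain ⟨a, ha⟩ := hback u v₀
    show _ = pt T (proj T q₂ f (act g⁻¹ (pt T u (L v₀)))) e
    rw [ha, proj_pt, B_comm q₂ f e, hef, one_smul]
  have hAinj : Function.Injective A := fun u u' hu => by
    have h1 : pt T (u - u') (L v₀) = 0 := act_injective g⁻¹ (by
      rw [pt_sub_left, map_sub, hA, hA, hu, sub_self, map_zero])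
    exact sub_eq_zero.1 (((pt_eq_zero T).1 h1).resolve_right hv₀)
  have hmove : ∀ a, ∃ u, act g (pt T a e) = pt T u (L v₀) := fun a => by
    obtain ⟨u, rfl⟩ := LinearMap.surjective_of_injective hAinj a
    exact ⟨u, by rw [← hA, act_act_inv]⟩
  have hsing : q₂ (L v₀) = 0 := by
    obtain ⟨u₁, hu₁⟩ : ∃ u : Fin n₁ → F, u ≠ 0 := ⟨Pi.single ⟨0, (Nat.lt_of_lt_of_le (by norm_num : (0:ℕ) < 3) V.ctx.three₁)⟩ 1, by simp⟩
    obtain ⟨u₂, hu₂⟩ := exists_B_ne_zero V.ctx.h₁ hu₁
    have e1 := B_act (inv_mem (M_le_iso V.ctx hg)) (pt T u₁ (L v₀)) (pt T u₂ (L v₀))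
    rw [hA, hA, V.ctx.form, V.ctx.form, B_self_of_singular q₂ he, mul_zero, eq_comm, mul_eq_zero,
      or_iff_right hu₂, B_self q₂, mul_eq_zero] at e1
    exact e1.resolve_left V.ctx.two
  exact V.move g hg _ _ he he0 hsing hv₀ hmove

end MoverSection

include R

omit R in
/-- the stabiliser of a vector -/
def fixVec (x : ι → F) : Subgroup (GL ι F) where
  carrier := {k | act k x = x}
  one_mem' := act_one x
  mul_mem' {a b} ha hb := by
    show act (a * b) x = x
    rw [act_mul, show act b x = x from hb, show act a x = x from ha]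
  inv_mem' {a} ha := by
    show act a⁻¹ x = x
    conv_lhs => rw [← show act a x = x from ha, act_inv_act]

omit R in
/-- the Siegel elements of the second factor with the given kind of pairs -/
def rootsOf (T : TSys ι F n₁ n₂) (q₂ : QuadraticForm F (Fin n₂ → F))
    (P : (Fin n₂ → F) → (Fin n₂ → F) → Prop) : Set (GL ι F) :=
  {r | ∃ e w, q₂ e = 0 ∧ e ≠ 0 ∧ QuadraticMap.polar q₂ e w = 0 ∧ P e w ∧ r = gl T 1 (sg q₂ e w)}

/-- vectors killed by rigid pairs lie in one tensor orbit as soon as in one orbit -/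
theorem orbit_of_pairs {P : (Fin n₂ → F) → (Fin n₂ → F) → Prop}
    (rig : ∀ g ∈ M, ∀ e w, q₂ e = 0 → e ≠ 0 → B₂ e w = 0 → P e w →
      g * gl T 1 (sg q₂ e w) * g⁻¹ ∈ Cfsg.Geo.tensorProductSubgroup n₁ n₂ T.e T.P →
      g ∈ Cfsg.Geo.tensorProductSubgroup n₁ n₂ T.e T.P)
    {g : GL ι F} (hg : g ∈ M) {x : ι → F} {e w e' w' : Fin n₂ → F}
    (he : q₂ e = 0) (he0 : e ≠ 0) (hew : B₂ e w = 0) (hP : P e w)
    (hex : proj T q₂ e x = 0) (hwx : proj T q₂ w x = 0)
    (he' : q₂ e' = 0) (he'0 : e' ≠ 0) (hew' : B₂ e' w' = 0) (hP' : P e' w')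
    (hex' : proj T q₂ e' (act g x) = 0) (hwx' : proj T q₂ w' (act g x) = 0) :
    ∃ a b, gl T a b ∈ isometryGroup F Q ∧ act g x = act (gl T a b) x := by
  classical
  obtain ⟨p, -, hprime, hchar⟩ := exists_odd_char R.ctx.two
  haveI := hchar
  haveI : Fact p.Prime := ⟨hprime⟩
  haveI : Finite (GL ι F) := Finite.of_injective _ Units.val_injective
  set r := gl T (1 : GL (Fin n₁) F) (sg q₂ e w)
  set r' := gl T (1 : GL (Fin n₁) F) (sg q₂ e' w')
  obtain ⟨h, hh, hk⟩ := exists_mem_orbit_of_rigid (p := p) (M := M)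
    (H := M ⊓ Cfsg.Geo.tensorProductSubgroup n₁ n₂ T.e T.P) inf_le_left (rootsOf T q₂ P)
    (fun _ ⟨e, w, _, _, _, _, e1⟩ => e1 ▸ ⟨gl_right_mem R.ctx (sg_mem_sgGroup e w), gl_mem T _ _⟩)
    (fun _ ⟨e, w, _, _, _, _, e1⟩ => ⟨1, by rw [e1, pow_one, gl_pow, one_pow, sg_pow_char, gl_one]⟩)
    (fun g hg _ ⟨e, w, h1, h2, h3, h4, e1⟩ h5 => ⟨hg, rig g hg e w h1 h2 h3 h4 (e1 ▸ h5.2)⟩)
    (fixVec x) hg (r := r) (r' := r') ⟨e, w, he, he0, hew, hP, rfl⟩ ⟨e', w', he', he'0, hew', hP', rfl⟩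
    (by
      show act r x = x
      rw [act_glSiegel R.ctx he hew, hex, hwx, smul_zero, add_zero, pt_zero_left, pt_zero_left, add_zero, sub_zero])
    (by
      show act (g⁻¹ * r' * g) x = x
      rw [act_mul, act_mul, act_glSiegel R.ctx he' hew', hex', hwx', smul_zero, add_zero, pt_zero_left,
        pt_zero_left, add_zero, sub_zero, act_inv_act])
  obtain ⟨a, b, rfl⟩ := exists_of_mem T hh.2
  refine ⟨a, b, M_le_iso R.ctx hh.1, ?_⟩
  have hk' : act ((gl T a b)⁻¹ * g) x = x := hk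
  conv_rhs => rw [← hk', ← act_mul, mul_inv_cancel_left]

/-- long Siegel elements are rigid -/
theorem rig_long {g : GL ι F} (hg : g ∈ M) {e w : Fin n₂ → F} (he : q₂ e = 0) (he0 : e ≠ 0)
    (hew : B₂ e w = 0) (hw : q₂ w = 0) (hwe : w ∉ F ∙ e)
    (h : g * gl T 1 (sg q₂ e w) * g⁻¹ ∈ Cfsg.Geo.tensorProductSubgroup n₁ n₂ T.e T.P) :
    g ∈ Cfsg.Geo.tensorProductSubgroup n₁ n₂ T.e T.P := by
  obtain ⟨b, hb⟩ := root_conj R.mover hg he hew h
  have hn₁ := R.pos₁
  obtain ⟨p, -, hprime, hchar⟩ := exists_odd_char R.ctx.two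
  haveI := hchar
  haveI : Fact p.Prime := ⟨hprime⟩
  set r := gl T (1 : GL (Fin n₁) F) (sg q₂ e w) with hr
  set Dr : Module.End F (ι → F) := act r - LinearMap.id with hDr
  set L : Module.End F (Fin n₂ → F) := act b - LinearMap.id with hL
  have hgx : ∀ x, act g (Dr x) = act (gl T 1 b) (act g x) - act g x := fun x => by
    rw [← hb, act_mul, act_mul, act_inv_act, hDr, LinearMap.sub_apply, LinearMap.id_apply, map_sub]
  have hgpt : ∀ u v, act g (Dr (act g⁻¹ (pt T u v))) = pt T u (L v) := fun u v => by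
    rw [hgx, act_act_inv, act_gl_pt, act_one, ← pt_sub_right]; rfl
  have hDpt : ∀ u v, Dr (pt T u v) = pt T u (B₂ e v • w - B₂ w v • e) := fun u v => by
    rw [hDr, LinearMap.sub_apply, LinearMap.id_apply, hr, act_gl_pt, act_one, act_sg q₂ he hew, hw,
      zero_mul, add_zero, ← pt_sub_right]
    congr 1; abel
  -- the image of `Dr` is totally isotropic
  have hiso : ∀ x y, B (Dr x) (Dr y) = 0 := by
    have key : ∀ u v y, B (Dr (pt T u v)) (Dr y) = 0 := by
      intro u v y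
      have : QuadraticMap.polarBilin Q (Dr (pt T u v)) ∘ₗ Dr = 0 := pt_ext T fun u' v' => by
        show B (Dr (pt T u v)) (Dr (pt T u' v')) = 0
        rw [hDpt, hDpt, R.ctx.form]
        simp only [B_sub_left q₂, B_sub_right q₂, B_smul_left q₂, B_smul_right q₂, B_self_of_singular q₂ he,
          B_self_of_singular q₂ hw, hew, B_comm q₂ w e]
        ring
      exact LinearMap.congr_fun this y
    intro x y
    have : (QuadraticMap.polarBilin Q).flip (Dr y) ∘ₗ Dr = 0 := pt_ext T fun u v => key u v y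
    exact LinearMap.congr_fun this x
  have hLiso : ∀ v v', B₂ (L v) (L v') = 0 := by
    intro v v'
    obtain ⟨u, hu⟩ : ∃ u : Fin n₁ → F, u ≠ 0 := ⟨Pi.single ⟨0, hn₁⟩ 1, by simp⟩
    obtain ⟨u', hu'⟩ := exists_B_ne_zero R.ctx.h₁ hu
    have e1 := hiso (act g⁻¹ (pt T u v)) (act g⁻¹ (pt T u' v'))
    rw [← B_act (M_le_iso R.ctx hg), hgpt, hgpt, R.ctx.form] at e1
    exact (mul_eq_zero.1 e1).resolve_left hu'
  have hLdim : finrank F (LinearMap.range L) ≤ 2 := by
    have hb1 : b ^ p ^ 1 = 1 := by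
      have e1 : gl T (1 : GL (Fin n₁) F) (b ^ p) = 1 := by
        rw [← one_pow (M := GL (Fin n₁) F) p, ← gl_pow, ← hb, conj_pow, hr, gl_pow, one_pow, sg_pow_char, gl_one,
          mul_one, mul_inv_cancel]
      obtain ⟨c, -, hc1, hc2⟩ := scalar_of_gl_eq_one T hn₁ (by have := R.five; omega) e1
      have hc : c = 1 := by
        have := congrFun (hc1 (Pi.single ⟨0, hn₁⟩ 1)) ⟨0, hn₁⟩
        simpa [act_one] using this.symm
      rw [pow_one]
      exact gl_ext fun v => by rw [hc2, hc, inv_one, one_smul, act_one]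
    have hle := finrank_fix_le (swapSys T) (b := (1 : GL (Fin n₁) F)) hb1
      ((LinearMap.ker ((proj T q₂ e).prod (proj T q₂ w))).map (act g)) (by
        rintro _ ⟨y, hy, rfl⟩
        have hy1 : proj T q₂ e y = 0 := congrArg Prod.fst (LinearMap.mem_ker.1 hy)
        have hy2 : proj T q₂ w y = 0 := congrArg Prod.snd (LinearMap.mem_ker.1 hy)
        rw [gl_swapSys, ← hb, act_mul, act_mul, act_inv_act, hr, act_glSiegel R.ctx he hew, hy1, hy2, smul_zero,
          add_zero, pt_zero_left, pt_zero_left, add_zero, sub_zero])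
    rw [(Submodule.equivMapOfInjective _ (act_injective g) _).symm.finrank_eq] at hle
    have h1 := finrank_pair_ker (T := T) (q₂ := q₂) e w
    rw [finrank_space T] at h1
    have h2 := LinearMap.finrank_range_add_finrank_ker L
    rw [Module.finrank_fin_fun] at h2
    by_contra hlt
    have h3 : n₁ * finrank F (LinearMap.ker L) + 3 * n₁ ≤ n₁ * n₂ := by
      have : n₁ * (finrank F (LinearMap.ker L) + 3) ≤ n₁ * n₂ := Nat.mul_le_mul_left _ (by omega)
      linarith
    change _ ≤ n₁ * finrank F (LinearMap.ker L) at hle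
    omega
  have hE : finrank F (Submodule.span F (Set.range ![e, w])) ≤ 2 := finrank_span_list_le ![e, w]
  have haniso : ∀ E : Submodule F (Fin n₂ → F), finrank F E ≤ 2 →
      ∃ y ∈ Orth.perp q₂ E, q₂ y ≠ 0 := fun E hE2 =>
    Orth.exists_nonsingular R.ctx.h₂ (by
      have := R.five
      rw [Orth.finrank_perp R.ctx.h₂, Fintype.card_fin]; omega)
  -- images of pure tensors in the layers are pure
  have hin : ∀ z ∈ Submodule.span F (Set.range ![e, w]), ∀ u, ∃ x, pt T u z = Dr x := by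
    intro z hz u
    let G : Submodule F (Fin n₂ → F) := (LinearMap.range Dr).comap (ptR T u)
    have hwe' : e ∉ F ∙ w := fun h' => hwe (by
      obtain ⟨k, hk⟩ := Submodule.mem_span_singleton.1 h'
      have hk0 : k ≠ 0 := fun e1 => he0 (by rw [← hk, e1, zero_smul])
      exact Submodule.mem_span_singleton.2 ⟨k⁻¹, by rw [← hk, inv_smul_smul₀ hk0]⟩)
    obtain ⟨z₁, hz₁, hz₁1⟩ := Orth.exists_perp_one R.ctx.h₂ hwe'
    obtain ⟨z₂, hz₂, hz₂1⟩ := Orth.exists_perp_one R.ctx.h₂ hwe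
    have hw' : w ∈ G := ⟨pt T u z₁, by
      rw [hDpt, hz₁1, show B₂ w z₁ = 0 from hz₁ w (Submodule.mem_span_singleton_self w), one_smul, zero_smul,
        sub_zero]; rfl⟩
    have he' : e ∈ G := ⟨-pt T u z₂, by
      rw [map_neg, hDpt, hz₂1, show B₂ e z₂ = 0 from hz₂ e (Submodule.mem_span_singleton_self e), one_smul,
        zero_smul, zero_sub,
        pt_neg_right, neg_neg]; rfl⟩
    have : Submodule.span F (Set.range ![e, w]) ≤ G := Submodule.span_le.2 (by
      rintro _ ⟨i, rfl⟩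
      fin_cases i
      · exact he'
      · exact hw')
    obtain ⟨x, hx⟩ := this hz
    exact ⟨x, hx.symm⟩
  have hkill : ∀ x, ∀ s ∈ Orth.perp q₂ (LinearMap.range L), proj T q₂ s (act g (Dr x)) = 0 := by
    intro x s hs
    have : proj T q₂ s ∘ₗ act g ∘ₗ Dr ∘ₗ act g⁻¹ = 0 := pt_ext T fun a v => by
      show proj T q₂ s (act g (Dr (act g⁻¹ (pt T a v)))) = 0
      rw [hgpt, proj_pt, B_comm q₂, show B₂ (L v) s = 0 from hs _ ⟨v, rfl⟩, zero_smul]
    have h1 := LinearMap.congr_fun this (act g x)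
    simpa [act_inv_act] using h1
  have hpure : ∀ z ∈ Submodule.span F (Set.range ![e, w]), ∀ u, ∃ a c, act g (pt T u z) = pt T a c := by
    intro z hz u
    obtain ⟨x, hx⟩ := hin z hz u
    obtain ⟨y, hy, hy'⟩ := haniso _ hE
    rw [Orth.mem_perp_span] at hy
    obtain ⟨v₀, hv₀⟩ : ∃ v, L v ≠ 0 := by
      by_contra hall
      push Not at hall
      have h0 : ∀ x, act g (Dr x) = 0 := by
        have : act g ∘ₗ Dr ∘ₗ act g⁻¹ = 0 := pt_ext T fun a v => by
          show act g (Dr (act g⁻¹ (pt T a v))) = 0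
          rw [hgpt, hall, pt_zero_right]
        intro x
        have h1 := LinearMap.congr_fun this (act g x)
        simpa [act_inv_act] using h1
      obtain ⟨x', hx'⟩ := hin e (Submodule.subset_span ⟨0, rfl⟩) (Pi.single ⟨0, hn₁⟩ 1)
      have h1 := h0 x'
      rw [← hx'] at h1
      have h2 := (pt_eq_zero T).1 (act_injective g (h1.trans (map_zero (act g)).symm))
      simp [he0] at h2
    obtain ⟨y₂, hy₂, hy₂'⟩ := haniso _ hLdim
    have hs0 : q₂ (L v₀) = 0 := by
      have e1 := hLiso v₀ v₀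
      rw [B_self q₂] at e1
      exact (mul_eq_zero.1 e1).resolve_left R.ctx.two
    have hzy : ∀ i, B₂ (![e, w] i) z = 0 ∧ B₂ (![e, w] i) y = 0 := fun i => ⟨by
      have : Submodule.span F (Set.range ![e, w]) ≤ LinearMap.ker (QuadraticMap.polarBilin q₂ (![e, w] i)) :=
        Submodule.span_le.2 (by
          rintro _ ⟨j, rfl⟩
          show B₂ (![e, w] i) (![e, w] j) = 0
          fin_cases i <;> fin_cases j <;> simp [B_self_of_singular q₂ he, B_self_of_singular q₂ hw, hew,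
            B_comm q₂ w e])
      exact this hz, hy _ ⟨i, rfl⟩⟩
    obtain ⟨a, c, -, e1⟩ := orbit_of_pairs R (P := fun _ w => q₂ w ≠ 0)
      (fun g hg e w h1 h2 h3 h4 h5 => rig_short R.mover hg h1 h2 h3 h4 h5) hg (x := pt T u z)
      he he0 (hzy 0).2 hy'
      (by
        rw [proj_pt]
        exact smul_eq_zero.2 (Or.inl (hzy 0).1))
      (by
        rw [proj_pt]
        refine smul_eq_zero.2 (Or.inl ?_)
        have : Submodule.span F (Set.range ![e, w]) ≤ LinearMap.ker (QuadraticMap.polarBilin q₂ y) :=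
          Submodule.span_le.2 (by
            rintro _ ⟨j, rfl⟩
            show B₂ y (![e, w] j) = 0
            rw [B_comm q₂]; exact hy _ ⟨j, rfl⟩)
        exact this hz)
      hs0 hv₀ (hy₂ _ ⟨v₀, rfl⟩) hy₂'
      (by
        rw [hx]
        exact hkill x _ (by
          rintro _ ⟨v, rfl⟩
          exact hLiso v v₀))
      (by rw [hx]; exact hkill x _ hy₂)
    exact ⟨_, _, by rw [e1, act_gl_pt]⟩
  -- the layer over `e` goes to a layer
  have hemem : e ∈ Submodule.span F (Set.range ![e, w]) := Submodule.subset_span ⟨0, rfl⟩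
  have hker : ∀ u c a, act g (pt T u e) = pt T a c → a ≠ 0 → c ∈ LinearMap.range L := by
    intro u c a e1 ha
    rw [← Orth.perp_perp R.ctx.h₂ (LinearMap.range L)]
    intro s hs
    obtain ⟨x, hx⟩ := hin e hemem u
    have e2 := hkill x s hs
    rw [← hx, e1, proj_pt, smul_eq_zero] at e2
    exact e2.resolve_right ha
  rcases pure_dichotomy (act g ∘ₗ ptL T e) (fun u => hpure e hemem u) with ⟨c, hc⟩ | ⟨a, ha⟩
  · obtain ⟨u₀, hu₀⟩ : ∃ u : Fin n₁ → F, u ≠ 0 := ⟨Pi.single ⟨0, hn₁⟩ 1, by simp⟩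
    obtain ⟨a, ha⟩ := hc u₀
    change act g (pt T u₀ e) = pt T a c at ha
    have hne : pt T a c ≠ 0 := fun h' => by
      rw [← ha] at h'
      have := (pt_eq_zero T).1 (act_injective g (h'.trans (map_zero (act g)).symm))
      tauto
    rw [Ne, pt_eq_zero, not_or] at hne
    obtain ⟨v, hv⟩ := hker u₀ c a ha hne.1
    refine mem_of_layer R.ctx R.top R.five R.big hg he he0 ?_ hne.2 hc
    have e1 := hLiso v v
    rw [hv, B_self q₂] at e1
    exact (mul_eq_zero.1 e1).resolve_left R.ctx.two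
  · exfalso
    have ha0 : a ≠ 0 := fun h0 => by
      obtain ⟨c, hc⟩ := ha (Pi.single ⟨0, hn₁⟩ 1)
      rw [h0, pt_zero_left] at hc
      have := (pt_eq_zero T).1 (act_injective g (hc.trans (map_zero (act g)).symm))
      simp [he0] at this
    obtain ⟨χ, -, hχ⟩ := exists_dual (⊥ : Submodule F (Fin n₁ → F)) (v := a) (by simpa using ha0)
    let Φ : (Fin n₁ → F) →ₗ[F] LinearMap.range L :=
      LinearMap.codRestrict _ (cL T χ ∘ₗ act g ∘ₗ ptL T e) fun u => by
        obtain ⟨c, hc⟩ := ha u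
        show cL T χ (act g (pt T u e)) ∈ _
        change act g (pt T u e) = pt T a c at hc
        rw [hc, cL_pt, hχ, one_smul]
        exact hker u c a hc ha0
    have hΦ : Function.Injective Φ := LinearMap.ker_eq_bot.1 ((Submodule.eq_bot_iff _).2 fun u hu => by
      obtain ⟨c, hc⟩ := ha u
      change act g (pt T u e) = pt T a c at hc
      have h0 : cL T χ (act g (pt T u e)) = 0 := congrArg Subtype.val (LinearMap.mem_ker.1 hu)
      rw [hc, cL_pt, hχ, one_smul] at h0
      rw [h0, pt_zero_right] at hc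
      exact ((pt_eq_zero T).1 (act_injective g (hc.trans (map_zero (act g)).symm))).resolve_right he0)
    have := LinearMap.finrank_le_finrank_of_injective hΦ
    rw [Module.finrank_fin_fun] at this
    have := R.ctx.three₁
    omega

/-- covered vectors in one orbit lie in one tensor orbit -/
theorem orbit_of_covered {g : GL ι F} (hg : g ∈ M) {x : ι → F} (hx : Covered T q₂ x)
    (hgx : Covered T q₂ (act g x)) : ∃ a b, gl T a b ∈ isometryGroup F Q ∧ act g x = act (gl T a b) x := by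
  obtain ⟨e, w, he, he0, hew, hwe, hex, hwx⟩ := hx
  obtain ⟨e', w', he', he'0, hew', hwe', hex', hwx'⟩ := hgx
  refine orbit_of_pairs R (P := fun e w => w ∉ F ∙ e) (fun g hg e w h1 h2 h3 h4 h5 => ?_) hg he he0 hew hwe hex hwx
    he' he'0 hew' hwe' hex' hwx'
  rcases eq_or_ne (q₂ w) 0 with hw | hw
  · exact rig_long R hg h1 h2 h3 hw h4 h5
  · exact rig_short R.mover hg h1 h2 h3 hw h5

/-- a vector killed by a three-dimensional space is covered -/
theorem covered_of_le {S : Submodule F (Fin n₂ → F)} (h3 : 3 ≤ finrank F S) {y : ι → F}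
    (hS : ∀ s ∈ S, proj T q₂ s y = 0) : Covered T q₂ y := by
  obtain ⟨e, heS, he0, he⟩ := Orth.exists_singular q₂ h3
  obtain ⟨w, hw, hwe⟩ := SetLike.not_le_iff_exists.1 (show ¬ S ⊓ Orth.perp q₂ (F ∙ e) ≤ F ∙ e from fun hle => by
    have h1 := Submodule.finrank_mono hle
    have h2 := Submodule.finrank_sup_add_finrank_inf_eq S (Orth.perp q₂ (F ∙ e))
    have h4 : finrank F ↥(S ⊔ Orth.perp q₂ (F ∙ e)) ≤ n₂ :=
      (Submodule.finrank_le _).trans_eq (Module.finrank_fin_fun F)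
    rw [Orth.finrank_perp R.ctx.h₂, finrank_span_singleton he0, Fintype.card_fin] at h2
    rw [finrank_span_singleton he0] at h1
    omega)
  exact ⟨e, w, he, he0, hw.2 e (Submodule.mem_span_singleton_self e), hwe, hS e heS, hS w hw.1⟩

theorem covered_of_finrank {y : ι → F} (h : 3 ≤ finrank F (LinearMap.ker (projFlip T q₂ y))) :
    Covered T q₂ y :=
  covered_of_le R h fun _ hs => hs

/-- sums of at most two pure tensors are covered -/
theorem covered_two (u u' : Fin n₁ → F) (v v' : Fin n₂ → F) : Covered T q₂ (pt T u v + pt T u' v') := by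
  refine covered_of_le R (S := Orth.perp q₂ (Submodule.span F (Set.range ![v, v']))) ?_ fun s hs => ?_
  · have := finrank_span_list_le (F := F) ![v, v']
    have := R.five
    rw [Orth.finrank_perp R.ctx.h₂, Fintype.card_fin]; omega
  · rw [Orth.mem_perp_span] at hs
    rw [map_add, proj_pt, proj_pt, B_comm q₂ s, B_comm q₂ s, hs v ⟨0, rfl⟩, hs v' ⟨1, rfl⟩, zero_smul, zero_smul,
      add_zero]

theorem covered_pt (u : Fin n₁ → F) (v : Fin n₂ → F) : Covered T q₂ (pt T u v) := by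
  have := covered_two R u 0 v 0
  rwa [pt_zero_left, add_zero] at this

/-- a pure tensor with covered image has pure image -/
theorem pure_of_covered {g : GL ι F} (hg : g ∈ M) {u : Fin n₁ → F} {v : Fin n₂ → F}
    (h : Covered T q₂ (act g (pt T u v))) : ∃ a b, act g (pt T u v) = pt T a b := by
  obtain ⟨a, b, -, e⟩ := orbit_of_covered R hg (covered_pt R u v) h
  exact ⟨_, _, by rw [e, act_gl_pt]⟩

/-- with a gap of at least three between the dimensions the tensor stabiliser is all of `M` -/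
theorem mem_of_gap (h3 : n₁ + 3 ≤ n₂) {g : GL ι F} (hg : g ∈ M) :
    g ∈ Cfsg.Geo.tensorProductSubgroup n₁ n₂ T.e T.P :=
  mem_of_pure R.lt (R.pos₁) fun u v => pure_of_covered R hg (covered_of_finrank R (by
    have := finrank_projFlip_ker (T := T) (q₂ := q₂) (act g (pt T u v))
    omega))

end Cfsg.Agent.MaxCl.OTens
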