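/-
Minus reflections of a factor: which lie in the derived group, and where an element conjugating one into the
tensor group sends its fixed layer.
-/
import Cfsg.Agent.Lib.MaxCl.OrthTensorRoots
import Cfsg.Agent.Lib.MaxCl.OrthBlockVal

set_option autoImplicit false
set_option linter.unusedSectionVars false
set_option linter.unusedSimpArgs false
set_option linter.style.haveILetI false

namespace Cfsg.Agent.MaxCl.OTens

open scoped MatrixGroups Matrix
open Module (finrank)
open Orth Tens

variable {ι : Type} [Fintype ι] [DecidableEq ι] {F : Type*} [Field F] {n₁ n₂ : ℕ}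

section General

variable {κ : Type} [Fintype κ] [DecidableEq κ] {Q : QuadraticForm F (κ → F)}

set_option quotPrecheck false in
local notation "B" => QuadraticMap.polar (⇑Q)

theorem act_neg (g : GL κ F) (x : κ → F) : act (-g) x = -act g x := by
  simp [act_apply, Units.val_neg, Matrix.neg_mulVec]

theorem nonDeg_top (hQ : (QuadraticMap.polarBilin Q).Nondegenerate) :
    Orth.NonDeg Q (⊤ : Submodule F (κ → F)) := fun x _ h => hQ.1 x fun y => h y trivial

theorem finrank_inf_perp_lt (two : (2 : F) ≠ 0) {D : Submodule F (κ → F)} {v : κ → F} (hv : v ∈ D)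
    (hQv : Q v ≠ 0) : finrank F ↥(D ⊓ Orth.perp Q (F ∙ v)) < finrank F D := by
  refine Submodule.finrank_lt_finrank_of_lt (lt_of_le_not_ge inf_le_left fun h => ?_)
  have h' : B v v = 0 := (h hv).2 v (Submodule.mem_span_singleton_self v)
  rw [B_self Q] at h'
  exact mul_ne_zero two hQv h'

/-- an odd-dimensional orthogonal group contains the negative of some reflection in its derived group -/
theorem exists_neg_refl_mem [Finite F] (two : (2 : F) ≠ 0) (hQ : (QuadraticMap.polarBilin Q).Nondegenerate)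
    (h5 : 5 ≤ Fintype.card κ) (hodd : Odd (Fintype.card κ)) : ∃ w, Q w ≠ 0 ∧ -refl Q w ∈ sgGroup Q := by
  haveI := Fintype.ofFinite F
  have key : ∀ k, 2 * k + 1 ≤ Fintype.card κ → ∃ g ∈ sgGroup Q, ∃ D : Submodule F (κ → F),
      finrank F D + 2 * k = Fintype.card κ ∧ Orth.NonDeg Q D ∧ (∀ x ∈ D, act g x = x) ∧
        ∀ x ∈ Orth.perp Q D, act g x = -x := by
    intro k
    induction k with
    | zero =>
      exact fun _ => ⟨1, one_mem _, ⊤, by rw [finrank_top, Module.finrank_pi, mul_zero, add_zero], nonDeg_top hQ,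
        fun x _ => act_one x, fun x hx => by
          have : x = 0 := nonDeg_top hQ x trivial fun y hy => (B_comm Q x y).trans (hx y hy)
          rw [this, map_zero, neg_zero]⟩
    | succ k ih =>
      intro hk
      obtain ⟨g, hg, D, hdim, hD, hfix, hneg⟩ := ih (by omega)
      obtain ⟨v, hv, hv1⟩ := Orth.exists_value hQ hD (by omega) (1 : F)
      have hv0 : Q v ≠ 0 := by rw [hv1]; exact one_ne_zero
      have hD₁ := Orth.nonDeg_inf_perp_one hD two hv hv0
      have hdim₁ := finrank_inf_perp_lt two hv hv0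
      have hdim₁' := Orth.le_finrank_inf_perp_one hQ D v
      obtain ⟨v', hv', hv'1⟩ := Orth.exists_value hQ hD₁ (by omega) (1 : F)
      have hv'0 : Q v' ≠ 0 := by rw [hv'1]; exact one_ne_zero
      have hdim₂ := finrank_inf_perp_lt two hv' hv'0
      have hdim₂' := Orth.le_finrank_inf_perp_one hQ (D ⊓ Orth.perp Q (F ∙ v)) v'
      have hD₂ := Orth.nonDeg_inf_perp_one hD₁ two hv' hv'0
      have hvv' : B v v' = 0 := hv'.2 v (Submodule.mem_span_singleton_self v)
      have hv'v : B v' v = 0 := by rw [B_comm Q, hvv']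
      refine ⟨g * (refl Q v * refl Q v'), mul_mem hg (refl_mul_refl_mem hQ h5 (hv1.trans hv'1.symm)),
        (D ⊓ Orth.perp Q (F ∙ v)) ⊓ Orth.perp Q (F ∙ v'), by omega, hD₂, fun x hx => ?_, fun x hx => ?_⟩
      · rw [act_mul, act_mul, act_refl_fix Q hv'0 (hx.2 v' (Submodule.mem_span_singleton_self v')),
          act_refl_fix Q hv0 (hx.1.2 v (Submodule.mem_span_singleton_self v)), hfix x hx.1.1]
      · obtain ⟨d, hd, r, hr, rfl⟩ := Orth.exists_split hQ hD x
        have hrv : B v r = 0 := hr v hv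
        have hrv' : B v' r = 0 := hr v' hv'.1
        obtain ⟨d', hd'⟩ : ∃ d', d' = d - (B v d / (2 * Q v)) • v - (B v' d / (2 * Q v')) • v' := ⟨_, rfl⟩
        have h2 : (2 * Q v) ≠ 0 := mul_ne_zero two hv0
        have h2' : (2 * Q v') ≠ 0 := mul_ne_zero two hv'0
        have hd'mem : d' ∈ (D ⊓ Orth.perp Q (F ∙ v)) ⊓ Orth.perp Q (F ∙ v') := by
          refine ⟨⟨?_, (Orth.mem_perp_span Q).2 fun z hz => ?_⟩, (Orth.mem_perp_span Q).2 fun z hz => ?_⟩
          · rw [hd']; exact D.sub_mem (D.sub_mem hd (D.smul_mem _ hv)) (D.smul_mem _ hv'.1)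
          · rw [Set.mem_singleton_iff.1 hz, hd', B_sub_right Q, B_sub_right Q, B_smul_right Q, B_smul_right Q,
              hvv', B_self Q, div_mul_cancel₀ _ h2]
            ring
          · rw [Set.mem_singleton_iff.1 hz, hd', B_sub_right Q, B_sub_right Q, B_smul_right Q, B_smul_right Q,
              hv'v, B_self Q, div_mul_cancel₀ _ h2']
            ring
        have hd'0 : d' = 0 := hD₂ d' hd'mem fun y hy => by
          have e : B y (d + r) = 0 := hx y hy
          rw [B_add_right Q, show B y r = 0 from hr y hy.1.1, add_zero] at e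
          rw [B_comm Q, hd', B_sub_right Q, B_sub_right Q, B_smul_right Q, B_smul_right Q, e,
            B_comm Q y v, show B v y = 0 from hy.1.2 v (Submodule.mem_span_singleton_self v), B_comm Q y v',
            show B v' y = 0 from hy.2 v' (Submodule.mem_span_singleton_self v')]
          ring
        rw [hd', sub_sub, sub_eq_zero] at hd'0
        rw [act_mul, map_add, act_mul, act_mul, act_refl_fix Q hv'0 hrv', act_refl_fix Q hv0 hrv, map_add,
          hneg r hr]
        have e1 : act (refl Q v) (act (refl Q v') d) = -d := by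
          rw [hd'0, map_add, map_add, map_smul, map_smul, map_smul, map_smul, act_refl_fix Q hv'0 hv'v,
            act_refl_self Q hv'0, map_neg, act_refl_self Q hv0, act_refl_fix Q hv0 hvv', smul_neg, smul_neg,
            neg_add]
        rw [e1, map_neg, hfix d hd]
        abel
  obtain ⟨k, hk⟩ := hodd
  obtain ⟨g, hg, D, hdim, hD, hfix, hneg⟩ := key k (by omega)
  have hD1 : finrank F D = 1 := by omega
  obtain ⟨w, hw, hw0⟩ := Submodule.exists_mem_ne_zero_of_ne_bot (p := D) fun e => by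
    rw [e, finrank_bot] at hD1; exact zero_ne_one hD1
  have hDw : D = F ∙ w := (Submodule.eq_of_le_of_finrank_le ((Submodule.span_singleton_le_iff_mem _ _).2 hw)
    (by rw [hD1, finrank_span_singleton hw0])).symm
  have hQw : Q w ≠ 0 := fun h => hw0 (hD w hw fun y hy => by
    obtain ⟨c, rfl⟩ := Submodule.mem_span_singleton.1 (hDw ▸ hy)
    rw [B_smul_right Q, B_self Q, h]; ring)
  refine ⟨w, hQw, ?_⟩
  have : g = -refl Q w := gl_ext fun x => by
    obtain ⟨d, hd, r, hr, rfl⟩ := Orth.exists_split hQ hD x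
    obtain ⟨c, rfl⟩ := Submodule.mem_span_singleton.1 (hDw ▸ hd)
    rw [map_add, hfix _ hd, hneg r hr, act_neg, map_add, map_smul, act_refl_self Q hQw,
      act_refl_fix Q hQw (hr w hw)]
    module
  rwa [← this]

/-- the class of reflections whose negatives lie in the derived group is given by a value -/
theorem neg_refl_mem_of_value [Finite F] (hQ : (QuadraticMap.polarBilin Q).Nondegenerate)
    (h5 : 5 ≤ Fintype.card κ) {w₀ w : κ → F} (h₀ : Q w₀ ≠ 0) (h₀' : -refl Q w₀ ∈ sgGroup Q)
    (h : Q w = Q w₀) : -refl Q w ∈ sgGroup Q := by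
  obtain ⟨s, hs, rfl⟩ := exists_move_value hQ h5 h.symm h₀
  rw [← conj_refl Q (sgGroup_le_iso hs)]
  have := mul_mem (mul_mem hs h₀') (inv_mem hs)
  rwa [mul_neg, neg_mul] at this

end General

variable {T : TSys ι F n₁ n₂} {Q : QuadraticForm F (ι → F)} {q₁ : QuadraticForm F (Fin n₁ → F)}
variable {q₂ : QuadraticForm F (Fin n₂ → F)} {M : Subgroup (GL ι F)}

set_option quotPrecheck false in
local notation "B" => QuadraticMap.polar (⇑Q)
set_option quotPrecheck false in
local notation "B₁" => QuadraticMap.polar (⇑q₁)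
set_option quotPrecheck false in
local notation "B₂" => QuadraticMap.polar (⇑q₂)

theorem act_negRefl {w : Fin n₂ → F} (hw : q₂ w ≠ 0) (y : ι → F) :
    act (gl T 1 (-refl q₂ w)) y = pt T ((q₂ w)⁻¹ • proj T q₂ w y) w - y := by
  have : act (gl T 1 (-refl q₂ w)) = ptL T w ∘ₗ ((q₂ w)⁻¹ • proj T q₂ w) - LinearMap.id := pt_ext T fun u v => by
    show _ = pt T ((q₂ w)⁻¹ • proj T q₂ w (pt T u v)) w - pt T u v
    rw [act_gl_pt, act_one, act_neg, act_refl q₂ hw, proj_pt, smul_smul, neg_sub, pt_sub_right, pt_smul_comm,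
      inv_mul_eq_div]
  rw [this]; rfl

/-- the two contractions of a vector, applied to functionals, agree -/
theorem apply_cR_eq (φ : (Fin n₁ → F) →ₗ[F] F) (ψ : (Fin n₂ → F) →ₗ[F] F) (y : ι → F) :
    φ (cR T ψ y) = ψ (cL T φ y) := by
  have : φ ∘ₗ cR T ψ = ψ ∘ₗ cL T φ := pt_ext T fun u v => by
    simp only [LinearMap.comp_apply, cR_pt, cL_pt, map_smul, smul_eq_mul, mul_comm]
  exact LinearMap.congr_fun this y

/-- a tensor product that is an involution has involutive factors, one of them of odd dimension -/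
theorem exists_invol_factors (h1 : 0 < n₁) (h2 : 0 < n₂) (hodd : Odd n₁ ∨ Odd n₂) {a : GL (Fin n₁) F}
    {b : GL (Fin n₂) F} (h : gl T a b * gl T a b = 1) :
    ∃ a' b', gl T a' b' = gl T a b ∧ (∀ u, act a' (act a' u) = u) ∧ ∀ v, act b' (act b' v) = v := by
  rw [gl_mul] at h
  obtain ⟨c, hc0, hca, hcb⟩ := scalar_of_gl_eq_one T h1 h2 h
  have key : ∀ {m : ℕ} (x : GL (Fin m) F) (d : F), d ≠ 0 → Odd m → (∀ u, act (x * x) u = d • u) →
      ∃ μ, μ * μ = d := by
    intro m x d hd0 ⟨k, hk⟩ hx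
    have e : x * x = scalG (Units.mk0 d hd0) := gl_ext fun u => by rw [hx, act_scalG, Units.val_mk0]
    have e' := congrArg (fun z : GL (Fin m) F => (z : Matrix (Fin m) (Fin m) F).det) e
    simp only [Units.val_mul, Matrix.det_mul, scalG] at e'
    have hdet : (x : Matrix (Fin m) (Fin m) F).det * (x : Matrix (Fin m) (Fin m) F).det = d ^ (2 * k + 1) := by
      refine e'.trans ((?_ : _ = d ^ m).trans (congrArg (d ^ ·) hk))
      simp [Matrix.scalar_apply, Matrix.det_diagonal]
    refine ⟨(x : Matrix (Fin m) (Fin m) F).det / d ^ k, ?_⟩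
    rw [div_mul_div_comm, div_eq_iff (mul_ne_zero (pow_ne_zero _ hd0) (pow_ne_zero _ hd0))]
    linear_combination hdet
  obtain ⟨μ, hμ⟩ : ∃ μ, μ * μ = c := by
    rcases hodd with ho | ho
    · exact key a c hc0 ho hca
    · obtain ⟨ν, hν⟩ := key b c⁻¹ (inv_ne_zero hc0) ho hcb
      exact ⟨ν⁻¹, by rw [← mul_inv, hν, inv_inv]⟩
  have hμ0 : μ ≠ 0 := fun e => hc0 (by rw [← hμ, e, zero_mul])
  refine ⟨scalG (Units.mk0 μ hμ0)⁻¹ * a, scalG (Units.mk0 μ hμ0) * b, gl_ext_pt T fun u v => by
    rw [act_gl_pt, act_gl_pt, act_mul, act_mul, act_scalG, act_scalG, Units.val_inv_eq_inv_val, Units.val_mk0,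
      pt_smul_left, pt_smul_right, inv_smul_smul₀ hμ0], fun u => ?_, fun v => ?_⟩
  · rw [act_mul, act_mul, act_scalG, act_scalG, map_smul, ← act_mul a, hca, smul_smul, smul_smul,
      Units.val_inv_eq_inv_val, Units.val_mk0, ← hμ, show μ⁻¹ * μ⁻¹ * (μ * μ) = 1 by field_simp, one_smul]
  · rw [act_mul, act_mul, act_scalG, act_scalG, map_smul, ← act_mul b, hcb, smul_smul, smul_smul,
      Units.val_mk0, ← hμ, show μ * μ * (μ * μ)⁻¹ = 1 by field_simp, one_smul]

section Layer

variable {g : GL ι F} {w : Fin n₂ → F}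

/-- a fixed space isomorphic to the first factor excludes two factors with both signs -/
theorem not_both_signs (two : (2 : F) ≠ 0) (Φ : (ι → F) →ₗ[F] (Fin n₁ → F)) {a : GL (Fin n₁) F}
    {b : GL (Fin n₂) F} (hΦ : ∀ y, act (gl T a b) y = y → Φ y = 0 → y = 0)
    (ha : ∀ u, act a (act a u) = u) {k : Fin n₁ → F} (hk : act a k = k) (hk0 : k ≠ 0)
    {f f₂ f' : Fin n₂ → F} (hf : act b f = f) (hf0 : f ≠ 0) (hf₂ : act b f₂ = f₂) (hff₂ : f₂ ∉ F ∙ f)
    (hf' : act b f' = -f') (hf'0 : f' ≠ 0) : False := by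
  let L : (Fin n₁ → F) × F →ₗ[F] (ι → F) :=
    (ptL T f ∘ₗ (LinearMap.id + act a) + ptL T f' ∘ₗ (LinearMap.id - act a)).coprod
      (LinearMap.toSpanSingleton F _ (pt T k f₂))
  have hL : ∀ x, L x = pt T (x.1 + act a x.1) f + pt T (x.1 - act a x.1) f' + x.2 • pt T k f₂ := fun x => rfl
  have hfix : ∀ x, act (gl T a b) (L x) = L x := fun x => by
    rw [hL, map_add, map_add, map_smul, act_gl_pt, act_gl_pt, act_gl_pt, map_add, map_sub, ha, hk, hf, hf', hf₂,
      add_comm (act a x.1), pt_neg_right, ← pt_neg_left, neg_sub]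
  have hinj : Function.Injective (Φ ∘ₗ L) := (injective_iff_map_eq_zero _).2 fun x hx => by
    have h0 := hΦ _ (hfix x) hx
    rw [hL] at h0
    have hf'2 : f' ∉ Submodule.span F (Set.range ![f, f₂]) := fun hm => by
      obtain ⟨α, β, e⟩ := Orth.mem_span_pair_iff_range.1 hm
      have e2 : act b f' = f' := by rw [← e, map_add, map_smul, map_smul, hf, hf₂]
      rw [hf', neg_eq_iff_add_eq_zero, ← two_smul F, smul_eq_zero, or_iff_right two] at e2
      exact hf'0 e2
    obtain ⟨ψ, hψ0, hψ1⟩ := exists_dual _ hf'2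
    have e1 := congrArg (cR T ψ) h0
    rw [map_add, map_add, map_smul, cR_pt, cR_pt, cR_pt, hψ1, hψ0 f (Submodule.subset_span ⟨0, rfl⟩),
      hψ0 f₂ (Submodule.subset_span ⟨1, rfl⟩), zero_smul, zero_smul, smul_zero, one_smul, zero_add, add_zero,
      map_zero] at e1
    rw [e1, pt_zero_left, add_zero] at h0
    rw [sub_eq_zero] at e1
    rw [← e1, ← two_smul F x.1] at h0
    obtain ⟨χ, hχ0, hχ1⟩ := exists_dual _ hff₂
    have e2 := congrArg (cR T χ) h0
    rw [map_add, map_smul, cR_pt, cR_pt, hχ1, hχ0 f (Submodule.mem_span_singleton_self f), zero_smul, zero_add,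
      one_smul, map_zero, smul_eq_zero, or_iff_left hk0] at e2
    rw [e2, zero_smul, add_zero, pt_eq_zero, or_iff_left hf0, smul_eq_zero, or_iff_right two] at h0
    exact Prod.ext h0 e2
  have h := LinearMap.finrank_le_finrank_of_injective hinj
  rw [Module.finrank_prod, Module.finrank_fin_fun, Module.finrank_self] at h
  omega

/-- an element conjugating a minus reflection into the tensor group maps its layer to a layer -/
theorem layer_of_refl [Finite F] (C : OCtx T Q q₁ q₂ M) (hne : n₁ ≠ n₂) (hlt : n₁ < 2 * n₂)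
    (hodd : Odd n₁ ∨ Odd n₂) (hg : g ∈ M) (hw : q₂ w ≠ 0)
    (h : g * gl T 1 (-refl q₂ w) * g⁻¹ ∈ Cfsg.Geo.tensorProductSubgroup n₁ n₂ T.e T.P) :
    ∃ w', q₂ w' ≠ 0 ∧ ∀ u, ∃ a, act g (pt T u w) = pt T a w' := by
  have two := C.two
  have hn₁ : 0 < n₁ := lt_of_lt_of_le (by norm_num) C.three₁
  have hn₂ : 0 < n₂ := lt_of_lt_of_le (by norm_num) C.three₂
  have hw0 : w ≠ 0 := fun e => hw (by rw [e, map_zero])
  obtain ⟨a₀, b₀, hab⟩ := exists_of_mem T h
  have hj2 : gl T (1 : GL (Fin n₁) F) (-refl q₂ w) * gl T 1 (-refl q₂ w) = 1 := by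
    rw [gl_mul, one_mul, neg_mul_neg, refl_mul_self, gl_one]
  have hab2 : gl T a₀ b₀ * gl T a₀ b₀ = 1 := by
    rw [← hab, show g * gl T 1 (-refl q₂ w) * g⁻¹ * (g * gl T 1 (-refl q₂ w) * g⁻¹) =
        g * (gl T 1 (-refl q₂ w) * gl T 1 (-refl q₂ w)) * g⁻¹ by group, hj2, mul_one, mul_inv_cancel]
  obtain ⟨a, b, hgl, ha2, hb2⟩ := exists_invol_factors hn₁ hn₂ hodd hab2
  rw [← hgl] at hab
  -- the fixed space is the image of the layer
  have hfixed : ∀ y, act (gl T a b) y = y → act g⁻¹ y = pt T ((2 * q₂ w)⁻¹ • proj T q₂ w (act g⁻¹ y)) w := by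
    intro y hy
    rw [← hab, act_mul, act_mul] at hy
    have e := act_negRefl (T := T) hw (act g⁻¹ y)
    have e2 : act (gl T 1 (-refl q₂ w)) (act g⁻¹ y) = act g⁻¹ y := by
      conv_rhs => rw [← hy]
      rw [act_inv_act]
    rw [e2] at e
    rw [pt_smul_left, mul_inv, mul_smul, ← pt_smul_left]
    rw [eq_sub_iff_add_eq, ← two_smul F] at e
    rw [← e, inv_smul_smul₀ two]
  set Φ := proj T q₂ w ∘ₗ act g⁻¹ with hΦdef
  have hΦ : ∀ y, act (gl T a b) y = y → Φ y = 0 → y = 0 := by
    intro y hy h0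
    have e := hfixed y hy
    rw [show proj T q₂ w (act g⁻¹ y) = 0 from h0, smul_zero, pt_zero_left] at e
    exact act_injective g⁻¹ (e.trans (map_zero _).symm)
  have himg : ∀ u, act (gl T a b) (act g (pt T u w)) = act g (pt T u w) := fun u => by
    rw [← hab, act_mul, act_mul, act_inv_act, act_gl_pt, act_one, act_neg, act_refl_self q₂ hw, neg_neg]
  obtain ⟨u₀, hu₀⟩ : ∃ u : Fin n₁ → F, u ≠ 0 := ⟨Pi.single ⟨0, hn₁⟩ 1, by simp⟩
  set y₀ := act g (pt T u₀ w) with hy₀
  have hy₀0 : y₀ ≠ 0 := fun e => by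
    have h1 : pt T u₀ w = 0 := act_injective g (by rw [← hy₀, e, map_zero])
    rw [pt_eq_zero] at h1; tauto
  -- a scalar first factor gives the layer
  have hscal : ∀ β, gl T a b = gl T 1 β → ∃ w', q₂ w' ≠ 0 ∧ ∀ u, ∃ a, act g (pt T u w) = pt T a w' := by
    intro β hβ
    obtain ⟨χ, hχ⟩ : ∃ χ, cL T χ y₀ ≠ 0 := by
      by_contra hall
      push Not at hall
      refine hy₀0 (eq_zero_of_cR T fun ψ => funext fun i => ?_)
      show LinearMap.proj (R := F) i (cR T ψ y₀) = 0
      rw [apply_cR_eq, hall, map_zero]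
    set w' := cL T χ y₀ with hw'
    have hw'fix : act β w' = w' := by
      have e : cL T χ ∘ₗ act (gl T 1 β) = act β ∘ₗ cL T χ := pt_ext T fun u v => by
        simp only [LinearMap.comp_apply, act_gl_pt, act_one, cL_pt, map_smul]
      have := LinearMap.congr_fun e y₀
      rw [LinearMap.comp_apply, LinearMap.comp_apply, ← hβ, himg] at this
      exact this.symm
    let A : (Fin n₁ → F) →ₗ[F] (Fin n₁ → F) := (2 * q₂ w)⁻¹ • (Φ ∘ₗ ptL T w')
    have hA : ∀ u, act g⁻¹ (pt T u w') = pt T (A u) w := fun u =>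
      hfixed _ (by rw [hβ, act_gl_pt, act_one, hw'fix])
    have hAinj : Function.Injective A := fun u u' hu => by
      have h1 : pt T (u - u') w' = 0 := act_injective g⁻¹ (by
        rw [pt_sub_left, map_sub, hA, hA, hu, sub_self, map_zero])
      exact sub_eq_zero.1 (((pt_eq_zero T).1 h1).resolve_right hχ)
    have hline : ∀ u, ∃ a, act g (pt T u w) = pt T a w' := fun u => by
      obtain ⟨a, rfl⟩ := LinearMap.surjective_of_injective hAinj u
      exact ⟨a, by rw [← hA, act_act_inv]⟩
    refine ⟨w', fun e => ?_, hline⟩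
    obtain ⟨u', hu'⟩ := exists_B_ne_zero C.h₁ hu₀
    obtain ⟨a₁, ha₁⟩ := hline u₀
    obtain ⟨a₂, ha₂⟩ := hline u'
    have e1 := B_act (M_le_iso C hg) (pt T u₀ w) (pt T u' w)
    rw [ha₁, ha₂, C.form, C.form, B_self_of_singular q₂ e, mul_zero, eq_comm, mul_eq_zero] at e1
    exact e1.elim hu' (B_self_ne_zero q₂ two hw)
  by_cases ha1 : ∀ u, act a u = u
  · exact hscal b (gl_ext_pt T fun u v => by rw [act_gl_pt, act_gl_pt, ha1, act_one])
  by_cases ha1' : ∀ u, act a u = -u
  · exact hscal (-b) (gl_ext_pt T fun u v => by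
      rw [act_gl_pt, act_gl_pt, ha1', act_one, act_neg, pt_neg_left, pt_neg_right])
  exfalso
  push Not at ha1 ha1'
  obtain ⟨u₁, hu₁⟩ := ha1
  obtain ⟨u₂, hu₂⟩ := ha1'
  obtain ⟨k, hk, hk0⟩ : ∃ k, act a k = k ∧ k ≠ 0 :=
    ⟨u₂ + act a u₂, by rw [map_add, ha2, add_comm], fun e => hu₂ (eq_neg_of_add_eq_zero_right e)⟩
  obtain ⟨k', hk', hk'0⟩ : ∃ k, act a k = -k ∧ k ≠ 0 :=
    ⟨u₁ - act a u₁, by rw [map_sub, ha2, neg_sub], sub_ne_zero.2 (Ne.symm hu₁)⟩
  -- a scalar second factor has too large or too small a fixed space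
  have hscal₂ : ∀ α, gl T a b = gl T α 1 → False := by
    intro α hα
    have hKstab : ∀ y, act (gl T a b) y = y → ∀ ψ, act α (cR T ψ y) = cR T ψ y := fun y hy ψ => by
      have e : cR T ψ ∘ₗ act (gl T α 1) = act α ∘ₗ cR T ψ := pt_ext T fun u v => by
        simp only [LinearMap.comp_apply, act_gl_pt, act_one, cR_pt, map_smul]
      have := LinearMap.congr_fun e y
      rw [LinearMap.comp_apply, LinearMap.comp_apply, ← hα, hy] at this
      exact this.symm
    have hptfix : ∀ u, act α u = u → ∀ v, act (gl T a b) (pt T u v) = pt T u v := fun u hu v => by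
      rw [hα, act_gl_pt, act_one, hu]
    obtain ⟨ψ₀, hψ₀⟩ : ∃ ψ, cR T ψ y₀ ≠ 0 := by
      by_contra hall
      push Not at hall
      exact hy₀0 (eq_zero_of_cR T hall)
    set k₁ := cR T ψ₀ y₀ with hk₁def
    have hk₁ : act α k₁ = k₁ := hKstab _ (himg u₀) ψ₀
    have hone : ∀ u, act α u = u → u ∈ F ∙ k₁ := by
      intro k₂ hk₂
      by_contra hne'
      obtain ⟨φ, hφ0, hφ1⟩ := exists_dual _ hne'
      have hinj : Function.Injective (Φ ∘ₗ (ptR T k₁).coprod (ptR T k₂)) :=
        (injective_iff_map_eq_zero _).2 fun x hx => by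
          have h0 := hΦ _ (by
            show act (gl T a b) (pt T k₁ x.1 + pt T k₂ x.2) = pt T k₁ x.1 + pt T k₂ x.2
            rw [map_add, hptfix _ hk₁, hptfix _ hk₂]) hx
          change pt T k₁ x.1 + pt T k₂ x.2 = 0 at h0
          have e1 := congrArg (cL T φ) h0
          rw [map_add, cL_pt, cL_pt, hφ1, hφ0 k₁ (Submodule.mem_span_singleton_self k₁), zero_smul, zero_add,
            one_smul, map_zero] at e1
          rw [e1, pt_zero_right, add_zero, pt_eq_zero, or_iff_right hψ₀] at h0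
          exact Prod.ext h0 e1
      have h := LinearMap.finrank_le_finrank_of_injective hinj
      rw [Module.finrank_prod, Module.finrank_fin_fun, Module.finrank_fin_fun] at h
      omega
    have hle₁ : n₂ ≤ n₁ := by
      have hinj : Function.Injective (Φ ∘ₗ ptR T k₁) := (injective_iff_map_eq_zero _).2 fun v hv =>
        ((pt_eq_zero T).1 (hΦ _ (hptfix _ hk₁ v) hv)).resolve_left hψ₀
      have h := LinearMap.finrank_le_finrank_of_injective hinj
      rwa [Module.finrank_fin_fun, Module.finrank_fin_fun] at h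
    obtain ⟨φ, -, hφ⟩ := exists_dual (⊥ : Submodule F (Fin n₁ → F)) (v := k₁) (by simpa using hψ₀)
    have hle₂ : n₁ ≤ n₂ := by
      have hinj : Function.Injective (cL T φ ∘ₗ act g ∘ₗ ptL T w) := (injective_iff_map_eq_zero _).2 fun u hu => by
        have h0 : act g (pt T u w) = 0 := eq_zero_of_cR T fun ψ => by
          obtain ⟨s, hs⟩ := Submodule.mem_span_singleton.1 (hone _ (hKstab _ (himg u) ψ))
          have e := apply_cR_eq (T := T) φ ψ (act g (pt T u w))
          rw [show cL T φ (act g (pt T u w)) = 0 from hu, map_zero, ← hs, map_smul, hφ, smul_eq_mul, mul_one] at e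
          rw [← hs, e, zero_smul]
        exact ((pt_eq_zero T).1 (act_injective g (h0.trans (map_zero (act g)).symm))).resolve_right hw0
      have h := LinearMap.finrank_le_finrank_of_injective hinj
      rwa [Module.finrank_fin_fun, Module.finrank_fin_fun] at h
    omega
  by_cases hb1 : ∀ v, act b v = v
  · exact hscal₂ a (gl_ext_pt T fun u v => by rw [act_gl_pt, act_gl_pt, hb1, act_one])
  by_cases hb1' : ∀ v, act b v = -v
  · exact hscal₂ (-a) (gl_ext_pt T fun u v => by
      rw [act_gl_pt, act_gl_pt, hb1', act_one, act_neg, pt_neg_left, pt_neg_right])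
  push Not at hb1 hb1'
  obtain ⟨v₁, hv₁⟩ := hb1
  obtain ⟨v₂, hv₂⟩ := hb1'
  obtain ⟨f, hf, hf0⟩ : ∃ f, act b f = f ∧ f ≠ 0 :=
    ⟨v₂ + act b v₂, by rw [map_add, hb2, add_comm], fun e => hv₂ (eq_neg_of_add_eq_zero_right e)⟩
  obtain ⟨f', hf', hf'0⟩ : ∃ f, act b f = -f ∧ f ≠ 0 :=
    ⟨v₁ - act b v₁, by rw [map_sub, hb2, neg_sub], sub_ne_zero.2 (Ne.symm hv₁)⟩
  obtain ⟨v, hv⟩ : ∃ v, v ∉ Submodule.span F (Set.range ![f, f']) := by
    by_contra hall
    push Not at hall
    have h1 := Submodule.finrank_mono (show ⊤ ≤ Submodule.span F (Set.range ![f, f']) from fun x _ => hall x)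
    have h2 := finrank_span_list_le (F := F) ![f, f']
    rw [finrank_top, Module.finrank_fin_fun] at h1
    have := C.three₂
    omega
  by_cases hvf : v + act b v ∈ F ∙ f
  · -- the negative eigenspace has dimension at least two
    have hvf' : v - act b v ∉ F ∙ f' := fun hm => hv (by
      have hle : ∀ z ∈ ({f, f'} : Set (Fin n₂ → F)), F ∙ z ≤ Submodule.span F (Set.range ![f, f']) := by
        rintro z (rfl | rfl) <;> refine (Submodule.span_singleton_le_iff_mem _ _).2 (Submodule.subset_span ?_)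
        · exact ⟨0, rfl⟩
        · exact ⟨1, rfl⟩
      have h2 := Submodule.add_mem _ (hle f (Or.inl rfl) hvf) (hle f' (Or.inr rfl) hm)
      have h3 := Submodule.smul_mem _ (2 : F)⁻¹ h2
      rwa [show v + act b v + (v - act b v) = (2 : F) • v by module, inv_smul_smul₀ two] at h3)
    refine not_both_signs (T := T) (a := -a) (b := -b) two Φ (fun y hy => hΦ y (by
      rwa [show gl T (-a) (-b) = gl T a b from gl_ext_pt T fun u v => by
        rw [act_gl_pt, act_gl_pt, act_neg, act_neg, pt_neg_left, pt_neg_right, neg_neg]] at hy))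
      (fun u => by rw [act_neg, act_neg, map_neg, neg_neg, ha2]) (k := k') (by rw [act_neg, hk', neg_neg]) hk'0
      (f := f') (f₂ := v - act b v) (f' := f) (by rw [act_neg, hf', neg_neg]) hf'0
      (by rw [act_neg, map_sub, hb2, neg_sub]) hvf' (by rw [act_neg, hf]) hf0
  · exact not_both_signs (T := T) (a := a) (b := b) two Φ hΦ ha2 hk hk0 (f := f) (f₂ := v + act b v) (f' := f')
      hf hf0 (by rw [map_add, hb2, add_comm]) hvf hf' hf'0

end Layer

/-- the class of a reflection in the abelianised isometry group -/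
noncomputable def reflClass (Q : QuadraticForm F (ι → F)) (x : ι → F) : Abelianization (isometryGroup F Q) :=
  Abelianization.of (⟨refl Q x, refl_mem_iso Q x⟩ : isometryGroup F Q)

theorem refl_smul {κ : Type} [Fintype κ] [DecidableEq κ] {q : QuadraticForm F (κ → F)} {t : F} (ht : t ≠ 0)
    (x : κ → F) : refl q (t • x) = refl q x := by
  by_cases hx : q x = 0
  · rw [refl_of_singular q hx, refl_of_singular q (by rw [Q_smul q, hx, mul_zero])]
  refine gl_ext fun z => ?_
  rw [act_refl q (by rw [Q_smul q]; exact mul_ne_zero (mul_ne_zero ht ht) hx), act_refl q hx, Q_smul q,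
    B_smul_left q, smul_smul]
  congr 2
  field_simp

theorem isSquare_mul_of_not [Fintype F] (two : (2 : F) ≠ 0) {a b : F} (ha : ¬ IsSquare a) (hb : ¬ IsSquare b) :
    IsSquare (a * b) := by
  classical
  have hc : ringChar F ≠ 2 := fun h => two (by
    have := ringChar.of_eq h
    exact CharTwo.two_eq_zero)
  have ha0 : a ≠ 0 := fun h => ha (h ▸ IsSquare.zero)
  have hb0 : b ≠ 0 := fun h => hb (h ▸ IsSquare.zero)
  refine (quadraticChar_one_iff_isSquare (mul_ne_zero ha0 hb0)).1 ?_
  rw [map_mul, quadraticChar_neg_one_iff_not_isSquare.2 ha, quadraticChar_neg_one_iff_not_isSquare.2 hb]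
  norm_num

/-- products of two reflections of the second factor lie in the derived group when the first has even dimension -/
theorem gl_refl_mul_refl_mem [Finite F] (C : OCtx T Q q₁ q₂ M) (heven : Even n₁) {v v' : Fin n₂ → F}
    (hv : q₂ v ≠ 0) (hv' : q₂ v' ≠ 0) : gl T 1 (refl q₂ v * refl q₂ v') ∈ Cfsg.Geo.omegaGL Q := by
  classical
  haveI := Fintype.ofFinite F
  have two := C.two
  have h5 := five_le C
  let ρ := reflClass Q
  have hval : ∀ {x y : ι → F}, Q x = Q y → ρ x = ρ y := by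
    intro x y h
    have hm := refl_mul_refl_mem C.hQ h5 h
    rw [← omega_eq_sgGroup C.hQ h5] at hm
    obtain ⟨z, hz, hz'⟩ := hm
    have hzeq : z = (⟨refl Q x, refl_mem_iso Q x⟩ : isometryGroup F Q) * ⟨refl Q y, refl_mem_iso Q y⟩ :=
      Subtype.ext hz'
    have h1 : Abelianization.of z = 1 := (QuotientGroup.eq_one_iff z).2 hz
    rw [hzeq, map_mul] at h1
    have h2 : ρ y * ρ y = 1 := by
      show Abelianization.of _ * Abelianization.of _ = 1
      rw [← map_mul, show (⟨refl Q y, refl_mem_iso Q y⟩ : isometryGroup F Q) * ⟨refl Q y, refl_mem_iso Q y⟩ = 1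
        from Subtype.ext (refl_mul_self Q y), map_one]
    exact mul_right_cancel (h1.trans h2.symm)
  have hsq : ∀ {x y : ι → F} (r : F), r ≠ 0 → IsSquare r → Q y = r * Q x → ρ y = ρ x := by
    intro x y r hr ⟨t, ht⟩ h
    have ht0 : t ≠ 0 := fun e => hr (by rw [ht, e, zero_mul])
    refine (hval (y := t • x) (by rw [h, Q_smul Q, ht])).trans ?_
    show Abelianization.of _ = Abelianization.of _
    congr 1
    exact Subtype.ext (refl_smul ht0 x)
  obtain ⟨ν, hν⟩ : ∃ ν, ν = q₂ v' / q₂ v := ⟨_, rfl⟩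
  have hν0 : ν ≠ 0 := hν ▸ div_ne_zero hv' hv
  have hνv : q₂ v' = ν * q₂ v := by rw [hν, div_mul_cancel₀ _ hv]
  have hδ : ∀ {u u' : Fin n₁ → F}, q₁ u ≠ 0 → q₁ u' ≠ 0 →
      ρ (pt T u v) * ρ (pt T u v') = ρ (pt T u' v) * ρ (pt T u' v') := by
    intro u u' hu hu'
    set r := q₁ u' / q₁ u with hr
    have hr0 : r ≠ 0 := div_ne_zero hu' hu
    have hru : q₁ u' = r * q₁ u := by rw [hr, div_mul_cancel₀ _ hu]
    by_cases hrs : IsSquare r
    · rw [hsq r hr0 hrs (y := pt T u' v) (x := pt T u v) (by rw [Q_pt C, Q_pt C, hru]; ring),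
        hsq r hr0 hrs (y := pt T u' v') (x := pt T u v') (by rw [Q_pt C, Q_pt C, hru]; ring)]
    by_cases hνs : IsSquare ν
    · rw [hsq ν hν0 hνs (y := pt T u v') (x := pt T u v) (by rw [Q_pt C, Q_pt C, hνv]; ring),
        hsq ν hν0 hνs (y := pt T u' v') (x := pt T u' v) (by rw [Q_pt C, Q_pt C, hνv]; ring)]
      have h2 : ∀ x : ι → F, ρ x * ρ x = 1 := fun x => by
        show Abelianization.of _ * Abelianization.of _ = 1
        rw [← map_mul, show (⟨refl Q x, refl_mem_iso Q x⟩ : isometryGroup F Q) * ⟨refl Q x, refl_mem_iso Q x⟩ = 1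
          from Subtype.ext (refl_mul_self Q x), map_one]
      rw [h2, h2]
    · rw [hsq (r * ν) (mul_ne_zero hr0 hν0) (isSquare_mul_of_not two hrs hνs) (y := pt T u' v') (x := pt T u v)
          (by rw [Q_pt C, Q_pt C, hru, hνv]; ring),
        ← hsq (ν / r) (div_ne_zero hν0 hr0) (by
          have h1 := isSquare_mul_of_not two hrs hνs
          obtain ⟨t, ht⟩ := h1
          exact ⟨t / r, by field_simp; linear_combination ht⟩) (y := pt T u v') (x := pt T u' v)
          (by rw [Q_pt C, Q_pt C, hru, hνv]; field_simp), mul_comm]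
  -- an orthogonal basis of the first factor
  let L : LinearMap.BilinForm F (Fin n₁ → F) := QuadraticMap.polarBilin q₁
  haveI : Invertible (2 : F) := invertibleOfNonzero two
  have hLs : LinearMap.IsSymm L := ⟨fun x y => B_comm q₁ x y⟩
  obtain ⟨bs, hbs⟩ := LinearMap.BilinForm.exists_orthogonal_basis hLs
  have horth : ∀ {i j}, i ≠ j → B₁ (bs i) (bs j) = 0 := fun h => hbs h
  have hne : ∀ i, q₁ (bs i) ≠ 0 := fun i hi => bs.ne_zero i (C.h₁.1 _ fun y => by
    have : QuadraticMap.polarBilin q₁ (bs i) = 0 := bs.ext fun j => by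
      rcases eq_or_ne i j with rfl | hij
      · exact B_self_of_singular q₁ hi
      · exact horth hij
    exact LinearMap.congr_fun this y)
  have hd : finrank F (Fin n₁ → F) = n₁ := Module.finrank_fin_fun F
  obtain ⟨i₀⟩ : Nonempty (Fin (finrank F (Fin n₁ → F))) := ⟨⟨0, by rw [hd]; linarith [C.three₁]⟩⟩
  set δ := ρ (pt T (bs i₀) v) * ρ (pt T (bs i₀) v') with hδdef
  have key : ∀ S : Finset (Fin (finrank F (Fin n₁ → F))), ∃ x x' : isometryGroup F Q,
      Abelianization.of x * Abelianization.of x' = δ ^ S.card ∧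
      (∀ j p, act (x : GL ι F) (pt T (bs j) p) =
        if j ∈ S then pt T (bs j) (act (refl q₂ v) p) else pt T (bs j) p) ∧
      ∀ j p, act (x' : GL ι F) (pt T (bs j) p) =
        if j ∈ S then pt T (bs j) (act (refl q₂ v') p) else pt T (bs j) p := by
    intro S
    induction S using Finset.induction with
    | empty => exact ⟨1, 1, by simp, fun j p => by simp [act_one], fun j p => by simp [act_one]⟩
    | insert i S hi ih =>
      obtain ⟨x, x', hxx, hx, hx'⟩ := ih
      have hstep : ∀ (y : Fin n₂ → F), q₂ y ≠ 0 → ∀ (z : isometryGroup F Q),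
          (∀ j p, act (z : GL ι F) (pt T (bs j) p) =
            if j ∈ S then pt T (bs j) (act (refl q₂ y) p) else pt T (bs j) p) →
          ∀ j p, act ((⟨refl Q (pt T (bs i) y), refl_mem_iso Q _⟩ * z : isometryGroup F Q) : GL ι F) (pt T (bs j) p) =
            if j ∈ insert i S then pt T (bs j) (act (refl q₂ y) p) else pt T (bs j) p := by
        intro y hy z hz j p
        have hQy : Q (pt T (bs i) y) ≠ 0 := by
          rw [Q_pt C]; exact mul_ne_zero (mul_ne_zero two (hne i)) hy
        rw [Subgroup.coe_mul, act_mul, hz]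
        rcases eq_or_ne j i with rfl | hji
        · rw [if_neg hi, if_pos (Finset.mem_insert_self _ _), act_refl Q hQy, act_refl q₂ hy, C.form, Q_pt C,
            B_self q₁, pt_sub_right, pt_smul_right]
          congr 2
          have := hne j
          field_simp
        · have hor : B₁ (bs i) (bs j) = 0 := horth (Ne.symm hji)
          have hfix : ∀ p', act (refl Q (pt T (bs i) y)) (pt T (bs j) p') = pt T (bs j) p' := fun p' =>
            act_refl_fix Q hQy (by rw [C.form, hor, zero_mul])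
          by_cases hjS : j ∈ S
          · rw [if_pos hjS, if_pos (Finset.mem_insert_of_mem hjS), hfix]
          · rw [if_neg hjS, if_neg (by simp [hji, hjS]), hfix]
      refine ⟨_, _, ?_, hstep v hv x hx, hstep v' hv' x' hx'⟩
      rw [map_mul, map_mul, mul_mul_mul_comm, hxx, Finset.card_insert_of_notMem hi, pow_succ']
      congr 1
      exact hδ (hne i) (hne i₀)
  obtain ⟨x, x', hxx, hx, hx'⟩ := key Finset.univ
  have hgl : ∀ {y : Fin n₂ → F} {z : isometryGroup F Q},
      (∀ j p, act (z : GL ι F) (pt T (bs j) p) =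
        if j ∈ Finset.univ then pt T (bs j) (act (refl q₂ y) p) else pt T (bs j) p) →
      (z : GL ι F) = gl T 1 (refl q₂ y) := fun {y z} hz => gl_ext_pt T fun u p => by
    have : act (z : GL ι F) ∘ₗ ptL T p = act (gl T 1 (refl q₂ y)) ∘ₗ ptL T p := bs.ext fun j => by
      show act (z : GL ι F) (pt T (bs j) p) = act (gl T 1 (refl q₂ y)) (pt T (bs j) p)
      rw [hz, if_pos (Finset.mem_univ j), act_gl_pt, act_one]
    exact LinearMap.congr_fun this u
  refine ⟨x * x', ?_, ?_⟩
  · refine (QuotientGroup.eq_one_iff (x * x')).1 ?_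
    show Abelianization.of (x * x') = 1
    obtain ⟨k, hk⟩ := heven
    have h2 : δ * δ = 1 := by
      show Abelianization.of _ * Abelianization.of _ * (Abelianization.of _ * Abelianization.of _) = 1
      rw [mul_mul_mul_comm, ← map_mul, ← map_mul, show (⟨refl Q (pt T (bs i₀) v), refl_mem_iso Q _⟩ :
        isometryGroup F Q) * ⟨refl Q (pt T (bs i₀) v), refl_mem_iso Q _⟩ = 1 from Subtype.ext (refl_mul_self Q _),
        show (⟨refl Q (pt T (bs i₀) v'), refl_mem_iso Q _⟩ :
        isometryGroup F Q) * ⟨refl Q (pt T (bs i₀) v'), refl_mem_iso Q _⟩ = 1 from Subtype.ext (refl_mul_self Q _),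
        map_one, one_mul]
    rw [map_mul, hxx, Finset.card_univ, Fintype.card_fin, hd.trans hk, ← two_mul, pow_mul, pow_two, h2, one_pow]
  · show ((x * x' : isometryGroup F Q) : GL ι F) = gl T 1 (refl q₂ v * refl q₂ v')
    rw [Subgroup.coe_mul, hgl hx, hgl hx', gl_mul, one_mul]

/-- minus reflections of an odd factor lie in the derived group when the other factor has even dimension -/
theorem gl_neg_refl_mem [Finite F] (C : OCtx T Q q₁ q₂ M) (h5 : 5 ≤ n₂) (hodd : Odd n₂) (heven : Even n₁)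
    {w : Fin n₂ → F} (hw : q₂ w ≠ 0) : gl T 1 (-refl q₂ w) ∈ M := by
  obtain ⟨w₀, hw₀, hw₀m⟩ := exists_neg_refl_mem C.two C.h₂ (by rwa [Fintype.card_fin]) (by rwa [Fintype.card_fin])
  have h1 := gl_right_mem C hw₀m
  have h2 := C.ge _ _ (gl_refl_mul_refl_mem C heven hw₀ hw)
  have h3 := M.mul_mem h1 h2
  rwa [gl_mul, one_mul, neg_mul, ← mul_assoc, refl_mul_self, one_mul] at h3

end Cfsg.Agent.MaxCl.OTens
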