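/-
Two odd factors whose dimensions differ by at least two: minus reflections of the larger factor are rigid, and
together with the Siegel elements they show that the overgroup preserves pure tensors.
-/
import Cfsg.Agent.Lib.MaxCl.OrthTensorRefl

set_option autoImplicit false
set_option linter.unusedSectionVars false
set_option linter.unusedSimpArgs false
set_option linter.style.haveILetI false

namespace Cfsg.Agent.MaxCl.OTens

open scoped MatrixGroups Matrix
open Module (finrank)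
open Orth Tens

variable {ι : Type} [Fintype ι] [DecidableEq ι] {F : Type*} [Field F] {n₁ n₂ : ℕ}

variable {T : TSys ι F n₁ n₂}
variable {Q : QuadraticForm F (ι → F)} {q₁ : QuadraticForm F (Fin n₁ → F)}
variable {q₂ : QuadraticForm F (Fin n₂ → F)} {M : Subgroup (GL ι F)}

set_option quotPrecheck false in
local notation "B" => QuadraticMap.polar (⇑Q)
set_option quotPrecheck false in
local notation "B₁" => QuadraticMap.polar (⇑q₁)
set_option quotPrecheck false in
local notation "B₂" => QuadraticMap.polar (⇑q₂)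

variable [Finite F] (R : Rigid T Q q₁ q₂ M)
include R

omit R [Finite F] in
/-- a map between two anisotropic layers -/
theorem exists_layer_map (two : (2 : F) ≠ 0) {g : GL ι F} {w w' : Fin n₂ → F} (hw : q₂ w ≠ 0)
    (hw' : q₂ w' ≠ 0) (h : ∀ u, ∃ a, act g (pt T u w) = pt T a w') :
    ∃ A : (Fin n₁ → F) →ₗ[F] (Fin n₁ → F), Function.Surjective A ∧ ∀ u, act g (pt T u w) = pt T (A u) w' := by
  have hww' : B₂ w' w' ≠ 0 := B_self_ne_zero q₂ two hw'
  let A : (Fin n₁ → F) →ₗ[F] (Fin n₁ → F) := (B₂ w' w')⁻¹ • (proj T q₂ w' ∘ₗ act g ∘ₗ ptL T w)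
  have hA : ∀ u, act g (pt T u w) = pt T (A u) w' := fun u => by
    obtain ⟨a, ha⟩ := h u
    show _ = pt T ((B₂ w' w')⁻¹ • proj T q₂ w' (act g (pt T u w))) w'
    rw [ha, proj_pt, inv_smul_smul₀ hww']
  have hAinj : Function.Injective A := fun u u' hu => by
    have h1 : pt T (u - u') w = 0 := act_injective g (by rw [pt_sub_left, map_sub, hA, hA, hu, sub_self, map_zero])
    exact sub_eq_zero.1 (((pt_eq_zero T).1 h1).resolve_right fun e => hw (by rw [e, map_zero]))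
  exact ⟨A, LinearMap.surjective_of_injective hAinj, hA⟩

omit R [Finite F] in
/-- the orthogonal of a layer goes to the orthogonal of its image -/
theorem proj_layer_eq_zero (C : OCtx T Q q₁ q₂ M) {g : GL ι F} (hg : g ∈ M) {w w' : Fin n₂ → F}
    (hw : q₂ w ≠ 0) (hw' : q₂ w' ≠ 0) (h : ∀ u, ∃ a, act g (pt T u w) = pt T a w') (u : Fin n₁ → F)
    {v : Fin n₂ → F} (hv : B₂ w v = 0) : proj T q₂ w' (act g (pt T u v)) = 0 := by
  obtain ⟨A, hAsurj, hA⟩ := exists_layer_map C.two hw hw' h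
  by_contra hne
  obtain ⟨a, ha⟩ := exists_B_ne_zero C.h₁ hne
  apply ha
  obtain ⟨u'', rfl⟩ := hAsurj a
  rw [← form_right C, ← hA, B_act (M_le_iso C hg), C.form, B_comm q₂ v w, hv, mul_zero]

/-- next to an anisotropic layer, an image killed by two independent vectors is pure -/
theorem pure_of_line_ker {g : GL ι F} (hg : g ∈ M) {w w' : Fin n₂ → F} (hw : q₂ w ≠ 0) (hw' : q₂ w' ≠ 0)
    (h : ∀ u, ∃ a, act g (pt T u w) = pt T a w') (u : Fin n₁ → F) {v : Fin n₂ → F} (hv : B₂ w v = 0)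
    (hker : 2 ≤ finrank F (LinearMap.ker (projFlip T q₂ (act g (pt T u v))))) :
    ∃ a b, act g (pt T u v) = pt T a b := by
  haveI := Fintype.ofFinite F
  have two := R.ctx.two
  have hww' : B₂ w' w' ≠ 0 := B_self_ne_zero q₂ two hw'
  have hw'0 : w' ≠ 0 := fun e => hw' (by rw [e, map_zero])
  obtain ⟨A, hAsurj, hA⟩ := exists_layer_map two hw hw' h
  refine pure_of_covered R hg ?_
  by_contra hcov
  set y := act g (pt T u v) with hy
  set P := LinearMap.ker (projFlip T q₂ y) with hP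
  have hw'P : w' ∈ P := proj_layer_eq_zero R.ctx hg hw hw' h u hv
  have hP2 : finrank F P ≤ 2 := by
    by_contra hlt
    exact hcov (covered_of_finrank R (show 3 ≤ finrank F P by omega))
  have hP2' : 2 ≤ finrank F P := hker
  obtain ⟨s, hs, hsw⟩ := SetLike.not_le_iff_exists.1 (show ¬ P ≤ F ∙ w' from fun hle => by
    have := Submodule.finrank_mono hle
    rw [finrank_span_singleton hw'0] at this
    omega)
  obtain ⟨w'', hw''⟩ : ∃ w'', w'' = s - (B₂ w' s / B₂ w' w') • w' := ⟨_, rfl⟩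
  have hw''P : w'' ∈ P := by rw [hw'']; exact P.sub_mem hs (P.smul_mem _ hw'P)
  have hw''perp : B₂ w' w'' = 0 := by
    rw [hw'', B_sub_right q₂, B_smul_right q₂, div_mul_cancel₀ _ hww', sub_self]
  have hw''0 : w'' ≠ 0 := fun e => hsw (by
    rw [sub_eq_zero.1 (hw''.symm.trans e)]
    exact Submodule.smul_mem _ _ (Submodule.mem_span_singleton_self w'))
  have hw''q : q₂ w'' ≠ 0 := fun e => hcov ⟨w'', w', e, hw''0, by rw [B_comm q₂, hw''perp], fun hm => by
    obtain ⟨c, rfl⟩ := Submodule.mem_span_singleton.1 hm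
    exact hw' (by rw [Q_smul q₂, e, mul_zero]), hw''P, hw'P⟩
  have hD₁ := Orth.nonDeg_inf_perp_one (nonDeg_top R.ctx.h₂) two (Submodule.mem_top (x := w')) hw'
  have hw''D : w'' ∈ (⊤ : Submodule F (Fin n₂ → F)) ⊓ Orth.perp q₂ (F ∙ w') :=
    ⟨Submodule.mem_top, (Orth.mem_perp_span q₂).2 fun z hz => by rw [Set.mem_singleton_iff.1 hz, hw''perp]⟩
  have hdim₁ := Orth.le_finrank_inf_perp_one R.ctx.h₂ (⊤ : Submodule F (Fin n₂ → F)) w'
  have hdim₂ := Orth.le_finrank_inf_perp_one R.ctx.h₂ ((⊤ : Submodule F (Fin n₂ → F)) ⊓ Orth.perp q₂ (F ∙ w')) w''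
  rw [finrank_top, Module.finrank_fin_fun] at hdim₁
  have h5 := R.five
  obtain ⟨z₀, hz₀, hz₀q⟩ := Orth.exists_value R.ctx.h₂ (Orth.nonDeg_inf_perp_one hD₁ two hw''D hw''q)
    (by omega) (-q₂ w')
  have hz₀w' : B₂ w' z₀ = 0 := hz₀.1.2 w' (Submodule.mem_span_singleton_self w')
  have hz₀w'' : B₂ w'' z₀ = 0 := hz₀.2 w'' (Submodule.mem_span_singleton_self w'')
  obtain ⟨a', ha'⟩ : ∃ a', a' = -(B₂ w' w')⁻¹ • proj T q₂ z₀ y := ⟨_, rfl⟩
  obtain ⟨u', hu'⟩ := hAsurj a'
  have himg : act g (pt T u v + pt T u' w) = y + pt T a' w' := by rw [map_add, hA, hu']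
  have hcov' : Covered T q₂ (y + pt T a' w') := by
    refine ⟨w' + z₀, w'', ?_, ?_, ?_, ?_, ?_, ?_⟩
    · rw [Q_add q₂, hz₀q, hz₀w']; ring
    · intro e
      rw [eq_neg_of_add_eq_zero_right e, B_neg_right q₂, neg_eq_zero] at hz₀w'
      exact hww' hz₀w'
    · rw [B_add_left q₂, hw''perp, B_comm q₂ z₀, hz₀w'', add_zero]
    · intro hm
      obtain ⟨c, rfl⟩ := Submodule.mem_span_singleton.1 hm
      apply hw''q
      rw [Q_smul q₂, Q_add q₂, hz₀q, hz₀w']; ring
    · rw [proj_add, map_add, map_add, show proj T q₂ w' y = 0 from hw'P, proj_pt, proj_pt, B_comm q₂ z₀,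
        hz₀w', zero_smul, zero_add, add_zero, ha', smul_smul, mul_neg, mul_inv_cancel₀ hww', neg_smul, one_smul]
      abel
    · rw [map_add, show proj T q₂ w'' y = 0 from hw''P, proj_pt, B_comm q₂ w'', hw''perp, zero_smul, add_zero]
  obtain ⟨α, β, -, e⟩ := orbit_of_covered R hg (covered_two R u u' v w) (himg ▸ hcov')
  rw [himg, map_add, act_gl_pt, act_gl_pt] at e
  set P₀ := Orth.perp q₂ (Submodule.span F (Set.range ![act β v, act β w, w'])) with hP₀
  have hle : P₀ ≤ P := fun z hz => by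
    rw [hP₀, Orth.mem_perp_span] at hz
    have e1 := congrArg (proj T q₂ z) e
    rw [map_add, map_add, proj_pt, proj_pt, proj_pt, B_comm q₂ z, B_comm q₂ z, B_comm q₂ z,
      hz (act β v) ⟨0, rfl⟩, hz (act β w) ⟨1, rfl⟩, hz w' ⟨2, rfl⟩, zero_smul, zero_smul, zero_smul, add_zero,
      add_zero] at e1
    exact e1
  have hlt := Submodule.finrank_lt_finrank_of_lt (lt_of_le_not_ge hle fun h' => by
    have e1 : B₂ w' w' = 0 := (Orth.mem_perp_span q₂).1 (h' hw'P) w' ⟨2, rfl⟩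
    exact hww' e1)
  have hdim := finrank_span_list_le (F := F) ![act β v, act β w, w']
  rw [hP₀, Orth.finrank_perp R.ctx.h₂, Fintype.card_fin] at hlt
  omega

/-- an element mapping an anisotropic layer to a layer preserves pure tensors -/
theorem mem_of_line (hgap : n₁ + 2 ≤ n₂) {g : GL ι F} (hg : g ∈ M) {w w' : Fin n₂ → F} (hw : q₂ w ≠ 0)
    (hw' : q₂ w' ≠ 0) (h : ∀ u, ∃ a, act g (pt T u w) = pt T a w') :
    g ∈ Cfsg.Geo.tensorProductSubgroup n₁ n₂ T.e T.P := by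
  have two := R.ctx.two
  obtain ⟨A, hAsurj, hA⟩ := exists_layer_map two hw hw' h
  have hpure : ∀ u v, B₂ w v = 0 → ∃ a b, act g (pt T u v) = pt T a b := fun u v hv =>
    pure_of_line_ker R hg hw hw' h u hv (by
      have := finrank_projFlip_ker (T := T) (q₂ := q₂) (act g (pt T u v))
      omega)
  refine mem_of_pure R.lt R.pos₁ fun u v => ?_
  set t := B₂ w v / B₂ w w
  obtain ⟨c, d, e⟩ := hpure u (v - t • w) (by
    rw [B_sub_right q₂, B_smul_right q₂, div_mul_cancel₀ _ (B_self_ne_zero q₂ two hw), sub_self])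
  refine pure_of_covered R hg ?_
  have : act g (pt T u v) = pt T c d + pt T (t • A u) w' := by
    rw [pt_smul_left, ← hA, ← e, ← map_smul, ← map_add, ← pt_smul_right, ← pt_add_right, sub_add_cancel]
  rw [this]
  exact covered_two R c _ d w'

/-- minus reflections of the larger factor are rigid -/
theorem rig_refl (hgap : n₁ + 2 ≤ n₂) (h1 : Odd n₁) {g : GL ι F} (hg : g ∈ M) {w : Fin n₂ → F}
    (hw : q₂ w ≠ 0) (h : g * gl T 1 (-refl q₂ w) * g⁻¹ ∈ Cfsg.Geo.tensorProductSubgroup n₁ n₂ T.e T.P) :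
    g ∈ Cfsg.Geo.tensorProductSubgroup n₁ n₂ T.e T.P := by
  obtain ⟨w', hw', hl⟩ := layer_of_refl R.ctx (by omega) (by omega) (Or.inl h1) hg hw h
  exact mem_of_line R hgap hg hw hw' hl

omit R in
/-- the elements fixing a vector up to sign -/
def fixLine (x : ι → F) : Subgroup (GL ι F) where
  carrier := {k | act k x = x ∨ act k x = -x}
  one_mem' := Or.inl (act_one x)
  mul_mem' {a b} ha hb := by
    show act (a * b) x = x ∨ act (a * b) x = -x
    rw [act_mul]
    rcases hb with hb | hb <;> rcases ha with ha | ha <;> simp [hb, ha, map_neg]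
  inv_mem' {a} ha := by
    show act a⁻¹ x = x ∨ act a⁻¹ x = -x
    rcases ha with ha | ha
    · exact Or.inl (act_injective a (by rw [act_act_inv, ha]))
    · exact Or.inr (act_injective a (by rw [act_act_inv, map_neg, ha, neg_neg]))

omit R in
/-- two vectors negated by rigid minus reflections lie in one tensor orbit as soon as in one orbit -/
theorem orbit_of_refl (C : OCtx T Q q₁ q₂ M) (P : (Fin n₂ → F) → Prop)
    (hmem : ∀ w, q₂ w ≠ 0 → P w → gl T 1 (-refl q₂ w) ∈ M)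
    (hrig : ∀ g ∈ M, ∀ w, q₂ w ≠ 0 → P w →
      g * gl T 1 (-refl q₂ w) * g⁻¹ ∈ Cfsg.Geo.tensorProductSubgroup n₁ n₂ T.e T.P →
      g ∈ Cfsg.Geo.tensorProductSubgroup n₁ n₂ T.e T.P)
    {g : GL ι F} (hg : g ∈ M) {x : ι → F} {w w' : Fin n₂ → F} (hw : q₂ w ≠ 0) (hPw : P w)
    (hwx : proj T q₂ w x = 0) (hw' : q₂ w' ≠ 0) (hPw' : P w') (hwy : proj T q₂ w' (act g x) = 0) :
    ∃ a b, gl T a b ∈ isometryGroup F Q ∧ act g x = act (gl T a b) x := by
  haveI : Finite (GL ι F) := Finite.of_injective _ Units.val_injective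
  haveI : Fact (Nat.Prime 2) := ⟨Nat.prime_two⟩
  have hneg : ∀ {w : Fin n₂ → F} {x : ι → F}, q₂ w ≠ 0 → proj T q₂ w x = 0 →
      act (gl T 1 (-refl q₂ w)) x = -x := fun hw hx => by
    rw [act_negRefl hw, hx, smul_zero, pt_zero_left, zero_sub]
  obtain ⟨h, hh, hk⟩ := exists_mem_orbit_of_rigid (p := 2) (M := M)
    (H := M ⊓ Cfsg.Geo.tensorProductSubgroup n₁ n₂ T.e T.P) inf_le_left
    {r | ∃ w, q₂ w ≠ 0 ∧ P w ∧ r = gl T 1 (-refl q₂ w)}
    (fun _ ⟨w, hw, hP, e⟩ => e ▸ ⟨hmem w hw hP, gl_mem T _ _⟩)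
    (fun _ ⟨w, _, _, e⟩ => ⟨1, by rw [e, pow_one, pow_two, gl_mul, one_mul, neg_mul_neg, refl_mul_self, gl_one]⟩)
    (fun g hg _ ⟨w, hw, hP, e⟩ h' => ⟨hg, hrig g hg w hw hP (e ▸ h'.2)⟩)
    (fixLine x) hg (r := gl T 1 (-refl q₂ w)) (r' := gl T 1 (-refl q₂ w'))
    ⟨w, hw, hPw, rfl⟩ ⟨w', hw', hPw', rfl⟩
    (Or.inr (hneg hw hwx))
    (Or.inr (by rw [act_mul, act_mul, hneg hw' hwy, map_neg, act_inv_act]))
  obtain ⟨a, b, rfl⟩ := exists_of_mem T hh.2
  have hI := M_le_iso C hh.1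
  rcases hk with hk | hk
  · refine ⟨a, b, hI, ?_⟩
    conv_rhs => rw [← hk, ← act_mul, mul_inv_cancel_left]
  · refine ⟨-a, b, ?_, ?_⟩
    · rw [mem_iso]
      intro y
      have : act (gl T (-a) b) = -act (gl T a b) := pt_ext T fun u v => by
        rw [LinearMap.neg_apply, act_gl_pt, act_gl_pt, act_neg, pt_neg_left]
      rw [this, LinearMap.neg_apply, Q_neg Q, Q_act hI]
    · have : act (gl T (-a) b) x = -act (gl T a b) x := by
        have e : act (gl T (-a) b) = -act (gl T a b) := pt_ext T fun u v => by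
          rw [LinearMap.neg_apply, act_gl_pt, act_gl_pt, act_neg, pt_neg_left]
        rw [e, LinearMap.neg_apply]
      rw [this, ← map_neg, ← hk, ← act_mul, mul_inv_cancel_left]

/-- a pure tensor whose image is killed by a minus reflection of the derived group has pure image -/
theorem pure_of_refl (hgap : n₁ + 2 ≤ n₂) (h1 : Odd n₁) {g : GL ι F} (hg : g ∈ M) {u : Fin n₁ → F}
    {v w w' : Fin n₂ → F} (hw : q₂ w ≠ 0) (hwm : -refl q₂ w ∈ sgGroup q₂) (hwv : B₂ w v = 0)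
    (hw' : q₂ w' ≠ 0) (hw'm : -refl q₂ w' ∈ sgGroup q₂) (hwy : proj T q₂ w' (act g (pt T u v)) = 0) :
    ∃ a b, act g (pt T u v) = pt T a b := by
  obtain ⟨a, b, -, e⟩ := orbit_of_refl R.ctx (fun w => -refl q₂ w ∈ sgGroup q₂)
    (fun _ _ hm => gl_right_mem R.ctx hm) (fun g hg w hw _ h' => rig_refl R hgap h1 hg hw h') hg hw hwm
    (by rw [proj_pt, hwv, zero_smul]) hw' hw'm hwy
  exact ⟨_, _, e.trans (act_gl_pt T a b u v)⟩

/-- odd factors with a gap of at least two: the tensor stabiliser is all of `M` -/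
theorem mem_of_odd (hgap : n₁ + 2 ≤ n₂) (h1 : Odd n₁) (h2 : Odd n₂) {g : GL ι F} (hg : g ∈ M) :
    g ∈ Cfsg.Geo.tensorProductSubgroup n₁ n₂ T.e T.P := by
  haveI := Fintype.ofFinite F
  have two := R.ctx.two
  obtain ⟨w₀, hw₀, hw₀m⟩ := exists_neg_refl_mem two R.ctx.h₂ R.card₂ (by rwa [Fintype.card_fin])
  have hclass : ∀ {w}, q₂ w = q₂ w₀ → q₂ w ≠ 0 ∧ -refl q₂ w ∈ sgGroup q₂ := fun hw =>
    ⟨hw ▸ hw₀, neg_refl_mem_of_value R.ctx.h₂ R.card₂ hw₀ hw₀m hw⟩
  refine mem_of_pure R.lt R.pos₁ fun u v => ?_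
  by_cases hcov : Covered T q₂ (act g (pt T u v))
  · exact pure_of_covered R hg hcov
  set y := act g (pt T u v) with hy
  set P := LinearMap.ker (projFlip T q₂ y) with hP
  have hP2 : finrank F P ≤ 2 := by
    by_contra hlt
    exact hcov (covered_of_finrank R (show 3 ≤ finrank F P by omega))
  have hP2' : 2 ≤ finrank F P := by
    have : n₂ ≤ finrank F P + n₁ := finrank_projFlip_ker (T := T) (q₂ := q₂) y
    omega
  have hPnd : Orth.NonDeg q₂ P := by
    intro x hx hperp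
    by_contra hx0
    obtain ⟨w, hw, hwx⟩ := SetLike.not_le_iff_exists.1 (show ¬ P ≤ F ∙ x from fun hle => by
      have := Submodule.finrank_mono hle
      rw [finrank_span_singleton hx0] at this
      omega)
    have hxx := hperp x hx
    rw [B_self q₂] at hxx
    exact hcov ⟨x, w, (mul_eq_zero.1 hxx).resolve_left two, hx0, hperp w hw, hwx, hx, hw⟩
  obtain ⟨w', hw'P, hw'⟩ := Orth.exists_value R.ctx.h₂ hPnd hP2' (q₂ w₀)
  obtain ⟨w, hwv, hw⟩ : ∃ w, B₂ w v = 0 ∧ q₂ w = q₂ w₀ := by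
    rcases eq_or_ne v 0 with rfl | hv0
    · exact ⟨w₀, B_zero_right q₂ w₀, rfl⟩
    by_cases hqv : q₂ v = 0
    · obtain ⟨f, hf, hvf⟩ := exists_partner_top R.ctx.h₂ hqv hv0
      obtain ⟨w, hvw, -, hw⟩ := exists_value_perp two R.ctx.h₂ (le_trans (by norm_num) R.card₂) hqv hf hvf (q₂ w₀)
      exact ⟨w, by rw [B_comm q₂, hvw], hw⟩
    · have hd := Orth.le_finrank_inf_perp_one R.ctx.h₂ (⊤ : Submodule F (Fin n₂ → F)) v
      rw [finrank_top, Module.finrank_fin_fun] at hd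
      have := R.five
      obtain ⟨w, hwD, hw⟩ := Orth.exists_value R.ctx.h₂
        (Orth.nonDeg_inf_perp_one (nonDeg_top R.ctx.h₂) two Submodule.mem_top hqv) (by omega) (q₂ w₀)
      exact ⟨w, by rw [B_comm q₂]; exact hwD.2 v (Submodule.mem_span_singleton_self v), hw⟩
  exact pure_of_refl R hgap h1 hg (hclass hw).1 (hclass hw).2 hwv (hclass hw').1 (hclass hw').2 hw'P

end Cfsg.Agent.MaxCl.OTens
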