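/-
An element mapping an anisotropic layer `u ⊗ F` to a layer: if sums of two pure tensors with suitable images move
like tensor products, every `a ⊗ v`, `a` orthogonal to `u`, goes to a pure tensor with a fixed first factor.
-/
import Cfsg.Agent.Lib.MaxCl.OrthTensorRoots

set_option autoImplicit false
set_option linter.unusedSectionVars false
set_option linter.unusedSimpArgs false
set_option linter.style.haveILetI false

namespace Cfsg.Agent.MaxCl.OTens

open scoped MatrixGroups Matrix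
open Module (finrank)
open Orth Tens

variable {ι : Type} [Fintype ι] [DecidableEq ι] {F : Type*} [Field F] {n₁ n₂ : ℕ}
variable {T : TSys ι F n₁ n₂} {Q : QuadraticForm F (ι → F)} {q₁ : QuadraticForm F (Fin n₁ → F)}
variable {q₂ : QuadraticForm F (Fin n₂ → F)} {M : Subgroup (GL ι F)}

set_option quotPrecheck false in
local notation "B" => QuadraticMap.polar (⇑Q)
set_option quotPrecheck false in
local notation "B₁" => QuadraticMap.polar (⇑q₁)
set_option quotPrecheck false in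
local notation "B₂" => QuadraticMap.polar (⇑q₂)

theorem proj_swapSys (u : Fin n₁ → F) (x : ι → F) : proj (swapSys T) q₁ u x = projL T q₁ u x := by
  have : proj (swapSys T) q₁ u = projL T q₁ u := pt_ext T fun a b => by
    rw [← pt_swapSys, proj_pt, pt_swapSys, projL_pt]
  exact LinearMap.congr_fun this x

theorem projL_swapSys (w : Fin n₂ → F) (x : ι → F) : projL (swapSys T) q₂ w x = proj T q₂ w x := by
  have : projL (swapSys T) q₂ w = proj T q₂ w := pt_ext T fun a b => by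
    rw [← pt_swapSys, projL_pt, pt_swapSys, proj_pt]
  exact LinearMap.congr_fun this x

theorem form_left (C : OCtx T Q q₁ q₂ M) (x : ι → F) (u : Fin n₁ → F) (w : Fin n₂ → F) :
    B x (pt T u w) = B₂ (projL T q₁ u x) w := by
  rw [← pt_swapSys, form_right C.swap, proj_swapSys]

theorem B_proj (C : OCtx T Q q₁ q₂ M) (t : Fin n₁ → F) (s : Fin n₂ → F) (y : ι → F) :
    B₁ t (proj T q₂ s y) = B₂ s (projL T q₁ t y) :=
  (proj_projL C s (QuadraticMap.polarBilin q₁ t) y).symm

/-- two independent vectors of a span of two vectors span it -/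
theorem span_pair_eq {κ : Type} [Fintype κ] [DecidableEq κ] {x y h₁ h₂ : κ → F} (hy : y ≠ 0) (hx : x ∉ F ∙ y)
    (hx' : x ∈ Submodule.span F (Set.range ![h₁, h₂])) (hy' : y ∈ Submodule.span F (Set.range ![h₁, h₂])) :
    Submodule.span F (Set.range ![x, y]) = Submodule.span F (Set.range ![h₁, h₂]) := by
  have hli : LinearIndependent F ![x, y] :=
    linearIndependent_fin2.2 ⟨by simpa using hy, fun a => by
      simpa using fun e => hx (Submodule.mem_span_singleton.2 ⟨a, e⟩)⟩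
  refine Submodule.eq_of_le_of_finrank_le (Submodule.span_le.2 ?_) ?_
  · rintro _ ⟨i, rfl⟩
    fin_cases i
    · exact hx'
    · exact hy'
  · rw [finrank_span_eq_card hli, Fintype.card_fin]
    exact finrank_span_list_le ![h₁, h₂]

/-- a sum of three pure tensors equal to a sum of two: the third right factor lies in the span of the first two -/
theorem right_mem_span {c₁ c₂ c₃ e₁ e₂ : Fin n₁ → F} {f₁ f₂ f₃ h₁ h₂ : Fin n₂ → F}
    (hc₁ : c₁ ∉ Submodule.span F (Set.range ![c₂, c₃])) (hc₂ : c₂ ∉ Submodule.span F (Set.range ![c₁, c₃]))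
    (hc₃ : c₃ ∉ Submodule.span F (Set.range ![c₁, c₂])) (hf₁ : f₁ ∉ F ∙ f₂) (hf₂ : f₂ ≠ 0)
    (e : pt T c₁ f₁ + pt T c₂ f₂ + pt T c₃ f₃ = pt T e₁ h₁ + pt T e₂ h₂) :
    f₃ ∈ Submodule.span F (Set.range ![f₁, f₂]) := by
  set H := Submodule.span F (Set.range ![h₁, h₂]) with hH
  have key : ∀ φ : (Fin n₁ → F) →ₗ[F] F, φ c₁ • f₁ + φ c₂ • f₂ + φ c₃ • f₃ ∈ H := fun φ => by
    have h1 := congrArg (cL T φ) e
    simp only [map_add, cL_pt] at h1
    rw [h1]
    exact H.add_mem (H.smul_mem _ (Submodule.subset_span ⟨0, rfl⟩))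
      (H.smul_mem _ (Submodule.subset_span ⟨1, rfl⟩))
  obtain ⟨φ₁, h₁0, h₁1⟩ := exists_dual _ hc₁
  obtain ⟨φ₂, h₂0, h₂1⟩ := exists_dual _ hc₂
  obtain ⟨φ₃, h₃0, h₃1⟩ := exists_dual _ hc₃
  have k1 := key φ₁
  have k2 := key φ₂
  have k3 := key φ₃
  rw [h₁1, h₁0 c₂ (Submodule.subset_span ⟨0, rfl⟩), h₁0 c₃ (Submodule.subset_span ⟨1, rfl⟩), one_smul,
    zero_smul, zero_smul, add_zero, add_zero] at k1
  rw [h₂1, h₂0 c₁ (Submodule.subset_span ⟨0, rfl⟩), h₂0 c₃ (Submodule.subset_span ⟨1, rfl⟩), one_smul,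
    zero_smul, zero_smul, zero_add, add_zero] at k2
  rw [h₃1, h₃0 c₁ (Submodule.subset_span ⟨0, rfl⟩), h₃0 c₂ (Submodule.subset_span ⟨1, rfl⟩), one_smul,
    zero_smul, zero_smul, zero_add, zero_add] at k3
  rwa [span_pair_eq hf₂ hf₁ k1 k2]

/-- the pure tensors over the orthogonal of a layer keep a common first factor -/
theorem layer_engine (C : OCtx T Q q₁ q₂ M) {g : GL ι F} (hg : g ∈ M) (Cov : (ι → F) → Prop)
    (orb : ∀ u₁ u₂ v₁ v₂, Cov (act g (pt T u₁ v₁ + pt T u₂ v₂)) → ∃ α β, gl T α β ∈ isometryGroup F Q ∧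
      act g (pt T u₁ v₁ + pt T u₂ v₂) = act (gl T α β) (pt T u₁ v₁ + pt T u₂ v₂))
    (cov2 : ∀ u₁ u₂ v₁ v₂, Cov (pt T u₁ v₁ + pt T u₂ v₂))
    {u u' : Fin n₁ → F} (hu' : q₁ u' ≠ 0) {β : (Fin n₂ → F) →ₗ[F] (Fin n₂ → F)} (hβ : Function.Surjective β)
    (hlayer : ∀ v, act g (pt T u v) = pt T u' (β v)) (Tk : (Fin n₁ → F) → Prop)
    (hspan : ∀ c r, B₁ u' c = 0 → B₁ u' r = 0 → c ≠ 0 → r ≠ 0 → ∃ t, Tk t ∧ B₁ t c ≠ 0 ∧ B₁ t r ≠ 0)
    (covKill : ∀ t, Tk t → ∀ y, projL T q₁ u' y = 0 → projL T q₁ t y = 0 → Cov y)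
    {a a₂ : Fin n₁ → F} (ha : B₁ u a = 0) (ha₂ : B₁ u a₂ = 0) (ha0 : a ≠ 0) (hind : a₂ ∉ F ∙ a)
    (cov3 : ∀ α β', gl T α β' ∈ isometryGroup F Q → B₁ u' (act α a) = 0 → B₁ u' (act α a₂) = 0 →
      ∀ v₁ v₂ f, Cov (pt T (act α a) (act β' v₁) + pt T (act α a₂) (act β' v₂) + pt T u' f))
    (hdiff : ∀ v f₁ f₂ f₃, (∀ s, B₂ s f₁ = 0 → B₂ s f₂ = 0 → B₂ s f₃ = 0 → proj T q₂ s (act g (pt T a v)) = 0) →
      ∃ c d, act g (pt T a v) = pt T c d) :
    ∃ c, c ≠ 0 ∧ ∀ v, act g (pt T a v) = pt T c (β v) := by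
  have two := C.two
  have hgI := M_le_iso C hg
  have hβi : Function.Injective β := LinearMap.injective_iff_surjective.2 hβ
  have hu'u' : B₁ u' u' ≠ 0 := B_self_ne_zero q₁ two hu'
  -- images of the orthogonal of the layer
  have hperp : ∀ x, projL T q₁ u x = 0 → projL T q₁ u' (act g x) = 0 := by
    intro x hx
    by_contra hne
    obtain ⟨r, hr⟩ := exists_B_ne_zero C.h₂ hne
    apply hr
    obtain ⟨v, rfl⟩ := hβ r
    rw [← form_left C, ← hlayer, B_act hgI, form_left C, hx, B_zero_left q₂]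
  have horth : ∀ a₀ v, B₁ u a₀ = 0 → projL T q₁ u' (act g (pt T a₀ v)) = 0 := fun a₀ v h =>
    hperp _ (by rw [projL_pt, h, zero_smul])
  have hnotmem : ∀ c, B₁ u' c = 0 → u' ∉ F ∙ c := fun c hc hm => by
    obtain ⟨k, hk⟩ := Submodule.mem_span_singleton.1 hm
    have h := congrArg (B₁ u') hk
    rw [B_smul_right q₁, hc, mul_zero] at h
    exact hu'u' h.symm
  have hpure : ∀ a₀ v, Cov (act g (pt T a₀ v)) → ∃ c d, act g (pt T a₀ v) = pt T c d := by
    intro a₀ v h
    obtain ⟨α, β', -, e⟩ := orb a₀ 0 v 0 (by rwa [pt_zero_left, add_zero])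
    simp only [pt_zero_left, add_zero] at e
    exact ⟨_, _, e.trans (act_gl_pt T α β' a₀ v)⟩
  -- a pure image has second factor along `β`
  have htrick : ∀ a₀ v, B₁ u a₀ = 0 → (∃ c d, act g (pt T a₀ v) = pt T c d) →
      ∃ c, B₁ u' c = 0 ∧ act g (pt T a₀ v) = pt T c (β v) := by
    intro a₀ v ha₀ ⟨c, d, e⟩
    rcases eq_or_ne v 0 with rfl | hv
    · exact ⟨0, B_zero_right q₁ u', by rw [pt_zero_right, map_zero, pt_zero_left]⟩
    rcases eq_or_ne a₀ 0 with rfl | ha₀0
    · exact ⟨0, B_zero_right q₁ u', by rw [pt_zero_left, map_zero, pt_zero_left]⟩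
    have hne : pt T c d ≠ 0 := fun h => by
      have h1 := (pt_eq_zero T).1 (act_injective g ((e.trans h).trans (map_zero _).symm))
      tauto
    rw [Ne, pt_eq_zero, not_or] at hne
    have hc : B₁ u' c = 0 := by
      have h1 := horth a₀ v ha₀
      rw [e, projL_pt, smul_eq_zero] at h1
      exact h1.resolve_right hne.2
    have hsum : act g (pt T (a₀ + u) v) = pt T c d + pt T u' (β v) := by rw [pt_add_left, map_add, e, hlayer]
    obtain ⟨c', d', e'⟩ := hpure (a₀ + u) v (by rw [hsum]; exact cov2 _ _ _ _)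
    rw [hsum] at e'
    obtain ⟨k, hk⟩ := Submodule.mem_span_singleton.1 (share T e' hne.2 hne.1 (hnotmem c hc))
    have hk0 : k ≠ 0 := fun h => hv (hβi (by rw [← hk, h, zero_smul, map_zero]))
    refine ⟨k⁻¹ • c, by rw [B_smul_right q₁, hc, mul_zero], ?_⟩
    rw [e, ← hk, pt_smul_comm, inv_smul_smul₀ hk0]
  let K : Submodule F (Fin n₂ → F) :=
    { carrier := {v | ∃ c, B₁ u' c = 0 ∧ act g (pt T a v) = pt T c (β v)}
      zero_mem' := ⟨0, B_zero_right q₁ u', by rw [pt_zero_right, map_zero, pt_zero_left]⟩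
      add_mem' := by
        rintro v v' ⟨c, -, e⟩ ⟨c', -, e'⟩
        refine htrick a _ ha (hpure a _ ?_)
        rw [pt_add_right, map_add, e, e']
        exact cov2 _ _ _ _
      smul_mem' := by
        rintro k v ⟨c, hc, e⟩
        exact ⟨c, hc, by rw [pt_smul_right, map_smul, e, map_smul, pt_smul_right]⟩ }
  obtain ⟨c, hc0, hc, hK⟩ : ∃ c, c ≠ 0 ∧ B₁ u' c = 0 ∧ ∀ v ∈ K, act g (pt T a v) = pt T c (β v) := by
    by_cases hbot : K = ⊥
    · obtain ⟨c, hc, hc0⟩ := Submodule.exists_mem_ne_zero_of_ne_bot (p := Orth.perp q₁ (F ∙ u')) fun h => by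
        have h1 := Orth.finrank_perp C.h₁ (F ∙ u')
        rw [h, finrank_bot, finrank_span_singleton (fun e => hu' (by rw [e, map_zero])), Fintype.card_fin] at h1
        have := C.three₁
        omega
      refine ⟨c, hc0, hc u' (Submodule.mem_span_singleton_self u'), fun v hv => ?_⟩
      rw [hbot, Submodule.mem_bot] at hv
      rw [hv, pt_zero_right, map_zero, map_zero, pt_zero_right]
    obtain ⟨v₀, hv₀, hv₀0⟩ := Submodule.exists_mem_ne_zero_of_ne_bot hbot
    obtain ⟨c₀, hc₀, e₀⟩ := hv₀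
    have hc₀0 : c₀ ≠ 0 := fun h => by
      rw [h, pt_zero_left] at e₀
      have h1 := (pt_eq_zero T).1 (act_injective g (e₀.trans (map_zero _).symm))
      tauto
    refine ⟨c₀, hc₀0, hc₀, fun v hv => ?_⟩
    by_cases hvv : v ∈ F ∙ v₀
    · obtain ⟨k, rfl⟩ := Submodule.mem_span_singleton.1 hvv
      rw [pt_smul_right, map_smul, e₀, map_smul, pt_smul_right]
    obtain ⟨cv, hcv, ev⟩ := hv
    obtain ⟨cs, -, es⟩ := K.add_mem (show v₀ ∈ K from ⟨c₀, hc₀, e₀⟩) (show v ∈ K from ⟨cv, hcv, ev⟩)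
    rw [pt_add_right, map_add, e₀, ev, map_add, pt_add_right] at es
    have hβv : β v ∉ F ∙ β v₀ := fun hm => by
      obtain ⟨k, hk⟩ := Submodule.mem_span_singleton.1 hm
      exact hvv (Submodule.mem_span_singleton.2 ⟨k, hβi (by rw [map_smul, hk])⟩)
    have hβv₀ : β v₀ ∉ F ∙ β v := fun hm => by
      obtain ⟨k, hk⟩ := Submodule.mem_span_singleton.1 hm
      have hk0 : k ≠ 0 := fun h => hv₀0 (hβi (by rw [← hk, h, zero_smul, map_zero]))
      exact hβv (Submodule.mem_span_singleton.2 ⟨k⁻¹, by rw [← hk, inv_smul_smul₀ hk0]⟩)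
    obtain ⟨φ, hφ0, hφ1⟩ := exists_dual _ hβv
    obtain ⟨ψ, hψ0, hψ1⟩ := exists_dual _ hβv₀
    have e1 := congrArg (cR T φ) es
    have e2 := congrArg (cR T ψ) es
    simp only [map_add, cR_pt, hφ1, hψ1, hφ0 _ (Submodule.mem_span_singleton_self (β v₀)),
      hψ0 _ (Submodule.mem_span_singleton_self (β v)), one_smul, zero_smul, zero_add, add_zero] at e1 e2
    rw [ev, e1, ← e2]
  let z : (Fin n₂ → F) × (Fin n₂ → F) →ₗ[F] (ι → F) := (ptR T a).coprod (ptR T a₂)
  have hz : ∀ v w, z (v, w) = pt T a v + pt T a₂ w := fun v w => rfl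
  have hzperp : ∀ v w, projL T q₁ u' (act g (z (v, w))) = 0 := fun v w =>
    hperp _ (by rw [hz, map_add, projL_pt, projL_pt, ha, ha₂, zero_smul, zero_smul, add_zero])
  -- the second factors of a moved sum of two pure tensors
  have hE : ∀ v w, Cov (act g (z (v, w))) → ∀ s,
      proj T q₂ s (act g (z (v, w))) = 0 ↔ B₂ s (β v) = 0 ∧ B₂ s (β w) = 0 := by
    intro v w hcov s
    have hsingle : ∀ a₀ x, B₁ u a₀ = 0 → a₀ ≠ 0 → Cov (act g (pt T a₀ x)) →
        (proj T q₂ s (act g (pt T a₀ x)) = 0 ↔ B₂ s (β x) = 0) := by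
      intro a₀ x ha₀ ha₀0 hc'
      obtain ⟨c', -, e⟩ := htrick a₀ x ha₀ (hpure a₀ x hc')
      rw [e, proj_pt, smul_eq_zero]
      refine ⟨fun h => h.elim id fun h0 => ?_, Or.inl⟩
      rw [h0, pt_zero_left] at e
      have hx := ((pt_eq_zero T).1 (act_injective g (e.trans (map_zero _).symm))).resolve_left ha₀0
      rw [hx, map_zero, B_zero_right q₂]
    rcases eq_or_ne w 0 with rfl | hw
    · have e : z (v, 0) = pt T a v := by rw [hz, pt_zero_right, add_zero]
      rw [e] at hcov ⊢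
      rw [hsingle a v ha ha0 hcov, map_zero, B_zero_right q₂]
      simp
    by_cases hvw : v ∈ F ∙ w
    · obtain ⟨k, rfl⟩ := Submodule.mem_span_singleton.1 hvw
      have e : z (k • w, w) = pt T (k • a + a₂) w := by rw [hz, pt_smul_right, pt_add_left, pt_smul_left]
      have h0 : k • a + a₂ ≠ 0 := fun h => hind (Submodule.mem_span_singleton.2 ⟨-k, by
        rw [eq_neg_of_add_eq_zero_right h, neg_smul]⟩)
      rw [e] at hcov ⊢
      rw [hsingle _ w (by rw [B_add_right q₁, B_smul_right q₁, ha, ha₂]; ring) h0 hcov, map_smul,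
        B_smul_right q₂]
      exact ⟨fun h => ⟨by rw [h, mul_zero], h⟩, fun h => h.2⟩
    obtain ⟨α, β', hI, e⟩ := orb a a₂ v w hcov
    rw [map_add (act (gl T α β')), act_gl_pt, act_gl_pt] at e
    set f₁ := act β' v
    set f₂ := act β' w
    have hf₂ : f₂ ≠ 0 := fun h => hw (act_injective β' (h.trans (map_zero _).symm))
    have hf₁ : f₁ ∉ F ∙ f₂ := fun hm => by
      obtain ⟨k, hk⟩ := Submodule.mem_span_singleton.1 hm
      exact hvw (Submodule.mem_span_singleton.2 ⟨k, act_injective β' (by rw [map_smul]; exact hk)⟩)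
    have hcc : B₁ u' (act α a) = 0 ∧ B₁ u' (act α a₂) = 0 := by
      have h1 := hzperp v w
      rw [hz, e, map_add, projL_pt, projL_pt] at h1
      have hc1 : B₁ u' (act α a) = 0 := by
        by_contra h
        apply hf₁
        refine Submodule.mem_span_singleton.2 ⟨-(B₁ u' (act α a))⁻¹ * B₁ u' (act α a₂), ?_⟩
        rw [neg_mul, neg_smul, mul_smul, eq_neg_of_add_eq_zero_right h1, smul_neg, neg_neg, inv_smul_smul₀ h]
      rw [hc1, zero_smul, zero_add, smul_eq_zero] at h1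
      exact ⟨hc1, h1.resolve_right hf₂⟩
    have hαi : act α a₂ ∉ F ∙ act α a := fun hm => by
      obtain ⟨k, hk⟩ := Submodule.mem_span_singleton.1 hm
      exact hind (Submodule.mem_span_singleton.2 ⟨k, act_injective α (by rw [map_smul, hk])⟩)
    have hind₁ : act α a ∉ Submodule.span F (Set.range ![act α a₂, u']) := fun hm => by
      obtain ⟨i, j, hij⟩ := Orth.mem_span_pair_iff_range.1 hm
      have h1 := congrArg (B₁ u') hij
      rw [B_add_right q₁, B_smul_right q₁, B_smul_right q₁, hcc.2, mul_zero, zero_add, hcc.1, mul_eq_zero,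
        or_iff_left hu'u'] at h1
      rw [h1, zero_smul, add_zero] at hij
      have hi : i ≠ 0 := fun h => ha0 (act_injective α (by rw [← hij, h, zero_smul, map_zero]))
      exact hαi (Submodule.mem_span_singleton.2 ⟨i⁻¹, by rw [← hij, inv_smul_smul₀ hi]⟩)
    have hind₂ : act α a₂ ∉ Submodule.span F (Set.range ![act α a, u']) := fun hm => by
      obtain ⟨i, j, hij⟩ := Orth.mem_span_pair_iff_range.1 hm
      have h1 := congrArg (B₁ u') hij
      rw [B_add_right q₁, B_smul_right q₁, B_smul_right q₁, hcc.1, mul_zero, zero_add, hcc.2, mul_eq_zero,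
        or_iff_left hu'u'] at h1
      rw [h1, zero_smul, add_zero] at hij
      exact hαi (Submodule.mem_span_singleton.2 ⟨i, hij⟩)
    have hind₃ : u' ∉ Submodule.span F (Set.range ![act α a, act α a₂]) := fun hm => by
      obtain ⟨i, j, hij⟩ := Orth.mem_span_pair_iff_range.1 hm
      have h1 := congrArg (B₁ u') hij
      rw [B_add_right q₁, B_smul_right q₁, B_smul_right q₁, hcc.1, hcc.2, mul_zero, mul_zero, add_zero] at h1
      exact hu'u' h1.symm
    have hmem : ∀ x a' a₂', pt T a' v + pt T a₂' w = z (v, w) + pt T u x →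
        β x ∈ Submodule.span F (Set.range ![f₁, f₂]) := by
      intro x a' a₂' hx
      have himg : act g (pt T a' v + pt T a₂' w) = pt T (act α a) f₁ + pt T (act α a₂) f₂ + pt T u' (β x) := by
        rw [hx, map_add, hz, e, hlayer]
      obtain ⟨α', γ, -, e'⟩ := orb a' a₂' v w (by rw [himg]; exact cov3 α β' hI hcc.1 hcc.2 v w _)
      rw [himg, map_add, act_gl_pt, act_gl_pt] at e'
      exact right_mem_span hind₁ hind₂ hind₃ hf₁ hf₂ e'
    have hv' : β v ∈ Submodule.span F (Set.range ![f₁, f₂]) :=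
      hmem v (a + u) a₂ (by rw [hz, pt_add_left]; abel)
    have hw' : β w ∈ Submodule.span F (Set.range ![f₁, f₂]) :=
      hmem w a (a₂ + u) (by rw [hz, pt_add_left]; abel)
    have hspan' : Submodule.span F (Set.range ![β v, β w]) = Submodule.span F (Set.range ![f₁, f₂]) :=
      span_pair_eq (fun h => hw (hβi (h.trans (map_zero β).symm))) (fun hm => by
        obtain ⟨k, hk⟩ := Submodule.mem_span_singleton.1 hm
        exact hvw (Submodule.mem_span_singleton.2 ⟨k, hβi (by rw [map_smul, hk])⟩)) hv' hw'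
    have hyz : proj T q₂ s (act g (z (v, w))) = B₂ s f₁ • act α a + B₂ s f₂ • act α a₂ := by
      rw [hz, e, map_add, proj_pt, proj_pt]
    have hker : ∀ {x y : Fin n₂ → F}, (B₂ s x = 0 ∧ B₂ s y = 0) ↔
        Submodule.span F (Set.range ![x, y]) ≤ LinearMap.ker (QuadraticMap.polarBilin q₂ s) := by
      intro x y
      rw [Submodule.span_le]
      constructor
      · rintro h _ ⟨i, rfl⟩
        fin_cases i
        · exact h.1
        · exact h.2
      · intro h
        exact ⟨h ⟨0, rfl⟩, h ⟨1, rfl⟩⟩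
    rw [hker, hspan', ← hker, hyz]
    refine ⟨fun h => ?_, fun h => by rw [h.1, h.2, zero_smul, zero_smul, add_zero]⟩
    obtain ⟨φ₁, h₁0, h₁1⟩ := exists_dual _ hind₁
    obtain ⟨φ₂, h₂0, h₂1⟩ := exists_dual _ hind₂
    constructor
    · have := congrArg φ₁ h
      rwa [map_add, map_smul, map_smul, h₁1, h₁0 (act α a₂) (Submodule.subset_span ⟨0, rfl⟩), map_zero,
        smul_eq_mul, smul_eq_mul, mul_one, mul_zero, add_zero] at this
    · have := congrArg φ₂ h
      rwa [map_add, map_smul, map_smul, h₂1, h₂0 (act α a) (Submodule.subset_span ⟨0, rfl⟩), map_zero,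
        smul_eq_mul, smul_eq_mul, mul_one, mul_zero, zero_add] at this
  -- every second coordinate occurs in each kernel
  have hZ : ∀ t, Tk t → B₁ t c ≠ 0 → ∀ w, ∃ v, projL T q₁ t (act g (z (v, w))) = 0 := by
    intro t ht htc w
    set A := projL T q₁ t ∘ₗ act g ∘ₗ z with hA
    let π : LinearMap.ker A →ₗ[F] (Fin n₂ → F) := LinearMap.snd F _ _ ∘ₗ (LinearMap.ker A).subtype
    have hπ : Function.Injective π := (injective_iff_map_eq_zero π).2 fun ⟨⟨v, w'⟩, hp⟩ hπp => by
      have hw' : w' = 0 := hπp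
      subst hw'
      have hp' : projL T q₁ t (act g (z (v, 0))) = 0 := LinearMap.mem_ker.1 hp
      have e : z (v, 0) = pt T a v := by rw [hz, pt_zero_right, add_zero]
      rw [e] at hp'
      have hv : v ∈ K := htrick a v ha (hpure a v (covKill t ht _ (horth a v ha) hp'))
      rw [hK v hv, projL_pt, smul_eq_zero, or_iff_right htc] at hp'
      have : v = 0 := hβi (hp'.trans (map_zero β).symm)
      subst this
      rfl
    have h1 := LinearMap.finrank_range_add_finrank_ker A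
    have h2 := Submodule.finrank_le (LinearMap.range A)
    have h3 := LinearMap.finrank_le_finrank_of_injective hπ
    rw [Module.finrank_prod, Module.finrank_fin_fun] at h1
    rw [Module.finrank_fin_fun] at h2 h3
    have h4 : finrank F (LinearMap.ker A) = finrank F (Fin n₂ → F) := by rw [Module.finrank_fin_fun]; omega
    obtain ⟨⟨⟨v, w'⟩, hp⟩, rfl⟩ := (LinearMap.injective_iff_surjective_of_finrank_eq_finrank h4).1 hπ w
    exact ⟨v, LinearMap.mem_ker.1 hp⟩
  refine ⟨c, hc0, fun v => hK v ?_⟩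
  obtain ⟨t₀, ht₀, ht₀c, -⟩ := hspan c c hc hc hc0 hc0
  obtain ⟨v₀, hv₀⟩ := hZ t₀ ht₀ ht₀c v
  have hE₀ := hE v₀ v (covKill t₀ ht₀ _ (hzperp v₀ v) hv₀)
  have hmem : β v ∈ K.map β := by
    rw [← Orth.perp_perp C.h₂ (K.map β)]
    intro s hs
    have hs' : ∀ k ∈ K, B₂ s (β k) = 0 := fun k hk => by
      rw [B_comm q₂]; exact hs (β k) ⟨k, hk, rfl⟩
    suffices h : proj T q₂ s (act g (z (v₀, v))) = 0 from ((hE₀ s).1 h).2
    by_contra hr
    have hru : B₁ u' (proj T q₂ s (act g (z (v₀, v)))) = 0 := by rw [B_proj C, hzperp, B_zero_right q₂]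
    obtain ⟨t, ht, htc, htr⟩ := hspan c _ hc hru hc0 hr
    obtain ⟨v₁, hv₁⟩ := hZ t ht htc v
    have hE₁ := hE v₁ v (covKill t ht _ (hzperp v₁ v) hv₁)
    have hsub : act g (pt T a (v₀ - v₁)) = act g (z (v₀, v)) - act g (z (v₁, v)) := by
      rw [← map_sub, hz, hz, pt_sub_right]; congr 1; abel
    have hd : v₀ - v₁ ∈ K := htrick a _ ha (hdiff _ (β v₀) (β v₁) (β v) fun r h1 h2 h3 => by
      rw [hsub, map_sub, (hE₀ r).2 ⟨h1, h3⟩, (hE₁ r).2 ⟨h2, h3⟩, sub_zero])
    apply htr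
    have e : projL T q₁ t (act g (z (v₀, v))) = B₁ t c • β (v₀ - v₁) := by
      rw [← projL_pt (T := T) (q₁ := q₁), ← hK _ hd, hsub, map_sub, hv₁, sub_zero]
    rw [B_proj C, e, B_smul_right q₂, hs' _ hd, mul_zero]
  obtain ⟨k, hk, hkv⟩ := hmem
  rwa [← hβi hkv]

end Cfsg.Agent.MaxCl.OTens
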