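/-
A linear bijection of `F^(n₁) ⊗ F^(n₂)`, `n₁ < n₂`, that maps every sum of at most three pure tensors with image
in one of the spaces `ker (1 ⊗ ξ_k)` to a sum of the same shape is of the form `a ⊗ b`.

For `u ≠ 0` let `B u` be the space of `v` with `g (u ⊗ v)` pure, and for `v ≠ 0` let `A v` be the space of `u`.
A dimension count gives `dim A v + (n₂ - n₁) ≤ dim B u` for `v ∈ B u`, and double counting the pairs then forces
`B u` to be everything.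
-/
import Mathlib
import Cfsg.Agent.Lib.MaxCl.TensorPt
import Cfsg.Agent.Lib.MaxCl.SympSwap

set_option autoImplicit false

namespace Cfsg.Agent.MaxCl.Tens

open scoped MatrixGroups Matrix Kronecker
open Module (finrank)

variable {ι : Type} [Fintype ι] [DecidableEq ι] {F : Type*} [Field F] {n₁ n₂ : ℕ}

/-- the hypotheses: `g` moves a sum of three pure tensors whose image is killed by some `1 ⊗ ξ k` like some
`a ⊗ b` -/
structure PreCtx (T : TSys ι F n₁ n₂) (κ : Type*) (g : GL ι F) where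
  /-- the functionals -/
  ξ : κ → ((Fin n₂ → F) →ₗ[F] F)
  lt : n₁ < n₂
  cover : ∀ v₁ v₂ v₃ : Fin n₂ → F, ∃ k, ξ k v₁ = 0 ∧ ξ k v₂ = 0 ∧ ξ k v₃ = 0
  sep : ∀ v : Fin n₂ → F, v ≠ 0 → ∃ k, ξ k v ≠ 0
  rig : ∀ (u₁ u₂ u₃ : Fin n₁ → F) (v₁ v₂ v₃ : Fin n₂ → F) (k : κ),
    cR T (ξ k) (act g (pt T u₁ v₁ + pt T u₂ v₂ + pt T u₃ v₃)) = 0 →
    ∃ a b, act g (pt T u₁ v₁ + pt T u₂ v₂ + pt T u₃ v₃) =
      act (gl T a b) (pt T u₁ v₁ + pt T u₂ v₂ + pt T u₃ v₃)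

/-- the hypotheses used: a sum of two pure tensors whose image is killed by some `1 ⊗ ξ k`, or is a sum of at most
three pure tensors, moves like some `a ⊗ b` -/
structure PreCtx₂ (T : TSys ι F n₁ n₂) (κ : Type*) (g : GL ι F) where
  /-- the functionals -/
  ξ : κ → ((Fin n₂ → F) →ₗ[F] F)
  lt : n₁ < n₂
  nonempty : Nonempty κ
  sep : ∀ v : Fin n₂ → F, v ≠ 0 → ∃ k, ξ k v ≠ 0
  rigKill : ∀ (u₁ u₂ : Fin n₁ → F) (v₁ v₂ : Fin n₂ → F) (k : κ),
    cR T (ξ k) (act g (pt T u₁ v₁ + pt T u₂ v₂)) = 0 →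
    ∃ a b, act g (pt T u₁ v₁ + pt T u₂ v₂) = act (gl T a b) (pt T u₁ v₁ + pt T u₂ v₂)
  rigSmall : ∀ (u₁ u₂ : Fin n₁ → F) (v₁ v₂ : Fin n₂ → F) (a₁ a₂ a₃ : Fin n₁ → F) (b₁ b₂ b₃ : Fin n₂ → F),
    act g (pt T u₁ v₁ + pt T u₂ v₂) = pt T a₁ b₁ + pt T a₂ b₂ + pt T a₃ b₃ →
    ∃ a b, act g (pt T u₁ v₁ + pt T u₂ v₂) = act (gl T a b) (pt T u₁ v₁ + pt T u₂ v₂)

variable {T : TSys ι F n₁ n₂} {κ : Type*} {g : GL ι F}

theorem PreCtx.nonempty (C : PreCtx T κ g) : Nonempty κ :=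
  let ⟨k, _⟩ := C.cover 0 0 0
  ⟨k⟩

/-- the weaker hypotheses follow -/
def PreCtx.toTwo (C : PreCtx T κ g) : PreCtx₂ T κ g where
  ξ := C.ξ
  lt := C.lt
  nonempty := C.nonempty
  sep := C.sep
  rigKill u₁ u₂ v₁ v₂ k h := by
    obtain ⟨a, b, e⟩ := C.rig u₁ u₂ 0 v₁ v₂ 0 k (by simpa [pt_zero_left] using h)
    exact ⟨a, b, by simpa [pt_zero_left] using e⟩
  rigSmall u₁ u₂ v₁ v₂ a₁ a₂ a₃ b₁ b₂ b₃ h := by
    obtain ⟨k, h1, h2, h3⟩ := C.cover b₁ b₂ b₃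
    obtain ⟨a, b, e⟩ := C.rig u₁ u₂ 0 v₁ v₂ 0 k (by
      rw [pt_zero_left, add_zero, h]
      simp [map_add, cR_pt, h1, h2, h3])
    exact ⟨a, b, by simpa [pt_zero_left] using e⟩

variable (C : PreCtx₂ T κ g)

/-- the vector is a pure tensor or zero -/
def IsPt (T : TSys ι F n₁ n₂) (x : ι → F) : Prop := ∃ u v, x = pt T u v

theorem isPt_smul {x : ι → F} (h : IsPt T x) (c : F) : IsPt T (c • x) := by
  obtain ⟨u, v, rfl⟩ := h
  exact ⟨c • u, v, (pt_smul_left T c u v).symm⟩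

include C

/-- a sum of two pure tensors with pure image is pure -/
theorem pt_of_image_pt {u₁ u₂ : Fin n₁ → F} {v₁ v₂ : Fin n₂ → F}
    (h : IsPt T (act g (pt T u₁ v₁ + pt T u₂ v₂))) : IsPt T (pt T u₁ v₁ + pt T u₂ v₂) := by
  obtain ⟨a, b, hab⟩ := h
  obtain ⟨α, β, e⟩ := C.rigSmall u₁ u₂ v₁ v₂ a 0 0 b 0 0 (by simpa [pt_zero_left] using hab)
  refine ⟨act α⁻¹ a, act β⁻¹ b, ?_⟩
  rw [← act_gl_pt T, ← hab, e, ← gl_inv, act_inv_act]

/-- a pure tensor whose image is killed has pure image -/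
theorem image_pt_of_kills {u : Fin n₁ → F} {v : Fin n₂ → F} {k : κ}
    (h : cR T (C.ξ k) (act g (pt T u v)) = 0) : IsPt T (act g (pt T u v)) := by
  obtain ⟨α, β, e⟩ := C.rigKill u 0 v 0 k (by simpa [pt_zero_left] using h)
  simp only [pt_zero_left, add_zero] at e
  exact ⟨_, _, by rw [e, act_gl_pt]⟩

/-- a pure tensor whose image is a sum of three pure tensors has pure image -/
theorem image_pt_of_small {u : Fin n₁ → F} {v : Fin n₂ → F} {a₁ a₂ a₃ : Fin n₁ → F} {b₁ b₂ b₃ : Fin n₂ → F}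
    (h : act g (pt T u v) = pt T a₁ b₁ + pt T a₂ b₂ + pt T a₃ b₃) : IsPt T (act g (pt T u v)) := by
  obtain ⟨α, β, e⟩ := C.rigSmall u 0 v 0 a₁ a₂ a₃ b₁ b₂ b₃ (by simpa [pt_zero_left] using h)
  simp only [pt_zero_left, add_zero] at e
  exact ⟨_, _, by rw [e, act_gl_pt]⟩

/-- the image of a sum of two pure tensors is such a sum as soon as it is killed -/
theorem image_two {u₁ u₂ : Fin n₁ → F} {v₁ v₂ : Fin n₂ → F} {k : κ}
    (h : cR T (C.ξ k) (act g (pt T u₁ v₁ + pt T u₂ v₂)) = 0) :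
    ∃ a₁ a₂ b₁ b₂, act g (pt T u₁ v₁ + pt T u₂ v₂) = pt T a₁ b₁ + pt T a₂ b₂ := by
  obtain ⟨α, β, e⟩ := C.rigKill u₁ u₂ v₁ v₂ k h
  exact ⟨_, _, _, _, by rw [e, map_add, act_gl_pt, act_gl_pt]⟩

/-- the space of `v` with `g (u ⊗ v)` pure -/
def goodR (u : Fin n₁ → F) : Submodule F (Fin n₂ → F) where
  carrier := {v | IsPt T (act g (pt T u v))}
  zero_mem' := ⟨0, 0, by simp [pt_zero_right]⟩
  add_mem' {v v'} h h' := by
    obtain ⟨a, b, e⟩ := h
    obtain ⟨a', b', e'⟩ := h'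
    refine image_pt_of_small C (a₁ := a) (b₁ := b) (a₂ := a') (b₂ := b') (a₃ := 0) (b₃ := 0) ?_
    rw [pt_add_right, map_add, e, e', pt_zero_left, add_zero]
  smul_mem' c v h := by
    show IsPt T (act g (pt T u (c • v)))
    rw [pt_smul_right, map_smul]; exact isPt_smul h c

/-- the space of `u` with `g (u ⊗ v)` pure -/
def goodL (v : Fin n₂ → F) : Submodule F (Fin n₁ → F) where
  carrier := {u | IsPt T (act g (pt T u v))}
  zero_mem' := ⟨0, 0, by simp [pt_zero_left]⟩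
  add_mem' {u u'} h h' := by
    obtain ⟨a, b, e⟩ := h
    obtain ⟨a', b', e'⟩ := h'
    refine image_pt_of_small C (a₁ := a) (b₁ := b) (a₂ := a') (b₂ := b') (a₃ := 0) (b₃ := 0) ?_
    rw [pt_add_left, map_add, e, e', pt_zero_left, add_zero]
  smul_mem' c u h := by
    show IsPt T (act g (pt T (c • u) v))
    rw [pt_smul_left, map_smul]; exact isPt_smul h c

theorem exists_kills (u : Fin n₁ → F) (k : κ) :
    ∃ v ≠ 0, cR T (C.ξ k) (act g (pt T u v)) = 0 := by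
  have hL : ¬ Function.Injective (cR T (C.ξ k) ∘ₗ act g ∘ₗ ptR T u) := fun h => by
    have := LinearMap.finrank_le_finrank_of_injective h
    simp only [Module.finrank_fin_fun] at this
    exact absurd this (not_le.2 C.lt)
  obtain ⟨v, hv, hv0⟩ := Submodule.exists_mem_ne_zero_of_ne_bot fun h => hL (LinearMap.ker_eq_bot.1 h)
  exact ⟨v, hv0, LinearMap.mem_ker.1 hv⟩

theorem ne_zero_of_image {u a : Fin n₁ → F} {v b : Fin n₂ → F} (hu : u ≠ 0) (hv : v ≠ 0)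
    (h : act g (pt T u v) = pt T a b) : a ≠ 0 ∧ b ≠ 0 := by
  have : pt T a b ≠ 0 := by
    rw [← h]; intro e
    have : pt T u v = 0 := act_injective g (by rw [e, map_zero])
    rcases (pt_eq_zero T).1 this with h' | h' <;> contradiction
  rw [Ne, pt_eq_zero, not_or] at this
  exact this

/-- all of `g (u ⊗ B u)` shares its first factor -/
theorem row_type {u : Fin n₁ → F} (hu : u ≠ 0) :
    ∃ a, a ≠ 0 ∧ ∀ v ∈ goodR C u, ∃ b, act g (pt T u v) = pt T a b := by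
  obtain ⟨v₁, hv₁, a₁, b₁, h₁⟩ : ∃ v, v ≠ 0 ∧ ∃ a b, act g (pt T u v) = pt T a b := by
    obtain ⟨k₀⟩ := C.nonempty
    obtain ⟨v, hv, hk⟩ := exists_kills C u k₀
    exact ⟨v, hv, image_pt_of_kills C hk⟩
  obtain ⟨ha₁, hb₁⟩ := ne_zero_of_image C hu hv₁ h₁
  by_cases hall : ∀ v ∈ goodR C u, ∃ b, act g (pt T u v) = pt T a₁ b
  · exact ⟨a₁, ha₁, hall⟩
  push Not at hall
  obtain ⟨v₂, hv₂, h₂'⟩ := hall
  obtain ⟨a₂, b₂, h₂⟩ := hv₂
  have ha₂ : a₂ ∉ F ∙ a₁ := fun h => by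
    obtain ⟨s, rfl⟩ := Submodule.mem_span_singleton.1 h
    exact h₂' (s • b₂) (by rw [h₂, pt_smul_left, pt_smul_right])
  have hsum : ∀ v ∈ goodR C u, ∀ v' ∈ goodR C u, ∀ a b a' b', act g (pt T u v) = pt T a b →
      act g (pt T u v') = pt T a' b' → b ≠ 0 → a ≠ 0 → a' ∉ F ∙ a → b' ∈ F ∙ b := by
    intro v hv v' hv' a b a' b' e e' hb ha ha'
    obtain ⟨a'', b'', e''⟩ := (goodR C u).add_mem hv hv'
    rw [pt_add_right, map_add, e, e'] at e''
    exact share T e'' hb ha ha'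
  have hv₁m : v₁ ∈ goodR C u := ⟨_, _, h₁⟩
  have hb₂ : b₂ ∈ F ∙ b₁ := hsum v₁ hv₁m v₂ ⟨_, _, h₂⟩ _ _ _ _ h₁ h₂ hb₁ ha₁ ha₂
  have ha₂0 : a₂ ≠ 0 := fun e => ha₂ (e ▸ Submodule.zero_mem _)
  have hb₂0 : b₂ ≠ 0 := fun e => h₂' 0 (by rw [h₂, e, pt_zero_right, pt_zero_right])
  -- then everything is in `F^(n₁) ⊗ b₁`, impossible
  obtain ⟨k, hk⟩ := C.sep b₁ hb₁
  obtain ⟨v₃, hv₃, hk₃⟩ := exists_kills C u k
  obtain ⟨a₃, b₃, h₃⟩ := image_pt_of_kills C hk₃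
  obtain ⟨ha₃, hb₃⟩ := ne_zero_of_image C hu hv₃ h₃
  rw [h₃, cR_pt, smul_eq_zero] at hk₃
  have hk₃' := hk₃.resolve_right ha₃
  have hb₃' : b₃ ∉ F ∙ b₁ := fun h => by
    obtain ⟨s, rfl⟩ := Submodule.mem_span_singleton.1 h
    rw [map_smul, smul_eq_mul, mul_eq_zero, or_iff_left hk] at hk₃'
    exact hb₃ (by rw [hk₃', zero_smul])
  have hv₃m : v₃ ∈ goodR C u := ⟨_, _, h₃⟩
  have h31 : a₃ ∈ F ∙ a₁ := by
    by_contra h
    exact hb₃' (hsum v₁ hv₁m v₃ hv₃m _ _ _ _ h₁ h₃ hb₁ ha₁ h)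
  have h32 : a₃ ∈ F ∙ a₂ := by
    by_contra h
    have := hsum v₂ ⟨_, _, h₂⟩ v₃ hv₃m _ _ _ _ h₂ h₃ hb₂0 ha₂0 h
    exact hb₃' ((Submodule.span_singleton_le_iff_mem _ _).2 hb₂ this)
  exfalso
  obtain ⟨s, rfl⟩ := Submodule.mem_span_singleton.1 h31
  have hs : s ≠ 0 := fun e => ha₃ (by rw [e, zero_smul])
  obtain ⟨t, ht⟩ := Submodule.mem_span_singleton.1 h32
  have ht0 : t ≠ 0 := fun e => ha₃ (by rw [← ht, e, zero_smul])
  refine ha₂ (Submodule.mem_span_singleton.2 ⟨t⁻¹ * s, ?_⟩)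
  rw [mul_smul, ← ht, inv_smul_smul₀ ht0]

/-- the dimension bound -/
theorem dim_bound {u : Fin n₁ → F} {v₀ : Fin n₂ → F} {b : Fin n₂ → F} (hv₀ : v₀ ≠ 0) (hb : b ≠ 0)
    (A : Submodule F (Fin n₁ → F)) (hA : ∀ u' ∈ A, ∃ a, act g (pt T u' v₀) = pt T a b) :
    n₂ + finrank F A ≤ finrank F (goodR C u) + n₁ := by
  obtain ⟨k, hk⟩ := C.sep b hb
  let L : ((Fin n₂ → F) × A) →ₗ[F] (Fin n₁ → F) := cR T (C.ξ k) ∘ₗ act g ∘ₗ
    (ptR T u ∘ₗ LinearMap.fst F _ _ + ptL T v₀ ∘ₗ A.subtype ∘ₗ LinearMap.snd F _ _)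
  have hmem : ∀ p ∈ LinearMap.ker L, p.1 ∈ goodR C u := by
    rintro ⟨v, u'⟩ hp
    have hp' : cR T (C.ξ k) (act g (pt T u v + pt T (u' : Fin n₁ → F) v₀)) = 0 := LinearMap.mem_ker.1 hp
    obtain ⟨a₁, a₂, b₁, b₂, e⟩ := image_two C hp'
    obtain ⟨a₃, e₃⟩ := hA u' u'.2
    rw [map_add, e₃, ← eq_sub_iff_add_eq] at e
    refine image_pt_of_small C (a₁ := a₁) (b₁ := b₁) (a₂ := a₂) (b₂ := b₂) (a₃ := -a₃) (b₃ := b) ?_
    show act g (pt T u v) = _
    rw [e, pt_neg_left]; abel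
  have hker : ∀ u' : A, ((0 : Fin n₂ → F), u') ∈ LinearMap.ker L → u' = 0 := by
    intro u' hp
    have hp' : cR T (C.ξ k) (act g (pt T u 0 + pt T (u' : Fin n₁ → F) v₀)) = 0 := LinearMap.mem_ker.1 hp
    obtain ⟨a, e⟩ := hA u' u'.2
    rw [pt_zero_right, zero_add, e, cR_pt, smul_eq_zero, or_iff_right hk] at hp'
    have h00 : pt T (u' : Fin n₁ → F) v₀ = 0 := act_injective g (by rw [e, hp', pt_zero_left, map_zero])
    exact Subtype.ext (((pt_eq_zero T).1 h00).resolve_right hv₀)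
  have h1 : finrank F (LinearMap.ker L) ≤ finrank F (goodR C u) := by
    let π : LinearMap.ker L →ₗ[F] (Fin n₂ → F) := LinearMap.fst F _ _ ∘ₗ (LinearMap.ker L).subtype
    have hπ : Function.Injective π := by
      intro p q hpq
      have h0 : (p : (Fin n₂ → F) × A).1 = (q : (Fin n₂ → F) × A).1 := hpq
      have hd := (LinearMap.ker L).sub_mem p.2 q.2
      have he : (p : (Fin n₂ → F) × A) - (q : (Fin n₂ → F) × A) =
          (0, (p : (Fin n₂ → F) × A).2 - (q : (Fin n₂ → F) × A).2) := Prod.ext (sub_eq_zero.2 h0) rfl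
      rw [he] at hd
      exact Subtype.ext (Prod.ext h0 (sub_eq_zero.1 (hker _ hd)))
    rw [← LinearMap.finrank_range_of_inj hπ]
    exact Submodule.finrank_mono fun x ⟨p, hp⟩ => hp ▸ hmem p p.2
  have h2 := LinearMap.finrank_range_add_finrank_ker L
  have h3 := Submodule.finrank_le (LinearMap.range L)
  rw [Module.finrank_prod, Module.finrank_fin_fun] at h2
  rw [Module.finrank_fin_fun] at h3
  omega

/-- `g (A v₀ ⊗ v₀)` shares its second factor, and the bound for all of `A v₀` -/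
theorem col_type {u : Fin n₁ → F} (hu : u ≠ 0) {v₀ : Fin n₂ → F} (hv₀ : v₀ ∈ goodR C u) (hv₀0 : v₀ ≠ 0) :
    ∃ b, b ≠ 0 ∧ ∀ u' ∈ goodL C v₀, ∃ a, act g (pt T u' v₀) = pt T a b := by
  obtain ⟨a, ha, hrow⟩ := row_type C hu
  obtain ⟨b, hab⟩ := hrow v₀ hv₀
  obtain ⟨-, hb⟩ := ne_zero_of_image C hu hv₀0 hab
  have h2 := dim_bound C (u := u) hv₀0 hb (F ∙ u) (fun u' hu' => by
    obtain ⟨s, rfl⟩ := Submodule.mem_span_singleton.1 hu'
    exact ⟨s • a, by rw [pt_smul_left, map_smul, hab, pt_smul_left]⟩)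
  rw [finrank_span_singleton hu] at h2
  have := C.lt
  obtain ⟨v₁, hv₁, hv₁0⟩ := SetLike.not_le_iff_exists.1 (show ¬ goodR C u ≤ F ∙ v₀ from fun h => by
    have h' := Submodule.finrank_mono h
    rw [finrank_span_singleton hv₀0] at h'
    omega)
  obtain ⟨b₁, hab₁⟩ := hrow v₁ hv₁
  refine ⟨b, hb, fun u' hu' => ?_⟩
  obtain ⟨a', b', h'⟩ := hu'
  by_cases hub : u' ∈ F ∙ u
  · obtain ⟨s, rfl⟩ := Submodule.mem_span_singleton.1 hub
    exact ⟨s • a, by rw [pt_smul_left, map_smul, hab, pt_smul_left]⟩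
  by_cases hb' : b' ∈ F ∙ b
  · obtain ⟨s, rfl⟩ := Submodule.mem_span_singleton.1 hb'
    exact ⟨s • a', by rw [h', pt_smul_comm]⟩
  exfalso
  have ha' : a' ∈ F ∙ a := by
    obtain ⟨a'', b'', e''⟩ := (goodL C v₀).add_mem (x := u) ⟨_, _, hab⟩ ⟨_, _, h'⟩
    rw [pt_add_left, map_add, hab, h'] at e''
    by_contra h
    exact hb' (share T e'' hb ha h)
  obtain ⟨s, rfl⟩ := Submodule.mem_span_singleton.1 ha'
  have hpure : IsPt T (pt T u v₁ + pt T u' v₀) := pt_of_image_pt C ⟨a, b₁ + s • b', by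
    rw [map_add, hab₁, h', pt_add_right, pt_smul_comm]⟩
  obtain ⟨x, y, e⟩ := hpure
  have hv₁0' : v₁ ≠ 0 := fun h => hv₁0 (h ▸ Submodule.zero_mem _)
  obtain ⟨r, hr⟩ := Submodule.mem_span_singleton.1 (share T e hv₁0' hu hub)
  have hr0 : r ≠ 0 := fun h => hv₀0 (by rw [← hr, h, zero_smul])
  exact hv₁0 (Submodule.mem_span_singleton.2 ⟨r⁻¹, by rw [← hr, inv_smul_smul₀ hr0]⟩)

theorem dim_goodL {u : Fin n₁ → F} (hu : u ≠ 0) {v₀ : Fin n₂ → F} (hv₀ : v₀ ∈ goodR C u) (hv₀0 : v₀ ≠ 0) :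
    n₂ + finrank F (goodL C v₀) ≤ finrank F (goodR C u) + n₁ := by
  obtain ⟨b, hb, h⟩ := col_type C hu hv₀ hv₀0
  exact dim_bound C hv₀0 hb _ h

/-- double counting: every pure tensor has pure image -/
theorem goodR_eq_top [Fintype F] {u₀ : Fin n₁ → F} (hu₀ : u₀ ≠ 0) : goodR C u₀ = ⊤ := by
  classical
  by_contra hne
  set Q := Fintype.card F with hQdef
  have hQ : (1 : ℚ) < Q := by exact_mod_cast Fintype.one_lt_card
  let N : ℕ → ℚ := fun m => (Q : ℚ) ^ m - 1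
  have Npos : ∀ m, 0 < m → 0 < N m := fun m hm => sub_pos.2 (one_lt_pow₀ hQ hm.ne')
  have Nnn : ∀ m, 0 ≤ N m := fun m => sub_nonneg.2 (one_le_pow₀ hQ.le)
  have Nmono : ∀ {m m' : ℕ}, m ≤ m' → N m ≤ N m' := fun h => sub_le_sub_right (pow_le_pow_right₀ hQ.le h) 1
  have card0 : ∀ {n : ℕ} (S : Submodule F (Fin n → F)),
      ((Finset.univ.filter fun x : Fin n → F => x ≠ 0 ∧ x ∈ S).card : ℚ) = N (finrank F S) := by
    intro n S
    have h1 : (Finset.univ.filter fun x : Fin n → F => x ∈ S).card = Q ^ finrank F S := by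
      rw [hQdef, ← Module.card_eq_pow_finrank (K := F) (V := S), ← Fintype.card_subtype]
    have h2 : (Finset.univ.filter fun x : Fin n → F => x ≠ 0 ∧ x ∈ S).card + 1 = Q ^ finrank F S := by
      rw [← h1, ← Finset.card_erase_add_one (a := (0 : Fin n → F)) (s := Finset.univ.filter fun x => x ∈ S)
        (by simp)]
      congr 2
      ext x; simp
    have h3 : ((Finset.univ.filter fun x : Fin n → F => x ≠ 0 ∧ x ∈ S).card : ℚ) + 1 =
        (Q : ℚ) ^ finrank F S := by exact_mod_cast h2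
    show _ = (Q : ℚ) ^ finrank F S - 1
    linarith
  set U' := Finset.univ.filter fun u : Fin n₁ → F => u ≠ 0 with hU'
  set W' := Finset.univ.filter fun v : Fin n₂ → F => v ≠ 0 with hW'
  let m : (Fin n₂ → F) → ℕ := fun v => finrank F (goodL C v)
  let w : (Fin n₂ → F) → ℚ := fun v => 1 / N (m v)
  have hlt := C.lt
  have hn1 : 0 < n₁ := by
    by_contra h
    have h0 : n₁ = 0 := by omega
    subst h0
    exact hu₀ (funext fun i => i.elim0)
  -- the sum from the left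
  have hsum : ∀ u ∈ U', N n₂ / N n₁ ≤ ∑ v ∈ W'.filter (fun v => v ∈ goodR C u), w v ∧
      (goodR C u ≠ ⊤ → N n₂ / N n₁ < ∑ v ∈ W'.filter (fun v => v ∈ goodR C u), w v) := by
    intro u hu
    have hu' : u ≠ 0 := (Finset.mem_filter.1 hu).2
    set d := finrank F (goodR C u) with hd
    have hd2 : d ≤ n₂ := by simpa using Submodule.finrank_le (goodR C u)
    have hm : ∀ v ∈ W'.filter (fun v => v ∈ goodR C u), 0 < m v ∧ m v + (n₂ - n₁) ≤ d := by
      intro v hv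
      rw [Finset.mem_filter, hW', Finset.mem_filter] at hv
      obtain ⟨⟨-, hv0⟩, hv⟩ := hv
      have h1 := dim_goodL C hu' hv hv0
      refine ⟨?_, by show finrank F (goodL C v) + _ ≤ d; omega⟩
      have h2 := Submodule.finrank_mono (show F ∙ u ≤ goodL C v from
        (Submodule.span_singleton_le_iff_mem _ _).2 hv)
      rw [finrank_span_singleton hu'] at h2
      show 0 < finrank F (goodL C v)
      omega
    have hd0 : n₂ - n₁ < d := by
      obtain ⟨k₀⟩ := C.nonempty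
      obtain ⟨v, hv0, hk⟩ := exists_kills C u k₀
      have := hm v (by simp [hW', hv0, show v ∈ goodR C u from image_pt_of_kills C hk])
      omega
    have hle : N d / N (d - (n₂ - n₁)) ≤ ∑ v ∈ W'.filter (fun v => v ∈ goodR C u), w v := by
      have hc : ((W'.filter (fun v => v ∈ goodR C u)).card : ℚ) = N d := by
        rw [hW', Finset.filter_filter]; exact card0 _
      have := Finset.card_nsmul_le_sum (W'.filter fun v => v ∈ goodR C u) w (1 / N (d - (n₂ - n₁))) ?_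
      · rw [nsmul_eq_mul, hc, mul_one_div] at this; exact this
      intro v hv
      obtain ⟨h1, h2⟩ := hm v hv
      exact one_div_le_one_div_of_le (Npos _ h1) (Nmono (by omega))
    have key : d < n₂ → N n₂ / N n₁ < N d / N (d - (n₂ - n₁)) := by
      intro hdn
      rw [div_lt_div_iff₀ (Npos _ hn1) (Npos _ (by omega))]
      obtain ⟨δ, hδ, rfl⟩ : ∃ δ, 0 < δ ∧ n₂ = n₁ + δ := ⟨n₂ - n₁, by omega, by omega⟩
      rw [Nat.add_sub_cancel_left] at hd0 ⊢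
      obtain ⟨r, hr, hdr⟩ : ∃ r, 0 < r ∧ d = r + δ := ⟨d - δ, by omega, by omega⟩
      rw [hdr, Nat.add_sub_cancel]
      have h1 : (Q : ℚ) ^ r < (Q : ℚ) ^ n₁ := pow_lt_pow_right₀ hQ (by omega)
      have h2 : (1 : ℚ) < (Q : ℚ) ^ δ := one_lt_pow₀ hQ hδ.ne'
      show ((Q : ℚ) ^ (n₁ + δ) - 1) * ((Q : ℚ) ^ r - 1) < ((Q : ℚ) ^ (r + δ) - 1) * ((Q : ℚ) ^ n₁ - 1)
      rw [pow_add, pow_add]
      nlinarith
    rcases Nat.lt_or_ge d n₂ with hdn | hdn
    · exact ⟨((key hdn).trans_le hle).le, fun _ => (key hdn).trans_le hle⟩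
    · have hdn' : d = n₂ := le_antisymm hd2 hdn
      have htop : goodR C u = ⊤ := Submodule.eq_top_of_finrank_eq (by simpa [← hd] using hdn')
      refine ⟨?_, fun h => absurd htop h⟩
      rw [hdn', show n₂ - (n₂ - n₁) = n₁ by omega] at hle
      exact hle
  have hstrict : (U'.card : ℚ) * (N n₂ / N n₁) <
      ∑ u ∈ U', ∑ v ∈ W'.filter (fun v => v ∈ goodR C u), w v := by
    rw [← nsmul_eq_mul, ← Finset.sum_const]
    exact Finset.sum_lt_sum (fun u hu => (hsum u hu).1)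
      ⟨u₀, by simp [hU', hu₀], (hsum u₀ (by simp [hU', hu₀])).2 hne⟩
  have hU'c : (U'.card : ℚ) = N n₁ := by
    rw [hU']
    convert card0 (n := n₁) ⊤ using 3 <;> simp
  have hW'c : (W'.card : ℚ) = N n₂ := by
    rw [hW']
    convert card0 (n := n₂) ⊤ using 3 <;> simp
  rw [hU'c, mul_div_cancel₀ _ (Npos _ hn1).ne'] at hstrict
  have hswap : ∑ u ∈ U', ∑ v ∈ W'.filter (fun v => v ∈ goodR C u), w v =
      ∑ v ∈ W', ∑ u ∈ U'.filter (fun u => u ∈ goodL C v), w v := by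
    refine Finset.sum_comm' fun u v => ?_
    simp only [Finset.mem_filter]
    show u ∈ U' ∧ v ∈ W' ∧ IsPt T (act g (pt T u v)) ↔ (u ∈ U' ∧ IsPt T (act g (pt T u v))) ∧ v ∈ W'
    tauto
  rw [hswap] at hstrict
  have hle : ∑ v ∈ W', ∑ u ∈ U'.filter (fun u => u ∈ goodL C v), w v ≤ (W'.card : ℚ) := by
    rw [Finset.card_eq_sum_ones W', Nat.cast_sum]
    refine Finset.sum_le_sum fun v _ => ?_
    rw [Finset.sum_const, nsmul_eq_mul, hU', Finset.filter_filter, card0, Nat.cast_one]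
    show N (m v) * (1 / N (m v)) ≤ 1
    rw [mul_one_div]
    exact div_self_le_one _
  rw [hW'c] at hle
  exact absurd (lt_of_lt_of_le hstrict hle) (lt_irrefl _)

theorem image_pt [Fintype F] (u : Fin n₁ → F) (v : Fin n₂ → F) : IsPt T (act g (pt T u v)) := by
  rcases eq_or_ne u 0 with rfl | hu
  · exact ⟨0, 0, by simp [pt_zero_left]⟩
  show v ∈ goodR C u
  rw [goodR_eq_top C hu]; trivial

/-- `g` is of the form `a ⊗ b` -/
theorem exists_gl₂ [Fintype F] (hn₁ : 0 < n₁) (hn₂ : 2 ≤ n₂) : ∃ a b, g = gl T a b := by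
  classical
  have hrow : ∀ u : Fin n₁ → F, u ≠ 0 → ∃ a, a ≠ 0 ∧ ∀ v, ∃ b, act g (pt T u v) = pt T a b := by
    intro u hu
    obtain ⟨a, ha, h⟩ := row_type C hu
    exact ⟨a, ha, fun v => h v (image_pt C u v)⟩
  obtain ⟨u₀, hu₀⟩ : ∃ u : Fin n₁ → F, u ≠ 0 :=
    ⟨Pi.single ⟨0, hn₁⟩ 1, by simp⟩
  have hcol : ∀ v : Fin n₂ → F, v ≠ 0 → ∃ b, b ≠ 0 ∧ ∀ u, ∃ a, act g (pt T u v) = pt T a b := by
    intro v hv
    obtain ⟨b, hb, h⟩ := col_type C hu₀ (image_pt C u₀ v) hv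
    exact ⟨b, hb, fun u => h u (image_pt C u v)⟩
  obtain ⟨v₀, hv₀⟩ : ∃ v : Fin n₂ → F, v ≠ 0 :=
    ⟨Pi.single ⟨0, by omega⟩ 1, by simp⟩
  obtain ⟨a₀, ha₀, hr₀⟩ := hrow u₀ hu₀
  obtain ⟨b₀, hb₀, hc₀⟩ := hcol v₀ hv₀
  obtain ⟨φ, -, hφ⟩ := exists_dual (⊥ : Submodule F (Fin n₁ → F)) (v := a₀) (by simpa using ha₀)
  obtain ⟨ψ, -, hψ⟩ := exists_dual (⊥ : Submodule F (Fin n₂ → F)) (v := b₀) (by simpa using hb₀)
  obtain ⟨b₁, e₁⟩ := hr₀ v₀
  obtain ⟨a₁, e₁'⟩ := hc₀ u₀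
  obtain ⟨t, ht0, e₀⟩ : ∃ t : F, t ≠ 0 ∧ act g (pt T u₀ v₀) = t • pt T a₀ b₀ := by
    obtain ⟨h1, h2⟩ := ne_zero_of_image C hu₀ hv₀ e₁
    obtain ⟨s, rfl⟩ := Submodule.mem_span_singleton.1 (mem_span_of_pt_eq T (e₁.symm.trans e₁') h1)
    exact ⟨s, fun e => h2 (by rw [e, zero_smul]), by rw [e₁, pt_smul_right]⟩
  let A : (Fin n₁ → F) →ₗ[F] (Fin n₁ → F) := t⁻¹ • (cR T ψ ∘ₗ act g ∘ₗ ptL T v₀)
  let B : (Fin n₂ → F) →ₗ[F] (Fin n₂ → F) := cL T φ ∘ₗ act g ∘ₗ ptR T u₀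
  have hA : ∀ u, act g (pt T u v₀) = t • pt T (A u) b₀ := by
    intro u
    obtain ⟨a, e⟩ := hc₀ u
    show _ = t • pt T (t⁻¹ • cR T ψ (act g (pt T u v₀))) b₀
    rw [e, cR_pt, hψ, one_smul, pt_smul_left, smul_inv_smul₀ ht0]
  have hB : ∀ v, act g (pt T u₀ v) = pt T a₀ (B v) := by
    intro v
    obtain ⟨b, e⟩ := hr₀ v
    show _ = pt T a₀ (cL T φ (act g (pt T u₀ v)))
    rw [e, cL_pt, hφ, one_smul]
  have hBv₀ : B v₀ = t • b₀ := by
    show cL T φ (act g (pt T u₀ v₀)) = _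
    rw [e₀, map_smul, cL_pt, hφ, one_smul]
  have hBinj : Function.Injective B := by
    refine LinearMap.ker_eq_bot.1 ((Submodule.eq_bot_iff _).2 ?_)
    intro v hv
    have : pt T u₀ v = 0 := act_injective g (by rw [hB, LinearMap.mem_ker.1 hv, pt_zero_right, map_zero])
    exact ((pt_eq_zero T).1 this).resolve_left hu₀
  have hAinj : Function.Injective A := by
    refine LinearMap.ker_eq_bot.1 ((Submodule.eq_bot_iff _).2 ?_)
    intro u hu
    have : pt T u v₀ = 0 := act_injective g (by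
      rw [hA, LinearMap.mem_ker.1 hu, pt_zero_left, smul_zero, map_zero])
    exact ((pt_eq_zero T).1 this).resolve_right hv₀
  have main : ∀ u v, act g (pt T u v) = pt T (A u) (B v) := by
    intro u v
    rcases eq_or_ne u 0 with rfl | hu
    · simp [pt_zero_left]
    have hAu : A u ≠ 0 := fun e => hu (hAinj (by rw [e, map_zero]))
    obtain ⟨a, ha, hr⟩ := hrow u hu
    have hra : ∀ v, ∃ b, act g (pt T u v) = pt T (A u) b := by
      obtain ⟨b, e⟩ := hr v₀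
      rw [hA, ← pt_smul_right] at e
      obtain ⟨s, hs⟩ := Submodule.mem_span_singleton.1
        (mem_span_of_pt_eq' T e (smul_ne_zero ht0 hb₀))
      have hs0 : s ≠ 0 := fun e => hAu (by rw [← hs, e, zero_smul])
      intro v
      obtain ⟨b', e'⟩ := hr v
      exact ⟨s⁻¹ • b', by rw [e', ← hs, pt_smul_comm, smul_inv_smul₀ hs0]⟩
    have hscal : ∀ v, v ≠ 0 → ∃ l : F, act g (pt T u v) = l • pt T (A u) (B v) := by
      intro v hv
      obtain ⟨b, e⟩ := hra v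
      obtain ⟨b', hb', hc⟩ := hcol v hv
      obtain ⟨a', e'⟩ := hc u
      obtain ⟨a'', e''⟩ := hc u₀
      rw [hB] at e''
      obtain ⟨s, hs⟩ := Submodule.mem_span_singleton.1 (mem_span_of_pt_eq T e'' ha₀)
      obtain ⟨r, hr'⟩ := Submodule.mem_span_singleton.1 (mem_span_of_pt_eq T (e.symm.trans e') hAu)
      have hs0 : s ≠ 0 := fun h => hv (hBinj (by rw [← hs, h, zero_smul, map_zero]))
      exact ⟨r * s⁻¹, by rw [e, ← hr', ← hs, pt_smul_right, pt_smul_right, smul_smul,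
        mul_assoc, inv_mul_cancel₀ hs0, mul_one]⟩
    rcases eq_or_ne v 0 with rfl | hv
    · simp [pt_zero_right]
    by_cases hdep : v ∈ F ∙ v₀
    · obtain ⟨s, rfl⟩ := Submodule.mem_span_singleton.1 hdep
      rw [pt_smul_right, map_smul, hA, map_smul, hBv₀, pt_smul_right, pt_smul_right]
    obtain ⟨l, hl⟩ := hscal v hv
    have hvv : v + v₀ ≠ 0 := fun h => hdep (by
      rw [eq_neg_of_add_eq_zero_left h]; exact Submodule.neg_mem _ (Submodule.mem_span_singleton_self v₀))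
    obtain ⟨l', hl'⟩ := hscal (v + v₀) hvv
    rw [pt_add_right, map_add, hl, hA, map_add, hBv₀, pt_add_right, pt_smul_right] at hl'
    have h0 : pt T (A u) ((l - l') • B v + (t - l' * t) • b₀) = 0 := by
      rw [pt_add_right, pt_smul_right, pt_smul_right, sub_smul, sub_smul, mul_smul]
      rw [smul_add] at hl'
      linear_combination (norm := module) hl'
    have h1 := ((pt_eq_zero T).1 h0).resolve_left hAu
    have h2 : l - l' = 0 := by
      by_contra hne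
      apply hdep
      have hB2 : B ((l - l') • v + (1 - l') • v₀) = 0 := by
        rw [map_add, map_smul, map_smul, hBv₀, smul_smul, ← h1]
        congr 2; ring
      have h3 := hBinj (hB2.trans (map_zero B).symm)
      refine Submodule.mem_span_singleton.2 ⟨-(l - l')⁻¹ * (1 - l'), ?_⟩
      rw [neg_mul, neg_smul, mul_smul, eq_neg_of_add_eq_zero_right h3, smul_neg, neg_neg,
        inv_smul_smul₀ hne]
    rw [h2, zero_smul, zero_add, smul_eq_zero, or_iff_left hb₀] at h1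
    have hl1 : l = 1 := by
      have : l' = 1 := mul_right_cancel₀ ht0 (by linear_combination -h1)
      linear_combination h2 + this
    rw [hl, hl1, one_smul]
  obtain ⟨a, ha⟩ := exists_gl_of_injective A hAinj
  obtain ⟨b, hb⟩ := exists_gl_of_injective B hBinj
  exact ⟨a, b, gl_ext_pt T fun u v => by rw [act_gl_pt, main, ha, hb]⟩

omit C in
/-- `g` is of the form `a ⊗ b` -/
theorem exists_gl [Fintype F] (K : PreCtx T κ g) (hn₁ : 0 < n₁) (hn₂ : 2 ≤ n₂) : ∃ a b, g = gl T a b :=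
  exists_gl₂ K.toTwo hn₁ hn₂

end Cfsg.Agent.MaxCl.Tens
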