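/-
An odd second factor one larger than an even first one: minus reflections of the second factor are rigid and the
pure tensors killed by anisotropic contractions show that the overgroup is the tensor stabiliser.
-/
import Cfsg.Agent.Lib.MaxCl.OrthTensorLayer
import Cfsg.Agent.Lib.MaxCl.OrthTensorGap
import Cfsg.Agent.Lib.MaxCl.TensorPreserve

set_option autoImplicit false
set_option linter.unusedSectionVars false
set_option linter.unusedSimpArgs false
set_option linter.style.haveILetI false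

namespace Cfsg.Agent.MaxCl.OTens

open scoped MatrixGroups Matrix
open Module (finrank)
open Orth Tens

variable {ι : Type} [Fintype ι] [DecidableEq ι] {F : Type*} [Field F] {n₁ n₂ : ℕ}

section General

variable {κ : Type} [Fintype κ] [DecidableEq κ] {q : QuadraticForm F (κ → F)}

set_option quotPrecheck false in
local notation "b" => QuadraticMap.polar (⇑q)

/-- an anisotropic vector with prescribed non-orthogonality to two vectors -/
theorem exists_aniso_both (two : (2 : F) ≠ 0) (hq : (QuadraticMap.polarBilin q).Nondegenerate)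
    (h5 : 5 ≤ Fintype.card κ) {c r : κ → F} (hc : c ≠ 0) (hr : r ≠ 0) :
    ∃ t, q t ≠ 0 ∧ b t c ≠ 0 ∧ b t r ≠ 0 := by
  obtain ⟨t, htc, htr⟩ : ∃ t, b t c ≠ 0 ∧ b t r ≠ 0 := by
    obtain ⟨t₁, h₁⟩ := exists_B_ne_zero hq hc
    obtain ⟨t₂, h₂⟩ := exists_B_ne_zero hq hr
    rw [B_comm q] at h₁ h₂
    by_cases h : b t₁ r = 0
    · by_cases h' : b t₂ c = 0
      · exact ⟨t₁ + t₂, by rwa [B_add_left q, h', add_zero], by rwa [B_add_left q, h, zero_add]⟩
      · exact ⟨t₂, h', h₂⟩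
    · exact ⟨t₁, h₁, h⟩
  by_cases hqt : q t ≠ 0
  · exact ⟨t, hqt, htc, htr⟩
  push Not at hqt
  obtain ⟨y, hy, hqy⟩ := Orth.exists_nonsingular hq (D := Orth.perp q (Submodule.span F (Set.range ![c, r]))) (by
    have := finrank_span_list_le (F := F) ![c, r]
    rw [Orth.finrank_perp hq]; omega)
  rw [Orth.mem_perp_span] at hy
  have hyc : b y c = 0 := by rw [B_comm q]; exact hy c ⟨0, rfl⟩
  have hyr : b y r = 0 := by rw [B_comm q]; exact hy r ⟨1, rfl⟩
  by_cases h : q (t + y) = 0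
  · refine ⟨t - y, fun h' => hqy ?_, by rwa [B_sub_left q, hyc, sub_zero], by rwa [B_sub_left q, hyr, sub_zero]⟩
    rw [Q_add q, hqt] at h
    rw [Q_sub q, hqt] at h'
    exact (mul_eq_zero.1 (show (2 : F) * q y = 0 by linear_combination h + h')).resolve_left two
  · exact ⟨t + y, h, by rwa [B_add_left q, hyc, add_zero], by rwa [B_add_left q, hyr, add_zero]⟩

/-- a singular vector of a non-degenerate subspace not orthogonal to two of its vectors -/
theorem exists_singular_both [Finite F] (two : (2 : F) ≠ 0) (hq : (QuadraticMap.polarBilin q).Nondegenerate)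
    {W : Submodule F (κ → F)} (hW : Orth.NonDeg q W) (h4 : 4 ≤ finrank F W) {c r : κ → F} (hcW : c ∈ W)
    (hrW : r ∈ W) (hc : c ≠ 0) (hr : r ≠ 0) : ∃ t ∈ W, q t = 0 ∧ b t c ≠ 0 ∧ b t r ≠ 0 := by
  by_contra hno
  push Not at hno
  have hhit : ∀ x ∈ W, x ≠ 0 → ∃ t ∈ W, q t = 0 ∧ b t x ≠ 0 := by
    intro x hx hx0
    by_contra hall
    push Not at hall
    refine hx0 (hW x hx fun y hy => ?_)
    exact Orth.le_of_singular_le hq hW (by omega) (N := LinearMap.ker (QuadraticMap.polarBilin q x))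
      (fun t ht hqt => show b x t = 0 by rw [B_comm q]; exact hall t ht hqt) hy
  obtain ⟨t₁, h₁W, h₁, h₁c⟩ := hhit c hcW hc
  obtain ⟨t₂', h₂W', h₂', h₂r'⟩ := hhit r hrW hr
  have h₁r : b t₁ r = 0 := hno t₁ h₁W h₁ h₁c
  have h₂c' : b t₂' c = 0 := by
    by_contra h
    exact h₂r' (hno t₂' h₂W' h₂' h)
  have h12 : b t₁ t₂' ≠ 0 := fun h => by
    refine h₂r' ?_
    have := hno (t₁ + t₂') (W.add_mem h₁W h₂W') (by rw [Q_add q, h₁, h₂', h]; ring)
      (by rw [B_add_left q, h₂c', add_zero]; exact h₁c)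
    rwa [B_add_left q, h₁r, zero_add] at this
  obtain ⟨t₂, ht₂⟩ : ∃ t₂, t₂ = (b t₁ t₂')⁻¹ • t₂' := ⟨_, rfl⟩
  have h₂W : t₂ ∈ W := ht₂ ▸ W.smul_mem _ h₂W'
  have h₂ : q t₂ = 0 := by rw [ht₂, Q_smul q, h₂', mul_zero]
  have h₂c : b t₂ c = 0 := by rw [ht₂, B_smul_left q, h₂c', mul_zero]
  have h₂r : b t₂ r ≠ 0 := by rw [ht₂, B_smul_left q]; exact mul_ne_zero (inv_ne_zero h12) h₂r'
  have e12 : b t₁ t₂ = 1 := by rw [ht₂, B_smul_right q, inv_mul_cancel₀ h12]
  have e21 : b t₂ t₁ = 1 := by rw [B_comm q, e12]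
  obtain ⟨y, hy, hy1, hy2, hyc, hqy⟩ : ∃ y ∈ W, b y t₁ = 0 ∧ b y t₂ = 0 ∧ b y c = 0 ∧ q y ≠ 0 := by
    obtain ⟨s, ⟨hsW, hsp⟩, hs0⟩ := Submodule.exists_mem_ne_zero_of_ne_bot
      (p := W ⊓ Orth.perp q (Submodule.span F (Set.range ![t₁, t₂, c]))) fun h => by
        have := le_finrank_inf_perp (Q := q) (by
          haveI := Fintype.ofFinite F
          exact hq) W (Submodule.span F (Set.range ![t₁, t₂, c]))
        rw [h, finrank_bot] at this
        have := finrank_span_list_le (F := F) ![t₁, t₂, c]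
        omega
    replace hsp := (Orth.mem_perp_span q).1 hsp
    have hs1 : b s t₁ = 0 := by rw [B_comm q]; exact hsp t₁ ⟨0, rfl⟩
    have hs2 : b s t₂ = 0 := by rw [B_comm q]; exact hsp t₂ ⟨1, rfl⟩
    have hsc : b s c = 0 := by rw [B_comm q]; exact hsp c ⟨2, rfl⟩
    by_cases hqs : q s ≠ 0
    · exact ⟨s, hsW, hs1, hs2, hsc, hqs⟩
    push Not at hqs
    obtain ⟨z, hz, hsz⟩ : ∃ z ∈ W, b s z ≠ 0 := by
      by_contra hall
      push Not at hall
      exact hs0 (hW s hsW hall)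
    obtain ⟨D, hD⟩ : ∃ D : Submodule F (κ → F), D = W ⊓ Orth.perp q (Submodule.span F (Set.range ![t₁, t₂])) :=
      ⟨_, rfl⟩
    have hmemD : ∀ x ∈ W, b t₁ x = 0 → b t₂ x = 0 → x ∈ D := fun x hx a1 a2 => hD ▸ ⟨hx, (Orth.mem_perp_span q).2 (by
      rintro _ ⟨i, rfl⟩
      fin_cases i
      · exact a1
      · exact a2)⟩
    obtain ⟨s', hs'D, hs', hss'⟩ := Orth.exists_partner q (W := D) hqs
      (hmemD s hsW (by rw [B_comm q, hs1]) (by rw [B_comm q, hs2]))
      (z := z - b t₂ z • t₁ - b t₁ z • t₂)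
      (hmemD _ (W.sub_mem (W.sub_mem hz (W.smul_mem _ h₁W)) (W.smul_mem _ h₂W))
        (by simp [B_sub_right q, B_smul_right q, B_self_of_singular q h₁, e12])
        (by simp [B_sub_right q, B_smul_right q, B_self_of_singular q h₂, e21]))
      (by rw [B_sub_right q, B_sub_right q, B_smul_right q, B_smul_right q, hs1, hs2, mul_zero, mul_zero, sub_zero,
        sub_zero]; exact hsz)
    have hs'W : s' ∈ W := (hD ▸ hs'D : s' ∈ W ⊓ _).1
    have hs'p : ∀ x ∈ Set.range ![t₁, t₂], b x s' = 0 :=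
      (Orth.mem_perp_span q).1 (hD ▸ hs'D : s' ∈ W ⊓ _).2
    have hs'1 : b s' t₁ = 0 := by rw [B_comm q]; exact hs'p t₁ ⟨0, rfl⟩
    have hs'2 : b s' t₂ = 0 := by rw [B_comm q]; exact hs'p t₂ ⟨1, rfl⟩
    have hs'c : b s' c = 0 := by
      by_contra hne
      have hp := hno (t₂ + s') (W.add_mem h₂W hs'W) (by rw [Q_add q, h₂, hs', B_comm q t₂, hs'2]; ring)
        (by rw [B_add_left q, h₂c, zero_add]; exact hne)
      have hm := hno (t₂ - s') (W.sub_mem h₂W hs'W) (by rw [Q_sub q, h₂, hs', B_comm q t₂, hs'2]; ring)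
        (by rw [B_sub_left q, h₂c, zero_sub]; exact neg_ne_zero.2 hne)
      rw [B_add_left q] at hp
      rw [B_sub_left q] at hm
      exact h₂r ((mul_eq_zero.1 (show (2 : F) * b t₂ r = 0 by linear_combination hp + hm)).resolve_left two)
    refine ⟨s + s', W.add_mem hsW hs'W, by rw [B_add_left q, hs1, hs'1, add_zero],
      by rw [B_add_left q, hs2, hs'2, add_zero], by rw [B_add_left q, hsc, hs'c, add_zero], ?_⟩
    rw [Q_add q, hqs, hs', hss']
    simp
  have hx : ∀ σ : κ → F, σ ∈ W → b σ t₁ = 0 → b σ t₂ = 0 → b σ c = 0 → q σ = q y →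
      (-q y) * b t₂ r + b σ r = 0 := by
    intro σ hσ a1 a2 a3 a4
    have := hno (t₁ + (-q y) • t₂ + σ) (W.add_mem (W.add_mem h₁W (W.smul_mem _ h₂W)) hσ)
      (by
        rw [Q_add q, Q_add q, Q_smul q, B_smul_right q, B_add_left q, B_smul_left q, B_comm q t₁ σ, B_comm q t₂ σ,
          a1, a2, h₁, h₂, e12, a4]
        ring)
      (by rw [B_add_left q, B_add_left q, B_smul_left q, h₂c, a3, mul_zero, add_zero, add_zero]; exact h₁c)
    rwa [B_add_left q, B_add_left q, B_smul_left q, h₁r, zero_add] at this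
  have e1 := hx y hy hy1 hy2 hyc rfl
  have e2 := hx (-y) (W.neg_mem hy) (by rw [B_neg_left q, hy1, neg_zero]) (by rw [B_neg_left q, hy2, neg_zero])
    (by rw [B_neg_left q, hyc, neg_zero]) (Q_neg q y)
  rw [B_neg_left q] at e2
  have : (2 : F) * q y * b t₂ r = 0 := by linear_combination -e1 - e2
  exact mul_ne_zero (mul_ne_zero two hqy) h₂r this

end General

variable {T : TSys ι F n₁ n₂} {Q : QuadraticForm F (ι → F)} {q₁ : QuadraticForm F (Fin n₁ → F)}
variable {q₂ : QuadraticForm F (Fin n₂ → F)} {M : Subgroup (GL ι F)}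

set_option quotPrecheck false in
local notation "B" => QuadraticMap.polar (⇑Q)
set_option quotPrecheck false in
local notation "B₁" => QuadraticMap.polar (⇑q₁)
set_option quotPrecheck false in
local notation "B₂" => QuadraticMap.polar (⇑q₂)

/-- left factors of a moved vector, read off by right contractions -/
theorem range_projFlip_le (C : OCtx T Q q₁ q₂ M) {y : ι → F} {X : Submodule F (Fin n₁ → F)}
    (h : ∀ s ∈ Orth.perp q₁ X, projL T q₁ s y = 0) : LinearMap.range (projFlip T q₂ y) ≤ X := by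
  rintro _ ⟨r, rfl⟩
  rw [← Orth.perp_perp C.h₁ X]
  intro s hs
  show B₁ s (proj T q₂ r y) = 0
  rw [B_proj C, h s hs, B_zero_right q₂]

variable [Finite F] (R : Rigid T Q q₁ q₂ M)
include R

/-- anisotropic layers of the larger factor have rigid stabilisers -/
theorem mem_of_line_one (h4 : 4 ≤ n₁) {g : GL ι F} (hg : g ∈ M) {w w' : Fin n₂ → F} (hw : q₂ w ≠ 0)
    (hw' : q₂ w' ≠ 0) (hl : ∀ x, ∃ d, act g (pt T x w) = pt T d w') :
    g ∈ Cfsg.Geo.tensorProductSubgroup n₁ n₂ T.e T.P := by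
  haveI := Fintype.ofFinite F
  have two := R.ctx.two
  have hn : 5 ≤ n₂ := R.five
  have hgI := M_le_iso R.ctx hg
  have hw0 : w ≠ 0 := fun e => hw (by rw [e, map_zero])
  have hw'w' : B₂ w' w' ≠ 0 := B_self_ne_zero q₂ two hw'
  obtain ⟨A, hAs, hA⟩ := exists_layer_map two hw hw' hl
  have hdim : ∀ x : Fin n₂ → F, finrank F (⊤ : Submodule F (Fin n₂ → F)) ≤
      finrank F ↥((⊤ : Submodule F (Fin n₂ → F)) ⊓ Orth.perp q₂ (F ∙ x)) + 1 :=
    fun x => Orth.le_finrank_inf_perp_one R.ctx.h₂ ⊤ x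
  have hW' := Orth.nonDeg_inf_perp_one (nonDeg_top R.ctx.h₂) two (Submodule.mem_top (x := w')) hw'
  have hdw' := hdim w'
  rw [finrank_top, Module.finrank_fin_fun] at hdw'
  obtain ⟨a, haw, ha0, ha⟩ := Orth.exists_singular q₂
    (D := Orth.perp q₂ (F ∙ w)) (by
      rw [Orth.finrank_perp R.ctx.h₂, finrank_span_singleton hw0, Fintype.card_fin]; omega)
  have hwa : B₂ w a = 0 := haw w (Submodule.mem_span_singleton_self w)
  obtain ⟨a₂, ha₂, ha₂a⟩ := SetLike.not_le_iff_exists.1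
    (show ¬ Orth.perp q₂ (Submodule.span F (Set.range ![w, a])) ≤ F ∙ a from fun h => by
      have h1 := Submodule.finrank_mono h
      have h2 := finrank_span_list_le (F := F) ![w, a]
      rw [Orth.finrank_perp R.ctx.h₂, Fintype.card_fin, finrank_span_singleton ha0] at h1
      omega)
  rw [Orth.mem_perp_span] at ha₂
  have hwa₂ : B₂ w a₂ = 0 := ha₂ w ⟨0, rfl⟩
  have haa₂ : B₂ a a₂ = 0 := ha₂ a ⟨1, rfl⟩
  have hwt : ∀ {t}, q₂ t = 0 → t ≠ 0 → w' ∉ F ∙ t := fun ht _ hm => by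
    obtain ⟨k, rfl⟩ := Submodule.mem_span_singleton.1 hm
    exact hw' (by rw [Q_smul q₂, ht, mul_zero])
  obtain ⟨c, hc0, hc⟩ := layer_engine R.ctx.swap hg (Covered T q₂)
    (fun u₁ u₂ v₁ v₂ h => by
      simp only [pt_swapSys] at h ⊢
      obtain ⟨α, β, hI, e⟩ := orbit_of_covered R hg (covered_two R v₁ v₂ u₁ u₂) h
      exact ⟨β, α, by rwa [gl_swapSys], by rwa [gl_swapSys]⟩)
    (fun u₁ u₂ v₁ v₂ => by simp only [pt_swapSys]; exact covered_two R v₁ v₂ u₁ u₂)
    (u := w) (u' := w') hw' (β := A) hAs (fun x => by rw [pt_swapSys, pt_swapSys, hA])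
    (fun t => q₂ t = 0 ∧ t ≠ 0 ∧ B₂ w' t = 0)
    (fun c r hc hr hc0 hr0 => by
      have hmem : ∀ x, B₂ w' x = 0 → x ∈ (⊤ : Submodule F (Fin n₂ → F)) ⊓ Orth.perp q₂ (F ∙ w') :=
        fun x hx => ⟨Submodule.mem_top, (Orth.mem_perp_span q₂).2 fun z hz => by
          rw [Set.mem_singleton_iff.1 hz]; exact hx⟩
      obtain ⟨t, htW, ht, htc, htr⟩ := exists_singular_both two R.ctx.h₂ hW' (by omega) (hmem c hc) (hmem r hr)
        hc0 hr0
      refine ⟨t, ⟨ht, fun e => htc (by rw [e, B_zero_left q₂]), ?_⟩, htc, htr⟩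
      exact htW.2 w' (Submodule.mem_span_singleton_self w'))
    (fun t ⟨ht, ht0, hw't⟩ y h1 h2 => by
      rw [projL_swapSys] at h1 h2
      exact ⟨t, w', ht, ht0, by rw [B_comm q₂, hw't], hwt ht ht0, h2, h1⟩)
    (a := a) (a₂ := a₂) hwa hwa₂ ha0 ha₂a
    (fun α β' hI h1 h2 v₁ v₂ x => by
      simp only [pt_swapSys]
      rw [gl_swapSys] at hI
      obtain ⟨z₁, z₂, hz⟩ : ∃ z₁ z₂, B₁ (act β' z₁) (act β' z₂) ≠ 0 := by
        obtain ⟨z₂', hz⟩ := exists_B_ne_zero R.ctx.h₁ (x := act β' (Pi.single (⟨0, R.pos₁⟩ : Fin n₁) (1 : F)))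
          (fun h0 => by
            have := congrFun (act_injective β' (h0.trans (map_zero (act β')).symm)) ⟨0, R.pos₁⟩
            simp at this)
        exact ⟨Pi.single ⟨0, R.pos₁⟩ 1, act β'⁻¹ z₂', by rwa [act_act_inv]⟩
      have hiso : ∀ p p', B₁ (act β' z₁) (act β' z₂) * B₂ (act α p) (act α p') = B₁ z₁ z₂ * B₂ p p' := by
        intro p p'
        rw [← R.ctx.form, ← R.ctx.form, ← act_gl_pt, ← act_gl_pt, B_act hI]
      have haa : q₂ (act α a) = 0 := by
        have e := hiso a a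
        rw [B_self_of_singular q₂ ha, mul_zero, mul_eq_zero, or_iff_right hz, B_self q₂, mul_eq_zero] at e
        exact e.resolve_left two
      have haa₂' : B₂ (act α a) (act α a₂) = 0 := by
        have e := hiso a a₂
        rw [haa₂, mul_zero, mul_eq_zero, or_iff_right hz] at e
        exact e
      have hαa : act α a ≠ 0 := fun h0 => ha0 (act_injective α (h0.trans (map_zero _).symm))
      obtain ⟨s, hs, hsa⟩ := SetLike.not_le_iff_exists.1
        (show ¬ Orth.perp q₂ (Submodule.span F (Set.range ![act α a, act α a₂, w'])) ≤ F ∙ act α a from fun h => by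
          have e1 := Submodule.finrank_mono h
          have e2 := finrank_span_list_le (F := F) ![act α a, act α a₂, w']
          rw [Orth.finrank_perp R.ctx.h₂, Fintype.card_fin, finrank_span_singleton hαa] at e1
          omega)
      rw [Orth.mem_perp_span] at hs
      refine ⟨act α a, s, haa, hαa, hs _ ⟨0, rfl⟩, hsa, ?_, ?_⟩
      · rw [map_add, map_add, proj_pt, proj_pt, proj_pt, B_self_of_singular q₂ haa, haa₂',
          B_comm q₂ (act α a) w', h1, zero_smul, zero_smul, zero_smul, add_zero, add_zero]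
      · rw [map_add, map_add, proj_pt, proj_pt, proj_pt, B_comm q₂ s, B_comm q₂ s, B_comm q₂ s,
          show B₂ (act α a) s = 0 from hs _ ⟨0, rfl⟩, show B₂ (act α a₂) s = 0 from hs _ ⟨1, rfl⟩,
          show B₂ w' s = 0 from hs _ ⟨2, rfl⟩, zero_smul, zero_smul, zero_smul, add_zero, add_zero])
    (fun v f₁ f₂ f₃ h => by
      simp only [pt_swapSys, proj_swapSys] at h ⊢
      obtain ⟨α, β, e⟩ := pure_of_line_ker R hg hw hw' hl v hwa (by
        have h1 := Submodule.finrank_mono (range_projFlip_le (y := act g (pt T v a)) R.ctx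
          (X := Submodule.span F (Set.range ![f₁, f₂, f₃])) fun s hs => by
            rw [Orth.mem_perp_span] at hs
            exact h s (by rw [B_comm q₁]; exact hs _ ⟨0, rfl⟩) (by rw [B_comm q₁]; exact hs _ ⟨1, rfl⟩)
              (by rw [B_comm q₁]; exact hs _ ⟨2, rfl⟩))
        have h2 := finrank_span_list_le (F := F) ![f₁, f₂, f₃]
        have h3 := LinearMap.finrank_range_add_finrank_ker (projFlip T q₂ (act g (pt T v a)))
        rw [Module.finrank_fin_fun] at h3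
        omega)
      exact ⟨β, α, by rw [e]⟩)
  simp only [pt_swapSys] at hc
  obtain ⟨x₁, hx₁⟩ : ∃ x : Fin n₁ → F, x ≠ 0 := ⟨Pi.single ⟨0, R.pos₁⟩ 1, by simp⟩
  obtain ⟨x₂, hx₂⟩ := exists_B_ne_zero R.ctx.h₁ hx₁
  have hcs : q₂ c = 0 := by
    have e1 := B_act hgI (pt T x₁ w) (pt T x₂ w)
    have e2 := B_act hgI (pt T x₁ a) (pt T x₂ a)
    rw [hA, hA, R.ctx.form, R.ctx.form] at e1
    rw [hc, hc, R.ctx.form, R.ctx.form, B_self_of_singular q₂ ha, mul_zero] at e2
    have hne : B₁ (A x₁) (A x₂) ≠ 0 := fun h0 => by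
      rw [h0, zero_mul, eq_comm, mul_eq_zero] at e1
      exact e1.elim hx₂ (B_self_ne_zero q₂ two hw)
    rw [mul_eq_zero, or_iff_right hne, B_self q₂, mul_eq_zero] at e2
    exact e2.resolve_left two
  exact mem_of_layer R.ctx R.top R.five R.big hg ha ha0 hcs hc0 fun x => ⟨A x, hc x⟩

/-- an even first factor and an odd second factor one larger: the tensor stabiliser is all of `M` -/
theorem mem_of_gap_oneB (h4 : 4 ≤ n₁) (h1 : Even n₁) (h2 : Odd n₂) (hn : n₂ = n₁ + 1) {g : GL ι F}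
    (hg : g ∈ M) : g ∈ Cfsg.Geo.tensorProductSubgroup n₁ n₂ T.e T.P := by
  haveI := Fintype.ofFinite F
  have two := R.ctx.two
  have hrig : ∀ g ∈ M, ∀ w, q₂ w ≠ 0 → True →
      g * gl T 1 (-refl q₂ w) * g⁻¹ ∈ Cfsg.Geo.tensorProductSubgroup n₁ n₂ T.e T.P →
      g ∈ Cfsg.Geo.tensorProductSubgroup n₁ n₂ T.e T.P := fun g hg w hw _ h => by
    obtain ⟨w', hw', hl⟩ := layer_of_refl R.ctx (by omega) (by omega) (Or.inr h2) hg hw h
    exact mem_of_line_one R h4 hg hw hw' hl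
  have hmem : ∀ w, q₂ w ≠ 0 → True → gl T 1 (-refl q₂ w) ∈ M := fun w hw _ =>
    gl_neg_refl_mem R.ctx R.five h2 h1 hw
  have hkilled : ∀ v₁ v₂ : Fin n₂ → F, ∃ w, q₂ w ≠ 0 ∧ B₂ w v₁ = 0 ∧ B₂ w v₂ = 0 := fun v₁ v₂ => by
    obtain ⟨w, hw, hqw⟩ := Orth.exists_nonsingular R.ctx.h₂
      (D := Orth.perp q₂ (Submodule.span F (Set.range ![v₁, v₂]))) (by
        have h5 := R.five
        have := finrank_span_list_le (F := F) ![v₁, v₂]
        rw [Orth.finrank_perp R.ctx.h₂, Fintype.card_fin]; omega)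
    rw [Orth.mem_perp_span] at hw
    exact ⟨w, hqw, by rw [B_comm q₂]; exact hw _ ⟨0, rfl⟩, by rw [B_comm q₂]; exact hw _ ⟨1, rfl⟩⟩
  have hrigKill : ∀ (u₁ u₂ : Fin n₁ → F) (v₁ v₂ : Fin n₂ → F) (w : Fin n₂ → F), q₂ w ≠ 0 →
      proj T q₂ w (act g (pt T u₁ v₁ + pt T u₂ v₂)) = 0 →
      ∃ a b, act g (pt T u₁ v₁ + pt T u₂ v₂) = act (gl T a b) (pt T u₁ v₁ + pt T u₂ v₂) := by
    intro u₁ u₂ v₁ v₂ w hw h
    obtain ⟨w₀, hw₀, e1, e2⟩ := hkilled v₁ v₂
    obtain ⟨α, β, -, e⟩ := orbit_of_refl R.ctx (fun _ => True) hmem hrig hg hw₀ trivial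
      (by rw [map_add, proj_pt, proj_pt, e1, e2, zero_smul, zero_smul, add_zero]) hw trivial h
    exact ⟨α, β, e⟩
  let K : PreCtx₂ T {w : Fin n₂ → F // q₂ w ≠ 0} g :=
    { ξ := fun w => QuadraticMap.polarBilin q₂ w.1
      lt := R.lt
      nonempty := by
        obtain ⟨w, hw, -⟩ := hkilled 0 0
        exact ⟨⟨w, hw⟩⟩
      sep := fun v hv => by
        obtain ⟨w, hw, hwv, -⟩ := exists_aniso_both two R.ctx.h₂ R.card₂ hv hv
        exact ⟨⟨w, hw⟩, hwv⟩
      rigKill := fun u₁ u₂ v₁ v₂ w h => hrigKill u₁ u₂ v₁ v₂ w.1 w.2 h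
      rigSmall := fun u₁ u₂ v₁ v₂ a₁ a₂ a₃ b₁ b₂ b₃ h => by
        have hdim : 2 ≤ finrank F (Orth.perp q₂ (Submodule.span F (Set.range ![b₁, b₂, b₃]))) := by
          have h5 := R.five
          have := finrank_span_list_le (F := F) ![b₁, b₂, b₃]
          rw [Orth.finrank_perp R.ctx.h₂, Fintype.card_fin]; omega
        have hkill : ∀ s ∈ Orth.perp q₂ (Submodule.span F (Set.range ![b₁, b₂, b₃])),
            proj T q₂ s (act g (pt T u₁ v₁ + pt T u₂ v₂)) = 0 := fun s hs => by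
          rw [Orth.mem_perp_span] at hs
          rw [h, map_add, map_add, proj_pt, proj_pt, proj_pt, B_comm q₂ s, B_comm q₂ s, B_comm q₂ s,
            show B₂ b₁ s = 0 from hs _ ⟨0, rfl⟩, show B₂ b₂ s = 0 from hs _ ⟨1, rfl⟩,
            show B₂ b₃ s = 0 from hs _ ⟨2, rfl⟩, zero_smul, zero_smul, zero_smul, add_zero, add_zero]
        set S := Orth.perp q₂ (Submodule.span F (Set.range ![b₁, b₂, b₃])) with hS
        by_cases hts : ∃ s ∈ S, q₂ s ≠ 0
        · obtain ⟨s, hs, hqs⟩ := hts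
          exact hrigKill u₁ u₂ v₁ v₂ s hqs (hkill s hs)
        push Not at hts
        obtain ⟨e, he, he0⟩ := Submodule.exists_mem_ne_zero_of_ne_bot (p := S) fun h0 => by
          rw [h0, finrank_bot] at hdim; omega
        obtain ⟨s, hs, hse⟩ := SetLike.not_le_iff_exists.1 (show ¬ S ≤ F ∙ e from fun hle => by
          have := Submodule.finrank_mono hle
          rw [finrank_span_singleton he0] at this
          omega)
        have hes : B₂ e s = 0 := by
          have := hts _ (S.add_mem he hs)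
          rwa [Q_add q₂, hts e he, hts s hs, zero_add, zero_add] at this
        obtain ⟨α, β, -, e'⟩ := orbit_of_covered R hg (covered_two R u₁ u₂ v₁ v₂)
          ⟨e, s, hts e he, he0, hes, hse, hkill e he, hkill s hs⟩
        exact ⟨α, β, e'⟩ }
  obtain ⟨α, β, rfl⟩ := exists_gl₂ K R.pos₁ (by omega)
  exact gl_mem T α β

end Cfsg.Agent.MaxCl.OTens
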