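/-
An odd first factor and an even second one one larger: minus reflections of the first factor are rigid; the sums of
two pure tensors over a totally singular plane that move like tensor products form a subspace containing a layer.
-/
import Cfsg.Agent.Lib.MaxCl.OrthTensorGapOneB

set_option autoImplicit false
set_option linter.unusedSectionVars false
set_option linter.unusedSimpArgs false
set_option linter.style.haveILetI false

namespace Cfsg.Agent.MaxCl.OTens

open scoped MatrixGroups Matrix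
open Module (finrank)
open Orth Tens

variable {ι : Type} [Fintype ι] [DecidableEq ι] {F : Type*} [Field F] {n₁ n₂ : ℕ}
variable {T : TSys ι F n₁ n₂} {Q : QuadraticForm F (ι → F)} {q₁ : QuadraticForm F (Fin n₁ → F)}
variable {q₂ : QuadraticForm F (Fin n₂ → F)} {M : Subgroup (GL ι F)}

set_option quotPrecheck false in
local notation "B" => QuadraticMap.polar (⇑Q)
set_option quotPrecheck false in
local notation "B₁" => QuadraticMap.polar (⇑q₁)
set_option quotPrecheck false in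
local notation "B₂" => QuadraticMap.polar (⇑q₂)

/-- a pair spans a line exactly when all its minors vanish -/
theorem mem_line_of_minors {m : ℕ} {v w : Fin m → F} (hw : w ≠ 0) (h : ∀ i j, v i * w j = v j * w i) :
    v ∈ F ∙ w := by
  obtain ⟨i, hi⟩ := Function.ne_iff.1 hw
  refine Submodule.mem_span_singleton.2 ⟨v i / w i, funext fun j => ?_⟩
  rw [Pi.smul_apply, smul_eq_mul, div_mul_eq_mul_div, div_eq_iff hi]
  exact h i j

theorem minors_of_mem_line {m : ℕ} {v w : Fin m → F} (h : v ∈ F ∙ w) (i j : Fin m) :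
    v i * w j = v j * w i := by
  obtain ⟨k, rfl⟩ := Submodule.mem_span_singleton.1 h
  simp only [Pi.smul_apply, smul_eq_mul]; ring

theorem dep_of_minors {m : ℕ} {v w : Fin m → F} (h : ∀ i j, v i * w j = v j * w i) : w = 0 ∨ v ∈ F ∙ w := by
  by_cases hw : w = 0
  · exact Or.inl hw
  · exact Or.inr (mem_line_of_minors hw h)

theorem minors_of_dep {m : ℕ} {v w : Fin m → F} (h : w = 0 ∨ v ∈ F ∙ w) (i j : Fin m) :
    v i * w j = v j * w i := by
  rcases h with rfl | h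
  · simp
  · exact minors_of_mem_line h i j

/-- the linear map `(v, w) ↦ a ⊗ v + a₂ ⊗ w` -/
noncomputable def pairMap (T : TSys ι F n₁ n₂) (a a₂ : Fin n₁ → F) :
    (Fin n₂ → F) × (Fin n₂ → F) →ₗ[F] (ι → F) :=
  (ptR T a).coprod (ptR T a₂)

theorem pairMap_apply (a a₂ : Fin n₁ → F) (v w : Fin n₂ → F) :
    pairMap T a a₂ (v, w) = pt T a v + pt T a₂ w := rfl

theorem pairMap_eq_zero {a a₂ : Fin n₁ → F} (ha0 : a ≠ 0) (hind : a₂ ∉ F ∙ a) {v w : Fin n₂ → F}
    (h : pairMap T a a₂ (v, w) = 0) : v = 0 ∧ w = 0 := by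
  obtain ⟨χ₂, hχ₂0, hχ₂1⟩ := exists_dual _ hind
  have e1 := congrArg (cL T χ₂) h
  rw [pairMap_apply, map_add, cL_pt, cL_pt, hχ₂1, hχ₂0 a (Submodule.mem_span_singleton_self a), zero_smul, zero_add,
    one_smul, map_zero] at e1
  rw [pairMap_apply, e1, pt_zero_right, add_zero, pt_eq_zero, or_iff_right ha0] at h
  exact ⟨h, e1⟩

/-- isometric pure transformations keep totally singular planes -/
theorem moved_plane_singular (C : OCtx T Q q₁ q₂ M) (hn : 0 < n₂) {a a₂ : Fin n₁ → F} (ha : q₁ a = 0)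
    (ha₂ : q₁ a₂ = 0) (haa₂ : B₁ a a₂ = 0) {α : GL (Fin n₁) F} {β : GL (Fin n₂) F}
    (hI : gl T α β ∈ isometryGroup F Q) :
    ∀ x ∈ Submodule.span F (Set.range ![act α a, act α a₂]), q₁ x = 0 := by
  obtain ⟨x₁, hx₁⟩ : ∃ x : Fin n₂ → F, x ≠ 0 := ⟨Pi.single ⟨0, hn⟩ 1, by simp⟩
  obtain ⟨x₂, hx₂⟩ := exists_B_ne_zero C.h₂ (x := act β x₁)
    (fun h0 => hx₁ (act_injective β (h0.trans (map_zero _).symm)))
  have hiso : ∀ p p', B₁ p p' = 0 → B₁ (act α p) (act α p') = 0 := by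
    intro p p' hp
    have e := B_act hI (pt T p x₁) (pt T p' (act β⁻¹ x₂))
    rw [act_gl_pt, act_gl_pt, act_act_inv, C.form, C.form, hp, zero_mul, mul_eq_zero,
      or_iff_left hx₂] at e
    exact e
  have hs : ∀ p, q₁ p = 0 → q₁ (act α p) = 0 := fun p hp => by
    have := hiso p p (B_self_of_singular q₁ hp)
    rw [B_self q₁, mul_eq_zero] at this
    exact this.resolve_left C.two
  intro x hx
  obtain ⟨i, j, rfl⟩ := Orth.mem_span_pair_iff_range.1 hx
  rw [Q_add q₁, Q_smul q₁, Q_smul q₁, B_smul_left q₁, B_smul_right q₁, hs a ha, hs a₂ ha₂, hiso a a₂ haa₂]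
  ring


theorem finrank_ker_pair (A : (Fin n₂ → F) × (Fin n₂ → F) →ₗ[F] (Fin n₂ → F)) :
    n₂ ≤ finrank F (LinearMap.ker A) := by
  have h1 := LinearMap.finrank_range_add_finrank_ker A
  have h2 := Submodule.finrank_le (LinearMap.range A)
  rw [Module.finrank_prod, Module.finrank_fin_fun] at h1
  rw [Module.finrank_fin_fun] at h2
  omega

variable [Finite F] (R : Rigid T Q q₁ q₂ M)
include R

/-- anisotropic layers of the smaller factor have rigid stabilisers -/
theorem mem_of_line_left (top' : TopTrivial (swapSys T) q₁ M) (h5 : 5 ≤ n₁) {g : GL ι F} (hg : g ∈ M)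
    {u u' : Fin n₁ → F} (hu : q₁ u ≠ 0) (hu' : q₁ u' ≠ 0) (hl : ∀ v, ∃ d, act g (pt T u v) = pt T u' d) :
    g ∈ Cfsg.Geo.tensorProductSubgroup n₁ n₂ T.e T.P := by
  haveI := Fintype.ofFinite F
  have two := R.ctx.two
  have hlt := R.lt
  have hgI := M_le_iso R.ctx hg
  have hu0 : u ≠ 0 := fun e => hu (by rw [e, map_zero])
  have hu'0 : u' ≠ 0 := fun e => hu' (by rw [e, map_zero])
  have hu'u' : B₁ u' u' ≠ 0 := B_self_ne_zero q₁ two hu'
  obtain ⟨β, hβ, hlayer⟩ := exists_layer_map (T := swapSys T) (q₂ := q₁) two hu hu' (g := g)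
    (fun v => by simp only [pt_swapSys]; exact hl v)
  simp only [pt_swapSys] at hlayer
  obtain ⟨a, hau, ha0, ha⟩ := Orth.exists_singular q₁ (D := Orth.perp q₁ (F ∙ u)) (by
    rw [Orth.finrank_perp R.ctx.h₁, finrank_span_singleton hu0, Fintype.card_fin]; omega)
  have hua : B₁ u a = 0 := hau u (Submodule.mem_span_singleton_self u)
  obtain ⟨a₂, ha₂, ha₂a⟩ := SetLike.not_le_iff_exists.1 (show ¬ Orth.perp q₁ (F ∙ u) ≤ F ∙ a from fun h => by
    have h1 := Submodule.finrank_mono h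
    rw [Orth.finrank_perp R.ctx.h₁, finrank_span_singleton hu0, Fintype.card_fin, finrank_span_singleton ha0] at h1
    omega)
  have hua₂ : B₁ u a₂ = 0 := ha₂ u (Submodule.mem_span_singleton_self u)
  have hthree : ∀ {y : ι → F} (f₁ f₂ f₃ : Fin n₂ → F),
      (∀ s, B₂ s f₁ = 0 → B₂ s f₂ = 0 → B₂ s f₃ = 0 → proj T q₂ s y = 0) → Covered T q₂ y := fun f₁ f₂ f₃ h => by
    refine covered_of_le R (S := Orth.perp q₂ (Submodule.span F (Set.range ![f₁, f₂, f₃]))) ?_ fun s hs => ?_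
    · have := finrank_span_list_le (F := F) ![f₁, f₂, f₃]
      rw [Orth.finrank_perp R.ctx.h₂, Fintype.card_fin]; omega
    · rw [Orth.mem_perp_span] at hs
      exact h s (by rw [B_comm q₂]; exact hs _ ⟨0, rfl⟩) (by rw [B_comm q₂]; exact hs _ ⟨1, rfl⟩)
        (by rw [B_comm q₂]; exact hs _ ⟨2, rfl⟩)
  obtain ⟨c, hc0, hc⟩ := layer_engine R.ctx hg (Covered T q₂)
    (fun u₁ u₂ v₁ v₂ h => orbit_of_covered R hg (covered_two R u₁ u₂ v₁ v₂) h)
    (covered_two R) (u := u) (u' := u') hu' hβ hlayer (fun t => B₁ u' t = 0 ∧ t ≠ 0)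
    (fun c r hc hr hc0 hr0 => by
      obtain ⟨t, -, htc, htr⟩ := exists_aniso_both two R.ctx.h₁ (by rwa [Fintype.card_fin]) hc0 hr0
      obtain ⟨t', ht'⟩ : ∃ t', t' = t - (B₁ u' t / B₁ u' u') • u' := ⟨_, rfl⟩
      have e : ∀ x, B₁ u' x = 0 → B₁ t' x = B₁ t x := fun x hx => by
        rw [ht', B_sub_left q₁, B_smul_left q₁, hx, mul_zero, sub_zero]
      refine ⟨t', ⟨?_, fun h0 => htc (by rw [← e c hc, h0, B_zero_left q₁])⟩, by rwa [e c hc], by rwa [e r hr]⟩
      rw [ht', B_sub_right q₁, B_smul_right q₁, div_mul_cancel₀ _ hu'u', sub_self])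
    (fun t ⟨hut, ht0⟩ y h1 h2 => covered_of_finrank R (by
      have hX : LinearMap.range (projFlip T q₂ y) ≤ Orth.perp q₁ (Submodule.span F (Set.range ![t, u'])) := by
        rintro _ ⟨r, rfl⟩
        refine (Orth.mem_perp_span q₁).2 ?_
        rintro _ ⟨i, rfl⟩
        fin_cases i
        · show B₁ t (proj T q₂ r y) = 0
          rw [B_proj R.ctx, h2, B_zero_right q₂]
        · show B₁ u' (proj T q₂ r y) = 0
          rw [B_proj R.ctx, h1, B_zero_right q₂]
      have hli : LinearIndependent F ![t, u'] := linearIndependent_fin2.2 ⟨by simpa using hu'0, fun k => by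
        simp only [Matrix.cons_val_zero, Matrix.cons_val_one]
        intro e
        rw [← e, B_smul_right q₁, mul_eq_zero, or_iff_left hu'u'] at hut
        exact ht0 (by rw [← e, hut, zero_smul])⟩
      have h3 := Submodule.finrank_mono hX
      rw [Orth.finrank_perp R.ctx.h₁, finrank_span_eq_card hli, Fintype.card_fin, Fintype.card_fin] at h3
      have h4 := LinearMap.finrank_range_add_finrank_ker (projFlip T q₂ y)
      rw [Module.finrank_fin_fun] at h4
      omega))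
    (a := a) (a₂ := a₂) hua hua₂ ha0 ha₂a
    (fun α β' _ _ _ v₁ v₂ f => hthree (act β' v₁) (act β' v₂) f fun s h1 h2 h3 => by
      rw [map_add, map_add, proj_pt, proj_pt, proj_pt, h1, h2, h3, zero_smul, zero_smul, zero_smul, add_zero,
        add_zero])
    (fun v f₁ f₂ f₃ h => pure_of_covered R hg (hthree f₁ f₂ f₃ h))
  have hcs : q₁ c = 0 := by
    obtain ⟨x₁, hx₁⟩ : ∃ x : Fin n₂ → F, x ≠ 0 := ⟨Pi.single ⟨0, by omega⟩ 1, by simp⟩
    obtain ⟨x₂, hx₂⟩ := exists_B_ne_zero R.ctx.h₂ hx₁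
    have e1 := B_act hgI (pt T u x₁) (pt T u x₂)
    have e2 := B_act hgI (pt T a x₁) (pt T a x₂)
    rw [hlayer, hlayer, R.ctx.form, R.ctx.form] at e1
    rw [hc, hc, R.ctx.form, R.ctx.form, B_self_of_singular q₁ ha, zero_mul] at e2
    have hne : B₂ (β x₁) (β x₂) ≠ 0 := fun h0 => by
      rw [h0, mul_zero, eq_comm, mul_eq_zero] at e1
      exact e1.elim (B_self_ne_zero q₁ two hu) hx₂
    rw [mul_eq_zero, or_iff_left hne, B_self q₁, mul_eq_zero] at e2
    exact e2.resolve_left two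
  rw [← tensor_swapSys]
  exact mem_of_layer R.ctx.swap top' h5 (Or.inl (by omega)) hg ha ha0 hcs hc0 fun v => ⟨β v, by
    rw [pt_swapSys, pt_swapSys, hc]⟩

/-- four pure tensors over two totally singular planes are covered or killed by an anisotropic contraction -/
theorem two_planes (h5 : 5 ≤ n₁) (hn : n₂ = n₁ + 1) {p₁ p₂ p₁' p₂' : Fin n₁ → F}
    (hs : ∀ x ∈ Submodule.span F (Set.range ![p₁, p₂]), q₁ x = 0)
    (hs' : ∀ x ∈ Submodule.span F (Set.range ![p₁', p₂']), q₁ x = 0) (f₁ f₂ f₁' f₂' : Fin n₂ → F) :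
    Covered T q₂ ((pt T p₁ f₁ + pt T p₂ f₂) + (pt T p₁' f₁' + pt T p₂' f₂')) ∨
      ∃ t, q₁ t ≠ 0 ∧ projL T q₁ t ((pt T p₁ f₁ + pt T p₂ f₂) + (pt T p₁' f₁' + pt T p₂' f₂')) = 0 := by
  haveI := Fintype.ofFinite F
  set E := Submodule.span F (Set.range ![p₁, p₂]) with hE
  set E' := Submodule.span F (Set.range ![p₁', p₂']) with hE'
  set y := (pt T p₁ f₁ + pt T (p₂) f₂) +
        (pt T (p₁') f₁' + pt T (p₂') f₂') with hy
  have hkill : ∀ t, B₁ t p₁ = 0 → B₁ t (p₂) = 0 → B₁ t (p₁') = 0 →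
      B₁ t (p₂') = 0 → projL T q₁ t y = 0 := fun t h₁ h₂' h₃ h₄ => by
    rw [hy, map_add, map_add, map_add, projL_pt, projL_pt, projL_pt, projL_pt, h₁, h₂', h₃, h₄]
    simp
  have hmemE : ∀ t ∈ Orth.perp q₁ (E ⊔ E'), projL T q₁ t y = 0 := fun t ht => by
    have h' : ∀ x ∈ E ⊔ E', B₁ t x = 0 := fun x hx => by rw [B_comm q₁]; exact ht x hx
    exact hkill t (h' _ (Submodule.mem_sup_left (Submodule.subset_span ⟨0, rfl⟩)))
      (h' _ (Submodule.mem_sup_left (Submodule.subset_span ⟨1, rfl⟩)))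
      (h' _ (Submodule.mem_sup_right (Submodule.subset_span ⟨0, rfl⟩)))
      (h' _ (Submodule.mem_sup_right (Submodule.subset_span ⟨1, rfl⟩)))
  have hr := Submodule.finrank_mono (range_projFlip_le R.ctx hmemE)
  have hk := LinearMap.finrank_range_add_finrank_ker (projFlip T q₂ y)
  rw [Module.finrank_fin_fun] at hk
  have hE2 : finrank F E ≤ 2 := finrank_span_list_le ![p₁, p₂]
  have hE2' : finrank F E' ≤ 2 := finrank_span_list_le ![p₁', p₂']
  have hsup := Submodule.finrank_sup_add_finrank_inf_eq E E'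
  by_cases h7 : 7 ≤ n₂
  · exact Or.inl (covered_of_finrank R (by omega))
  by_cases hts : ∃ t ∈ Orth.perp q₁ (E ⊔ E'), q₁ t ≠ 0
  · obtain ⟨t, ht, hqt⟩ := hts
    exact Or.inr ⟨t, hqt, hmemE t ht⟩
  push Not at hts
  refine Or.inl (covered_of_finrank R ?_)
  obtain ⟨n₀, hn₀, hn₀0⟩ := Submodule.exists_mem_ne_zero_of_ne_bot (p := Orth.perp q₁ (E ⊔ E')) fun h0 => by
    have := Orth.finrank_perp R.ctx.h₁ (E ⊔ E')
    rw [h0, finrank_bot, Fintype.card_fin] at this
    omega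
  -- a singular normal lies in both planes
  have hin : ∀ P : Submodule F (Fin n₁ → F), P ≤ E ⊔ E' → (∀ x ∈ P, q₁ x = 0) → finrank F P = 2 →
      n₀ ∈ P := by
    intro P hP hPs hP2
    by_contra hn
    have hx : ∀ x ∈ P ⊔ F ∙ n₀, q₁ x = 0 := by
      intro x hx
      obtain ⟨y₁, hy₁, y₂, hy₂, rfl⟩ := Submodule.mem_sup.1 hx
      obtain ⟨k, rfl⟩ := Submodule.mem_span_singleton.1 hy₂
      rw [Q_add q₁, Q_smul q₁, B_smul_right q₁, hPs y₁ hy₁, hts n₀ hn₀,
        show B₁ y₁ n₀ = 0 from hn₀ y₁ (hP hy₁)]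
      ring
    have h3 := Orth.two_mul_finrank_le_of_singular R.ctx.h₁ hx
    have h4 := Submodule.finrank_lt_finrank_of_lt (lt_of_le_not_ge (le_sup_left : P ≤ P ⊔ F ∙ n₀) fun hle =>
      hn (hle (Submodule.mem_sup_right (Submodule.mem_span_singleton_self n₀))))
    rw [Fintype.card_fin] at h3
    omega
  by_contra hlt
  have h2E : finrank F E = 2 := by omega
  have h2E' : finrank F E' = 2 := by omega
  have hmemI : n₀ ∈ E ⊓ E' := ⟨hin E le_sup_left hs h2E, hin E' le_sup_right hs' h2E'⟩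
  have : 0 < finrank F ↥(E ⊓ E') := Nat.pos_of_ne_zero fun h0 => by
    rw [Submodule.finrank_eq_zero] at h0
    rw [h0, Submodule.mem_bot] at hmemI
    exact hn₀0 hmemI
  omega

/-- a subspace containing all anisotropic left contraction kernels meets every axis twice -/
theorem two_le_axis (h5 : 5 ≤ n₁) (hn : n₂ = n₁ + 1) {g : GL ι F} {a a₂ : Fin n₁ → F} (ha0 : a ≠ 0)
    (hind : a₂ ∉ F ∙ a) (G : Submodule F ((Fin n₂ → F) × (Fin n₂ → F)))
    (hker_le : ∀ t, q₁ t ≠ 0 → LinearMap.ker (projL T q₁ t ∘ₗ act g ∘ₗ pairMap T a a₂) ≤ G)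
    (π : (Fin n₂ → F) × (Fin n₂ → F) →ₗ[F] (Fin n₂ → F)) : 2 ≤ finrank F ↥(G ⊓ LinearMap.ker π) := by
  have two := R.ctx.two
  let A : (Fin n₁ → F) → ((Fin n₂ → F) × (Fin n₂ → F) →ₗ[F] (Fin n₂ → F)) := fun t =>
    projL T q₁ t ∘ₗ act g ∘ₗ pairMap T a a₂
  have hker_dim : ∀ t, n₂ ≤ finrank F (LinearMap.ker (A t)) := fun t => finrank_ker_pair _
  by_contra hlt
  have hG : finrank F G ≤ n₂ + 1 := by
    have h1 := LinearMap.finrank_range_add_finrank_ker (π ∘ₗ G.subtype)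
    have h2 := Submodule.finrank_le (LinearMap.range (π ∘ₗ G.subtype))
    rw [Module.finrank_fin_fun] at h2
    have h3 : finrank F (LinearMap.ker (π ∘ₗ G.subtype)) = finrank F ↥(G ⊓ LinearMap.ker π) := by
      rw [← Submodule.finrank_map_subtype_eq G]
      congr 2 <;> rw [LinearMap.ker_comp, Submodule.map_comap_subtype]
    omega
  have himg : ∀ t, q₁ t ≠ 0 → finrank F (G.map (A t)) ≤ 1 := fun t ht => by
    have h1 := LinearMap.finrank_range_add_finrank_ker (A t ∘ₗ G.subtype)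
    have h2 : finrank F (LinearMap.ker (A t)) ≤ finrank F (LinearMap.ker (A t ∘ₗ G.subtype)) := by
      rw [LinearMap.ker_comp]
      exact (Submodule.comapSubtypeEquivOfLe (hker_le t ht)).symm.finrank_eq.le
    have h3 := hker_dim t
    rw [LinearMap.range_comp, Submodule.range_subtype] at h1
    omega
  let L : LinearMap.BilinForm F (Fin n₁ → F) := QuadraticMap.polarBilin q₁
  haveI : Invertible (2 : F) := invertibleOfNonzero two
  have hLs : LinearMap.IsSymm L := ⟨fun x y => B_comm q₁ x y⟩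
  obtain ⟨bs, hbs⟩ := LinearMap.BilinForm.exists_orthogonal_basis hLs
  have hne : ∀ i, q₁ (bs i) ≠ 0 := fun i hi => bs.ne_zero i (R.ctx.h₁.1 _ fun y => by
    have : QuadraticMap.polarBilin q₁ (bs i) = 0 := bs.ext fun j => by
      rcases eq_or_ne i j with rfl | hij
      · exact B_self_of_singular q₁ hi
      · exact hbs hij
    exact LinearMap.congr_fun this y)
  let Φ : G →ₗ[F] ((i : Fin (finrank F (Fin n₁ → F))) → G.map (A (bs i))) :=
    LinearMap.pi fun i => (A (bs i) ∘ₗ G.subtype).codRestrict _ fun p => ⟨p, p.2, rfl⟩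
  have hΦ : Function.Injective Φ := (injective_iff_map_eq_zero Φ).2 fun ⟨⟨v, w⟩, hp⟩ h => by
    have h0 : ∀ i, projL T q₁ (bs i) (act g (pairMap T a a₂ (v, w))) = 0 := fun i => congrArg Subtype.val (congrFun h i)
    have h1 : act g (pairMap T a a₂ (v, w)) = 0 := eq_of_form R.ctx fun x r => by
      rw [B_zero_left Q, form_left R.ctx]
      have : (QuadraticMap.polarBilin Q (act g (pairMap T a a₂ (v, w)))) ∘ₗ ptL T r = 0 := bs.ext fun i => by
        show B (act g (pairMap T a a₂ (v, w))) (pt T (bs i) r) = 0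
        rw [form_left R.ctx, h0, B_zero_left q₂]
      rw [← form_left R.ctx]
      exact LinearMap.congr_fun this x
    obtain ⟨hv, hw⟩ := pairMap_eq_zero ha0 hind (act_injective g (h1.trans (map_zero _).symm))
    simp [hv, hw]
  have h1 := LinearMap.finrank_le_finrank_of_injective hΦ
  rw [Module.finrank_pi_fintype] at h1
  have h2 : ∑ i, finrank F (G.map (A (bs i))) ≤ ∑ _i : Fin (finrank F (Fin n₁ → F)), 1 :=
    Finset.sum_le_sum fun i _ => himg _ (hne i)
  rw [Finset.sum_const, Finset.card_univ, Fintype.card_fin, smul_eq_mul, mul_one] at h2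
  have hd : finrank F (Fin n₁ → F) = n₁ := Module.finrank_fin_fun F
  have h3 := (hker_dim (bs ⟨0, by omega⟩)).trans (Submodule.finrank_mono (hker_le _ (hne ⟨0, by omega⟩)))
  omega

set_option maxHeartbeats 1000000 in
/-- the kernel of a good contraction consists of dependent pairs -/
theorem kernel_dep (h5 : 5 ≤ n₁) (hn : n₂ = n₁ + 1) {g : GL ι F} {a a₂ : Fin n₁ → F} (ha : q₁ a = 0)
    (ha₂ : q₁ a₂ = 0) (haa₂ : B₁ a a₂ = 0) (ha0 : a ≠ 0) (hind : a₂ ∉ F ∙ a)
    (G : Submodule F ((Fin n₂ → F) × (Fin n₂ → F)))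
    (hGmem : ∀ v w, (v, w) ∈ G → ∃ α β, gl T α β ∈ isometryGroup F Q ∧
      act g (pairMap T a a₂ (v, w)) = pt T (act α a) (act β v) + pt T (act α a₂) (act β w))
    {t : Fin n₁ → F} (hker_le : LinearMap.ker (projL T q₁ t ∘ₗ act g ∘ₗ pairMap T a a₂) ≤ G)
    {v₁ w₀ : Fin n₂ → F} (hG₁ : (v₁, 0) ∈ G) (hG₀ : (0, w₀) ∈ G) {ca c₂ : Fin n₁ → F} {da d₂ : Fin n₂ → F}
    (e₁ : act g (pairMap T a a₂ (v₁, 0)) = pt T ca da) (e₀ : act g (pairMap T a a₂ (0, w₀)) = pt T c₂ d₂)
    (hd₂0 : d₂ ≠ 0) (hdd : da ∉ F ∙ d₂) (htca : B₁ t ca ≠ 0) (htc₂ : B₁ t c₂ ≠ 0) :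
    ∀ v w, (v, w) ∈ LinearMap.ker (projL T q₁ t ∘ₗ act g ∘ₗ pairMap T a a₂) → w = 0 ∨ v ∈ F ∙ w := by
  have two := R.ctx.two
  set R₀ := Submodule.span F (Set.range ![da, d₂]) with hR₀
  -- the kernel of the contraction consists of sums of dependent pairs
  have hindep : ∀ v w, (v, w) ∈ LinearMap.ker (projL T q₁ t ∘ₗ act g ∘ₗ pairMap T a a₂) → ¬(w = 0 ∨ v ∈ F ∙ w) →
      ∀ s, B₂ s da = 0 → B₂ s d₂ = 0 → proj T q₂ s (act g (pairMap T a a₂ (v, w))) = 0 := by
    intro v w hp hdep s hsa hs₂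
    push Not at hdep
    obtain ⟨α, β, hI, e⟩ := hGmem _ _ (hker_le hp)
    set f₁ := act β v
    set f₂ := act β w
    have hf₂ : f₂ ≠ 0 := fun h => hdep.1 (act_injective β (h.trans (map_zero _).symm))
    have hf₁ : f₁ ∉ F ∙ f₂ := fun hm => by
      obtain ⟨k, hk⟩ := Submodule.mem_span_singleton.1 hm
      exact hdep.2 (Submodule.mem_span_singleton.2 ⟨k, act_injective β (by rw [map_smul]; exact hk)⟩)
    have htl : B₁ t (act α a) = 0 ∧ B₁ t (act α a₂) = 0 := by
      have h1 : projL T q₁ t (act g (pairMap T a a₂ (v, w))) = 0 := LinearMap.mem_ker.1 hp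
      rw [e, map_add, projL_pt, projL_pt] at h1
      have hc1 : B₁ t (act α a) = 0 := by
        by_contra h
        apply hf₁
        refine Submodule.mem_span_singleton.2 ⟨-(B₁ t (act α a))⁻¹ * B₁ t (act α a₂), ?_⟩
        rw [neg_mul, neg_smul, mul_smul, eq_neg_of_add_eq_zero_right h1, smul_neg, neg_neg, inv_smul_smul₀ h]
      rw [hc1, zero_smul, zero_add, smul_eq_zero] at h1
      exact ⟨hc1, h1.resolve_right hf₂⟩
    have hαa : act α a ≠ 0 := fun h => ha0 (act_injective α (h.trans (map_zero _).symm))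
    have hαa₂ : act α a₂ ∉ F ∙ act α a := fun hm' => by
      obtain ⟨i, hi⟩ := Submodule.mem_span_singleton.1 hm'
      exact hind (Submodule.mem_span_singleton.2 ⟨i, act_injective α (by rw [map_smul, hi])⟩)
    have hstep : ∀ c f v' w', B₁ t c ≠ 0 → (v', w') ∈ G → act g (pairMap T a a₂ (v', w')) = pt T c f →
        f ∈ Submodule.span F (Set.range ![f₁, f₂]) := by
      intro c f v' w' hc hG' e'
      obtain ⟨α', β', -, e''⟩ := hGmem (v + v') (w + w') (by rw [← Prod.mk_add_mk]; exact G.add_mem (hker_le hp) hG')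
      rw [← Prod.mk_add_mk, map_add, map_add, e, e'] at e''
      have hspan : ∀ x ∈ Submodule.span F (Set.range ![act α a, act α a₂]), B₁ t x = 0 := fun x hx => by
        obtain ⟨i, j, rfl⟩ := Orth.mem_span_pair_iff_range.1 hx
        rw [B_add_right q₁, B_smul_right q₁, B_smul_right q₁, htl.1, htl.2]; ring
      refine right_mem_span ?_ ?_ (fun hm => hc (hspan c hm)) hf₁ hf₂ e''
      · intro hm
        obtain ⟨i, j, hij⟩ := Orth.mem_span_pair_iff_range.1 hm
        have h1 := congrArg (B₁ t) hij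
        rw [B_add_right q₁, B_smul_right q₁, B_smul_right q₁, htl.2, mul_zero, zero_add, htl.1, mul_eq_zero,
          or_iff_left hc] at h1
        rw [h1, zero_smul, add_zero] at hij
        have hi : i ≠ 0 := fun h => hαa (by rw [← hij, h, zero_smul])
        exact hαa₂ (Submodule.mem_span_singleton.2 ⟨i⁻¹, by rw [← hij, inv_smul_smul₀ hi]⟩)
      · intro hm
        obtain ⟨i, j, hij⟩ := Orth.mem_span_pair_iff_range.1 hm
        have h1 := congrArg (B₁ t) hij
        rw [B_add_right q₁, B_smul_right q₁, B_smul_right q₁, htl.1, mul_zero, zero_add, htl.2, mul_eq_zero,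
          or_iff_left hc] at h1
        rw [h1, zero_smul, add_zero] at hij
        exact hαa₂ (Submodule.mem_span_singleton.2 ⟨i, hij⟩)
    have hspanR : R₀ = Submodule.span F (Set.range ![f₁, f₂]) :=
      span_pair_eq hd₂0 hdd (hstep ca da v₁ 0 htca hG₁ e₁) (hstep c₂ d₂ 0 w₀ htc₂ hG₀ e₀)
    have hle : R₀ ≤ LinearMap.ker (QuadraticMap.polarBilin q₂ s) := Submodule.span_le.2 (by
      rintro _ ⟨i, rfl⟩
      fin_cases i
      · exact hsa
      · exact hs₂)
    rw [e, map_add, proj_pt, proj_pt,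
      show B₂ s f₁ = 0 from hle (hspanR ▸ Submodule.subset_span ⟨0, rfl⟩),
      show B₂ s f₂ = 0 from hle (hspanR ▸ Submodule.subset_span ⟨1, rfl⟩), zero_smul, zero_smul, add_zero]
  intro v w hp
  by_contra hdep
  have hall : ∀ p ∈ LinearMap.ker (projL T q₁ t ∘ₗ act g ∘ₗ pairMap T a a₂), ∀ s, B₂ s da = 0 → B₂ s d₂ = 0 →
      proj T q₂ s (act g (pairMap T a a₂ p)) = 0 := by
    rintro ⟨v', w'⟩ hp' s hsa hs₂
    by_cases hdep' : ¬(w' = 0 ∨ v' ∈ F ∙ w')
    · exact hindep v' w' hp' hdep' s hsa hs₂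
    push Not at hdep'
    have hsum : ¬(w + w' = 0 ∨ v + v' ∈ F ∙ (w + w')) ∨ ¬(w - w' = 0 ∨ v - v' ∈ F ∙ (w - w')) := by
      by_contra hcon
      push Not at hcon
      refine hdep (dep_of_minors fun i j => ?_)
      have e1 := minors_of_dep hcon.1 i j
      have e2 := minors_of_dep hcon.2 i j
      have e3 := minors_of_dep hdep' i j
      simp only [Pi.add_apply, Pi.sub_apply] at e1 e2
      exact mul_left_cancel₀ two (by linear_combination e1 + e2 - 2 * e3)
    have h0 := hindep v w hp hdep s hsa hs₂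
    rcases hsum with h | h
    · have h' := hindep (v + v') (w + w') 
        (by rw [← Prod.mk_add_mk]; exact Submodule.add_mem _ hp hp') h s hsa hs₂
      rw [← Prod.mk_add_mk, map_add, map_add, map_add, h0, zero_add] at h'
      exact h'
    · have h' := hindep (v - v') (w - w') 
        (by rw [← Prod.mk_sub_mk]; exact Submodule.sub_mem _ hp hp') h s hsa hs₂
      rw [← Prod.mk_sub_mk, map_sub, map_sub, map_sub, h0, zero_sub, neg_eq_zero] at h'
      exact h'
  have hda0 : d₂ ∉ F ∙ da := fun hm => by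
    obtain ⟨k, hk⟩ := Submodule.mem_span_singleton.1 hm
    have hk0 : k ≠ 0 := fun h => hd₂0 (by rw [← hk, h, zero_smul])
    exact hdd (Submodule.mem_span_singleton.2 ⟨k⁻¹, by rw [← hk, inv_smul_smul₀ hk0]⟩)
  obtain ⟨s₁, hs₁, hs₁1⟩ := Orth.exists_perp_one R.ctx.h₂ hdd
  obtain ⟨s₂, hs₂, hs₂1⟩ := Orth.exists_perp_one R.ctx.h₂ hda0
  let N : (Fin n₂ → F) → Submodule F (Fin n₁ → F) := fun s =>
    (LinearMap.ker (projL T q₁ t ∘ₗ act g ∘ₗ pairMap T a a₂)).map (proj T q₂ s ∘ₗ act g ∘ₗ pairMap T a a₂)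
  have hNs : ∀ s, ∀ x ∈ N s, q₁ x = 0 := by
    rintro s _ ⟨⟨v', w'⟩, hp', rfl⟩
    obtain ⟨α, β, hI, e⟩ := hGmem _ _ (hker_le hp')
    show q₁ (proj T q₂ s (act g (pairMap T a a₂ (v', w')))) = 0
    refine moved_plane_singular R.ctx (by omega) ha ha₂ haa₂ hI _ ?_
    rw [e, map_add, proj_pt, proj_pt]
    exact Submodule.add_mem _ (Submodule.smul_mem _ _ (Submodule.subset_span ⟨0, rfl⟩))
      (Submodule.smul_mem _ _ (Submodule.subset_span ⟨1, rfl⟩))
  have hN1 := Orth.two_mul_finrank_le_of_singular R.ctx.h₁ (hNs s₁)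
  have hN2 := Orth.two_mul_finrank_le_of_singular R.ctx.h₁ (hNs s₂)
  let Ψ : LinearMap.ker (projL T q₁ t ∘ₗ act g ∘ₗ pairMap T a a₂) →ₗ[F] N s₁ × N s₂ :=
    ((proj T q₂ s₁ ∘ₗ act g ∘ₗ pairMap T a a₂ ∘ₗ (LinearMap.ker (projL T q₁ t ∘ₗ act g ∘ₗ pairMap T a a₂)).subtype).codRestrict (N s₁)
        fun p => ⟨p, p.2, rfl⟩).prod
      ((proj T q₂ s₂ ∘ₗ act g ∘ₗ pairMap T a a₂ ∘ₗ (LinearMap.ker (projL T q₁ t ∘ₗ act g ∘ₗ pairMap T a a₂)).subtype).codRestrict (N s₂)
        fun p => ⟨p, p.2, rfl⟩)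
  have hΨ : Function.Injective Ψ := (injective_iff_map_eq_zero Ψ).2 fun ⟨⟨v', w'⟩, hp'⟩ h => by
    have h1 : proj T q₂ s₁ (act g (pairMap T a a₂ (v', w'))) = 0 := congrArg (fun x => ((x.1 : N s₁) : Fin n₁ → F)) h
    have h2 : proj T q₂ s₂ (act g (pairMap T a a₂ (v', w'))) = 0 := congrArg (fun x => ((x.2 : N s₂) : Fin n₁ → F)) h
    have hy : act g (pairMap T a a₂ (v', w')) = 0 := eq_of_proj R.ctx fun s => by
      obtain ⟨r, hr⟩ : ∃ r, r = s - B₂ s da • s₁ - B₂ s d₂ • s₂ := ⟨_, rfl⟩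
      have a1 : B₂ s₁ d₂ = 0 := by rw [B_comm q₂]; exact hs₁ d₂ (Submodule.mem_span_singleton_self d₂)
      have a2 : B₂ s₂ da = 0 := by rw [B_comm q₂]; exact hs₂ da (Submodule.mem_span_singleton_self da)
      have a3 : B₂ s₁ da = 1 := by rw [B_comm q₂, hs₁1]
      have a4 : B₂ s₂ d₂ = 1 := by rw [B_comm q₂, hs₂1]
      have h0 := hall (v', w') hp' r (by simp [hr, B_sub_left q₂, B_smul_left q₂, a2, a3])
        (by simp [hr, B_sub_left q₂, B_smul_left q₂, a1, a4])
      rw [hr, proj_sub, proj_sub, proj_smul, proj_smul, h1, h2, smul_zero, smul_zero, sub_zero, sub_zero] at h0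
      rw [h0, map_zero]
    obtain ⟨hv', hw'⟩ := pairMap_eq_zero ha0 hind (act_injective g (hy.trans (map_zero _).symm))
    simp [hv', hw']
  have h1 := LinearMap.finrank_le_finrank_of_injective hΨ
  rw [Module.finrank_prod] at h1
  rw [Fintype.card_fin] at hN1 hN2
  have := finrank_ker_pair (projL T q₁ t ∘ₗ act g ∘ₗ pairMap T a a₂)
  omega

/-- a large space of pure sums moved to pure tensors gives a rigid singular layer -/
theorem mem_of_pure_pairs (top' : TopTrivial (swapSys T) q₁ M) (h5 : 5 ≤ n₁) (hn : n₂ = n₁ + 1) {g : GL ι F}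
    (hg : g ∈ M) {a a₂ : Fin n₁ → F} (ha : q₁ a = 0) (ha₂ : q₁ a₂ = 0) (haa₂ : B₁ a a₂ = 0) (ha0 : a ≠ 0)
    (hind : a₂ ∉ F ∙ a) (K : Submodule F ((Fin n₂ → F) × (Fin n₂ → F))) (hK : n₂ ≤ finrank F K)
    (hdep : ∀ v w, (v, w) ∈ K → w = 0 ∨ v ∈ F ∙ w)
    (hmove : ∀ v w, (v, w) ∈ K → ∃ α β,
      act g (pairMap T a a₂ (v, w)) = act (gl T α β) (pairMap T a a₂ (v, w))) :
    g ∈ Cfsg.Geo.tensorProductSubgroup n₁ n₂ T.e T.P := by
  have two := R.ctx.two
  have hgI := M_le_iso R.ctx hg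
  set L : K →ₗ[F] (ι → F) := pairMap T a a₂ ∘ₗ (K).subtype with hLdef
  have hLinj : Function.Injective L := (injective_iff_map_eq_zero L).2 fun ⟨⟨v, w⟩, hp⟩ h => by
    obtain ⟨hv, hw⟩ := pairMap_eq_zero ha0 hind h
    simp [hv, hw]
  have hLpure : ∀ p, ∃ x r, L p = pt T x r := by
    rintro ⟨⟨v, w⟩, hp⟩
    show ∃ x r, pairMap T a a₂ (v, w) = pt T x r
    rcases hdep v w hp with h | h
    · exact ⟨a, v, by rw [pairMap_apply, h, pt_zero_right, add_zero]⟩
    · obtain ⟨k, rfl⟩ := Submodule.mem_span_singleton.1 h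
      exact ⟨k • a + a₂, w, by rw [pairMap_apply, pt_add_left, pt_smul_comm]⟩
  have hkd := hK
  rcases pure_dichotomy L hLpure with ⟨r, hr⟩ | ⟨x, hx⟩
  · exfalso
    have hle : LinearMap.range L ≤ LinearMap.range (ptL T r) := by
      rintro _ ⟨p, rfl⟩
      obtain ⟨x, e⟩ := hr p
      exact ⟨x, e.symm⟩
    have h1 := (Submodule.finrank_mono hle).trans (LinearMap.finrank_range_le (ptL T r))
    rw [LinearMap.finrank_range_of_inj hLinj, Module.finrank_fin_fun] at h1
    omega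
  · have hle : LinearMap.range L ≤ LinearMap.range (ptR T x) := by
      rintro _ ⟨p, rfl⟩
      obtain ⟨r, e⟩ := hx p
      exact ⟨r, e.symm⟩
    have heq := Submodule.eq_of_le_of_finrank_le hle (by
      refine (LinearMap.finrank_range_le (ptR T x)).trans ?_
      rw [LinearMap.finrank_range_of_inj hLinj, Module.finrank_fin_fun]
      exact hkd)
    have hlift : ∀ r, ∃ v w, (v, w) ∈ K ∧ pairMap T a a₂ (v, w) = pt T x r := fun r => by
      obtain ⟨⟨⟨v, w⟩, hp⟩, e⟩ : pt T x r ∈ LinearMap.range L := heq ▸ ⟨r, rfl⟩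
      exact ⟨v, w, hp, e⟩
    have hx0 : x ≠ 0 := fun h0 => by
      have h1 := LinearMap.finrank_range_of_inj hLinj
      have h2 : LinearMap.range L = ⊥ := by
        rw [heq, LinearMap.range_eq_bot]
        exact LinearMap.ext fun r => by rw [ptR_apply, h0, pt_zero_left]; rfl
      rw [h2, finrank_bot] at h1
      omega
    obtain ⟨x₁, hx₁⟩ : ∃ r : Fin n₂ → F, r ≠ 0 := ⟨Pi.single ⟨0, by omega⟩ 1, by simp⟩
    obtain ⟨x₂, hx₂⟩ := exists_B_ne_zero R.ctx.h₂ hx₁
    have hxs : q₁ x = 0 := by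
      obtain ⟨φ, hφ⟩ : ∃ φ : (Fin n₂ → F) →ₗ[F] F, φ x₁ ≠ 0 :=
        ⟨QuadraticMap.polarBilin q₂ x₂, by show B₂ x₂ x₁ ≠ 0; rwa [B_comm q₂]⟩
      obtain ⟨v, w, -, e⟩ := hlift x₁
      have e' := congrArg (cR T φ) e
      rw [pairMap_apply, map_add, cR_pt, cR_pt, cR_pt] at e'
      have hxe : x = ((φ x₁)⁻¹ * φ v) • a + ((φ x₁)⁻¹ * φ w) • a₂ := by
        rw [mul_smul, mul_smul, ← smul_add, e', inv_smul_smul₀ hφ]
      rw [hxe, Q_add q₁, Q_smul q₁, Q_smul q₁, B_smul_left q₁, B_smul_right q₁, ha, ha₂, haa₂]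
      ring
    have himgp : ∀ r, ∃ c d, act g (pt T x r) = pt T c d := fun r => by
      obtain ⟨v, w, hp, e⟩ := hlift r
      obtain ⟨α, β, e'⟩ := hmove v w hp
      refine ⟨act α x, act β r, ?_⟩
      rw [e] at e'
      rw [e', act_gl_pt]
    have hinj : Function.Injective (act g ∘ₗ ptR T x) := (injective_iff_map_eq_zero _).2 fun r hr =>
      ((pt_eq_zero T).1 (act_injective g (hr.trans (map_zero (act g)).symm))).resolve_left hx0
    rcases pure_dichotomy (act g ∘ₗ ptR T x) himgp with ⟨r, hr⟩ | ⟨c, hc⟩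
    · exfalso
      have hle : LinearMap.range (act g ∘ₗ ptR T x) ≤ LinearMap.range (ptL T r) := by
        rintro _ ⟨p, rfl⟩
        obtain ⟨x', e⟩ := hr p
        exact ⟨x', e.symm⟩
      have h1 := (Submodule.finrank_mono hle).trans (LinearMap.finrank_range_le (ptL T r))
      rw [LinearMap.finrank_range_of_inj hinj, Module.finrank_fin_fun, Module.finrank_fin_fun] at h1
      omega
    · have hc0 : c ≠ 0 := fun h0 => by
        obtain ⟨d, e⟩ := hc x₁
        rw [h0, pt_zero_left] at e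
        exact hx₁ (hinj (e.trans (map_zero _).symm))
      have hcs : q₁ c = 0 := by
        by_contra hcc
        obtain ⟨φ, -, hφ⟩ := exists_dual (⊥ : Submodule F (Fin n₁ → F)) (v := c) (by simpa using hc0)
        have hinj' : Function.Injective (cL T φ ∘ₗ act g ∘ₗ ptR T x) := (injective_iff_map_eq_zero _).2 fun r hr => by
          obtain ⟨d, e⟩ := hc r
          change act g (pt T x r) = pt T c d at e
          have h0 : cL T φ (act g (pt T x r)) = 0 := hr
          rw [e, cL_pt, hφ, one_smul] at h0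
          rw [h0, pt_zero_right] at e
          exact hinj (e.trans (map_zero (act g ∘ₗ ptR T x)).symm)
        obtain ⟨r, hr⟩ := LinearMap.surjective_of_injective hinj' x₂
        obtain ⟨r', hr'⟩ := LinearMap.surjective_of_injective hinj' x₁
        obtain ⟨d, e⟩ := hc r
        obtain ⟨d', e'⟩ := hc r'
        change act g (pt T x r) = pt T c d at e
        change act g (pt T x r') = pt T c d' at e'
        change cL T φ (act g (pt T x r)) = x₂ at hr
        change cL T φ (act g (pt T x r')) = x₁ at hr'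
        rw [e, cL_pt, hφ, one_smul] at hr
        rw [e', cL_pt, hφ, one_smul] at hr'
        have h2 := B_act hgI (pt T x r') (pt T x r)
        rw [e', e, R.ctx.form, R.ctx.form, B_self_of_singular q₁ hxs, zero_mul, hr, hr', mul_eq_zero] at h2
        exact h2.elim (B_self_ne_zero q₁ two hcc) hx₂
      rw [← tensor_swapSys]
      exact mem_of_layer R.ctx.swap top' h5 (Or.inl (by omega)) hg hxs hx0 hcs hc0 fun r => by
        obtain ⟨d, e⟩ := hc r
        exact ⟨d, by rw [pt_swapSys, pt_swapSys]; exact e⟩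

/-- an odd first factor and an even second factor one larger: the tensor stabiliser is all of `M` -/
theorem mem_of_gap_oneA (top' : TopTrivial (swapSys T) q₁ M) (h5 : 5 ≤ n₁) (h1 : Odd n₁) (h2 : Even n₂)
    (hn : n₂ = n₁ + 1) {g : GL ι F} (hg : g ∈ M) : g ∈ Cfsg.Geo.tensorProductSubgroup n₁ n₂ T.e T.P := by
  haveI := Fintype.ofFinite F
  have two := R.ctx.two
  have hgI := M_le_iso R.ctx hg
  have hrig : ∀ g ∈ M, ∀ t, q₁ t ≠ 0 → True →
      g * gl (swapSys T) 1 (-refl q₁ t) * g⁻¹ ∈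
        Cfsg.Geo.tensorProductSubgroup n₂ n₁ (swapSys T).e (swapSys T).P →
      g ∈ Cfsg.Geo.tensorProductSubgroup n₂ n₁ (swapSys T).e (swapSys T).P := fun g hg t ht _ h => by
    obtain ⟨t', ht', hl⟩ := layer_of_refl R.ctx.swap (by omega) (by omega) (Or.inr h1) hg ht h
    simp only [pt_swapSys] at hl
    rw [tensor_swapSys]
    exact mem_of_line_left R top' h5 hg ht ht' hl
  have hmem : ∀ t, q₁ t ≠ 0 → True → gl (swapSys T) 1 (-refl q₁ t) ∈ M := fun t ht _ =>
    gl_neg_refl_mem R.ctx.swap h5 h1 h2 ht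
  have haniso : ∀ u₁ u₂ : Fin n₁ → F, ∃ t, q₁ t ≠ 0 ∧ B₁ t u₁ = 0 ∧ B₁ t u₂ = 0 := fun u₁ u₂ => by
    obtain ⟨t, ht, hqt⟩ := Orth.exists_nonsingular R.ctx.h₁
      (D := Orth.perp q₁ (Submodule.span F (Set.range ![u₁, u₂]))) (by
        have := finrank_span_list_le (F := F) ![u₁, u₂]
        rw [Orth.finrank_perp R.ctx.h₁, Fintype.card_fin]; omega)
    rw [Orth.mem_perp_span] at ht
    exact ⟨t, hqt, by rw [B_comm q₁]; exact ht _ ⟨0, rfl⟩, by rw [B_comm q₁]; exact ht _ ⟨1, rfl⟩⟩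
  -- sums of two pure tensors whose image is covered or killed move like tensor products
  have horbit : ∀ u₁ u₂ v₁ v₂, (Covered T q₂ (act g (pt T u₁ v₁ + pt T u₂ v₂)) ∨
      ∃ t, q₁ t ≠ 0 ∧ projL T q₁ t (act g (pt T u₁ v₁ + pt T u₂ v₂)) = 0) →
      ∃ α β, gl T α β ∈ isometryGroup F Q ∧
        act g (pt T u₁ v₁ + pt T u₂ v₂) = act (gl T α β) (pt T u₁ v₁ + pt T u₂ v₂) := by
    rintro u₁ u₂ v₁ v₂ (h | ⟨t, ht, h⟩)
    · exact orbit_of_covered R hg (covered_two R u₁ u₂ v₁ v₂) h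
    obtain ⟨t₀, ht₀, e1, e2⟩ := haniso u₁ u₂
    obtain ⟨β, α, hI, e⟩ := orbit_of_refl R.ctx.swap (fun _ => True) hmem hrig hg ht₀ trivial
      (x := pt T u₁ v₁ + pt T u₂ v₂)
      (by rw [proj_swapSys, map_add, projL_pt, projL_pt, e1, e2, zero_smul, zero_smul, add_zero]) ht trivial
      (by rw [proj_swapSys]; exact h)
    exact ⟨α, β, by rwa [← gl_swapSys], by rwa [← gl_swapSys]⟩
  -- a totally singular plane
  obtain ⟨a, -, ha0, ha⟩ := Orth.exists_singular q₁ (D := (⊤ : Submodule F (Fin n₁ → F))) (by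
    rw [finrank_top, Module.finrank_fin_fun]; omega)
  obtain ⟨a₂, ha₂p, hind, ha₂⟩ := Orth.exists_singular_notMem q₁ (D := Orth.perp q₁ (F ∙ a)) (E := F ∙ a) (by
    rw [Orth.finrank_perp R.ctx.h₁, finrank_span_singleton ha0, Fintype.card_fin]; omega)
  have haa₂ : B₁ a a₂ = 0 := ha₂p a (Submodule.mem_span_singleton_self a)
  -- the pairs moved like tensor products
  let G : Submodule F ((Fin n₂ → F) × (Fin n₂ → F)) :=
    { carrier := {p | ∃ α β, gl T α β ∈ isometryGroup F Q ∧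
        act g (pairMap T a a₂ p) = act (gl T α β) (pairMap T a a₂ p)}
      zero_mem' := ⟨1, 1, by rw [gl_one]; exact one_mem _, by rw [map_zero, map_zero, map_zero]⟩
      add_mem' := by
        rintro ⟨v, w⟩ ⟨v', w'⟩ ⟨α, β, hI, e⟩ ⟨α', β', hI', e'⟩
        show ∃ α'' β'', gl T α'' β'' ∈ isometryGroup F Q ∧
          act g (pairMap T a a₂ (v + v', w + w')) = act (gl T α'' β'') (pairMap T a a₂ (v + v', w + w'))
        rw [pairMap_apply]
        refine horbit a a₂ (v + v') (w + w') ?_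
        rw [← pairMap_apply, ← Prod.mk_add_mk, map_add, map_add, e, e', pairMap_apply, pairMap_apply,
          map_add, map_add, act_gl_pt, act_gl_pt, act_gl_pt, act_gl_pt]
        exact two_planes R h5 hn (moved_plane_singular R.ctx (by omega) ha ha₂ haa₂ hI)
          (moved_plane_singular R.ctx (by omega) ha ha₂ haa₂ hI') _ _ _ _
      smul_mem' := by
        rintro k p ⟨α, β, hI, e⟩
        exact ⟨α, β, hI, by rw [map_smul, map_smul, map_smul, e]⟩ }
  have hGmem : ∀ v w, (v, w) ∈ G → ∃ α β, gl T α β ∈ isometryGroup F Q ∧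
      act g (pairMap T a a₂ (v, w)) = pt T (act α a) (act β v) + pt T (act α a₂) (act β w) := by
    rintro v w ⟨α, β, hI, e⟩
    exact ⟨α, β, hI, by rw [e, pairMap_apply, map_add, act_gl_pt, act_gl_pt]⟩
  have hker_le : ∀ t, q₁ t ≠ 0 → LinearMap.ker (projL T q₁ t ∘ₗ act g ∘ₗ pairMap T a a₂) ≤ G := by
    rintro t ht ⟨v, w⟩ hp
    exact horbit a a₂ v w (Or.inr ⟨t, ht, LinearMap.mem_ker.1 hp⟩)
  have haxis := two_le_axis R h5 hn ha0 hind G hker_le
  -- good pure tensors on both axes with independent second factors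
  obtain ⟨⟨v₀', w₀⟩, ⟨hG₀, hv₀'⟩, hw₀⟩ := Submodule.exists_mem_ne_zero_of_ne_bot
    (p := G ⊓ LinearMap.ker (LinearMap.fst F (Fin n₂ → F) (Fin n₂ → F))) fun h0 => by
      have := haxis (LinearMap.fst F _ _)
      rw [h0, finrank_bot] at this; omega
  obtain rfl : v₀' = 0 := hv₀'
  have hw₀0 : w₀ ≠ 0 := fun h => hw₀ (by rw [h]; rfl)
  obtain ⟨⟨v₁, w₁'⟩, ⟨hG₁, hw₁'⟩, hv₁⟩ := SetLike.not_le_iff_exists.1 (show ¬ G ⊓ LinearMap.ker
      (LinearMap.snd F (Fin n₂ → F) (Fin n₂ → F)) ≤ F ∙ ((w₀, 0) : (Fin n₂ → F) × (Fin n₂ → F)) from fun h => by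
    have h1 := Submodule.finrank_mono h
    have h2 := haxis (LinearMap.snd F _ _)
    rw [finrank_span_singleton (by simp [hw₀0])] at h1
    omega)
  obtain rfl : w₁' = 0 := hw₁'
  have hv₁w : v₁ ∉ F ∙ w₀ := fun hm => hv₁ (by
    obtain ⟨k, rfl⟩ := Submodule.mem_span_singleton.1 hm
    exact Submodule.mem_span_singleton.2 ⟨k, by simp⟩)
  have hv₁0 : v₁ ≠ 0 := fun h => hv₁w (h ▸ Submodule.zero_mem _)
  obtain ⟨α₁, β₁, hI₁, e₁⟩ := hGmem _ _ hG₁
  obtain ⟨α₀, β₀, hI₀, e₀⟩ := hGmem _ _ hG₀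
  rw [map_zero, pt_zero_right, add_zero] at e₁
  rw [map_zero, pt_zero_right, zero_add] at e₀
  set ca := act α₁ a with hca
  set da := act β₁ v₁ with hda
  set c₂ := act α₀ a₂ with hc₂
  set d₂ := act β₀ w₀ with hd₂
  have hca0 : ca ≠ 0 := fun h => ha0 (act_injective α₁ (h.trans (map_zero _).symm))
  have hc₂0 : c₂ ≠ 0 := fun h => hind (by rw [act_injective α₀ (h.trans (map_zero _).symm)]; exact Submodule.zero_mem _)
  have hd₂0 : d₂ ≠ 0 := fun h => hw₀0 (act_injective β₀ (h.trans (map_zero _).symm))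
  have hdd : da ∉ F ∙ d₂ := fun hm => by
    obtain ⟨k, hk⟩ := Submodule.mem_span_singleton.1 hm
    obtain ⟨α, β, hI, e⟩ := hGmem (v₁ + 0) (0 + w₀) (by rw [← Prod.mk_add_mk]; exact G.add_mem hG₁ hG₀)
    rw [add_zero, zero_add] at e
    have e' : pt T (act α a) (act β v₁) + pt T (act α a₂) (act β w₀) = pt T (k • ca + c₂) d₂ := by
      rw [← e, show ((v₁, w₀) : (Fin n₂ → F) × (Fin n₂ → F)) = (v₁, 0) + (0, w₀) by simp, map_add, map_add, e₁, e₀,
        pt_add_left, pt_smul_comm, hk]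
    have hαa : act α a ≠ 0 := fun h => ha0 (act_injective α (h.trans (map_zero _).symm))
    have hαa₂ : act α a₂ ∉ F ∙ act α a := fun hm' => by
      obtain ⟨i, hi⟩ := Submodule.mem_span_singleton.1 hm'
      exact hind (Submodule.mem_span_singleton.2 ⟨i, act_injective α (by rw [map_smul, hi])⟩)
    obtain ⟨i, hi⟩ := Submodule.mem_span_singleton.1
      (share T e' (fun h => hv₁0 (act_injective β (h.trans (map_zero _).symm))) hαa hαa₂)
    have hi0 : i ≠ 0 := fun h => hw₀0 (act_injective β (by rw [← hi, h, zero_smul, map_zero]))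
    refine hv₁w (Submodule.mem_span_singleton.2 ⟨i⁻¹, act_injective β ?_⟩)
    rw [map_smul, ← hi, inv_smul_smul₀ hi0]
  obtain ⟨t, ht, htca, htc₂⟩ := exists_aniso_both two R.ctx.h₁ (by rwa [Fintype.card_fin]) hca0 hc₂0
  exact mem_of_pure_pairs R top' h5 hn hg ha ha₂ haa₂ ha0 hind _ (finrank_ker_pair _)
    (kernel_dep R h5 hn ha ha₂ haa₂ ha0 hind G hGmem (hker_le t ht) hG₁ hG₀ e₁ e₀ hd₂0 hdd htca htc₂)
    fun v w hp => by
      obtain ⟨α, β, -, e⟩ := hker_le t ht hp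
      exact ⟨α, β, e⟩

end Cfsg.Agent.MaxCl.OTens
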