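/-
Stabilisers of tensor decompositions of orthogonal spaces are maximal in the derived group: the forms of the
factors, properness, and the case of two odd factors.
-/
import Cfsg.Agent.Lib.MaxCl.OrthTensorGap

set_option autoImplicit false
set_option linter.unusedSectionVars false
set_option linter.unusedSimpArgs false

namespace Cfsg.Agent.MaxCl.OTens

open scoped MatrixGroups Matrix Kronecker
open Module (finrank)
open Orth Tens

variable {ι : Type} [Fintype ι] [DecidableEq ι] {F : Type*} [Field F] {n₁ n₂ : ℕ}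

/-- a multiple of a symmetric form is the polar form of a quadratic form -/
theorem exists_polar (two : (2 : F) ≠ 0) {n : ℕ} {f : (Fin n → F) → (Fin n → F) → F}
    (hf : Cfsg.Geo.IsSymmetricForm f) {c : F} (hc : c ≠ 0) :
    ∃ q : QuadraticForm F (Fin n → F), (QuadraticMap.polarBilin q).Nondegenerate ∧
      ∀ x y, QuadraticMap.polar q x y = c * f x y := by
  let L : LinearMap.BilinMap F (Fin n → F) F := (c / 2) • LinearMap.mk₂ F f hf.bilinear.add_left
    (fun a x y => by rw [hf.bilinear.smul_left, smul_eq_mul]) hf.bilinear.add_right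
    (fun a x y => by rw [hf.bilinear.smul_right, smul_eq_mul])
  have hp : ∀ x y, QuadraticMap.polar L.toQuadraticMap x y = c * f x y := fun x y => by
    rw [LinearMap.BilinMap.polar_toQuadraticMap]
    show c / 2 * f x y + c / 2 * f y x = _
    rw [hf.symm y x]
    field_simp
    ring
  refine ⟨L.toQuadraticMap, ⟨fun x hx => ?_, fun x hx => ?_⟩, hp⟩
  · by_contra hne
    obtain ⟨y, hy⟩ := (hf.nondegenerate x hne).2
    have := hx y
    rw [QuadraticMap.polarBilin_apply_apply, hp, mul_eq_zero, or_iff_right hc] at this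
    exact hy this
  · by_contra hne
    obtain ⟨y, hy⟩ := (hf.nondegenerate x hne).1
    have := hx y
    rw [QuadraticMap.polarBilin_apply_apply, hp, mul_eq_zero, or_iff_right hc] at this
    exact hy this

variable {Q : QuadraticForm F (ι → F)}

/-- the forms of the factors of a tensor structure -/
theorem exists_factor_forms (two : (2 : F) ≠ 0) (T : TSys ι F n₁ n₂) {f₁ : (Fin n₁ → F) → (Fin n₁ → F) → F}
    {f₂ : (Fin n₂ → F) → (Fin n₂ → F) → F} (hf₁ : Cfsg.Geo.IsSymmetricForm f₁)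
    (hf₂ : Cfsg.Geo.IsSymmetricForm f₂)
    (hT : Cfsg.Geo.IsTensorFormStructure id (QuadraticMap.polar Q) f₁ f₂ T.e T.P) :
    ∃ (q₁ : QuadraticForm F (Fin n₁ → F)) (q₂ : QuadraticForm F (Fin n₂ → F)),
      (QuadraticMap.polarBilin q₁).Nondegenerate ∧ (QuadraticMap.polarBilin q₂).Nondegenerate ∧
      (∀ v, q₂ v = 2⁻¹ * f₂ v v) ∧
      ∀ u v u' v', QuadraticMap.polar Q (pt T u v) (pt T u' v') =
        QuadraticMap.polar q₁ u u' * QuadraticMap.polar q₂ v v' := by
  obtain ⟨c, hc, hT⟩ := hT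
  obtain ⟨q₁, h₁, e₁⟩ := exists_polar two hf₁ hc
  obtain ⟨q₂, h₂, e₂⟩ := exists_polar two hf₂ one_ne_zero
  refine ⟨q₁, q₂, h₁, h₂, fun v => ?_, fun u v u' v' => ?_⟩
  · have := e₂ v v
    rw [B_self q₂, one_mul] at this
    rw [← this, inv_mul_cancel_left₀ two]
  · have e : ∀ x, emb T x = (T.P : Matrix ι ι F) *ᵥ (x ∘ T.e) := fun x => act_apply T.P _
    rw [pt, pt, e, e, hT,
      show (fun p : Fin n₁ × Fin n₂ => u p.1 * v p.2) = Orth.pure2 u v from rfl,
      show (fun p : Fin n₁ × Fin n₂ => u' p.1 * v' p.2) = Orth.pure2 u' v' from rfl,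
      Orth.formOfGram_pure2 hf₁.bilinear hf₂.bilinear, e₁, e₂]
    ring

variable {T : TSys ι F n₁ n₂} {q₁ : QuadraticForm F (Fin n₁ → F)} {q₂ : QuadraticForm F (Fin n₂ → F)}
variable {M : Subgroup (GL ι F)}

set_option quotPrecheck false in
local notation "B₂" => QuadraticMap.polar (⇑q₂)

/-- the tensor stabiliser does not contain the derived group -/
theorem exists_notMem [Finite F] (C : OCtx T Q q₁ q₂ (Cfsg.Geo.omegaGL Q)) :
    ∃ g ∈ Cfsg.Geo.omegaGL Q, g ∉ Cfsg.Geo.tensorProductSubgroup n₁ n₂ T.e T.P := by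
  have h1 := C.three₁
  have h2 := C.three₂
  obtain ⟨e, -, he0, he⟩ := Orth.exists_singular q₂ (D := (⊤ : Submodule F (Fin n₂ → F))) (by
    rw [finrank_top, Module.finrank_fin_fun]; omega)
  obtain ⟨u', -, hu'0, hu'⟩ := Orth.exists_singular q₁ (D := (⊤ : Submodule F (Fin n₁ → F))) (by
    rw [finrank_top, Module.finrank_fin_fun]; omega)
  obtain ⟨u, -, hu⟩ := SetLike.not_le_iff_exists.1 (show ¬ (⊤ : Submodule F (Fin n₁ → F)) ≤ F ∙ u' from fun h => by
    have := Submodule.finrank_mono h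
    rw [finrank_top, Module.finrank_fin_fun, finrank_span_singleton hu'0] at this
    omega)
  obtain ⟨v, hv, hve⟩ := SetLike.not_le_iff_exists.1 (show ¬ Orth.perp q₂ (F ∙ e) ≤ F ∙ e from fun h => by
    have := Submodule.finrank_mono h
    rw [Orth.finrank_perp C.h₂, finrank_span_singleton he0, Fintype.card_fin] at this
    omega)
  have hu0 : u ≠ 0 := fun h => hu (h ▸ Submodule.zero_mem _)
  have hu'u : u' ∉ F ∙ u := fun h => by
    obtain ⟨k, hk⟩ := Submodule.mem_span_singleton.1 h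
    have hk0 : k ≠ 0 := fun e => hu'0 (by rw [← hk, e, zero_smul])
    exact hu (Submodule.mem_span_singleton.2 ⟨k⁻¹, by rw [← hk, inv_smul_smul₀ hk0]⟩)
  have hev : B₂ e v = 0 := hv e (Submodule.mem_span_singleton_self e)
  have hz0 : pt T u e + pt T u' v ≠ 0 := fun h0 =>
    hve (share T (h0.trans (pt_zero_left T e).symm) he0 hu0 hu'u)
  obtain ⟨s, hs, hsz⟩ := exists_move_exact C.two C.hQ (five_le C) (u := pt T u' e) (z := pt T u e + pt T u' v)
    (by rw [Q_pt C, he, mul_zero]) (by rw [Ne, pt_eq_zero]; tauto)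
    (by
      rw [Q_add Q, Q_pt C, Q_pt C, he, hu', C.form, hev]
      ring) hz0
  refine ⟨s, (omega_eq_sgGroup C.hQ (five_le C)).symm ▸ hs, fun hmem => hve ?_⟩
  obtain ⟨a, b, rfl⟩ := exists_of_mem T hmem
  rw [act_gl_pt] at hsz
  exact share T hsz.symm he0 hu0 hu'u

/-- **two odd factors**: the tensor stabiliser is maximal -/
theorem isMaximalIn_of_odd [Fintype F] (two : (2 : F) ≠ 0) (hQ : (QuadraticMap.polarBilin Q).Nondegenerate)
    (h₁ : (QuadraticMap.polarBilin q₁).Nondegenerate) (h₂ : (QuadraticMap.polarBilin q₂).Nondegenerate)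
    (form : ∀ u v u' v', QuadraticMap.polar Q (pt T u v) (pt T u' v') =
      QuadraticMap.polar q₁ u u' * QuadraticMap.polar q₂ v v')
    (h3 : 3 ≤ n₁) (h12 : n₁ < n₂) (o₁ : Odd n₁) (o₂ : Odd n₂) (hex : ¬ (Fintype.card F = 3 ∧ n₁ = 3)) :
    Cfsg.Geo.IsMaximalIn (Cfsg.Geo.omegaGL Q)
      (Cfsg.Geo.tensorProductSubgroup n₁ n₂ T.e T.P ⊓ Cfsg.Geo.omegaGL Q) := by
  have mk : ∀ M : Subgroup (GL ι F),
      Cfsg.Geo.tensorProductSubgroup n₁ n₂ T.e T.P ⊓ Cfsg.Geo.omegaGL Q ≤ M → M ≤ Cfsg.Geo.omegaGL Q →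
      OCtx T Q q₁ q₂ M := fun M hle hM =>
    ⟨two, hQ, h₁, h₂, form, h3, by omega, hM, fun a b h => hle ⟨gl_mem T a b, h⟩⟩
  refine Orth.isMaximalIn_inf (exists_notMem (mk _ inf_le_right le_rfl)) fun M hle hM ⟨g, hg, hgS⟩ => ?_
  have C := mk M hle hM
  obtain ⟨k₁, hk₁⟩ := o₁
  have h5 : 5 ≤ n₂ := by obtain ⟨k₂, hk₂⟩ := o₂; omega
  by_cases hT : TopTrivial T q₂ M
  swap
  · exact (eq_omega_of_top C h5 (fun h => by omega) hT).ge
  have hbig : 4 ≤ n₁ ∨ ∃ t : F, t ≠ 0 ∧ t * t ≠ 1 := by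
    rcases Nat.lt_or_ge n₁ 4 with h | h
    · refine Or.inr (Orth.exists_ne_sq ?_)
      have hc1 := Fintype.one_lt_card (α := F)
      have hc2 : Fintype.card F ≠ 3 := fun e => hex ⟨e, by omega⟩
      by_contra hlt
      have hc : Fintype.card F = 2 := by omega
      exact two (by
        have := FiniteField.cast_card_eq_zero F
        rw [hc] at this
        exact_mod_cast this)
    · exact Or.inl h
  obtain ⟨k₂, hk₂⟩ := o₂
  exact absurd (mem_of_odd ⟨C, hT, h5, h12, hbig⟩ (by omega) ⟨k₁, hk₁⟩ ⟨k₂, hk₂⟩ hg) hgS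

end Cfsg.Agent.MaxCl.OTens
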