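/-
Stabilisers of tensor decompositions into an odd factor and an even factor of minus type are maximal in the
derived group.
-/
import Cfsg.Agent.Lib.MaxCl.OrthTensorMax
import Cfsg.Agent.Lib.MaxCl.OrthTensorGapOneA

set_option autoImplicit false
set_option linter.unusedSectionVars false

namespace Cfsg.Agent.MaxCl.OTens

open scoped MatrixGroups Matrix
open Module (finrank)
open Orth Tens

variable {ι : Type} [Fintype ι] [DecidableEq ι] {F : Type*} [Field F] {n₁ n₂ : ℕ}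
variable {T : TSys ι F n₁ n₂} {Q : QuadraticForm F (ι → F)} {q₁ : QuadraticForm F (Fin n₁ → F)}
variable {q₂ : QuadraticForm F (Fin n₂ → F)}

/-- **an odd and an even minus factor**: the tensor stabiliser is maximal -/
theorem isMaximalIn_minus [Fintype F] (two : (2 : F) ≠ 0) (hQ : (QuadraticMap.polarBilin Q).Nondegenerate)
    (h₁ : (QuadraticMap.polarBilin q₁).Nondegenerate) (h₂ : (QuadraticMap.polarBilin q₂).Nondegenerate)
    (form : ∀ u v u' v', QuadraticMap.polar Q (pt T u v) (pt T u' v') =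
      QuadraticMap.polar q₁ u u' * QuadraticMap.polar q₂ v v')
    (h3 : 3 ≤ n₁) (h4 : 4 ≤ n₂) (o₁ : Odd n₁) (e₂ : Even n₂) (hn : 13 ≤ n₁ * n₂)
    (hm : n₂ = 4 → ∀ a b, q₂ a = 0 → q₂ b = 0 → QuadraticMap.polar q₂ a b = 0 → a ≠ 0 → b ∈ F ∙ a)
    (hex : ¬ (Fintype.card F = 3 ∧ n₁ = 3)) :
    Cfsg.Geo.IsMaximalIn (Cfsg.Geo.omegaGL Q)
      (Cfsg.Geo.tensorProductSubgroup n₁ n₂ T.e T.P ⊓ Cfsg.Geo.omegaGL Q) := by
  have mk : ∀ M : Subgroup (GL ι F),
      Cfsg.Geo.tensorProductSubgroup n₁ n₂ T.e T.P ⊓ Cfsg.Geo.omegaGL Q ≤ M → M ≤ Cfsg.Geo.omegaGL Q →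
      OCtx T Q q₁ q₂ M := fun M hle hM =>
    ⟨two, hQ, h₁, h₂, form, h3, by omega, hM, fun a b h => hle ⟨gl_mem T a b, h⟩⟩
  refine Orth.isMaximalIn_inf (exists_notMem (mk _ inf_le_right le_rfl)) fun M hle hM ⟨g, hg, hgS⟩ => ?_
  have C := mk M hle hM
  obtain ⟨k₁, hk₁⟩ := o₁
  obtain ⟨k₂, hk₂⟩ := e₂
  have hne : n₁ ≠ n₂ := by omega
  rcases Nat.lt_or_ge n₁ n₂ with hlt | hge
  · have h5 : 5 ≤ n₂ := by
      by_contra h
      have : n₁ = 3 := by omega
      subst this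
      omega
    have hbig : 4 ≤ n₁ ∨ ∃ t : F, t ≠ 0 ∧ t * t ≠ 1 := by
      rcases Nat.lt_or_ge n₁ 4 with h | h
      · refine Or.inr (Orth.exists_ne_sq ?_)
        have hc1 := Fintype.one_lt_card (α := F)
        have hc2 : Fintype.card F ≠ 3 := fun e => hex ⟨e, by omega⟩
        by_contra hcon
        have hc : Fintype.card F = 2 := by omega
        exact two (by
          have := FiniteField.cast_card_eq_zero F
          rw [hc] at this
          exact_mod_cast this)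
      · exact Or.inl h
    by_cases hT : TopTrivial T q₂ M
    swap
    · exact (eq_omega_of_top C h5 (fun h => by omega) hT).ge
    have R : Rigid T Q q₁ q₂ M := ⟨C, hT, h5, hlt, hbig⟩
    by_cases hgap : n₁ + 3 ≤ n₂
    · exact absurd (mem_of_gap R hgap hg) hgS
    have h51 : 5 ≤ n₁ := by
      by_contra h
      have : n₁ = 3 := by omega
      subst this
      omega
    by_cases hT' : TopTrivial (swapSys T) q₁ M
    swap
    · exact (eq_omega_of_top C.swap h51 (fun h => by omega) hT').ge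
    exact absurd (mem_of_gap_oneA R hT' h51 ⟨k₁, hk₁⟩ ⟨k₂, hk₂⟩ (by omega) hg) hgS
  · have h51 : 5 ≤ n₁ := by omega
    by_cases hT' : TopTrivial (swapSys T) q₁ M
    swap
    · exact (eq_omega_of_top C.swap h51 hm hT').ge
    have R : Rigid (swapSys T) Q q₂ q₁ M := ⟨C.swap, hT', h51, by omega, Or.inl h4⟩
    by_cases hgap : n₂ + 3 ≤ n₁
    · exact absurd (tensor_swapSys T ▸ mem_of_gap R hgap hg) hgS
    exact absurd (tensor_swapSys T ▸ mem_of_gap_oneB R h4 ⟨k₂, hk₂⟩ ⟨k₁, hk₁⟩ (by omega) hg) hgS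

end Cfsg.Agent.MaxCl.OTens
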