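/-
Small geometry of a symplectic space: prescribed values, and relations invariant under transvections and linear in
the second argument spread from one pair of orthogonal independent vectors to all orthogonal pairs.
-/
import Mathlib
import Cfsg.Agent.Lib.MaxCl.SympRoot
import Cfsg.Agent.Lib.MaxCl.SympStab

set_option autoImplicit false

namespace Cfsg.Agent.MaxCl.SP

open scoped MatrixGroups Matrix
open Module (finrank)

variable {κ : Type} [Fintype κ] [DecidableEq κ] {F : Type*} [Field F]
variable {f : (κ → F) → (κ → F) → F}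
variable (hf : Cfsg.Geo.IsSymplecticForm f)
include hf

theorem exists_vec {W : Submodule F (κ → F)} {v : κ → F} (hv : v ∉ W) :
    ∃ x, (∀ w ∈ W, f w x = 0) ∧ f v x = 1 := by
  obtain ⟨φ, h0, h1⟩ := exists_dual W hv
  obtain ⟨x, hx⟩ := exists_repr hf φ
  exact ⟨x, fun w hw => by rw [← hx]; exact h0 w hw, by rw [← hx]; exact h1⟩

theorem exists_one {v : κ → F} (hv : v ≠ 0) : ∃ x, f v x = 1 := by
  obtain ⟨x, -, hx⟩ := exists_vec hf (W := ⊥) (v := v) (by simpa using hv)
  exact ⟨x, hx⟩

theorem exists_zero_one {a v : κ → F} (hv : v ∉ F ∙ a) : ∃ x, f a x = 0 ∧ f v x = 1 := by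
  obtain ⟨x, h0, hx⟩ := exists_vec hf hv
  exact ⟨x, h0 a (Submodule.mem_span_singleton_self a), hx⟩

theorem exists_zero_zero_one {a b v : κ → F} (hv : v ∉ Submodule.span F ({a, b} : Set (κ → F))) :
    ∃ x, f a x = 0 ∧ f b x = 0 ∧ f v x = 1 := by
  obtain ⟨x, h0, hx⟩ := exists_vec hf hv
  exact ⟨x, h0 a (Submodule.subset_span (Set.mem_insert a _)),
    h0 b (Submodule.subset_span (Set.mem_insert_of_mem a rfl)), hx⟩

/-- a vector orthogonal to given vectors outside the span of others -/
theorem exists_perp_notMem {k m : ℕ} (a : Fin k → (κ → F)) (b : Fin m → (κ → F))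
    (h : k + m < Fintype.card κ) :
    ∃ x, (∀ i, f (a i) x = 0) ∧ x ∉ Submodule.span F (Set.range b) := by
  set W := Submodule.span F (Set.range a) with hW
  have hk : finrank F W ≤ k := (finrank_range_le_card a).trans_eq (Fintype.card_fin k)
  have hm : finrank F (Submodule.span F (Set.range b)) ≤ m :=
    (finrank_range_le_card b).trans_eq (Fintype.card_fin m)
  have hd := finrank_perp hf W
  obtain ⟨x, hx, hxb⟩ := SetLike.not_le_iff_exists.1 (show ¬ perp hf W ≤ Submodule.span F (Set.range b) from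
    fun hle => by have := Submodule.finrank_mono hle; omega)
  refine ⟨x, fun i => ?_, hxb⟩
  exact f_eq_zero_symm hf ((mem_perp hf).1 hx (a i) (Submodule.subset_span ⟨i, rfl⟩))

theorem act_stv_inv (y : κ → F) (d : F) (x : κ → F) : act (stv hf y d) (act (stv hf y (-d)) x) = x := by
  rw [← act_mul, stv_add hf, add_neg_cancel, stv_zero hf, act_one]

/-- transvections are transitive on non-zero vectors -/
theorem trans_all {Φ : (κ → F) → Prop} (hinv : ∀ y d a, Φ a → Φ (act (stv hf y d) a)) {a : κ → F}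
    (ha : a ≠ 0) (h : Φ a) {b : κ → F} (hb : b ≠ 0) : Φ b := by
  have step : ∀ a b, f a b ≠ 0 → Φ a → Φ b := by
    intro a b hab ha
    have := hinv (b - a) (1 / f a b) a ha
    rwa [act_stv hf, f_sub_right hf, f_self hf, sub_zero, one_div_mul_cancel hab, one_smul,
      add_sub_cancel] at this
  obtain ⟨z, h1, h2⟩ := exists_f_ne_two hf ha hb
  exact step z b h2 (step a z (f_ne_symm hf h1) h)

/-- one orthogonal independent pair gives all orthogonal pairs -/
theorem pair_all (Pr : (κ → F) → (κ → F) → Prop)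
    (hadd : ∀ a b b', f a b = 0 → f a b' = 0 → Pr a b → Pr a b' → Pr a (b + b'))
    (hsmul : ∀ a b (k : F), f a b = 0 → Pr a b → Pr a (k • b)) (hzero : ∀ b, Pr 0 b)
    (hinv : ∀ y d a b, f a b = 0 → Pr a b → Pr (act (stv hf y d) a) (act (stv hf y d) b))
    {a b : κ → F} (ha : a ≠ 0) (hb : b ∉ F ∙ a) (hab : f a b = 0) (h : Pr a b) :
    ∀ a' b', f a' b' = 0 → Pr a' b' := by
  have hone : ∀ y, f a y = 0 → f b y = 1 → Pr a y := by
    intro y hay hby
    have h1 := hinv y 1 a b hab h
    rw [act_stv hf, act_stv hf, hay, hby, mul_zero, zero_smul, add_zero, one_mul, one_smul] at h1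
    have := hadd a (b + y) ((-1 : F) • b) (by rw [f_add_right hf, hab, hay, add_zero])
      (by rw [f_smul_right hf, hab, mul_zero]) h1 (hsmul a b (-1) hab h)
    rwa [neg_one_smul, add_neg_cancel_comm] at this
  have hall : ∀ y, f a y = 0 → Pr a y := by
    intro y hay
    obtain ⟨y₀, hay₀, hby₀⟩ := exists_zero_one hf hb
    rcases ne_or_eq (f b y) 0 with hby | hby
    · have := hsmul a _ (f b y) (by rw [f_smul_right hf, hay, mul_zero])
        (hone ((f b y)⁻¹ • y) (by rw [f_smul_right hf, hay, mul_zero])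
          (by rw [f_smul_right hf, inv_mul_cancel₀ hby]))
      rwa [smul_inv_smul₀ hby] at this
    · have h1 := hone (y + y₀) (by rw [f_add_right hf, hay, hay₀, add_zero])
        (by rw [f_add_right hf, hby, hby₀, zero_add])
      have := hadd a (y + y₀) ((-1 : F) • y₀) (by rw [f_add_right hf, hay, hay₀, add_zero])
        (by rw [f_smul_right hf, hay₀, mul_zero]) h1 (hsmul a y₀ (-1) hay₀ (hone y₀ hay₀ hby₀))
      rwa [neg_one_smul, add_neg_cancel_right] at this
  intro a' b' hab'
  rcases eq_or_ne a' 0 with rfl | ha'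
  · exact hzero b'
  refine trans_all hf (Φ := fun x => ∀ y, f x y = 0 → Pr x y) (fun y d x hx z hz => ?_) ha hall ha' b' hab'
  have hx' : f x (act (stv hf y (-d)) z) = 0 := by
    rw [← mem_isoGroup.1 (stv_mem hf y d), act_stv_inv hf]; exact hz
  have := hinv y d x _ hx' (hx _ hx')
  rwa [act_stv_inv hf] at this

end Cfsg.Agent.MaxCl.SP
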