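/-
A quadratic form on `U ⊗ W`, both factors symplectic, vanishing on pure tensors: the transvections of one factor are
products of long root elements, and the long root elements of the lines `⟨u ⊗ w, u' ⊗ w⟩`, `f₁(u, u') = 0`, generate
the derived orthogonal group when `dim U ≥ 4`.
-/
import Mathlib
import Cfsg.Agent.Lib.MaxCl.OrthBase
import Cfsg.Agent.Lib.MaxCl.SympPairs

set_option autoImplicit false

namespace Cfsg.Agent.MaxCl.OPair

open scoped MatrixGroups Matrix
open Module (finrank)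

variable {ι : Type} [Fintype ι] [DecidableEq ι] {F : Type*} [Field F] {a b : ℕ}

/-- a symplectic tensor decomposition of a quadratic space -/
structure Pairing (Q : QuadraticForm F (ι → F)) (f₁ : (Fin a → F) → (Fin a → F) → F)
    (f₂ : (Fin b → F) → (Fin b → F) → F) (c : F)
    (P : (Fin a → F) →ₗ[F] (Fin b → F) →ₗ[F] (ι → F)) : Prop where
  hQ : (QuadraticMap.polarBilin Q).Nondegenerate
  five : 5 ≤ Fintype.card ι
  h₁ : Cfsg.Geo.IsSymplecticForm f₁
  h₂ : Cfsg.Geo.IsSymplecticForm f₂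
  c_ne : c ≠ 0
  sing : ∀ u v, Q (P u v) = 0
  form : ∀ u v u' v', QuadraticMap.polar (⇑Q) (P u v) (P u' v') = c * (f₁ u u' * f₂ v v')
  ext : ∀ L : (ι → F) →ₗ[F] F, (∀ u v, L (P u v) = 0) → L = 0

variable {Q : QuadraticForm F (ι → F)} {f₁ : (Fin a → F) → (Fin a → F) → F}
  {f₂ : (Fin b → F) → (Fin b → F) → F} {c : F} {P : (Fin a → F) →ₗ[F] (Fin b → F) →ₗ[F] (ι → F)}

set_option quotPrecheck false in
local notation "B" => QuadraticMap.polar (⇑Q)

theorem Pairing.flip (C : Pairing Q f₁ f₂ c P) : Pairing Q f₂ f₁ c P.flip where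
  hQ := C.hQ
  five := C.five
  h₁ := C.h₂
  h₂ := C.h₁
  c_ne := C.c_ne
  sing u v := C.sing v u
  form u v u' v' := by
    rw [LinearMap.flip_apply, LinearMap.flip_apply, C.form, mul_comm (f₁ v v')]
  ext L hL := C.ext L fun u v => hL v u

variable (C : Pairing Q f₁ f₂ c P)
include C

theorem act_line {p q : ι → F} (hp : Q p = 0) (hq : Q q = 0) (h : B p q = 0) (e : F) (x : ι → F) :
    act (Orth.sg Q p (e • q)) x = x + (e * B p x) • q - (e * B q x) • p := by
  rw [Orth.act_sg Q hp (by rw [Orth.B_smul_right Q, h, mul_zero]), Orth.B_smul_left Q, Orth.Q_smul Q, hq]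
  module

theorem B_line (v : Fin a → F) (z y : Fin b → F) : B (P v z) (P v y) = 0 := by
  rw [C.form, C.h₁.alternating, zero_mul, mul_zero]

/-- products of root elements on the lines of `v ⊗ W` give all `1 + f₁(·, v) v ⊗ L` -/
theorem transvection_mem {M : Subgroup (GL ι F)} (v : Fin a → F)
    (hM : ∀ (z y : Fin b → F) (e : F), Orth.sg Q (P v z) (e • P v y) ∈ M)
    (L : (Fin b → F) →ₗ[F] (Fin b → F)) (hL : ∀ x, f₂ (L x) x = 0) :
    ∃ g ∈ M, ∀ u w, act g (P u w) = P u w + f₁ u v • P v (L w) := by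
  have hL' : ∀ s t, f₂ (L s) t = f₂ s (L t) := by
    intro s t
    have h := hL (s + t)
    rw [map_add, f_add_left C.h₂, f_add_right C.h₂, f_add_right C.h₂, hL, hL, zero_add, add_zero] at h
    rw [C.h₂.skew s]
    linear_combination h
  obtain ⟨k, hk⟩ : ∃ k, finrank F (LinearMap.range L) ≤ k := ⟨_, le_rfl⟩
  induction k generalizing L with
  | zero =>
    have h0 : L = 0 := LinearMap.range_eq_bot.1 (Submodule.finrank_eq_zero.1 (Nat.le_zero.1 hk))
    exact ⟨1, M.one_mem, fun u w => by rw [act_one, h0]; simp⟩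
  | succ k ih =>
    by_cases h0 : L = 0
    · exact ⟨1, M.one_mem, fun u w => by rw [act_one, h0]; simp⟩
    obtain ⟨x, hx⟩ : ∃ x, L x ≠ 0 := by
      by_contra hno; push Not at hno
      exact h0 (LinearMap.ext hno)
    obtain ⟨y, hy⟩ := SP.exists_one C.h₂ hx
    let A : (Fin b → F) →ₗ[F] (Fin b → F) :=
      (toBil C.h₂.bilinear (L x)).smulRight (L y) - (toBil C.h₂.bilinear (L y)).smulRight (L x)
    have hA : ∀ t, A t = f₂ (L x) t • L y - f₂ (L y) t • L x := fun t => by simp [A, toBil_apply]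
    have hyx : f₂ (L y) x = -1 := by rw [hL', C.h₂.skew, hy]
    have hker : LinearMap.ker L < LinearMap.ker (L - A) := by
      refine SetLike.lt_iff_le_and_exists.2 ⟨fun t ht => ?_, x, ?_, hx⟩
      · rw [LinearMap.mem_ker] at ht ⊢
        rw [LinearMap.sub_apply, hA, hL', hL', ht, f_zero_right C.h₂, f_zero_right C.h₂]
        simp
      · rw [LinearMap.mem_ker, LinearMap.sub_apply, hA, hL, hyx]
        module
    obtain ⟨g, hg, hgact⟩ := ih (L - A) (fun t => by
        rw [LinearMap.sub_apply, f_sub_left C.h₂, hL, hA, f_sub_left C.h₂, f_smul_left C.h₂, f_smul_left C.h₂]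
        ring) (fun s t => by
        show f₂ (L s - A s) t = f₂ s (L t - A t)
        rw [hA, hA, f_sub_left C.h₂, f_sub_right C.h₂, hL' s t,
          f_sub_left C.h₂, f_sub_right C.h₂, f_smul_left C.h₂, f_smul_left C.h₂, f_smul_right C.h₂,
          f_smul_right C.h₂, C.h₂.skew s (L x), C.h₂.skew s (L y)]
        ring) (by
        have h1 := Submodule.finrank_lt_finrank_of_lt hker
        have h2 := LinearMap.finrank_range_add_finrank_ker L
        have h3 := LinearMap.finrank_range_add_finrank_ker (L - A)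
        omega)
    refine ⟨g * Orth.sg Q (P v (L x)) (-c⁻¹ • P v (L y)), M.mul_mem hg (hM _ _ _), fun u w => ?_⟩
    rw [act_mul, act_line C (C.sing _ _) (C.sing _ _) (B_line C _ _ _), C.form, C.form]
    simp only [map_add, map_sub, map_smul, hgact, C.h₁.alternating, zero_smul, add_zero, C.h₁.skew v u,
      LinearMap.sub_apply, hA]
    have e : ∀ r : F, -c⁻¹ * (c * (-f₁ u v * r)) = f₁ u v * r := fun r => by
      have := C.c_ne
      field_simp
    rw [e, e]
    module

variable [Finite F]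

/-- transvections of the first factor lie in the derived group -/
theorem transvection_mem_omega (v : Fin a → F) (d : F) :
    ∃ g ∈ Cfsg.Geo.omegaGL Q, ∀ u w, act g (P u w) = P u w + (d * f₁ u v) • P v w := by
  obtain ⟨g, hg, h⟩ := transvection_mem C v (fun z y e => Orth.sg_mem_omega C.hQ C.five _ _)
    (d • LinearMap.id) (fun x => by simp [f_smul_left C.h₂, C.h₂.alternating])
  refine ⟨g, hg, fun u w => ?_⟩
  rw [h, LinearMap.smul_apply, LinearMap.id_apply, map_smul, smul_smul, mul_comm]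

variable {M : Subgroup (GL ι F)}

omit [Finite F] C in
/-- the root elements of `M` at `x` -/
def rootsAt (x : ι → F) (hx : Q x = 0) (M : Subgroup (GL ι F)) : Submodule F (ι → F) where
  carrier := {t | B x t = 0 ∧ ∀ e : F, Orth.sg Q x (e • t) ∈ M}
  zero_mem' := ⟨Orth.B_zero_right Q x, fun e => by rw [smul_zero, Orth.sg_zero Q]; exact M.one_mem⟩
  add_mem' {t t'} h h' := ⟨by rw [Orth.B_add_right Q, h.1, h'.1, add_zero], fun e => by
    rw [smul_add, ← Orth.sg_add Q hx (by rw [Orth.B_smul_right Q, h.1, mul_zero])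
      (by rw [Orth.B_smul_right Q, h'.1, mul_zero])]
    exact M.mul_mem (h.2 e) (h'.2 e)⟩
  smul_mem' k t h := ⟨by rw [Orth.B_smul_right Q, h.1, mul_zero], fun e => by rw [smul_smul]; exact h.2 _⟩

/-- all lines `⟨u ⊗ w, u' ⊗ w⟩` give the derived group -/
theorem omega_le_of_lines (ha : 4 ≤ a) (hb0 : 0 < b) (hab : 5 ≤ a ∨ 3 ≤ b)
    (hline : ∀ u u' w, f₁ u u' = 0 → ∀ e : F, Orth.sg Q (P u w) (e • P u' w) ∈ M) :
    Cfsg.Geo.omegaGL Q ≤ M := by
  suffices hfull : ∀ e w, e ≠ 0 → w ≠ 0 → Orth.Full Q M (P e w) by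
    obtain ⟨e, he⟩ : ∃ e : Fin a → F, e ≠ 0 := ⟨Pi.single ⟨0, by omega⟩ 1, by simp⟩
    obtain ⟨w, hw⟩ : ∃ w : Fin b → F, w ≠ 0 := ⟨Pi.single ⟨0, by omega⟩ 1, by simp⟩
    obtain ⟨f, hf⟩ := SP.exists_one C.h₁ he
    obtain ⟨z, hz⟩ := SP.exists_one C.h₂ hw
    refine Orth.omega_le_of_full C.hQ C.five (C.sing e w) (C.sing f z) ?_ (hfull e w he hw)
      (hfull f z (fun h => by rw [h, f_zero_right C.h₁] at hf; exact zero_ne_one hf)
        (fun h => by rw [h, f_zero_right C.h₂] at hz; exact zero_ne_one hz))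
    rw [C.form, hf, hz, mul_one, mul_one]
    exact C.c_ne
  intro e w he hw
  set x := P e w with hx
  set N := rootsAt x (C.sing e w) M with hN
  suffices hall : ∀ t, B x t = 0 → t ∈ N from fun t ht => by simpa using (hall t ht).2 1
  have move : ∀ t ∈ N, ∀ v v' z, f₁ v v' = 0 → B (P v z) x = 0 → B (P v' z) x = 0 →
      B (P v z) t • P v' z - B (P v' z) t • P v z ∈ N := by
    intro t ht v v' z hvv hv hv'
    have hpq : B (P v z) (P v' z) = 0 := by rw [C.form, hvv, zero_mul, mul_zero]
    set h := Orth.sg Q (P v z) ((1 : F) • P v' z) with hh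
    have hhM : h ∈ M := hline v v' z hvv 1
    have hhI : h ∈ isometryGroup F Q := Orth.sg_mem_iso Q _ _
    have hact : ∀ y, act h y = y + B (P v z) y • P v' z - B (P v' z) y • P v z := fun y => by
      rw [hh, act_line C (C.sing _ _) (C.sing _ _) hpq, one_mul, one_mul]
    have hhx : act h x = x := by rw [hact, hv, hv']; module
    have ht' : act h t ∈ N := by
      refine ⟨by rw [← hhx, Orth.B_act hhI, ht.1], fun k => ?_⟩
      rw [← map_smul, ← hhx, ← Orth.conj_sg Q hhI]
      exact M.mul_mem (M.mul_mem hhM (ht.2 k)) (M.inv_mem hhM)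
    have := N.sub_mem ht' ht
    rwa [hact, add_sub_assoc, add_sub_cancel_left] at this
  have cancel : ∀ {k : F}, k ≠ 0 → ∀ {t}, k • t ∈ N → t ∈ N := fun {k} hk {t} h => by
    have := N.smul_mem k⁻¹ h
    rwa [inv_smul_smul₀ hk] at this
  have step0 : ∀ u, f₁ e u = 0 → P u w ∈ N := fun u hu =>
    ⟨by rw [C.form, hu, zero_mul, mul_zero], hline e u w hu⟩
  obtain ⟨f₀, hf₀⟩ := SP.exists_one C.h₁ he
  obtain ⟨w₀, hw₀⟩ := SP.exists_one C.h₂ hw
  have step1 : ∀ z, P e z ∈ N := by
    have h1 : ∀ z, f₂ z w ≠ 0 → P e z ∈ N := by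
      intro z hz
      obtain ⟨v, hv, hve⟩ := SP.exists_perp_notMem C.h₁ ![e] ![e] (by simp; omega)
      have hev : f₁ e v = 0 := hv 0
      obtain ⟨u, hu0, hu1⟩ := SP.exists_zero_one C.h₁ (a := e) (v := v) (by
        simpa [Matrix.range_cons, Matrix.range_empty] using hve)
      have := move _ (step0 u hu0) v e z (f_eq_zero_symm C.h₁ hev)
        (by rw [C.form, f_eq_zero_symm C.h₁ hev, zero_mul, mul_zero])
        (by rw [C.form, C.h₁.alternating, zero_mul, mul_zero])
      rw [C.form, C.form, hu1, hu0] at this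
      simp only [one_mul, zero_mul, mul_zero, zero_smul, sub_zero] at this
      exact cancel (mul_ne_zero C.c_ne hz) this
    intro z
    rcases ne_or_eq (f₂ z w) 0 with hz | hz
    · exact h1 z hz
    · have hw₀' : f₂ w₀ w ≠ 0 := f_ne_symm C.h₂ (by rw [hw₀]; exact one_ne_zero)
      have := N.sub_mem (h1 (z + w₀) (by rwa [f_add_left C.h₂, hz, zero_add])) (h1 w₀ hw₀')
      rwa [map_add, add_sub_cancel_right] at this
  have step2 : ∀ u z, f₁ e u = 0 → f₂ w z = 0 → P u z ∈ N := by
    intro u z hu hz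
    by_cases hue : u ∈ F ∙ e
    · obtain ⟨k, rfl⟩ := Submodule.mem_span_singleton.1 hue
      rw [map_smul, LinearMap.smul_apply]
      exact N.smul_mem k (step1 z)
    rcases eq_or_ne z 0 with rfl | hz0
    · rw [map_zero]; exact N.zero_mem
    obtain ⟨v, hv0, hv1⟩ := SP.exists_zero_one C.h₁ (a := u) (v := e) (fun h => hue (by
      obtain ⟨k, hk⟩ := Submodule.mem_span_singleton.1 h
      exact Submodule.mem_span_singleton.2 ⟨k⁻¹, by
        rw [← hk, inv_smul_smul₀]; rintro rfl; exact he (by rw [← hk, zero_smul])⟩))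
    obtain ⟨z', hz'⟩ := SP.exists_one C.h₂ hz0
    have := move _ (step1 z') v u z (f_eq_zero_symm C.h₁ hv0)
      (by rw [C.form, f_eq_zero_symm C.h₂ hz, mul_zero, mul_zero])
      (by rw [C.form, f_eq_zero_symm C.h₁ hu, zero_mul, mul_zero])
    rw [C.form, C.form, f_eq_zero_symm C.h₁ hu] at this
    simp only [zero_mul, mul_zero, zero_smul, sub_zero] at this
    exact cancel (mul_ne_zero C.c_ne (mul_ne_zero (f_ne_symm C.h₁ (by rw [hv1]; exact one_ne_zero))
      (by rw [hz']; exact one_ne_zero))) this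
  have step3 : ∀ z, f₂ w z = 0 → P f₀ z ∈ N := by
    have h1 : ∀ z, f₂ w z = 0 → z ∉ F ∙ w → P f₀ z ∈ N := by
      intro z hz hzw
      obtain ⟨v, hv, hvn⟩ := SP.exists_perp_notMem C.h₁ ![e, f₀] ![f₀] (by simp; omega)
      have hev : f₁ e v = 0 := hv 0
      have hfv : f₁ f₀ v = 0 := hv 1
      obtain ⟨r, hr0, hr1⟩ := SP.exists_zero_one C.h₁ (a := f₀) (v := v) (by
        simpa [Matrix.range_cons, Matrix.range_empty] using hvn)
      obtain ⟨z', hz'0, hz'1⟩ := SP.exists_zero_one C.h₂ (a := w) (v := z) hzw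
      have := move _ (step2 v z' hev hz'0) f₀ r z hr0
        (by rw [C.form, f_eq_zero_symm C.h₂ hz, mul_zero, mul_zero])
        (by rw [C.form, f_eq_zero_symm C.h₂ hz, mul_zero, mul_zero])
      rw [C.form, C.form, hfv, hz'1, C.h₁.skew r v, hr1] at this
      simp only [zero_mul, mul_zero, zero_smul, zero_sub, mul_one, mul_neg, neg_smul, neg_neg] at this
      exact cancel C.c_ne this
    intro z hz
    by_cases hzw : z ∈ F ∙ w
    · rcases hab with ha5 | hb
      · rcases eq_or_ne z 0 with rfl | hz0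
        · rw [map_zero]; exact N.zero_mem
        obtain ⟨v, hv, hvn⟩ := SP.exists_perp_notMem C.h₁ ![e, f₀] ![f₀] (by simp; omega)
        have hev : f₁ e v = 0 := hv 0
        have hfv : f₁ f₀ v = 0 := hv 1
        obtain ⟨r, hr0, hr1⟩ := SP.exists_zero_one C.h₁ (a := f₀) (v := v) (by
          simpa [Matrix.range_cons, Matrix.range_empty] using hvn)
        obtain ⟨z', hz'⟩ := SP.exists_one C.h₂ hz0
        have hz'w : f₂ z' w ≠ 0 := fun h => by
          obtain ⟨k, rfl⟩ := Submodule.mem_span_singleton.1 hzw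
          rw [f_smul_left C.h₂, f_eq_zero_symm C.h₂ h, mul_zero] at hz'
          exact zero_ne_one hz'
        -- `v ⊗ z'` is a parameter: `⟨e, v⟩^⊥` is larger than `⟨e, v⟩`
        have hvz : P v z' ∈ N := by
          obtain ⟨s, hs, hsn⟩ := SP.exists_perp_notMem C.h₁ ![e, v] ![e, v] (by simp; omega)
          have hes : f₁ e s = 0 := hs 0
          have hvs : f₁ v s = 0 := hs 1
          obtain ⟨u, hu0, hu0', hu1⟩ := SP.exists_zero_zero_one C.h₁ (a := e) (b := v) (v := s) (by
            simpa [Matrix.range_cons, Matrix.range_empty, Set.pair_comm] using hsn)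
          have := move _ (step0 u hu0) s v z' (f_eq_zero_symm C.h₁ hvs)
            (by rw [C.form, f_eq_zero_symm C.h₁ hes, zero_mul, mul_zero])
            (by rw [C.form, f_eq_zero_symm C.h₁ hev, zero_mul, mul_zero])
          rw [C.form, C.form, hu1, hu0'] at this
          simp only [one_mul, zero_mul, mul_zero, zero_smul, sub_zero] at this
          exact cancel (mul_ne_zero C.c_ne hz'w) this
        have := move _ hvz f₀ r z hr0
          (by rw [C.form, f_eq_zero_symm C.h₂ hz, mul_zero, mul_zero])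
          (by rw [C.form, f_eq_zero_symm C.h₂ hz, mul_zero, mul_zero])
        rw [C.form, C.form, hfv, hz', C.h₁.skew r v, hr1] at this
        simp only [zero_mul, mul_zero, zero_smul, zero_sub, mul_one, mul_neg, neg_smul, neg_neg] at this
        exact cancel C.c_ne this
      obtain ⟨y, hy, hyn⟩ := SP.exists_perp_notMem C.h₂ ![w] ![w] (by simp; omega)
      have hy0 : f₂ w y = 0 := hy 0
      have hyn' : y ∉ F ∙ w := by simpa [Matrix.range_cons, Matrix.range_empty] using hyn
      have := N.sub_mem (h1 (z + y) (by rw [f_add_right C.h₂, hz, hy0, add_zero]) (fun h => hyn' (by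
        simpa using Submodule.sub_mem _ h hzw))) (h1 y hy0 hyn')
      rwa [map_add, add_sub_cancel_right] at this
    · exact h1 z hz hzw
  have step4 : ∀ u z, f₁ e u = 0 → P u z ∈ N := by
    intro u z hu
    rcases eq_or_ne (f₂ w z) 0 with hz | hz
    · exact step2 u z hu hz
    obtain ⟨y, hy0, hy1⟩ := SP.exists_zero_one C.h₂ (a := w) (v := z) (fun h => by
      obtain ⟨k, rfl⟩ := Submodule.mem_span_singleton.1 h
      exact hz (by rw [f_smul_right C.h₂, C.h₂.alternating, mul_zero]))
    have := move _ (step3 y hy0) e u z hu (by rw [C.form, C.h₁.alternating, zero_mul, mul_zero])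
      (by rw [C.form, f_eq_zero_symm C.h₁ hu, zero_mul, mul_zero])
    rw [C.form, C.form, hf₀, hy1, one_mul, mul_one] at this
    have h2 := N.add_mem this (N.smul_mem (c * (f₁ u f₀ * 1)) (step1 z))
    simp only [mul_one] at h2
    rw [sub_add_cancel] at h2
    exact cancel C.c_ne h2
  intro t ht
  set S := N ⊔ F ∙ P f₀ w₀ with hS
  have hgen : ∀ u z, P u z ∈ S := by
    intro u z
    have hd : P u z = P (u - f₁ e u • f₀) z +
        (f₁ e u • P f₀ (z - f₂ w z • w₀) + (f₁ e u * f₂ w z) • P f₀ w₀) := by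
      simp only [map_sub, map_smul, LinearMap.sub_apply, LinearMap.smul_apply]
      module
    rw [hd]
    refine S.add_mem (Submodule.mem_sup_left (step4 _ _ ?_)) (S.add_mem
      (Submodule.mem_sup_left (N.smul_mem _ (step3 _ ?_)))
      (Submodule.mem_sup_right (Submodule.smul_mem _ _ (Submodule.mem_span_singleton_self _))))
    · rw [f_sub_right C.h₁, f_smul_right C.h₁, hf₀, mul_one, sub_self]
    · rw [f_sub_right C.h₂, f_smul_right C.h₂, hw₀, mul_one, sub_self]
  have htS : t ∈ S := by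
    by_contra hno
    obtain ⟨φ, h0, h1⟩ := exists_dual S hno
    rw [C.ext φ fun u z => h0 _ (hgen u z)] at h1
    exact zero_ne_one h1
  obtain ⟨n, hn, r, hr, rfl⟩ := Submodule.mem_sup.1 htS
  obtain ⟨k, rfl⟩ := Submodule.mem_span_singleton.1 hr
  rw [Orth.B_add_right Q, hn.1, zero_add, Orth.B_smul_right Q, C.form, hf₀, hw₀, mul_one, mul_one,
    mul_eq_zero, or_iff_left C.c_ne] at ht
  rw [ht, zero_smul, add_zero]
  exact hn

end Cfsg.Agent.MaxCl.OPair
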