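/-
Without top elements, and with a second factor of dimension four of minus type, the middle part of a radical element
is scalar: the two components of the middle part satisfy one twisted commutation relation, and the anisotropic plane
makes this relation force vanishing diagonals.
-/
import Cfsg.Agent.Lib.MaxCl.OrthTensorStab

set_option autoImplicit false
set_option linter.unusedSectionVars false
set_option linter.unusedSimpArgs false
set_option linter.style.haveILetI false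

namespace Cfsg.Agent.MaxCl.OTens

open scoped MatrixGroups Matrix
open Module (finrank)
open Orth Tens

variable {ι : Type} [Fintype ι] [DecidableEq ι] {F : Type*} [Field F] {n₁ n₂ : ℕ}
variable {T : TSys ι F n₁ n₂} {Q : QuadraticForm F (ι → F)} {q₁ : QuadraticForm F (Fin n₁ → F)}
variable {q₂ : QuadraticForm F (Fin n₂ → F)} {M : Subgroup (GL ι F)}

set_option quotPrecheck false in
local notation "B" => QuadraticMap.polar (⇑Q)
set_option quotPrecheck false in
local notation "B₁" => QuadraticMap.polar (⇑q₁)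
set_option quotPrecheck false in
local notation "B₂" => QuadraticMap.polar (⇑q₂)

section Diag

variable {κ : Type} [Fintype κ] [DecidableEq κ] {q : QuadraticForm F (κ → F)}

/-- two second differences extract the diagonal value at a singular vector -/
theorem sdiff_diag {v y : κ → F} (t : F) (hv : q v = 0) (hvy : QuadraticMap.polar q v y = 0)
    {X : Module.End F (κ → F)} (hX : ∀ x z, QuadraticMap.polar q (X x) z = QuadraticMap.polar q x (X z)) :
    sdiff q v (t • y) X - (t * t) • sdiff q v y X =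
      ((t * t * (t * t - 1)) * (2 * q y * q y) * QuadraticMap.polar q (X v) v) •
        (QuadraticMap.polarBilin q v).smulRight v := by
  have e0 : QuadraticMap.polar q v (X v) = QuadraticMap.polar q (X v) v := (hX v v).symm
  have hvt : QuadraticMap.polar q v (t • y) = 0 := by rw [B_smul_right q, hvy, mul_zero]
  apply LinearMap.ext; intro x
  simp only [LinearMap.sub_apply, LinearMap.smul_apply, sdiff_apply q hv hvy, sdiff_apply q hv hvt,
    Q_smul q, B_sub_right q, B_smul_right q, B_smul_left q, map_smul, e0, LinearMap.smulRight_apply,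
    QuadraticMap.polarBilin_apply_apply]
  match_scalars <;> ring

end Diag

variable (C : OCtx T Q q₁ q₂ M)
include C

variable {e f d₁ d₂ : Fin n₂ → F} (he : q₂ e = 0) (hf : q₂ f = 0) (hef : QuadraticMap.polar q₂ e f = 1)
  (h1e : QuadraticMap.polar q₂ e d₁ = 0) (h1f : QuadraticMap.polar q₂ f d₁ = 0) (h1 : q₂ d₁ ≠ 0)
  (h2e : QuadraticMap.polar q₂ e d₂ = 0) (h2f : QuadraticMap.polar q₂ f d₂ = 0) (h2 : q₂ d₂ ≠ 0)
  (h12 : QuadraticMap.polar q₂ d₁ d₂ = 0) (hn : n₂ = 4)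
include he hf hef h1e h1f h1 h2e h2f h2 h12 hn

/-- coordinates with respect to the pair and the orthogonal basis of its perpendicular plane -/
theorem expand_four (p : Fin n₂ → F) :
    p = B₂ f p • e + B₂ e p • f + (B₂ d₁ p / (2 * q₂ d₁)) • d₁ + (B₂ d₂ p / (2 * q₂ d₂)) • d₂ := by
  have hfe : B₂ f e = 1 := by rw [B_comm q₂, hef]
  have c1 : (2 : F) * q₂ d₁ ≠ 0 := mul_ne_zero C.two h1
  have c2 : (2 : F) * q₂ d₂ ≠ 0 := mul_ne_zero C.two h2
  have hli : LinearIndependent F ![e, f, d₁, d₂] := by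
    rw [Fintype.linearIndependent_iff]
    intro g hg
    rw [Fin.sum_univ_four] at hg
    simp only [Matrix.cons_val] at hg
    have k := fun z => congrArg (fun x => B₂ z x) hg
    have a0 := k f
    have a1 := k e
    have a2 := k d₁
    have a3 := k d₂
    simp only [B_add_right q₂, B_smul_right q₂, B_zero_right q₂, B_self_of_singular q₂ he,
      B_self_of_singular q₂ hf, hef, hfe, h1e, h1f, h2e, h2f, h12, B_comm q₂ d₁ e, B_comm q₂ d₁ f,
      B_comm q₂ d₂ e, B_comm q₂ d₂ f, B_comm q₂ d₂ d₁, B_self q₂ d₁, B_self q₂ d₂, mul_one, mul_zero,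
      add_zero, zero_add, mul_eq_zero, c1, c2, or_false, C.two, h1, h2] at a0 a1 a2 a3
    intro i
    fin_cases i <;> assumption
  have hspan : Submodule.span F (Set.range ![e, f, d₁, d₂]) = ⊤ := Submodule.eq_top_of_finrank_eq (by
    rw [finrank_span_eq_card hli, Fintype.card_fin, Module.finrank_fin_fun, hn])
  obtain ⟨c, hc⟩ := (Submodule.mem_span_range_iff_exists_fun F).1 (hspan.ge (Submodule.mem_top (x := p)))
  rw [Fin.sum_univ_four] at hc
  simp only [Matrix.cons_val] at hc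
  rw [← hc]
  simp only [B_add_right q₂, B_smul_right q₂, B_self_of_singular q₂ he, B_self_of_singular q₂ hf, hef, hfe, h1e,
    h1f, h2e, h2f, h12, B_comm q₂ d₁ e, B_comm q₂ d₁ f, B_comm q₂ d₂ e, B_comm q₂ d₂ f, B_comm q₂ d₂ d₁,
    B_self q₂ d₁, B_self q₂ d₂, mul_one, mul_zero, add_zero, zero_add, mul_div_cancel_right₀ _ c1,
    mul_div_cancel_right₀ _ c2]

variable {ρ : GL ι F}

/-- a radical element on the hyperplane layer -/
theorem layer_two (h : IsRad T q₂ e ρ) {x : ι → F} (hx : proj T q₂ e x = 0) :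
    act ρ x = x + pt T ((2 * q₂ d₁)⁻¹ • radMap T q₂ f ρ d₁ (proj T q₂ d₁ x) +
      (2 * q₂ d₂)⁻¹ • radMap T q₂ f ρ d₂ (proj T q₂ d₂ x)) e := by
  let E : (ι → F) →ₗ[F] (ι → F) := LinearMap.id - ptL T f ∘ₗ proj T q₂ e
  let Λ : (ι → F) →ₗ[F] (Fin n₁ → F) := (2 * q₂ d₁)⁻¹ • (radMap T q₂ f ρ d₁ ∘ₗ proj T q₂ d₁) +
      (2 * q₂ d₂)⁻¹ • (radMap T q₂ f ρ d₂ ∘ₗ proj T q₂ d₂)
  have : act ρ ∘ₗ E = (LinearMap.id + ptL T e ∘ₗ Λ) ∘ₗ E := pt_ext T fun u v => by
    have hE : E (pt T u v) = pt T u (v - B₂ e v • f) := by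
      show pt T u v - pt T (proj T q₂ e (pt T u v)) f = _
      rw [proj_pt, pt_sub_right, pt_smul_left, pt_smul_right]
    obtain ⟨p, hp⟩ : ∃ p, p = v - B₂ e v • f := ⟨_, rfl⟩
    have hep : B₂ e p = 0 := by rw [hp, B_sub_right q₂, B_smul_right q₂, hef]; ring
    simp only [LinearMap.comp_apply, hE, ← hp, rad_apply C he hf hef h u hep, LinearMap.add_apply,
      LinearMap.id_apply, ptL_apply]
    congr 2
    conv_lhs => rw [expand_four C he hf hef h1e h1f h1 h2e h2f h2 h12 hn p, hep, zero_smul, add_zero, radMap_add,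
      radMap_add, radMap_smul, radMap_smul, radMap_smul, radMap_self C he hf hef h, smul_zero, zero_add]
    simp only [Λ, LinearMap.add_apply, LinearMap.smul_apply, LinearMap.comp_apply, proj_pt, map_smul, smul_smul,
      div_eq_inv_mul, B_comm q₂ d₁ p, B_comm q₂ d₂ p]
  have e' := LinearMap.congr_fun this x
  have hEx : E x = x := by
    show x - pt T (proj T q₂ e x) f = x
    rw [hx, pt_zero_left, sub_zero]
  simpa [hEx, ptL_apply, Λ] using e'

variable [Finite F] (hT : TopTrivial T q₂ M) (he0 : e ≠ 0)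
include hT he0

/-- the twisted commutation relation -/
theorem rad_relation (hρ : ρ ∈ M) (h : IsRad T q₂ e ρ) {ρ' : GL ι F} (hρ' : ρ' ∈ M) (h' : IsRad T q₂ e ρ') :
    (2 * q₂ d₁)⁻¹ • (radMap T q₂ f ρ d₁ * radMap T q₂ f ρ' d₁ - radMap T q₂ f ρ' d₁ * radMap T q₂ f ρ d₁) +
      (2 * q₂ d₂)⁻¹ • (radMap T q₂ f ρ d₂ * radMap T q₂ f ρ' d₂ - radMap T q₂ f ρ' d₂ * radMap T q₂ f ρ d₂) = 0 := by
  apply LinearMap.ext; intro u
  have hc := congrArg (fun g => act g (pt T u f)) (rad_commute C he hf hef hT he0 hρ hρ' h h')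
  simp only [act_mul] at hc
  obtain ⟨Z, hZ⟩ : ∃ Z, Z = act ρ (pt T u f) - pt T u f := ⟨_, rfl⟩
  obtain ⟨Z', hZ'⟩ : ∃ Z', Z' = act ρ' (pt T u f) - pt T u f := ⟨_, rfl⟩
  have hZe : proj T q₂ e Z = 0 := by rw [hZ, map_sub, proj_rad C he hf hef (M_le_iso C hρ) h, sub_self]
  have hZe' : proj T q₂ e Z' = 0 := by rw [hZ', map_sub, proj_rad C he hf hef (M_le_iso C hρ') h', sub_self]
  have eZ : act ρ (pt T u f) = pt T u f + Z := by rw [hZ]; abel
  have eZ' : act ρ' (pt T u f) = pt T u f + Z' := by rw [hZ']; abel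
  have p1 := proj_opp C he hf hef hT he0 hρ h h1e h1f u
  have p2 := proj_opp C he hf hef hT he0 hρ h h2e h2f u
  have p1' := proj_opp C he hf hef hT he0 hρ' h' h1e h1f u
  have p2' := proj_opp C he hf hef hT he0 hρ' h' h2e h2f u
  rw [← hZ] at p1 p2
  rw [← hZ'] at p1' p2'
  rw [eZ, eZ', map_add, map_add, eZ, eZ', layer_two C he hf hef h1e h1f h1 h2e h2f h2 h12 hn h hZe',
    layer_two C he hf hef h1e h1f h1 h2e h2f h2 h12 hn h' hZe] at hc
  have h0 := ((pt_eq_zero T).1 (show pt T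
      (((2 * q₂ d₁)⁻¹ • radMap T q₂ f ρ d₁ (proj T q₂ d₁ Z') + (2 * q₂ d₂)⁻¹ • radMap T q₂ f ρ d₂ (proj T q₂ d₂ Z')) -
       ((2 * q₂ d₁)⁻¹ • radMap T q₂ f ρ' d₁ (proj T q₂ d₁ Z) + (2 * q₂ d₂)⁻¹ • radMap T q₂ f ρ' d₂ (proj T q₂ d₂ Z)))
      e = 0 by rw [pt_sub_left]; linear_combination (norm := module) hc)).resolve_right he0
  simp only [LinearMap.add_apply, LinearMap.smul_apply, LinearMap.sub_apply, Module.End.mul_apply,
    LinearMap.zero_apply]
  rw [show proj T q₂ d₁ Z = -radMap T q₂ f ρ d₁ u by rw [p1, neg_neg],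
    show proj T q₂ d₂ Z = -radMap T q₂ f ρ d₂ u by rw [p2, neg_neg],
    show proj T q₂ d₁ Z' = -radMap T q₂ f ρ' d₁ u by rw [p1', neg_neg],
    show proj T q₂ d₂ Z' = -radMap T q₂ f ρ' d₂ u by rw [p2', neg_neg]] at h0
  simp only [map_neg] at h0
  linear_combination (norm := module) -h0

/-- the middle part is scalar -/
theorem rad_scalar_four (haniso : ∀ x, B₂ e x = 0 → q₂ x = 0 → x ∈ F ∙ e) {t : F} (ht0 : t ≠ 0)
    (ht : t * t ≠ 1) (hρ : ρ ∈ M) (h : IsRad T q₂ e ρ) {p : Fin n₂ → F} (hep : B₂ e p = 0) (hfp : B₂ f p = 0) :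
    ∃ l : F, ∀ u, radMap T q₂ f ρ p u = l • u := by
  have hfe : B₂ f e = 1 := by rw [B_comm q₂, hef]
  have h3 : 3 ≤ Fintype.card (Fin n₁) := by rw [Fintype.card_fin]; exact C.three₁
  let P : Set (Module.End F (Fin n₁ → F) × Module.End F (Fin n₁ → F)) :=
    {X | ∃ τ ∈ M, IsRad T q₂ e τ ∧ X = (radMap T q₂ f τ d₁, radMap T q₂ f τ d₂)}
  let L := Submodule.span F P
  have hadj : ∀ X ∈ L, (∀ x z, B₁ (X.1 x) z = B₁ x (X.1 z)) ∧ ∀ x z, B₁ (X.2 x) z = B₁ x (X.2 z) := by
    intro X hX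
    induction hX using Submodule.span_induction with
    | mem X hX =>
      obtain ⟨τ, hτ, hτr, rfl⟩ := hX
      exact ⟨radMap_adj C he hf hef hT he0 hτ hτr h1e h1f, radMap_adj C he hf hef hT he0 hτ hτr h2e h2f⟩
    | zero => constructor <;> intro x z <;> simp [B_zero_left q₁, B_zero_right q₁]
    | add a b _ _ ha hb =>
      constructor <;> intro x z
      · simp [B_add_left q₁, B_add_right q₁, ha.1, hb.1]
      · simp [B_add_left q₁, B_add_right q₁, ha.2, hb.2]
    | smul k a _ ha =>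
      constructor <;> intro x z
      · simp [B_smul_left q₁, B_smul_right q₁, ha.1]
      · simp [B_smul_left q₁, B_smul_right q₁, ha.2]
  have hinv : ∀ u w, ∀ X ∈ L, (conjL (sg q₁ u w) X.1, conjL (sg q₁ u w) X.2) ∈ L := by
    intro u w X hX
    refine (show L ≤ L.comap ((conjL (sg q₁ u w)).prodMap (conjL (sg q₁ u w))) from
      Submodule.span_le.2 ?_) hX
    rintro _ ⟨τ, hτ, hτr, rfl⟩
    have hm := gl_left_mem C (sg_mem_sgGroup (Q := q₁) u w)
    refine Submodule.subset_span ⟨_, M.mul_mem (M.mul_mem hm hτ) (M.inv_mem hm),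
      IsRad.conj C hτr (one_mem _) (act_one e), ?_⟩
    rw [radMap_conj C he hf hef hτr (one_mem _) (act_one e) h1e,
      radMap_conj C he hf hef hτr (one_mem _) (act_one e) h2e, inv_one, act_one, act_one]
    rfl
  have hrel : ∀ X ∈ L, ∀ Y ∈ L, (2 * q₂ d₁)⁻¹ • (X.1 * Y.1 - Y.1 * X.1) +
      (2 * q₂ d₂)⁻¹ • (X.2 * Y.2 - Y.2 * X.2) = 0 := by
    intro X hX Y hY
    induction hX, hY using Submodule.span_induction₂ with
    | mem_mem a b ha hb =>
      obtain ⟨τ, hτ, hτr, rfl⟩ := ha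
      obtain ⟨τ', hτ', hτr', rfl⟩ := hb
      exact rad_relation C he hf hef h1e h1f h1 h2e h2f h2 h12 hn hT he0 hτ hτr hτ' hτr'
    | zero_left => simp
    | zero_right => simp
    | add_left a b c _ _ _ k1 k2 =>
      simp only [Prod.fst_add, Prod.snd_add, add_mul, mul_add]
      linear_combination (norm := module) k1 + k2
    | add_right a b c _ _ _ k1 k2 =>
      simp only [Prod.fst_add, Prod.snd_add, add_mul, mul_add]
      linear_combination (norm := module) k1 + k2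
    | smul_left k a b _ _ k1 =>
      simp only [Prod.smul_fst, Prod.smul_snd, smul_mul_assoc, mul_smul_comm]
      linear_combination (norm := module) k • k1
    | smul_right k a b _ _ k1 =>
      simp only [Prod.smul_fst, Prod.smul_snd, smul_mul_assoc, mul_smul_comm]
      linear_combination (norm := module) k • k1
  have hXρ : (radMap T q₂ f ρ d₁, radMap T q₂ f ρ d₂) ∈ L := Submodule.subset_span ⟨ρ, hρ, h, rfl⟩
  have hdiag : ∀ v, q₁ v = 0 →
      B₁ (radMap T q₂ f ρ d₁ v) v = 0 ∧ B₁ (radMap T q₂ f ρ d₂ v) v = 0 := by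
    intro v hv
    rcases eq_or_ne v 0 with rfl | hv0
    · simp [B_zero_right q₁]
    obtain ⟨w, hw, hvw⟩ := exists_partner_top C.h₁ hv hv0
    obtain ⟨y, hvy, hwy, hy⟩ := exists_aniso_perp C.two C.h₁ hv hw hvw h3
    obtain ⟨b₁, hb₁⟩ : ∃ b, b = B₁ (radMap T q₂ f ρ d₁ v) v := ⟨_, rfl⟩
    obtain ⟨b₂, hb₂⟩ : ∃ b, b = B₁ (radMap T q₂ f ρ d₂ v) v := ⟨_, rfl⟩
    rw [← hb₁, ← hb₂]
    obtain ⟨κ', hκ⟩ : ∃ k, k = t * t * (t * t - 1) * (2 * q₁ y * q₁ y) := ⟨_, rfl⟩
    have hκ0 : κ' ≠ 0 := hκ ▸ mul_ne_zero (mul_ne_zero (mul_ne_zero ht0 ht0) (sub_ne_zero.2 ht))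
      (mul_ne_zero (mul_ne_zero C.two hy) hy)
    let R : Module.End F (Fin n₁ → F) := (QuadraticMap.polarBilin q₁ v).smulRight v
    have hR : (b₁ • R, b₂ • R) ∈ L := by
      have hsd : ∀ z, (sdiff q₁ v z (radMap T q₂ f ρ d₁), sdiff q₁ v z (radMap T q₂ f ρ d₂)) ∈ L := fun z => by
        have := L.sub_mem (L.add_mem (hinv v z _ hXρ) (hinv v (-z) _ hXρ)) (L.smul_mem (2 : F) hXρ)
        exact this
      have := L.smul_mem κ'⁻¹ (L.sub_mem (hsd (t • y)) (L.smul_mem (t * t) (hsd y)))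
      rw [Prod.smul_mk, Prod.mk_sub_mk, Prod.smul_mk, sdiff_diag t hv hvy (hadj _ hXρ).1,
        sdiff_diag t hv hvy (hadj _ hXρ).2, ← hκ, ← hb₁, ← hb₂, smul_smul, smul_smul, ← mul_assoc, ← mul_assoc,
        inv_mul_cancel₀ hκ0, one_mul, one_mul] at this
      exact this
    set v' := act (sg q₁ w y) v with hv'
    have hR'x : ∀ x, conjL (sg q₁ w y) R x = B₁ v' x • v' := fun x => by
      rw [conjL_apply]
      simp only [R, LinearMap.smulRight_apply, QuadraticMap.polarBilin_apply_apply, map_smul]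
      rw [← hv']
      congr 1
      conv_lhs => rw [← B_act (sg_mem_iso q₁ w y), act_act_inv, ← hv']
    have hR' : (b₁ • conjL (sg q₁ w y) R, b₂ • conjL (sg q₁ w y) R) ∈ L := by
      have := hinv w y _ hR
      simpa only [map_smul] using this
    have hk := LinearMap.congr_fun (hrel _ hR _ hR') v
    simp only [LinearMap.add_apply, LinearMap.smul_apply, LinearMap.sub_apply, Module.End.mul_apply,
      LinearMap.zero_apply, map_smul, hR'x] at hk
    simp only [R, LinearMap.smulRight_apply, QuadraticMap.polarBilin_apply_apply, B_self_of_singular q₁ hv,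
      zero_smul, smul_zero, map_zero, B_zero_right q₁, sub_zero, smul_smul] at hk
    have hvv' : B₁ v v' = -q₁ y := by
      rw [hv', act_sg q₁ hw hwy, B_comm q₁ w v, hvw, B_comm q₁ y v, hvy, B_sub_right q₁, B_add_right q₁,
        B_smul_right q₁, B_smul_right q₁, B_self_of_singular q₁ hv, hvy, hvw]
      ring
    rw [B_comm q₁ v' v, hvv', ← add_smul, smul_eq_zero, or_iff_left hv0] at hk
    have hsum : (2 * q₂ d₁)⁻¹ * (b₁ * b₁) + (2 * q₂ d₂)⁻¹ * (b₂ * b₂) = 0 := by
      have : ((2 * q₂ d₁)⁻¹ * (b₁ * b₁) + (2 * q₂ d₂)⁻¹ * (b₂ * b₂)) * (q₁ y * q₁ y) = 0 := by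
        linear_combination hk
      exact (mul_eq_zero.1 this).resolve_right (mul_ne_zero hy hy)
    obtain ⟨z, hz⟩ : ∃ z, z = (b₁ / (2 * q₂ d₁)) • d₁ + (b₂ / (2 * q₂ d₂)) • d₂ := ⟨_, rfl⟩
    have hqz : q₂ z = 0 := by
      rw [hz, Q_add q₂, Q_smul q₂, Q_smul q₂, B_smul_left q₂, B_smul_right q₂, h12]
      have c1 : (2 : F) * q₂ d₁ ≠ 0 := mul_ne_zero C.two h1
      have c2 : (2 : F) * q₂ d₂ ≠ 0 := mul_ne_zero C.two h2
      have two := C.two
      field_simp at hsum ⊢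
      linear_combination hsum
    obtain ⟨k, hk'⟩ := Submodule.mem_span_singleton.1
      (haniso z (by rw [hz, B_add_right q₂, B_smul_right q₂, B_smul_right q₂, h1e, h2e]; ring) hqz)
    have hk0 : k = 0 := by
      have := congrArg (fun x => B₂ f x) hk'
      simp only [B_smul_right q₂, hfe, mul_one, hz, B_add_right q₂, h1f, h2f, mul_zero, add_zero] at this
      exact this
    rw [hk0, zero_smul] at hk'
    have e1 := congrArg (fun x => B₂ d₁ x) hk'
    have e2 := congrArg (fun x => B₂ d₂ x) hk'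
    simp only [hz, B_add_right q₂, B_smul_right q₂, B_zero_right q₂, B_self q₂, h12, B_comm q₂ d₂ d₁,
      mul_zero, add_zero, zero_add, div_mul_cancel₀ _ (mul_ne_zero C.two h1),
      div_mul_cancel₀ _ (mul_ne_zero C.two h2)] at e1 e2
    exact ⟨e1.symm, e2.symm⟩
  have hbig : 4 ≤ Fintype.card (Fin n₁) ∨ ∃ t : F, t ≠ 0 ∧ t * t ≠ 1 := Or.inr ⟨t, ht0, ht⟩
  obtain ⟨k₁, hk₁⟩ := scalar_of_diag C.two C.h₁ h3 hbig (hadj _ hXρ).1 fun v hv => (hdiag v hv).1
  obtain ⟨k₂, hk₂⟩ := scalar_of_diag C.two C.h₁ h3 hbig (hadj _ hXρ).2 fun v hv => (hdiag v hv).2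
  refine ⟨B₂ d₁ p / (2 * q₂ d₁) * k₁ + B₂ d₂ p / (2 * q₂ d₂) * k₂, fun u => ?_⟩
  rw [expand_four C he hf hef h1e h1f h1 h2e h2f h2 h12 hn p, hep, hfp]
  simp only [zero_smul, zero_add, add_zero, radMap_add, radMap_smul, LinearMap.add_apply, LinearMap.smul_apply,
    hk₁, hk₂, smul_smul, ← add_smul]
  simp [B_add_right q₂, B_smul_right q₂, h12, B_comm q₂ d₂ d₁, B_self q₂,
    div_mul_cancel₀ _ (mul_ne_zero C.two h1), div_mul_cancel₀ _ (mul_ne_zero C.two h2)]

end Cfsg.Agent.MaxCl.OTens
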