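/-
Top elements when the larger factor has dimension four: a torus and transitivity in dimension four, and full root
groups from the roots `(v ⊗ e, y ⊗ e)`.
-/
import Cfsg.Agent.Lib.MaxCl.OrthTensorTop

set_option autoImplicit false
set_option linter.unusedSectionVars false
set_option linter.unusedSimpArgs false
set_option linter.style.haveILetI false

namespace Cfsg.Agent.MaxCl.OTens

open scoped MatrixGroups Matrix
open Module (finrank)
open Orth Tens

section General

variable {κ : Type} [Fintype κ] [DecidableEq κ] {F : Type*} [Field F] {Q : QuadraticForm F (κ → F)}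

set_option quotPrecheck false in
local notation "B" => QuadraticMap.polar (⇑Q)

/-- a Weyl element at the pair `e, f` through a vector of value `a` sends `e` to `-f / a` -/
theorem weyl_apply {e f x : κ → F} (he : Q e = 0) (hf : Q f = 0) (hef : B e f = 1) (hex : B e x = 0)
    (hfx : B f x = 0) (hx : Q x ≠ 0) :
    act (sg Q e x * sg Q f ((Q x)⁻¹ • x) * sg Q e x) e = -(Q x)⁻¹ • f := by
  have hfe : B f e = 1 := by rw [B_comm Q, hef]
  have hfy : B f ((Q x)⁻¹ • x) = 0 := by rw [B_smul_right Q, hfx, mul_zero]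
  rw [act_mul, act_mul, act_sg_fix Q he hex (B_self_of_singular Q he) (by rw [B_comm Q, hex]),
    act_sg Q hf hfy, hfe, B_smul_left Q, B_comm Q x e, hex, Q_smul Q, mul_zero, zero_add, mul_one, one_smul,
    map_sub, map_add, map_smul, map_smul, act_sg_fix Q he hex (B_self_of_singular Q he) (by rw [B_comm Q, hex]),
    act_sg Q he hex, act_sg Q he hex, hex, hef, B_self Q, B_comm Q x f, hfx]
  match_scalars <;> field_simp <;> ring

/-- the Siegel group scales singular vectors by every non-zero scalar, already in dimension four -/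
theorem exists_torus_four [Finite F] (two : (2 : F) ≠ 0) (hQ : (QuadraticMap.polarBilin Q).Nondegenerate)
    (h4 : 4 ≤ Fintype.card κ) {e : κ → F} (he : Q e = 0) (he0 : e ≠ 0) {l : F} (hl : l ≠ 0) :
    ∃ b ∈ sgGroup Q, act b e = l • e := by
  obtain ⟨f, hf, hef⟩ := exists_partner_top hQ he he0
  obtain ⟨x, hex, hfx, hx⟩ := exists_value_perp two hQ h4 he hf hef l⁻¹
  obtain ⟨x', hex', hfx', hx'⟩ := exists_value_perp two hQ h4 he hf hef (1 : F)
  refine ⟨sg Q f x' * sg Q e ((Q x')⁻¹ • x') * sg Q f x' * (sg Q e x * sg Q f ((Q x)⁻¹ • x) * sg Q e x),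
    mul_mem (mul_mem (mul_mem (sg_mem_sgGroup _ _) (sg_mem_sgGroup _ _)) (sg_mem_sgGroup _ _))
      (mul_mem (mul_mem (sg_mem_sgGroup _ _) (sg_mem_sgGroup _ _)) (sg_mem_sgGroup _ _)), ?_⟩
  rw [act_mul, weyl_apply he hf hef hex hfx (by rw [hx]; exact inv_ne_zero hl), map_smul,
    weyl_apply hf he (by rw [B_comm Q, hef]) hfx' hex' (by rw [hx']; exact one_ne_zero), hx, hx', smul_smul]
  simp

/-- the Siegel group is transitive on non-zero singular vectors, already in dimension four -/
theorem exists_move_four [Finite F] (two : (2 : F) ≠ 0) (hQ : (QuadraticMap.polarBilin Q).Nondegenerate)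
    (h4 : 4 ≤ Fintype.card κ) {u z : κ → F} (hu : Q u = 0) (hu0 : u ≠ 0) (hz : Q z = 0) (hz0 : z ≠ 0) :
    ∃ s ∈ sgGroup Q, act s u = z := by
  obtain ⟨s, hs, k, hk, e⟩ := exists_move_line two hQ (by omega) hu hu0 hz hz0
  obtain ⟨b, hb, e'⟩ := exists_torus_four two hQ h4 hz hz0 (inv_ne_zero hk)
  exact ⟨b * s, mul_mem hb hs, by rw [act_mul, e, map_smul, e', smul_smul, mul_inv_cancel₀ hk, one_smul]⟩

end General

variable {ι : Type} [Fintype ι] [DecidableEq ι] {F : Type*} [Field F] {n₁ n₂ : ℕ}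
variable {T : TSys ι F n₁ n₂} {Q : QuadraticForm F (ι → F)} {q₁ : QuadraticForm F (Fin n₁ → F)}
variable {q₂ : QuadraticForm F (Fin n₂ → F)} {M : Subgroup (GL ι F)}

set_option quotPrecheck false in
local notation "B" => QuadraticMap.polar (⇑Q)
set_option quotPrecheck false in
local notation "B₁" => QuadraticMap.polar (⇑q₁)
set_option quotPrecheck false in
local notation "B₂" => QuadraticMap.polar (⇑q₂)

variable (C : OCtx T Q q₁ q₂ M) [Finite F]
include C

/-- pure singular vectors have full root groups, for any dimensions at least three -/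
theorem full_of_roots_small
    (R : ∀ (v y : Fin n₁ → F) (e : Fin n₂ → F), q₁ v = 0 → B₁ v y = 0 → q₂ e = 0 →
      sg Q (pt T v e) (pt T y e) ∈ M)
    {v : Fin n₁ → F} {e : Fin n₂ → F} (hv : q₁ v = 0) (he : q₂ e = 0) (hv0 : v ≠ 0) (he0 : e ≠ 0) :
    Orth.Full Q M (pt T v e) := by
  have R₂ := roots_transpose C R
  have R₁ : ∀ (v a : Fin n₁ → F) (e : Fin n₂ → F), q₁ v = 0 → q₂ e = 0 → sg Q (pt T v e) (pt T a e) ∈ M := by
    intro v a e hv he
    have h := roots_transpose C.swap (fun p q u hp _ hu => by rw [pt_swapSys, pt_swapSys]; exact R₂ u p q hu hp)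
      e v a he hv
    rwa [pt_swapSys, pt_swapSys] at h
  have h3 : 3 ≤ Fintype.card (Fin n₁) := by rw [Fintype.card_fin]; exact C.three₁
  have h3' : 3 ≤ Fintype.card (Fin n₂) := by rw [Fintype.card_fin]; exact C.three₂
  obtain ⟨w, hw, hvw⟩ := exists_partner_top C.h₁ hv hv0
  obtain ⟨f, hf, hef⟩ := exists_partner_top C.h₂ he he0
  have hfe : B₂ f e = 1 := by rw [B_comm q₂, hef]
  have hu : Q (pt T v e) = 0 := by rw [Q_pt C, hv]; ring
  let G := rootSpace C (pt T v e) hu
  have hG1 : ∀ a, pt T a e ∈ G := fun a =>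
    ⟨by rw [C.form, B_self_of_singular q₂ he]; ring, fun k => by
      rw [← pt_smul_left]; exact R₁ v _ e hv he⟩
  have hG2 : ∀ p, pt T v p ∈ G := fun p =>
    ⟨by rw [C.form, B_self_of_singular q₁ hv]; ring, fun k => by
      rw [← pt_smul_right]; exact R₂ v e _ hv he⟩
  -- the middle layer
  have hG3 : ∀ a d, B₂ e d = 0 → pt T a d ∈ G := by
    intro a d hed
    have key : ∀ s, q₁ s = 0 → B₁ v s ≠ 0 → ∀ d, B₂ e d = 0 → B₂ f d = 0 → pt T s d ∈ G := by
      intro s hs hvs d hed hfd
      refine ⟨by rw [C.form, hed, mul_zero], fun k => ?_⟩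
      obtain ⟨l, hl⟩ : ∃ l, l = k / B₁ v s := ⟨_, rfl⟩
      have h := shift_mem C (R₂ s e (l • d) hs he) (R₂ v e f hv he) (by rw [Q_pt C, hs]; ring)
        (by rw [C.form, B_self_of_singular q₁ hs]; ring) hu (by rw [C.form, B_self_of_singular q₁ hv]; ring)
        (by rw [C.form, B_self_of_singular q₂ he]; ring)
        (by rw [C.form, B_smul_left q₂, B_comm q₂ d e, hed]; ring)
      simp only [C.form, B_comm q₁ s v, hef, B_smul_left q₂, B_comm q₂ d f, hfd, Q_pt C, hs, mul_one, mul_zero,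
        zero_mul, add_zero, zero_smul, sub_zero] at h
      convert h using 2
      rw [hl, pt_smul_right, smul_smul, mul_div_cancel₀ _ hvs]
    obtain ⟨d₀, hd₀⟩ : ∃ d₀, d₀ = d - B₂ f d • e := ⟨_, rfl⟩
    have := eq_top_of_opp C.two C.h₁ h3 hv hv0 (G.comap (ptL T d₀)) (fun s hs hvs => key s hs hvs d₀
      (by rw [hd₀, B_sub_right q₂, B_smul_right q₂, hed, B_self_of_singular q₂ he]; ring)
      (by rw [hd₀, B_sub_right q₂, B_smul_right q₂, hfe]; ring)) a
    have h' := G.add_mem this (G.smul_mem (B₂ f d) (hG1 a))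
    rwa [ptL_apply, ← pt_smul_right, ← pt_add_right, hd₀, sub_add_cancel] at h'
  -- the opposite layer
  have hG4 : ∀ y, B₁ v y = 0 → pt T y f ∈ G := by
    intro y hy
    obtain ⟨y', hy'⟩ : ∃ y', y' = y - B₁ w y • v := ⟨_, rfl⟩
    have hvy' : B₁ v y' = 0 := by rw [hy', B_sub_right q₁, B_smul_right q₁, hy, B_self_of_singular q₁ hv]; ring
    have hwy' : B₁ w y' = 0 := by
      rw [hy', B_sub_right q₁, B_smul_right q₁, B_comm q₁ w v, hvw]; ring
    suffices pt T y' f ∈ G by
      have h' := G.add_mem this (G.smul_mem (B₁ w y) (hG2 f))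
      rwa [← pt_smul_left, ← pt_add_left, hy', sub_add_cancel] at h'
    obtain ⟨d, hed, hfd, hd⟩ := exists_aniso_perp C.two C.h₂ he hf hef h3'
    obtain ⟨s, hs⟩ : ∃ s, s = f + d - q₂ d • e := ⟨_, rfl⟩
    have hqs : q₂ s = 0 := by
      rw [hs, Q_sub q₂, Q_add q₂, Q_smul q₂, B_smul_right q₂, B_add_left q₂, hf, he, hfe, hfd,
        B_comm q₂ d e, hed]
      ring
    have hsd : B₂ s d = 2 * q₂ d := by
      rw [hs, B_sub_left q₂, B_add_left q₂, B_smul_left q₂, hfd, hed, B_self q₂]; ring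
    have hs_in : pt T y' s ∈ G := by
      refine ⟨by rw [C.form, hvy', zero_mul], fun k => ?_⟩
      obtain ⟨l, hl⟩ : ∃ l, l = k / (2 * q₂ d) := ⟨_, rfl⟩
      have h := shift_mem C (R₁ v (l • y') s hv hqs) (show sg Q (pt T v e) (pt T w d) ∈ M by
        simpa using (hG3 w d hed).2 1) (by rw [Q_pt C, hv]; ring)
        (by rw [C.form, B_smul_right q₁, hvy']; ring) hu (by rw [C.form, hed]; ring)
        (by rw [C.form, B_self_of_singular q₁ hv]; ring)
        (by rw [C.form, B_smul_left q₁, B_comm q₁ y' v, hvy']; ring)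
      simp only [C.form, hvw, hsd, B_smul_left q₁, B_comm q₁ y' w, hwy', Q_pt C, hqs, one_mul, mul_zero,
        zero_mul, add_zero, zero_smul, sub_zero] at h
      convert h using 2
      rw [hl, pt_smul_left, smul_smul, mul_div_cancel₀ _ (mul_ne_zero C.two hd)]
    have h' := G.add_mem (G.sub_mem hs_in (hG3 y' d hed)) (G.smul_mem (q₂ d) (hG1 y'))
    convert h' using 1
    rw [hs, pt_sub_right, pt_add_right, pt_smul_right]
    abel
  intro x hx
  have hx0 : B₁ v (proj T q₂ e x) = 0 := by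
    rwa [B_comm Q, form_right C, B_comm q₁] at hx
  have hE : (act (1 : GL ι F) - ptL T f ∘ₗ proj T q₂ e) x ∈ G := by
    rw [sum_pt T x]
    simp only [map_sum, map_smul]
    refine G.sum_mem fun i _ => G.sum_mem fun j _ => G.smul_mem _ ?_
    simp only [LinearMap.sub_apply, LinearMap.comp_apply, act_one, proj_pt, ptL_apply]
    rw [pt_smul_left, ← pt_smul_right, ← pt_sub_right]
    exact hG3 _ _ (by rw [B_sub_right q₂, B_smul_right q₂, hef]; ring)
  simp only [LinearMap.sub_apply, LinearMap.comp_apply, act_one, ptL_apply] at hE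
  have := (G.add_mem hE (hG4 _ hx0)).2 1
  rwa [sub_add_cancel, one_smul] at this

/-- a non-trivial top element generates, already for a second factor of dimension four -/
theorem eq_omega_of_top_four (h4' : 4 ≤ n₂)
    (h4 : n₁ = 4 → ∀ a b, q₁ a = 0 → q₁ b = 0 → B₁ a b = 0 → a ≠ 0 → b ∈ F ∙ a)
    (hT : ¬ TopTrivial T q₂ M) : M = Cfsg.Geo.omegaGL Q := by
  refine le_antisymm C.le ?_
  simp only [TopTrivial] at hT
  push Not at hT
  obtain ⟨e, he, he0, z, hz, S, hS, hz1⟩ := hT
  have hcard : 4 ≤ Fintype.card (Fin n₂) := by rwa [Fintype.card_fin]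
  have hsq : ∀ l : F, ∀ z ∈ M, ∀ S, IsTop T q₂ e z S → ∃ z' ∈ M, IsTop T q₂ e z' ((l * l) • S) := by
    intro l z hz S hS
    rcases eq_or_ne l 0 with rfl | hl
    · exact ⟨1, M.one_mem, fun u p => by simp [act_one, pt_zero_left]⟩
    obtain ⟨b, hb, hbe⟩ := exists_torus_four C.two C.h₂ hcard he he0 hl
    refine ⟨gl T 1 b * z * (gl T 1 b)⁻¹, M.mul_mem (M.mul_mem (gl_right_mem C hb) hz)
      (M.inv_mem (gl_right_mem C hb)), fun u p => ?_⟩
    have hbi : B₂ e (act b⁻¹ p) = l * B₂ e p := by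
      conv_lhs => rw [← B_act (sgGroup_le_iso hb), hbe, act_act_inv, B_smul_left q₂]
    rw [gl_inv, act_mul, act_mul, act_gl_pt, inv_one, act_one, hS, map_add, map_smul, act_gl_pt, act_gl_pt,
      act_one, act_one, act_act_inv, hbe, hbi, pt_smul_right, LinearMap.smul_apply, pt_smul_left, smul_smul,
      smul_smul]
    congr 2
    ring
  let L : Submodule F (Module.End F (Fin n₁ → F)) :=
    { carrier := {S | ∃ z ∈ M, IsTop T q₂ e z S}
      zero_mem' := ⟨1, M.one_mem, fun u p => by simp [act_one, pt_zero_left]⟩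
      add_mem' := by
        rintro S S' ⟨z, hz, hS⟩ ⟨z', hz', hS'⟩
        refine ⟨z * z', M.mul_mem hz hz', fun u p => ?_⟩
        rw [act_mul, hS', map_add, map_smul, hS, hS, B_self_of_singular q₂ he, zero_smul, add_zero,
          LinearMap.add_apply, pt_add_left, smul_add]
        abel
      smul_mem' := by
        rintro k S ⟨z, hz, hS⟩
        obtain ⟨z₁, hz₁, hS₁⟩ := hsq ((k + 1) / 2) z hz S hS
        obtain ⟨z₂, hz₂, hS₂⟩ := hsq ((k - 1) / 2) z hz S hS
        refine ⟨z₁ * z₂⁻¹, M.mul_mem hz₁ (M.inv_mem hz₂), fun u p => ?_⟩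
        have e2 : act z₂⁻¹ (pt T u p) = pt T u p - B₂ e p • pt T (((k - 1) / 2 * ((k - 1) / 2)) • S u) e := by
          apply act_injective z₂
          rw [act_act_inv, map_sub, map_smul, hS₂, hS₂, B_self_of_singular q₂ he, zero_smul, add_zero,
            LinearMap.smul_apply]
          abel
        have hk : (k + 1) / 2 * ((k + 1) / 2) - (k - 1) / 2 * ((k - 1) / 2) = k := by
          field_simp [C.two]
          ring
        rw [act_mul, e2, map_sub, map_smul, hS₁, hS₁, B_self_of_singular q₂ he, zero_smul, add_zero]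
        simp only [LinearMap.smul_apply, pt_smul_left]
        conv_rhs => rw [← hk]
        module }
  have hinv : ∀ u w, ∀ X ∈ L, conjL (sg q₁ u w) X ∈ L := by
    rintro u w X ⟨z, hz, hX⟩
    have ha := gl_left_mem C (sg_mem_sgGroup (Q := q₁) u w)
    refine ⟨gl T (sg q₁ u w) 1 * z * (gl T (sg q₁ u w) 1)⁻¹, M.mul_mem (M.mul_mem ha hz) (M.inv_mem ha),
      fun a p => ?_⟩
    rw [gl_inv, act_mul, act_mul, act_gl_pt, inv_one, act_one, hX, map_add, map_smul, act_gl_pt, act_gl_pt,
      act_one, act_one, act_act_inv, conjL_apply]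
  obtain ⟨f, hf, hef⟩ := exists_partner_top C.h₂ he he0
  have hskew : ∀ X ∈ L, ∀ x y, B₁ (X x) y + B₁ x (X y) = 0 := by
    rintro X ⟨z, hz, hX⟩ x y
    have h := B_act (M_le_iso C hz) (pt T x f) (pt T y f)
    rw [hX, hX, hef, one_smul, one_smul] at h
    simp only [B_add_left Q, B_add_right Q, C.form, B_self_of_singular q₂ he, B_self_of_singular q₂ hf, hef,
      B_comm q₂ f e] at h
    linear_combination h
  have hne : L ≠ ⊥ := by
    intro h
    have hSL : S ∈ L := ⟨z, hz, hS⟩
    rw [h, Submodule.mem_bot] at hSL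
    subst hSL
    exact hz1 (gl_ext_pt T fun u p => by rw [hS, act_one, LinearMap.zero_apply, pt_zero_left, smul_zero, add_zero])
  have h3 : 3 ≤ Fintype.card (Fin n₁) := by rw [Fintype.card_fin]; exact C.three₁
  have R : ∀ (v y : Fin n₁ → F) (e' : Fin n₂ → F), q₁ v = 0 → B₁ v y = 0 → q₂ e' = 0 →
      sg Q (pt T v e') (pt T y e') ∈ M := by
    intro v y e' hv hvy he'
    rcases eq_or_ne e' 0 with rfl | he'0
    · rw [pt_zero_right, sg_zero_left]; exact M.one_mem
    obtain ⟨z', hz', hS'⟩ := wedge_mem_of_skew C.two C.h₁ hinv hskew h3 (by rw [Fintype.card_fin]; exact h4) hne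
      hv hvy
    have hm : sg Q (pt T v e) (pt T y e) ∈ M := by
      rw [isTop_unique C (isTop_sg C hv hvy he) hS']; exact hz'
    obtain ⟨b, hb, hbe⟩ := exists_move_four C.two C.h₂ hcard he he0 he' he'0
    have hbm := gl_right_mem C hb
    have := M.mul_mem (M.mul_mem hbm hm) (M.inv_mem hbm)
    rwa [conj_sg Q (M_le_iso C hbm), act_gl_pt, act_gl_pt, act_one, act_one, hbe] at this
  obtain ⟨v, -, hv0, hv⟩ := Orth.exists_singular q₁ (D := (⊤ : Submodule F (Fin n₁ → F))) (by
    rw [finrank_top, Module.finrank_pi]; omega)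
  obtain ⟨w, hw, hvw⟩ := exists_partner_top C.h₁ hv hv0
  have hw0 : w ≠ 0 := fun h => by rw [h, B_zero_right q₁] at hvw; exact zero_ne_one hvw
  have hf0 : f ≠ 0 := fun h => by rw [h, B_zero_right q₂] at hef; exact zero_ne_one hef
  refine omega_le_of_full C.hQ (five_le C) (x := pt T v e) (y := pt T w f) (by rw [Q_pt C, hv]; ring)
    (by rw [Q_pt C, hw]; ring) (by rw [C.form, hvw, hef, mul_one]; exact one_ne_zero)
    (full_of_roots_small C R hv he hv0 he0) (full_of_roots_small C R hw hf hw0 hf0)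

end Cfsg.Agent.MaxCl.OTens
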