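/-
Facts about factors of dimension three and four: orthogonal families, minus reflections, fixed spaces of involutions
of a tensor product, multipliers of similitudes in dimension three, unipotent isometries fixing an anisotropic vector.
-/
import Cfsg.Agent.Lib.MaxCl.OrthTensorMax
import Cfsg.Agent.Lib.MaxCl.OrthTensorSmallTop
import Cfsg.Agent.Lib.MaxCl.OrthTensorSmallRad

set_option autoImplicit false
set_option linter.unusedSectionVars false
set_option linter.unusedSimpArgs false
set_option linter.style.haveILetI false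

namespace Cfsg.Agent.MaxCl.OTens

open scoped MatrixGroups Matrix
open Module (finrank)
open Orth Tens

section One

variable {F : Type*} [Field F] {n : ℕ} {q : QuadraticForm F (Fin n → F)}

set_option quotPrecheck false in
local notation "b" => QuadraticMap.polar (⇑q)

/-- coordinates in an orthogonal basis -/
theorem expand_orth (two : (2 : F) ≠ 0) {w : Fin n → (Fin n → F)} (hq : ∀ i, q (w i) ≠ 0)
    (ho : ∀ i j, i ≠ j → b (w i) (w j) = 0) (x : Fin n → F) :
    x = ∑ i, (b (w i) x / (2 * q (w i))) • w i := by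
  classical
  have key : ∀ (c : Fin n → F) (j : Fin n), b (w j) (∑ i, c i • w i) = c j * (2 * q (w j)) := fun c j => by
    show QuadraticMap.polarBilin q (w j) (∑ i, c i • w i) = _
    simp only [map_sum, map_smul, QuadraticMap.polarBilin_apply_apply, smul_eq_mul]
    rw [Finset.sum_eq_single j (fun i _ h => by rw [ho j i (Ne.symm h), mul_zero]) (by simp), B_self q]
  have hli : LinearIndependent F w := Fintype.linearIndependent_iff.2 fun c hc j => by
    have := key c j
    rw [hc, B_zero_right q, eq_comm, mul_eq_zero] at this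
    exact this.resolve_right (mul_ne_zero two (hq j))
  have hspan : Submodule.span F (Set.range w) = ⊤ := Submodule.eq_top_of_finrank_eq (by
    rw [finrank_span_eq_card hli, Fintype.card_fin, Module.finrank_fin_fun])
  obtain ⟨c, hc⟩ := (Submodule.mem_span_range_iff_exists_fun F).1 (hspan.ge (Submodule.mem_top (x := x)))
  conv_lhs => rw [← hc]
  refine Finset.sum_congr rfl fun i _ => ?_
  rw [← hc, key, mul_div_cancel_right₀ _ (mul_ne_zero two (hq i))]

/-- an element with square one has a basis of eigenvectors -/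
theorem exists_eigenbasis (two : (2 : F) ≠ 0) {a : GL (Fin n) F} (h : ∀ x, act a (act a x) = x) :
    ∃ (e : Module.Basis (Fin n) F (Fin n → F)) (s : Fin n → Bool),
      ∀ i, act a (e i) = if s i then e i else -e i := by
  classical
  let P := LinearMap.ker (act a - LinearMap.id)
  let N := LinearMap.ker (act a + LinearMap.id)
  have hc : IsCompl P N := by
    refine ⟨Submodule.disjoint_def.2 fun x hx hx' => ?_, codisjoint_iff.2 (eq_top_iff.2 fun x _ => ?_)⟩
    · have h1 : act a x = x := sub_eq_zero.1 hx
      have h2 : act a x + x = 0 := hx'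
      rw [h1, ← two_smul F, smul_eq_zero] at h2
      exact h2.resolve_left two
    · refine Submodule.mem_sup.2 ⟨(2⁻¹ : F) • (x + act a x), ?_, (2⁻¹ : F) • (x - act a x), ?_, ?_⟩
      · show act a _ - LinearMap.id _ = 0
        rw [LinearMap.id_apply, map_smul, map_add, h, add_comm, sub_self]
      · show act a _ + LinearMap.id _ = 0
        rw [LinearMap.id_apply, map_smul, map_sub, h, ← smul_add, sub_add_sub_cancel', sub_self, smul_zero]
      · rw [← smul_add, show x + act a x + (x - act a x) = (2 : F) • x by rw [two_smul]; abel, inv_smul_smul₀ two]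
  let e₀ := ((Module.finBasis F P).prod (Module.finBasis F N)).map (Submodule.prodEquivOfIsCompl P N hc)
  let σ := e₀.indexEquiv (Pi.basisFun F (Fin n))
  refine ⟨e₀.reindex σ, fun i => (σ.symm i).isLeft, fun i => ?_⟩
  rw [Module.Basis.reindex_apply]
  show act a (e₀ (σ.symm i)) = if (σ.symm i).isLeft then e₀ (σ.symm i) else -e₀ (σ.symm i)
  rcases σ.symm i with j | j
  · have hm : e₀ (Sum.inl j) = ((Module.finBasis F P j : P) : Fin n → F) := by
      simp [e₀, Submodule.coe_prodEquivOfIsCompl']
    rw [hm]
    exact sub_eq_zero.1 (Module.finBasis F P j).2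
  · have hm : e₀ (Sum.inr j) = ((Module.finBasis F N j : N) : Fin n → F) := by
      simp [e₀, Submodule.coe_prodEquivOfIsCompl']
    rw [hm]
    exact eq_neg_of_add_eq_zero_left (Module.finBasis F N j).2

theorem refl_inj (two : (2 : F) ≠ 0) {x y : Fin n → F} (hx : q x ≠ 0) (hy : q y ≠ 0)
    (h : refl q x = refl q y) : ∃ k : F, y = k • x := by
  refine ⟨(q x)⁻¹ * b x y / 2, ?_⟩
  have e := congrArg (fun g => act g y) h
  simp only [act_refl q hx, act_refl_self q hy] at e
  have e2 : (2 : F) • y = ((q x)⁻¹ * b x y) • x := by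
    linear_combination (norm := module) e
  rw [div_eq_inv_mul, mul_smul, ← e2, inv_smul_smul₀ two]

/-- similitudes carry reflections to reflections -/
theorem conj_refl_simil {a : GL (Fin n) F} {ν : F} (hν : ν ≠ 0) (two : (2 : F) ≠ 0)
    (ha : ∀ x y, ν * b (act a x) (act a y) = b x y) {w : Fin n → F} (hw : q w ≠ 0) :
    q (act a w) ≠ 0 ∧ a * refl q w * a⁻¹ = refl q (act a w) := by
  have hq : ν * q (act a w) = q w := by
    have := ha w w
    rw [B_self q, B_self q] at this
    exact mul_left_cancel₀ two (by linear_combination this)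
  have hw' : q (act a w) ≠ 0 := fun e => hw (by rw [← hq, e, mul_zero])
  refine ⟨hw', gl_ext fun x => ?_⟩
  obtain ⟨y, rfl⟩ : ∃ y, x = act a y := ⟨_, (act_act_inv a x).symm⟩
  rw [act_mul, act_mul, act_inv_act, act_refl q hw, act_refl q hw', map_sub, map_smul]
  congr 2
  rw [← ha w y, ← hq]
  field_simp

end One

section Three

variable {F : Type*} [Field F] {q : QuadraticForm F (Fin 3 → F)}

set_option quotPrecheck false in
local notation "b" => QuadraticMap.polar (⇑q)

/-- multipliers of similitudes in dimension three are squares -/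
theorem isSquare_multiplier (hq : (QuadraticMap.polarBilin q).Nondegenerate) {a : GL (Fin 3) F} {ν : F}
    (hν : ν ≠ 0) (ha : ∀ x y, ν * b (act a x) (act a y) = b x y) : IsSquare ν := by
  set G := LinearMap.toMatrix₂' F (QuadraticMap.polarBilin q) with hG
  have hdet : G.det ≠ 0 := by
    have := (LinearMap.nondegenerate_toLinearMap₂'_iff_det_ne_zero (M := G)).1 (by
      rw [hG, Matrix.toLinearMap₂'_toMatrix']; exact hq)
    exact this
  have h1 : G = ν • ((a : Matrix (Fin 3) (Fin 3) F)ᵀ * G * (a : Matrix (Fin 3) (Fin 3) F)) := by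
    conv_lhs => rw [hG, show QuadraticMap.polarBilin q =
      ν • (QuadraticMap.polarBilin q).compl₁₂ (act a) (act a) from
        LinearMap.ext₂ fun x y => (ha x y).symm]
    rw [map_smul, LinearMap.toMatrix₂'_compl₁₂]
    simp [act, hG]
  have h2 := congrArg Matrix.det h1
  rw [Matrix.det_smul, Matrix.det_mul, Matrix.det_mul, Matrix.det_transpose, Fintype.card_fin] at h2
  have h3 : ν ^ 3 * ((a : Matrix (Fin 3) (Fin 3) F).det * (a : Matrix (Fin 3) (Fin 3) F).det) = 1 :=
    mul_right_cancel₀ hdet (by linear_combination -h2)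
  refine ⟨(ν * (a : Matrix (Fin 3) (Fin 3) F).det)⁻¹, ?_⟩
  rw [← mul_inv]
  refine eq_inv_of_mul_eq_one_left ?_
  linear_combination h3

/-- an orthogonal completion of an anisotropic vector -/
theorem exists_orth_completion (two : (2 : F) ≠ 0) (hq : (QuadraticMap.polarBilin q).Nondegenerate)
    {u : Fin 3 → F} (hu : q u ≠ 0) :
    ∃ y t, q y ≠ 0 ∧ q t ≠ 0 ∧ b u y = 0 ∧ b u t = 0 ∧ b y t = 0 := by
  have hu2 : 2 * q u ≠ 0 := mul_ne_zero two hu
  obtain ⟨y₀, hy₀, hy₀0⟩ := Submodule.exists_mem_ne_zero_of_ne_bot
    (p := Orth.perp q (Submodule.span F (Set.range ![u]))) fun e => by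
      have h1 := Orth.finrank_perp hq (Submodule.span F (Set.range ![u]))
      have h2 := finrank_span_list_le (F := F) ![u]
      rw [e, finrank_bot, Fintype.card_fin] at h1
      omega
  rw [Orth.mem_perp_span q] at hy₀
  obtain ⟨y, huy, hy⟩ := exists_aniso_proj two hq (p := fun y => b u y = 0)
    (fun x z hx hz => by rw [B_add_right q, hx, hz, add_zero]) (hy₀ u ⟨0, rfl⟩) hy₀0
    (fun z => z - (b u z / (2 * q u)) • u)
    (fun z => by rw [B_sub_right q, B_smul_right q, B_self q, div_mul_cancel₀ _ hu2, sub_self])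
    fun x hx z => by rw [B_sub_right q, B_smul_right q, B_comm q x u, hx, mul_zero, sub_zero]
  have hy2 : 2 * q y ≠ 0 := mul_ne_zero two hy
  obtain ⟨t₀, ht₀, ht₀0⟩ := Submodule.exists_mem_ne_zero_of_ne_bot
    (p := Orth.perp q (Submodule.span F (Set.range ![u, y]))) fun e => by
      have h1 := Orth.finrank_perp hq (Submodule.span F (Set.range ![u, y]))
      have h2 := finrank_span_list_le (F := F) ![u, y]
      rw [e, finrank_bot, Fintype.card_fin] at h1
      omega
  rw [Orth.mem_perp_span q] at ht₀
  obtain ⟨t, ⟨hut, hyt⟩, ht⟩ := exists_aniso_proj two hq (p := fun x => b u x = 0 ∧ b y x = 0)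
    (fun x z hx hz => ⟨by rw [B_add_right q, hx.1, hz.1, add_zero], by rw [B_add_right q, hx.2, hz.2, add_zero]⟩)
    ⟨ht₀ u ⟨0, rfl⟩, ht₀ y ⟨1, rfl⟩⟩ ht₀0
    (fun z => z - (b u z / (2 * q u)) • u - (b y z / (2 * q y)) • y)
    (fun z => by
      constructor <;> simp only [B_sub_right q, B_smul_right q, B_self q, huy, B_comm q y u, mul_zero, sub_zero,
        div_mul_cancel₀ _ hu2, div_mul_cancel₀ _ hy2, sub_self])
    fun x hx z => by
      simp [B_sub_right q, B_smul_right q, B_comm q x u, B_comm q x y, hx.1, hx.2]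
  exact ⟨y, t, hy, ht, huy, hut, hyt⟩

/-- minus a reflection is the product of the two complementary reflections -/
theorem neg_refl_eq (two : (2 : F) ≠ 0) {u y t : Fin 3 → F} (hu : q u ≠ 0) (hy : q y ≠ 0) (ht : q t ≠ 0)
    (huy : b u y = 0) (hut : b u t = 0) (hyt : b y t = 0) : -refl q u = refl q y * refl q t := by
  apply gl_ext; intro x
  have ho : ∀ i j, i ≠ j → b (![u, y, t] i) (![u, y, t] j) = 0 := by
    intro i j hij
    fin_cases i <;> fin_cases j <;>
      simp_all [B_comm q y u, B_comm q t u, B_comm q t y]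
  have e := expand_orth (q := q) two (w := ![u, y, t]) (fun i => by fin_cases i <;> assumption) ho x
  rw [Fin.sum_univ_three] at e
  simp only [Matrix.cons_val] at e
  rw [act_neg, act_mul, act_refl q ht, map_sub, map_smul, act_refl q hy, act_refl q hy, act_refl q hu, hyt,
    mul_zero, zero_smul, sub_zero]
  have c1 : (q u)⁻¹ * b u x = 2 * (b u x / (2 * q u)) := by field_simp
  have c2 : (q y)⁻¹ * b y x = 2 * (b y x / (2 * q y)) := by field_simp
  have c3 : (q t)⁻¹ * b t x = 2 * (b t x / (2 * q t)) := by field_simp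
  rw [c1, c2, c3]
  linear_combination (norm := module) -(2 : F) • e

variable [Finite F]

/-- a unipotent isometry fixing an anisotropic vector in dimension three is trivial -/
theorem eq_one_of_unipotent_fix (two : (2 : F) ≠ 0) (hq : (QuadraticMap.polarBilin q).Nondegenerate) {p : ℕ}
    [CharP F p] [Fact p.Prime] {a : GL (Fin 3) F} (ha : a ∈ isometryGroup F q) (hp : a ^ p = 1)
    {k : Fin 3 → F} (hk : q k ≠ 0) (hak : act a k = k) : a = 1 := by
  by_contra hne
  obtain ⟨x, hx⟩ : ∃ x, act a x ≠ x := by
    by_contra h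
    push Not at h
    exact hne (gl_ext fun x => by rw [h, act_one])
  let m : Module.End F (Fin 3 → F) := act a - LinearMap.id
  obtain ⟨y, ⟨z, hz⟩, hy0, hay⟩ := exists_fixed_of_unipotent (k := 1) (by rwa [pow_one])
    (S := LinearMap.range m) (fun w ⟨z, hz⟩ => ⟨act a z, by rw [← hz]; simp [m]⟩) (fun e => hx (by
      have : m x ∈ LinearMap.range m := ⟨x, rfl⟩
      rw [e, Submodule.mem_bot] at this
      exact sub_eq_zero.1 this))
  have horth : ∀ w z, act a w = w → b w (act a z - z) = 0 := fun w z hw => by
    rw [B_sub_right q]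
    conv_lhs => arg 1; rw [← hw, B_act ha]
    rw [sub_self]
  have hzy : act a z - z = y := hz
  have hky : b k y = 0 := hzy ▸ horth k z hak
  have hyy : q y = 0 := by
    have := horth y z hay
    rw [hzy, B_self q] at this
    exact (mul_eq_zero.1 this).resolve_left two
  have hli : LinearIndependent F ![k, y] := by
    rw [LinearIndependent.pair_iff]
    intro c d h
    have h' := congrArg (fun w => b k w) h
    simp only [B_add_right q, B_smul_right q, B_self q, hky, mul_zero, add_zero, B_zero_right q, mul_eq_zero, hk,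
      two, or_false] at h'
    rw [h', zero_smul, zero_add, smul_eq_zero] at h
    exact ⟨h', h.resolve_right hy0⟩
  have hperp : Orth.perp q (Submodule.span F (Set.range ![k, y])) = F ∙ y := by
    refine (Submodule.eq_of_le_of_finrank_le ((Submodule.span_singleton_le_iff_mem _ _).2 ?_) ?_).symm
    · rw [Orth.mem_perp_span q]
      rintro _ ⟨i, rfl⟩
      fin_cases i
      · exact hky
      · exact B_self_of_singular q hyy
    · rw [Orth.finrank_perp hq, finrank_span_eq_card hli, finrank_span_singleton hy0, Fintype.card_fin, Fintype.card_fin]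
  have hm : act a x - x ∈ F ∙ y := by
    rw [← hperp, Orth.mem_perp_span q]
    rintro _ ⟨i, rfl⟩
    fin_cases i
    · exact horth k x hak
    · exact horth y x hay
  obtain ⟨φ, hφ⟩ := Submodule.mem_span_singleton.1 hm
  have hQ := Q_act ha x
  rw [show act a x = x + φ • y by rw [hφ]; abel, Q_add q, Q_smul q, hyy, B_smul_right q, mul_zero, add_zero,
    add_eq_left, mul_eq_zero] at hQ
  rcases hQ with h | h
  · rw [h, zero_smul] at hφ
    exact hx (sub_eq_zero.1 hφ.symm)
  · apply hx
    have hle : x ∈ Orth.perp q (F ∙ y) := by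
      rw [Orth.mem_perp_span q]
      rintro _ rfl
      rw [B_comm q, h]
    rw [← hperp, Orth.perp_perp hq] at hle
    obtain ⟨c, hc⟩ := (Submodule.mem_span_range_iff_exists_fun F).1 hle
    rw [← hc, Fin.sum_univ_two]
    simp [hak, hay]

end Three

variable {ι : Type} [Fintype ι] [DecidableEq ι] {F : Type*} [Field F] {T : TSys ι F 3 4}

theorem sign_count : ∀ (s : Fin 3 → Bool) (t : Fin 4 → Bool),
    (Finset.univ.filter fun p : Fin 3 × Fin 4 => s p.1 = t p.2).card = 4 →
    ∃ i, ∀ p : Fin 3 × Fin 4, s p.1 = t p.2 → p.1 = i := by decide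

/-- a four-dimensional fixed space of an involution in a tensor product is a layer -/
theorem fix_layer (two : (2 : F) ≠ 0) {a : GL (Fin 3) F} {c : GL (Fin 4) F}
    (h : gl T a c * gl T a c = 1) (hd : finrank F (LinearMap.ker (act (gl T a c) - LinearMap.id)) = 4) :
    ∃ k, k ≠ 0 ∧ ∀ x, act (gl T a c) x = x → ∃ v, x = pt T k v := by
  classical
  rw [gl_mul] at h
  obtain ⟨μ, hμ, hμa, hμc⟩ := scalar_of_gl_eq_one T (by norm_num) (by norm_num) h
  obtain ⟨l, hl⟩ : ∃ l, l = (a : Matrix (Fin 3) (Fin 3) F).det / μ := ⟨_, rfl⟩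
  have hll : l * l = μ := by
    have e : ((a : Matrix (Fin 3) (Fin 3) F) * (a : Matrix (Fin 3) (Fin 3) F)) = μ • (1 : Matrix (Fin 3) (Fin 3) F) := by
      rw [← Units.val_mul]
      apply Matrix.toLin'.injective
      ext1 j
      refine LinearMap.ext fun x => ?_
      simp [← hμa, act]
    have e' := congrArg Matrix.det e
    rw [Matrix.det_mul, Matrix.det_smul, Matrix.det_one, Fintype.card_fin] at e'
    rw [hl, div_mul_div_comm, e', mul_one]
    field_simp
  have hl0 : l ≠ 0 := fun e => hμ (by rw [← hll, e, mul_zero])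
  let a' : GL (Fin 3) F := scalG (Units.mk0 l hl0)⁻¹ * a
  let c' : GL (Fin 4) F := scalG (Units.mk0 l hl0) * c
  have hgl : gl T a c = gl T a' c' := gl_ext_pt T fun u v => by
    rw [act_gl_pt, act_gl_pt, act_mul, act_mul, act_scalG, act_scalG, pt_smul_left, pt_smul_right, smul_smul,
      Units.val_inv_eq_inv_val, Units.val_mk0, inv_mul_cancel₀ hl0, one_smul]
  obtain ⟨x, s, hx⟩ := exists_eigenbasis two (a := a') (fun z => by
    simp only [a', act_mul, act_scalG, map_smul, Units.val_inv_eq_inv_val, Units.val_mk0]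
    rw [← act_mul, hμa, smul_smul, ← hll]
    match_scalars
    field_simp)
  obtain ⟨y, t, hy⟩ := exists_eigenbasis two (a := c') (fun z => by
    simp only [c', act_mul, act_scalG, map_smul, Units.val_mk0]
    rw [← act_mul, hμc, smul_smul, ← hll]
    match_scalars
    field_simp)
  let B : Fin 3 × Fin 4 → (ι → F) := fun p => pt T (x p.1) (y p.2)
  have hspan : ⊤ ≤ Submodule.span F (Set.range B) := by
    intro z _
    have h1 : ∀ u j, pt T u (y j) ∈ Submodule.span F (Set.range B) := fun u j => by
      refine (show (⊤ : Submodule F (Fin 3 → F)) ≤ (Submodule.span F (Set.range B)).comap (ptL T (y j)) from ?_)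
        (Submodule.mem_top (x := u))
      rw [← x.span_eq, Submodule.span_le]
      rintro _ ⟨i, rfl⟩
      exact Submodule.subset_span ⟨(i, j), rfl⟩
    have h2 : ∀ u v, pt T u v ∈ Submodule.span F (Set.range B) := fun u v => by
      refine (show (⊤ : Submodule F (Fin 4 → F)) ≤ (Submodule.span F (Set.range B)).comap (ptR T u) from ?_)
        (Submodule.mem_top (x := v))
      rw [← y.span_eq, Submodule.span_le]
      rintro _ ⟨j, rfl⟩
      exact h1 u j
    rw [sum_pt T z]
    exact Submodule.sum_mem _ fun i _ => Submodule.sum_mem _ fun j _ => Submodule.smul_mem _ _ (h2 _ _)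
  have hli : LinearIndependent F B := linearIndependent_of_top_le_span_of_card_eq_finrank hspan (by
    rw [Fintype.card_prod, Fintype.card_fin, Fintype.card_fin, finrank_space T])
  let E : Module.Basis (Fin 3 × Fin 4) F (ι → F) := Module.Basis.mk hli hspan
  have hE : ∀ p, E p = B p := fun p => Module.Basis.mk_apply hli hspan p
  have hB : ∀ p, act (gl T a c) (E p) = (if s p.1 = t p.2 then (1 : F) else -1) • E p := fun p => by
    rw [hE, hgl, act_gl_pt, hx, hy]
    cases s p.1 <;> cases t p.2 <;> simp [B, pt_neg_left, pt_neg_right]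
  have hcoord : ∀ z, act (gl T a c) z = z → ∀ p, ¬ s p.1 = t p.2 → E.repr z p = 0 := by
    intro z hz p hp
    have e : act (gl T a c) z = ∑ r, ((if s r.1 = t r.2 then (1 : F) else -1) * E.repr z r) • E r := by
      conv_lhs => rw [← E.sum_repr z]
      simp only [map_sum, map_smul, hB, smul_smul, mul_comm]
    rw [hz] at e
    have e1 := congrArg (fun w => E.repr w p) e
    simp only [E.repr_sum_self, if_neg hp, neg_mul, one_mul] at e1
    exact (mul_eq_zero.1 (show (2 : F) * E.repr z p = 0 by linear_combination e1)).resolve_left two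
  let S : Set (Fin 3 × Fin 4) := {p | s p.1 = t p.2}
  have hker : LinearMap.ker (act (gl T a c) - LinearMap.id) = Submodule.span F (E '' S) := by
    refine le_antisymm (fun z hz => ?_) (Submodule.span_le.2 ?_)
    · rw [Module.Basis.mem_span_image]
      intro p hp
      by_contra hpS
      exact Finsupp.mem_support_iff.1 (Finset.mem_coe.1 hp) (hcoord z (sub_eq_zero.1 hz) p hpS)
    · rintro _ ⟨p, hp, rfl⟩
      show act (gl T a c) (E p) - E p = 0
      rw [hB, if_pos (show s p.1 = t p.2 from hp), one_smul, sub_self]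
  have hcard : (Finset.univ.filter fun p : Fin 3 × Fin 4 => s p.1 = t p.2).card = 4 := by
    rw [hker, Set.image_eq_range] at hd
    have e := finrank_span_eq_card (R := F) (b := fun p : S => E p) (E.linearIndependent.comp _ Subtype.val_injective)
    rw [e] at hd
    rw [← Fintype.card_subtype]
    exact (Fintype.card_congr (Equiv.refl _)).trans hd
  obtain ⟨i, hi⟩ := sign_count s t hcard
  refine ⟨x i, x.ne_zero i, fun z hz => ⟨∑ j, E.repr z (i, j) • y j, ?_⟩⟩
  conv_lhs => rw [← E.sum_repr z]
  rw [Fintype.sum_prod_type, Finset.sum_eq_single i (fun r _ hr => Finset.sum_eq_zero fun j _ => by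
      rw [hcoord z hz (r, j) (fun e => hr (hi _ e)), zero_smul]) (by simp), ← ptR_apply, map_sum]
  exact Finset.sum_congr rfl fun j _ => by rw [map_smul, hE]; rfl

end Cfsg.Agent.MaxCl.OTens
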