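/-
The stabiliser of `O₃ ⊗ O₄⁻` is maximal: without top elements, minus reflections of the small factor are rigid, and
two classes of them force everything into the stabiliser.
-/
import Cfsg.Agent.Lib.MaxCl.OrthTensorSmallFix
import Cfsg.Agent.Lib.Coprime.Generation

set_option autoImplicit false
set_option linter.unusedSectionVars false
set_option linter.unusedSimpArgs false
set_option linter.style.haveILetI false

namespace Cfsg.Agent.MaxCl.OTens

open scoped MatrixGroups Matrix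
open Module (finrank)
open Orth Tens

/-! ### Two involutions -/

/-- two non-conjugate involutions commute with a third one, whose product with the first is conjugate to either -/
theorem exists_between {G : Type*} [Group G] [Finite G] {M : Subgroup G} {i j : G} (hi : i ∈ M) (hj : j ∈ M)
    (hi2 : i * i = 1) (hj2 : j * j = 1) (hnc : ∀ c ∈ M, c * i * c⁻¹ ≠ j) :
    ∃ z ∈ M, z ≠ 1 ∧ z * z = 1 ∧ z * i = i * z ∧ z * j = j * z ∧
      ∃ c ∈ M, i * z = c * i * c⁻¹ ∨ i * z = c * j * c⁻¹ := by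
  obtain ⟨x, hx⟩ : ∃ x, x = i * j := ⟨_, rfl⟩
  have hxM : x ∈ M := hx ▸ M.mul_mem hi hj
  have hj' : j = i * x := by rw [hx, ← mul_assoc, hi2, one_mul]
  have hinv : i * x * i = x⁻¹ := by
    refine eq_inv_of_mul_eq_one_left ?_
    rw [hx]
    simp only [← mul_assoc]
    rw [hi2, one_mul, mul_assoc j i i, hi2, mul_one, hj2]
  have hflip : ∀ k : ℕ, i * x ^ k = (x ^ k)⁻¹ * i := fun k => by
    induction k with
    | zero => simp
    | succ k ih =>
      rw [pow_succ x k, ← mul_assoc, ih, mul_assoc, show i * x = x⁻¹ * i from ?_, ← mul_assoc, ← mul_inv_rev,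
        ← pow_succ' x k, pow_succ x k]
      rw [← hinv, mul_assoc, hi2, mul_one]
  have hconj : ∀ k : ℕ, x ^ k * i * (x ^ k)⁻¹ = i * (x ^ (2 * k))⁻¹ := fun k => by
    have e : x ^ k * i = i * (x ^ k)⁻¹ := by
      apply mul_left_cancel (a := (x ^ k)⁻¹)
      rw [inv_mul_cancel_left, ← mul_assoc, ← hflip, mul_inv_cancel_right]
    rw [e, mul_assoc, ← mul_inv_rev, ← pow_add, two_mul]
  have hn := pow_orderOf_eq_one x
  obtain ⟨l, hl⟩ | ⟨l, hl⟩ := Nat.even_or_odd (orderOf x)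
  · have hl0 : 0 < l := by have := orderOf_pos x; omega
    have hzz : x ^ l * x ^ l = 1 := by rw [← pow_add, ← hl, hn]
    have hzi : (x ^ l)⁻¹ = x ^ l := inv_eq_of_mul_eq_one_right hzz
    have hcomm : x ^ l * i = i * x ^ l := by rw [hflip l, hzi]
    refine ⟨x ^ l, M.pow_mem hxM l, pow_ne_one_of_lt_orderOf (by omega) (by omega), hzz, hcomm, ?_, ?_⟩
    · rw [hj', ← mul_assoc, hcomm, mul_assoc, ← pow_succ, mul_assoc, ← pow_succ']
    · obtain ⟨m, hm⟩ | ⟨m, hm⟩ := Nat.even_or_odd l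
      · refine ⟨x ^ m, M.pow_mem hxM m, Or.inl ?_⟩
        rw [hconj, show 2 * m = l by omega, hzi]
      · refine ⟨x ^ (m + 1), M.pow_mem hxM _, Or.inr ?_⟩
        rw [hj', show x ^ (m + 1) * (i * x) * (x ^ (m + 1))⁻¹ = x ^ (m + 1) * i * (x ^ (m + 1))⁻¹ * x by group,
          hconj, mul_assoc]
        congr 1
        rw [eq_inv_mul_iff_mul_eq, ← pow_add, show 2 * (m + 1) + l = orderOf x + 1 by omega, pow_succ, hn, one_mul]
  · refine absurd ?_ (hnc (x ^ l) (M.pow_mem hxM l))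
    rw [hconj, hj']
    congr 1
    refine inv_eq_of_mul_eq_one_left ?_
    rw [← pow_succ', show 2 * l + 1 = orderOf x by omega, hn]

variable {ι : Type} [Fintype ι] [DecidableEq ι] {F : Type*} [Field F] [Finite F]
variable {T : TSys ι F 3 4} {Q : QuadraticForm F (ι → F)} {q₁ : QuadraticForm F (Fin 3 → F)}
variable {q₂ : QuadraticForm F (Fin 4 → F)} {M : Subgroup (GL ι F)}

set_option quotPrecheck false in
local notation "B" => QuadraticMap.polar (⇑Q)
set_option quotPrecheck false in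
local notation "B₁" => QuadraticMap.polar (⇑q₁)
set_option quotPrecheck false in
local notation "B₂" => QuadraticMap.polar (⇑q₂)
set_option quotPrecheck false in
local notation "S" => Cfsg.Geo.tensorProductSubgroup 3 4 T.e T.P

/-- minus a reflection of the small factor -/
noncomputable def iu (T : TSys ι F 3 4) (q₁ : QuadraticForm F (Fin 3 → F)) (u : Fin 3 → F) : GL ι F :=
  gl T (-refl q₁ u) 1

/-- the ingredients: an overgroup without top elements and the coordinates of the second factor -/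
structure Small (T : TSys ι F 3 4) (Q : QuadraticForm F (ι → F)) (q₁ : QuadraticForm F (Fin 3 → F))
    (q₂ : QuadraticForm F (Fin 4 → F)) (M : Subgroup (GL ι F)) (e f d₁ d₂ : Fin 4 → F) : Prop where
  ctx : OCtx T Q q₁ q₂ M
  mover : Mover T Q q₁ q₂ M
  he : q₂ e = 0
  hf : q₂ f = 0
  hef : QuadraticMap.polar q₂ e f = 1
  h1e : QuadraticMap.polar q₂ e d₁ = 0
  h1f : QuadraticMap.polar q₂ f d₁ = 0
  h1 : q₂ d₁ ≠ 0
  h2e : QuadraticMap.polar q₂ e d₂ = 0
  h2f : QuadraticMap.polar q₂ f d₂ = 0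
  h2 : q₂ d₂ ≠ 0
  h12 : QuadraticMap.polar q₂ d₁ d₂ = 0
  haniso : ∀ x, QuadraticMap.polar q₂ e x = 0 → q₂ x = 0 → x ∈ F ∙ e

variable {e f d₁ d₂ : Fin 4 → F} (R : Small T Q q₁ q₂ M e f d₁ d₂)
include R

theorem Small.he0 : e ≠ 0 := fun h => by
  have := R.hef
  rw [h, B_zero_left q₂] at this
  exact zero_ne_one this

theorem Small.inl_inj {a a' : GL (Fin 3) F} (h : gl T a 1 = gl T a' 1) : a = a' := gl_ext fun x => by
  have e' := congrArg (fun g => proj T q₂ f (act g (pt T x e))) h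
  have hfe : B₂ f e = 1 := by rw [B_comm q₂, R.hef]
  simpa only [act_gl_pt, act_one, proj_pt, hfe, one_smul] using e'

theorem Small.iu_act {u : Fin 3 → F} (hu : q₁ u ≠ 0) (x : ι → F) :
    act (iu T q₁ u) x = pt T u ((q₁ u)⁻¹ • projL T q₁ u x) - x := by
  have : act (iu T q₁ u) = ptR T u ∘ₗ ((q₁ u)⁻¹ • projL T q₁ u) - LinearMap.id := pt_ext T fun a v => by
    show _ = pt T u ((q₁ u)⁻¹ • projL T q₁ u (pt T a v)) - pt T a v
    rw [iu, act_gl_pt, act_one, act_neg, act_refl q₁ hu, projL_pt, smul_smul, pt_neg_left, pt_sub_left, neg_sub,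
      pt_smul_left, pt_smul_right]
  rw [this]; rfl

theorem Small.iu_fix {u : Fin 3 → F} (hu : q₁ u ≠ 0) (x : ι → F) :
    act (iu T q₁ u) x = x ↔ ∃ v, x = pt T u v := by
  constructor
  · intro h
    rw [R.iu_act hu, sub_eq_iff_eq_add, ← two_smul F] at h
    exact ⟨(2 : F)⁻¹ • ((q₁ u)⁻¹ • projL T q₁ u x), by rw [pt_smul_right, h, inv_smul_smul₀ R.ctx.two]⟩
  · rintro ⟨v, rfl⟩
    rw [R.iu_act hu, projL_pt, B_self q₁, pt_smul_right, pt_smul_right]
    match_scalars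
    field_simp
    ring

theorem Small.iu_sq (u : Fin 3 → F) : iu T q₁ u * iu T q₁ u = 1 := by
  rw [iu, gl_mul, neg_mul_neg, refl_mul_self, one_mul, gl_one]

theorem Small.simil {a : GL (Fin 3) F} {c : GL (Fin 4) F} (h : gl T a c ∈ isometryGroup F Q) :
    ∃ ν : F, ν ≠ 0 ∧ ∀ x y, ν * B₁ (act a x) (act a y) = B₁ x y := by
  have key : ∀ x y, B₁ (act a x) (act a y) * B₂ (act c e) (act c f) = B₁ x y := fun x y => by
    have e1 := B_act h (pt T x e) (pt T y f)
    rwa [act_gl_pt, act_gl_pt, R.ctx.form, R.ctx.form, R.hef, mul_one] at e1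
  refine ⟨B₂ (act c e) (act c f), fun h0 => ?_, fun x y => by rw [mul_comm]; exact key x y⟩
  obtain ⟨y, hy⟩ := exists_B_ne_zero R.ctx.h₁ (x := (Pi.single 0 1 : Fin 3 → F)) (by simp)
  exact hy (by rw [← key, h0, mul_zero])

/-- an orthogonal family with prescribed proportional values -/
theorem Small.exists_fam (ρ : F) (hρ : ρ ≠ 0) : ∃ w : Fin 4 → (Fin 4 → F),
    (∀ i j, i ≠ j → B₂ (w i) (w j) = 0) ∧ ∀ i, q₂ (w i) = ρ * ![1, -1, q₂ d₁, q₂ d₂] i := by
  haveI := Fintype.ofFinite F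
  obtain ⟨α, β, hab⟩ := exists_two_squares R.ctx.two R.h1 R.h2 (ρ * q₂ d₁)
  have hfe : B₂ f e = 1 := by rw [B_comm q₂, R.hef]
  obtain ⟨w₂, hw₂⟩ : ∃ w, w = α • d₁ + β • d₂ := ⟨_, rfl⟩
  obtain ⟨w₃, hw₃⟩ : ∃ w, w = (-(β * q₂ d₂ / q₂ d₁)) • d₁ + α • d₂ := ⟨_, rfl⟩
  have h1 := R.h1
  refine ⟨![e + ρ • f, e - ρ • f, w₂, w₃], ?_, fun i => ?_⟩
  · have a01 : B₂ (e + ρ • f) (e - ρ • f) = 0 := by
      simp only [B_add_left q₂, B_sub_right q₂, B_smul_left q₂, B_smul_right q₂, B_self_of_singular q₂ R.he,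
        B_self_of_singular q₂ R.hf, R.hef, hfe]
      ring
    have a02 : B₂ (e + ρ • f) w₂ = 0 := by
      simp [hw₂, B_add_left q₂, B_add_right q₂, B_smul_left q₂, B_smul_right q₂, R.h1e, R.h1f, R.h2e, R.h2f]
    have a03 : B₂ (e + ρ • f) w₃ = 0 := by
      simp [hw₃, B_add_left q₂, B_add_right q₂, B_smul_left q₂, B_smul_right q₂, R.h1e, R.h1f, R.h2e, R.h2f]
    have a12 : B₂ (e - ρ • f) w₂ = 0 := by
      simp [hw₂, B_sub_left q₂, B_add_right q₂, B_smul_left q₂, B_smul_right q₂, R.h1e, R.h1f, R.h2e, R.h2f]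
    have a13 : B₂ (e - ρ • f) w₃ = 0 := by
      simp [hw₃, B_sub_left q₂, B_add_right q₂, B_smul_left q₂, B_smul_right q₂, R.h1e, R.h1f, R.h2e, R.h2f]
    have a23 : B₂ w₂ w₃ = 0 := by
      simp only [hw₂, hw₃, B_add_left q₂, B_add_right q₂, B_smul_left q₂, B_smul_right q₂, R.h12,
        B_comm q₂ d₂ d₁, B_self q₂]
      field_simp
      ring
    intro i j hij
    fin_cases i <;> fin_cases j <;> simp only [Fin.reduceFinMk, Matrix.cons_val] <;> first
      | exact absurd rfl hij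
      | assumption
      | (rw [B_comm q₂]; assumption)
  · fin_cases i
    · simp [Q_add q₂, Q_smul q₂, B_smul_right q₂, R.he, R.hf, R.hef]
    · simp [Q_sub q₂, Q_smul q₂, B_smul_right q₂, R.he, R.hf, R.hef]
    · simp only [Fin.reduceFinMk, Matrix.cons_val, hw₂, Q_add q₂, Q_smul q₂, B_smul_left q₂, B_smul_right q₂, R.h12]
      linear_combination hab
    · simp only [Fin.reduceFinMk, Matrix.cons_val, hw₃, Q_add q₂, Q_smul q₂, B_smul_left q₂, B_smul_right q₂, R.h12]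
      field_simp
      linear_combination q₂ d₂ * hab

/-- a reflection of the small factor is a product of four reflections -/
theorem Small.gl_refl {y : Fin 3 → F} (hy : q₁ y ≠ 0) {w : Fin 4 → (Fin 4 → F)} (hq : ∀ i, q₂ (w i) ≠ 0)
    (ho : ∀ i j, i ≠ j → B₂ (w i) (w j) = 0) :
    gl T (refl q₁ y) 1 = refl Q (pt T y (w 0)) * (refl Q (pt T y (w 1)) *
      (refl Q (pt T y (w 2)) * refl Q (pt T y (w 3)))) := by
  refine gl_ext_pt T fun x v => ?_
  have hne : ∀ i, Q (pt T y (w i)) ≠ 0 := fun i => by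
    rw [Q_pt R.ctx]; exact mul_ne_zero (mul_ne_zero R.ctx.two hy) (hq i)
  simp only [act_mul, act_gl_pt, act_one, act_refl Q (hne _), act_refl q₁ hy, map_sub, map_smul, B_sub_right Q, B_smul_right Q,
    R.ctx.form,
    Q_pt R.ctx, ho 0 1 (by decide), ho 0 2 (by decide), ho 0 3 (by decide), ho 1 2 (by decide),
    ho 1 3 (by decide), ho 2 3 (by decide), mul_zero, zero_smul, sub_zero, pt_sub_left, pt_smul_left]
  conv_lhs =>
    arg 2
    rw [expand_orth R.ctx.two hq ho v, Fin.sum_univ_four, pt_add_right, pt_add_right, pt_add_right,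
      pt_smul_right, pt_smul_right, pt_smul_right, pt_smul_right]
  have two := R.ctx.two
  have := hq 0; have := hq 1; have := hq 2; have := hq 3
  match_scalars <;> field_simp

/-- minus reflections of the small factor lie in the overgroup -/
theorem Small.iu_mem {u : Fin 3 → F} (hu : q₁ u ≠ 0) : iu T q₁ u ∈ M := by
  haveI := Fintype.ofFinite F
  obtain ⟨y, t, hy, ht, huy, hut, hyt⟩ := exists_orth_completion R.ctx.two R.ctx.h₁ hu
  obtain ⟨w, how, hqw⟩ := R.exists_fam 1 one_ne_zero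
  obtain ⟨w', how', hqw'⟩ := R.exists_fam (q₁ y / q₁ t) (div_ne_zero hy ht)
  have hne : ∀ i, (![1, -1, q₂ d₁, q₂ d₂] : Fin 4 → F) i ≠ 0 := fun i => by
    fin_cases i <;> simp [R.h1, R.h2]
  have hq : ∀ i, q₂ (w i) ≠ 0 := fun i => by rw [hqw, one_mul]; exact hne i
  have hq' : ∀ i, q₂ (w' (Fin.rev i)) ≠ 0 := fun i => by
    rw [hqw']; exact mul_ne_zero (div_ne_zero hy ht) (hne _)
  refine R.ctx.ge _ _ ?_
  rw [omega_eq_sgGroup R.ctx.hQ (five_le R.ctx)]
  have eprod : gl T (-refl q₁ u) (1 : GL (Fin 4) F) = gl T (refl q₁ y) 1 * gl T (refl q₁ t) 1 := by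
    rw [gl_mul, one_mul, neg_refl_eq R.ctx.two hu hy ht huy hut hyt]
  rw [eprod, R.gl_refl hy hq how, R.gl_refl (y := t) ht (w := fun i => w' (Fin.rev i)) hq'
    (fun i j h => how' _ _ (fun e => h (Fin.rev_injective e)))]
  have hv : ∀ i, Q (pt T y (w i)) = Q (pt T t (w' i)) := fun i => by
    rw [Q_pt R.ctx, Q_pt R.ctx, hqw, hqw', one_mul]
    field_simp
  have step : ∀ {X : GL ι F}, X ∈ sgGroup Q → ∀ i,
      refl Q (pt T y (w i)) * X * refl Q (pt T t (w' i)) ∈ sgGroup Q := fun {X} hX i => by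
    have := mul_mem (conj_mem_sgGroup (refl_mem_iso Q (pt T y (w i))) hX)
      (refl_mul_refl_mem R.ctx.hQ (five_le R.ctx) (hv i))
    rwa [refl_inv, mul_assoc, ← mul_assoc (refl Q (pt T y (w i))) (refl Q (pt T y (w i))), refl_mul_self,
      one_mul] at this
  have h := step (step (step (step (one_mem _) 3) 2) 1) 0
  simp only [mul_one] at h
  simpa only [mul_assoc, show Fin.rev (0 : Fin 4) = 3 from rfl, show Fin.rev (1 : Fin 4) = 2 from rfl,
    show Fin.rev (2 : Fin 4) = 1 from rfl, show Fin.rev (3 : Fin 4) = 0 from rfl] using h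

/-! ### Rigidity -/

/-- the Siegel elements at `e` of the second factor -/
def Small.axis (_R : Small T Q q₁ q₂ M e f d₁ d₂) : Subgroup (GL ι F) where
  carrier := {g | ∃ d, B₂ e d = 0 ∧ B₂ f d = 0 ∧ g = gl T 1 (sg q₂ e d)}
  one_mem' := ⟨0, B_zero_right q₂ e, B_zero_right q₂ f, by rw [sg_zero, gl_one]⟩
  mul_mem' := by
    rintro _ _ ⟨d, h1, h2, rfl⟩ ⟨d', h1', h2', rfl⟩
    exact ⟨d + d', by rw [B_add_right q₂, h1, h1', add_zero], by rw [B_add_right q₂, h2, h2', add_zero],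
      by rw [gl_mul, one_mul, sg_add q₂ _R.he h1 h1']⟩
  inv_mem' := by
    rintro _ ⟨d, h1, h2, rfl⟩
    exact ⟨-d, by rw [B_neg_right q₂, h1, neg_zero], by rw [B_neg_right q₂, h2, neg_zero],
      by rw [gl_inv, inv_one, sg_neg q₂ _R.he h1]⟩

theorem Small.pow_axis {d : Fin 4 → F} (hd : B₂ e d = 0) (m : ℕ) :
    gl T (1 : GL (Fin 3) F) (sg q₂ e d) ^ m = gl T 1 (sg q₂ e ((m : F) • d)) := by
  rw [gl_pow, one_pow, sg_pow R.he hd]

theorem Small.not_cyclic : ¬ IsCyclic R.axis := by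
  intro hc
  obtain ⟨⟨g, d, hed, hfd, rfl⟩, hg⟩ := hc.exists_generator
  have hfe : B₂ f e = 1 := by rw [B_comm q₂, R.hef]
  have key : ∀ d', B₂ e d' = 0 → B₂ f d' = 0 → ∃ m : ℕ, ∀ z, B₂ e z = 0 → B₂ z d' = m * B₂ z d := by
    intro d' he' hf'
    haveI : Finite (GL ι F) := inferInstance
    obtain ⟨m, hm⟩ := mem_powers_iff_mem_zpowers.2 (hg ⟨_, d', he', hf', rfl⟩)
    refine ⟨m, fun z hz => ?_⟩
    have hm' : gl T (1 : GL (Fin 3) F) (sg q₂ e d) ^ m = gl T 1 (sg q₂ e d') := congrArg Subtype.val hm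
    rw [R.pow_axis hed] at hm'
    obtain ⟨u, hu⟩ : ∃ u : Fin 3 → F, u 0 = 1 := ⟨Pi.single 0 1, by simp⟩
    have h := congrArg (fun k => proj T q₂ z (act k (pt T u f)) 0) hm'
    simp only [act_gl_pt, act_one, proj_pt, act_sg q₂ R.he he', R.hef, Pi.smul_apply, hu, smul_eq_mul, mul_one,
      act_sg q₂ R.he (show B₂ e ((m : F) • d) = 0 by rw [B_smul_right q₂, hed, mul_zero]), B_sub_right q₂,
      B_add_right q₂, B_smul_right q₂, B_comm q₂ z e, hz, mul_zero, sub_zero, one_smul] at h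
    linear_combination -h
  obtain ⟨m₁, e1⟩ := key d₁ R.h1e R.h1f
  obtain ⟨m₂, e2⟩ := key d₂ R.h2e R.h2f
  have c1 := mul_ne_zero R.ctx.two R.h1
  have c2 := mul_ne_zero R.ctx.two R.h2
  have a11 := e1 d₁ R.h1e
  have a21 := e2 d₁ R.h1e
  have a22 := e2 d₂ R.h2e
  rw [B_self q₂] at a11 a22
  rw [R.h12] at a21
  rcases mul_eq_zero.1 a21.symm with h | h
  · rw [h, zero_mul] at a22; exact c2 a22
  · rw [h, mul_zero] at a11; exact c1 a11

/-- the pointwise stabiliser of an anisotropic layer lies in the tensor group -/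
theorem Small.layerFix_le {k : Fin 3 → F} (hk : q₁ k ≠ 0) {n : GL ι F} (hn : n ∈ M)
    (hfix : ∀ v, act n (pt T k v) = pt T k v) : n ∈ S := by
  haveI : Finite (GL ι F) := inferInstance
  let N : Subgroup (GL ι F) := M ⊓ ⨅ v, fixVec (pt T k v)
  have hN : ∀ g, g ∈ N ↔ g ∈ M ∧ ∀ v, act g (pt T k v) = pt T k v := fun g => by
    rw [Subgroup.mem_inf, Subgroup.mem_iInf]; rfl
  obtain ⟨p, -, hprime, hchar⟩ := exists_odd_char R.ctx.two
  haveI := hchar
  haveI : Fact p.Prime := ⟨hprime⟩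
  have hA : ∀ a ∈ R.axis, a ∈ M ∧ a ^ p = 1 ∧ ∀ v, ∃ v', act a (pt T k v) = pt T k v' := by
    rintro _ ⟨d, -, -, rfl⟩
    exact ⟨gl_right_mem R.ctx (sg_mem_sgGroup e d), by rw [gl_pow, one_pow, sg_pow_char, gl_one],
      fun v => ⟨_, by rw [act_gl_pt, act_one]⟩⟩
  have hnorm : R.axis ≤ Subgroup.normalizer (N : Set (GL ι F)) := by
    have h1 : ∀ a ∈ R.axis, ∀ g ∈ N, a * g * a⁻¹ ∈ N := fun a ha g hg => by
      obtain ⟨haM, -, -⟩ := hA a ha
      obtain ⟨-, -, hk'⟩ := hA a⁻¹ (inv_mem ha)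
      rw [hN] at hg ⊢
      refine ⟨M.mul_mem (M.mul_mem haM hg.1) (M.inv_mem haM), fun v => ?_⟩
      obtain ⟨v', hv'⟩ := hk' v
      rw [act_mul, act_mul, hv', hg.2, ← hv', act_act_inv]
    intro a ha
    rw [Subgroup.mem_normalizer_iff]
    refine fun g => ⟨h1 a ha g, fun h => ?_⟩
    have := h1 a⁻¹ (inv_mem ha) _ h
    rwa [inv_inv, show a⁻¹ * (a * g * a⁻¹) * a = g by group] at this
  have hcent : ∀ x ∈ N, ∀ d, B₂ e d = 0 → B₂ f d = 0 → d ≠ 0 →
      Commute x (gl T 1 (sg q₂ e d)) → x ∈ S := by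
    intro x hx d hed hfd hd0 hcom
    refine rig_short R.mover ((hN x).1 hx).1 R.he R.he0 hed (fun h0 => hd0 ?_) ?_
    · obtain ⟨l, rfl⟩ := Submodule.mem_span_singleton.1 (R.haniso d hed h0)
      rw [B_smul_right q₂, B_comm q₂, R.hef, mul_one] at hfd
      rw [hfd, zero_smul]
    · rw [hcom.eq, mul_inv_cancel_right]
      exact gl_mem T _ _
  have hAp : IsPGroup p R.axis := fun a => ⟨1, Subtype.ext (by rw [pow_one]; exact (hA a a.2).2.1)⟩
  have hcop : (Nat.card R.axis).Coprime (Nat.card N) := by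
    obtain ⟨r, hr⟩ := IsPGroup.exists_card_eq hAp
    rw [hr]
    refine Nat.Coprime.pow_left _ (hprime.coprime_iff_not_dvd.2 fun hdvd => ?_)
    letI : MulAction R.axis N :=
      MulAction.compHom N ((Subgroup.normalizerMonoidHom N).comp (Subgroup.inclusion hnorm))
    let C : Subgroup (GL ι F) := N ⊓ Subgroup.centralizer (R.axis : Set (GL ι F))
    have hmem : ∀ x : N, x ∈ MulAction.fixedPoints R.axis N ↔ (x : GL ι F) ∈ C := by
      intro x
      rw [MulAction.mem_fixedPoints, Subgroup.mem_inf, and_iff_right x.2, Subgroup.mem_centralizer_iff]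
      refine ⟨fun h a ha => ?_, fun h a => Subtype.ext ?_⟩
      · have := congrArg Subtype.val (h ⟨a, ha⟩)
        change a * (x : GL ι F) * a⁻¹ = x at this
        exact mul_inv_eq_iff_eq_mul.1 this
      · show (a : GL ι F) * x * (a : GL ι F)⁻¹ = x
        rw [h a a.2, mul_inv_cancel_right]
    let eqv : MulAction.fixedPoints R.axis N ≃ C :=
      { toFun := fun x => ⟨x.1, (hmem x.1).1 x.2⟩
        invFun := fun x => ⟨⟨x.1, (Subgroup.mem_inf.1 x.2).1⟩, (hmem _).2 x.2⟩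
        left_inv := fun _ => rfl
        right_inv := fun _ => rfl }
    have hC : p ∣ Nat.card C := by
      rw [← Nat.card_congr eqv]
      exact (Nat.ModEq.dvd_iff (hAp.card_modEq_card_fixedPoints N) dvd_rfl).1 hdvd
    obtain ⟨x, hx⟩ := exists_prime_orderOf_dvd_card' p hC
    obtain ⟨hxN, hxC⟩ := Subgroup.mem_inf.1 x.2
    have hxS : (x : GL ι F) ∈ S := hcent _ hxN d₁ R.h1e R.h1f (fun h0 => R.h1 (by rw [h0, map_zero]))
      (Subgroup.mem_centralizer_iff.1 hxC _ ⟨d₁, R.h1e, R.h1f, rfl⟩).symm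
    have hxp : (x : GL ι F) ^ p = 1 := by rw [← SubmonoidClass.coe_pow, ← hx, pow_orderOf_eq_one]; rfl
    suffices h1 : (x : GL ι F) = 1 by
      have h1' : x = 1 := Subtype.ext h1
      rw [h1', orderOf_one] at hx
      exact hprime.one_lt.ne' hx.symm
    obtain ⟨a, c, hac⟩ := exists_of_mem T hxS
    obtain ⟨hxM, hxk⟩ := (hN _).1 hxN
    have hkk : B₁ k k ≠ 0 := by rw [B_self q₁]; exact mul_ne_zero R.ctx.two hk
    obtain ⟨s, hs⟩ : ∃ s, s = B₁ k (act a k) / B₁ k k := ⟨_, rfl⟩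
    have hc : ∀ v, s • act c v = v := fun v => by
      have h := congrArg (projL T q₁ k) (hxk v)
      rw [hac, act_gl_pt, projL_pt, projL_pt] at h
      rw [hs, div_eq_inv_mul, mul_smul, h, inv_smul_smul₀ hkk]
    have hs0 : s ≠ 0 := fun h => R.he0 (by rw [← hc e, h, zero_smul])
    obtain ⟨a', ha'⟩ : ∃ a' : GL (Fin 3) F, a' = scalG (Units.mk0 s hs0)⁻¹ * a := ⟨_, rfl⟩
    have hx' : (x : GL ι F) = gl T a' 1 := by
      rw [hac]
      refine gl_ext_pt T fun u v => ?_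
      rw [act_gl_pt, act_gl_pt, ha', act_mul, act_scalG, act_one, Units.val_inv_eq_inv_val, Units.val_mk0]
      conv_rhs => rw [← hc v, pt_smul_left, pt_smul_right, inv_smul_smul₀ hs0]
    have ha'iso : a' ∈ isometryGroup F q₁ := mem_iso_of_polar R.ctx.two fun u u' => by
      have h := B_act (M_le_iso R.ctx hxM) (pt T u d₁) (pt T u' d₁)
      rw [hx', act_gl_pt, act_gl_pt, act_one, R.ctx.form, R.ctx.form] at h
      exact mul_right_cancel₀ (by rw [B_self q₂]; exact mul_ne_zero R.ctx.two R.h1) h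
    have hak : act a' k = k := by
      have h := congrArg (proj T q₂ d₁) (hxk d₁)
      rw [hx', act_gl_pt, act_one, proj_pt, proj_pt] at h
      exact smul_right_injective _ (by rw [B_self q₂]; exact mul_ne_zero R.ctx.two R.h1) h
    have hap : a' ^ p = 1 := R.inl_inj (by
      rw [gl_one]
      conv_rhs => rw [← hxp, hx', gl_pow, one_pow])
    rw [hx', eq_one_of_unipotent_fix R.ctx.two R.ctx.h₁ ha'iso hap hk hak, gl_one]
  haveI : IsMulCommutative R.axis := ⟨⟨fun ⟨_, d, h, _, ha⟩ ⟨_, d', h', _, hb⟩ => Subtype.ext (by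
    subst ha hb
    show gl T 1 (sg q₂ e d) * gl T 1 (sg q₂ e d') = gl T 1 (sg q₂ e d') * gl T 1 (sg q₂ e d)
    rw [gl_mul, gl_mul, sg_add q₂ R.he h h', sg_add q₂ R.he h' h, add_comm])⟩⟩
  have hle : N ≤ S := by
    rw [← Coprime.iSup_centralizer_eq R.not_cyclic hnorm hcop]
    refine iSup₂_le fun a ⟨ha, ha1⟩ x hx => ?_
    obtain ⟨d, hed, hfd, rfl⟩ := ha
    refine hcent x hx.1 d hed hfd (fun h0 => ha1 (by rw [h0, sg_zero, gl_one])) ?_
    exact Subgroup.mem_centralizer_singleton_iff.1 hx.2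
  exact hle ((hN n).2 ⟨hn, hfix⟩)

/-- elements moving an anisotropic layer onto another are tensor products -/
theorem Small.move_left {g : GL ι F} (hg : g ∈ M) {u k : Fin 3 → F} (hu : q₁ u ≠ 0)
    (h : ∀ v, ∃ w, act g (pt T u v) = pt T k w) : g ∈ S := by
  have hgI := M_le_iso R.ctx hg
  have hk : q₁ k ≠ 0 := fun hk => by
    obtain ⟨w, hw⟩ := h d₁
    have := Q_act hgI (pt T u d₁)
    rw [hw, Q_pt R.ctx, Q_pt R.ctx, hk, mul_zero, zero_mul] at this
    exact mul_ne_zero (mul_ne_zero R.ctx.two hu) R.h1 this.symm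
  have hkk : B₁ k k ≠ 0 := by rw [B_self q₁]; exact mul_ne_zero R.ctx.two hk
  let β : (Fin 4 → F) →ₗ[F] (Fin 4 → F) := (B₁ k k)⁻¹ • (projL T q₁ k ∘ₗ act g ∘ₗ ptR T u)
  have hβ : ∀ v, act g (pt T u v) = pt T k (β v) := fun v => by
    obtain ⟨w, hw⟩ := h v
    rw [show β v = (B₁ k k)⁻¹ • projL T q₁ k (act g (pt T u v)) from rfl, hw, projL_pt, inv_smul_smul₀ hkk]
  obtain ⟨μ, hμ⟩ : ∃ μ, μ = q₁ u / q₁ k := ⟨_, rfl⟩
  have hμ0 : μ ≠ 0 := hμ ▸ div_ne_zero hu hk
  have hB : ∀ x y, B₂ (β x) (β y) = μ * B₂ x y := fun x y => by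
    have e1 := B_act hgI (pt T u x) (pt T u y)
    rw [hβ, hβ, R.ctx.form, R.ctx.form, B_self q₁, B_self q₁] at e1
    rw [hμ]
    field_simp
    exact mul_left_cancel₀ R.ctx.two (by linear_combination e1)
  have hQ2 : ∀ x, q₂ (β x) = μ * q₂ x := fun x => by
    have := hB x x
    rw [B_self q₂, B_self q₂] at this
    exact mul_left_cancel₀ R.ctx.two (by linear_combination this)
  obtain ⟨d', hd'⟩ : ∃ d, d = μ⁻¹ • β d₁ := ⟨_, rfl⟩
  have hed' : B₂ (β e) d' = 0 := by rw [hd', B_smul_right q₂, hB, R.h1e, mul_zero, mul_zero]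
  have hqe : q₂ (β e) = 0 := by rw [hQ2, R.he, mul_zero]
  have hr : gl T 1 (sg q₂ e d₁) ∈ M := gl_right_mem R.ctx (sg_mem_sgGroup e d₁)
  have hr' : gl T 1 (sg q₂ (β e) d') ∈ M := gl_right_mem R.ctx (sg_mem_sgGroup _ _)
  have hcov : ∀ v, ∃ x, v = β x := fun v => by
    have hinj : Function.Injective β := fun x y hxy => by
      have := act_injective g (by rw [hβ, hβ, hxy] : act g (pt T u x) = act g (pt T u y))
      rw [← sub_eq_zero, ← pt_sub_right, pt_eq_zero, sub_eq_zero] at this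
      exact this.resolve_left fun h0 => hu (by rw [h0, map_zero])
    obtain ⟨x, hx⟩ := LinearMap.surjective_of_injective hinj v
    exact ⟨x, hx.symm⟩
  have hsg : ∀ x, act (sg q₂ (β e) d') (β x) = β (act (sg q₂ e d₁) x) := fun x => by
    rw [act_sg q₂ hqe hed', act_sg q₂ R.he R.h1e, map_sub, map_add, map_smul, map_smul, hd', B_smul_left q₂,
      hB, hB, Q_smul q₂, hQ2, smul_smul]
    match_scalars <;> field_simp
  have hn := R.layerFix_le hk
    (n := (gl T 1 (sg q₂ (β e) d'))⁻¹ * (g * gl T 1 (sg q₂ e d₁) * g⁻¹))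
    (M.mul_mem (M.inv_mem hr') (M.mul_mem (M.mul_mem hg hr) (M.inv_mem hg))) (fun v => by
      obtain ⟨x, rfl⟩ := hcov v
      apply act_injective (gl T (1 : GL (Fin 3) F) (sg q₂ (β e) d'))
      rw [act_mul, act_act_inv, act_mul, act_mul, ← hβ, act_inv_act, act_gl_pt, act_one, hβ, hβ, act_gl_pt, act_one,
        hsg])
  refine rig_short R.mover hg R.he R.he0 R.h1e R.h1 ?_
  have := mul_mem (gl_mem T (1 : GL (Fin 3) F) (sg q₂ (β e) d')) hn
  rwa [mul_inv_cancel_left] at this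

/-- minus reflections of the small factor are rigid -/
theorem Small.rig_iu {g : GL ι F} (hg : g ∈ M) {u : Fin 3 → F} (hu : q₁ u ≠ 0)
    (h : g * iu T q₁ u * g⁻¹ ∈ S) : g ∈ S := by
  obtain ⟨a, c, hac⟩ := exists_of_mem T h
  have hsq : gl T a c * gl T a c = 1 := by
    rw [← hac, show g * iu T q₁ u * g⁻¹ * (g * iu T q₁ u * g⁻¹) = g * (iu T q₁ u * iu T q₁ u) * g⁻¹ by group,
      R.iu_sq, mul_one, mul_inv_cancel]
  have hker : LinearMap.ker (act (gl T a c) - LinearMap.id) = LinearMap.range (act g ∘ₗ ptR T u) := by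
    ext x
    rw [LinearMap.mem_ker, LinearMap.sub_apply, LinearMap.id_apply, sub_eq_zero, ← hac, act_mul, act_mul,
      LinearMap.mem_range]
    constructor
    · intro hx
      have : act (iu T q₁ u) (act g⁻¹ x) = act g⁻¹ x := by
        conv_rhs => rw [← hx, act_inv_act]
      obtain ⟨v, hv⟩ := (R.iu_fix hu _).1 this
      exact ⟨v, by rw [LinearMap.comp_apply, ptR_apply, ← hv, act_act_inv]⟩
    · rintro ⟨v, rfl⟩
      rw [LinearMap.comp_apply, ptR_apply, act_inv_act, (R.iu_fix hu _).2 ⟨v, rfl⟩]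
  have hinj : Function.Injective (act g ∘ₗ ptR T u) := (act_injective g).comp fun x y hxy => by
    rw [ptR_apply, ptR_apply, ← sub_eq_zero, ← pt_sub_right, pt_eq_zero, sub_eq_zero] at hxy
    exact hxy.resolve_left fun h0 => hu (by rw [h0, map_zero])
  obtain ⟨k, -, hk⟩ := fix_layer R.ctx.two hsq (by
    rw [hker, LinearMap.finrank_range_of_inj hinj, Module.finrank_fin_fun])
  refine R.move_left hg hu (k := k) fun v => hk _ ?_
  have : act g (pt T u v) ∈ LinearMap.ker (act (gl T a c) - LinearMap.id) := hker ▸ ⟨v, rfl⟩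
  exact sub_eq_zero.1 this

/-- conjugates inside the tensor group -/
theorem Small.conj_iu {h : GL ι F} (hh : h ∈ M) (hS : h ∈ S) {u : Fin 3 → F} (hu : q₁ u ≠ 0) :
    ∃ (y : Fin 3 → F) (ν : F), IsSquare ν ∧ ν * q₁ y = q₁ u ∧ q₁ y ≠ 0 ∧ h * iu T q₁ u * h⁻¹ = iu T q₁ y := by
  obtain ⟨a, c, rfl⟩ := exists_of_mem T hS
  obtain ⟨ν, hν, ha⟩ := R.simil (M_le_iso R.ctx hh)
  obtain ⟨hy, he'⟩ := conj_refl_simil hν R.ctx.two ha hu
  refine ⟨act a u, ν, isSquare_multiplier R.ctx.h₁ hν ha, ?_, hy, ?_⟩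
  · have := ha u u
    rw [B_self q₁, B_self q₁] at this
    exact mul_left_cancel₀ R.ctx.two (by linear_combination this)
  · rw [iu, gl_inv, gl_mul, gl_mul, mul_one, mul_inv_cancel, iu, ← he', mul_neg, neg_mul]

/-- everything is a tensor product -/
theorem Small.mem_tensor {g : GL ι F} (hg : g ∈ M) : g ∈ S := by
  haveI : Finite (GL ι F) := inferInstance
  haveI := Fintype.ofFinite F
  obtain ⟨v, -, hv0, hv⟩ := Orth.exists_singular q₁ (D := (⊤ : Submodule F (Fin 3 → F))) (by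
    rw [finrank_top, Module.finrank_fin_fun])
  obtain ⟨w, hw, hvw⟩ := exists_partner_top R.ctx.h₁ hv hv0
  obtain ⟨δ, hδ⟩ := FiniteField.exists_nonsquare (F := F) fun hc => R.ctx.two (by
    haveI := ringChar.of_eq hc
    exact CharTwo.two_eq_zero)
  have hval : ∀ c : F, q₁ (v + c • w) = c := fun c => by
    rw [Q_add q₁, Q_smul q₁, B_smul_right q₁, hv, hw, hvw]; ring
  obtain ⟨u, hu⟩ : ∃ u, q₁ u = 1 := ⟨_, hval 1⟩
  obtain ⟨u', hu'⟩ : ∃ u', q₁ u' = δ := ⟨_, hval δ⟩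
  have hu0 : q₁ u ≠ 0 := by rw [hu]; exact one_ne_zero
  have hδ0 : δ ≠ 0 := fun h => hδ (h ▸ IsSquare.zero)
  have hu'0 : q₁ u' ≠ 0 := by rw [hu']; exact hδ0
  have hnc : ∀ h ∈ M, h * iu T q₁ u * h⁻¹ ≠ iu T q₁ u' := by
    intro h hh he'
    have hS : h ∈ S := R.rig_iu hh hu0 (he' ▸ gl_mem T _ _)
    obtain ⟨y, ν, hνsq, hνy, hy, hc⟩ := R.conj_iu hh hS hu0
    obtain ⟨k, hk⟩ := refl_inj R.ctx.two hy hu'0 (neg_injective (R.inl_inj (hc.symm.trans he')))
    apply hδ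
    obtain ⟨s, rfl⟩ := hνsq
    have hs : s * s * q₁ y = 1 := hνy.trans hu
    have hs0 : s ≠ 0 := fun h => by simp [h] at hs
    refine ⟨k / s, ?_⟩
    rw [← hu', hk, Q_smul q₁, div_mul_div_comm, eq_div_iff (mul_ne_zero hs0 hs0)]
    linear_combination k * k * hs
  obtain ⟨j, hjdef⟩ : ∃ j, j = g * iu T q₁ u' * g⁻¹ := ⟨_, rfl⟩
  have hjM : j ∈ M := hjdef ▸ M.mul_mem (M.mul_mem hg (R.iu_mem hu'0)) (M.inv_mem hg)
  obtain ⟨z, hzM, hz1, hz2, hzi, hzj, c, hcM, hc⟩ := exists_between (R.iu_mem hu0) hjM (R.iu_sq u)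
    (by rw [hjdef, show g * iu T q₁ u' * g⁻¹ * (g * iu T q₁ u' * g⁻¹) = g * (iu T q₁ u' * iu T q₁ u') * g⁻¹ by group,
      R.iu_sq, mul_one, mul_inv_cancel])
    (fun h hh he' => hnc (g⁻¹ * h) (M.mul_mem (M.inv_mem hg) hh) (by
      rw [show g⁻¹ * h * iu T q₁ u * (g⁻¹ * h)⁻¹ = g⁻¹ * (h * iu T q₁ u * h⁻¹) * g by group, he', hjdef]
      group))
  have hzS : z ∈ S := R.rig_iu hzM hu0 (by
    rw [hzi, mul_inv_cancel_right]; exact gl_mem T _ _)
  have hizS : iu T q₁ u * z ∈ S := mul_mem (gl_mem T _ _) hzS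
  obtain ⟨y, hy, hiz⟩ : ∃ y, q₁ y ≠ 0 ∧ iu T q₁ u * z = iu T q₁ y := by
    rcases hc with hc | hc
    · obtain ⟨y, -, -, -, hy, he'⟩ := R.conj_iu hcM (R.rig_iu hcM hu0 (hc ▸ hizS)) hu0
      exact ⟨y, hy, hc.trans he'⟩
    · have hcg : c * g * iu T q₁ u' * (c * g)⁻¹ = c * j * c⁻¹ := by rw [hjdef]; group
      obtain ⟨y, -, -, -, hy, he'⟩ := R.conj_iu (M.mul_mem hcM hg)
        (R.rig_iu (M.mul_mem hcM hg) hu'0 (by rw [hcg, ← hc]; exact hizS)) hu'0
      exact ⟨y, hy, by rw [hc, ← hcg, he']⟩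
  have hz : z = gl T (refl q₁ u * refl q₁ y) 1 := by
    have e1 : z = iu T q₁ u * (iu T q₁ u * z) := by rw [← mul_assoc, R.iu_sq, one_mul]
    rw [e1, hiz, iu, iu, gl_mul, one_mul, neg_mul_neg]
  have hcomm : refl q₁ u * refl q₁ y = refl q₁ y * refl q₁ u := by
    have h2 : (refl q₁ u * refl q₁ y) * (refl q₁ u * refl q₁ y) = 1 := R.inl_inj (by
      rw [gl_one]; conv_rhs => rw [← hz2, hz, gl_mul, one_mul])
    rw [← inv_eq_of_mul_eq_one_right h2, mul_inv_rev, refl_inv, refl_inv]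
  have huy : B₁ u y = 0 := by
    by_contra hB
    have e1 := congrArg (fun h => act h y) hcomm
    simp only [act_mul, act_refl_self q₁ hy, map_neg] at e1
    have hx : refl q₁ (act (refl q₁ u) y) = refl q₁ y := by
      rw [← conj_refl q₁ (refl_mem_iso q₁ u), hcomm, mul_inv_cancel_right]
    obtain ⟨k, hk⟩ := refl_inj R.ctx.two hy (by rwa [Q_act (refl_mem_iso q₁ u)]) hx.symm
    rw [act_refl q₁ hu0] at hk
    have hk' : (1 - k) • y = ((q₁ u)⁻¹ * B₁ u y) • u := by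
      linear_combination (norm := module) hk
    have hk1 : 1 - k ≠ 0 := fun h0 => by
      rw [h0, zero_smul, eq_comm, smul_eq_zero, mul_eq_zero, inv_eq_zero] at hk'
      rcases hk' with (h' | h') | h'
      · exact hu0 h'
      · exact hB h'
      · exact hu0 (by rw [h', map_zero])
    obtain ⟨l, hl⟩ : ∃ l : F, y = l • u := ⟨_, by rw [← inv_smul_smul₀ hk1 y, hk', smul_smul]⟩
    have : refl q₁ y = refl q₁ u := gl_ext fun x => by
      have hl0 : l ≠ 0 := fun h0 => hy (by rw [hl, h0, zero_smul, map_zero])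
      subst hl
      rw [act_refl q₁ hu0, act_refl q₁ hy, Q_smul q₁, B_smul_left q₁, smul_smul]
      congr 2
      field_simp
    exact hz1 (by rw [hz, this, refl_mul_self, gl_one])
  obtain ⟨t₀, ht₀, ht₀0⟩ := Submodule.exists_mem_ne_zero_of_ne_bot
    (p := Orth.perp q₁ (Submodule.span F (Set.range ![u, y]))) fun e' => by
      have h1 := Orth.finrank_perp R.ctx.h₁ (Submodule.span F (Set.range ![u, y]))
      have h2 := finrank_span_list_le (F := F) ![u, y]
      rw [e', finrank_bot, Fintype.card_fin] at h1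
      omega
  rw [Orth.mem_perp_span q₁] at ht₀
  have hu2 : 2 * q₁ u ≠ 0 := mul_ne_zero R.ctx.two hu0
  have hy2 : 2 * q₁ y ≠ 0 := mul_ne_zero R.ctx.two hy
  obtain ⟨t, ⟨hut, hyt⟩, ht⟩ := exists_aniso_proj R.ctx.two R.ctx.h₁ (p := fun x => B₁ u x = 0 ∧ B₁ y x = 0)
    (fun x z hx hz => ⟨by rw [B_add_right q₁, hx.1, hz.1, add_zero], by rw [B_add_right q₁, hx.2, hz.2, add_zero]⟩)
    ⟨ht₀ u ⟨0, rfl⟩, ht₀ y ⟨1, rfl⟩⟩ ht₀0
    (fun z => z - (B₁ u z / (2 * q₁ u)) • u - (B₁ y z / (2 * q₁ y)) • y)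
    (fun z => by
      constructor <;> simp only [B_sub_right q₁, B_smul_right q₁, B_self q₁, huy, B_comm q₁ y u, mul_zero, sub_zero,
        div_mul_cancel₀ _ hu2, div_mul_cancel₀ _ hy2, sub_self])
    fun x hx z => by
      simp [B_sub_right q₁, B_smul_right q₁, B_comm q₁ x u, B_comm q₁ x y, hx.1, hx.2]
  have hzt : z = iu T q₁ t := by
    rw [hz, iu, neg_refl_eq R.ctx.two ht hu0 hy (by rw [B_comm q₁, hut]) (by rw [B_comm q₁, hyt]) huy]
  have hjS : j ∈ S := R.rig_iu hjM ht (by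
    rw [← hzt, ← hzj, mul_inv_cancel_right, hzt]; exact gl_mem T _ _)
  exact R.rig_iu hg hu'0 (hjdef ▸ hjS)

omit R

/-- **a factor of dimension three and one of dimension four, of minus type**: the stabiliser is maximal -/
theorem isMaximalIn_three_four {F : Type*} [Field F] [Fintype F] {T : TSys ι F 3 4}
    {Q : QuadraticForm F (ι → F)} {q₁ : QuadraticForm F (Fin 3 → F)} {q₂ : QuadraticForm F (Fin 4 → F)}
    (two : (2 : F) ≠ 0) (hQ : (QuadraticMap.polarBilin Q).Nondegenerate)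
    (h₁ : (QuadraticMap.polarBilin q₁).Nondegenerate) (h₂ : (QuadraticMap.polarBilin q₂).Nondegenerate)
    (form : ∀ u v u' v', QuadraticMap.polar Q (pt T u v) (pt T u' v') =
      QuadraticMap.polar q₁ u u' * QuadraticMap.polar q₂ v v')
    (hminus : ∀ a b, q₂ a = 0 → q₂ b = 0 → QuadraticMap.polar q₂ a b = 0 → a ≠ 0 → b ∈ F ∙ a)
    (hq : 4 ≤ Fintype.card F) :
    Cfsg.Geo.IsMaximalIn (Cfsg.Geo.omegaGL Q)
      (Cfsg.Geo.tensorProductSubgroup 3 4 T.e T.P ⊓ Cfsg.Geo.omegaGL Q) := by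
  have mk : ∀ M : Subgroup (GL ι F),
      Cfsg.Geo.tensorProductSubgroup 3 4 T.e T.P ⊓ Cfsg.Geo.omegaGL Q ≤ M → M ≤ Cfsg.Geo.omegaGL Q →
      OCtx T Q q₁ q₂ M := fun M hle hM =>
    ⟨two, hQ, h₁, h₂, form, le_rfl, by norm_num, hM, fun a b h => hle ⟨gl_mem T a b, h⟩⟩
  refine Orth.isMaximalIn_inf (exists_notMem (mk _ inf_le_right le_rfl)) fun M hle hM ⟨g, hg, hgS⟩ => ?_
  have C := mk M hle hM
  by_cases hT : TopTrivial T q₂ M
  swap
  · exact (eq_omega_of_top_four C le_rfl (fun h => by omega) hT).ge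
  obtain ⟨t, ht0, ht⟩ := Orth.exists_ne_sq hq
  have h4 : 4 ≤ Fintype.card (Fin 4) := le_of_eq (Fintype.card_fin 4).symm
  have hsc : ∀ (e f : Fin 4 → F), q₂ e = 0 → q₂ f = 0 → QuadraticMap.polar q₂ e f = 1 →
      ∃ d₁ d₂, QuadraticMap.polar q₂ e d₁ = 0 ∧ QuadraticMap.polar q₂ f d₁ = 0 ∧ q₂ d₁ ≠ 0 ∧
        QuadraticMap.polar q₂ e d₂ = 0 ∧ QuadraticMap.polar q₂ f d₂ = 0 ∧ q₂ d₂ ≠ 0 ∧
        QuadraticMap.polar q₂ d₁ d₂ = 0 := fun e f he hf hef => by
    obtain ⟨d₁, a, b, c⟩ := exists_aniso_perp two h₂ he hf hef (by rw [Fintype.card_fin]; norm_num)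
    obtain ⟨d₂, a', b', c', d'⟩ := exists_aniso_perp_three two h₂ he hf hef a b c h4
    exact ⟨d₁, d₂, a, b, c, a', b', d', c'⟩
  have hne : ∀ {e f : Fin 4 → F}, QuadraticMap.polar q₂ e f = 1 → e ≠ 0 := fun h h0 => by
    rw [h0, B_zero_left q₂] at h; exact zero_ne_one h
  have V : Mover T Q q₁ q₂ M := ⟨C, by norm_num, fun k hk e e' he he0 he' he'0 hmv => by
    obtain ⟨s, hs, hse⟩ := exists_move_four two h₂ h4 he' he'0 he he0
    have hsm := gl_right_mem C hs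
    obtain ⟨f, hf, hef⟩ := exists_partner_top h₂ he he0
    obtain ⟨d₁, d₂, a1, b1, c1, a2, b2, c2, c12⟩ := hsc e f he hf hef
    have := stab_singular_of C he hf hef hT he0 (fun ρ hρ hr p hep hfp =>
        rad_scalar_four C he hf hef a1 b1 c1 a2 b2 c2 c12 rfl hT he0
          (fun x hx hx0 => hminus e x he hx0 hx he0) ht0 ht hρ hr hep hfp)
      (M.mul_mem hsm hk) (fun u => by
        obtain ⟨a, ha⟩ := hmv u
        exact ⟨a, by rw [act_mul, ha, act_gl_pt, act_one, hse]⟩)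
    have h2 := mul_mem (inv_mem (gl_mem T (1 : GL (Fin 3) F) s)) this
    rwa [inv_mul_cancel_left] at h2⟩
  obtain ⟨e, -, he0, he⟩ := Orth.exists_singular q₂ (D := (⊤ : Submodule F (Fin 4 → F))) (by
    rw [finrank_top, Module.finrank_fin_fun]; norm_num)
  obtain ⟨f, hf, hef⟩ := exists_partner_top h₂ he he0
  obtain ⟨d₁, d₂, a1, b1, c1, a2, b2, c2, c12⟩ := hsc e f he hf hef
  have R : Small T Q q₁ q₂ M e f d₁ d₂ := ⟨C, V, he, hf, hef, a1, b1, c1, a2, b2, c2, c12,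
    fun x hx hx0 => hminus e x he hx0 hx he0⟩
  exact absurd (R.mem_tensor hg) hgS

end Cfsg.Agent.MaxCl.OTens
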