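/-
The normaliser of a quadratic extension field acting by similitudes (a unitary structure on an orthogonal space) is
maximal in `omegaGL`: a long root element of an overgroup whose line is not a point of the unitary space spreads to
all Siegel elements by commutators with unitary transvections.
-/
import Cfsg.Agent.Lib.MaxCl.OrthBlockVal
import Cfsg.Agent.Lib.MaxCl.OrthSubfield

set_option autoImplicit false

namespace Cfsg.Agent.MaxCl.Orth

open scoped MatrixGroups Matrix
open Module (finrank)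

variable {ι : Type} [Fintype ι] [DecidableEq ι] {F : Type*} [Field F] {Q : QuadraticForm F (ι → F)}

set_option quotPrecheck false in
local notation "B" => QuadraticMap.polar (⇑Q)

section Prescribed

variable [Finite F] (hQ : (QuadraticMap.polarBilin Q).Nondegenerate) {P : Submodule F (ι → F)}
  (hP : finrank F P + finrank F ↥(P ⊓ perp Q P) + 3 ≤ Fintype.card ι)
include hQ hP

theorem exists_pair_perp : ∃ s t : ι → F, s ∈ perp Q P ∧ t ∈ perp Q P ∧ Q s = 0 ∧ Q t = 0 ∧ B s t = 1 := by
  obtain ⟨s, hs, hsP, hQs⟩ := exists_singular_notMem Q (D := perp Q P) (E := P ⊓ perp Q P) (by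
    rw [finrank_perp hQ]; omega)
  obtain ⟨z, hz, hz1⟩ := exists_perp_one hQ (P := P) (v := s) fun h => hsP ⟨h, hs⟩
  obtain ⟨t, ht, hQt, hst⟩ := exists_partner Q hQs hs hz (by rw [hz1]; exact one_ne_zero)
  exact ⟨s, t, hs, ht, hQs, hQt, hst⟩

omit hP in
/-- A singular vector with prescribed values on a small subspace: the complement of the radical in the
perpendicular is a non-degenerate space representing every value. -/
theorem exists_singular_prescribed (hP2 : finrank F P + finrank F ↥(P ⊓ perp Q P) + 2 ≤ Fintype.card ι)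
    (m₀ : ι → F) : ∃ m, Q m = 0 ∧ ∀ p ∈ P, B p m = B p m₀ := by
  obtain ⟨C₀, hC₀⟩ := Submodule.exists_isCompl (P ⊓ perp Q P)
  set C := C₀ ⊓ perp Q P with hC
  have hdec : ∀ x ∈ perp Q P, ∃ r ∈ P ⊓ perp Q P, ∃ y ∈ C, x = r + y := by
    intro x hx
    obtain ⟨r, hr, y, hy, e⟩ := Submodule.mem_sup.1 (hC₀.sup_eq_top.ge (Submodule.mem_top (x := x)))
    refine ⟨r, hr, y, ⟨hy, ?_⟩, e.symm⟩
    rw [show y = x - r by rw [← e]; abel]
    exact (perp Q P).sub_mem hx hr.2
  have hnd : NonDeg Q C := by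
    intro x hx h
    have hxp : x ∈ perp Q (perp Q P) := fun y hy => by
      obtain ⟨r, hr, z, hz, rfl⟩ := hdec y hy
      show B (r + z) x = 0
      rw [B_add_left Q, show B r x = 0 from hx.2 r hr.1, B_comm Q z x, h z hz, add_zero]
    rw [perp_perp hQ] at hxp
    exact (Submodule.mem_bot F).1 (hC₀.disjoint.le_bot ⟨⟨hxp, hx.2⟩, hx.1⟩)
  have hdim : 2 ≤ finrank F C := by
    have h1 := finrank_perp hQ P
    have h2 := Submodule.finrank_sup_add_finrank_inf_eq C₀ (perp Q P)
    have h3 := Submodule.finrank_le (C₀ ⊔ perp Q P)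
    have h4 := Submodule.finrank_add_eq_of_isCompl hC₀
    rw [Module.finrank_pi] at h3 h4
    rw [hC]
    omega
  have hd0 : Disjoint C (perp Q C) :=
    disjoint_iff_inf_le.2 fun x hx => (Submodule.mem_bot F).2 (hnd x hx.1 fun y hy => (B_comm Q x y).trans (hx.2 y hy))
  have htop : C ⊔ perp Q C = ⊤ := by
    refine Submodule.eq_top_of_finrank_eq ?_
    have h1 := Submodule.finrank_sup_add_finrank_inf_eq C (perp Q C)
    rw [hd0.eq_bot, finrank_bot, finrank_perp hQ] at h1
    have h2 := Submodule.finrank_le C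
    rw [Module.finrank_pi] at h2 ⊢
    omega
  obtain ⟨c₀, hc₀, m₁, hm₁, e⟩ := Submodule.mem_sup.1 (htop.ge (Submodule.mem_top (x := m₀)))
  haveI := Fintype.ofFinite F
  obtain ⟨a, ha, hQa⟩ := exists_value hQ hnd hdim (-Q m₁)
  refine ⟨m₁ + a, ?_, fun p hp => ?_⟩
  · rw [Q_add Q, hQa, B_comm Q m₁ a, show B a m₁ = 0 from hm₁ a ha]; ring
  · rw [← e, B_add_right Q, B_add_right Q, show B p c₀ = 0 from hc₀.2 p hp, show B p a = 0 from ha.2 p hp, zero_add,
      add_zero]

omit hP in
theorem le_of_singular_perp {N : Submodule F (ι → F)} (hP4 : 2 * finrank F P + 4 ≤ Fintype.card ι)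
    (hN : ∀ x ∈ perp Q P, x ∉ P → Q x = 0 → x ∈ N) : perp Q P ≤ N := by
  have hP : finrank F P + finrank F ↥(P ⊓ perp Q P) + 3 ≤ Fintype.card ι := by
    have : finrank F ↥(P ⊓ perp Q P) ≤ finrank F P := Submodule.finrank_mono inf_le_left
    omega
  have all : ∀ x ∈ perp Q P, Q x = 0 → x ∈ N := by
    intro x hx hQx
    by_cases hxP : x ∈ P
    · obtain ⟨y, hy, hyP, hQy⟩ := exists_singular_notMem Q (D := perp Q (P ⊔ F ∙ x)) (E := P) (by
        rw [finrank_perp hQ]
        have := Submodule.finrank_add_le_finrank_add_finrank P (F ∙ x)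
        have h1 : finrank F (F ∙ x) ≤ 1 := (finrank_span_le_card _).trans (by simp)
        omega)
      have hy' : y ∈ perp Q P := fun p hp => hy p (Submodule.mem_sup_left hp)
      have hxy : B x y = 0 := hy x (Submodule.mem_sup_right (Submodule.mem_span_singleton_self x))
      have h1 : x + y ∉ P := fun h => hyP (by simpa using P.sub_mem h hxP)
      have h2 := hN _ ((perp Q P).add_mem hx hy') h1 (by rw [Q_add Q, hQx, hQy, hxy]; ring)
      simpa using N.sub_mem h2 (hN y hy' hyP hQy)
    · exact hN x hx hxP hQx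
  obtain ⟨s, t, hs, ht, hQs, hQt, hst⟩ := exists_pair_perp hQ hP
  intro w hw
  set w' := w - B t w • s - B s w • t with hw'
  have hw'P : w' ∈ perp Q P :=
    (perp Q P).sub_mem ((perp Q P).sub_mem hw ((perp Q P).smul_mem _ hs)) ((perp Q P).smul_mem _ ht)
  have h1 : B s w' = 0 := by
    rw [hw', B_sub_right Q, B_sub_right Q, B_smul_right Q, B_smul_right Q, B_self_of_singular Q hQs, hst]; ring
  have h2 : B t w' = 0 := by
    rw [hw', B_sub_right Q, B_sub_right Q, B_smul_right Q, B_smul_right Q, B_self_of_singular Q hQt,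
      B_comm Q t s, hst]; ring
  have hs' : s + w' - Q w' • t ∈ N :=
    all _ ((perp Q P).sub_mem ((perp Q P).add_mem hs hw'P) ((perp Q P).smul_mem _ ht)) (by
    rw [Q_sub Q, Q_add Q, Q_smul Q, B_smul_right Q, B_add_left Q, hQs, hQt, h1, hst, B_comm Q w' t, h2]; ring)
  have e : w = (s + w' - Q w' • t) + (B t w - 1) • s + (Q w' + B s w) • t := by rw [hw']; module
  rw [e]
  exact N.add_mem (N.add_mem hs' (N.smul_mem _ (all s hs hQs))) (N.smul_mem _ (all t ht hQt))

end Prescribed

variable (Q) in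
/-- A linear map generating a quadratic extension field acting by similitudes. -/
structure IsUnitaryStr (J : (ι → F) →ₗ[F] (ι → F)) (s c : F) : Prop where
  adj : ∀ x y, B (J x) y = s * B x y - B x (J y)
  scale : ∀ x, Q (J x) = c * Q x
  c_ne : c ≠ 0
  line : ∀ x, Q x = 0 → B x (J x) = 0
  no_eigen : ∀ (x : ι → F) (a : F), J x = a • x → x = 0

/-- The line of a vector. -/
def kline (J : (ι → F) →ₗ[F] (ι → F)) (u : ι → F) : Submodule F (ι → F) :=
  Submodule.span F (Set.range ![u, J u])

variable (Q) in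
/-- All multiples of a parameter at `u` occur in `M`. -/
def Transfers (M : Subgroup (GL ι F)) (u w : ι → F) : Prop := ∀ a : F, sg Q u (a • w) ∈ M

variable {J : (ι → F) →ₗ[F] (ι → F)} {s c : F}

theorem finrank_kline_le (u : ι → F) : finrank F (kline J u) ≤ 2 := finrank_span_list_le ![u, J u]

theorem self_mem_kline (u : ι → F) : u ∈ kline J u := Submodule.subset_span ⟨0, rfl⟩

theorem map_mem_kline (u : ι → F) : J u ∈ kline J u := Submodule.subset_span ⟨1, rfl⟩

theorem mem_kline {u x : ι → F} : x ∈ kline J u ↔ ∃ a b : F, a • u + b • J u = x := mem_span_pair_iff_range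

theorem mem_perp_kline {u x : ι → F} : x ∈ perp Q (kline J u) ↔ B u x = 0 ∧ B (J u) x = 0 := by
  rw [kline, mem_perp_span]
  constructor
  · exact fun h => ⟨h u ⟨0, rfl⟩, h (J u) ⟨1, rfl⟩⟩
  · rintro ⟨h1, h2⟩ _ ⟨i, rfl⟩
    fin_cases i <;> assumption

variable (hJ : IsUnitaryStr Q J s c)
include hJ

theorem unitary_scale (x y : ι → F) : B (J x) (J y) = c * B x y := by
  simp only [QuadraticMap.polar, ← map_add, hJ.scale]; ring

theorem unitary_adj' (x y : ι → F) : B x (J y) = s * B x y - B (J x) y := by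
  rw [hJ.adj]; ring

theorem unitary_sq (hQ : (QuadraticMap.polarBilin Q).Nondegenerate) (x : ι → F) :
    J (J x) = s • J x - c • x := by
  refine sub_eq_zero.1 (hQ.1 _ fun y => ?_)
  show B (J (J x) - (s • J x - c • x)) y = 0
  rw [B_sub_left Q, B_sub_left Q, B_smul_left Q, B_smul_left Q, hJ.adj (J x) y, unitary_scale hJ]
  ring

variable (hQ : (QuadraticMap.polarBilin Q).Nondegenerate)
include hQ

/-- A subspace invariant under the field meets each of its points fully or trivially. -/
theorem mem_of_comb {N : Submodule F (ι → F)} (hN : ∀ x ∈ N, J x ∈ N) {y : ι → F} {a b : F}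
    (h : a • y + b • J y ∈ N) (hab : ¬ (a = 0 ∧ b = 0)) : y ∈ N := by
  rcases eq_or_ne y 0 with rfl | hy0
  · exact N.zero_mem
  rcases eq_or_ne b 0 with rfl | hb
  · have ha : a ≠ 0 := fun e => hab ⟨e, rfl⟩
    rw [zero_smul, add_zero] at h
    simpa [smul_smul, inv_mul_cancel₀ ha] using N.smul_mem a⁻¹ h
  set z := a • y + b • J y with hz
  have h1 := hN z h
  rw [hz, map_add, map_smul, map_smul, unitary_sq hJ hQ] at h1
  have h2 := N.sub_mem (N.smul_mem (a + b * s) h) (N.smul_mem b h1)
  set d := a * a + a * b * s + b * b * c with hd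
  have e : d • y = (a + b * s) • z - b • (a • J y + b • (s • J y - c • y)) := by rw [hz, hd]; module
  rw [← e] at h2
  rcases eq_or_ne d 0 with hd0 | hd0
  · exfalso
    set x := J y - (-a / b) • y with hx
    have : J x = (a / b + s) • x := by
      have hd' : -c = (a / b) * (a / b + s) := by
        field_simp
        rw [hd] at hd0
        linear_combination -hd0
      rw [hx, map_sub, map_smul, unitary_sq hJ hQ, sub_eq_add_neg (s • J y), ← neg_smul, hd']
      match_scalars <;> field_simp <;> ring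
    have hx0 := hJ.no_eigen x _ this
    rw [hx, sub_eq_zero] at hx0
    exact hy0 (hJ.no_eigen y _ hx0)
  · simpa [smul_smul, inv_mul_cancel₀ hd0] using N.smul_mem d⁻¹ h2

theorem kline_stable {u x : ι → F} (h : x ∈ kline J u) : J x ∈ kline J u := by
  obtain ⟨a, b, rfl⟩ := mem_kline.1 h
  rw [map_add, map_smul, map_smul, unitary_sq hJ hQ]
  exact (kline J u).add_mem ((kline J u).smul_mem _ (map_mem_kline u))
    ((kline J u).smul_mem _ ((kline J u).sub_mem ((kline J u).smul_mem _ (map_mem_kline u))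
      ((kline J u).smul_mem _ (self_mem_kline u))))

theorem mem_kline_symm {u v : ι → F} (h : v ∈ kline J u) (hv : v ≠ 0) : u ∈ kline J v := by
  obtain ⟨a, b, e⟩ := mem_kline.1 h
  exact mem_of_comb hJ hQ (fun _ => kline_stable hJ hQ) (by rw [e]; exact self_mem_kline v)
    fun hab => hv (by rw [← e, hab.1, hab.2, zero_smul, zero_smul, add_zero])

theorem kline_sup_stable (u v : ι → F) : ∀ x ∈ kline J u ⊔ kline J v, J x ∈ kline J u ⊔ kline J v := by
  intro x hx
  obtain ⟨a, ha, b, hb, rfl⟩ := Submodule.mem_sup.1 hx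
  rw [map_add]
  exact Submodule.add_mem_sup (kline_stable hJ hQ ha) (kline_stable hJ hQ hb)

omit hQ in
theorem kline_singular {u : ι → F} (hu : Q u = 0) : ∀ x ∈ kline J u, Q x = 0 := by
  intro x hx
  obtain ⟨a, b, rfl⟩ := mem_kline.1 hx
  rw [Q_add Q, Q_smul Q, Q_smul Q, B_smul_left Q, B_smul_right Q, hu, hJ.scale, hu, hJ.line u hu]; ring

omit hQ in
theorem kline_le_perp {u : ι → F} (hu : Q u = 0) : kline J u ≤ perp Q (kline J u) := fun _ hx _ hy =>
  B_eq_zero_of_singular (kline_singular hJ hu) hy hx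

theorem perp_kline_stable {v x : ι → F} (h : x ∈ perp Q (kline J v)) : J x ∈ perp Q (kline J v) := by
  obtain ⟨h1, h2⟩ := mem_perp_kline.1 h
  exact mem_perp_kline.2 ⟨by rw [unitary_adj' hJ, h1, h2]; ring, by rw [unitary_scale hJ, h1, mul_zero]⟩

/-- The radical of the span of three singular lines over the field is the orthogonal one of them. -/
theorem radical_pair_le {u y z : ι → F} {R : Submodule F (ι → F)} (hy : y ∈ perp Q (kline J u))
    (hz : z ∈ perp Q (kline J u)) (hQy : Q y = 0) (hQz : Q z = 0)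
    (hR : R = kline J u ⊔ Submodule.span F (Set.range ![y, z, J y, J z])) (hrad : J y ∉ perp Q R) :
    R ⊓ perp Q R ≤ kline J u := by
  obtain ⟨huy, hJuy⟩ := mem_perp_kline.1 hy
  obtain ⟨huz, hJuz⟩ := mem_perp_kline.1 hz
  have hno : B y z = 0 → B (J y) z = 0 → False := by
    intro h1 h2
    apply hrad
    subst hR
    intro p hp
    obtain ⟨l, hl, w, hw, rfl⟩ := Submodule.mem_sup.1 hp
    obtain ⟨d, rfl⟩ := (Submodule.mem_span_range_iff_exists_fun _).1 hw
    have hlp : B l (J y) = 0 := perp_kline_stable hJ hQ hy l hl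
    show B _ (J y) = 0
    have e1 : B z (J y) = 0 := (B_comm Q z (J y)).trans h2
    have e2 : B z y = 0 := (B_comm Q z y).trans h1
    simp only [Fin.sum_univ_four, Matrix.cons_val, B_add_left Q, B_smul_left Q, hlp, hJ.line y hQy,
      unitary_scale hJ, B_self_of_singular Q hQy, e1, e2, mul_zero, add_zero]
  rintro x ⟨hxR, hxp⟩
  obtain ⟨l, hl, w, hw, rfl⟩ := Submodule.mem_sup.1 (hR ▸ hxR)
  obtain ⟨d, hd⟩ := (Submodule.mem_span_range_iff_exists_fun _).1 hw
  simp only [Fin.sum_univ_four, Matrix.cons_val] at hd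
  have gen : ∀ i, (![y, z, J y, J z] : Fin 4 → ι → F) i ∈ R := fun i =>
    hR ▸ Submodule.mem_sup_right (Submodule.subset_span ⟨i, rfl⟩)
  have step : ∀ a b : ι → F, ∀ α β γ δ : F, w = α • a + β • J a + (γ • b + δ • J b) → Q b = 0 →
      b ∈ perp Q (kline J u) → b ∈ R → J b ∈ R → (B b a = 0 → B (J b) a = 0 → False) → α = 0 ∧ β = 0 := by
    intro a b α β γ δ e hQb hb hbR hJbR hba
    by_contra hne
    have hxb : l + w ∈ perp Q (kline J b) := mem_perp_kline.2 ⟨hxp b hbR, hxp (J b) hJbR⟩
    have hlb : l ∈ perp Q (kline J b) :=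
      mem_perp_kline.2 ⟨(B_comm Q b l).trans (hb l hl), (B_comm Q (J b) l).trans (perp_kline_stable hJ hQ hb l hl)⟩
    have hwb : γ • b + δ • J b ∈ perp Q (kline J b) := kline_le_perp hJ hQb (mem_kline.2 ⟨γ, δ, rfl⟩)
    have h2 := Submodule.sub_mem _ (Submodule.sub_mem _ hxb hlb) hwb
    rw [add_sub_cancel_left, e, add_sub_cancel_right] at h2
    obtain ⟨g1, g2⟩ := mem_perp_kline.1 (mem_of_comb hJ hQ (fun _ => perp_kline_stable hJ hQ) h2 hne)
    exact hba g1 g2
  have hz0 := step z y (d 1) (d 3) (d 0) (d 2) (by rw [← hd]; module) hQy hy (gen 0) (gen 2) hno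
  have hy0 := step y z (d 0) (d 2) (d 1) (d 3) (by rw [← hd]; module) hQz hz (gen 1) (gen 3) fun g1 g2 =>
    hno ((B_comm Q y z).trans g1) (by
      rw [hJ.adj, B_comm Q y (J z), g2, B_comm Q y z, g1]; ring)
  have : w = 0 := by rw [← hd, hy0.1, hy0.2, hz0.1, hz0.2]; simp
  rw [this, add_zero]; exact hl

omit hJ in
/-- A singular vector orthogonal to two lines over the field and outside both. -/
theorem exists_singular_two_lines [Finite F] (hn : 9 ≤ Fintype.card ι) (u v : ι → F) :
    ∃ z ∈ perp Q (kline J u ⊔ kline J v), z ∉ kline J u ∧ z ∉ kline J v ∧ Q z = 0 := by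
  have hu := finrank_kline_le (J := J) u
  have hv := finrank_kline_le (J := J) v
  have h4 := Submodule.finrank_add_le_finrank_add_finrank (kline J u) (kline J v)
  have h6 := finrank_perp hQ (kline J u ⊔ kline J v)
  obtain ⟨x, hx, hxu, hQx⟩ := exists_singular_notMem Q (D := perp Q (kline J u ⊔ kline J v)) (E := kline J u)
    (by omega)
  by_cases hxv : x ∈ kline J v
  swap
  · exact ⟨x, hx, hxu, hxv, hQx⟩
  obtain ⟨y, hy, hyv, hQy⟩ := exists_singular_notMem Q (D := perp Q (kline J u ⊔ kline J v)) (E := kline J v)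
    (by omega)
  by_cases hyu : y ∈ kline J u
  swap
  · exact ⟨y, hy, hyu, hyv, hQy⟩
  refine ⟨x + y, Submodule.add_mem _ hx hy, fun h => hxu ?_, fun h => hyv ?_, ?_⟩
  · simpa using Submodule.sub_mem _ h hyu
  · simpa using Submodule.sub_mem _ h hxv
  · rw [Q_add Q, hQx, hQy, show B x y = 0 from hy x (Submodule.mem_sup_right hxv)]; ring

variable [Finite F] (hn : 10 ≤ Fintype.card ι) {M : Subgroup (GL ι F)}
  (hS : ∀ u, Q u = 0 → ∀ a : F, sg Q u (a • J u) ∈ M)
include hn hS

omit hn in
/-- The commutator with a unitary transvection. -/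
theorem transfer_step {u w v : ι → F} (hu : Q u = 0) (huw : B u w = 0) (h : sg Q u w ∈ M) (hv : Q v = 0)
    (huv : B u v = 0) (hJuv : B (J u) v = 0) : Transfers Q M u (B v w • J v - B (J v) w • v) := by
  intro a
  have hQJ : Q (a • J v) = 0 := by rw [Q_smul Q, hJ.scale, hv]; ring
  have hvJ : B v (a • J v) = 0 := by rw [B_smul_right Q, hJ.line v hv, mul_zero]
  have hu1 : B (a • J v) u = 0 := by
    rw [B_smul_left Q, hJ.adj, B_comm Q v u, huv, B_comm Q v (J u), hJuv]; ring
  have hd := (sg_diff_mem (sg_mem_iso Q v (a • J v)) (hS v hv a) hu huw h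
    (act_sg_fix Q hv hvJ ((B_comm Q v u).trans huv) hu1)).2
  rw [act_sg_long hv hQJ hvJ, B_smul_left Q] at hd
  convert hd using 2
  module

theorem exists_seed_line {u w : ι → F} (hu : Q u = 0) (huw : B u w = 0) (h : sg Q u w ∈ M)
    (hw : w ∉ kline J u) :
    ∃ y, y ∈ perp Q (kline J u) ∧ y ∉ kline J u ∧ Q y = 0 ∧ Transfers Q M u y := by
  obtain ⟨v, hvP, hvn, hQv, hvw⟩ : ∃ v ∈ perp Q (kline J u), v ∉ kline J u ∧ Q v = 0 ∧ B v w ≠ 0 := by
    by_contra hno
    push Not at hno
    apply hw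
    rw [← perp_perp hQ (kline J u)]
    intro x hx
    have h2 := finrank_kline_le (J := J) u
    exact le_of_singular_perp hQ (N := LinearMap.ker (QuadraticMap.polarBilin Q w)) (by omega)
      (fun y hy hyn hQy => (B_comm Q w y).trans (hno y hy hyn hQy)) hx |> fun hh => (B_comm Q x w).trans hh
  obtain ⟨huv, hJuv⟩ := mem_perp_kline.1 hvP
  set y := B v w • J v - B (J v) w • v with hy
  have hyv : y ∈ kline J v := (kline J v).sub_mem ((kline J v).smul_mem _ (map_mem_kline v))
    ((kline J v).smul_mem _ (self_mem_kline v))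
  refine ⟨y, ?_, fun hyu => ?_, kline_singular hJ hQv y hyv, transfer_step hJ hQ hS hu huw h hQv huv hJuv⟩
  · rw [hy]
    refine Submodule.sub_mem _ (Submodule.smul_mem _ _ (mem_perp_kline.2 ⟨?_, ?_⟩)) (Submodule.smul_mem _ _ hvP)
    · rw [unitary_adj' hJ, huv, hJuv]; ring
    · rw [unitary_scale hJ, huv, mul_zero]
  · exact hvn (mem_of_comb hJ hQ (fun _ => kline_stable hJ hQ) (a := -B (J v) w) (b := B v w)
      (by convert hyu using 1; rw [hy]; module) fun hab => hvw hab.2)

/-- Transfers spread over the singular points orthogonal to `u`. -/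
theorem transfers_hop {u y z : ι → F} (hu : Q u = 0) (hy : y ∈ perp Q (kline J u))
    (hT : Transfers Q M u y) (hz : z ∈ perp Q (kline J u)) (hQz : Q z = 0)
    (h0 : B z y = 0) (h1 : B (J z) y ≠ 0) : Transfers Q M u z := by
  obtain ⟨huz, hJuz⟩ := mem_perp_kline.1 hz
  intro a
  have h := transfer_step hJ hQ hS hu (by rw [B_smul_right Q, (mem_perp_kline.1 hy).1, mul_zero])
    (hT 1) hQz huz hJuz (-a / B (J z) y)
  rw [one_smul, h0, zero_smul, zero_sub, smul_neg, smul_smul, ← neg_smul] at h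
  rwa [show -(-a / B (J z) y * B (J z) y) = a by field_simp] at h

theorem transfers_generic {u y z : ι → F} (hu : Q u = 0) (hy : y ∈ perp Q (kline J u)) (hyn : y ∉ kline J u)
    (hQy : Q y = 0) (hT : Transfers Q M u y) (hz : z ∈ perp Q (kline J u)) (hQz : Q z = 0)
    (hzn : z ∉ kline J u ⊔ kline J y) : Transfers Q M u z := by
  have hyn' : y ∉ kline J u ⊔ kline J z := by
    intro h
    obtain ⟨l, hl, w, hw, e⟩ := Submodule.mem_sup.1 h
    rcases eq_or_ne w 0 with rfl | hw0
    · rw [add_zero] at e; exact hyn (e ▸ hl)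
    · apply hzn
      have hwm : w ∈ kline J u ⊔ kline J y := by
        rw [show w = y - l by rw [← e, add_sub_cancel_left]]
        exact Submodule.sub_mem _ (Submodule.mem_sup_right (self_mem_kline y)) (Submodule.mem_sup_left hl)
      obtain ⟨a, b, e'⟩ := mem_kline.1 hw
      exact mem_of_comb hJ hQ (kline_sup_stable hJ hQ u y) (e' ▸ hwm)
        fun hab => hw0 (by rw [← e', hab.1, hab.2, zero_smul, zero_smul, add_zero])
  set P := kline J u ⊔ Submodule.span F (Set.range ![y, z, J z]) with hP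
  set P' := kline J u ⊔ Submodule.span F (Set.range ![y, z, J y]) with hP'
  have hJy : J y ∉ P := by
    intro h
    obtain ⟨l, hl, w, hw, e⟩ := Submodule.mem_sup.1 h
    obtain ⟨d, hd⟩ := (Submodule.mem_span_range_iff_exists_fun _).1 hw
    rw [Fin.sum_univ_three] at hd
    refine hyn' (mem_of_comb hJ hQ (kline_sup_stable hJ hQ u z) (a := -d 0) (b := 1) (y := y) ?_
      fun hab => one_ne_zero hab.2)
    have : (-d 0) • y + (1 : F) • J y = l + (d 1 • z + d 2 • J z) := by
      rw [one_smul, ← e, ← hd]; simp only [Matrix.cons_val]; module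
    rw [this]
    exact Submodule.add_mem_sup hl (mem_kline.2 ⟨_, _, rfl⟩)
  have hJz : J z ∉ P' := by
    intro h
    obtain ⟨l, hl, w, hw, e⟩ := Submodule.mem_sup.1 h
    obtain ⟨d, hd⟩ := (Submodule.mem_span_range_iff_exists_fun _).1 hw
    rw [Fin.sum_univ_three] at hd
    refine hzn (mem_of_comb hJ hQ (kline_sup_stable hJ hQ u y) (a := -d 1) (b := 1) (y := z) ?_
      fun hab => one_ne_zero hab.2)
    have : (-d 1) • z + (1 : F) • J z = l + (d 0 • y + d 2 • J y) := by
      rw [one_smul, ← e, ← hd]; simp only [Matrix.cons_val]; module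
    rw [this]
    exact Submodule.add_mem_sup hl (mem_kline.2 ⟨_, _, rfl⟩)
  obtain ⟨m₁, hm₁, hm₁1⟩ := exists_perp_one hQ hJy
  obtain ⟨m₂, hm₂, hm₂1⟩ := exists_perp_one hQ hJz
  have hP6 : finrank F ↥(kline J u ⊔ Submodule.span F (Set.range ![y, z, J y, J z])) ≤ 2 + 4 :=
    (Submodule.finrank_add_le_finrank_add_finrank _ _).trans
      (add_le_add (finrank_kline_le u) (finrank_span_list_le _))
  set R := kline J u ⊔ Submodule.span F (Set.range ![y, z, J y, J z]) with hR
  obtain ⟨m, hQm, hmR⟩ : ∃ m, Q m = 0 ∧ ∀ p ∈ R, B p m = B p (m₁ + m₂) := by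
    by_cases hrad : J y ∈ perp Q R
    · have hJyR : J y ∈ R := Submodule.mem_sup_right (Submodule.subset_span ⟨2, rfl⟩)
      have hB : B (J y) (m₁ + m₂) = 1 := by
        rw [B_add_right Q, hm₁1,
          show B (J y) m₂ = 0 from hm₂ _ (Submodule.mem_sup_right (Submodule.subset_span ⟨2, rfl⟩)), add_zero]
      refine ⟨(m₁ + m₂) - Q (m₁ + m₂) • J y, ?_, fun p hp => ?_⟩
      · rw [Q_sub Q, Q_smul Q, hJ.scale, hQy, B_smul_right Q, B_comm Q (m₁ + m₂) (J y), hB]; ring
      · rw [B_sub_right Q, B_smul_right Q, show B p (J y) = 0 from hrad p hp, mul_zero, sub_zero]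
    · have := finrank_kline_le (J := J) u
      have hle : R ⊓ perp Q R ≤ kline J u := radical_pair_le hJ hQ hy hz hQy hQz hR hrad
      have := Submodule.finrank_mono hle
      exact exists_singular_prescribed hQ (by omega) _
  have hl : ∀ x ∈ kline J u, B x m = 0 := fun x hx => by
    rw [hmR x (Submodule.mem_sup_left hx), B_add_right Q, show B x m₁ = 0 from hm₁ x (Submodule.mem_sup_left hx),
      show B x m₂ = 0 from hm₂ x (Submodule.mem_sup_left hx), add_zero]
  have hBy : B y m = 0 := by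
    rw [hmR y (Submodule.mem_sup_right (Submodule.subset_span ⟨0, rfl⟩)), B_add_right Q,
      show B y m₁ = 0 from hm₁ y (Submodule.mem_sup_right (Submodule.subset_span ⟨0, rfl⟩)),
      show B y m₂ = 0 from hm₂ y (Submodule.mem_sup_right (Submodule.subset_span ⟨0, rfl⟩)), add_zero]
  have hBz : B z m = 0 := by
    rw [hmR z (Submodule.mem_sup_right (Submodule.subset_span ⟨1, rfl⟩)), B_add_right Q,
      show B z m₁ = 0 from hm₁ z (Submodule.mem_sup_right (Submodule.subset_span ⟨1, rfl⟩)),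
      show B z m₂ = 0 from hm₂ z (Submodule.mem_sup_right (Submodule.subset_span ⟨1, rfl⟩)), add_zero]
  have hBJy : B (J y) m = 1 := by
    rw [hmR (J y) (Submodule.mem_sup_right (Submodule.subset_span ⟨2, rfl⟩)), B_add_right Q, hm₁1,
      show B (J y) m₂ = 0 from hm₂ _ (Submodule.mem_sup_right (Submodule.subset_span ⟨2, rfl⟩)), add_zero]
  have hBJz : B (J z) m = 1 := by
    rw [hmR (J z) (Submodule.mem_sup_right (Submodule.subset_span ⟨3, rfl⟩)), B_add_right Q, hm₂1,
      show B (J z) m₁ = 0 from hm₁ _ (Submodule.mem_sup_right (Submodule.subset_span ⟨2, rfl⟩)), zero_add]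
  have hmP : m ∈ perp Q (kline J u) := hl
  have hTm : Transfers Q M u m := transfers_hop hJ hQ hn hS hu hy hT hmP hQm ((B_comm Q m y).trans hBy) (by
    rw [hJ.adj, B_comm Q m y, hBy, B_comm Q m (J y), hBJy]; simp)
  exact transfers_hop hJ hQ hn hS hu hmP hTm hz hQz hBz (by rw [hBJz]; exact one_ne_zero)

theorem transfers_perp {u w : ι → F} (hu : Q u = 0) (huw : B u w = 0) (h : sg Q u w ∈ M) (hw : w ∉ kline J u) :
    ∀ z ∈ perp Q (kline J u), Transfers Q M u z := by
  obtain ⟨y, hy, hyn, hQy, hT⟩ := exists_seed_line hJ hQ hn hS hu huw h hw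
  let N : Submodule F (ι → F) :=
    { carrier := {x | B u x = 0 ∧ Transfers Q M u x}
      add_mem' := fun {a b} ha hb => ⟨by rw [B_add_right Q, ha.1, hb.1, add_zero], fun d => by
        rw [smul_add, ← sg_add Q hu (by rw [B_smul_right Q, ha.1, mul_zero])
          (by rw [B_smul_right Q, hb.1, mul_zero])]
        exact mul_mem (ha.2 d) (hb.2 d)⟩
      zero_mem' := ⟨B_zero_right Q u, fun d => by rw [smul_zero, sg_zero]; exact one_mem _⟩
      smul_mem' := fun a x hx => ⟨by rw [B_smul_right Q, hx.1, mul_zero], fun d => by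
        rw [smul_smul]; exact hx.2 _⟩ }
  have h2 := finrank_kline_le (J := J) u
  intro z hz
  refine (le_of_singular_perp hQ (N := N) (by omega) (fun x hx hxn hQx => ⟨(mem_perp_kline.1 hx).1, ?_⟩)
    hz).2
  by_cases hgen : x ∈ kline J u ⊔ kline J y
  swap
  · exact transfers_generic hJ hQ hn hS hu hy hyn hQy hT hx hQx hgen
  have h4 : finrank F ↥(kline J u ⊔ kline J y) ≤ 2 + 2 :=
    (Submodule.finrank_add_le_finrank_add_finrank _ _).trans (add_le_add h2 (finrank_kline_le y))
  obtain ⟨m, hm, hmn, hQm⟩ := exists_singular_notMem Q (D := perp Q (kline J u))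
    (E := kline J u ⊔ kline J y) (by rw [finrank_perp hQ]; omega)
  refine transfers_generic hJ hQ hn hS hu hm (fun h => hmn (Submodule.mem_sup_left h)) hQm
    (transfers_generic hJ hQ hn hS hu hy hyn hQy hT hm hQm hmn) hx hQx fun h => hmn ?_
  obtain ⟨l, hl, v, hv, e⟩ := Submodule.mem_sup.1 h
  have hv0 : v ≠ 0 := fun e' => hxn (by rw [← e, e', add_zero]; exact hl)
  obtain ⟨a, b, e'⟩ := mem_kline.1 hv
  refine mem_of_comb hJ hQ (kline_sup_stable hJ hQ u y) (a := a) (b := b) ?_
    fun hab => hv0 (by rw [← e', hab.1, hab.2, zero_smul, zero_smul, add_zero])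
  rw [e', show v = x - l by rw [← e, add_sub_cancel_left]]
  exact Submodule.sub_mem _ hgen (Submodule.mem_sup_left hl)

/-- A seed gives every Siegel element. -/
theorem omega_le_of_unitary_seed {u₀ w₀ : ι → F} (hu₀ : Q u₀ = 0) (hu₀0 : u₀ ≠ 0) (h₀ : B u₀ w₀ = 0)
    (h : sg Q u₀ w₀ ∈ M) (hw₀ : w₀ ∉ kline J u₀) : Cfsg.Geo.omegaGL Q ≤ M := by
  have hspread : ∀ u z, Q u = 0 → u ≠ 0 → (∀ x ∈ perp Q (kline J u), Transfers Q M u x) →
      z ∈ perp Q (kline J u) → z ∉ kline J u → Q z = 0 →
      ∀ x ∈ perp Q (kline J z), Transfers Q M z x := by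
    intro u z hu hu0 hT hz hzn hQz
    have huz := (mem_perp_kline.1 hz).1
    have h1 := hT z hz 1
    rw [one_smul, sg_antisymm hu hQz huz] at h1
    exact transfers_perp hJ hQ hn hS hQz (by rw [B_neg_right Q, B_comm Q z u, huz, neg_zero]) h1
      fun hm => hzn (mem_kline_symm hJ hQ (by simpa using Submodule.neg_mem _ hm) hu0)
  have hall : ∀ u, Q u = 0 → u ≠ 0 → ∀ x ∈ perp Q (kline J u), Transfers Q M u x := by
    intro u hu hu0
    obtain ⟨z, hz, hzn₀, hzn, hQz⟩ := exists_singular_two_lines (J := J) hQ (by omega) u₀ u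
    have hz0 : z ∈ perp Q (kline J u₀) := fun p hp => hz p (Submodule.mem_sup_left hp)
    have hz1 : ∀ p ∈ kline J u, B p z = 0 := fun p hp => hz p (Submodule.mem_sup_right hp)
    have hzne : z ≠ 0 := fun e => hzn (by rw [e]; exact Submodule.zero_mem _)
    refine hspread z u hQz hzne (hspread u₀ z hu₀ hu₀0 (transfers_perp hJ hQ hn hS hu₀ h₀ h hw₀) hz0
      hzn₀ hQz) (mem_perp_kline.2 ⟨?_, ?_⟩)
      (fun e => hzn (mem_kline_symm hJ hQ e hu0)) hu
    · exact (B_comm Q z u).trans (hz1 u (self_mem_kline u))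
    · rw [hJ.adj, B_comm Q z u, hz1 u (self_mem_kline u), B_comm Q z (J u), hz1 _ (map_mem_kline u)]; ring
  have full : ∀ u, Q u = 0 → u ≠ 0 → Full Q M u := by
    intro u hu hu0 y hy
    have h2 := finrank_kline_le (J := J) u
    obtain ⟨v, hv, hvn, hQv⟩ := exists_singular_notMem Q (D := perp Q (kline J u)) (E := kline J u)
      (by rw [finrank_perp hQ]; omega)
    have hv0 : v ≠ 0 := fun e => hvn (by rw [e]; exact Submodule.zero_mem _)
    obtain ⟨huv, hJuv⟩ := mem_perp_kline.1 hv
    set R := Submodule.span F (Set.range ![u, v, J v]) with hR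
    have hJun : J u ∉ R := by
      intro hm
      obtain ⟨d, hd⟩ := (Submodule.mem_span_range_iff_exists_fun _).1 hm
      rw [Fin.sum_univ_three] at hd
      simp only [Matrix.cons_val] at hd
      rcases eq_or_ne (d 1) 0 with h1 | h1
      · rcases eq_or_ne (d 2) 0 with h2 | h2
        · rw [h1, h2, zero_smul, zero_smul, add_zero, add_zero] at hd
          exact hu0 (hJ.no_eigen u _ hd.symm)
        · refine hvn (mem_of_comb hJ hQ (fun _ => kline_stable hJ hQ) (a := d 1) (b := d 2) ?_
            fun hab => h2 hab.2)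
          rw [show d 1 • v + d 2 • J v = J u - d 0 • u by rw [← hd]; abel]
          exact Submodule.sub_mem _ (map_mem_kline u) (Submodule.smul_mem _ _ (self_mem_kline u))
      · refine hvn (mem_of_comb hJ hQ (fun _ => kline_stable hJ hQ) (a := d 1) (b := d 2) ?_
          fun hab => h1 hab.1)
        rw [show d 1 • v + d 2 • J v = J u - d 0 • u by rw [← hd]; abel]
        exact Submodule.sub_mem _ (map_mem_kline u) (Submodule.smul_mem _ _ (self_mem_kline u))
    obtain ⟨t₀, ht₀, ht₀1⟩ := exists_perp_one hQ hJun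
    have hR4 : finrank F (Submodule.span F (Set.range ![u, v, J v, J u])) ≤ 4 := finrank_span_list_le _
    obtain ⟨t, hQt, htR⟩ := exists_singular_prescribed hQ (P := Submodule.span F (Set.range ![u, v, J v, J u]))
      (by
        have : finrank F ↥(Submodule.span F (Set.range ![u, v, J v, J u]) ⊓
            perp Q (Submodule.span F (Set.range ![u, v, J v, J u]))) ≤
            finrank F (Submodule.span F (Set.range ![u, v, J v, J u])) := Submodule.finrank_mono inf_le_left
        omega) t₀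
    have hut : B u t = 0 := (htR u (Submodule.subset_span ⟨0, rfl⟩)).trans (ht₀ u (Submodule.subset_span ⟨0, rfl⟩))
    have hvt : B v t = 0 := (htR v (Submodule.subset_span ⟨1, rfl⟩)).trans (ht₀ v (Submodule.subset_span ⟨1, rfl⟩))
    have hJvt : B (J v) t = 0 :=
      (htR _ (Submodule.subset_span ⟨2, rfl⟩)).trans (ht₀ _ (Submodule.subset_span ⟨2, rfl⟩))
    have hJut : B (J u) t = 1 := (htR _ (Submodule.subset_span ⟨3, rfl⟩)).trans ht₀1
    have hvn' : v ∉ Submodule.span F (Set.range ![u, J u, t]) := by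
      intro hm
      obtain ⟨d, hd⟩ := (Submodule.mem_span_range_iff_exists_fun _).1 hm
      rw [Fin.sum_univ_three] at hd
      simp only [Matrix.cons_val] at hd
      have h1 : B (J u) (d 0 • u + d 1 • J u + d 2 • t) = 0 := hd ▸ hJuv
      rw [B_add_right Q, B_add_right Q, B_smul_right Q, B_smul_right Q, B_smul_right Q, hJut, B_comm Q (J u) u,
        hJ.line u hu, B_self_of_singular Q (show Q (J u) = 0 by rw [hJ.scale, hu, mul_zero])] at h1
      simp only [mul_zero, zero_add, mul_one] at h1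
      rw [h1, zero_smul, add_zero] at hd
      exact hvn (hd ▸ mem_kline.2 ⟨_, _, rfl⟩)
    obtain ⟨w, hw, hvw⟩ := exists_perp_one hQ hvn'
    rw [mem_perp_span] at hw
    have htw : B t w = 0 := hw t ⟨2, rfl⟩
    have hTt : Transfers Q M u t := by
      intro a
      have h1 : sg Q v t ∈ M := by
        have := hall v hQv hv0 t (mem_perp_kline.2 ⟨hvt, hJvt⟩) 1
        rwa [one_smul] at this
      have huw : B u (a • w) = 0 := by rw [B_smul_right Q, show B u w = 0 from hw u ⟨0, rfl⟩, mul_zero]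
      have h2 := (sg_diff_mem (sg_mem_iso Q v t) h1 hu huw
        (hall u hu hu0 w (mem_perp_kline.2 ⟨hw u ⟨0, rfl⟩, hw (J u) ⟨1, rfl⟩⟩) a)
        (act_sg_fix Q hQv hvt ((B_comm Q v u).trans huv) ((B_comm Q t u).trans hut))).2
      rw [act_sg_long hQv hQt hvt, B_smul_right Q, hvw, B_smul_right Q, htw] at h2
      convert h2 using 2
      module
    set y' := y - B (J u) y • t with hy'
    have hy'P : y' ∈ perp Q (kline J u) := mem_perp_kline.2
      ⟨by rw [hy', B_sub_right Q, B_smul_right Q, hy, hut]; ring,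
       by rw [hy', B_sub_right Q, B_smul_right Q, hJut]; ring⟩
    have h1 := hall u hu hu0 y' hy'P 1
    rw [one_smul] at h1
    have hyy : y = y' + B (J u) y • t := by rw [hy']; abel
    rw [hyy, ← sg_add Q hu (mem_perp_kline.1 hy'P).1 (by rw [B_smul_right Q, hut, mul_zero])]
    exact mul_mem h1 (hTt _)
  obtain ⟨z, hz⟩ := exists_B_ne_zero hQ hu₀0
  obtain ⟨v, -, hQv, huv⟩ := exists_partner Q (W := ⊤) hu₀ trivial trivial hz
  exact omega_le_of_full hQ (by omega) hu₀ hQv (by rw [huv]; exact one_ne_zero) (full u₀ hu₀ hu₀0)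
    (full v hQv fun e => by rw [e, B_zero_right Q] at huv; exact zero_ne_one huv)

omit hS in
/-- A linear map sending every singular point into its line is in the field. -/
theorem exists_comb_of_lines {f : (ι → F) →ₗ[F] (ι → F)} (hf : ∀ u, Q u = 0 → f u ∈ kline J u) :
    ∃ a b : F, ∀ x, f x = a • x + b • J x := by
  have indep : ∀ {u v : ι → F}, u ≠ 0 → v ∉ kline J u → ∀ {a b a' b' : F},
      a • u + b • J u + (a' • v + b' • J v) = 0 → a = 0 ∧ b = 0 ∧ a' = 0 ∧ b' = 0 := by
    intro u v hu0 hv a b a' b' h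
    have h1 : a' = 0 ∧ b' = 0 := by
      by_contra hne
      refine hv (mem_of_comb hJ hQ (fun _ => kline_stable hJ hQ) (a := a') (b := b') ?_ hne)
      rw [eq_neg_of_add_eq_zero_right h]
      exact Submodule.neg_mem _ (mem_kline.2 ⟨a, b, rfl⟩)
    obtain ⟨rfl, rfl⟩ := h1
    rw [zero_smul, zero_smul, add_zero, add_zero] at h
    rcases eq_or_ne b 0 with rfl | hb
    · rw [zero_smul, add_zero, smul_eq_zero] at h
      exact ⟨h.resolve_right hu0, rfl, rfl, rfl⟩
    · exfalso
      refine hu0 (hJ.no_eigen u (-a / b) ?_)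
      rw [show J u = b⁻¹ • (b • J u) from (inv_smul_smul₀ hb _).symm, eq_neg_of_add_eq_zero_right h, smul_neg,
        smul_smul, ← neg_smul, neg_div, div_eq_inv_mul]
  choose a b hab using fun u (h : Q u = 0) => mem_kline.1 (hf u h)
  have hpair : ∀ u v (hu : Q u = 0) (hv : Q v = 0), u ≠ 0 → B u v = 0 → v ∉ kline J u →
      a u hu = a v hv ∧ b u hu = b v hv := by
    intro u v hu hv hu0 huv hvn
    have hw : Q (u + v) = 0 := by rw [Q_add Q, hu, hv, huv]; ring
    have h : a (u + v) hw • (u + v) + b (u + v) hw • J (u + v) =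
        (a u hu • u + b u hu • J u) + (a v hv • v + b v hv • J v) := by
      rw [hab, hab, hab, map_add f]
    rw [map_add] at h
    obtain ⟨e1, e2, e3, e4⟩ := indep hu0 hvn (a := a (u + v) hw - a u hu) (b := b (u + v) hw - b u hu)
      (a' := a (u + v) hw - a v hv) (b' := b (u + v) hw - b v hv) (by linear_combination (norm := module) h)
    exact ⟨(sub_eq_zero.1 e1).symm.trans (sub_eq_zero.1 e3), (sub_eq_zero.1 e2).symm.trans (sub_eq_zero.1 e4)⟩
  obtain ⟨u₀, -, hu₀0, hu₀⟩ := exists_singular Q (D := (⊤ : Submodule F (ι → F))) (by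
    rw [finrank_top, Module.finrank_pi]; omega)
  refine ⟨a u₀ hu₀, b u₀ hu₀, ?_⟩
  have hsing : ∀ x, Q x = 0 → f x = a u₀ hu₀ • x + b u₀ hu₀ • J x := by
    intro x hx
    rcases eq_or_ne x 0 with rfl | hx0
    · simp
    obtain ⟨z, hz, hzn₀, hzn, hQz⟩ := exists_singular_two_lines (J := J) hQ (by omega) u₀ x
    obtain ⟨e1, e2⟩ := hpair u₀ z hu₀ hQz hu₀0 (hz u₀ (Submodule.mem_sup_left (self_mem_kline u₀)))
      hzn₀
    obtain ⟨e3, e4⟩ := hpair x z hx hQz hx0 (hz x (Submodule.mem_sup_right (self_mem_kline x)))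
      hzn
    rw [← hab x hx, e1, e2, ← e3, ← e4]
  let N : Submodule F (ι → F) := LinearMap.ker (f - a u₀ hu₀ • LinearMap.id - b u₀ hu₀ • J)
  intro x
  have := le_of_singular_perp hQ (P := (⊥ : Submodule F (ι → F))) (N := N)
    (by rw [finrank_bot]; omega) (fun y _ _ hy => by simp [N, hsing y hy])
    (show x ∈ perp Q ⊥ from fun p hp => by rw [(Submodule.mem_bot F).1 hp]; exact B_zero_left Q x)
  simp only [N, LinearMap.mem_ker, LinearMap.sub_apply, LinearMap.smul_apply, LinearMap.id_apply] at this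
  rw [sub_sub, sub_eq_zero] at this
  exact this

omit hQ hS hn [Finite F] in
/-- Unitary transvections commute with the field. -/
theorem act_transvection_comm {u : ι → F} (hu : Q u = 0) (a : F)
    (hQ : (QuadraticMap.polarBilin Q).Nondegenerate) (z : ι → F) :
    act (sg Q u (a • J u)) (J z) = J (act (sg Q u (a • J u)) z) := by
  have hQJ : Q (a • J u) = 0 := by rw [Q_smul Q, hJ.scale, hu]; ring
  have huJ : B u (a • J u) = 0 := by rw [B_smul_right Q, hJ.line u hu, mul_zero]
  rw [act_sg_long hu hQJ huJ, act_sg_long hu hQJ huJ, map_sub, map_add, map_smul, map_smul, map_smul,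
    unitary_sq hJ hQ, B_smul_left Q, B_smul_left Q, unitary_adj' hJ, unitary_scale hJ]
  module

omit hJ hQ hn hS [Finite F] in
/-- The normaliser of a unitary structure is maximal. -/
theorem unitary_normalizer_maximal [Finite F] (hQ : (QuadraticMap.polarBilin Q).Nondegenerate)
    (hn : 10 ≤ Fintype.card ι) (j : Matrix ι ι F) (hJ : IsUnitaryStr Q (Matrix.toLin' j) s c)
    (K : Subalgebra F (Matrix ι ι F))
    (hK : ∀ k, k ∈ K ↔ ∃ a b : F, k = a • (1 : Matrix ι ι F) + b • j) :
    Cfsg.Geo.IsMaximalIn (Cfsg.Geo.omegaGL Q)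
      (Cfsg.Geo.subalgebraNormalizer K ⊓ Cfsg.Geo.omegaGL Q) := by
  have hn5 : 5 ≤ Fintype.card ι := by omega
  set J := Matrix.toLin' j with hJdef
  have hjK : j ∈ K := (hK j).2 ⟨0, 1, by rw [zero_smul, zero_add, one_smul]⟩
  have hlin : ∀ (a b : F) (x : ι → F), Matrix.toLin' (a • (1 : Matrix ι ι F) + b • j) x = a • x + b • J x := by
    intro a b x
    simp [hJdef, map_add, map_smul]
  have hconj : ∀ (g : GL ι F) (x : ι → F),
      Matrix.toLin' ((g : Matrix ι ι F) * j * ((g⁻¹ : GL ι F) : Matrix ι ι F)) x = act g (J (act g⁻¹ x)) := by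
    intro g x
    rw [Matrix.toLin'_mul, Matrix.toLin'_mul]
    rfl
  refine isMaximalIn_inf ?_ fun M hM hMΩ hout => ?_
  · obtain ⟨u, -, hu0, hu⟩ := exists_singular Q (D := (⊤ : Submodule F (ι → F))) (by
      rw [finrank_top, Module.finrank_pi]; omega)
    have h2 := finrank_kline_le (J := J) u
    obtain ⟨w, hw, hwn, hQw⟩ := exists_singular_notMem Q (D := perp Q (kline J u)) (E := kline J u)
      (by rw [finrank_perp hQ]; omega)
    obtain ⟨huw, hJuw⟩ := mem_perp_kline.1 hw
    refine ⟨sg Q u w, sg_mem_omega hQ hn5 u w, fun h => hwn ?_⟩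
    obtain ⟨a, b, hab⟩ := (hK _).1 ((h j).1 hjK)
    have key : ∀ y, act (sg Q u w) (J y) = a • act (sg Q u w) y + b • J (act (sg Q u w) y) := by
      intro y
      have h1 := hconj (sg Q u w) (act (sg Q u w) y)
      rw [hab, hlin, act_inv_act] at h1
      exact h1.symm
    have hfix : ∀ y ∈ kline J u, act (sg Q u w) y = y := fun y hy =>
      act_sg_fix Q hu huw (B_eq_zero_of_singular (kline_singular hJ hu) (self_mem_kline u) hy)
        ((B_comm Q w y).trans (hw y hy))
    have h1 := key u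
    rw [hfix _ (map_mem_kline u), hfix _ (self_mem_kline u)] at h1
    have hb : b = 1 := by
      by_contra hb
      have h1' : (1 - b) • J u = a • u := by rw [sub_smul, one_smul]; linear_combination (norm := module) h1
      exact hu0 (hJ.no_eigen u ((1 - b)⁻¹ * a) (by
        rw [← smul_smul, ← h1', inv_smul_smul₀ (sub_ne_zero.2 (Ne.symm hb))]))
    subst hb
    have ha : a = 0 := by
      rw [one_smul, right_eq_add, smul_eq_zero] at h1
      exact h1.resolve_right hu0
    subst ha
    obtain ⟨z, hz, hz1⟩ := exists_perp_one hQ (P := F ∙ u) (v := J u) fun hm => by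
      obtain ⟨d, hd⟩ := Submodule.mem_span_singleton.1 hm
      exact hu0 (hJ.no_eigen u d hd.symm)
    have huz : B u z = 0 := hz u (Submodule.mem_span_singleton_self u)
    have h3 := key z
    rw [zero_smul, zero_add, one_smul, act_sg_long hu hQw huw, act_sg_long hu hQw huw, unitary_adj' hJ, huz,
      hz1, map_sub, map_add, map_smul, map_smul] at h3
    have e : w = B w z • J u - B w (J z) • u := by linear_combination (norm := module) -h3
    rw [e]
    exact Submodule.sub_mem _ (Submodule.smul_mem _ _ (map_mem_kline u)) (Submodule.smul_mem _ _ (self_mem_kline u))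
  obtain ⟨g, hgM, hgS⟩ := hout
  have hS : ∀ u, Q u = 0 → ∀ a : F, sg Q u (a • J u) ∈ M := by
    intro u hu a
    refine hM ⟨?_, sg_mem_omega hQ hn5 _ _⟩
    set t := sg Q u (a • J u)
    have hcomm : (t : Matrix ι ι F) * j = j * (t : Matrix ι ι F) := by
      apply Matrix.toLin'.injective
      rw [Matrix.toLin'_mul, Matrix.toLin'_mul]
      exact LinearMap.ext fun z => act_transvection_comm hJ hu a hQ z
    intro k
    have hfix : ∀ k ∈ K, (t : Matrix ι ι F) * k * ((t⁻¹ : GL ι F) : Matrix ι ι F) = k := by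
      intro k hk
      obtain ⟨a, b, rfl⟩ := (hK k).1 hk
      rw [show (t : Matrix ι ι F) * (a • (1 : Matrix ι ι F) + b • j) = (a • (1 : Matrix ι ι F) + b • j) * t by
        simp only [mul_add, add_mul, Matrix.mul_smul, Matrix.smul_mul, hcomm, mul_one, one_mul]]
      rw [mul_assoc, ← Units.val_mul, mul_inv_cancel, Units.val_one, mul_one]
    refine ⟨fun hk => by rw [hfix k hk]; exact hk, fun hk => ?_⟩
    obtain ⟨k', hk'⟩ : ∃ k', k' = (t : Matrix ι ι F) * k * ((t⁻¹ : GL ι F) : Matrix ι ι F) := ⟨_, rfl⟩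
    rw [← hk'] at hk
    have hti : (t : Matrix ι ι F) * ((t⁻¹ : GL ι F) : Matrix ι ι F) = 1 := by
      rw [← Units.val_mul, mul_inv_cancel, Units.val_one]
    have hit : ((t⁻¹ : GL ι F) : Matrix ι ι F) * (t : Matrix ι ι F) = 1 := by
      rw [← Units.val_mul, inv_mul_cancel, Units.val_one]
    have e : k' = k := by
      calc k' = ((t⁻¹ : GL ι F) : Matrix ι ι F) *
            ((t : Matrix ι ι F) * k' * ((t⁻¹ : GL ι F) : Matrix ι ι F)) * t := by
              rw [← mul_assoc, ← mul_assoc, hit, one_mul, mul_assoc, hit, mul_one]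
        _ = k := by
              rw [hfix k' hk, hk', ← mul_assoc, ← mul_assoc, hit, one_mul, mul_assoc, hit, mul_one]
    exact e ▸ hk
  by_cases hseed : ∃ u w, Q u = 0 ∧ u ≠ 0 ∧ B u w = 0 ∧ sg Q u w ∈ M ∧ w ∉ kline J u
  · obtain ⟨u, w, hu, hu0, huw, h, hw⟩ := hseed
    exact omega_le_of_unitary_seed hJ hQ hn hS hu hu0 huw h hw
  push Not at hseed
  exfalso
  apply hgS
  have hline : ∀ g ∈ M, ∀ x, Q x = 0 → act g (J x) ∈ kline J (act g x) := by
    intro g hg x hx
    rcases eq_or_ne x 0 with rfl | hx0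
    · simp
    have hgI := omega_le_iso (hMΩ hg)
    refine hseed (act g x) _ (by rw [Q_act hgI, hx])
      (fun e => hx0 (act_injective g (e.trans (map_zero _).symm))) (by rw [B_act hgI, hJ.line x hx]) ?_
    rw [← conj_sg Q hgI]
    refine mul_mem (mul_mem hg ?_) (inv_mem hg)
    have := hS x hx 1
    rwa [one_smul] at this
  obtain ⟨a, b, hab⟩ := exists_comb_of_lines hJ hQ hn (f := (act g⁻¹).comp (J.comp (act g))) fun u hu => by
    show act g⁻¹ (J (act g u)) ∈ kline J u
    have := hline g⁻¹ (inv_mem hgM) (act g u) (by rw [Q_act (omega_le_iso (hMΩ hgM)), hu])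
    rwa [act_inv_act] at this
  set G := (g : Matrix ι ι F)
  set G' := ((g⁻¹ : GL ι F) : Matrix ι ι F)
  have hGG : G' * G = 1 := by rw [← Units.val_mul, inv_mul_cancel, Units.val_one]
  have hGG' : G * G' = 1 := by rw [← Units.val_mul, mul_inv_cancel, Units.val_one]
  have hj1 : G' * j * G = a • (1 : Matrix ι ι F) + b • j := by
    apply Matrix.toLin'.injective
    rw [Matrix.toLin'_mul, Matrix.toLin'_mul]
    refine LinearMap.ext fun x => ?_
    rw [hlin]
    exact hab x
  have hb : b ≠ 0 := by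
    rintro rfl
    obtain ⟨u, -, hu0, -⟩ := exists_singular Q (D := (⊤ : Submodule F (ι → F))) (by
      rw [finrank_top, Module.finrank_pi]; omega)
    have e : j = a • (1 : Matrix ι ι F) := by
      calc j = G * (G' * j * G) * G' := by
              rw [← mul_assoc, ← mul_assoc, hGG', one_mul, mul_assoc, hGG', mul_one]
        _ = _ := by rw [hj1, zero_smul, add_zero, Matrix.mul_smul, Matrix.smul_mul, mul_one, hGG']
    exact hu0 (hJ.no_eigen u a (by rw [hJdef, e]; simp))
  have hj2 : G * j * G' = (-(b⁻¹ * a)) • (1 : Matrix ι ι F) + b⁻¹ • j := by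
    have e : j = a • (1 : Matrix ι ι F) + b • (G * j * G') := by
      calc j = G * (G' * j * G) * G' := by
              rw [← mul_assoc, ← mul_assoc, hGG', one_mul, mul_assoc, hGG', mul_one]
        _ = _ := by
              rw [hj1, mul_add, add_mul, Matrix.mul_smul, Matrix.smul_mul, mul_one, hGG', Matrix.mul_smul,
                Matrix.smul_mul]
    conv_rhs => arg 2; arg 2; rw [e]
    rw [smul_add, smul_smul, smul_smul, inv_mul_cancel₀ hb, one_smul, ← add_assoc, ← add_smul, neg_add_cancel,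
      zero_smul, zero_add]
  have fwd : ∀ (G G' : Matrix ι ι F) (p r : F), G * G' = 1 → G * j * G' = p • (1 : Matrix ι ι F) + r • j →
      ∀ k ∈ K, G * k * G' ∈ K := by
    intro G G' p r hGG hj k hk
    obtain ⟨x, y, rfl⟩ := (hK k).1 hk
    rw [mul_add, add_mul, Matrix.mul_smul, Matrix.smul_mul, mul_one, hGG, Matrix.mul_smul, Matrix.smul_mul, hj]
    exact (hK _).2 ⟨x + y * p, y * r, by module⟩
  intro k
  refine ⟨fwd G G' _ _ hGG' hj2 k, fun hk => ?_⟩
  have := fwd G' G _ _ hGG hj1 _ hk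
  rwa [← mul_assoc, ← mul_assoc, hGG, one_mul, mul_assoc, hGG, mul_one] at this

omit hJ hQ hn hS [Finite F] in
/-- The generator of a quadratic field of similitudes that is adjoint-closed but not self-adjoint. -/
theorem exists_unitary_generator [Nonempty ι] (hQ : (QuadraticMap.polarBilin Q).Nondegenerate)
    (K : Subalgebra F (Matrix ι ι F)) (hK : Cfsg.Geo.IsFieldSubalgebra 2 K)
    (hac : Cfsg.Geo.IsAdjointClosedFor (QuadraticMap.polar Q) K)
    (hnsa : ¬ Cfsg.Geo.IsSelfAdjointFor (QuadraticMap.polar Q) K)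
    (hsc : ∀ k ∈ K, ∃ c : F, ∀ v : ι → F, Q (Matrix.mulVec k v) = c * Q v) :
    ∃ (j : Matrix ι ι F) (s c : F), IsUnitaryStr Q (Matrix.toLin' j) s c ∧
      ∀ k, k ∈ K ↔ ∃ a b : F, k = a • (1 : Matrix ι ι F) + b • j := by
  classical
  simp only [Cfsg.Geo.IsSelfAdjointFor, not_forall] at hnsa
  obtain ⟨j, hj, u, v, huv⟩ := hnsa
  have hone : (1 : Matrix ι ι F) ∈ K := K.one_mem
  have hindep : ∀ a b : F, a • (1 : Matrix ι ι F) + b • j = 0 → a = 0 ∧ b = 0 := by
    intro a b h
    rcases eq_or_ne b 0 with rfl | hb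
    · rw [zero_smul, add_zero, smul_eq_zero] at h
      exact ⟨h.resolve_right one_ne_zero, rfl⟩
    · exfalso
      apply huv
      have : j = (-(b⁻¹ * a)) • (1 : Matrix ι ι F) := by
        rw [neg_smul, ← smul_smul, ← smul_neg, ← eq_neg_of_add_eq_zero_right h, inv_smul_smul₀ hb]
      rw [this, Matrix.smul_mulVec, Matrix.one_mulVec, Matrix.smul_mulVec, Matrix.one_mulVec, B_smul_left Q,
        B_smul_right Q]
  have hK2 : ∀ k, k ∈ K ↔ ∃ a b : F, k = a • (1 : Matrix ι ι F) + b • j := by
    intro k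
    refine ⟨fun hk => ?_, ?_⟩
    · have hle : Submodule.span F (Set.range ![(1 : Matrix ι ι F), j]) ≤ Subalgebra.toSubmodule K := by
        rw [Submodule.span_le]; rintro _ ⟨i, rfl⟩; fin_cases i <;> assumption
      have hli : LinearIndependent F ![(1 : Matrix ι ι F), j] := LinearIndependent.pair_iff.2 hindep
      have e := Submodule.eq_of_le_of_finrank_le hle (by
        rw [finrank_span_eq_card hli, Fintype.card_fin]; exact hK.finrank_eq.le)
      have hk' : k ∈ Submodule.span F (Set.range ![(1 : Matrix ι ι F), j]) := e ▸ hk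
      rw [Submodule.mem_span_range_iff_exists_fun] at hk'
      obtain ⟨c, hc⟩ := hk'
      exact ⟨c 0, c 1, by simpa [Fin.sum_univ_two] using hc.symm⟩
    · rintro ⟨a, b, rfl⟩
      exact K.add_mem (K.smul_mem hone a) (K.smul_mem hj b)
  obtain ⟨j', hj', hadj⟩ := hac j hj
  obtain ⟨s, b, hs⟩ := (hK2 _).1 (K.add_mem hj hj')
  have hsym : ∀ x y, B ((j + j') *ᵥ x) y = B x ((j + j') *ᵥ y) := by
    intro x y
    rw [Matrix.add_mulVec, Matrix.add_mulVec, B_add_left Q, B_add_right Q, B_comm Q (j' *ᵥ x) y, ← hadj y x,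
      ← hadj x y, B_comm Q x (j *ᵥ y)]
    ring
  have hb : b = 0 := by
    by_contra hb
    apply huv
    have := hsym u v
    rw [hs, Matrix.add_mulVec, Matrix.add_mulVec, Matrix.smul_mulVec, Matrix.smul_mulVec, Matrix.smul_mulVec,
      Matrix.smul_mulVec, Matrix.one_mulVec, Matrix.one_mulVec, B_add_left Q, B_add_right Q, B_smul_left Q,
      B_smul_left Q, B_smul_right Q, B_smul_right Q] at this
    exact mul_left_cancel₀ hb (by linear_combination this)
  subst hb
  rw [zero_smul, add_zero] at hs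
  obtain ⟨c, hc⟩ := hsc j hj
  obtain ⟨c₁, hc₁⟩ := hsc (1 + j) (K.add_mem hone hj)
  obtain ⟨y, -, hy⟩ := hK.inv j hj fun e => huv (by rw [e]; simp [B_zero_left Q, B_zero_right Q])
  refine ⟨j, s, c, ⟨fun x z => ?_, fun x => ?_, ?_, fun x hx => ?_, fun x a hxa => ?_⟩, hK2⟩
  · rw [Matrix.toLin'_apply, Matrix.toLin'_apply]
    have : j' *ᵥ z = s • z - j *ᵥ z := by
      rw [eq_sub_iff_add_eq, add_comm, ← Matrix.add_mulVec, hs, Matrix.smul_mulVec, Matrix.one_mulVec]
    rw [hadj, this, B_sub_right Q, B_smul_right Q]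
  · rw [Matrix.toLin'_apply]; exact hc x
  · rintro rfl
    have h0 : ∀ w, Q w = 0 := fun w => by
      have := hc (y *ᵥ w)
      rwa [Matrix.mulVec_mulVec, hy, Matrix.one_mulVec, zero_mul] at this
    apply huv
    simp [QuadraticMap.polar, h0]
  · have := hc₁ x
    rw [Matrix.add_mulVec, Matrix.one_mulVec, Q_add Q, hc, hx, mul_zero, mul_zero, zero_add, zero_add] at this
    rwa [Matrix.toLin'_apply]
  · by_contra hx
    have hz : j - a • (1 : Matrix ι ι F) ≠ 0 := by
      intro e
      have := (hindep (-a) 1 (by rw [← e]; module)).2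
      exact one_ne_zero this
    obtain ⟨w, hw, hjw⟩ := hK.inv _ (K.sub_mem hj (K.smul_mem hone a)) hz
    rw [hK.comm _ (K.sub_mem hj (K.smul_mem hone a)) _ hw] at hjw
    apply hx
    have h := congrArg (fun m : Matrix ι ι F => m *ᵥ x) hjw
    rw [Matrix.toLin'_apply] at hxa
    simp only [← Matrix.mulVec_mulVec, Matrix.sub_mulVec, Matrix.smul_mulVec, Matrix.one_mulVec, hxa, sub_self,
      Matrix.mulVec_zero] at h
    exact h.symm

end Cfsg.Agent.MaxCl.Orth
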