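/-
Tensor powers as functions on the slots: pure vectors, pure operators, permutations of the slots, the wreath
product and the splitting at one slot.
-/
import Cfsg.Agent.Lib.MaxCl.TensorMax

set_option autoImplicit false
set_option linter.unusedSectionVars false
set_option linter.style.haveILetI false

namespace Cfsg.Agent.MaxCl.TW

open Matrix
open scoped MatrixGroups Kronecker

variable {S : Type} [Fintype S] [DecidableEq S] {m : ℕ} {F : Type*} [Field F]

/-- the pure matrix -/
def pm : (S → Matrix (Fin m) (Fin m) F) →* Matrix (S → Fin m) (S → Fin m) F where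
  toFun f := Matrix.of fun x y => ∏ s, f s (x s) (y s)
  map_one' := by
    ext x y
    rcases eq_or_ne x y with rfl | h
    · simp
    · obtain ⟨s, hs⟩ := Function.ne_iff.1 h
      simp only [Pi.one_apply, Matrix.of_apply, Matrix.one_apply_ne h]
      exact Finset.prod_eq_zero (Finset.mem_univ s) (Matrix.one_apply_ne hs)
  map_mul' f g := by
    ext x y
    simp only [Matrix.of_apply, Pi.mul_apply, Matrix.mul_apply, Fintype.prod_sum, Finset.prod_mul_distrib]

theorem pm_apply (f : S → Matrix (Fin m) (Fin m) F) (x y : S → Fin m) : pm f x y = ∏ s, f s (x s) (y s) := rfl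

/-- the pure operator -/
def tk : (S → GL (Fin m) F) →* GL (S → Fin m) F :=
  (Units.map pm).comp
    { toFun := fun u =>
        { val := fun s => (u s : Matrix (Fin m) (Fin m) F)
          inv := fun s => ((u s)⁻¹ : GL (Fin m) F)
          val_inv := funext fun s => (u s).mul_inv
          inv_val := funext fun s => (u s).inv_mul }
      map_one' := Units.ext (funext fun _ => rfl)
      map_mul' := fun _ _ => Units.ext (funext fun _ => rfl) }

theorem tk_val (u : S → GL (Fin m) F) :
    (tk u : Matrix (S → Fin m) (S → Fin m) F) = pm fun s => (u s : Matrix (Fin m) (Fin m) F) := rfl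

/-- the pure vector -/
def tp (a : S → Fin m → F) : (S → Fin m) → F := fun x => ∏ s, a s (x s)

theorem tp_apply (a : S → Fin m → F) (x : S → Fin m) : tp a x = ∏ s, a s (x s) := rfl

theorem tp_single (x : S → Fin m) : tp (fun s => Pi.single (x s) (1 : F)) = Pi.single x 1 := by
  funext y
  rcases eq_or_ne y x with rfl | h
  · simp [tp_apply]
  · obtain ⟨s, hs⟩ := Function.ne_iff.1 h
    rw [Pi.single_eq_of_ne h, tp_apply]
    exact Finset.prod_eq_zero (Finset.mem_univ s) (by simp [hs])

theorem lext_tp {N : Type*} [AddCommGroup N] [Module F N] {f g : ((S → Fin m) → F) →ₗ[F] N}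
    (h : ∀ a, f (tp a) = g (tp a)) : f = g :=
  (Pi.basisFun F (S → Fin m)).ext fun x => by rw [Pi.basisFun_apply, ← tp_single, h]

theorem gl_ext_tp {g h : GL (S → Fin m) F} (H : ∀ a, act g (tp a) = act h (tp a)) : g = h :=
  gl_ext fun x => LinearMap.congr_fun (lext_tp H) x

theorem act_tk (u : S → GL (Fin m) F) (a : S → Fin m → F) :
    act (tk u) (tp a) = tp fun s => act (u s) (a s) := by
  funext x
  simp only [act_apply, tk_val, mulVec, dotProduct, tp_apply, pm_apply, Fintype.prod_sum, Finset.prod_mul_distrib]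

/-- the permutation of the slots -/
def pg (σ : Equiv.Perm S) : GL (S → Fin m) F where
  val := Matrix.of fun x y => if y = x ∘ σ then 1 else 0
  inv := Matrix.of fun x y => if y = x ∘ σ.symm then 1 else 0
  val_inv := by
    ext x y
    simp only [Matrix.mul_apply, Matrix.of_apply, ite_mul, one_mul, zero_mul, Finset.sum_ite_eq',
      Finset.mem_univ, if_true, Matrix.one_apply]
    simp [Function.comp_assoc, eq_comm]
  inv_val := by
    ext x y
    simp only [Matrix.mul_apply, Matrix.of_apply, ite_mul, one_mul, zero_mul, Finset.sum_ite_eq',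
      Finset.mem_univ, if_true, Matrix.one_apply]
    simp [Function.comp_assoc, eq_comm]

theorem act_pg (σ : Equiv.Perm S) (z : (S → Fin m) → F) (x : S → Fin m) : act (pg σ) z x = z (x ∘ σ) := by
  simp [act_apply, pg, mulVec, dotProduct, ite_mul]

theorem act_pg_tp (σ : Equiv.Perm S) (a : S → Fin m → F) : act (pg σ) (tp a) = tp fun s => a (σ.symm s) := by
  funext x
  rw [act_pg, tp_apply, tp_apply]
  exact Fintype.prod_equiv σ _ _ fun s => by simp

theorem pg_one : (pg (1 : Equiv.Perm S) : GL (S → Fin m) F) = 1 :=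
  gl_ext fun z => funext fun x => by rw [act_pg, act_one]; rfl

theorem pg_mul (σ τ : Equiv.Perm S) : (pg (σ * τ) : GL (S → Fin m) F) = pg σ * pg τ :=
  gl_ext fun z => funext fun x => by rw [act_pg, act_mul, act_pg, act_pg]; rfl

theorem pg_inv (σ : Equiv.Perm S) : (pg σ : GL (S → Fin m) F)⁻¹ = pg σ⁻¹ := Units.ext rfl

theorem tk_pg (σ : Equiv.Perm S) (u : S → GL (Fin m) F) : tk u * pg σ = pg σ * tk fun s => u (σ s) :=
  gl_ext_tp fun a => by
    rw [act_mul, act_mul, act_pg_tp, act_tk, act_tk, act_pg_tp]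
    simp

theorem pg_conj (σ : Equiv.Perm S) (u : S → GL (Fin m) F) :
    pg σ * tk u * (pg σ)⁻¹ = tk fun s => u (σ.symm s) := by
  rw [mul_inv_eq_iff_eq_mul, tk_pg]
  simp

/-- the wreath product -/
def Wr (S : Type) [Fintype S] [DecidableEq S] (m : ℕ) (F : Type*) [Field F] : Subgroup (GL (S → Fin m) F) where
  carrier := {g | ∃ σ u, g = pg σ * tk u}
  one_mem' := ⟨1, 1, by rw [pg_one, map_one, one_mul]⟩
  mul_mem' := by
    rintro _ _ ⟨σ, u, rfl⟩ ⟨τ, v, rfl⟩
    refine ⟨σ * τ, (fun s => u (τ s)) * v, ?_⟩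
    rw [pg_mul, map_mul, mul_assoc, ← mul_assoc (tk u), tk_pg]
    simp only [mul_assoc]
  inv_mem' := by
    rintro _ ⟨σ, u, rfl⟩
    refine ⟨σ⁻¹, fun s => (u (σ⁻¹ s))⁻¹, ?_⟩
    rw [_root_.mul_inv_rev, ← map_inv, pg_inv, tk_pg]
    rfl

theorem exists_of_mem_wr {g : GL (S → Fin m) F} (h : g ∈ Wr S m F) : ∃ σ u, g = pg σ * tk u := h

theorem mul_mem_wr (σ : Equiv.Perm S) (u : S → GL (Fin m) F) : pg σ * tk u ∈ Wr S m F := ⟨σ, u, rfl⟩

theorem tk_mem (u : S → GL (Fin m) F) : tk u ∈ Wr S m F := ⟨1, u, by rw [pg_one, one_mul]⟩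

theorem pg_mem (σ : Equiv.Perm S) : (pg σ : GL (S → Fin m) F) ∈ Wr S m F := ⟨σ, 1, by rw [map_one, mul_one]⟩

theorem act_wr (σ : Equiv.Perm S) (u : S → GL (Fin m) F) (a : S → Fin m → F) :
    act (pg σ * tk u) (tp a) = tp fun s => act (u (σ.symm s)) (a (σ.symm s)) := by
  rw [act_mul, act_tk, act_pg_tp]

/-! ### the splitting at a slot -/

/-- splitting off a slot -/
def spl (s : S) : (S → Fin m) ≃ ({r // r ≠ s} → Fin m) × Fin m :=
  (Equiv.piSplitAt s fun _ => Fin m).trans (Equiv.prodComm _ _)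

theorem spl_apply (s : S) (x : S → Fin m) : spl s x = (fun r => x r.1, x s) := rfl

/-- vectors in the split coordinates -/
def toR (s : S) : ((S → Fin m) → F) ≃ₗ[F] (({r // r ≠ s} → Fin m) × Fin m → F) :=
  LinearEquiv.funCongrLeft F F (spl s).symm

theorem toR_apply (s : S) (z : (S → Fin m) → F) (p : ({r // r ≠ s} → Fin m) × Fin m) :
    toR s z p = z ((spl s).symm p) := rfl

/-- operators in the split coordinates -/
def rid (s : S) : GL (S → Fin m) F ≃* GL (({r // r ≠ s} → Fin m) × Fin m) F := Cfsg.Geo.glReindex (spl s)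

theorem rid_val (s : S) (g : GL (S → Fin m) F) :
    (rid s g : Matrix (({r // r ≠ s} → Fin m) × Fin m) (({r // r ≠ s} → Fin m) × Fin m) F) =
      (g : Matrix (S → Fin m) (S → Fin m) F).submatrix (spl s).symm (spl s).symm := rfl

theorem act_rid (s : S) (g : GL (S → Fin m) F) (z : (S → Fin m) → F) :
    act (rid s g) (toR s z) = toR s (act g z) := by
  funext p
  simp only [act_apply, rid_val, toR_apply, mulVec, dotProduct, submatrix_apply]
  exact Fintype.sum_equiv (spl s).symm _ _ fun _ => rfl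

theorem det_rid (s : S) (g : GL (S → Fin m) F) :
    (rid s g : Matrix (({r // r ≠ s} → Fin m) × Fin m) (({r // r ≠ s} → Fin m) × Fin m) F).det =
      (g : Matrix (S → Fin m) (S → Fin m) F).det :=
  Matrix.det_submatrix_equiv_self _ _

theorem prod_split (s : S) {M : Type*} [CommMonoid M] (f : S → M) :
    ∏ r, f r = f s * ∏ r : {r // r ≠ s}, f r.1 :=
  Fintype.prod_eq_mul_prod_subtype_ne f s

theorem toR_tp (s : S) (a : S → Fin m → F) :
    toR s (tp a) = TP.pv (tp fun r : {r // r ≠ s} => a r.1) (a s) := by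
  funext p
  obtain ⟨x, rfl⟩ := (spl s).surjective p
  rw [toR_apply, Equiv.symm_apply_apply, spl_apply, TP.pv_apply, tp_apply, tp_apply, prod_split s, mul_comm]

theorem rid_ext (s : S) {g h : GL (({r // r ≠ s} → Fin m) × Fin m) F}
    (H : ∀ a, act g (toR s (tp a)) = act h (toR s (tp a))) : g = h := by
  obtain ⟨g, rfl⟩ := (rid s).surjective g
  obtain ⟨h, rfl⟩ := (rid s).surjective h
  refine congrArg _ (gl_ext_tp fun a => ?_)
  have := H a
  rwa [act_rid, act_rid, EmbeddingLike.apply_eq_iff_eq] at this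

theorem rid_tk (s : S) (u : S → GL (Fin m) F) :
    rid s (tk u) = TP.kr (tk fun r : {r // r ≠ s} => u r.1, u s) :=
  rid_ext s fun a => by rw [act_rid, act_tk, toR_tp, toR_tp, TP.act_kr_pv, act_tk]

theorem rid_pg (s : S) (σ : Equiv.Perm {r // r ≠ s}) :
    rid s (pg (Equiv.Perm.ofSubtype σ)) = TP.kr ((pg σ : GL ({r // r ≠ s} → Fin m) F), (1 : GL (Fin m) F)) :=
  rid_ext s fun a => by
    rw [act_rid, act_pg_tp, toR_tp, toR_tp, TP.act_kr_pv, act_pg_tp, act_one]
    have e : (Equiv.Perm.ofSubtype σ).symm = Equiv.Perm.ofSubtype σ.symm :=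
      (map_inv Equiv.Perm.ofSubtype σ).symm
    congr 1
    · refine congrArg tp (funext fun r => ?_)
      rw [e, Equiv.Perm.ofSubtype_apply_coe]
    · rw [e, Equiv.Perm.ofSubtype_apply_of_not_mem _ (by simp)]

/-- an operator in one slot -/
def rt (s : S) : GL (Fin m) F →* GL (S → Fin m) F := tk.comp (MonoidHom.mulSingle (fun _ : S => GL (Fin m) F) s)

theorem rt_eq (s : S) (w : GL (Fin m) F) : rt s w = tk (Pi.mulSingle s w) := rfl

theorem act_rt (s : S) (w : GL (Fin m) F) (a : S → Fin m → F) :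
    act (rt s w) (tp a) = tp (Function.update a s (act w (a s))) := by
  rw [rt_eq, act_tk]
  refine congrArg tp (funext fun r => ?_)
  rcases eq_or_ne r s with rfl | h
  · simp
  · simp [h, act_one]

theorem rid_rt (s : S) (w : GL (Fin m) F) :
    rid s (rt s w) = TP.kr ((1 : GL ({r // r ≠ s} → Fin m) F), w) := by
  rw [rt_eq, rid_tk, Pi.mulSingle_eq_same]
  congr
  rw [show (fun r : {r // r ≠ s} => (Pi.mulSingle s w : S → GL (Fin m) F) r.1) = 1 from
    funext fun r => by simp [r.2], map_one]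

theorem rt_mem (s : S) (w : GL (Fin m) F) : rt s w ∈ Wr S m F := tk_mem _

theorem det_tk_eq_one {u : S → GL (Fin m) F} (hu : ∀ s, (u s : Matrix (Fin m) (Fin m) F).det = 1) :
    (tk u : Matrix (S → Fin m) (S → Fin m) F).det = 1 := by
  have h : tk u ∈ (Matrix.GeneralLinearGroup.det (n := S → Fin m) (R := F)).ker := by
    refine Subgroup.mem_comap.1 (Subgroup.pi_mem_of_mulSingle_mem (H := Subgroup.comap tk _) u fun s => ?_)
    rw [Subgroup.mem_comap, ← rt_eq, MonoidHom.mem_ker]
    refine Units.ext ?_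
    rw [Matrix.GeneralLinearGroup.val_det_apply, Units.val_one, ← det_rid s, rid_rt, TP.det_kr, hu]
    simp
  exact TP.mem_sl_iff.1 h

/-- an operator fixing a slot that is pure in the split coordinates -/
theorem mem_wr_of_rid (s : S) {g : GL (S → Fin m) F} {u : GL ({r // r ≠ s} → Fin m) F} {w : GL (Fin m) F}
    (hg : rid s g = TP.kr (u, w)) (hu : u ∈ Wr {r // r ≠ s} m F) : g ∈ Wr S m F := by
  obtain ⟨σ, v, rfl⟩ := hu
  let V : S → GL (Fin m) F := fun r => if h : r = s then w else v ⟨r, h⟩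
  have : g = pg (Equiv.Perm.ofSubtype σ) * tk V := (rid s).injective (by
    rw [hg, map_mul, rid_pg, rid_tk, ← map_mul, Prod.mk_mul_mk, one_mul, show V s = w from dif_pos rfl,
      show (fun r : {r // r ≠ s} => V r.1) = v from funext fun r => dif_neg r.2])
  rw [this]
  exact mul_mem_wr _ _

/-! ### pure vectors determine their factors -/

theorem tp_ne_zero {a : S → Fin m → F} (h : ∀ s, a s ≠ 0) : tp a ≠ 0 := by
  choose i hi using fun s => Function.ne_iff.1 (h s)
  exact Function.ne_iff.2 ⟨i, Finset.prod_ne_zero_iff.2 fun s _ => hi s⟩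

theorem slot_of_eq {a b : S → Fin m → F} (h : tp a = tp b) (ha : ∀ s, a s ≠ 0) (s : S) :
    ∃ c : F, c • a s = b s := by
  have h' := congrArg (toR s) h
  rw [toR_tp, toR_tp] at h'
  have hne : tp (fun r : {r // r ≠ s} => b r.1) ≠ 0 := fun e => tp_ne_zero ha (by
    rw [h, ← (toR (F := F) (m := m) s).map_eq_zero_iff, toR_tp, e, TP.pv_zero_left])
  obtain ⟨x, hx⟩ := Function.ne_iff.1 hne
  refine ⟨tp (fun r : {r // r ≠ s} => a r.1) x / tp (fun r : {r // r ≠ s} => b r.1) x, funext fun i => ?_⟩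
  have h1 : tp (fun r : {r // r ≠ s} => a r.1) x * a s i = tp (fun r : {r // r ≠ s} => b r.1) x * b s i :=
    congrFun h' (x, i)
  rw [Pi.smul_apply, smul_eq_mul, div_mul_eq_mul_div, h1, mul_div_cancel_left₀ _ hx]

/-- where an element of the wreath product sends a slot -/
theorem perm_apply_of_eq (hm : 2 ≤ m) {σ τ : Equiv.Perm S} {u v : S → GL (Fin m) F}
    (h : pg σ * tk u = pg τ * tk v) : σ = τ := by
  classical
  haveI : Nontrivial (Fin m) := Fin.nontrivial_iff_two_le.2 hm
  obtain ⟨i, j, hij⟩ := exists_pair_ne (Fin m)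
  refine Equiv.ext fun q => ?_
  by_contra hne
  let s := σ q
  have hq : τ.symm (σ q) ≠ q := fun e => hne ((Equiv.symm_apply_eq τ).1 e)
  have key : ∀ x : Fin m → F, x ≠ 0 →
      ∃ c : F, c • act (u q) x = act (v (τ.symm s)) (Pi.single i 1) := by
    intro x hx
    let a : S → Fin m → F := Function.update (fun _ => Pi.single i 1) q x
    have ha : ∀ r, a r ≠ 0 := fun r => by
      rcases eq_or_ne r q with rfl | hr
      · simp [a, hx]
      · simp [a, hr]
    have he := congrArg (fun g => act g (tp a)) h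
    simp only [act_wr] at he
    obtain ⟨c, hc⟩ := slot_of_eq he (fun r h0 => ha _ (act_injective _ (by rw [h0, map_zero]))) s
    refine ⟨c, ?_⟩
    simpa [a, s, hq] using hc
  have hv : act (v (τ.symm s)) (Pi.single i 1) ≠ 0 := fun h0 => by
    have := act_injective _ (h0.trans (map_zero (act (v (τ.symm s)))).symm)
    simp at this
  obtain ⟨c, hc⟩ := key (Pi.single i 1) (by simp)
  obtain ⟨d, hd⟩ := key (Pi.single j 1) (by simp)
  rw [← map_smul] at hc hd
  have := congrFun (act_injective _ (hc.trans hd.symm)) i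
  simp [hij] at this
  exact hv (by rw [← hc, this, zero_smul, map_zero])

end Cfsg.Agent.MaxCl.TW
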