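/-
Tensor powers: adjoints for a form given by its matrix, rank one maps,
tensor products over an index type of positions, permutations of the positions, splitting off one position, and the
wreath group.
-/
import Mathlib

set_option autoImplicit false
set_option linter.unusedSectionVars false

namespace Cfsg.Agent.MaxCl.Pow

open Matrix
open scoped MatrixGroups Kronecker

variable {ι : Type} [Fintype ι] [DecidableEq ι] {F : Type*} [Field F]

/-! ### forms given by matrices -/

/-- the form with matrix `G` -/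
def fm (G : Matrix ι ι F) (u v : ι → F) : F := u ⬝ᵥ G *ᵥ v

/-- a non-degenerate symmetric or skew matrix -/
structure IsForm (G : Matrix ι ι F) : Prop where
  det : IsUnit G.det
  sign : ∃ ε : F, ε * ε = 1 ∧ Gᵀ = ε • G

/-- a non-degenerate alternating matrix -/
structure Alt (G : Matrix ι ι F) : Prop where
  det : IsUnit G.det
  skew : Gᵀ = -G
  self : ∀ u, fm G u u = 0

theorem Alt.isForm {G : Matrix ι ι F} (hG : Alt G) : IsForm G :=
  ⟨hG.det, -1, by ring, by rw [hG.skew, neg_one_smul]⟩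

/-- the adjoint -/
noncomputable def adj (G X : Matrix ι ι F) : Matrix ι ι F := G⁻¹ * Xᵀ * G

/-- the map `x ↦ fm x b • a` -/
def K (G : Matrix ι ι F) (a b : ι → F) : Matrix ι ι F := vecMulVec a (G *ᵥ b)

variable (G : Matrix ι ι F)

theorem fm_add_left (u u' v : ι → F) : fm G (u + u') v = fm G u v + fm G u' v := add_dotProduct _ _ _

theorem fm_add_right (u v v' : ι → F) : fm G u (v + v') = fm G u v + fm G u v' := by
  rw [fm, mulVec_add, dotProduct_add]; rfl

theorem fm_smul_left (c : F) (u v : ι → F) : fm G (c • u) v = c * fm G u v := smul_dotProduct _ _ _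

theorem fm_smul_right (c : F) (u v : ι → F) : fm G u (c • v) = c * fm G u v := by
  rw [fm, mulVec_smul, dotProduct_smul]; rfl

theorem fm_sub_left (u u' v : ι → F) : fm G (u - u') v = fm G u v - fm G u' v := sub_dotProduct _ _ _

theorem fm_sub_right (u v v' : ι → F) : fm G u (v - v') = fm G u v - fm G u v' := by
  rw [fm, mulVec_sub, dotProduct_sub]; rfl

theorem fm_zero_left (v : ι → F) : fm G 0 v = 0 := zero_dotProduct _

theorem fm_zero_right (u : ι → F) : fm G u 0 = 0 := by rw [fm, mulVec_zero, dotProduct_zero]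

theorem fm_neg_left (u v : ι → F) : fm G (-u) v = -fm G u v := neg_dotProduct _ _

theorem fm_neg_right (u v : ι → F) : fm G u (-v) = -fm G u v := by rw [fm, mulVec_neg, dotProduct_neg]; rfl

/-- `v ↦ fm v b` -/
def fmL (b : ι → F) : (ι → F) →ₗ[F] F where
  toFun v := fm G v b
  map_add' v v' := fm_add_left G v v' b
  map_smul' c v := fm_smul_left G c v b

theorem fmL_apply (b v : ι → F) : fmL G b v = fm G v b := rfl

theorem K_mulVec (a b x : ι → F) : K G a b *ᵥ x = fm G x b • a := by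
  rw [K, vecMulVec_mulVec]
  funext i
  simp [fm, dotProduct_comm]
  ring

theorem K_mul_K (a b c d : ι → F) : K G a b * K G c d = fm G c b • K G a d := by
  rw [K, K, vecMulVec_mul_vecMulVec, vecMulVec_smul]
  congr 1
  exact dotProduct_comm _ _

theorem mul_K (X : Matrix ι ι F) (a b : ι → F) : X * K G a b = K G (X *ᵥ a) b := mul_vecMulVec _ _ _

theorem K_add_left (a a' b : ι → F) : K G (a + a') b = K G a b + K G a' b := add_vecMulVec _ _ _

theorem K_add_right (a b b' : ι → F) : K G a (b + b') = K G a b + K G a b' := by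
  rw [K, mulVec_add, vecMulVec_add]; rfl

theorem K_smul_left (c : F) (a b : ι → F) : K G (c • a) b = c • K G a b := smul_vecMulVec _ _ _

theorem K_smul_right (c : F) (a b : ι → F) : K G a (c • b) = c • K G a b := by
  rw [K, mulVec_smul, vecMulVec_smul]; rfl

theorem K_zero_left (b : ι → F) : K G 0 b = 0 := by rw [K, zero_vecMulVec]

theorem K_zero_right (a : ι → F) : K G a 0 = 0 := by rw [K, mulVec_zero, vecMulVec_zero]

variable {G}

theorem IsForm.inv_mul (hG : IsForm G) : G⁻¹ * G = 1 := nonsing_inv_mul _ hG.det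

theorem IsForm.mul_inv (hG : IsForm G) : G * G⁻¹ = 1 := mul_nonsing_inv _ hG.det

theorem adj_one (hG : IsForm G) : adj G 1 = 1 := by rw [adj, transpose_one, mul_one, hG.inv_mul]

theorem adj_mul (hG : IsForm G) (X Y : Matrix ι ι F) : adj G (X * Y) = adj G Y * adj G X := by
  simp only [adj, transpose_mul, mul_assoc]
  rw [← mul_assoc G G⁻¹, hG.mul_inv, one_mul]

theorem adj_add (X Y : Matrix ι ι F) : adj G (X + Y) = adj G X + adj G Y := by
  simp only [adj, transpose_add, mul_add, add_mul]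

theorem adj_smul (c : F) (X : Matrix ι ι F) : adj G (c • X) = c • adj G X := by
  simp only [adj, transpose_smul, Matrix.mul_smul, Matrix.smul_mul]

theorem adj_neg (X : Matrix ι ι F) : adj G (-X) = -adj G X := by
  simp only [adj, transpose_neg, mul_neg, neg_mul]

theorem adj_sub (X Y : Matrix ι ι F) : adj G (X - Y) = adj G X - adj G Y := by
  rw [sub_eq_add_neg, adj_add, adj_neg, sub_eq_add_neg]

theorem adj_zero : adj G (0 : Matrix ι ι F) = 0 := by simp [adj]

theorem adj_adj (hG : IsForm G) (X : Matrix ι ι F) : adj G (adj G X) = X := by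
  obtain ⟨ε, hε, hs⟩ := hG.sign
  simp only [adj, transpose_mul, transpose_transpose, hs, Matrix.transpose_nonsing_inv]
  have h1 : (ε • G)⁻¹ = ε • G⁻¹ := inv_eq_right_inv (by
    rw [Matrix.smul_mul, Matrix.mul_smul, smul_smul, hε, hG.mul_inv, one_smul])
  rw [h1]
  simp only [Matrix.smul_mul, Matrix.mul_smul, smul_smul, hε, one_smul, mul_assoc, hG.inv_mul, mul_one]
  rw [← mul_assoc, hG.inv_mul, one_mul]

theorem fm_adj (hG : IsForm G) (X : Matrix ι ι F) (u v : ι → F) : fm G (X *ᵥ u) v = fm G u (adj G X *ᵥ v) := by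
  simp only [fm, adj, mulVec_mulVec]
  rw [← mul_assoc, ← mul_assoc, hG.mul_inv, one_mul, ← mulVec_mulVec, dotProduct_mulVec u Xᵀ, vecMul_transpose]

theorem fm_nondeg (hG : IsForm G) {u : ι → F} (hu : u ≠ 0) : ∃ v, fm G v u ≠ 0 := by
  by_contra! h
  apply hu
  have h1 : G *ᵥ u = 0 := funext fun i => by simpa [fm] using h (Pi.single i 1)
  have h2 := congrArg (G⁻¹ *ᵥ ·) h1
  simpa [mulVec_mulVec, hG.inv_mul] using h2

theorem Alt.fm_swap (hG : Alt G) (u v : ι → F) : fm G v u = -fm G u v := by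
  have h := hG.self (u + v)
  rw [fm_add_left, fm_add_right, fm_add_right, hG.self, hG.self] at h
  linear_combination h

theorem Alt.adj_K (hG : Alt G) (a b : ι → F) : adj G (K G a b) = -K G b a := by
  rw [adj, K, K, transpose_vecMulVec, mul_vecMulVec, vecMulVec_mul, mulVec_mulVec, hG.isForm.inv_mul, one_mulVec,
    ← mulVec_transpose, hG.skew, neg_mulVec, vecMulVec_neg]

theorem K_eq_zero (hG : IsForm G) {a b : ι → F} (h : K G a b = 0) : a = 0 ∨ b = 0 := by
  rw [or_iff_not_imp_right]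
  intro hb
  obtain ⟨x, hx⟩ := fm_nondeg hG hb
  have h1 := congrArg (· *ᵥ x) h
  simp only [K_mulVec, zero_mulVec, smul_eq_zero] at h1
  exact h1.resolve_left hx

/-! ### isometries -/

/-- the isometry group of a matrix form -/
def iso (G : Matrix ι ι F) : Subgroup (GL ι F) where
  carrier := {g | (g : Matrix ι ι F)ᵀ * G * g = G}
  mul_mem' {g h} hg hh := by
    show ((g * h : GL ι F) : Matrix ι ι F)ᵀ * G * ((g * h : GL ι F) : Matrix ι ι F) = G
    rw [Units.val_mul, transpose_mul, mul_assoc, mul_assoc, ← mul_assoc G, ← mul_assoc (g : Matrix ι ι F)ᵀ,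
      ← mul_assoc (g : Matrix ι ι F)ᵀ, show (g : Matrix ι ι F)ᵀ * G * g = G from hg, ← mul_assoc]
    exact hh
  one_mem' := by simp
  inv_mem' {g} hg := by
    show ((g⁻¹ : GL ι F) : Matrix ι ι F)ᵀ * G * ((g⁻¹ : GL ι F) : Matrix ι ι F) = G
    have h : (g : Matrix ι ι F)ᵀ * G * g = G := hg
    have h2 : ((g⁻¹ : GL ι F) : Matrix ι ι F)ᵀ * (g : Matrix ι ι F)ᵀ = 1 := by
      rw [← transpose_mul, ← Units.val_mul, mul_inv_cancel, Units.val_one, transpose_one]
    conv_lhs => rw [← h]
    simp only [mul_assoc]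
    rw [← Units.val_mul, mul_inv_cancel, Units.val_one, mul_one, ← mul_assoc, h2, one_mul]

theorem mem_iso {g : GL ι F} : g ∈ iso G ↔ (g : Matrix ι ι F)ᵀ * G * g = G := Iff.rfl

theorem mem_iso_fm {g : GL ι F} :
    g ∈ iso G ↔ ∀ u v, fm G ((g : Matrix ι ι F) *ᵥ u) ((g : Matrix ι ι F) *ᵥ v) = fm G u v := by
  have key : ∀ u v, fm G ((g : Matrix ι ι F) *ᵥ u) ((g : Matrix ι ι F) *ᵥ v) =
      u ⬝ᵥ ((g : Matrix ι ι F)ᵀ * G * (g : Matrix ι ι F)) *ᵥ v := fun u v => by
    rw [fm, ← mulVec_mulVec, ← mulVec_mulVec, dotProduct_mulVec u, vecMul_transpose]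
  refine ⟨fun h u v => by rw [key, mem_iso.1 h]; rfl, fun h => ?_⟩
  ext i j
  have := h (Pi.single i 1) (Pi.single j 1)
  rw [key] at this
  simpa [fm] using this

theorem adj_of_iso (hG : IsForm G) {g : GL ι F} (hg : g ∈ iso G) :
    adj G (g : Matrix ι ι F) = ((g⁻¹ : GL ι F) : Matrix ι ι F) := by
  have h : adj G (g : Matrix ι ι F) * (g : Matrix ι ι F) = 1 := by
    rw [adj, mul_assoc, mul_assoc, ← mul_assoc _ G, mem_iso.1 hg, hG.inv_mul]
  calc _ = adj G (g : Matrix ι ι F) * ((g : Matrix ι ι F) * ((g⁻¹ : GL ι F) : Matrix ι ι F)) := by simp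
    _ = _ := by rw [← mul_assoc, h, one_mul]

theorem Alt.conj_K (hG : Alt G) {g : GL ι F} (hg : g ∈ iso G) (a b : ι → F) :
    (g : Matrix ι ι F) * K G a b * ((g⁻¹ : GL ι F) : Matrix ι ι F) =
      K G ((g : Matrix ι ι F) *ᵥ a) ((g : Matrix ι ι F) *ᵥ b) := by
  rw [mul_K]
  refine Matrix.toLin'.injective (LinearMap.ext fun x => ?_)
  simp only [Matrix.toLin'_apply, K_mulVec, ← mulVec_mulVec]
  congr 1
  conv_rhs => rw [show x = (g : Matrix ι ι F) *ᵥ (((g⁻¹ : GL ι F) : Matrix ι ι F) *ᵥ x) by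
    rw [mulVec_mulVec, ← Units.val_mul, mul_inv_cancel, Units.val_one, one_mulVec]]
  rw [mem_iso_fm.1 hg]

/-! ### Kronecker products -/

variable {β : Type} [Fintype β] [DecidableEq β]

theorem neg_kron (X : Matrix ι ι F) (Y : Matrix β β F) : (-X) ⊗ₖ Y = -(X ⊗ₖ Y) := by
  ext; simp

theorem kron_neg (X : Matrix ι ι F) (Y : Matrix β β F) : X ⊗ₖ (-Y) = -(X ⊗ₖ Y) := by
  ext; simp

theorem kron_zero (X : Matrix ι ι F) : X ⊗ₖ (0 : Matrix β β F) = 0 := Matrix.kronecker_zero _

theorem kron_add (X : Matrix ι ι F) (Y Y' : Matrix β β F) : X ⊗ₖ (Y + Y') = X ⊗ₖ Y + X ⊗ₖ Y' :=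
  Matrix.kronecker_add _ _ _

theorem kron_smul (c : F) (X : Matrix ι ι F) (Y : Matrix β β F) : X ⊗ₖ (c • Y) = c • (X ⊗ₖ Y) :=
  Matrix.kronecker_smul _ _ _

theorem kron_isForm {GB : Matrix β β F} (hG : IsForm G) (hB : IsForm GB) : IsForm (G ⊗ₖ GB) := by
  obtain ⟨e, he, hs⟩ := hG.sign
  obtain ⟨e', he', hs'⟩ := hB.sign
  refine ⟨?_, e * e', by linear_combination e' * e' * he + he', ?_⟩
  · rw [Matrix.det_kronecker]
    exact (hG.det.pow _).mul (hB.det.pow _)
  · rw [← Matrix.kroneckerMap_transpose, hs, hs', Matrix.smul_kronecker, Matrix.kronecker_smul, smul_smul]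

theorem adj_kron {GB : Matrix β β F} (hG : IsForm G) (hB : IsForm GB) (X : Matrix ι ι F) (Y : Matrix β β F) :
    adj (G ⊗ₖ GB) (X ⊗ₖ Y) = adj G X ⊗ₖ adj GB Y := by
  rw [adj, adj, adj, Matrix.inv_kronecker, ← Matrix.kroneckerMap_transpose, ← Matrix.mul_kronecker_mul,
    ← Matrix.mul_kronecker_mul]

/-- conjugating `K u u ⊗ 1` by an isometry moving `u ⊗ 1` by `e ⊗ D` -/
theorem conj_root {GB : Matrix β β F} (hG : Alt G) (hB : IsForm GB) {g : GL (ι × β) F}
    (hg : g ∈ iso (G ⊗ₖ GB)) {u e z z' : ι → F} (hz : fm G z' z = 1) {D : Matrix β β F}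
    (h : ∀ y, (g : Matrix (ι × β) (ι × β) F) * (K G u y ⊗ₖ 1) = K G u y ⊗ₖ 1 + K G e y ⊗ₖ D) :
    (g : Matrix (ι × β) (ι × β) F) * (K G u u ⊗ₖ 1) * ((g⁻¹ : GL (ι × β) F) : Matrix (ι × β) (ι × β) F) =
      K G u u ⊗ₖ 1 + K G u e ⊗ₖ adj GB D + (K G e u ⊗ₖ D + K G e e ⊗ₖ (D * adj GB D)) := by
  have hF := kron_isForm hG.isForm hB
  have h' : ∀ y, (K G y u ⊗ₖ 1) * ((g⁻¹ : GL (ι × β) F) : Matrix (ι × β) (ι × β) F) =
      K G y u ⊗ₖ (1 : Matrix β β F) + K G y e ⊗ₖ adj GB D := by
    intro y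
    have h1 := congrArg (adj (G ⊗ₖ GB)) (h y)
    rw [adj_mul hF, adj_of_iso hF hg, adj_add, adj_kron hG.isForm hB, adj_kron hG.isForm hB, hG.adj_K, hG.adj_K,
      adj_one hB, neg_kron, neg_kron, Matrix.neg_mul, ← neg_add, neg_inj] at h1
    exact h1
  have h0 : K G u u ⊗ₖ (1 : Matrix β β F) = (K G u z ⊗ₖ 1) * (K G z' u ⊗ₖ 1) := by
    rw [← Matrix.mul_kronecker_mul, K_mul_K, hz, one_smul, Matrix.mul_one]
  conv_lhs => rw [h0, ← mul_assoc, h, mul_assoc, h', add_mul, mul_add, mul_add]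
  simp only [← Matrix.mul_kronecker_mul, K_mul_K, hz, one_smul, Matrix.one_mul, Matrix.mul_one]

/-- the Kronecker product as a homomorphism -/
def kr : GL ι F × GL β F →* GL (ι × β) F where
  toFun p :=
    { val := (p.1 : Matrix ι ι F) ⊗ₖ (p.2 : Matrix β β F)
      inv := ((p.1⁻¹ : GL ι F) : Matrix ι ι F) ⊗ₖ ((p.2⁻¹ : GL β F) : Matrix β β F)
      val_inv := by rw [← Matrix.mul_kronecker_mul, ← Units.val_mul, ← Units.val_mul, mul_inv_cancel, mul_inv_cancel,
        Units.val_one, Units.val_one, Matrix.one_kronecker_one]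
      inv_val := by rw [← Matrix.mul_kronecker_mul, ← Units.val_mul, ← Units.val_mul, inv_mul_cancel, inv_mul_cancel,
        Units.val_one, Units.val_one, Matrix.one_kronecker_one] }
  map_one' := Units.ext (by simp)
  map_mul' p q := Units.ext (by simp [Matrix.mul_kronecker_mul])

@[simp] theorem kr_val (u : GL ι F) (w : GL β F) :
    (kr (u, w) : Matrix (ι × β) (ι × β) F) = (u : Matrix ι ι F) ⊗ₖ (w : Matrix β β F) := rfl

theorem kr_iso {GB : Matrix β β F} {u : GL ι F} {w : GL β F} {a b : F} (hab : a * b = 1)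
    (hu : (u : Matrix ι ι F)ᵀ * G * u = a • G) (hw : (w : Matrix β β F)ᵀ * GB * w = b • GB) :
    kr (u, w) ∈ iso (G ⊗ₖ GB) := by
  rw [mem_iso, kr_val, ← Matrix.kroneckerMap_transpose, ← Matrix.mul_kronecker_mul, ← Matrix.mul_kronecker_mul,
    hu, hw, Matrix.smul_kronecker, Matrix.kronecker_smul, smul_smul, hab, one_smul]

/-- a Kronecker product of matrices with non-zero factors determines them up to scalars -/
theorem kron_eq_kron {A A' : Matrix ι ι F} {B B' : Matrix β β F} (h : A ⊗ₖ B = A' ⊗ₖ B') (hA : A' ≠ 0)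
    (hB : B ≠ 0) : ∃ c : F, A = c • A' ∧ B' = c • B := by
  obtain ⟨x, y, hxy⟩ : ∃ x y, B x y ≠ 0 := by
    by_contra! hc
    exact hB (Matrix.ext hc)
  have e : ∀ i j z w, A i j * B z w = A' i j * B' z w := fun i j z w => congrFun (congrFun h (i, z)) (j, w)
  have hA1 : A = (B' x y / B x y) • A' := by
    ext i j
    rw [Matrix.smul_apply, smul_eq_mul, div_mul_eq_mul_div, eq_div_iff hxy]
    linear_combination e i j x y
  refine ⟨B' x y / B x y, hA1, ?_⟩
  obtain ⟨i, j, hij⟩ : ∃ i j, A' i j ≠ 0 := by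
    by_contra! hc
    exact hA (Matrix.ext hc)
  ext z w
  refine mul_left_cancel₀ hij ?_
  rw [← e, hA1, Matrix.smul_apply, Matrix.smul_apply, smul_eq_mul, smul_eq_mul]
  ring

theorem kron_injective_left {A A' : Matrix ι ι F} {B : Matrix β β F} (hB : B ≠ 0) (h : A ⊗ₖ B = A' ⊗ₖ B) :
    A = A' := by
  obtain ⟨x, y, hxy⟩ : ∃ x y, B x y ≠ 0 := by
    by_contra! hc
    exact hB (Matrix.ext hc)
  ext i j
  exact mul_right_cancel₀ hxy (congrFun (congrFun h (i, x)) (j, y))

theorem kron_injective_right {A : Matrix ι ι F} {B B' : Matrix β β F} (hA : A ≠ 0) (h : A ⊗ₖ B = A ⊗ₖ B') :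
    B = B' := by
  obtain ⟨i, j, hij⟩ : ∃ i j, A i j ≠ 0 := by
    by_contra! hc
    exact hA (Matrix.ext hc)
  ext x y
  exact mul_left_cancel₀ hij (congrFun (congrFun h (i, x)) (j, y))

/-! ### positions -/

variable {κ σ : Type} [Fintype κ] [DecidableEq κ] [Fintype σ] [DecidableEq σ]

/-- the tensor product of one matrix for every position -/
def ten : (κ → Matrix σ σ F) →* Matrix (κ → σ) (κ → σ) F where
  toFun A := Matrix.of fun x y => ∏ i, A i (x i) (y i)
  map_one' := by
    ext x y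
    simp only [Pi.one_apply, Matrix.one_apply, Matrix.of_apply]
    by_cases h : x = y
    · subst h; simp
    · obtain ⟨i, hi⟩ := Function.ne_iff.1 h
      rw [if_neg h, Finset.prod_eq_zero (Finset.mem_univ i) (if_neg hi)]
  map_mul' A B := by
    ext x y
    simp only [Pi.mul_apply, Matrix.mul_apply, Matrix.of_apply, ← Finset.prod_mul_distrib, Fintype.prod_sum]

theorem ten_apply (A : κ → Matrix σ σ F) (x y : κ → σ) : ten A x y = ∏ i, A i (x i) (y i) := rfl

theorem ten_transpose (A : κ → Matrix σ σ F) : (ten A)ᵀ = ten fun i => (A i)ᵀ := rfl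

theorem ten_smul (A : κ → Matrix σ σ F) (i : κ) (c : F) (X : Matrix σ σ F) :
    ten (Function.update A i (c • X)) = c • ten (Function.update A i X) := by
  ext x y
  simp only [ten_apply, Matrix.smul_apply, smul_eq_mul]
  rw [← Finset.mul_prod_erase _ _ (Finset.mem_univ i),
    ← Finset.mul_prod_erase _ (fun j => Function.update A i X j (x j) (y j)) (Finset.mem_univ i)]
  simp only [Function.update_self, Matrix.smul_apply, smul_eq_mul, mul_assoc]
  congr 1
  congr 1
  refine Finset.prod_congr rfl fun j hj => ?_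
  rw [Function.update_of_ne (Finset.ne_of_mem_erase hj), Function.update_of_ne (Finset.ne_of_mem_erase hj)]

theorem ten_update_add (A : κ → Matrix σ σ F) (i : κ) (X Y : Matrix σ σ F) :
    ten (Function.update A i (X + Y)) = ten (Function.update A i X) + ten (Function.update A i Y) := by
  ext x y
  simp only [ten_apply, Matrix.add_apply]
  rw [← Finset.mul_prod_erase _ _ (Finset.mem_univ i),
    ← Finset.mul_prod_erase _ (fun j => Function.update A i X j (x j) (y j)) (Finset.mem_univ i),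
    ← Finset.mul_prod_erase _ (fun j => Function.update A i Y j (x j) (y j)) (Finset.mem_univ i)]
  simp only [Function.update_self, Matrix.add_apply, add_mul]
  have hX : ∀ Z : Matrix σ σ F, ∏ j ∈ Finset.univ.erase i, Function.update A i Z j (x j) (y j) =
      ∏ j ∈ Finset.univ.erase i, A j (x j) (y j) := fun Z =>
    Finset.prod_congr rfl fun j hj => by rw [Function.update_of_ne (Finset.ne_of_mem_erase hj)]
  rw [hX, hX, hX]

theorem ten_eq_zero (A : κ → Matrix σ σ F) {i : κ} (h : A i = 0) : ten A = 0 := by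
  ext x y
  exact Finset.prod_eq_zero (Finset.mem_univ i) (by rw [h]; rfl)

theorem ten_ne_zero {A : κ → Matrix σ σ F} (h : ∀ i, A i ≠ 0) : ten A ≠ 0 := by
  have h' : ∀ i, ∃ a b, A i a b ≠ 0 := fun i => by
    by_contra! hc
    exact h i (Matrix.ext hc)
  choose a b hab using h'
  exact fun h0 => Finset.prod_ne_zero_iff.2 (fun i _ => hab i) (congrFun (congrFun h0 a) b)

/-- the tensor product of invertible matrices -/
def tenGL : (κ → GL σ F) →* GL (κ → σ) F :=
  (Units.map ten).comp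
    { toFun := fun s =>
        { val := fun i => (s i : Matrix σ σ F)
          inv := fun i => ((s i)⁻¹ : GL σ F)
          val_inv := funext fun i => (s i).mul_inv
          inv_val := funext fun i => (s i).inv_mul }
      map_one' := Units.ext (funext fun _ => rfl)
      map_mul' := fun _ _ => Units.ext (funext fun _ => rfl) }

theorem tenGL_val (L : κ → GL σ F) :
    (tenGL L : Matrix (κ → σ) (κ → σ) F) = ten fun i => (L i : Matrix σ σ F) := rfl

/-- the matrix permuting the positions -/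
def pm (π : Equiv.Perm κ) : Matrix (κ → σ) (κ → σ) F := Matrix.of fun x y => if y = x ∘ π then 1 else 0

theorem pm_apply (π : Equiv.Perm κ) (x y : κ → σ) : (pm π : Matrix (κ → σ) (κ → σ) F) x y =
    if y = x ∘ π then 1 else 0 := rfl

theorem pm_one : (pm 1 : Matrix (κ → σ) (κ → σ) F) = 1 := by
  ext x y
  simp [pm_apply, Matrix.one_apply, eq_comm]

theorem pm_mul (π τ : Equiv.Perm κ) : (pm π : Matrix (κ → σ) (κ → σ) F) * pm τ = pm (π * τ) := by
  ext x y
  simp only [Matrix.mul_apply, pm_apply, ite_mul, one_mul, zero_mul, Finset.sum_ite_eq', Finset.mem_univ, if_true,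
    Equiv.Perm.coe_mul, Function.comp_assoc]
  congr

/-- the permutation of the positions as an invertible matrix -/
def pmGL : Equiv.Perm κ →* GL (κ → σ) F where
  toFun π := ⟨pm π, pm π⁻¹, by rw [pm_mul, mul_inv_cancel, pm_one], by rw [pm_mul, inv_mul_cancel, pm_one]⟩
  map_one' := Units.ext pm_one
  map_mul' π τ := Units.ext (pm_mul π τ).symm

theorem pmGL_val (π : Equiv.Perm κ) : ((pmGL π : GL (κ → σ) F) : Matrix (κ → σ) (κ → σ) F) = pm π := rfl

theorem pm_mul_ten (π : Equiv.Perm κ) (A : κ → Matrix σ σ F) :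
    pm π * ten A = ten (A ∘ π.symm) * pm π := by
  ext x y
  have h1 : ∀ z : κ → σ, y = z ∘ π ↔ z = y ∘ π.symm := fun z => by
    constructor <;> rintro rfl <;> funext j <;> simp
  simp only [Matrix.mul_apply, pm_apply, ite_mul, one_mul, zero_mul, Finset.sum_ite_eq', Finset.mem_univ, if_true,
    mul_ite, mul_one, mul_zero, h1]
  rw [ten_apply, ten_apply]
  exact Fintype.prod_equiv π _ _ fun i => by simp

theorem pmGL_mul_tenGL (π : Equiv.Perm κ) (L : κ → GL σ F) :
    (pmGL π : GL (κ → σ) F) * tenGL L = tenGL (L ∘ π.symm) * pmGL π :=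
  Units.ext (by rw [Units.val_mul, Units.val_mul, pmGL_val, tenGL_val, tenGL_val]; exact pm_mul_ten π _)

theorem pm_conj_ten (π : Equiv.Perm κ) (A : κ → Matrix σ σ F) :
    pm π * ten A * pm π⁻¹ = ten (A ∘ π.symm) := by
  rw [pm_mul_ten, Matrix.mul_assoc, pm_mul, mul_inv_cancel, pm_one, Matrix.mul_one]

variable (F κ σ) in
/-- the wreath group -/
def Wr : Subgroup (GL (κ → σ) F) where
  carrier := {g | ∃ (L : κ → GL σ F) (π : Equiv.Perm κ), g = tenGL L * pmGL π}
  one_mem' := ⟨1, 1, by rw [map_one, map_one, one_mul]⟩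
  mul_mem' := by
    rintro _ _ ⟨L, π, rfl⟩ ⟨L', π', rfl⟩
    exact ⟨L * (L' ∘ π.symm), π * π', by rw [map_mul, map_mul, ← mul_assoc, mul_assoc (tenGL L), pmGL_mul_tenGL,
      ← mul_assoc, ← mul_assoc]⟩
  inv_mem' := by
    rintro _ ⟨L, π, rfl⟩
    exact ⟨L⁻¹ ∘ π, π⁻¹, by rw [_root_.mul_inv_rev, ← map_inv, ← map_inv, pmGL_mul_tenGL]; rfl⟩

theorem tenGL_mem_Wr (L : κ → GL σ F) : tenGL L ∈ Wr F κ σ := ⟨L, 1, by rw [map_one, mul_one]⟩

theorem pmGL_mem_Wr (π : Equiv.Perm κ) : pmGL π ∈ Wr F κ σ := ⟨1, π, by rw [map_one, one_mul]⟩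

/-! ### splitting off a position -/

/-- the other positions -/
abbrev oth (i : κ) : Type := {j // j ≠ i}

variable (F σ) in
/-- splitting off the position `i`, on matrices -/
def splM (i : κ) : Matrix (σ × (oth i → σ)) (σ × (oth i → σ)) F ≃ₐ[F] Matrix (κ → σ) (κ → σ) F :=
  Matrix.reindexAlgEquiv F F (Equiv.funSplitAt i σ).symm

variable (F σ) in
/-- splitting off the position `i`, on invertible matrices -/
def spl (i : κ) : GL (σ × (oth i → σ)) F ≃* GL (κ → σ) F := Units.mapEquiv (splM F σ i).toMulEquiv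

theorem spl_val (i : κ) (g : GL (σ × (oth i → σ)) F) :
    (spl F σ i g : Matrix (κ → σ) (κ → σ) F) = splM F σ i (g : Matrix _ _ F) := rfl

/-- a family from the value at `i` and the values elsewhere -/
def put {α : Type*} (i : κ) (X : α) (R : oth i → α) : κ → α := fun j => if h : j = i then X else R ⟨j, h⟩

@[simp] theorem put_self {α : Type*} (i : κ) (X : α) (R : oth i → α) : put i X R i = X := dif_pos rfl

@[simp] theorem put_oth {α : Type*} (i : κ) (X : α) (R : oth i → α) (j : oth i) : put i X R j = R j :=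
  dif_neg j.2

theorem put_restrict {α : Type*} (i : κ) (A : κ → α) : put i (A i) (fun j : oth i => A j) = A := by
  funext j
  by_cases h : j = i
  · subst h; simp
  · simp [put, h]

theorem splM_kron (i : κ) (X : Matrix σ σ F) (R : oth i → Matrix σ σ F) :
    splM F σ i (X ⊗ₖ ten R) = ten (put i X R) := by
  ext x y
  simp only [splM, Matrix.coe_reindexAlgEquiv, Matrix.reindex_apply, Equiv.symm_symm, Matrix.submatrix_apply,
    Equiv.funSplitAt, Equiv.piSplitAt_apply, Matrix.kroneckerMap_apply, ten_apply]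
  rw [← Finset.mul_prod_erase _ _ (Finset.mem_univ i), put_self]
  congr 1
  rw [Finset.prod_subtype (Finset.univ.erase i) (p := fun j => j ≠ i) (by simp)]
  exact Fintype.prod_congr _ _ fun j => by rw [put_oth]

theorem ten_eq_splM (i : κ) (A : κ → Matrix σ σ F) :
    ten A = splM F σ i (A i ⊗ₖ ten fun j : oth i => A j) := by
  rw [splM_kron, put_restrict]

theorem spl_kr (i : κ) (x : GL σ F) (R : oth i → GL σ F) :
    spl F σ i (kr (x, tenGL R)) = tenGL (put i x R) := by
  refine Units.ext ?_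
  rw [spl_val, kr_val, tenGL_val, splM_kron, tenGL_val]
  congr 1
  funext j
  by_cases h : j = i
  · subst h; simp
  · simp [put, h]

/-- a permutation of the other positions, extended -/
def extP (i : κ) (π : Equiv.Perm (oth i)) : Equiv.Perm κ := π.ofSubtype

theorem splM_one_pm (i : κ) (π : Equiv.Perm (oth i)) :
    splM F σ i ((1 : Matrix σ σ F) ⊗ₖ pm π) = pm (extP i π) := by
  ext x y
  simp only [splM, Matrix.coe_reindexAlgEquiv, Matrix.reindex_apply, Equiv.symm_symm, Matrix.submatrix_apply,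
    Equiv.funSplitAt, Equiv.piSplitAt_apply, Matrix.kroneckerMap_apply, pm_apply, Matrix.one_apply]
  have hiff : y = x ∘ (extP i π) ↔ x i = y i ∧ (fun j : oth i => y j) = (fun j : oth i => x j) ∘ π := by
    constructor
    · rintro rfl
      refine ⟨?_, funext fun j => ?_⟩
      · show x i = x (π.ofSubtype i)
        rw [Equiv.Perm.ofSubtype_apply_of_not_mem _ (by simp)]
      · show x (π.ofSubtype j) = _
        rw [Equiv.Perm.ofSubtype_apply_coe]
        rfl
    · rintro ⟨h1, h2⟩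
      funext j
      by_cases hj : j = i
      · subst hj
        show _ = x (π.ofSubtype j)
        rw [Equiv.Perm.ofSubtype_apply_of_not_mem _ (by simp), h1]
      · show _ = x (π.ofSubtype (⟨j, hj⟩ : oth i))
        rw [Equiv.Perm.ofSubtype_apply_coe]
        exact congrFun h2 ⟨j, hj⟩
  simp only [hiff, ite_and]
  split_ifs <;> simp

end Cfsg.Agent.MaxCl.Pow
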