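/-
The symplectic group of one tensor factor, given by an alternating matrix: root elements, Siegel elements, torus
elements, moves.
-/
import Cfsg.Agent.Lib.MaxCl.PowerCore
import Cfsg.Agent.Lib.MaxCl.Symplectic

set_option autoImplicit false
set_option linter.unusedSectionVars false

namespace Cfsg.Agent.MaxCl.Pow

open Matrix
open scoped MatrixGroups Kronecker

variable {ι : Type} [Fintype ι] [DecidableEq ι] {F : Type*} [Field F] {G : Matrix ι ι F}

theorem fm_isSymplectic (hG : Alt G) : Cfsg.Geo.IsSymplecticForm (fm G) := by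
  refine ⟨⟨fm_add_left G, fm_smul_left G, fun v x y => fm_add_right G v x y, fun c v x => fm_smul_right G c v x⟩,
    fun v w => hG.fm_swap w v, hG.self, fun v hv => ?_⟩
  obtain ⟨x, hx⟩ := fm_nondeg hG.isForm hv
  exact ⟨⟨x, hx⟩, x, by rw [hG.fm_swap x v]; exact neg_ne_zero.2 hx⟩

theorem K_add_self (u v : ι → F) : K G (u + v) (u + v) = K G u u + K G u v + (K G v u + K G v v) := by
  rw [K_add_left, K_add_right, K_add_right]

theorem K_smul_self (c : F) (u : ι → F) : K G (c • u) (c • u) = (c * c) • K G u u := by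
  rw [K_smul_left, K_smul_right, smul_smul]

theorem Alt.K_sq (hG : Alt G) (u : ι → F) : K G u u * K G u u = 0 := by
  rw [K_mul_K, hG.self, zero_smul]

/-- the root element `1 + c K u u` -/
def rt (hG : Alt G) (u : ι → F) (c : F) : GL ι F where
  val := 1 + c • K G u u
  inv := 1 + (-c) • K G u u
  val_inv := by
    simp only [add_mul, mul_add, Matrix.one_mul, Matrix.mul_one, Matrix.smul_mul, Matrix.mul_smul, hG.K_sq,
      smul_zero, add_zero]
    module
  inv_val := by
    simp only [add_mul, mul_add, Matrix.one_mul, Matrix.mul_one, Matrix.smul_mul, Matrix.mul_smul, hG.K_sq,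
      smul_zero, add_zero]
    module

variable (hG : Alt G)
include hG

theorem rt_val (u : ι → F) (c : F) : (rt hG u c : Matrix ι ι F) = 1 + c • K G u u := rfl

theorem rt_mulVec (u x : ι → F) (c : F) :
    (rt hG u c : Matrix ι ι F) *ᵥ x = x + (c * fm G x u) • u := by
  rw [rt_val, add_mulVec, one_mulVec, smul_mulVec, K_mulVec, smul_smul]

theorem rt_eq_stv (u : ι → F) (c : F) : rt hG u c = stv (fm_isSymplectic hG) u c :=
  gl_ext fun x => by rw [act_stv, act_apply, rt_mulVec]

theorem rt_mem_iso (u : ι → F) (c : F) : rt hG u c ∈ iso G := by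
  rw [mem_iso_fm]
  intro x y
  simp only [rt_mulVec, fm_add_left, fm_add_right, fm_smul_left, fm_smul_right, hG.self, hG.fm_swap y u]
  ring

theorem rt_inv (u : ι → F) (c : F) : (rt hG u c)⁻¹ = rt hG u (-c) := Units.ext rfl

theorem rt_add (u : ι → F) (c d : F) : rt hG u c * rt hG u d = rt hG u (c + d) := Units.ext (by
  simp only [Units.val_mul, rt_val, add_mul, mul_add, Matrix.one_mul, Matrix.mul_one, Matrix.smul_mul,
    Matrix.mul_smul, hG.K_sq, smul_zero, add_zero, add_smul]
  abel)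

theorem iso_eq_isoGroup : iso G = isoGroup (fm G) := by
  ext g
  rw [mem_isoGroup, mem_iso_fm]
  simp only [act_apply]

/-- the root elements generate the isometry group -/
theorem iso_le_of_roots {M : Subgroup (GL ι F)} (h : ∀ u c, rt hG u c ∈ M) : iso G ≤ M := by
  rw [iso_eq_isoGroup hG]
  exact isoGroup_le_of_full (fm_isSymplectic hG) M fun u c => by rw [← rt_eq_stv hG]; exact h u c

theorem exists_partner {a : ι → F} (ha : a ≠ 0) : ∃ b, fm G a b = 1 := by
  obtain ⟨x, hx⟩ := fm_nondeg hG.isForm ha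
  have hx' : fm G a x ≠ 0 := by rw [hG.fm_swap x a]; exact neg_ne_zero.2 hx
  exact ⟨(fm G a x)⁻¹ • x, by rw [fm_smul_right, inv_mul_cancel₀ hx']⟩

theorem exists_perp_dual {a c : ι → F} (h : c ∉ Submodule.span F {a}) : ∃ z, fm G a z = 0 ∧ fm G c z = 1 := by
  obtain ⟨φ, hφ, hφc⟩ := exists_dual _ h
  obtain ⟨z, hz⟩ := exists_repr (fm_isSymplectic hG) φ
  exact ⟨z, by rw [← hz]; exact hφ a (Submodule.mem_span_singleton_self a), by rw [← hz, hφc]⟩

/-- the Siegel element of `a` and `z` -/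
def sie (a z : ι → F) : GL ι F := rt hG (a + z) 1 * rt hG a (-1) * rt hG z (-1)

theorem sie_mem_iso (a z : ι → F) : sie hG a z ∈ iso G :=
  mul_mem (mul_mem (rt_mem_iso hG _ _) (rt_mem_iso hG _ _)) (rt_mem_iso hG _ _)

theorem sie_val {a z : ι → F} (h : fm G a z = 0) :
    (sie hG a z : Matrix ι ι F) = 1 + K G a z + K G z a := by
  have h' : fm G z a = 0 := by rw [hG.fm_swap a z, h, neg_zero]
  simp only [sie, Units.val_mul, rt_val, K_add_self]
  simp only [add_mul, mul_add, Matrix.one_mul, Matrix.mul_one, Matrix.smul_mul, Matrix.mul_smul, K_mul_K, h, h',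
    hG.self, zero_smul, smul_zero, add_zero]
  module

theorem sie_mulVec {a z : ι → F} (h : fm G a z = 0) (x : ι → F) :
    (sie hG a z : Matrix ι ι F) *ᵥ x = x + fm G x z • a + fm G x a • z := by
  rw [sie_val hG h, add_mulVec, add_mulVec, one_mulVec, K_mulVec, K_mulVec]

/-- an isometry fixing `a` and shifting an independent vector `c` by `a` -/
theorem exists_shift {a c : ι → F} (h : c ∉ Submodule.span F {a}) :
    ∃ g ∈ iso G, (g : Matrix ι ι F) *ᵥ a = a ∧ (g : Matrix ι ι F) *ᵥ c = c + a := by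
  by_cases hac : fm G c a = 0
  · obtain ⟨z, h1, h2⟩ := exists_perp_dual hG h
    refine ⟨sie hG a z, sie_mem_iso hG a z, ?_, ?_⟩
    · rw [sie_mulVec hG h1, h1, hG.self, zero_smul, zero_smul, add_zero, add_zero]
    · rw [sie_mulVec hG h1, h2, hac, one_smul, zero_smul, add_zero]
  · refine ⟨rt hG a (fm G c a)⁻¹, rt_mem_iso hG _ _, ?_, ?_⟩
    · rw [rt_mulVec, hG.self, mul_zero, zero_smul, add_zero]
    · rw [rt_mulVec, inv_mul_cancel₀ hac, one_smul]

/-- isometries are transitive on non-zero vectors -/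
theorem exists_trans {u v : ι → F} (hu : u ≠ 0) (hv : v ≠ 0) :
    ∃ g ∈ iso G, (g : Matrix ι ι F) *ᵥ u = v := by
  have step : ∀ x y, fm G x y ≠ 0 → ∃ g ∈ iso G, (g : Matrix ι ι F) *ᵥ x = y := fun x y hxy => by
    refine ⟨rt hG (y - x) (fm G x y)⁻¹, rt_mem_iso hG _ _, ?_⟩
    rw [rt_mulVec, fm_sub_right, hG.self, sub_zero, inv_mul_cancel₀ hxy, one_smul, add_sub_cancel]
  obtain ⟨z, h1, h2⟩ := exists_f_ne_two (fm_isSymplectic hG) hu hv
  obtain ⟨g, hg, hgu⟩ := step u z (by rw [hG.fm_swap z u]; exact neg_ne_zero.2 h1)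
  obtain ⟨g', hg', hgz⟩ := step z v h2
  exact ⟨g' * g, mul_mem hg' hg, by rw [Units.val_mul, ← mulVec_mulVec, hgu, hgz]⟩

omit hG in
/-- the torus element of a hyperbolic pair -/
theorem exists_tor (hG : Alt G) {e f : ι → F} (hef : fm G e f = 1) {l : F} (hl : l ≠ 0) :
    ∃ g ∈ iso G, (g : Matrix ι ι F) *ᵥ e = l • e ∧ (g : Matrix ι ι F) *ᵥ f = l⁻¹ • f ∧
      ∀ x, fm G x e = 0 → fm G x f = 0 → (g : Matrix ι ι F) *ᵥ x = x := by
  have hfe : fm G f e = -1 := by rw [hG.fm_swap e f, hef]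
  let T : F → Matrix ι ι F := fun l => 1 + (l - 1) • K G e f + (1 - l⁻¹) • K G f e
  have hT : ∀ l x, T l *ᵥ x = x + ((l - 1) * fm G x f) • e + ((1 - l⁻¹) * fm G x e) • f := fun l x => by
    simp only [T, add_mulVec, one_mulVec, smul_mulVec, K_mulVec, smul_smul]
  have hTT : ∀ l : F, l ≠ 0 → T l * T l⁻¹ = 1 := fun l hl => by
    simp only [T, add_mul, mul_add, Matrix.one_mul, Matrix.mul_one, Matrix.smul_mul, Matrix.mul_smul, K_mul_K, hef,
      hfe, hG.self, zero_smul, smul_zero, add_zero, zero_add, one_smul, inv_inv, smul_smul, mul_neg, mul_one, neg_smul,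
      smul_neg]
    have h1 : l * l⁻¹ = 1 := mul_inv_cancel₀ hl
    match_scalars <;> first
      | ring1
      | linear_combination h1
      | linear_combination -h1
  refine ⟨⟨T l, T l⁻¹, hTT l hl, by simpa using hTT l⁻¹ (inv_ne_zero hl)⟩, ?_, ?_, ?_, fun x h1 h2 => ?_⟩
  · rw [mem_iso_fm]
    intro x y
    simp only [hT, fm_add_left, fm_add_right, fm_smul_left, fm_smul_right, hG.self, hef, hfe, hG.fm_swap y e,
      hG.fm_swap y f]
    field_simp
    ring
  · show T l *ᵥ e = _
    rw [hT, hef, hG.self, mul_zero, zero_smul, mul_one, add_zero, sub_smul, one_smul, add_sub_cancel]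
  · show T l *ᵥ f = _
    rw [hT, hfe, hG.self, mul_zero, zero_smul, add_zero]
    module
  · show T l *ᵥ x = x
    rw [hT, h1, h2, mul_zero, mul_zero, zero_smul, zero_smul, add_zero, add_zero]

/-- the part of `x` orthogonal to a hyperbolic pair -/
theorem perp_part {e f : ι → F} (hef : fm G e f = 1) (x : ι → F) :
    fm G (x - fm G x f • e + fm G x e • f) e = 0 ∧ fm G (x - fm G x f • e + fm G x e • f) f = 0 := by
  have hfe : fm G f e = -1 := by rw [hG.fm_swap e f, hef]
  simp [fm_add_left, fm_sub_left, fm_smul_left, hG.self, hef, hfe]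

/-- with three or more dimensions there is a non-zero vector orthogonal to a pair -/
theorem exists_perp_pair (h3 : 3 ≤ Fintype.card ι) (e f : ι → F) :
    ∃ u, u ≠ 0 ∧ fm G u e = 0 ∧ fm G u f = 0 := by
  let φ : (ι → F) →ₗ[F] F × F := (fmL G e).prod (fmL G f)
  obtain ⟨u, hu, hu0⟩ := Submodule.exists_mem_ne_zero_of_ne_bot (p := LinearMap.ker φ) fun h => by
    have h1 := LinearMap.finrank_range_add_finrank_ker φ
    rw [h, finrank_bot, add_zero, Module.finrank_fintype_fun_eq_card] at h1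
    have h2 := (Submodule.finrank_le (LinearMap.range φ))
    rw [Module.finrank_prod, Module.finrank_self] at h2
    omega
  have := LinearMap.mem_ker.1 hu
  exact ⟨u, hu0, congrArg Prod.fst this, congrArg Prod.snd this⟩

/-- a non-zero vector orthogonal to a pair has a partner orthogonal to it -/
theorem exists_partner_perp {e f u : ι → F} (hef : fm G e f = 1) (hu : u ≠ 0) (hue : fm G u e = 0)
    (huf : fm G u f = 0) : ∃ v, fm G u v = 1 ∧ fm G v e = 0 ∧ fm G v f = 0 := by
  obtain ⟨v, hv⟩ := exists_partner hG hu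
  refine ⟨_, ?_, perp_part hG hef v⟩
  rw [fm_add_right, fm_sub_right, fm_smul_right, fm_smul_right, hv, hue, huf]
  ring

/-- with three or more dimensions a vector has an independent orthogonal vector -/
theorem exists_perp_indep (h3 : 3 ≤ Fintype.card ι) (a : ι → F) (ha : a ≠ 0) :
    ∃ b, fm G b a = 0 ∧ b ∉ Submodule.span F {a} := by
  obtain ⟨f, hf⟩ := exists_partner hG ha
  obtain ⟨u, hu, hua, huf⟩ := exists_perp_pair hG h3 a f
  refine ⟨u, hua, fun h => hu ?_⟩
  obtain ⟨c, rfl⟩ := Submodule.mem_span_singleton.1 h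
  rw [fm_smul_left, hf, mul_one] at huf
  rw [huf, zero_smul]

omit hG in
/-- a matrix mapping every vector to a multiple of itself is scalar -/
theorem scalar_of_eigen {X : Matrix ι ι F} (h : ∀ v, ∃ c : F, X *ᵥ v = c • v) : ∃ c : F, X = c • 1 := by
  cases isEmpty_or_nonempty ι
  · exact ⟨0, Matrix.ext fun i => isEmptyElim i⟩
  obtain ⟨i₀⟩ := ‹Nonempty ι›
  obtain ⟨c, hc⟩ := h (Pi.single i₀ 1)
  refine ⟨c, Matrix.toLin'.injective ((Pi.basisFun F ι).ext fun i => ?_)⟩
  simp only [Pi.basisFun_apply, Matrix.toLin'_apply, smul_mulVec, one_mulVec]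
  by_cases hi : i = i₀
  · rw [hi, hc]
  obtain ⟨a, ha⟩ := h (Pi.single i 1)
  obtain ⟨b, hb⟩ := h (Pi.single i 1 + Pi.single i₀ 1)
  rw [mulVec_add, ha, hc] at hb
  have h1 := congrFun hb i
  have h2 := congrFun hb i₀
  simp [Pi.single_apply, hi, Ne.symm hi] at h1 h2
  rw [ha, h1, h2]

/-- a matrix commuting with all root maps is scalar -/
theorem scalar_of_commute_roots {X : Matrix ι ι F} (h : ∀ w, X * K G w w = K G w w * X) :
    ∃ c : F, X = c • 1 := by
  refine scalar_of_eigen fun v => ?_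
  by_cases hv : v = 0
  · exact ⟨0, by rw [hv, mulVec_zero, smul_zero]⟩
  obtain ⟨z, hz⟩ := fm_nondeg hG.isForm hv
  refine ⟨fm G (X *ᵥ z) v / fm G z v, ?_⟩
  have h1 := congrArg (· *ᵥ z) (h v)
  simp only [← mulVec_mulVec, K_mulVec, mulVec_smul] at h1
  rw [div_eq_inv_mul, mul_smul, ← h1, inv_smul_smul₀ hz]

end Cfsg.Agent.MaxCl.Pow
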