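/-
Spaces of matrices on a tensor power invariant under the symplectic groups of the factors: such a space with a
non-scalar member contains a monomial, every factor of which is `1`, `K w w` or `K a w - K w a` with orthogonal
independent `a, w`.
-/
import Cfsg.Agent.Lib.MaxCl.PowerSymp

set_option autoImplicit false
set_option linter.unusedSectionVars false

namespace Cfsg.Agent.MaxCl.Pow

open Matrix
open scoped MatrixGroups Kronecker

variable {σ : Type} [Fintype σ] [DecidableEq σ] {F : Type*} [Field F] {G : Matrix σ σ F}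
variable {β : Type} [Fintype β] [DecidableEq β]

variable (G) in
/-- `x ↦ fm x b • a - fm x a • b` -/
def Lam (a b : σ → F) : Matrix σ σ F := K G a b - K G b a

/-- the factors of monomials -/
def Fac (G : Matrix σ σ F) (X : Matrix σ σ F) : Prop :=
  X = 1 ∨ (∃ w, w ≠ 0 ∧ X = K G w w) ∨ ∃ a w, fm G a w = 0 ∧ a ∉ Submodule.span F {w} ∧ w ≠ 0 ∧ X = Lam G a w

theorem fac_one : Fac G (1 : Matrix σ σ F) := Or.inl rfl

theorem K_mul (hG : IsForm G) (a b : σ → F) (Y : Matrix σ σ F) : K G a b * Y = K G a (adj G Y *ᵥ b) := by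
  refine Matrix.toLin'.injective (LinearMap.ext fun x => ?_)
  simp only [Matrix.toLin'_apply, ← mulVec_mulVec, K_mulVec, fm_adj hG]

theorem Lam_mulVec (a b x : σ → F) : Lam G a b *ᵥ x = fm G x b • a - fm G x a • b := by
  rw [Lam, sub_mulVec, K_mulVec, K_mulVec]

theorem Lam_sq (hG : Alt G) {a b : σ → F} (h : fm G a b = 0) : Lam G a b * Lam G a b = 0 := by
  have h' : fm G b a = 0 := by rw [hG.fm_swap a b, h, neg_zero]
  simp only [Lam, sub_mul, mul_sub, K_mul_K, h, h', hG.self, zero_smul, sub_zero]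

theorem Lam_ne_zero (hG : Alt G) {a b : σ → F} (hb : b ≠ 0) (h : a ∉ Submodule.span F {b}) : Lam G a b ≠ 0 := by
  intro h0
  obtain ⟨x, hx⟩ := fm_nondeg hG.isForm hb
  have h1 := congrArg (· *ᵥ x) h0
  simp only [Lam_mulVec, zero_mulVec, sub_eq_zero] at h1
  refine h (Submodule.mem_span_singleton.2 ⟨fm G x a / fm G x b, ?_⟩)
  rw [div_eq_inv_mul, mul_smul, ← h1, inv_smul_smul₀ hx]

theorem Fac.sq (hG : Alt G) {X : Matrix σ σ F} (hX : Fac G X) (h1 : X ≠ 1) : X * X = 0 := by
  rcases hX with rfl | ⟨w, -, rfl⟩ | ⟨a, w, h, -, -, rfl⟩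
  · exact absurd rfl h1
  · exact hG.K_sq w
  · exact Lam_sq hG h

theorem Fac.ne_zero [Nonempty σ] (hG : Alt G) {X : Matrix σ σ F} (hX : Fac G X) : X ≠ 0 := by
  rcases hX with rfl | ⟨w, hw, rfl⟩ | ⟨a, w, -, ha, hw, rfl⟩
  · exact one_ne_zero
  · exact fun h => hw ((K_eq_zero hG.isForm h).elim id id)
  · exact Lam_ne_zero hG hw ha

/-- the `σ`-block at a pair of indices -/
def blk (X : Matrix (σ × β) (σ × β) F) (x y : β) : Matrix σ σ F := Matrix.of fun i j => X (i, x) (j, y)

theorem blk_mul_left (A : Matrix σ σ F) (X : Matrix (σ × β) (σ × β) F) (x y : β) :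
    blk ((A ⊗ₖ 1) * X) x y = A * blk X x y := by
  ext i j
  simp [blk, Matrix.mul_apply, Fintype.sum_prod_type, Matrix.one_apply]

theorem blk_mul_right (A : Matrix σ σ F) (X : Matrix (σ × β) (σ × β) F) (x y : β) :
    blk (X * (A ⊗ₖ 1)) x y = blk X x y * A := by
  ext i j
  simp [blk, Matrix.mul_apply, Fintype.sum_prod_type, Matrix.one_apply]

theorem eq_kron_of_blk {X : Matrix (σ × β) (σ × β) F} {Z : Matrix σ σ F} {C : Matrix β β F}
    (h : ∀ x y, blk X x y = C x y • Z) : X = Z ⊗ₖ C := by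
  ext ⟨i, x⟩ ⟨j, y⟩
  have := congrFun (congrFun (h x y) i) j
  simpa [blk, mul_comm] using this

section Step

variable (hG : Alt G) (D : Submodule F (Matrix (σ × β) (σ × β) F))
  (hD : ∀ g ∈ iso G, ∀ X ∈ D, ((g : Matrix σ σ F) ⊗ₖ 1) * X * (((g⁻¹ : GL σ F) : Matrix σ σ F) ⊗ₖ 1) ∈ D)
include hG hD

theorem derive_mem {g : GL σ F} (hg : g ∈ iso G) {X : Matrix (σ × β) (σ × β) F} (hX : X ∈ D) :
    ∃ Y ∈ D, ∀ x y, blk Y x y = (g : Matrix σ σ F) * blk X x y * ((g⁻¹ : GL σ F) : Matrix σ σ F) - blk X x y := by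
  refine ⟨_, D.sub_mem (hD g hg X hX) hX, fun x y => ?_⟩
  rw [← blk_mul_left, ← blk_mul_right]
  rfl

/-- one step of the search for a monomial -/
theorem seed_step (hk : (2 : F) ≠ 0 ∨ 3 ≤ Fintype.card σ) {X : Matrix (σ × β) (σ × β) F} (hX : X ∈ D) :
    (∃ C, X = 1 ⊗ₖ C) ∨
      ∃ (Z : Matrix σ σ F) (C : Matrix β β F), Fac G Z ∧ Z ≠ 1 ∧ C ≠ 0 ∧ Z ⊗ₖ C ∈ D := by
  classical
  rcases isEmpty_or_nonempty σ with hσ | hσ
  · exact Or.inl ⟨0, Matrix.ext fun i => isEmptyElim i.1⟩
  refine or_iff_not_imp_right.2 fun hno => ?_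
  push Not at hno
  have h1 : ∀ w : σ → F, w ≠ 0 → K G w w ≠ 1 := fun w hw h => by
    have := hG.K_sq w
    rw [h, Matrix.mul_one] at this
    exact one_ne_zero this
  have hpureK : ∀ (Y : Matrix (σ × β) (σ × β) F) (w : σ → F) (c : β → β → F), Y ∈ D → w ≠ 0 →
      (∀ x y, blk Y x y = c x y • K G w w) → ∀ x y, c x y = 0 := by
    intro Y w c hY hw h x y
    by_contra hne
    refine hno _ (Matrix.of c) (Or.inr (Or.inl ⟨w, hw, rfl⟩)) (h1 w hw) (fun h0 => hne ?_) ?_
    · exact congrFun (congrFun h0 x) y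
    · rwa [← eq_kron_of_blk (C := Matrix.of c) h]
  -- the first and second derivatives
  have second : ∀ w a : σ → F, fm G a w = 0 → ∃ Y ∈ D, ∀ x y, blk Y x y =
      (-fm G (blk X x y *ᵥ w) a) • K G a w + (-fm G (blk X x y *ᵥ a) w) • K G w a := by
    intro w a haw
    have hwa : fm G w a = 0 := by rw [hG.fm_swap a w, haw, neg_zero]
    obtain ⟨Y₁, hY₁, e₁⟩ := derive_mem hG D hD (rt_mem_iso hG w 1) hX
    obtain ⟨Y₂, hY₂, e₂⟩ := derive_mem hG D hD (rt_mem_iso hG a 1) hY₁
    refine ⟨Y₂, hY₂, fun x y => ?_⟩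
    rw [e₂, e₁, rt_inv, rt_inv]
    set B := blk X x y
    simp only [rt_val, one_smul, neg_smul]
    set n := K G w w with hn
    set m := K G a a with hm
    have hmn : ∀ Z, m * (n * Z) = 0 := fun Z => by
      rw [← Matrix.mul_assoc, hm, hn, K_mul_K, hwa, zero_smul, Matrix.zero_mul]
    have hnm : n * m = 0 := by rw [hm, hn, K_mul_K, haw, zero_smul]
    have hmn' : m * n = 0 := by rw [hm, hn, K_mul_K, hwa, zero_smul]
    have e3 : m * (B * n) = fm G (B *ᵥ w) a • K G a w := by rw [hm, hn, mul_K, K_mul_K]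
    have e4 : n * (B * m) = fm G (B *ᵥ a) w • K G w a := by rw [hm, hn, mul_K, K_mul_K]
    have e5 : K G a w * m = 0 := by rw [hm, K_mul_K, haw, zero_smul]
    simp only [add_mul, mul_add, Matrix.one_mul, Matrix.mul_one, mul_neg, neg_mul, sub_mul, mul_sub,
      Matrix.mul_assoc, hmn, hnm, e3, e4, e5, mul_zero, smul_mul_assoc, mul_smul_comm, smul_zero,
      neg_zero, add_zero, zero_add, sub_zero, neg_smul]
    module
  have hsum : ∀ w a : σ → F, w ≠ 0 → fm G a w = 0 →
      ∀ x y, a ∉ Submodule.span F {w} → fm G (blk X x y *ᵥ w) a + fm G (blk X x y *ᵥ a) w = 0 := by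
    intro w a hw haw x y ha
    obtain ⟨Y, hY, eY⟩ := second w a haw
    obtain ⟨g, hg, hgw, hga⟩ := exists_shift hG ha
    obtain ⟨Y', hY', eY'⟩ := derive_mem hG D hD hg hY
    have := hpureK Y' w (fun x y => -(fm G (blk X x y *ᵥ w) a + fm G (blk X x y *ᵥ a) w)) hY' hw (fun x y => by
      rw [eY', eY]
      simp only [mul_add, add_mul, Matrix.mul_smul, Matrix.smul_mul, hG.conj_K hg, hgw, hga, K_add_left, K_add_right]
      module) x y
    exact neg_eq_zero.1 this
  have hα : ∀ w a : σ → F, w ≠ 0 → fm G a w = 0 → a ∉ Submodule.span F {w} →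
      ∀ x y, fm G (blk X x y *ᵥ w) a = 0 := by
    intro w a hw haw ha x y
    obtain ⟨Y, hY, eY⟩ := second w a haw
    by_contra hne
    refine hno (Lam G a w) (Matrix.of fun x y => -fm G (blk X x y *ᵥ w) a) (Or.inr (Or.inr ⟨a, w, haw, ha, hw, rfl⟩))
      (fun h => ?_) (fun h0 => hne (neg_eq_zero.1 (congrFun (congrFun h0 x) y))) ?_
    · have := Lam_sq hG haw
      rw [h, Matrix.mul_one] at this
      exact one_ne_zero this
    · rwa [← eq_kron_of_blk (X := Y) fun x y => ?_]
      rw [eY, Matrix.of_apply, Lam]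
      have hs := hsum w a hw haw x y ha
      have hs' : fm G (blk X x y *ᵥ a) w = -fm G (blk X x y *ᵥ w) a := by linear_combination hs
      rw [hs']
      module
  -- every root vector is an eigenvector of every block
  have heig : ∀ w : σ → F, w ≠ 0 → ∀ x y, fm G (blk X x y *ᵥ w) w = 0 ∧
      ∀ a, fm G a w = 0 → fm G (blk X x y *ᵥ w) a = 0 := by
    intro w hw x y
    have hself : fm G (blk X x y *ᵥ w) w = 0 := by
      rcases hk with h2 | h3
      · obtain ⟨Y, hY, eY⟩ := second w w (hG.self w)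
        have := hpureK Y w (fun x y => -(2 * fm G (blk X x y *ᵥ w) w)) hY hw (fun x y => by
          rw [eY]
          module) x y
        rw [neg_eq_zero, mul_eq_zero] at this
        exact this.resolve_left h2
      · obtain ⟨a, ha, ha'⟩ := exists_perp_indep hG h3 w hw
        have h1 := hα w a hw ha ha' x y
        have h2 := hα w (a + w) hw (by rw [fm_add_left, ha, hG.self, add_zero]) (fun h => ha' (by
          simpa using Submodule.sub_mem _ h (Submodule.mem_span_singleton_self w))) x y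
        rwa [fm_add_right, h1, zero_add] at h2
    refine ⟨hself, fun a ha => ?_⟩
    by_cases ha' : a ∈ Submodule.span F {w}
    · obtain ⟨c, rfl⟩ := Submodule.mem_span_singleton.1 ha'
      rw [fm_smul_right, hself, mul_zero]
    · exact hα w a hw ha ha' x y
  -- hence every block commutes with every root map
  have hcomm : ∀ x y w, blk X x y * K G w w = K G w w * blk X x y := by
    intro x y w
    by_cases hw : w = 0
    · simp [hw, K_zero_left]
    have hlam : ∀ x y, ∃ lam : F, blk X x y *ᵥ w = lam • w := by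
      intro x y
      obtain ⟨f, hf⟩ := exists_partner hG hw
      refine ⟨fm G (blk X x y *ᵥ w) f, sub_eq_zero.1 ?_⟩
      by_contra hne
      obtain ⟨z, hz⟩ := fm_nondeg hG.isForm hne
      apply hz
      rw [hG.fm_swap _ z, neg_eq_zero, fm_sub_left, fm_smul_left]
      have hz' : fm G (z - fm G w z • f) w = 0 := by
        rw [fm_sub_left, fm_smul_left, hG.fm_swap w f, hf, hG.fm_swap w z]; ring
      have := (heig w hw x y).2 _ hz'
      rw [fm_sub_right, fm_smul_right] at this
      linear_combination this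
    obtain ⟨Y₁, hY₁, e₁⟩ := derive_mem hG D hD (rt_mem_iso hG w 1) hX
    choose lam hlam' using hlam
    -- the adjoint of a block also has `w` as eigenvector
    have hmu : ∀ x y, ∃ mu : F, K G w w * blk X x y = mu • K G w w := by
      intro x y
      obtain ⟨f, hf⟩ := exists_partner hG hw
      refine ⟨fm G f (adj G (blk X x y) *ᵥ w) / fm G f w, ?_⟩
      rw [K_mul hG.isForm, ← K_smul_right]
      congr 1
      rw [← sub_eq_zero]
      by_contra hne
      obtain ⟨z, hz⟩ := fm_nondeg hG.isForm hne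
      apply hz
      have hfw : fm G f w = -1 := by rw [hG.fm_swap w f, hf]
      set a := z - fm G w z • f
      have ha : fm G a w = 0 := by
        simp only [a, fm_sub_left, fm_smul_left, hfw, hG.fm_swap w z]; ring
      have ha2 : fm G a (adj G (blk X x y) *ᵥ w) = 0 := by
        rw [← fm_adj hG.isForm]
        by_cases ha' : a ∈ Submodule.span F {w}
        · obtain ⟨c, hc⟩ := Submodule.mem_span_singleton.1 ha'
          rw [← hc, mulVec_smul, fm_smul_left, (heig w hw x y).1, mul_zero]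
        · have := hsum w a hw ha x y ha'
          rwa [hα w a hw ha ha' x y, zero_add] at this
      simp only [a, fm_sub_left, fm_smul_left] at ha2
      rw [fm_sub_right, fm_smul_right, hfw, div_neg, div_one, hG.fm_swap w z]
      linear_combination ha2
    choose mu hmu' using hmu
    have := hpureK Y₁ w (fun x y => mu x y - lam x y) hY₁ hw (fun x y => by
      rw [e₁, rt_inv]
      have e5 : K G w w * blk X x y * K G w w = 0 := by rw [hmu', Matrix.smul_mul, hG.K_sq, smul_zero]
      have e6 : blk X x y * K G w w = lam x y • K G w w := by rw [mul_K, hlam', K_smul_left]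
      simp only [rt_val, one_smul, neg_smul, add_mul, mul_add, Matrix.one_mul, Matrix.mul_one, mul_neg, neg_mul,
        e5, e6]
      rw [hmu']
      module) x y
    rw [hmu', mul_K, hlam', K_smul_left, sub_eq_zero.1 this]
  choose C hC using fun x y => scalar_of_commute_roots hG (hcomm x y)
  exact ⟨Matrix.of C, eq_kron_of_blk hC⟩

end Step

/-! ### all positions -/

variable {κ : Type} [Fintype κ] [DecidableEq κ]

/-- the matrix `g` in position `i` -/
def slot (i : κ) (g : GL σ F) : GL (κ → σ) F := tenGL (put i g 1)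

theorem spl_kr_one (i : κ) (g : GL σ F) : spl F σ i (kr (g, 1)) = slot i g := by
  rw [← map_one (tenGL (κ := oth i) (σ := σ) (F := F)), spl_kr]
  rfl

theorem spl_kr_slot (i : κ) (j : oth i) (g : GL σ F) : spl F σ i (kr (1, slot j g)) = slot (j : κ) g := by
  rw [slot, spl_kr, slot]
  congr 1
  funext l
  by_cases h : l = i
  · subst h
    rw [put_self]
    simp [put, Ne.symm j.2]
  · by_cases h' : l = j
    · subst h'
      rw [put_self, put_oth i _ _ j, put_self]
    · simp [put, h, h', ← Subtype.coe_injective.eq_iff]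

theorem splM_conj (i : κ) (g : GL (σ × (oth i → σ)) F) (X : Matrix (σ × (oth i → σ)) (σ × (oth i → σ)) F) :
    splM F σ i ((g : Matrix _ _ F) * X * ((g⁻¹ : GL (σ × (oth i → σ)) F) : Matrix _ _ F)) =
      (spl F σ i g : Matrix (κ → σ) (κ → σ) F) * splM F σ i X *
        (((spl F σ i g)⁻¹ : GL (κ → σ) F) : Matrix (κ → σ) (κ → σ) F) := by
  rw [← map_inv, spl_val, spl_val, map_mul, map_mul]

/-- **an invariant space with a non-scalar member contains a monomial** -/
theorem exists_monomial (hG : Alt G) (hk : (2 : F) ≠ 0 ∨ 3 ≤ Fintype.card σ) :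
    ∀ {κ : Type} [Fintype κ] [DecidableEq κ] (D : Submodule F (Matrix (κ → σ) (κ → σ) F)),
      (∀ (i : κ), ∀ g ∈ iso G, ∀ X ∈ D,
        (slot i g : Matrix (κ → σ) (κ → σ) F) * X * (((slot i g)⁻¹ : GL (κ → σ) F) : Matrix _ _ F) ∈ D) →
      (∃ X ∈ D, ∀ c : F, X ≠ c • 1) →
      ∃ A : κ → Matrix σ σ F, (∀ i, Fac G (A i)) ∧ (∃ i, A i ≠ 1) ∧ ten A ∈ D := by
  suffices H : ∀ (n : ℕ) {κ : Type} [Fintype κ] [DecidableEq κ], Fintype.card κ = n →
      ∀ (D : Submodule F (Matrix (κ → σ) (κ → σ) F)),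
      (∀ (i : κ), ∀ g ∈ iso G, ∀ X ∈ D,
        (slot i g : Matrix (κ → σ) (κ → σ) F) * X * (((slot i g)⁻¹ : GL (κ → σ) F) : Matrix _ _ F) ∈ D) →
      (∃ X ∈ D, ∀ c : F, X ≠ c • 1) →
      ∃ A : κ → Matrix σ σ F, (∀ i, Fac G (A i)) ∧ (∃ i, A i ≠ 1) ∧ ten A ∈ D by
    intro κ _ _
    exact H _ rfl
  intro n
  induction n with
  | zero =>
    intro κ _ _ hn D _ ⟨X, _, hX⟩
    haveI : IsEmpty κ := Fintype.card_eq_zero_iff.1 hn
    refine absurd (Matrix.ext fun x y => ?_) (hX (X isEmptyElim isEmptyElim))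
    rw [Subsingleton.elim x isEmptyElim, Subsingleton.elim y isEmptyElim]
    simp
  | succ n ih =>
    intro κ _ _ hn D hinv ⟨X, hX, hXs⟩
    obtain ⟨i⟩ : Nonempty κ := Fintype.card_pos_iff.1 (by omega)
    have hcard : Fintype.card (oth i) = n := by
      show Fintype.card {j // ¬ j = i} = n
      rw [Fintype.card_subtype_compl, Fintype.card_subtype_eq, hn, Nat.add_sub_cancel]
    let D' : Submodule F (Matrix (σ × (oth i → σ)) (σ × (oth i → σ)) F) := D.comap (splM F σ i).toLinearMap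
    have hD' : ∀ g ∈ iso G, ∀ Y ∈ D', ((g : Matrix σ σ F) ⊗ₖ 1) * Y * (((g⁻¹ : GL σ F) : Matrix σ σ F) ⊗ₖ 1) ∈ D' := by
      intro g hg Y hY
      have h := hinv i g hg _ hY
      rw [← spl_kr_one] at h
      show splM F σ i _ ∈ D
      have e := splM_conj i (kr (g, (1 : GL (oth i → σ) F))) Y
      rw [← map_inv, Prod.inv_mk, inv_one, kr_val, kr_val, Units.val_one] at e
      rwa [e]
    -- slices
    have slice : ∀ (Z : Matrix σ σ F), Fac G Z → ∀ C, splM F σ i (Z ⊗ₖ C) ∈ D → (∀ c : F, C ≠ c • 1) →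
        ∃ A : κ → Matrix σ σ F, (∀ j, Fac G (A j)) ∧ (∃ j, A j ≠ 1) ∧ ten A ∈ D := by
      intro Z hZ C hC hCs
      let E : Submodule F (Matrix (oth i → σ) (oth i → σ) F) := D'.comap
        { toFun := fun C => Z ⊗ₖ C
          map_add' := fun _ _ => kron_add _ _ _
          map_smul' := fun _ _ => by rw [RingHom.id_apply]; exact kron_smul _ _ _ }
      obtain ⟨A, hA, ⟨j, hj⟩, hAD⟩ := ih hcard E (fun j g hg Y hY => by
        have h := hinv (j : κ) g hg _ (show splM F σ i (Z ⊗ₖ Y) ∈ D from hY)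
        rw [← spl_kr_slot] at h
        show splM F σ i (Z ⊗ₖ _) ∈ D
        have e := splM_conj i (kr ((1 : GL σ F), slot j g)) (Z ⊗ₖ Y)
        rw [← map_inv, Prod.inv_mk, inv_one, kr_val, kr_val, Units.val_one, ← Matrix.mul_kronecker_mul,
          ← Matrix.mul_kronecker_mul, Matrix.one_mul, Matrix.mul_one] at e
        rwa [e]) ⟨C, hC, hCs⟩
      refine ⟨put i Z A, fun l => ?_, ⟨j, by rwa [put_oth]⟩, by rw [← splM_kron]; exact hAD⟩
      by_cases hl : l = i
      · subst hl; rwa [put_self]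
      · rw [show put i Z A l = A ⟨l, hl⟩ from dif_neg hl]; exact hA _
    rcases seed_step hG D' hD' hk (X := (splM F σ i).symm X) (by
        show splM F σ i ((splM F σ i).symm X) ∈ D
        rwa [AlgEquiv.apply_symm_apply]) with ⟨C, hC⟩ | ⟨Z, C, hZ, hZ1, hC0, hZC⟩
    · refine slice 1 fac_one C ?_ fun c hc => hXs c ?_
      · rw [← hC, AlgEquiv.apply_symm_apply]; exact hX
      · rw [← (splM F σ i).apply_symm_apply X, hC, hc, kron_smul, Matrix.one_kronecker_one, map_smul, map_one]
    · by_cases hCs : ∀ c : F, C ≠ c • 1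
      · exact slice Z hZ C hZC hCs
      push Not at hCs
      obtain ⟨c, hc⟩ := hCs
      refine ⟨put i Z 1, fun l => ?_, ⟨i, by rwa [put_self]⟩, ?_⟩
      · by_cases hl : l = i
        · subst hl; rwa [put_self]
        · rw [show put i Z (1 : oth i → Matrix σ σ F) l = 1 from dif_neg hl]; exact fac_one
      · have hc0 : c ≠ 0 := fun h => hC0 (by rw [hc, h, zero_smul])
        rw [← splM_kron, map_one]
        have : splM F σ i (Z ⊗ₖ C) ∈ D := hZC
        rw [hc, kron_smul, map_smul] at this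
        have h2 := D.smul_mem c⁻¹ this
        rwa [inv_smul_smul₀ hc0] at h2

end Cfsg.Agent.MaxCl.Pow
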