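/-
An overgroup of the symplectic group of one tensor factor without root-like monomials: it meets the flag subgroup of
a root in the symplectic group of the factor, and a similitude mapping a root to a multiple of itself and one such
overgroup to another is a Kronecker product.
-/
import Cfsg.Agent.Lib.MaxCl.PowerSlice

set_option autoImplicit false
set_option linter.unusedSectionVars false

namespace Cfsg.Agent.MaxCl.Pow

open Matrix
open scoped MatrixGroups Kronecker

variable {σ : Type} [Fintype σ] [DecidableEq σ] {F : Type*} [Field F] {G : Matrix σ σ F}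
variable {β : Type} [Fintype β] [DecidableEq β] {GB : Matrix β β F}

/-- some element of `M` has matrix `X` -/
def Mem {ι : Type} [Fintype ι] [DecidableEq ι] (M : Subgroup (GL ι F)) (X : Matrix ι ι F) : Prop :=
  ∃ g ∈ M, (g : Matrix ι ι F) = X

theorem Mem.mul {ι : Type} [Fintype ι] [DecidableEq ι] {M : Subgroup (GL ι F)} {X Y : Matrix ι ι F}
    (hX : Mem M X) (hY : Mem M Y) : Mem M (X * Y) := by
  obtain ⟨g, hg, rfl⟩ := hX
  obtain ⟨h, hh, rfl⟩ := hY
  exact ⟨g * h, mul_mem hg hh, rfl⟩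

variable (G GB) in
/-- `1 + K e u ⊗ D + K u e ⊗ D† + K e e ⊗ S` -/
noncomputable def Em (e u : σ → F) (D S : Matrix β β F) : Matrix (σ × β) (σ × β) F :=
  1 + K G e u ⊗ₖ D + K G u e ⊗ₖ adj GB D + K G e e ⊗ₖ S

/-- trivial on the successive quotients of the flag of `e` -/
def InR (G : Matrix σ σ F) (e : σ → F) (g : Matrix (σ × β) (σ × β) F) : Prop :=
  (∀ y, g * (K G e y ⊗ₖ 1) = K G e y ⊗ₖ 1) ∧
    ∀ u, fm G u e = 0 → ∃ D, ∀ y, g * (K G u y ⊗ₖ 1) = K G u y ⊗ₖ 1 + K G e y ⊗ₖ D

/-- a member of a space of matrices which leads to a forbidden element -/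
def Bad (G : Matrix σ σ F) (GB : Matrix β β F) (M : Subgroup (GL (σ × β) F)) (D : Matrix β β F) : Prop :=
  (∀ c : F, D ≠ c • 1) ∧ D * D = 0 ∧
    (((2 : F) ≠ 0 ∧ adj GB D = D) ∨
      (adj GB D = -D ∧ ∀ e u, fm G e u = 0 → e ∉ Submodule.span F {u} → u ≠ 0 → ¬ Mem M (1 + Lam G e u ⊗ₖ D)) ∨
      ((2 : F) = 0 ∧ adj GB D = D ∧ ∃ h : GL β F, kr (1, h) ∈ M ∧ ∀ c : F,
        D * ((h : Matrix β β F) * D * ((h⁻¹ : GL β F) : Matrix β β F)) +
          (h : Matrix β β F) * D * ((h⁻¹ : GL β F) : Matrix β β F) * D ≠ c • 1))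

/-- an overgroup without root-like monomials -/
structure Ovr (G : Matrix σ σ F) (GB : Matrix β β F) (M : Subgroup (GL (σ × β) F)) : Prop where
  le : M ≤ iso (G ⊗ₖ GB)
  sp : ∀ g ∈ iso G, kr (g, 1) ∈ M
  top : ∀ (e : σ → F) (S : Matrix β β F), e ≠ 0 → Mem M (1 + K G e e ⊗ₖ S) → ∃ c : F, S = c • 1
  seed : ∀ D : Submodule F (Matrix β β F),
    (∀ h, kr ((1 : GL σ F), h) ∈ M → ∀ X ∈ D, (h : Matrix β β F) * X * ((h⁻¹ : GL β F) : Matrix β β F) ∈ D) →
    (∃ X ∈ D, ∀ c : F, X ≠ c • 1) → ∃ X ∈ D, Bad G GB M X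

theorem exists_sandwich (a b c d : σ → F) (X : Matrix (σ × β) (σ × β) F) :
    ∃ S : Matrix β β F, (K G a b ⊗ₖ 1) * X * (K G c d ⊗ₖ 1) = K G a d ⊗ₖ S :=
  ⟨Matrix.of fun x y => fm G (blk X x y *ᵥ c) b, eq_kron_of_blk fun x y => by
    rw [blk_mul_right, blk_mul_left, Matrix.mul_assoc, mul_K, K_mul_K, Matrix.of_apply]⟩

theorem kr_left_iso (hG : Alt G) {h : GL β F} (hσ : Nonempty σ) (hh : kr (1, h) ∈ iso (G ⊗ₖ GB)) :
    h ∈ iso GB := by
  rw [mem_iso, kr_val, Units.val_one, ← Matrix.kroneckerMap_transpose, transpose_one, ← Matrix.mul_kronecker_mul,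
    ← Matrix.mul_kronecker_mul, Matrix.one_mul, Matrix.mul_one] at hh
  refine kron_injective_right (fun h0 => ?_) hh
  have := hG.det
  rw [h0] at this
  simp at this

theorem Em_mul (hG : Alt G) {e u v : σ → F} (hu : fm G u e = 0) (hv : fm G v e = 0) (D D' S S' : Matrix β β F) :
    Em G GB e u D S * Em G GB e v D' S' = 1 + (K G e u ⊗ₖ D + K G e v ⊗ₖ D') +
      (K G u e ⊗ₖ adj GB D + K G v e ⊗ₖ adj GB D') + K G e e ⊗ₖ (S + S' + fm G v u • (D * adj GB D')) := by
  have hu' : fm G e u = 0 := by rw [hG.fm_swap u e, hu, neg_zero]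
  have hv' : fm G e v = 0 := by rw [hG.fm_swap v e, hv, neg_zero]
  simp only [Em, add_mul, mul_add, Matrix.one_mul, Matrix.mul_one, ← Matrix.mul_kronecker_mul, K_mul_K, hu, hu', hv,
    hv', hG.self, zero_smul, Matrix.zero_kronecker, Matrix.smul_kronecker, kron_add, kron_smul, add_zero]
  abel

theorem Em_inR (hG : Alt G) {e u : σ → F} (hu : fm G u e = 0) (D S : Matrix β β F) :
    (∀ y, Em G GB e u D S * (K G e y ⊗ₖ 1) = K G e y ⊗ₖ 1) ∧
      ∀ v, fm G v e = 0 → ∀ y, Em G GB e u D S * (K G v y ⊗ₖ 1) = K G v y ⊗ₖ 1 + K G e y ⊗ₖ (fm G v u • D) := by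
  have hu' : fm G e u = 0 := by rw [hG.fm_swap u e, hu, neg_zero]
  refine ⟨fun y => ?_, fun v hv y => ?_⟩
  · simp only [Em, add_mul, Matrix.one_mul, ← Matrix.mul_kronecker_mul, K_mul_K, hu', hG.self, zero_smul,
      Matrix.zero_kronecker, add_zero]
  · simp only [Em, add_mul, Matrix.one_mul, ← Matrix.mul_kronecker_mul, K_mul_K, hv, zero_smul,
      Matrix.zero_kronecker, add_zero, Matrix.mul_one, Matrix.smul_kronecker, kron_smul]

section Ovr

variable {M : Subgroup (GL (σ × β) F)} (hG : Alt G) (hB : IsForm GB) (hO : Ovr G GB M)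
include hG hB hO

theorem sie_mem {e u : σ → F} (hu : fm G u e = 0) : Mem M (Em G GB e u 1 0) := by
  refine ⟨kr (sie hG e u, 1), hO.sp _ (sie_mem_iso hG e u), ?_⟩
  rw [kr_val, sie_val hG (by rw [hG.fm_swap u e, hu, neg_zero]), Units.val_one, Matrix.add_kronecker,
    Matrix.add_kronecker, Matrix.one_kronecker_one, Em, adj_one hB, kron_zero, add_zero]

/-- the commutator of an element of the flag subgroup with a root element -/
theorem comm_root {g : GL (σ × β) F} (hg : g ∈ M) {e u : σ → F} (he : e ≠ 0) (hu : fm G u e = 0)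
    {D : Matrix β β F}
    (h : ∀ y, (g : Matrix (σ × β) (σ × β) F) * (K G u y ⊗ₖ 1) = K G u y ⊗ₖ 1 + K G e y ⊗ₖ D) :
    Mem M (Em G GB e u D (D * adj GB D)) := by
  obtain ⟨f, hf⟩ := exists_partner hG he
  have ht := hO.sp _ (rt_mem_iso hG u 1)
  refine ⟨g * kr (rt hG u 1, 1) * g⁻¹ * (kr (rt hG u 1, 1))⁻¹,
    mul_mem (mul_mem (mul_mem hg ht) (inv_mem hg)) (inv_mem ht), ?_⟩
  have hu' : fm G e u = 0 := by rw [hG.fm_swap u e, hu, neg_zero]
  rw [← map_inv, Prod.inv_mk, inv_one, rt_inv, Units.val_mul, Units.val_mul, Units.val_mul, kr_val, kr_val, rt_val,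
    rt_val, Units.val_one, one_smul, neg_one_smul, Matrix.add_kronecker, Matrix.add_kronecker,
    Matrix.one_kronecker_one, neg_kron]
  set n := K G u u ⊗ₖ (1 : Matrix β β F) with hn
  have hc : (g : Matrix (σ × β) (σ × β) F) * n * ((g⁻¹ : GL (σ × β) F) : Matrix (σ × β) (σ × β) F) =
      n + K G u e ⊗ₖ adj GB D + (K G e u ⊗ₖ D + K G e e ⊗ₖ (D * adj GB D)) :=
    conj_root hG hB (hO.le hg) hf h
  have hc' : (g : Matrix (σ × β) (σ × β) F) * (1 + n) * ((g⁻¹ : GL (σ × β) F) : Matrix (σ × β) (σ × β) F) =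
      1 + (n + K G u e ⊗ₖ adj GB D + (K G e u ⊗ₖ D + K G e e ⊗ₖ (D * adj GB D))) := by
    rw [mul_add, Matrix.mul_one, add_mul, ← Units.val_mul, mul_inv_cancel, Units.val_one, hc]
  rw [hc']
  simp only [hn, add_mul, mul_add, Matrix.one_mul, Matrix.mul_one, mul_neg, ← Matrix.mul_kronecker_mul, K_mul_K,
    hG.self, hu, hu', zero_smul, Matrix.zero_kronecker, neg_zero, add_zero, Em]
  abel

/-- the commutator of two elements of the flag subgroup -/
theorem comm_top {e u v : σ → F} (hu : fm G u e = 0) (hv : fm G v e = 0) {D D' S S' : Matrix β β F}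
    (h : Mem M (Em G GB e u D S)) (h' : Mem M (Em G GB e v D' S')) :
    Mem M (1 + K G e e ⊗ₖ (fm G v u • (D * adj GB D') - fm G u v • (D' * adj GB D))) := by
  obtain ⟨g, hg, hge⟩ := h
  obtain ⟨g', hg', hge'⟩ := h'
  refine ⟨g * g' * g⁻¹ * g'⁻¹, mul_mem (mul_mem (mul_mem hg hg') (inv_mem hg)) (inv_mem hg'), ?_⟩
  have e1 := Em_mul (GB := GB) hG hu hv D D' S S'
  have e2 := Em_mul (GB := GB) hG hv hu D' D S' S
  rw [← hge, ← hge'] at e1
  rw [← hge, ← hge'] at e2
  set T := fm G v u • (D * adj GB D') - fm G u v • (D' * adj GB D) with hT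
  have key : ((g * g' : GL (σ × β) F) : Matrix (σ × β) (σ × β) F) =
      (1 + K G e e ⊗ₖ T) * ((g' * g : GL (σ × β) F) : Matrix (σ × β) (σ × β) F) := by
    have hu' : fm G e u = 0 := by rw [hG.fm_swap u e, hu, neg_zero]
    have hv' : fm G e v = 0 := by rw [hG.fm_swap v e, hv, neg_zero]
    rw [Units.val_mul, Units.val_mul, e1, e2, hT]
    simp only [add_mul, mul_add, Matrix.one_mul, Matrix.mul_one, ← Matrix.mul_kronecker_mul, K_mul_K, hu', hv',
      hG.self, zero_smul, Matrix.zero_kronecker, add_zero, sub_eq_add_neg, kron_add, kron_neg, kron_smul, neg_mul,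
      Matrix.smul_mul, Matrix.mul_smul, mul_neg, hu, hv, smul_zero, neg_zero, zero_add]
    abel
  rw [show g * g' * g⁻¹ * g'⁻¹ = g * g' * (g' * g)⁻¹ by group, Units.val_mul, key, Matrix.mul_assoc,
    ← Units.val_mul, mul_inv_cancel, Units.val_one, Matrix.mul_one]

/-- **the overgroup meets the flag subgroup in the symplectic group of the factor** -/
theorem inR_kr {g : GL (σ × β) F} (hg : g ∈ M) {e : σ → F} (he : e ≠ 0)
    (hR : InR G e (g : Matrix (σ × β) (σ × β) F)) :
    ∃ L ∈ iso G, g = kr (L, 1) ∧ (L : Matrix σ σ F) *ᵥ e = e := by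
  classical
  obtain ⟨f, hf⟩ := exists_partner hG he
  choose D hD using hR.2
  obtain ⟨i₀, hi₀⟩ := Function.ne_iff.1 he
  haveI : Nonempty σ := ⟨i₀⟩
  -- the middle coordinates are scalar
  have hmid : ∀ u (hu : fm G u e = 0), fm G u f = 0 → ∃ c : F, D u hu = c • 1 := by
    intro u hu huf
    by_cases hu0 : u = 0
    · refine ⟨0, ?_⟩
      have := hD u hu f
      have e1 : K G u f ⊗ₖ (1 : Matrix β β F) = 0 := by simp [hu0, K_zero_left]
      rw [e1, Matrix.mul_zero, zero_add] at this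
      have hK : K G e f ≠ 0 := fun h => (K_eq_zero hG.isForm h).elim he fun h' => by
        simp [h', fm_zero_right] at hf
      rw [zero_smul]
      exact (kron_injective_right hK ((kron_zero _).trans this)).symm
    by_contra hns
    push Not at hns
    let W : Submodule F (Matrix β β F) :=
      { carrier := {X | ∃ S, Mem M (Em G GB e u X S)}
        zero_mem' := ⟨0, 1, one_mem _, by simp [Em, adj_zero]⟩
        add_mem' := by
          rintro X Y ⟨S, hS⟩ ⟨T, hT⟩
          refine ⟨S + T, ?_⟩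
          have := hS.mul hT
          rw [Em_mul hG hu hu, hG.self, zero_smul, add_zero, ← kron_add, ← kron_add, ← adj_add] at this
          exact this
        smul_mem' := by
          rintro l X ⟨S, g₁, hg₁, e₁⟩
          by_cases hl : l = 0
          · exact ⟨0, 1, one_mem _, by simp [Em, hl, adj_zero]⟩
          obtain ⟨τ, hτ, hτe, -, hτu⟩ := exists_tor hG hf hl
          have hk := hO.sp τ hτ
          refine ⟨(l * l) • S, kr (τ, 1) * g₁ * (kr (τ, 1))⁻¹, mul_mem (mul_mem hk hg₁) (inv_mem hk), ?_⟩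
          rw [← map_inv, Prod.inv_mk, inv_one, Units.val_mul, Units.val_mul, e₁, kr_val, kr_val, Units.val_one]
          simp only [Em, mul_add, add_mul, Matrix.mul_one, ← Matrix.mul_kronecker_mul, Matrix.one_mul,
            hG.conj_K hτ, hτe, hτu u hu huf, K_smul_left, K_smul_right, smul_smul, adj_smul, Matrix.smul_kronecker,
            kron_smul, ← Units.val_mul, mul_inv_cancel, Units.val_one, Matrix.one_kronecker_one] }
    obtain ⟨X, ⟨S, hXS⟩, hX1, hXX, hbad⟩ := hO.seed W (fun h hh X ⟨S, hS⟩ => by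
      obtain ⟨g₁, hg₁, e₁⟩ := hS
      refine ⟨(h : Matrix β β F) * S * ((h⁻¹ : GL β F) : Matrix β β F), kr (1, h) * g₁ * (kr (1, h))⁻¹,
        mul_mem (mul_mem hh hg₁) (inv_mem hh), ?_⟩
      have hi := kr_left_iso hG inferInstance (hO.le hh)
      rw [← map_inv, Prod.inv_mk, inv_one, Units.val_mul, Units.val_mul, e₁, kr_val, kr_val, Units.val_one]
      simp only [Em, mul_add, add_mul, Matrix.mul_one, ← Matrix.mul_kronecker_mul, Matrix.one_mul, adj_mul hB,
        adj_of_iso hB hi, adj_of_iso hB (inv_mem hi), inv_inv, Matrix.mul_assoc, ← Units.val_mul, mul_inv_cancel,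
        Units.val_one, Matrix.one_kronecker_one]) ⟨D u hu, ⟨_, comm_root hG hB hO hg he hu (hD u hu)⟩, hns⟩
    obtain ⟨gX, hgX, eX⟩ := hXS
    obtain ⟨v, huv, hve, hvf⟩ := exists_partner_perp hG hf hu0 hu huf
    have hXa : X * adj GB X = 0 := by
      rcases hbad with ⟨-, h⟩ | ⟨h, -⟩ | ⟨-, h, -⟩ <;> rw [h]
      · exact hXX
      · rw [Matrix.mul_neg, hXX, neg_zero]
      · exact hXX
    have hex : ∀ v', fm G v' e = 0 → fm G v' u = 1 → Mem M (Em G GB e v' X 0) := by
      intro v' hv'e hv'u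
      have h1 : ∀ y, (gX : Matrix (σ × β) (σ × β) F) * (K G v' y ⊗ₖ 1) = K G v' y ⊗ₖ 1 + K G e y ⊗ₖ X := fun y => by
        rw [eX, (Em_inR hG hu X S).2 v' hv'e y, hv'u, one_smul]
      have := comm_root hG hB hO hgX he hv'e h1
      rwa [hXa] at this
    have hvu : fm G (-v) u = 1 := by rw [fm_neg_left, hG.fm_swap u v, huv, neg_neg]
    have hve' : fm G (-v) e = 0 := by rw [fm_neg_left, hve, neg_zero]
    have hE := hex (-v) hve' hvu
    rcases hbad with ⟨h2, hsa⟩ | ⟨hsk, hforb⟩ | ⟨h2, hsa, h, hh, hne⟩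
    · obtain ⟨c, hc⟩ := hO.top e _ he (comm_top hG hB hO hve' hu hE (sie_mem hG hB hO hu))
      rw [adj_one hB, Matrix.mul_one, Matrix.one_mul, hsa, hvu, fm_neg_right, huv] at hc
      refine hX1 (-c / 2) ?_
      have hc' : c • (1 : Matrix β β F) = (-2 : F) • X := by rw [← hc]; module
      rw [div_eq_inv_mul, mul_smul, neg_smul, hc', neg_smul, neg_neg, inv_smul_smul₀ h2]
    · refine hforb e (-v) (by rw [hG.fm_swap, hve', neg_zero]) (fun hmem => ?_) (fun h0 => ?_) ?_
      · obtain ⟨a, ha⟩ := Submodule.mem_span_singleton.1 hmem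
        rw [← ha, fm_smul_left, fm_neg_left, hvf, neg_zero, mul_zero] at hf
        exact zero_ne_one hf
      · rw [h0, fm_zero_left] at hvu
        exact zero_ne_one hvu
      · obtain ⟨g₁, hg₁, e₁⟩ := hE
        refine ⟨g₁, hg₁, ?_⟩
        rw [e₁, Em, hsk, kron_zero, add_zero, kron_neg, Lam, sub_eq_add_neg, Matrix.add_kronecker, neg_kron]
        abel
    · have hw : fm G (-v + u) u = 1 := by rw [fm_add_left, hvu, hG.self, add_zero]
      have hwe : fm G (-v + u) e = 0 := by rw [fm_add_left, hve', hu, add_zero]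
      obtain ⟨g₁, hg₁, e₁⟩ := hex _ hwe hw
      have hi := kr_left_iso hG inferInstance (hO.le hh)
      have hE' : Mem M (Em G GB e (-v + u) ((h : Matrix β β F) * X * ((h⁻¹ : GL β F) : Matrix β β F)) 0) := by
        refine ⟨kr (1, h) * g₁ * (kr (1, h))⁻¹, mul_mem (mul_mem hh hg₁) (inv_mem hh), ?_⟩
        rw [← map_inv, Prod.inv_mk, inv_one, Units.val_mul, Units.val_mul, e₁, kr_val, kr_val, Units.val_one]
        simp only [Em, mul_add, add_mul, Matrix.mul_one, ← Matrix.mul_kronecker_mul, Matrix.one_mul, adj_mul hB,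
          adj_of_iso hB hi, adj_of_iso hB (inv_mem hi), inv_inv, Matrix.mul_assoc, kron_zero, Matrix.mul_zero,
          Matrix.zero_mul, ← Units.val_mul, mul_inv_cancel, Units.val_one, Matrix.one_kronecker_one]
      obtain ⟨c, hc⟩ := hO.top e _ he (comm_top hG hB hO hve' hwe hE hE')
      rw [adj_mul hB, adj_mul hB, adj_of_iso hB hi, adj_of_iso hB (inv_mem hi), inv_inv, hsa] at hc
      have h1 : fm G (-v + u) (-v) = -1 := by
        rw [fm_add_left, hG.self, zero_add, fm_neg_right, huv]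
      rw [h1, hG.fm_swap (-v + u) (-v), h1, neg_neg, one_smul, neg_one_smul, ← Matrix.mul_assoc (h : Matrix β β F)] at hc
      refine hne (-c) ?_
      rw [neg_smul, ← hc]
      abel
  -- hence on the whole perp of `e`
  have hall : ∀ u (hu : fm G u e = 0), ∃ c : F, D u hu = c • 1 := by
    intro u hu
    have hu' : fm G (u - fm G u f • e) e = 0 := by rw [fm_sub_left, fm_smul_left, hG.self, hu]; ring
    obtain ⟨c, hc⟩ := hmid _ hu' (by rw [fm_sub_left, fm_smul_left, hf]; ring)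
    refine ⟨c, ?_⟩
    have hK : K G e f ≠ 0 := fun h => (K_eq_zero hG.isForm h).elim he fun h' => by simp [h', fm_zero_right] at hf
    refine kron_injective_right hK ?_
    have h1 := hD u hu f
    have h2 := hD _ hu' f
    generalize D _ hu' = D' at h2 hc
    rw [sub_eq_add_neg, ← neg_smul, K_add_left, K_smul_left, Matrix.add_kronecker, Matrix.smul_kronecker, mul_add,
      Matrix.mul_smul, hR.1, h1] at h2
    rw [← hc]
    have h3 : K G e f ⊗ₖ D u hu = K G e f ⊗ₖ D' := by
      have h4 := h2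
      rw [add_assoc, add_comm (K G e f ⊗ₖ D u hu), ← add_assoc] at h4
      exact add_left_cancel h4
    exact h3
  choose c hc using hall
  -- the scalars as a functional
  let P := LinearMap.ker (fmL G e)
  have hc' : ∀ u : P, fm G (u : σ → F) e = 0 := fun u => LinearMap.mem_ker.1 u.2
  have hKf : K G e f ⊗ₖ (1 : Matrix β β F) ≠ 0 ∨ IsEmpty β := by
    rcases isEmpty_or_nonempty β with hb | hb
    · exact Or.inr hb
    refine Or.inl fun h => ?_
    have := kron_injective_left (A' := (0 : Matrix σ σ F)) one_ne_zero (h.trans (Matrix.zero_kronecker _).symm)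
    exact (K_eq_zero hG.isForm this).elim he fun h' => by simp [h', fm_zero_right] at hf
  rcases hKf with hKf | hb
  swap
  · exact ⟨1, one_mem _, Units.ext (Matrix.ext fun p => isEmptyElim p.2), by simp⟩
  have heq : ∀ u (hu : fm G u e = 0) y, (g : Matrix (σ × β) (σ × β) F) * (K G u y ⊗ₖ 1) =
      K G u y ⊗ₖ 1 + c u hu • (K G e y ⊗ₖ 1) := fun u hu y => by rw [hD, hc, kron_smul]
  let φ : P →ₗ[F] F :=
    { toFun := fun u => c u (hc' u)
      map_add' := fun u v => smul_left_injective F hKf (by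
        show c _ _ • _ = (_ + _) • _
        have h1 := heq _ (hc' (u + v)) f
        simp only [Submodule.coe_add, K_add_left, Matrix.add_kronecker, mul_add, heq _ (hc' u), heq _ (hc' v)] at h1
        rw [add_smul]
        exact (add_left_cancel (h1.symm.trans (by abel :
          _ = K G (u : σ → F) f ⊗ₖ (1 : Matrix β β F) + K G (v : σ → F) f ⊗ₖ 1 +
            (c _ (hc' u) • (K G e f ⊗ₖ 1) + c _ (hc' v) • (K G e f ⊗ₖ 1))))))
      map_smul' := fun a u => smul_left_injective F hKf (by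
        show c _ _ • _ = (a * _) • _
        have h1 := heq _ (hc' (a • u)) f
        simp only [Submodule.coe_smul, K_smul_left, Matrix.smul_kronecker, Matrix.mul_smul, heq _ (hc' u), smul_add,
          smul_smul] at h1
        exact (add_left_cancel h1.symm)) }
  obtain ⟨φ', hφ'⟩ := LinearMap.exists_extend φ
  obtain ⟨z, hz⟩ := exists_repr (fm_isSymplectic hG) φ'
  have hφz : ∀ u (hu : fm G u e = 0), fm G u z = c u hu := fun u hu => by
    rw [← hz]
    exact LinearMap.congr_fun hφ' ⟨u, LinearMap.mem_ker.2 hu⟩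
  have hez : fm G e z = 0 := by
    rw [hφz e (hG.self e)]
    have := heq e (hG.self e) f
    rw [hR.1] at this
    exact (smul_eq_zero.1 (left_eq_add.1 this)).resolve_right hKf
  -- remove the Siegel part
  set g' := (kr (sie hG e z, (1 : GL β F)))⁻¹ * g with hg'
  have hg'M : g' ∈ M := mul_mem (inv_mem (hO.sp _ (sie_mem_iso hG e z))) hg
  have hfix : ∀ u, fm G u e = 0 → ∀ y, (g' : Matrix (σ × β) (σ × β) F) * (K G u y ⊗ₖ 1) = K G u y ⊗ₖ 1 := by
    intro u hu y
    have hs : (kr (sie hG e z, (1 : GL β F)) : Matrix (σ × β) (σ × β) F) * (K G u y ⊗ₖ 1) =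
        (g : Matrix (σ × β) (σ × β) F) * (K G u y ⊗ₖ 1) := by
      rw [heq u hu, kr_val, Units.val_one, ← Matrix.mul_kronecker_mul, mul_K, sie_mulVec hG hez, hφz u hu, hu,
        zero_smul, add_zero, K_add_left, K_smul_left, Matrix.add_kronecker, Matrix.smul_kronecker, Matrix.one_mul]
    rw [hg', Units.val_mul, Matrix.mul_assoc, ← hs, ← Matrix.mul_assoc, ← Units.val_mul, inv_mul_cancel,
      Units.val_one, Matrix.one_mul]
  have hfi : ∀ u, fm G u e = 0 → ∀ y,
      ((g'⁻¹ : GL (σ × β) F) : Matrix (σ × β) (σ × β) F) * (K G u y ⊗ₖ 1) = K G u y ⊗ₖ 1 := fun u hu y => by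
    conv_lhs => rw [← hfix u hu y]
    rw [← Matrix.mul_assoc, ← Units.val_mul, inv_mul_cancel, Units.val_one, Matrix.one_mul]
  have hfe : fm G f e = -1 := by rw [hG.fm_swap e f, hf]
  -- right and left factors
  set Δ : Matrix (σ × β) (σ × β) F := ((g'⁻¹ : GL (σ × β) F) : Matrix (σ × β) (σ × β) F) - 1 with hΔ
  have hZ : (1 + K G f e : Matrix σ σ F) = ∑ j, K G (((1 + K G f e : Matrix σ σ F)) *ᵥ Pi.single j 1)
      (G⁻¹ *ᵥ Pi.single j 1) := by
    simp only [← mul_K, ← Finset.mul_sum]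
    conv_lhs => rw [← Matrix.mul_one (1 + K G f e)]
    congr 1
    refine Matrix.toLin'.injective ((Pi.basisFun F σ).ext fun l => ?_)
    simp only [Pi.basisFun_apply, Matrix.toLin'_apply, Matrix.sum_mulVec, K, mulVec_mulVec, hG.isForm.mul_inv,
      one_mulVec, vecMulVec_mulVec]
    funext x
    simp [Pi.single_apply, ite_apply, apply_ite (fun v : σ → F => v x)]
  have hperp : ∀ x, fm G ((1 + K G f e : Matrix σ σ F) *ᵥ x) e = 0 := fun x => by
    rw [add_mulVec, one_mulVec, K_mulVec, fm_add_left, fm_smul_left, hfe]; ring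
  have hright : ∀ (h : Matrix (σ × β) (σ × β) F), (∀ u, fm G u e = 0 → ∀ y, h * (K G u y ⊗ₖ 1) = K G u y ⊗ₖ 1) →
      h * ((1 + K G f e) ⊗ₖ (1 : Matrix β β F)) = (1 + K G f e) ⊗ₖ 1 := by
    intro h hh
    have hs : ∀ (s : Finset σ) (u y : σ → σ → F), (∀ j, fm G (u j) e = 0) →
        h * ((∑ j ∈ s, K G (u j) (y j)) ⊗ₖ 1) = (∑ j ∈ s, K G (u j) (y j)) ⊗ₖ (1 : Matrix β β F) := by
      intro s u y hu
      induction s using Finset.induction with
      | empty => simp
      | insert a s ha ih => rw [Finset.sum_insert ha, Matrix.add_kronecker, mul_add, hh _ (hu a), ih]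
    rw [hZ]
    exact hs _ _ _ fun j => hperp _
  have hr : Δ = -(Δ * (K G f e ⊗ₖ 1)) := by
    have h1 : Δ * ((1 + K G f e) ⊗ₖ (1 : Matrix β β F)) = 0 := by
      rw [hΔ, sub_mul, hright _ hfi, Matrix.one_mul, sub_self]
    rw [Matrix.add_kronecker, Matrix.one_kronecker_one, mul_add, Matrix.mul_one] at h1
    exact eq_neg_of_add_eq_zero_left h1
  have hF := kron_isForm hG.isForm hB
  have hl : Δ = (K G e f ⊗ₖ 1) * Δ := by
    have h1 := congrArg (adj (G ⊗ₖ GB)) (hright _ hfix)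
    rw [adj_mul hF, adj_of_iso hF (hO.le hg'M), adj_kron hG.isForm hB, adj_add, adj_one hG.isForm, hG.adj_K,
      adj_one hB, Matrix.add_kronecker, Matrix.one_kronecker_one, neg_kron] at h1
    rw [hΔ, mul_sub, Matrix.mul_one]
    rw [add_mul, Matrix.one_mul, Matrix.neg_mul] at h1
    linear_combination (norm := abel) h1
  obtain ⟨S, hS⟩ := exists_sandwich (G := G) e f f e Δ
  have hΔS : Δ = K G e e ⊗ₖ (-S) := by
    rw [kron_neg, ← hS, ← hl]
    exact hr
  obtain ⟨s, hs⟩ := hO.top e (-S) he ⟨g'⁻¹, inv_mem hg'M, by rw [← hΔS, hΔ, add_sub_cancel]⟩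
  refine ⟨sie hG e z * rt hG e (-s), mul_mem (sie_mem_iso hG e z) (rt_mem_iso hG _ _), ?_, ?_⟩
  · have h1 : g'⁻¹ = kr (rt hG e s, (1 : GL β F)) := Units.ext (by
      rw [kr_val, rt_val, Units.val_one, Matrix.add_kronecker, Matrix.one_kronecker_one, Matrix.smul_kronecker,
        ← kron_smul, ← hs, ← hΔS, hΔ, add_sub_cancel])
    have h2 : g' = kr (rt hG e (-s), (1 : GL β F)) := by
      rw [← inv_inv g', h1, ← map_inv, Prod.inv_mk, inv_one, rt_inv]
    have h3 : g = kr (sie hG e z, 1) * g' := by rw [hg', mul_inv_cancel_left]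
    rw [h3, h2, ← map_mul, Prod.mk_mul_mk, one_mul]
  · rw [Units.val_mul, ← mulVec_mulVec, rt_mulVec, hG.self, mul_zero, zero_smul, add_zero, sie_mulVec hG hez, hez,
      hG.self, zero_smul, zero_smul, add_zero, add_zero]

end Ovr

end Cfsg.Agent.MaxCl.Pow
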