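/-
A similitude mapping a root of one tensor factor to a multiple of itself, and one overgroup without root-like
monomials into another, is a Kronecker product of similitudes.
-/
import Cfsg.Agent.Lib.MaxCl.PowerFlag

set_option autoImplicit false
set_option linter.unusedSectionVars false

namespace Cfsg.Agent.MaxCl.Pow

open Matrix
open scoped MatrixGroups Kronecker

variable {σ : Type} [Fintype σ] [DecidableEq σ] {F : Type*} [Field F] {G : Matrix σ σ F}
variable {β : Type} [Fintype β] [DecidableEq β] {GB : Matrix β β F}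

/-- sandwiches between rank one maps, uniformly in the last vector -/
theorem exists_sandwich' (a b c : σ → F) (X : Matrix (σ × β) (σ × β) F) :
    ∃ S : Matrix β β F, ∀ d, (K G a b ⊗ₖ 1) * X * (K G c d ⊗ₖ 1) = K G a d ⊗ₖ S :=
  ⟨Matrix.of fun x y => fm G (blk X x y *ᵥ c) b, fun d => eq_kron_of_blk fun x y => by
    rw [blk_mul_right, blk_mul_left, Matrix.mul_assoc, mul_K, K_mul_K, Matrix.of_apply]⟩

theorem kron_one_mul (X : Matrix σ σ F) (A : Matrix β β F) :
    X ⊗ₖ A = (X ⊗ₖ (1 : Matrix β β F)) * ((1 : Matrix σ σ F) ⊗ₖ A) := by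
  rw [← Matrix.mul_kronecker_mul, Matrix.mul_one, Matrix.one_mul]

theorem adj_of_sim {ι : Type} [Fintype ι] [DecidableEq ι] {Z : Matrix ι ι F} (hZ : IsForm Z) {g : GL ι F} {a : F}
    (ha : a ≠ 0) (hs : (g : Matrix ι ι F)ᵀ * Z * g = a • Z) :
    adj Z (g : Matrix ι ι F) = a • ((g⁻¹ : GL ι F) : Matrix ι ι F) ∧
      adj Z ((g⁻¹ : GL ι F) : Matrix ι ι F) = a⁻¹ • (g : Matrix ι ι F) := by
  have h : adj Z (g : Matrix ι ι F) * (g : Matrix ι ι F) = a • 1 := by
    rw [adj, mul_assoc, mul_assoc, ← mul_assoc _ Z, hs, Matrix.mul_smul, hZ.inv_mul]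
  have h1 : adj Z (g : Matrix ι ι F) = a • ((g⁻¹ : GL ι F) : Matrix ι ι F) := by
    calc _ = adj Z (g : Matrix ι ι F) * ((g : Matrix ι ι F) * ((g⁻¹ : GL ι F) : Matrix ι ι F)) := by simp
      _ = _ := by rw [← mul_assoc, h, Matrix.smul_mul, Matrix.one_mul]
  refine ⟨h1, ?_⟩
  have h2 := congrArg (adj Z) h1
  rw [adj_adj hZ, adj_smul] at h2
  rw [h2, inv_smul_smul₀ ha]

section Cent

variable [Nonempty β] {M M' : Subgroup (GL (σ × β) F)} (hG : Alt G) (hB : IsForm GB) (hO : Ovr G GB M) (hO' : Ovr G GB M')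
  {g : GL (σ × β) F} {a : F} (ha : a ≠ 0)
  (hs : (g : Matrix (σ × β) (σ × β) F)ᵀ * (G ⊗ₖ GB) * g = a • (G ⊗ₖ GB))
  (hconj : ∀ x ∈ M, g * x * g⁻¹ ∈ M') {e : σ → F} (he : e ≠ 0) {c : F} (hc : c ≠ 0)
  (hn : (g : Matrix (σ × β) (σ × β) F) * (K G e e ⊗ₖ 1) = c • ((K G e e ⊗ₖ 1) * (g : Matrix (σ × β) (σ × β) F)))
include hG hB hO hO' ha hs hconj he hc hn

omit hO hO' hconj ha hs in
/-- the action on the image of the root -/
theorem cent_image : ∃ A : GL β F, ∀ y,
    (g : Matrix (σ × β) (σ × β) F) * (K G e y ⊗ₖ 1) = K G e y ⊗ₖ (A : Matrix β β F) ∧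
      ((g⁻¹ : GL (σ × β) F) : Matrix (σ × β) (σ × β) F) * (K G e y ⊗ₖ 1) =
        K G e y ⊗ₖ ((A⁻¹ : GL β F) : Matrix β β F) := by
  obtain ⟨f, hf⟩ := exists_partner hG he
  set z := -f with hz
  have hze : fm G z e = 1 := by rw [hz, fm_neg_left, hG.fm_swap e f, hf, neg_neg]
  have hK : ∀ y, K G e y ⊗ₖ (1 : Matrix β β F) = (K G e e ⊗ₖ 1) * (K G z y ⊗ₖ 1) := fun y => by
    rw [← Matrix.mul_kronecker_mul, K_mul_K, hze, one_smul, Matrix.mul_one]
  obtain ⟨S, hS⟩ := exists_sandwich' (G := G) e e z (g : Matrix (σ × β) (σ × β) F)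
  obtain ⟨S', hS'⟩ := exists_sandwich' (G := G) e e z ((g⁻¹ : GL (σ × β) F) : Matrix (σ × β) (σ × β) F)
  have hni : ((g⁻¹ : GL (σ × β) F) : Matrix (σ × β) (σ × β) F) * (K G e e ⊗ₖ 1) =
      c⁻¹ • ((K G e e ⊗ₖ 1) * ((g⁻¹ : GL (σ × β) F) : Matrix (σ × β) (σ × β) F)) := by
    set N := K G e e ⊗ₖ (1 : Matrix β β F)
    set g' := ((g⁻¹ : GL (σ × β) F) : Matrix (σ × β) (σ × β) F)
    set g₀ := (g : Matrix (σ × β) (σ × β) F)
    have h1 : g' * g₀ = 1 := by rw [← Units.val_mul, inv_mul_cancel, Units.val_one]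
    have h2 : g₀ * g' = 1 := by rw [← Units.val_mul, mul_inv_cancel, Units.val_one]
    have : N * g' = c • (g' * N) := by
      calc N * g' = g' * (g₀ * N) * g' := by rw [← mul_assoc g', h1, Matrix.one_mul]
        _ = c • (g' * N) := by
          rw [hn, Matrix.mul_smul, Matrix.smul_mul, ← mul_assoc, Matrix.mul_assoc (g' * N), h2, Matrix.mul_one]
    rw [this, inv_smul_smul₀ hc]
  have h1 : ∀ y, (g : Matrix (σ × β) (σ × β) F) * (K G e y ⊗ₖ 1) = K G e y ⊗ₖ (c • S) := fun y => by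
    conv_lhs => rw [hK]
    rw [← mul_assoc, hn, Matrix.smul_mul, hS, kron_smul]
  have h2 : ∀ y, ((g⁻¹ : GL (σ × β) F) : Matrix (σ × β) (σ × β) F) * (K G e y ⊗ₖ 1) = K G e y ⊗ₖ (c⁻¹ • S') :=
    fun y => by
      conv_lhs => rw [hK]
      rw [← mul_assoc, hni, Matrix.smul_mul, hS', kron_smul]
  have hKne : K G e f ≠ 0 := fun h => (K_eq_zero hG.isForm h).elim he fun h' => by simp [h', fm_zero_right] at hf
  have hinv : ∀ (X Y : Matrix (σ × β) (σ × β) F) (A B : Matrix β β F), X * Y = 1 →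
      Y * (K G e f ⊗ₖ 1) = K G e f ⊗ₖ A → X * (K G e f ⊗ₖ 1) = K G e f ⊗ₖ B → B * A = 1 := by
    intro X Y A B hXY hY hX
    refine kron_injective_right hKne ?_
    have h := congrArg (X * ·) hY
    simp only [← mul_assoc, hXY, Matrix.one_mul] at h
    rw [h, kron_one_mul _ A, ← mul_assoc, hX, ← Matrix.mul_kronecker_mul, Matrix.mul_one]
  refine ⟨⟨c • S, c⁻¹ • S', hinv _ _ _ _ (by rw [← Units.val_mul, mul_inv_cancel, Units.val_one]) (h2 f) (h1 f),
    hinv _ _ _ _ (by rw [← Units.val_mul, inv_mul_cancel, Units.val_one]) (h1 f) (h2 f)⟩, fun y => ⟨h1 y, h2 y⟩⟩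

omit hO hO' hconj in
/-- the action on the rows of the root -/
theorem cent_row {A : GL β F} (hA : ∀ y,
    (g : Matrix (σ × β) (σ × β) F) * (K G e y ⊗ₖ 1) = K G e y ⊗ₖ (A : Matrix β β F) ∧
      ((g⁻¹ : GL (σ × β) F) : Matrix (σ × β) (σ × β) F) * (K G e y ⊗ₖ 1) =
        K G e y ⊗ₖ ((A⁻¹ : GL β F) : Matrix β β F)) (w : σ → F) :
    (K G w e ⊗ₖ 1) * (g : Matrix (σ × β) (σ × β) F) =
      K G w e ⊗ₖ (a • adj GB ((A⁻¹ : GL β F) : Matrix β β F)) := by
  have hF := kron_isForm hG.isForm hB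
  have h := congrArg (adj (G ⊗ₖ GB)) (hA w).2
  rw [adj_mul hF, (adj_of_sim hF ha hs).2, adj_kron hG.isForm hB, adj_kron hG.isForm hB, adj_one hB, hG.adj_K,
    neg_kron, neg_kron, Matrix.mul_smul, Matrix.neg_mul, smul_neg, neg_inj] at h
  rw [kron_smul, ← h, smul_inv_smul₀ ha]

omit hO in
/-- the conjugate of a Siegel element -/
theorem cent_sie (hO : Ovr G GB M) {A : GL β F} (hA : ∀ y,
    (g : Matrix (σ × β) (σ × β) F) * (K G e y ⊗ₖ 1) = K G e y ⊗ₖ (A : Matrix β β F) ∧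
      ((g⁻¹ : GL (σ × β) F) : Matrix (σ × β) (σ × β) F) * (K G e y ⊗ₖ 1) =
        K G e y ⊗ₖ ((A⁻¹ : GL β F) : Matrix β β F)) {u : σ → F} (hu : fm G u e = 0) :
    ∃ p S, fm G p e = 0 ∧ ∀ y, (g : Matrix (σ × β) (σ × β) F) * (K G u y ⊗ₖ 1) =
      K G p y ⊗ₖ (a • adj GB ((A⁻¹ : GL β F) : Matrix β β F)) + K G e y ⊗ₖ S := by
  obtain ⟨f, hf⟩ := exists_partner hG he
  have hfe : fm G f e = -1 := by rw [hG.fm_swap e f, hf]
  have heu : fm G e u = 0 := by rw [hG.fm_swap u e, hu, neg_zero]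
  have hF := kron_isForm hG.isForm hB
  set g₀ := (g : Matrix (σ × β) (σ × β) F) with hg₀
  set g' := ((g⁻¹ : GL (σ × β) F) : Matrix (σ × β) (σ × β) F) with hg'
  set q := kr (sie hG e u, (1 : GL β F)) with hq
  have hh := hconj q (hO.sp _ (sie_mem_iso hG e u))
  set Y := K G e u ⊗ₖ (1 : Matrix β β F) + K G u e ⊗ₖ 1 with hY
  have hqv : (q : Matrix (σ × β) (σ × β) F) = 1 + Y := by
    rw [hq, kr_val, sie_val hG heu, Units.val_one, Matrix.add_kronecker, Matrix.add_kronecker,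
      Matrix.one_kronecker_one, hY, add_assoc]
  have hhv : ((g * q * g⁻¹ : GL (σ × β) F) : Matrix (σ × β) (σ × β) F) = 1 + g₀ * Y * g' := by
    rw [Units.val_mul, Units.val_mul, hqv, mul_add, Matrix.mul_one, add_mul, ← Units.val_mul, mul_inv_cancel,
      Units.val_one]
  have hrow' : ∀ w, (K G w e ⊗ₖ (1 : Matrix β β F)) * g' = K G w e ⊗ₖ (a⁻¹ • adj GB (A : Matrix β β F)) := by
    intro w
    have h := congrArg (adj (G ⊗ₖ GB)) (hA w).1
    rw [adj_mul hF, (adj_of_sim hF ha hs).1, adj_kron hG.isForm hB, adj_kron hG.isForm hB, adj_one hB, hG.adj_K,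
      neg_kron, neg_kron, Matrix.mul_smul, Matrix.neg_mul, smul_neg, neg_inj] at h
    rw [kron_smul, ← h, inv_smul_smul₀ ha]
  have hmid : ∀ v, fm G v e = 0 → ∃ S, ∀ y,
      g₀ * Y * g' * (K G v y ⊗ₖ 1) = K G e y ⊗ₖ S := by
    intro v hv
    obtain ⟨S, hS⟩ := exists_sandwich' (G := G) e u v g'
    refine ⟨(A : Matrix β β F) * S, fun y => ?_⟩
    rw [Matrix.mul_assoc, Matrix.mul_assoc, ← Matrix.mul_assoc Y, hY, add_mul, add_mul, hS, hrow',
      ← Matrix.mul_kronecker_mul, K_mul_K, hv, zero_smul, Matrix.zero_kronecker, add_zero, kron_one_mul _ S,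
      ← Matrix.mul_assoc, (hA y).1, ← Matrix.mul_kronecker_mul, Matrix.mul_one]
  have hR : InR G e ((g * q * g⁻¹ : GL (σ × β) F) : Matrix (σ × β) (σ × β) F) := by
    refine ⟨fun y => ?_, fun v hv => ?_⟩
    · have hY0 : ∀ S, Y * (K G e y ⊗ₖ S) = 0 := fun S => by
        rw [hY, add_mul, ← Matrix.mul_kronecker_mul, ← Matrix.mul_kronecker_mul, K_mul_K, K_mul_K]
        simp [heu, hG.self]
      rw [hhv, add_mul, Matrix.one_mul, Matrix.mul_assoc, (hA y).2, Matrix.mul_assoc, hY0, Matrix.mul_zero, add_zero]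
    · obtain ⟨S, hS⟩ := hmid v hv
      exact ⟨S, fun y => by rw [hhv, add_mul, Matrix.one_mul, hS]⟩
  obtain ⟨L, hL, hLh, hLe⟩ := inR_kr hG hB hO' hh he hR
  set X := (L : Matrix σ σ F) - 1 with hX
  have hXh : g₀ * Y * g' = X ⊗ₖ (1 : Matrix β β F) := by
    have : 1 + g₀ * Y * g' = (L : Matrix σ σ F) ⊗ₖ (1 : Matrix β β F) := by
      rw [← hhv, hLh, kr_val, Units.val_one]
    rw [hX, sub_eq_add_neg, Matrix.add_kronecker, neg_kron, Matrix.one_kronecker_one, ← this]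
    abel
  set p := -(X *ᵥ f) with hp
  have hXdec : X = K G p e + K G e (adj G (X * (1 + K G f e)) *ᵥ f) := by
    rw [← K_mul hG.isForm e f]
    have h2 : K G e f * (X * (1 + K G f e)) = X * (1 + K G f e) := by
      refine Matrix.toLin'.injective (LinearMap.ext fun x => ?_)
      simp only [Matrix.toLin'_apply, ← mulVec_mulVec, K_mulVec]
      set v := (1 + K G f e) *ᵥ x with hv
      have hve : fm G v e = 0 := by
        rw [hv, add_mulVec, one_mulVec, K_mulVec, fm_add_left, fm_smul_left, hfe]; ring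
      obtain ⟨S, hS⟩ := hmid v hve
      have h3 := hS f
      rw [hXh, ← Matrix.mul_kronecker_mul, mul_K, Matrix.mul_one] at h3
      obtain ⟨t, ht, -⟩ := kron_eq_kron h3 (fun h => (K_eq_zero hG.isForm h).elim he fun h' => by
        simp [h', fm_zero_right] at hf) one_ne_zero
      rw [← K_smul_left, ← sub_eq_zero, sub_eq_add_neg, ← neg_one_smul F (K G (t • e) f), ← K_smul_left,
        ← K_add_left] at ht
      have hXv : X *ᵥ v = t • e := by
        have h4 := (K_eq_zero hG.isForm ht).resolve_right fun h' => by simp [h', fm_zero_right] at hf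
        rw [neg_one_smul, ← sub_eq_add_neg, sub_eq_zero] at h4
        exact h4
      rw [hXv, fm_smul_left, hf, mul_one]
    rw [h2, mul_add, Matrix.mul_one, mul_K, hp, ← neg_one_smul F (X *ᵥ f), K_smul_left]
    module
  obtain ⟨S, hS⟩ := exists_sandwich' (G := G) e (adj G (X * (1 + K G f e)) *ᵥ f) (-f) g₀
  refine ⟨p, S - fm G (-f) u • (A : Matrix β β F), ?_, fun y => ?_⟩
  · rw [hp, hX, sub_mulVec, one_mulVec, fm_neg_left, fm_sub_left, hfe]
    have := mem_iso_fm.1 hL f e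
    rw [hLe, hfe] at this
    rw [this]
    ring
  have h1 : g₀ * Y = (X ⊗ₖ (1 : Matrix β β F)) * g₀ := by
    rw [← hXh, Matrix.mul_assoc _ g' g₀, ← Units.val_mul, inv_mul_cancel, Units.val_one, Matrix.mul_one]
  have h2 := congrArg (· * (K G (-f) y ⊗ₖ (1 : Matrix β β F))) h1
  simp only at h2
  rw [Matrix.mul_assoc, hY, add_mul, ← Matrix.mul_kronecker_mul, ← Matrix.mul_kronecker_mul, K_mul_K, K_mul_K,
    Matrix.mul_one, fm_neg_left G f e, hfe, neg_neg, one_smul, Matrix.smul_kronecker, mul_add, Matrix.mul_smul,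
    (hA y).1, hXdec, Matrix.add_kronecker, add_mul, add_mul, cent_row hG hB ha hs he hc hn hA p, hS,
    ← Matrix.mul_kronecker_mul, K_mul_K, fm_neg_left G f e, hfe, neg_neg, one_smul, Matrix.mul_one] at h2
  rw [sub_eq_add_neg (S : Matrix β β F), kron_add, kron_neg, kron_smul (fm G (-f) u), ← add_assoc, ← h2]
  abel

theorem cent_perp (h3 : 3 ≤ Fintype.card σ) : ∃ A : GL β F, (∀ y,
    (g : Matrix (σ × β) (σ × β) F) * (K G e y ⊗ₖ 1) = K G e y ⊗ₖ (A : Matrix β β F)) ∧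
      (∃ μ : F, μ ≠ 0 ∧ (A : Matrix β β F) * adj GB (A : Matrix β β F) = μ • 1) ∧
      ∀ u, fm G u e = 0 → ∃ w, ∀ y, (g : Matrix (σ × β) (σ × β) F) * (K G u y ⊗ₖ 1) =
        K G w y ⊗ₖ (A : Matrix β β F) := by
  classical
  obtain ⟨f, hf⟩ := exists_partner hG he
  have hF := kron_isForm hG.isForm hB
  obtain ⟨A, hA⟩ := cent_image hG hB he hc hn
  set g₀ := (g : Matrix (σ × β) (σ × β) F) with hg₀
  set g' := ((g⁻¹ : GL (σ × β) F) : Matrix (σ × β) (σ × β) F) with hg'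
  set A' := ((A⁻¹ : GL β F) : Matrix β β F) with hA'
  set A1 := a • adj GB A' with hA1
  have hAA : (A : Matrix β β F) * A' = 1 := by rw [hA', ← Units.val_mul, mul_inv_cancel, Units.val_one]
  have hsie := fun u hu => cent_sie hG hB hO' ha hs hconj he hc hn hO hA (u := u) hu
  have hadjrow : ∀ u p S, (∀ y, g₀ * (K G u y ⊗ₖ 1) = K G p y ⊗ₖ A1 + K G e y ⊗ₖ S) → ∀ y,
      (K G y u ⊗ₖ (1 : Matrix β β F)) * g' = a⁻¹ • (K G y p ⊗ₖ adj GB A1 + K G y e ⊗ₖ adj GB S) := by
    intro u p S h y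
    have h1 := congrArg (adj (G ⊗ₖ GB)) (h y)
    rw [adj_mul hF, (adj_of_sim hF ha hs).1, adj_add, adj_kron hG.isForm hB, adj_kron hG.isForm hB,
      adj_kron hG.isForm hB, adj_one hB, hG.adj_K, hG.adj_K, hG.adj_K, neg_kron, neg_kron, neg_kron,
      Matrix.mul_smul, Matrix.neg_mul, smul_neg, ← neg_add, neg_inj] at h1
    rw [← h1, inv_smul_smul₀ ha]
  -- the middle gives a similitude
  obtain ⟨u₀, hu₀, hu₀e, hu₀f⟩ := exists_perp_pair hG h3 e f
  obtain ⟨v₀, huv, hve, -⟩ := exists_partner_perp hG hf hu₀ hu₀e hu₀f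
  obtain ⟨p, S, hp, hS⟩ := hsie u₀ hu₀e
  obtain ⟨p', S', hp', hS'⟩ := hsie v₀ hve
  have hprod : (a⁻¹ * fm G p' p) • (adj GB A1 * A1) = -(1 : Matrix β β F) := by
    have h1 : (K G f u₀ ⊗ₖ (1 : Matrix β β F)) * g' * (g₀ * (K G v₀ f ⊗ₖ 1)) =
        K G f f ⊗ₖ (fm G v₀ u₀ • (1 : Matrix β β F)) := by
      rw [Matrix.mul_assoc, ← Matrix.mul_assoc g', hg', hg₀, ← Units.val_mul, inv_mul_cancel, Units.val_one,
        Matrix.one_mul, ← Matrix.mul_kronecker_mul, K_mul_K, Matrix.smul_kronecker, kron_smul, Matrix.mul_one]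
    have hep : fm G e p = 0 := by rw [hG.fm_swap p e, hp, neg_zero]
    rw [hadjrow u₀ p S hS, hS', Matrix.smul_mul, add_mul, mul_add, mul_add, ← Matrix.mul_kronecker_mul,
      ← Matrix.mul_kronecker_mul, ← Matrix.mul_kronecker_mul, ← Matrix.mul_kronecker_mul, K_mul_K, K_mul_K, K_mul_K,
      K_mul_K, hp', hep, hG.self, zero_smul, Matrix.zero_kronecker, Matrix.zero_kronecker, Matrix.zero_kronecker,
      add_zero, add_zero, add_zero, Matrix.smul_kronecker, smul_smul, hG.fm_swap u₀ v₀, huv, ← kron_smul,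
      neg_one_smul] at h1
    refine kron_injective_right (fun h => ?_) h1
    rcases K_eq_zero hG.isForm h with h' | h' <;> simp [h', fm_zero_right, fm_zero_left] at hf
  set t := fm G p p' with ht
  have hA'r : adj GB A1 = a • A' := by rw [hA1, adj_smul, adj_adj hB]
  have ht0 : t ≠ 0 := fun h0 => by
    rw [hG.fm_swap p p', ← ht, h0, neg_zero, mul_zero, zero_smul] at hprod
    exact one_ne_zero (neg_eq_zero.1 hprod.symm)
  have hA'adj : (a * t) • adj GB A' = (A : Matrix β β F) := by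
    rw [hA'r, Matrix.smul_mul, smul_smul, hG.fm_swap p p', ← ht, hA1, Matrix.mul_smul, smul_smul] at hprod
    rw [show a⁻¹ * -t * a * a = -(a * t) by field_simp, neg_smul, neg_inj] at hprod
    have := congrArg ((A : Matrix β β F) * ·) hprod
    simp only [Matrix.mul_smul, ← Matrix.mul_assoc, hAA, Matrix.one_mul, Matrix.mul_one] at this
    exact this
  have hA1A : A1 = t⁻¹ • (A : Matrix β β F) := by
    rw [hA1, ← hA'adj, smul_smul, ← mul_assoc, mul_comm t⁻¹ a, mul_assoc, inv_mul_cancel₀ ht0, mul_comm, one_mul]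
  have hμ : (A : Matrix β β F) * adj GB (A : Matrix β β F) = (a * t) • 1 := by
    conv_lhs => rw [← hA'adj]
    rw [adj_smul, adj_adj hB, hA'adj, Matrix.mul_smul, hAA]
  refine ⟨A, fun y => (hA y).1, ⟨a * t, mul_ne_zero ha ht0, hμ⟩, fun u hu => ?_⟩
  by_cases hue : u ∈ Submodule.span F {e}
  · obtain ⟨r, rfl⟩ := Submodule.mem_span_singleton.1 hue
    exact ⟨r • e, fun y => by
      rw [K_smul_left, Matrix.smul_kronecker, Matrix.mul_smul, (hA y).1, Matrix.smul_kronecker]⟩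
  obtain ⟨p₁, S₁, hp₁, hS₁⟩ := hsie u hu
  set q := t⁻¹ • p₁ with hq
  have hq0 : fm G q e = 0 := by rw [hq, fm_smul_left, hp₁, mul_zero]
  have hSu : ∀ y, g₀ * (K G u y ⊗ₖ 1) = K G q y ⊗ₖ (A : Matrix β β F) + K G e y ⊗ₖ S₁ := fun y => by
    rw [hS₁, hq, K_smul_left, Matrix.smul_kronecker, ← kron_smul, ← hA1A]
  have hqe : q ∉ Submodule.span F {e} := by
    intro hmem
    obtain ⟨r, hr⟩ := Submodule.mem_span_singleton.1 hmem
    apply hue
    set Z := A' * (r • (A : Matrix β β F) + S₁) with hZ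
    have h1 : g₀ * (K G u f ⊗ₖ 1) = g₀ * (K G e f ⊗ₖ Z) := by
      rw [hSu, kron_one_mul _ Z, ← Matrix.mul_assoc, (hA f).1, ← Matrix.mul_kronecker_mul, Matrix.mul_one, hZ,
        ← Matrix.mul_assoc, hAA, Matrix.one_mul, kron_add, kron_smul, ← hr, K_smul_left, Matrix.smul_kronecker]
    have h2 : K G u f ⊗ₖ (1 : Matrix β β F) = K G e f ⊗ₖ Z := by
      have := congrArg (g' * ·) h1
      simpa only [← Matrix.mul_assoc, hg', hg₀, ← Units.val_mul, inv_mul_cancel, Units.val_one,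
        Matrix.one_mul] using this
    obtain ⟨s, hs, -⟩ := kron_eq_kron h2 (fun h => by
      rcases K_eq_zero hG.isForm h with h' | h' <;> simp [h', fm_zero_right, fm_zero_left] at hf) one_ne_zero
    refine Submodule.mem_span_singleton.2 ⟨s, ?_⟩
    rw [← K_smul_left, ← sub_eq_zero, sub_eq_add_neg, ← neg_one_smul F (K G (s • e) f), ← K_smul_left,
      ← K_add_left] at hs
    have h4 := (K_eq_zero hG.isForm hs).resolve_right fun h' => by simp [h', fm_zero_right] at hf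
    rw [neg_one_smul, ← sub_eq_add_neg, sub_eq_zero] at h4
    exact h4.symm
  -- the conjugate of the root at `u` shows that `S₁` is a multiple of `A`
  obtain ⟨z', hz'⟩ : ∃ z', fm G z' f = 1 := ⟨e, hf⟩
  have hSu1 : ∀ y, g₀ * (K G u y ⊗ₖ 1) = K G p₁ y ⊗ₖ A1 + K G e y ⊗ₖ S₁ := hS₁
  set D := a⁻¹ • (S₁ * adj GB (A : Matrix β β F)) with hD
  have hDad : adj GB D = a⁻¹ • ((A : Matrix β β F) * adj GB S₁) := by rw [hD, adj_smul, adj_mul hB, adj_adj hB]
  have hconjn : g₀ * (K G u u ⊗ₖ 1) * g' = ((a * t) / a) • (K G q q ⊗ₖ 1) + K G q e ⊗ₖ adj GB D +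
      (K G e q ⊗ₖ D + K G e e ⊗ₖ (a⁻¹ • (S₁ * adj GB S₁))) := by
    have h0 : K G u u ⊗ₖ (1 : Matrix β β F) = (K G u f ⊗ₖ 1) * (K G z' u ⊗ₖ 1) := by
      rw [← Matrix.mul_kronecker_mul, K_mul_K, hz', one_smul, Matrix.mul_one]
    have hr := hadjrow u p₁ S₁ hSu1 z'
    have hr' : (K G z' u ⊗ₖ (1 : Matrix β β F)) * g' =
        a⁻¹ • (K G z' q ⊗ₖ adj GB (A : Matrix β β F) + K G z' e ⊗ₖ adj GB S₁) := by
      rw [hr, hA1A, adj_smul, kron_smul, hq, K_smul_right, Matrix.smul_kronecker]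
    rw [h0, ← Matrix.mul_assoc, Matrix.mul_assoc, hr', hSu, Matrix.mul_smul, add_mul, mul_add, mul_add,
      ← Matrix.mul_kronecker_mul, ← Matrix.mul_kronecker_mul, ← Matrix.mul_kronecker_mul, ← Matrix.mul_kronecker_mul,
      K_mul_K, K_mul_K, K_mul_K, K_mul_K, hz', one_smul, one_smul, one_smul, one_smul, hμ, hDad, hD]
    simp only [kron_smul, smul_add, smul_smul]
    rw [div_eq_inv_mul]
  set μ' := (a * t) / a with hμ'
  have hmem : Mem M' (Em G GB e q D (a⁻¹ • (S₁ * adj GB S₁))) := by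
    refine ⟨g * kr (rt hG u 1, 1) * g⁻¹ * kr (rt hG q (-μ'), 1),
      mul_mem (hconj _ (hO.sp _ (rt_mem_iso hG u 1))) (hO'.sp _ (rt_mem_iso hG _ _)), ?_⟩
    have e1 : ((g * kr (rt hG u 1, (1 : GL β F)) * g⁻¹ : GL (σ × β) F) : Matrix (σ × β) (σ × β) F) =
        1 + g₀ * (K G u u ⊗ₖ 1) * g' := by
      rw [Units.val_mul, Units.val_mul, kr_val, rt_val, one_smul, Units.val_one, Matrix.add_kronecker,
        Matrix.one_kronecker_one, mul_add, Matrix.mul_one, add_mul, ← Units.val_mul, mul_inv_cancel, Units.val_one]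
    rw [Units.val_mul, e1, hconjn, kr_val, rt_val, Units.val_one, Matrix.add_kronecker, Matrix.one_kronecker_one,
      Matrix.smul_kronecker, neg_smul]
    simp only [Em, add_mul, mul_add, Matrix.one_mul, Matrix.mul_one, mul_neg, Matrix.mul_smul, Matrix.smul_mul,
      ← Matrix.mul_kronecker_mul, K_mul_K, hq0, hG.self, zero_smul, Matrix.zero_kronecker, smul_zero, add_zero]
    abel
  obtain ⟨h, hh, hhe⟩ := hmem
  obtain ⟨L, -, hLh, -⟩ := inR_kr hG hB hO' hh he (by
    rw [hhe]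
    exact ⟨(Em_inR hG hq0 D _).1, fun v hv => ⟨_, (Em_inR hG hq0 D _).2 v hv⟩⟩)
  obtain ⟨z, hz1, hz2⟩ := exists_perp_dual hG (a := e) (c := q) hqe
  have hDs : ∃ r : F, D = r • 1 := by
    have h1 := (Em_inR (GB := GB) hG hq0 D (a⁻¹ • (S₁ * adj GB S₁))).2 (-z)
      (by rw [fm_neg_left, hG.fm_swap e z, hz1]; ring) f
    rw [← hhe, hLh, kr_val, Units.val_one, ← Matrix.mul_kronecker_mul, mul_K, Matrix.mul_one, fm_neg_left,
      hG.fm_swap q z, hz2, neg_neg, one_smul] at h1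
    have h2 : K G ((L : Matrix σ σ F) *ᵥ (-z) + (-1 : F) • (-z)) f ⊗ₖ (1 : Matrix β β F) = K G e f ⊗ₖ D := by
      rw [K_add_left, K_smul_left, Matrix.add_kronecker, Matrix.smul_kronecker, h1, neg_one_smul]
      abel
    obtain ⟨r, -, hr⟩ := kron_eq_kron h2 (fun h => by
      rcases K_eq_zero hG.isForm h with h' | h' <;> simp [h', fm_zero_right, fm_zero_left] at hf) one_ne_zero
    exact ⟨r, hr⟩
  obtain ⟨r, hr⟩ := hDs
  have hS1 : S₁ = (r / t) • (A : Matrix β β F) := by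
    have h1 : adj GB (A : Matrix β β F) = (a * t) • A' := by
      have := congrArg (A' * ·) hμ
      simpa only [← Matrix.mul_assoc, hA', ← Units.val_mul, inv_mul_cancel, Units.val_one, Matrix.one_mul,
        Matrix.mul_smul, Matrix.mul_one] using this
    rw [hD, h1, Matrix.mul_smul, smul_smul, ← mul_assoc, inv_mul_cancel₀ ha, one_mul] at hr
    have := congrArg (· * (A : Matrix β β F)) hr
    simp only [Matrix.smul_mul, Matrix.mul_assoc, hA', ← Units.val_mul, inv_mul_cancel, Units.val_one, Matrix.mul_one,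
      Matrix.one_mul] at this
    rw [div_eq_inv_mul, mul_smul, ← this, inv_smul_smul₀ ht0]
  exact ⟨q + (r / t) • e, fun y => by
    rw [hSu, hS1, K_add_left, K_smul_left G (r / t), Matrix.add_kronecker, Matrix.smul_kronecker (r / t), kron_smul]⟩

omit hO hO' hconj he hc hn in
/-- a map sending all pure blocks to pure blocks with one second factor is a Kronecker product -/
theorem kr_of_pure [Nonempty σ] {A : GL β F}
    (hp : ∀ u, ∃ w, ∀ y, (g : Matrix (σ × β) (σ × β) F) * (K G u y ⊗ₖ 1) = K G w y ⊗ₖ (A : Matrix β β F)) :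
    ∃ (L : GL σ F) (b d : F), b ≠ 0 ∧ d ≠ 0 ∧ g = kr (L, A) ∧ (L : Matrix σ σ F)ᵀ * G * L = b • G ∧
      (A : Matrix β β F)ᵀ * GB * (A : Matrix β β F) = d • GB := by
  classical
  choose w hw using hp
  set x : σ → σ → F := fun j => G⁻¹ *ᵥ Pi.single j 1 with hx
  have hK : ∀ j, K G (Pi.single j 1) (x j) = Matrix.single j j (1 : F) := fun j => by
    rw [K, hx, mulVec_mulVec, hG.isForm.mul_inv, one_mulVec, ← Matrix.single_eq_single_vecMulVec_single]
  have hone : (1 : Matrix σ σ F) = ∑ j, K G (Pi.single j 1) (x j) := by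
    simp only [hK]
    exact (Matrix.sum_single_one).symm
  set L₀ := ∑ j, K G (w (Pi.single j 1)) (x j) with hL₀
  have hgv : (g : Matrix (σ × β) (σ × β) F) = L₀ ⊗ₖ (A : Matrix β β F) := by
    let φ : Matrix σ σ F →+ Matrix (σ × β) (σ × β) F :=
      { toFun := fun X => (g : Matrix (σ × β) (σ × β) F) * (X ⊗ₖ 1)
        map_zero' := by simp
        map_add' := fun X Y => by rw [Matrix.add_kronecker, mul_add] }
    let ψ : Matrix σ σ F →+ Matrix (σ × β) (σ × β) F :=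
      { toFun := fun X => X ⊗ₖ (A : Matrix β β F)
        map_zero' := Matrix.zero_kronecker _
        map_add' := fun X Y => Matrix.add_kronecker _ _ _ }
    have h1 : φ 1 = ψ L₀ := by
      rw [hone, map_sum, hL₀, map_sum]
      exact Finset.sum_congr rfl fun j _ => hw _ _
    simpa [φ, ψ] using h1
  have hdet : IsUnit L₀.det := by
    have h1 : IsUnit ((g : Matrix (σ × β) (σ × β) F)).det := (Matrix.isUnit_iff_isUnit_det _).1 g.isUnit
    rw [hgv, Matrix.det_kronecker, IsUnit.mul_iff] at h1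
    exact (isUnit_pow_iff Fintype.card_ne_zero).1 h1.1
  set L := Matrix.nonsingInvUnit L₀ hdet with hL
  have hLv : (L : Matrix σ σ F) = L₀ := rfl
  have hsim : (L₀ᵀ * G * L₀) ⊗ₖ ((A : Matrix β β F)ᵀ * GB * (A : Matrix β β F)) = G ⊗ₖ (a • GB) := by
    rw [kron_smul, ← hs, hgv, ← Matrix.kroneckerMap_transpose, ← Matrix.mul_kronecker_mul,
      ← Matrix.mul_kronecker_mul]
  have hB0 : (A : Matrix β β F)ᵀ * GB * (A : Matrix β β F) ≠ 0 := fun h => by
    have h1 : IsUnit ((A : Matrix β β F)ᵀ * GB * (A : Matrix β β F)).det := by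
      rw [Matrix.det_mul, Matrix.det_mul, Matrix.det_transpose]
      exact (((Matrix.isUnit_iff_isUnit_det _).1 A.isUnit).mul hB.det).mul
        ((Matrix.isUnit_iff_isUnit_det _).1 A.isUnit)
    rw [h] at h1
    simp at h1
  have hG0 : G ≠ 0 := fun h => by
    have h1 := hG.det
    rw [h] at h1
    simp at h1
  obtain ⟨b, hb, hd⟩ := kron_eq_kron hsim hG0 hB0
  have hb0 : b ≠ 0 := fun h => by
    rw [h, zero_smul] at hd
    rcases smul_eq_zero.1 hd with h' | h'
    · exact ha h'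
    · have h1 := hB.det
      rw [h'] at h1
      simp at h1
  exact ⟨L, b, b⁻¹ * a, hb0, mul_ne_zero (inv_ne_zero hb0) ha, Units.ext hgv, hb,
    by rw [← smul_smul, hd, inv_smul_smul₀ hb0]⟩

omit hO hO' hconj ha hs he hc hn in
theorem kr_pure_span {e f : σ → F} (hf : fm G e f = 1) {A : Matrix β β F}
    (hperp : ∀ u, fm G u e = 0 → ∃ w, ∀ y, (g : Matrix (σ × β) (σ × β) F) * (K G u y ⊗ₖ 1) = K G w y ⊗ₖ A)
    (hff : ∃ w, ∀ y, (g : Matrix (σ × β) (σ × β) F) * (K G f y ⊗ₖ 1) = K G w y ⊗ₖ A) (u : σ → F) :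
    ∃ w, ∀ y, (g : Matrix (σ × β) (σ × β) F) * (K G u y ⊗ₖ 1) = K G w y ⊗ₖ A := by
  obtain ⟨w₁, h₁⟩ := hperp (u + fm G u e • f) (by
    rw [fm_add_left, fm_smul_left, hG.fm_swap e f, hf]; ring)
  obtain ⟨w₂, h₂⟩ := hff
  refine ⟨w₁ + (-fm G u e) • w₂, fun y => ?_⟩
  rw [K_add_left, K_smul_left, Matrix.add_kronecker, Matrix.smul_kronecker, ← h₁, ← h₂, ← Matrix.mul_smul, ← mul_add,
    ← Matrix.smul_kronecker, ← Matrix.add_kronecker, ← K_smul_left, ← K_add_left, add_assoc, ← add_smul,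
    add_neg_cancel, zero_smul, add_zero]

omit hn in
/-- **a similitude mapping a root to a multiple of itself is a Kronecker product** -/
theorem sim_kr [Nonempty σ] (hn : (g : Matrix (σ × β) (σ × β) F) * (K G e e ⊗ₖ 1) =
      c • ((K G e e ⊗ₖ 1) * (g : Matrix (σ × β) (σ × β) F)))
    (hk : 3 ≤ Fintype.card σ ∨ Fintype.card σ = 2 ∧ ∃ l : F, l ≠ 0 ∧ l * l ≠ 1) :
    ∃ (L : GL σ F) (A : GL β F) (b d : F), b ≠ 0 ∧ d ≠ 0 ∧ g = kr (L, A) ∧
      (L : Matrix σ σ F)ᵀ * G * L = b • G ∧ (A : Matrix β β F)ᵀ * GB * A = d • GB := by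
  classical
  obtain ⟨f, hf⟩ := exists_partner hG he
  have hfe : fm G f e = -1 := by rw [hG.fm_swap e f, hf]
  rcases hk with h3 | ⟨h2, l, hl, hl2⟩
  · obtain ⟨A, hAe, ⟨μ, hμ0, hμ⟩, hperp⟩ := cent_perp hG hB hO hO' ha hs hconj he hc hn h3
    obtain ⟨u, hu, hue, huf⟩ := exists_perp_pair hG h3 e f
    obtain ⟨w, hw⟩ := hperp u hue
    have hA0 : (A : Matrix β β F) ≠ 0 := fun h => by
      have h1 := (Matrix.isUnit_iff_isUnit_det _).1 A.isUnit
      rw [h] at h1
      simp at h1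
    obtain ⟨z, hz⟩ := exists_partner hG hu
    have hKuz : K G u z ≠ 0 := fun h => by
      rcases K_eq_zero hG.isForm h with h' | h' <;> simp [h', fm_zero_right, fm_zero_left] at hz
    have hw0 : w ≠ 0 := fun h0 => hKuz <| by
      have h1 := hw z
      rw [h0, K_zero_left, Matrix.zero_kronecker] at h1
      have h2 := congrArg (((g⁻¹ : GL (σ × β) F) : Matrix (σ × β) (σ × β) F) * ·) h1
      simp only [← Matrix.mul_assoc, ← Units.val_mul, inv_mul_cancel, Units.val_one, Matrix.one_mul,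
        Matrix.mul_zero] at h2
      exact kron_injective_left one_ne_zero (h2.trans (Matrix.zero_kronecker _).symm)
    obtain ⟨L₀, hL₀, hLw⟩ := exists_trans hG hw0 hu
    set g₁ := kr (L₀, (1 : GL β F)) * g with hg₁
    have hg₁v : (g₁ : Matrix (σ × β) (σ × β) F) =
        ((L₀ : Matrix σ σ F) ⊗ₖ (1 : Matrix β β F)) * (g : Matrix (σ × β) (σ × β) F) := by
      rw [hg₁, Units.val_mul, kr_val, Units.val_one]
    have hs₁ : (g₁ : Matrix (σ × β) (σ × β) F)ᵀ * (G ⊗ₖ GB) * g₁ = a • (G ⊗ₖ GB) := by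
      rw [hg₁v, Matrix.transpose_mul, Matrix.mul_assoc, Matrix.mul_assoc, ← Matrix.mul_assoc (G ⊗ₖ GB),
        ← Matrix.mul_assoc ((L₀ : Matrix σ σ F) ⊗ₖ (1 : Matrix β β F))ᵀ,
        ← Matrix.mul_assoc ((L₀ : Matrix σ σ F) ⊗ₖ (1 : Matrix β β F))ᵀ, ← Matrix.kroneckerMap_transpose,
        ← Matrix.mul_kronecker_mul, ← Matrix.mul_kronecker_mul, mem_iso.1 hL₀, Matrix.transpose_one, Matrix.one_mul,
        Matrix.mul_one, ← Matrix.mul_assoc, hs]
    have hconj₁ : ∀ x ∈ M, g₁ * x * g₁⁻¹ ∈ M' := fun x hx => by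
      rw [hg₁, show kr (L₀, (1 : GL β F)) * g * x * (kr (L₀, (1 : GL β F)) * g)⁻¹ =
        kr (L₀, (1 : GL β F)) * (g * x * g⁻¹) * (kr (L₀, (1 : GL β F)))⁻¹ by group]
      exact mul_mem (mul_mem (hO'.sp _ hL₀) (hconj x hx)) (inv_mem (hO'.sp _ hL₀))
    have hu₁ : ∀ y, (g₁ : Matrix (σ × β) (σ × β) F) * (K G u y ⊗ₖ 1) = K G u y ⊗ₖ (A : Matrix β β F) := fun y => by
      rw [hg₁v, Matrix.mul_assoc, hw, ← Matrix.mul_kronecker_mul, mul_K, hLw, Matrix.one_mul]
    have hn₁ : (g₁ : Matrix (σ × β) (σ × β) F) * (K G u u ⊗ₖ 1) =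
        (μ / a) • ((K G u u ⊗ₖ 1) * (g₁ : Matrix (σ × β) (σ × β) F)) := by
      have hF := kron_isForm hG.isForm hB
      have hz' : fm G (-z) u = 1 := by rw [fm_neg_left, hG.fm_swap u z, hz, neg_neg]
      have h1 := congrArg (adj (G ⊗ₖ GB)) (hu₁ u)
      rw [adj_mul hF, (adj_of_sim hF ha hs₁).1, adj_kron hG.isForm hB, adj_kron hG.isForm hB, adj_one hB, hG.adj_K,
        neg_kron, neg_kron, Matrix.mul_smul, Matrix.neg_mul, smul_neg, neg_inj] at h1
      have h2 := congrArg (fun X => ((1 : Matrix σ σ F) ⊗ₖ (A : Matrix β β F)) * X *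
        (g₁ : Matrix (σ × β) (σ × β) F)) h1
      simp only [Matrix.mul_smul, Matrix.smul_mul] at h2
      rw [Matrix.mul_assoc, Matrix.mul_assoc (K G u u ⊗ₖ (1 : Matrix β β F)), ← Units.val_mul, inv_mul_cancel,
        Units.val_one, Matrix.mul_one, ← Matrix.mul_kronecker_mul, ← Matrix.mul_kronecker_mul, Matrix.one_mul,
        Matrix.mul_one, hμ, kron_smul, Matrix.smul_mul] at h2
      rw [hu₁, div_eq_inv_mul, mul_smul, ← h2, inv_smul_smul₀ ha]
    obtain ⟨A₁, hA₁, -, hperp₁⟩ := cent_perp hG hB hO hO' ha hs₁ hconj₁ hu (div_ne_zero hμ0 ha) hn₁ h3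
    have hAA : (A₁ : Matrix β β F) = (A : Matrix β β F) := kron_injective_right hKuz ((hA₁ z).symm.trans (hu₁ z))
    obtain ⟨w', hw'⟩ := hperp₁ f (by rw [hG.fm_swap u f, huf, neg_zero])
    have hff : ∀ y, (g : Matrix (σ × β) (σ × β) F) * (K G f y ⊗ₖ 1) =
        K G (((L₀⁻¹ : GL σ F) : Matrix σ σ F) *ᵥ w') y ⊗ₖ (A : Matrix β β F) := fun y => by
      rw [← hAA, ← mul_K]
      conv_rhs => rw [← Matrix.one_mul (A₁ : Matrix β β F), Matrix.mul_kronecker_mul, ← hw', hg₁v, ← Matrix.mul_assoc,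
        ← Matrix.mul_assoc, ← Matrix.mul_kronecker_mul, ← Units.val_mul, inv_mul_cancel, Units.val_one, Matrix.one_mul,
        Matrix.one_kronecker_one, Matrix.one_mul]
    obtain ⟨L, b, d, h⟩ := kr_of_pure hG hB ha hs (kr_pure_span hG hB hf hperp ⟨_, hff⟩)
    exact ⟨L, A, b, d, h⟩
  · obtain ⟨A, hA⟩ := cent_image hG hB he hc hn
    obtain ⟨τ, hτ, hτe, hτf, -⟩ := exists_tor hG hf hl
    have hdec : ∀ f' : σ → F, fm G e f' = 1 → (1 : Matrix σ σ F) = K G e f' - K G f' e := by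
      intro f' hf'
      have hfe' : fm G f' e = -1 := by rw [hG.fm_swap e f', hf']
      refine Matrix.toLin'.injective (LinearMap.ext fun v => ?_)
      simp only [Matrix.toLin'_apply, one_mulVec, sub_mulVec, K_mulVec]
      rw [← sub_eq_zero]
      by_contra hne
      set r := v - (fm G v f' • e - fm G v e • f') with hr
      have hre : fm G r e = 0 ∧ fm G r f' = 0 := by
        rw [hr, ← sub_add]
        exact perp_part hG hf' v
      obtain ⟨z, hz1, hz2, hz3⟩ := exists_partner_perp hG hf' hne hre.1 hre.2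
      -- three independent vectors in a plane
      have hli : LinearIndependent F ![e, f', r] := by
        rw [Fintype.linearIndependent_iff]
        intro q hq
        simp only [Fin.sum_univ_three, Matrix.cons_val_zero, Matrix.cons_val_one, Matrix.cons_val] at hq
        have q0 := congrArg (fun x => fm G x f') hq
        have q1 := congrArg (fun x => fm G x e) hq
        have q2 := congrArg (fun x => fm G x z) hq
        simp only [fm_add_left, fm_smul_left, fm_zero_left, hG.self, hf', hfe', hre.1, hre.2, hz1,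
          hG.fm_swap z e, hG.fm_swap z f', hz2, hz3, neg_zero, mul_zero, mul_one, mul_neg, add_zero, zero_add,
          neg_eq_zero] at q0 q1 q2
        intro i
        fin_cases i <;> assumption
      have := hli.fintype_card_le_finrank
      rw [Fintype.card_fin, Module.finrank_fintype_fun_eq_card, h2] at this
      omega
    set h := g * kr (τ, (1 : GL β F)) * g⁻¹ with hh
    have hhM : h ∈ M' := hconj _ (hO.sp _ hτ)
    have hhv : ∀ y, (h : Matrix (σ × β) (σ × β) F) * (K G e y ⊗ₖ 1) = l • (K G e y ⊗ₖ (1 : Matrix β β F)) := fun y => by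
      rw [hh, Units.val_mul, Units.val_mul, Matrix.mul_assoc, (hA y).2, Matrix.mul_assoc, kr_val,
        ← Matrix.mul_kronecker_mul, mul_K, hτe, Units.val_one, Matrix.one_mul, K_smul_left, Matrix.smul_kronecker,
        Matrix.mul_smul, kron_one_mul _ ((A⁻¹ : GL β F) : Matrix β β F), ← Matrix.mul_assoc, (hA y).1,
        ← Matrix.mul_kronecker_mul, Matrix.mul_one, ← Units.val_mul, mul_inv_cancel, Units.val_one]
    set q := (kr (τ, (1 : GL β F)))⁻¹ * h with hq
    have hqe : ∀ y, (q : Matrix (σ × β) (σ × β) F) * (K G e y ⊗ₖ 1) = K G e y ⊗ₖ 1 := fun y => by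
      have e1 : (kr (τ, (1 : GL β F)) : Matrix (σ × β) (σ × β) F) * (K G e y ⊗ₖ (1 : Matrix β β F)) =
          l • (K G e y ⊗ₖ (1 : Matrix β β F)) := by
        rw [kr_val, ← Matrix.mul_kronecker_mul, mul_K, hτe, Units.val_one, Matrix.one_mul, K_smul_left,
          Matrix.smul_kronecker]
      rw [hq, Units.val_mul, Matrix.mul_assoc, hhv, ← e1, ← Matrix.mul_assoc, ← Units.val_mul, inv_mul_cancel,
        Units.val_one, Matrix.one_mul]
    have hR : InR G e (q : Matrix (σ × β) (σ × β) F) := by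
      refine ⟨hqe, fun v hv => ⟨0, fun y => ?_⟩⟩
      have hv' : v = fm G v f • e := by
        have := congrArg (· *ᵥ v) (hdec f hf)
        simpa [sub_mulVec, K_mulVec, hv] using this
      rw [hv', K_smul_left, Matrix.smul_kronecker, Matrix.mul_smul, hqe, kron_zero, add_zero]
    obtain ⟨L₁, hL₁, hq₁, hL₁e⟩ := inR_kr hG hB hO' (mul_mem (inv_mem (hO'.sp _ hτ)) hhM) he hR
    set Λ := τ * L₁ with hΛ
    have hΛv : (h : Matrix (σ × β) (σ × β) F) = (Λ : Matrix σ σ F) ⊗ₖ (1 : Matrix β β F) := by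
      rw [← hq] at hq₁
      rw [show h = kr (τ, 1) * q by rw [hq, mul_inv_cancel_left], hq₁, ← map_mul, Prod.mk_mul_mk, one_mul, kr_val,
        Units.val_one]
    have hΛe : (Λ : Matrix σ σ F) *ᵥ e = l • e := by
      rw [hΛ, Units.val_mul, ← mulVec_mulVec, hL₁e, hτe]
    have hll : l⁻¹ - l ≠ 0 := fun h0 => hl2 (by
      rw [sub_eq_zero] at h0
      rw [← inv_mul_cancel₀ hl, h0])
    set v := (Λ : Matrix σ σ F) *ᵥ f with hv
    have hve : fm G e v = l⁻¹ := by
      have := mem_iso_fm.1 (mul_mem hτ hL₁) e f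
      rw [← hΛ, hΛe, fm_smul_left, ← hv, hf] at this
      exact eq_inv_of_mul_eq_one_right this
    set f' := f + (fm G v f / (l⁻¹ - l)) • e with hf'
    have hef' : fm G e f' = 1 := by rw [hf', fm_add_right, fm_smul_right, hG.self, hf]; ring
    have hΛf : (Λ : Matrix σ σ F) *ᵥ f' = l⁻¹ • f' := by
      have hv' : v = fm G v f • e + l⁻¹ • f := by
        have := congrArg (· *ᵥ v) (hdec f hf)
        simp only [one_mulVec, sub_mulVec, K_mulVec, hG.fm_swap e v, hve] at this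
        rw [neg_smul, sub_neg_eq_add] at this
        exact this
      rw [hf', mulVec_add, mulVec_smul, hΛe, ← hv]
      generalize fm G v f = r at hv' ⊢
      rw [hv']
      have hl3 : (1 : F) - l ^ 2 ≠ 0 := sub_ne_zero.2 fun h0 => hl2 (by rw [h0]; ring)
      match_scalars <;> field_simp <;> ring
    set A₁ := a • adj GB ((A⁻¹ : GL β F) : Matrix β β F) with hA₁
    have hgf : ∀ y, (g : Matrix (σ × β) (σ × β) F) * (K G f y ⊗ₖ 1) = K G f' y ⊗ₖ A₁ := by
      intro y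
      set X := (g : Matrix (σ × β) (σ × β) F) * (K G f y ⊗ₖ 1) with hX
      have hhg : h * g = g * kr (τ, (1 : GL β F)) := by rw [hh, inv_mul_cancel_right]
      have h1 : (h : Matrix (σ × β) (σ × β) F) * X = l⁻¹ • X := by
        rw [hX, ← Matrix.mul_assoc, ← Units.val_mul, hhg, Units.val_mul, Matrix.mul_assoc, kr_val, Units.val_one,
          ← Matrix.mul_kronecker_mul, mul_K, hτf, Matrix.one_mul, K_smul_left, Matrix.smul_kronecker, Matrix.mul_smul]
      set P := (K G e f' ⊗ₖ (1 : Matrix β β F)) * X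
      set Q := (K G f' e ⊗ₖ (1 : Matrix β β F)) * X with hQ
      have hXPQ : X = P - Q := by
        conv_lhs => rw [← Matrix.one_mul X, ← Matrix.one_kronecker_one, hdec f' hef']
        rw [sub_eq_add_neg, Matrix.add_kronecker, neg_kron, add_mul, Matrix.neg_mul, ← sub_eq_add_neg]
      have hP' : ((Λ : Matrix σ σ F) ⊗ₖ (1 : Matrix β β F)) * (K G e f' ⊗ₖ (1 : Matrix β β F)) =
          l • (K G e f' ⊗ₖ (1 : Matrix β β F)) := by
        rw [← Matrix.mul_kronecker_mul, mul_K, hΛe, Matrix.one_mul, K_smul_left, Matrix.smul_kronecker]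
      have hQ' : ((Λ : Matrix σ σ F) ⊗ₖ (1 : Matrix β β F)) * (K G f' e ⊗ₖ (1 : Matrix β β F)) =
          l⁻¹ • (K G f' e ⊗ₖ (1 : Matrix β β F)) := by
        rw [← Matrix.mul_kronecker_mul, mul_K, hΛf, Matrix.one_mul, K_smul_left, Matrix.smul_kronecker]
      have h2 : (h : Matrix (σ × β) (σ × β) F) * X = l • P - l⁻¹ • Q := by
        rw [hXPQ, mul_sub, hΛv]
        congr 1
        · show _ * ((K G e f' ⊗ₖ (1 : Matrix β β F)) * X) = _
          rw [← Matrix.mul_assoc, hP', Matrix.smul_mul]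
        · show _ * ((K G f' e ⊗ₖ (1 : Matrix β β F)) * X) = _
          rw [← Matrix.mul_assoc, hQ', Matrix.smul_mul]
      have h3 : (l⁻¹ - l) • P = 0 := by
        rw [sub_smul, sub_eq_zero]
        have h4 := h1.symm.trans h2
        rw [hXPQ, smul_sub, sub_left_inj] at h4
        exact h4
      rw [hXPQ, (smul_eq_zero.1 h3).resolve_left hll, zero_sub, hQ, hX, ← Matrix.mul_assoc,
        cent_row hG hB ha hs he hc hn hA f', ← Matrix.mul_kronecker_mul, K_mul_K, hfe, Matrix.mul_one,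
        Matrix.smul_kronecker, neg_one_smul, neg_neg]
    -- the conjugate of the root at `f`
    have hF := kron_isForm hG.isForm hB
    have hadjA₁ : adj GB A₁ = a • ((A⁻¹ : GL β F) : Matrix β β F) := by rw [hA₁, adj_smul, adj_adj hB]
    obtain ⟨ν, hν⟩ := hO'.top f' (a⁻¹ • (A₁ * adj GB A₁)) (fun h0 => by simp [h0, fm_zero_right] at hef')
      ⟨g * kr (rt hG f 1, 1) * g⁻¹, hconj _ (hO.sp _ (rt_mem_iso hG f 1)), by
        have hrow : (K G f f' ⊗ₖ adj GB A₁) = a • ((K G f f ⊗ₖ (1 : Matrix β β F)) *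
            ((g⁻¹ : GL (σ × β) F) : Matrix (σ × β) (σ × β) F)) := by
          have h1 := congrArg (adj (G ⊗ₖ GB)) (hgf f)
          rw [adj_mul hF, (adj_of_sim hF ha hs).1, adj_kron hG.isForm hB, adj_kron hG.isForm hB, adj_one hB,
            hG.adj_K, hG.adj_K, neg_kron, neg_kron, Matrix.mul_smul, Matrix.neg_mul, smul_neg, neg_inj] at h1
          exact h1.symm
        rw [Units.val_mul, Units.val_mul, kr_val, rt_val, one_smul, Units.val_one, Matrix.add_kronecker,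
          Matrix.one_kronecker_one, mul_add, Matrix.mul_one, add_mul, ← Units.val_mul, mul_inv_cancel, Units.val_one]
        congr 1
        have hff : K G f f ⊗ₖ (1 : Matrix β β F) = (K G f e ⊗ₖ 1) * (K G (-f) f ⊗ₖ 1) := by
          rw [← Matrix.mul_kronecker_mul, K_mul_K, fm_neg_left, hfe, neg_neg, one_smul, Matrix.mul_one]
        rw [hff, ← Matrix.mul_assoc (g : Matrix (σ × β) (σ × β) F), hgf e, Matrix.mul_assoc]
        have hrow' : (K G (-f) f ⊗ₖ (1 : Matrix β β F)) * ((g⁻¹ : GL (σ × β) F) : Matrix (σ × β) (σ × β) F) =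
            -(a⁻¹ • (K G f f' ⊗ₖ adj GB A₁)) := by
          rw [show K G (-f) f = -K G f f from neg_vecMulVec _ _, neg_kron, Matrix.neg_mul, hrow,
            inv_smul_smul₀ ha]
        rw [hrow', mul_neg, Matrix.mul_smul, ← Matrix.mul_kronecker_mul, K_mul_K, hG.fm_swap e f, hf,
          Matrix.smul_kronecker, neg_one_smul, smul_neg, neg_neg, kron_smul]⟩
    have hA₁A : A₁ = ν • (A : Matrix β β F) := by
      rw [hadjA₁, Matrix.mul_smul, inv_smul_smul₀ ha] at hν
      have := congrArg (· * (A : Matrix β β F)) hν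
      simp only [Matrix.mul_assoc, ← Units.val_mul, inv_mul_cancel, Units.val_one, Matrix.mul_one, Matrix.smul_mul,
        Matrix.one_mul] at this
      exact this
    have hperp : ∀ u, fm G u e = 0 → ∃ w, ∀ y,
        (g : Matrix (σ × β) (σ × β) F) * (K G u y ⊗ₖ 1) = K G w y ⊗ₖ (A : Matrix β β F) := fun u hu => by
      refine ⟨fm G u f • e, fun y => ?_⟩
      have hu' : u = fm G u f • e := by
        have := congrArg (· *ᵥ u) (hdec f hf)
        simpa [sub_mulVec, K_mulVec, hu] using this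
      conv_lhs => rw [hu']
      rw [K_smul_left, Matrix.smul_kronecker, Matrix.mul_smul, (hA y).1, Matrix.smul_kronecker]
    obtain ⟨L, b, d, h'⟩ := kr_of_pure hG hB ha hs (kr_pure_span hG hB hf hperp
      ⟨ν • f', fun y => by rw [hgf, hA₁A, K_smul_left, kron_smul, Matrix.smul_kronecker]⟩)
    exact ⟨L, A, b, d, h'⟩

end Cent

end Cfsg.Agent.MaxCl.Pow
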