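/-
Overgroups of the isometry groups of all positions of a tensor power which contain no root-like monomial: at every
position they satisfy the hypotheses of the similitude lemma, and the condition is inherited by the other positions.
-/
import Cfsg.Agent.Lib.MaxCl.PowerSimil

set_option autoImplicit false
set_option linter.unusedSectionVars false

namespace Cfsg.Agent.MaxCl.Pow

open Matrix
open scoped MatrixGroups Kronecker

variable {σ : Type} [Fintype σ] [DecidableEq σ] {F : Type*} [Field F] {G : Matrix σ σ F}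
variable {κ : Type} [Fintype κ] [DecidableEq κ]

variable (κ G) in
/-- the form of the tensor power -/
def GG : Matrix (κ → σ) (κ → σ) F := ten fun _ => G

theorem ten_smul_all (c : F) (A : κ → Matrix σ σ F) :
    ten (fun i => c • A i) = c ^ Fintype.card κ • ten A := by
  ext x y
  simp [ten_apply, Finset.prod_mul_distrib, Finset.card_univ]

theorem gg_det (hG : IsForm G) : IsUnit (GG G κ).det := by
  rw [← Matrix.isUnit_iff_isUnit_det]
  exact (Pi.isUnit_iff.2 fun _ : κ => (Matrix.isUnit_iff_isUnit_det G).2 hG.det).map ten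

theorem gg_isForm (hG : IsForm G) : IsForm (GG G κ) := by
  obtain ⟨ε, hε, hs⟩ := hG.sign
  refine ⟨gg_det hG, ε ^ Fintype.card κ, by rw [← mul_pow, hε, one_pow], ?_⟩
  rw [GG, ten_transpose]
  simp only [hs]
  exact ten_smul_all ε _

theorem adj_ten (hG : IsForm G) (A : κ → Matrix σ σ F) : adj (GG G κ) (ten A) = ten fun i => adj G (A i) := by
  have h : (GG G κ)⁻¹ = ten fun _ : κ => G⁻¹ := Matrix.inv_eq_left_inv (by
    rw [GG, ← map_mul, ← map_one ten]
    congr 1
    funext i
    exact hG.inv_mul)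
  rw [adj, h, ten_transpose, GG, ← map_mul, ← map_mul]
  rfl

/-- pure tensors -/
def pv (x : κ → σ → F) : (κ → σ) → F := fun a => ∏ i, x i (a i)

theorem ten_mulVec (A : κ → Matrix σ σ F) (x : κ → σ → F) : ten A *ᵥ pv x = pv fun i => A i *ᵥ x i := by
  funext a
  simp only [mulVec, dotProduct, ten_apply, pv, ← Finset.prod_mul_distrib, Fintype.prod_sum]

theorem pv_ne_zero {x : κ → σ → F} (h : ∀ i, x i ≠ 0) : pv x ≠ 0 := by
  have h' : ∀ i, ∃ a, x i a ≠ 0 := fun i => Function.ne_iff.1 (h i)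
  choose a ha using h'
  exact fun h0 => Finset.prod_ne_zero_iff.2 (fun i _ => ha i) (congrFun h0 a)

theorem pv_eq_zero {x : κ → σ → F} {i : κ} (h : x i = 0) : pv x = 0 :=
  funext fun a => Finset.prod_eq_zero (Finset.mem_univ i) (by rw [h]; rfl)

/-! ### transport to a split position -/

theorem splM_transpose (i : κ) (X : Matrix (σ × (oth i → σ)) (σ × (oth i → σ)) F) :
    (splM F σ i X)ᵀ = splM F σ i Xᵀ := rfl

theorem splM_gg (i : κ) : splM F σ i (G ⊗ₖ GG G (oth i)) = GG G κ := by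
  rw [GG, splM_kron, GG]
  congr 1
  exact put_restrict i fun _ => G

theorem spl_mem_iso {i : κ} {g : GL (σ × (oth i → σ)) F} :
    spl F σ i g ∈ iso (GG G κ) ↔ g ∈ iso (G ⊗ₖ GG G (oth i)) := by
  rw [mem_iso, mem_iso, spl_val, splM_transpose, ← splM_gg i, ← map_mul, ← map_mul, (splM F σ i).injective.eq_iff]

variable (G) in
/-- no root-like monomials -/
def TS (M : Subgroup (GL (κ → σ) F)) : Prop :=
  ∀ X : κ → Matrix σ σ F, (∀ i, Fac G (X i)) → ∀ i j, i ≠ j → (∃ w, w ≠ 0 ∧ X i = K G w w) → X j ≠ 1 →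
    ∀ c : F, c ≠ 0 → ¬ Mem M (1 + c • ten X)

variable (G) in
/-- overgroups without root-like monomials -/
structure Over (M : Subgroup (GL (κ → σ) F)) : Prop where
  le : M ≤ iso (GG G κ)
  sl : ∀ i, ∀ g ∈ iso G, slot i g ∈ M
  ts : TS G M

theorem Over.ten_mem {M : Subgroup (GL (κ → σ) F)} (hM : Over G M) {L : κ → GL σ F} (hL : ∀ i, L i ∈ iso G) :
    tenGL L ∈ M := by
  classical
  suffices ∀ s : Finset κ, tenGL (s.piecewise L 1) ∈ M by simpa using this Finset.univ
  intro s
  induction s using Finset.induction with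
  | empty => rw [Finset.piecewise_empty, map_one]; exact one_mem _
  | @insert a s ha ih =>
    have e : (insert a s).piecewise L 1 = put a (L a) 1 * s.piecewise L 1 := by
      funext j
      by_cases h : j = a
      · subst h; simp [ha]
      · simp [h, put, Finset.piecewise]
    rw [e, map_mul]
    exact mul_mem (hM.sl a _ (hL a)) ih

/-- the group at a split position -/
def sub (i : κ) (M : Subgroup (GL (κ → σ) F)) : Subgroup (GL (σ × (oth i → σ)) F) :=
  M.comap (spl F σ i).toMonoidHom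

theorem mem_sub {i : κ} {M : Subgroup (GL (κ → σ) F)} {g : GL (σ × (oth i → σ)) F} :
    g ∈ sub i M ↔ spl F σ i g ∈ M := Iff.rfl

/-- the group on the other positions -/
def fib (i : κ) (M : Subgroup (GL (κ → σ) F)) : Subgroup (GL (oth i → σ) F) :=
  (sub i M).comap (kr.comp (MonoidHom.inr (GL σ F) (GL (oth i → σ) F)))

theorem mem_fib {i : κ} {M : Subgroup (GL (κ → σ) F)} {A : GL (oth i → σ) F} :
    A ∈ fib i M ↔ kr (1, A) ∈ sub i M := Iff.rfl

theorem splM_one_add (i : κ) (Z : Matrix σ σ F) (c : F) (A : oth i → Matrix σ σ F) :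
    splM F σ i (1 + c • (Z ⊗ₖ ten A)) = 1 + c • ten (put i Z A) := by
  rw [map_add, map_one, map_smul, splM_kron]

theorem Over.fib (hG : Alt G) [Nonempty σ] {M : Subgroup (GL (κ → σ) F)} (hM : Over G M) (i : κ) :
    Over G (fib i M) where
  le A hA := kr_left_iso (GB := GG G (oth i)) hG inferInstance (spl_mem_iso.1 (hM.le hA))
  sl j g hg := by
    rw [mem_fib, mem_sub, spl_kr_slot]
    exact hM.sl _ g hg
  ts X hX a b hab hK hb c hc hmem := by
    obtain ⟨g, hg, hgv⟩ := hmem
    refine hM.ts (put i 1 X) (fun l => ?_) (a : κ) (b : κ) (fun h => hab (Subtype.ext h))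
      (by rwa [put_oth]) (by rwa [put_oth]) c hc ⟨spl F σ i (kr (1, g)), hg, ?_⟩
    · by_cases hl : l = i
      · subst hl; rw [put_self]; exact fac_one
      · rw [show put i (1 : Matrix σ σ F) X l = X ⟨l, hl⟩ from dif_neg hl]; exact hX _
    · rw [spl_val, kr_val, hgv, Units.val_one, kron_add, kron_smul, Matrix.one_kronecker_one, splM_one_add]

theorem exists_sq_sub_sq [Finite F] (l : F) : ∃ a b : F, l = a * a - b * b := by
  by_cases h2 : (2 : F) = 0
  · haveI : Fintype F := Fintype.ofFinite F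
    have h : ringChar F = 2 := by
      haveI := ringChar.charP F
      have h1 : ((2 : ℕ) : F) = 0 := by exact_mod_cast h2
      exact ((Nat.dvd_prime Nat.prime_two).1 ((CharP.cast_eq_zero_iff F (ringChar F) 2).1 h1)).resolve_left
        (CharP.char_ne_one F (ringChar F))
    obtain ⟨a, ha⟩ := FiniteField.isSquare_of_char_two h l
    exact ⟨a, 0, by rw [ha]; ring⟩
  · exact ⟨(l + 1) / 2, (l - 1) / 2, by field_simp; ring⟩

/-- the conjugates of opposite monomials have a non-scalar sum of products -/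
theorem exists_opposite (hG : Alt G) (h5 : 5 ≤ Fintype.card σ) {a w : σ → F} (haw : fm G a w = 0)
    (ha : a ∉ Submodule.span F {w}) (hw : w ≠ 0) :
    ∃ g ∈ iso G, ∃ u, u ≠ 0 ∧
      (Lam G a w * ((g : Matrix σ σ F) * Lam G a w * ((g⁻¹ : GL σ F) : Matrix σ σ F))) *ᵥ u = 0 ∧
      ((g : Matrix σ σ F) * Lam G a w * ((g⁻¹ : GL σ F) : Matrix σ σ F) * Lam G a w) *ᵥ u = 0 ∧
      (Lam G a w * ((g : Matrix σ σ F) * Lam G a w * ((g⁻¹ : GL σ F) : Matrix σ σ F))) *ᵥ a = a ∧
      ((g : Matrix σ σ F) * Lam G a w * ((g⁻¹ : GL σ F) : Matrix σ σ F) * Lam G a w) *ᵥ a = 0 := by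
  have hwa : fm G w a = 0 := by rw [hG.fm_swap a w, haw, neg_zero]
  have ha0 : a ≠ 0 := fun h => ha (h ▸ Submodule.zero_mem _)
  have hw' : w ∉ Submodule.span F {a} := fun h => by
    obtain ⟨r, hr⟩ := Submodule.mem_span_singleton.1 h
    have hr0 : r ≠ 0 := fun h0 => hw (by rw [← hr, h0, zero_smul])
    exact ha (Submodule.mem_span_singleton.2 ⟨r⁻¹, by rw [← hr, inv_smul_smul₀ hr0]⟩)
  obtain ⟨w', h1, h2⟩ := exists_perp_dual hG hw'
  obtain ⟨a₀, h3⟩ := exists_partner hG ha0
  set a' := a₀ - fm G a₀ w' • w + fm G a₀ w • w' with ha'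
  obtain ⟨h5', h6⟩ : fm G a' w = 0 ∧ fm G a' w' = 0 := perp_part hG h2 a₀
  have h4 : fm G a a' = 1 := by
    rw [ha', fm_add_right, fm_sub_right, fm_smul_right, fm_smul_right, h3, haw, h1]; ring
  have hw'a : fm G w' a = 0 := by rw [hG.fm_swap a w', h1, neg_zero]
  have hw'w : fm G w' w = -1 := by rw [hG.fm_swap w w', h2]
  have ha'a : fm G a' a = -1 := by rw [hG.fm_swap a a', h4]
  have hwa' : fm G w a' = 0 := by rw [hG.fm_swap a' w, h5', neg_zero]
  have hw'a' : fm G w' a' = 0 := by rw [hG.fm_swap a' w', h6, neg_zero]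
  have hg1 : (rt hG (w' - w) 1 * rt hG (a' - a) 1) ∈ iso G := mul_mem (rt_mem_iso hG _ _) (rt_mem_iso hG _ _)
  set g := rt hG (w' - w) 1 * rt hG (a' - a) 1 with hgdef
  have hga : (g : Matrix σ σ F) *ᵥ a = a' := by
    rw [hgdef, Units.val_mul, ← mulVec_mulVec, rt_mulVec hG (a' - a) a, fm_sub_right, h4, hG.self, sub_zero, one_mul,
      one_smul, add_sub_cancel, rt_mulVec, fm_sub_right, h6, h5', sub_zero, mul_zero, zero_smul, add_zero]
  have hgw : (g : Matrix σ σ F) *ᵥ w = w' := by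
    rw [hgdef, Units.val_mul, ← mulVec_mulVec, rt_mulVec hG (a' - a) w, fm_sub_right, hwa', hwa, sub_zero, mul_zero,
      zero_smul, add_zero, rt_mulVec, fm_sub_right, h2, hG.self, sub_zero, one_mul, one_smul, add_sub_cancel]
  have hL : (g : Matrix σ σ F) * Lam G a w * ((g⁻¹ : GL σ F) : Matrix σ σ F) = Lam G a' w' := by
    rw [Lam, mul_sub, sub_mul, hG.conj_K hg1, hG.conj_K hg1, hga, hgw, Lam]
  obtain ⟨u, hu, hu0⟩ := Submodule.exists_mem_ne_zero_of_ne_bot
    (p := LinearMap.ker (((fmL G a).prod (fmL G w)).prod ((fmL G a').prod (fmL G w')))) fun h => by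
    have e1 := LinearMap.finrank_range_add_finrank_ker (((fmL G a).prod (fmL G w)).prod ((fmL G a').prod (fmL G w')))
    rw [h, finrank_bot, add_zero, Module.finrank_fintype_fun_eq_card] at e1
    have e2 := Submodule.finrank_le (LinearMap.range (((fmL G a).prod (fmL G w)).prod ((fmL G a').prod (fmL G w'))))
    simp only [Module.finrank_prod, Module.finrank_self] at e2
    omega
  rw [LinearMap.mem_ker] at hu
  simp only [LinearMap.prod_apply, Function.prod_apply, fmL_apply, Prod.mk_eq_zero] at hu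
  refine ⟨g, hg1, u, hu0, ?_, ?_, ?_, ?_⟩
  all_goals
    rw [hL, ← mulVec_mulVec, Lam_mulVec, Lam_mulVec]
    simp [fm_sub_left, fm_smul_left, fm_zero_left, fm_neg_left, haw, hwa, hG.self, h1, h4, hw'a, hw'w, ha'a, hwa', h5', h6, h2,
      hw'a', hu.1.1, hu.1.2, hu.2.1, hu.2.2]

/-- **an overgroup without root-like monomials at a position** -/
theorem Over.ovr [Finite F] [Nonempty σ] (hG : Alt G) (hk : (2 : F) ≠ 0 ∨ 5 ≤ Fintype.card σ)
    {M : Subgroup (GL (κ → σ) F)} (hM : Over G M) (i : κ) : Ovr G (GG G (oth i)) (sub i M) := by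
  classical
  have hk' : (2 : F) ≠ 0 ∨ 3 ≤ Fintype.card σ := hk.imp id fun h => by omega
  have hsp : ∀ g ∈ iso G, kr (g, (1 : GL (oth i → σ) F)) ∈ sub i M := fun g hg => by
    rw [mem_sub, spl_kr_one]; exact hM.sl i g hg
  have hslot : ∀ (j : oth i), ∀ g ∈ iso G, kr ((1 : GL σ F), slot j g) ∈ sub i M := fun j g hg => by
    rw [mem_sub, spl_kr_slot]; exact hM.sl _ g hg
  have hput : ∀ {Z : Matrix σ σ F} {A : oth i → Matrix σ σ F}, Fac G Z → (∀ j, Fac G (A j)) →
      ∀ l, Fac G (put i Z A l) := fun {Z A} hZ hA l => by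
    by_cases hl : l = i
    · subst hl; rwa [put_self]
    · rw [show put i Z A l = A ⟨l, hl⟩ from dif_neg hl]; exact hA _
  refine ⟨fun g hg => spl_mem_iso.1 (hM.le hg), hsp, fun e S he hS => ?_, fun D hDinv hDs => ?_⟩
  · by_contra hns
    push Not at hns
    obtain ⟨f, hf⟩ := exists_partner hG he
    have hadd : ∀ {X Y : Matrix (oth i → σ) (oth i → σ) F}, Mem (sub i M) (1 + K G e e ⊗ₖ X) →
        Mem (sub i M) (1 + K G e e ⊗ₖ Y) → Mem (sub i M) (1 + K G e e ⊗ₖ (X + Y)) := fun {X Y} hX hY => by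
      have := hX.mul hY
      simp only [add_mul, mul_add, Matrix.one_mul, Matrix.mul_one, ← Matrix.mul_kronecker_mul, hG.K_sq,
        Matrix.zero_kronecker, add_zero] at this
      rwa [kron_add, ← add_assoc]
    have hsq : ∀ {X : Matrix (oth i → σ) (oth i → σ) F}, Mem (sub i M) (1 + K G e e ⊗ₖ X) → ∀ a : F,
        Mem (sub i M) (1 + K G e e ⊗ₖ ((a * a) • X)) := by
      rintro X ⟨g, hg, hgv⟩ a
      by_cases ha : a = 0
      · exact ⟨1, one_mem _, by simp [ha]⟩
      obtain ⟨τ, hτ, hτe, -, -⟩ := exists_tor hG hf ha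
      refine ⟨kr (τ, 1) * g * (kr (τ, 1))⁻¹, mul_mem (mul_mem (hsp τ hτ) hg) (inv_mem (hsp τ hτ)), ?_⟩
      rw [← map_inv, Prod.inv_mk, inv_one, Units.val_mul, Units.val_mul, hgv, kr_val, kr_val, Units.val_one, mul_add,
        add_mul, Matrix.mul_one, ← Matrix.mul_kronecker_mul, ← Matrix.mul_kronecker_mul, ← Matrix.mul_kronecker_mul,
        hG.conj_K hτ, hτe, K_smul_self, Matrix.smul_kronecker, kron_smul, Matrix.one_mul, Matrix.one_mul,
        Matrix.mul_one, ← Units.val_mul, mul_inv_cancel, Units.val_one, Matrix.one_kronecker_one]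
    have hneg : ∀ {X : Matrix (oth i → σ) (oth i → σ) F}, Mem (sub i M) (1 + K G e e ⊗ₖ X) →
        Mem (sub i M) (1 + K G e e ⊗ₖ (-X)) := by
      rintro X ⟨g, hg, hgv⟩
      refine ⟨g⁻¹, inv_mem hg, ?_⟩
      rw [Matrix.coe_units_inv, hgv]
      refine Matrix.inv_eq_left_inv ?_
      simp only [add_mul, mul_add, Matrix.one_mul, Matrix.mul_one, ← Matrix.mul_kronecker_mul, hG.K_sq,
        Matrix.zero_kronecker, add_zero, kron_neg, neg_mul]
      abel
    let T : Submodule F (Matrix (oth i → σ) (oth i → σ) F) :=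
      { carrier := {X | Mem (sub i M) (1 + K G e e ⊗ₖ X)}
        zero_mem' := ⟨1, one_mem _, by simp⟩
        add_mem' := hadd
        smul_mem' := fun l X hX => by
          obtain ⟨a, b, rfl⟩ := exists_sq_sub_sq l
          rw [sub_smul, sub_eq_add_neg]
          exact hadd (hsq hX a) (hneg (hsq hX b)) }
    obtain ⟨A, hA, ⟨j, hj⟩, ⟨g, hg, hgv⟩⟩ := exists_monomial hG hk' T (fun j g hg X hX => by
      obtain ⟨q, hq, hqv⟩ := hX
      refine ⟨kr (1, slot j g) * q * (kr (1, slot j g))⁻¹,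
        mul_mem (mul_mem (hslot j g hg) hq) (inv_mem (hslot j g hg)), ?_⟩
      rw [← map_inv, Prod.inv_mk, inv_one, Units.val_mul, Units.val_mul, hqv, kr_val, kr_val, Units.val_one, mul_add,
        add_mul, Matrix.mul_one, ← Matrix.mul_kronecker_mul, ← Matrix.mul_kronecker_mul, ← Matrix.mul_kronecker_mul,
        Matrix.one_mul, Matrix.one_mul, Matrix.mul_one, ← Units.val_mul, mul_inv_cancel, Units.val_one,
        Matrix.one_kronecker_one]) ⟨S, hS, hns⟩
    refine hM.ts (put i (K G e e) A) (hput (Or.inr (Or.inl ⟨e, he, rfl⟩)) hA) i j j.2.symm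
      ⟨e, he, put_self _ _ _⟩ (by rwa [put_oth]) 1 one_ne_zero ⟨spl F σ i g, hg, ?_⟩
    rw [spl_val, hgv, ← splM_one_add, one_smul]
  · obtain ⟨A, hA, ⟨j₀, hj₀⟩, hAD⟩ := exists_monomial hG hk' D
      (fun j g hg => hDinv (slot j g) (hslot j g hg)) hDs
    have hsq : ten A * ten A = 0 := by
      rw [← map_mul]
      exact ten_eq_zero _ (i := j₀) (Fac.sq hG (hA j₀) hj₀)
    have hns : ∀ c : F, ten A ≠ c • 1 := fun c hc => by
      have h0 := hsq
      rw [hc, Matrix.smul_mul, Matrix.one_mul, smul_smul, smul_eq_zero] at h0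
      rcases h0 with h0 | h0
      · exact ten_ne_zero (fun l => (hA l).ne_zero hG) (by rw [hc, mul_self_eq_zero.1 h0, zero_smul])
      · exact one_ne_zero h0
    -- the sign of the monomial
    have hsign : ∀ l, ∃ s : F, (s = 1 ∨ s = -1) ∧ adj G (A l) = s • A l ∧
        ((∀ w, w ≠ 0 → A l ≠ K G w w) → s = 1) := fun l => by
      rcases hA l with h | ⟨w, hw, h⟩ | ⟨a, w, -, -, -, h⟩
      · exact ⟨1, Or.inl rfl, by rw [h, adj_one hG.isForm, one_smul], fun _ => rfl⟩
      · exact ⟨-1, Or.inr rfl, by rw [h, hG.adj_K, neg_one_smul], fun h' => absurd h (h' w hw)⟩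
      · exact ⟨1, Or.inl rfl, by rw [h, Lam, adj_sub, hG.adj_K, hG.adj_K, one_smul]; abel, fun _ => rfl⟩
    choose s hs1 hs2 hs3 using hsign
    have hadj : adj (GG G (oth i)) (ten A) = (∏ l, s l) • ten A := by
      rw [adj_ten hG.isForm]
      ext x y
      simp [ten_apply, hs2, Finset.prod_mul_distrib]
    have hS1 : ∀ t : Finset (oth i), (∏ l ∈ t, s l) = 1 ∨ (∏ l ∈ t, s l) = -1 := fun t => by
      induction t using Finset.induction with
      | empty => simp
      | @insert a t ha ih =>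
        rw [Finset.prod_insert ha]
        rcases hs1 a with h | h <;> rcases ih with h' | h' <;> simp [h, h']
    refine ⟨ten A, hAD, hns, hsq, ?_⟩
    by_cases hK : ∃ l w, w ≠ 0 ∧ A l = K G w w
    · obtain ⟨l, w, hw, hl⟩ := hK
      by_cases hcase : (2 : F) ≠ 0 ∧ (∏ l, s l) = 1
      · exact Or.inl ⟨hcase.1, by rw [hadj, hcase.2, one_smul]⟩
      refine Or.inr (Or.inl ⟨?_, fun e u heu hind hu => ?_⟩)
      · rcases hS1 Finset.univ with h | h
        · have h2 : (2 : F) = 0 := by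
            by_contra h2
            exact hcase ⟨h2, h⟩
          rw [hadj, h, show (1 : F) = -1 by linear_combination h2, neg_one_smul]
        · rw [hadj, h, neg_one_smul]
      · rintro ⟨g, hg, hgv⟩
        have hL1 : Lam G e u ≠ 1 := fun h => by
          have h0 := Lam_sq hG heu
          rw [h, Matrix.one_mul] at h0
          exact one_ne_zero h0
        refine hM.ts (put i (Lam G e u) A) (hput (Or.inr (Or.inr ⟨e, u, heu, hind, hu, rfl⟩)) hA) l i l.2
          ⟨w, hw, by rw [put_oth]; exact hl⟩ (by rwa [put_self]) 1 one_ne_zero ⟨spl F σ i g, hg, ?_⟩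
        rw [spl_val, hgv, ← splM_one_add, one_smul]
    push Not at hK
    have hS : (∏ l, s l) = 1 := Finset.prod_eq_one fun l _ => hs3 l (hK l)
    by_cases h2 : (2 : F) = 0
    swap
    · exact Or.inl ⟨h2, by rw [hadj, hS, one_smul]⟩
    have h5 : 5 ≤ Fintype.card σ := hk.resolve_left fun h => h h2
    obtain ⟨i₁⟩ := ‹Nonempty σ›
    have hx0 : (Pi.single i₁ (1 : F) : σ → F) ≠ 0 := fun h => by simpa using congrFun h i₁
    have hloc : ∀ l, ∃ g ∈ iso G, ∃ x u : σ → F, x ≠ 0 ∧ u ≠ 0 ∧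
        (A l * ((g : Matrix σ σ F) * A l * ((g⁻¹ : GL σ F) : Matrix σ σ F))) *ᵥ x = x ∧
        (A l ≠ 1 → (((g : Matrix σ σ F) * A l * ((g⁻¹ : GL σ F) : Matrix σ σ F)) * A l) *ᵥ x = 0 ∧
          (A l * ((g : Matrix σ σ F) * A l * ((g⁻¹ : GL σ F) : Matrix σ σ F))) *ᵥ u = 0 ∧
          (((g : Matrix σ σ F) * A l * ((g⁻¹ : GL σ F) : Matrix σ σ F)) * A l) *ᵥ u = 0) := fun l => by
      rcases hA l with h | ⟨w, hw, h⟩ | ⟨a, w, haw, ha, hw, h⟩
      · exact ⟨1, one_mem _, _, _, hx0, hx0, by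
          simp only [h, inv_one, Units.val_one, mul_one, one_mulVec], fun h' => absurd h h'⟩
      · exact absurd h (hK l w hw)
      · obtain ⟨g, hg, u, hu, e1, e2, e3, e4⟩ := exists_opposite hG h5 haw ha hw
        exact ⟨g, hg, a, u, fun h0 => ha (h0 ▸ Submodule.zero_mem _), hu, by rw [h]; exact e3,
          fun _ => by rw [h]; exact ⟨e4, e1, e2⟩⟩
    choose hh hhI x u hx hu e1 e2 using hloc
    refine Or.inr (Or.inr ⟨h2, by rw [hadj, hS, one_smul], tenGL hh, ?_, fun c hc => ?_⟩)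
    · rw [mem_sub, spl_kr]
      exact hM.ten_mem fun l => by
        by_cases hl : l = i
        · subst hl; rw [put_self]; exact one_mem _
        · rw [show put i (1 : GL σ F) hh l = hh ⟨l, hl⟩ from dif_neg hl]; exact hhI _
    rw [← map_inv, tenGL_val, tenGL_val, ← map_mul, ← map_mul, ← map_mul, ← map_mul] at hc
    have hval : ∀ v : oth i → σ → F,
        pv (fun l => (A l * (((hh l : GL σ F) : Matrix σ σ F) * A l * (((hh l)⁻¹ : GL σ F) : Matrix σ σ F))) *ᵥ v l) +
          pv (fun l => (((hh l : GL σ F) : Matrix σ σ F) * A l * (((hh l)⁻¹ : GL σ F) : Matrix σ σ F) * A l) *ᵥ v l) =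
          c • pv v := fun v => by
      rw [← ten_mulVec, ← ten_mulVec, ← add_mulVec]
      refine (congrArg (· *ᵥ pv v) hc).trans ?_
      rw [smul_mulVec, one_mulVec]
    have hA1 := hval x
    have hA2 := hval (Function.update x j₀ (u j₀))
    have z1 : pv (fun l => (((hh l : GL σ F) : Matrix σ σ F) * A l * (((hh l)⁻¹ : GL σ F) : Matrix σ σ F) * A l) *ᵥ
        x l) = 0 := pv_eq_zero (i := j₀) (e2 j₀ hj₀).1
    have z2 : pv (fun l => (A l * (((hh l : GL σ F) : Matrix σ σ F) * A l * (((hh l)⁻¹ : GL σ F) : Matrix σ σ F))) *ᵥ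
        Function.update x j₀ (u j₀) l) = 0 :=
      pv_eq_zero (i := j₀) (by simp only [Function.update_self]; exact (e2 j₀ hj₀).2.1)
    have z3 : pv (fun l => (((hh l : GL σ F) : Matrix σ σ F) * A l * (((hh l)⁻¹ : GL σ F) : Matrix σ σ F) * A l) *ᵥ
        Function.update x j₀ (u j₀) l) = 0 :=
      pv_eq_zero (i := j₀) (by simp only [Function.update_self]; exact (e2 j₀ hj₀).2.2)
    rw [z1, add_zero, funext e1] at hA1
    rw [z2, z3, add_zero] at hA2
    have hc1 : c = 1 := by
      rw [← sub_eq_zero]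
      have h1 : (c - 1) • pv x = 0 := by rw [sub_smul, one_smul, ← hA1, sub_self]
      exact (smul_eq_zero.1 h1).resolve_right (pv_ne_zero hx)
    rw [hc1, one_smul] at hA2
    exact pv_ne_zero (x := Function.update x j₀ (u j₀)) (fun l => by
      by_cases hl : l = j₀
      · subst hl; rw [Function.update_self]; exact hu _
      · rw [Function.update_of_ne hl]; exact hx _) hA2.symm

end Cfsg.Agent.MaxCl.Pow
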