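/-
The subspaces of a tensor power belonging to a subspace of one factor, root maps of the positions and their
dimensions.
-/
import Cfsg.Agent.Lib.MaxCl.PowerTS

set_option autoImplicit false
set_option linter.unusedSectionVars false

namespace Cfsg.Agent.MaxCl.Pow

open Matrix
open scoped MatrixGroups Kronecker
open Module (finrank)

variable {σ : Type} [Fintype σ] [DecidableEq σ] {F : Type*} [Field F] {G : Matrix σ σ F}
variable {κ : Type} [Fintype κ] [DecidableEq κ]

variable (F σ) in
/-- vectors in coordinates split at `j` -/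
def vj (j : κ) : ((κ → σ) → F) ≃ₗ[F] (σ × (oth j → σ) → F) := LinearEquiv.funCongrLeft F F (Equiv.funSplitAt j σ).symm

theorem vj_apply (j : κ) (x : (κ → σ) → F) (p : σ × (oth j → σ)) :
    vj σ F j x p = x ((Equiv.funSplitAt j σ).symm p) := rfl

theorem vj_mulVec (j : κ) (X : Matrix (σ × (oth j → σ)) (σ × (oth j → σ)) F) (x : (κ → σ) → F) :
    vj σ F j (splM F σ j X *ᵥ x) = X *ᵥ vj σ F j x := by
  funext p
  simp only [vj_apply, splM, Matrix.coe_reindexAlgEquiv, Matrix.reindex_apply, Equiv.symm_symm, mulVec, dotProduct,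
    Matrix.submatrix_apply, Equiv.apply_symm_apply]
  exact Fintype.sum_equiv (Equiv.funSplitAt j σ) _ _ fun a => by rw [Equiv.symm_apply_apply]

/-- the column at `b` of the coordinates split at `j` -/
def col (j : κ) (b : oth j → σ) : ((κ → σ) → F) →ₗ[F] (σ → F) :=
  (LinearMap.funLeft F F fun s => (s, b)).comp (vj σ F j).toLinearMap

theorem col_apply (j : κ) (b : oth j → σ) (x : (κ → σ) → F) (s : σ) : col j b x s = vj σ F j x (s, b) := rfl

theorem ext_col (j : κ) {x y : (κ → σ) → F} (h : ∀ b, col j b x = col j b y) : x = y :=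
  (vj σ F j).injective (funext fun p => congrFun (h p.2) p.1)

theorem kron_one_mulVec (j : κ) (Z : Matrix σ σ F) (x : (κ → σ) → F) (b : oth j → σ) :
    col j b (splM F σ j (Z ⊗ₖ 1) *ᵥ x) = Z *ᵥ col j b x := by
  funext s
  simp [col_apply, vj_mulVec, mulVec, dotProduct, Fintype.sum_prod_type, Matrix.one_apply]

/-- the vectors with all columns at `j` in `A` -/
def Tk (j : κ) (A : Submodule F (σ → F)) : Submodule F ((κ → σ) → F) := ⨅ b, A.comap (col j b)

theorem mem_Tk {j : κ} {A : Submodule F (σ → F)} {x : (κ → σ) → F} : x ∈ Tk j A ↔ ∀ b, col j b x ∈ A := by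
  simp [Tk]

theorem Tk_mono (j : κ) {A B : Submodule F (σ → F)} (h : A ≤ B) : Tk j A ≤ Tk j B :=
  fun _ hx => mem_Tk.2 fun b => h (mem_Tk.1 hx b)

theorem Tk_inf (j : κ) (A B : Submodule F (σ → F)) : Tk j A ⊓ Tk j B = Tk j (A ⊓ B) := by
  ext x
  simp only [Submodule.mem_inf, mem_Tk, forall_and]

theorem Tk_bot (j : κ) : Tk j (⊥ : Submodule F (σ → F)) = ⊥ := by
  refine eq_bot_iff.2 fun x hx => ?_
  rw [Submodule.mem_bot]
  exact ext_col j fun b => by rw [(Submodule.mem_bot F).1 (mem_Tk.1 hx b), map_zero]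

theorem card_oth (j : κ) : Fintype.card (oth j → σ) = Fintype.card σ ^ (Fintype.card κ - 1) := by
  rw [Fintype.card_fun]
  congr 1
  show Fintype.card {i // ¬ i = j} = _
  rw [Fintype.card_subtype_compl, Fintype.card_subtype_eq]

theorem finrank_Tk (j : κ) (A : Submodule F (σ → F)) :
    finrank F (Tk j A) = finrank F A * Fintype.card σ ^ (Fintype.card κ - 1) := by
  let e : Tk j A ≃ₗ[F] ((oth j → σ) → A) :=
    { toFun := fun x b => ⟨col j b x.1, mem_Tk.1 x.2 b⟩
      map_add' := fun x y => funext fun b => Subtype.ext (map_add (col j b) x.1 y.1)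
      map_smul' := fun c x => funext fun b => Subtype.ext (map_smul (col j b) c x.1)
      invFun := fun f => ⟨(vj σ F j).symm fun p => (f p.2 : σ → F) p.1, mem_Tk.2 fun b => by
        have : col j b ((vj σ F j).symm fun p => (f p.2 : σ → F) p.1) = (f b : σ → F) := funext fun s => by
          rw [col_apply, LinearEquiv.apply_symm_apply]
        rw [this]
        exact (f b).2⟩
      left_inv := fun x => Subtype.ext (ext_col j fun b => funext fun s => by
        simp [col_apply])
      right_inv := fun f => funext fun b => Subtype.ext (funext fun s => by simp [col_apply]) }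
  rw [e.finrank_eq, Module.finrank_pi_fintype, Finset.sum_const, Finset.card_univ, card_oth, smul_eq_mul, mul_comm]

variable (G) in
/-- the root map of the vector `z` at position `j` -/
def Rz (j : κ) (z : σ → F) : Matrix (κ → σ) (κ → σ) F := splM F σ j (K G z z ⊗ₖ 1)

theorem Rz_col (j : κ) (z : σ → F) (x : (κ → σ) → F) (b : oth j → σ) :
    col j b (Rz G j z *ᵥ x) = fm G (col j b x) z • z := by
  rw [Rz, kron_one_mulVec, K_mulVec]

theorem slot_rt_val (hG : Alt G) (j : κ) (z : σ → F) (c : F) :
    (slot j (rt hG z c) : Matrix (κ → σ) (κ → σ) F) = 1 + c • Rz G j z := by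
  rw [← spl_kr_one, spl_val, kr_val, rt_val, Units.val_one, Matrix.add_kronecker, Matrix.one_kronecker_one,
    Matrix.smul_kronecker, map_add, map_one, map_smul, Rz]

theorem mem_ker_Rz {j : κ} {z : σ → F} (hz : z ≠ 0) {x : (κ → σ) → F} :
    Rz G j z *ᵥ x = 0 ↔ x ∈ Tk j (LinearMap.ker (fmL G z)) := by
  simp only [mem_Tk, LinearMap.mem_ker, fmL_apply]
  constructor
  · intro h b
    have h1 := congrArg (col j b) h
    rw [Rz_col, map_zero, smul_eq_zero] at h1
    exact h1.resolve_right hz
  · exact fun h => ext_col j fun b => by rw [Rz_col, h b, zero_smul, map_zero]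

theorem Rz_mem (j : κ) (z : σ → F) (x : (κ → σ) → F) : Rz G j z *ᵥ x ∈ Tk j (Submodule.span F {z}) :=
  mem_Tk.2 fun b => by rw [Rz_col]; exact Submodule.smul_mem _ _ (Submodule.mem_span_singleton_self z)

theorem exists_Rz_eq (hG : Alt G) {j : κ} {z : σ → F} (hz : z ≠ 0) {x : (κ → σ) → F}
    (hx : x ∈ Tk j (Submodule.span F {z})) : ∃ y, Rz G j z *ᵥ y = x := by
  obtain ⟨f, hf⟩ := exists_partner hG hz
  choose c hc using fun b => Submodule.mem_span_singleton.1 (mem_Tk.1 hx b)
  refine ⟨(vj σ F j).symm fun p => -c p.2 * f p.1, ext_col j fun b => ?_⟩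
  have h1 : col j b ((vj σ F j).symm fun p => -c p.2 * f p.1) = (-c b) • f :=
    funext fun s => by simp [col_apply]
  rw [Rz_col, h1, fm_smul_left, hG.fm_swap z f, hf, mul_neg, mul_one, neg_neg, hc]

theorem finrank_span_one {z : σ → F} (hz : z ≠ 0) : finrank F (Submodule.span F {z}) = 1 :=
  finrank_span_singleton hz

theorem finrank_ker_fmL (hG : Alt G) {z : σ → F} (hz : z ≠ 0) :
    finrank F (LinearMap.ker (fmL G z)) + 1 = Fintype.card σ := by
  have h := LinearMap.finrank_range_add_finrank_ker (fmL G z)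
  have h1 : LinearMap.range (fmL G z) = ⊤ := LinearMap.range_eq_top.2 (by
    obtain ⟨x, hx⟩ := fm_nondeg hG.isForm hz
    exact fun c => ⟨(c / fm G x z) • x, by rw [fmL_apply, fm_smul_left, div_mul_cancel₀ _ hx]⟩)
  rw [h1, finrank_top, Module.finrank_self, Module.finrank_fintype_fun_eq_card] at h
  omega

theorem span_le_ker (hG : Alt G) (z : σ → F) : Submodule.span F {z} ≤ LinearMap.ker (fmL G z) :=
  Submodule.span_le.2 (Set.singleton_subset_iff.2 (LinearMap.mem_ker.2 (hG.self z)))

/-- lines at different positions meet in small spaces -/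
theorem finrank_Tk_inf {j l : κ} (hjl : j ≠ l) {z t : σ → F} (hz : z ≠ 0) (ht : t ≠ 0) :
    finrank F ↥(Tk j (Submodule.span F {z}) ⊓ Tk l (Submodule.span F {t})) ≤
      Fintype.card σ ^ (Fintype.card κ - 2) := by
  classical
  obtain ⟨s₀, hs₀⟩ := Function.ne_iff.1 hz
  obtain ⟨s₁, hs₁⟩ := Function.ne_iff.1 ht
  have key : ∀ (j : κ) (z : σ → F) (s : σ) (x : (κ → σ) → F), x ∈ Tk j (Submodule.span F {z}) → ∀ y,
      x y * z s = z (y j) * x (Function.update y j s) := by
    intro j z s x hx y
    obtain ⟨c, hc⟩ := Submodule.mem_span_singleton.1 (mem_Tk.1 hx fun i => y i)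
    have e : ∀ u, col j (fun i : oth j => y i) x u = x (Function.update y j u) := fun u => by
      rw [col_apply, vj_apply]
      congr 1
    have h1 := congrFun hc (y j)
    have h2 := congrFun hc s
    rw [e, Function.update_eq_self] at h1
    rw [e] at h2
    rw [← h1, ← h2]
    simp only [Pi.smul_apply, smul_eq_mul]
    ring
  let S := {y : κ → σ // y j = s₀ ∧ y l = s₁}
  let φ := (LinearMap.funLeft F F (Subtype.val : S → κ → σ)).comp
    (Tk j (Submodule.span F {z}) ⊓ Tk l (Submodule.span F {t})).subtype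
  have hφ : Function.Injective φ := by
    rw [← LinearMap.ker_eq_bot, eq_bot_iff]
    rintro ⟨x, hxj, hxl⟩ hx
    rw [Submodule.mem_bot]
    refine Subtype.ext (funext fun y => ?_)
    have h0 : x (Function.update (Function.update y j s₀) l s₁) = 0 :=
      congrFun (LinearMap.mem_ker.1 hx) ⟨Function.update (Function.update y j s₀) l s₁,
        by rw [Function.update_of_ne hjl, Function.update_self], Function.update_self _ _ _⟩
    have h1 := key l t s₁ x hxl (Function.update y j s₀)
    rw [h0, mul_zero, mul_eq_zero] at h1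
    have h2 := key j z s₀ x hxj y
    rw [h1.resolve_right hs₁, mul_zero, mul_eq_zero] at h2
    exact h2.resolve_right hs₀
  refine (LinearMap.finrank_le_finrank_of_injective hφ).trans (le_of_eq ?_)
  let e : S ≃ ({i // i ≠ j ∧ i ≠ l} → σ) :=
    { toFun := fun y i => y.1 i
      invFun := fun f => ⟨fun i => if h : i ≠ j ∧ i ≠ l then f ⟨i, h⟩ else if i = j then s₀ else s₁,
        by simp, by simp [hjl.symm]⟩
      left_inv := fun y => Subtype.ext (funext fun i => by
        dsimp only
        split_ifs with h h'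
        · rfl
        · rw [h', y.2.1]
        · have : i = l := by by_contra hil; exact h ⟨h', hil⟩
          rw [this, y.2.2])
      right_inv := fun f => funext fun i => by simp [i.2] }
  rw [Module.finrank_fintype_fun_eq_card, Fintype.card_congr e, Fintype.card_fun]
  congr 1
  rw [Fintype.card_subtype]
  have h3 : (Finset.univ.filter fun i => i ≠ j ∧ i ≠ l) = (Finset.univ.erase j).erase l := by
    ext i; simp [and_comm]
  rw [h3, Finset.card_erase_of_mem (by simp [hjl.symm]), Finset.card_erase_of_mem (Finset.mem_univ _),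
    Finset.card_univ]
  omega

/-- moving subspaces by Kronecker products -/
theorem col_spl_kr (j : κ) (L : GL σ F) (A : GL (oth j → σ) F) (x : (κ → σ) → F) (b : oth j → σ) :
    col j b ((spl F σ j (kr (L, A)) : Matrix (κ → σ) (κ → σ) F) *ᵥ x) =
      ∑ b', (A : Matrix (oth j → σ) (oth j → σ) F) b b' • ((L : Matrix σ σ F) *ᵥ col j b' x) := by
  funext s
  simp only [col_apply, spl_val, vj_mulVec, kr_val, mulVec, dotProduct, Fintype.sum_prod_type, Finset.sum_apply,
    Pi.smul_apply, smul_eq_mul, Matrix.kroneckerMap_apply, Finset.mul_sum]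
  rw [Finset.sum_comm]
  exact Finset.sum_congr rfl fun b' _ => Finset.sum_congr rfl fun s' _ => by ring

theorem map_Tk_le (j : κ) (L : GL σ F) (A : GL (oth j → σ) F) {P : Submodule F (σ → F)} {x : (κ → σ) → F}
    (hx : x ∈ Tk j P) :
    (spl F σ j (kr (L, A)) : Matrix (κ → σ) (κ → σ) F) *ᵥ x ∈ Tk j (P.map (Matrix.mulVecLin (L : Matrix σ σ F))) :=
  mem_Tk.2 fun b => by
    rw [col_spl_kr]
    exact Submodule.sum_mem _ fun b' _ => Submodule.smul_mem _ _ ⟨_, mem_Tk.1 hx b', rfl⟩

end Cfsg.Agent.MaxCl.Pow
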