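/-
An overgroup `M` of the slot groups in which only wreath elements move a root into the wreath product: for `g` in `M`
outside the wreath product and every root, some wreath element agrees with `g⁻¹` on the common fixed space of the
root and of the image under `g` of a fixed root; with four dimensions it moves the root to the fixed root.
-/
import Cfsg.Agent.Lib.MaxCl.PowerGeo

set_option autoImplicit false
set_option linter.unusedSectionVars false

namespace Cfsg.Agent.MaxCl.Pow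

open Matrix
open scoped MatrixGroups Kronecker
open Module (finrank)

variable {σ : Type} [Fintype σ] [DecidableEq σ] {F : Type*} [Field F] {G : Matrix σ σ F}
variable {κ : Type} [Fintype κ] [DecidableEq κ]

theorem adj_splM (hG : IsForm G) (j : κ) (X : Matrix (σ × (oth j → σ)) (σ × (oth j → σ)) F) :
    adj (GG G κ) (splM F σ j X) = splM F σ j (adj (G ⊗ₖ GG G (oth j)) X) := by
  have h : (GG G κ)⁻¹ = splM F σ j (G ⊗ₖ GG G (oth j))⁻¹ := Matrix.inv_eq_left_inv (by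
    rw [← splM_gg j, ← map_mul, (kron_isForm hG (gg_isForm hG)).inv_mul, map_one])
  rw [adj, adj, h, splM_transpose, ← splM_gg j, map_mul, map_mul]

theorem Rz_eq_ten (j : κ) (z : σ → F) : Rz G j z = ten (put j (K G z z) 1) := by
  rw [Rz, ← map_one ten, splM_kron]

theorem adj_Rz (hG : Alt G) (j : κ) (z : σ → F) : adj (GG G κ) (Rz G j z) = -Rz G j z := by
  rw [Rz, adj_splM hG.isForm, adj_kron hG.isForm (gg_isForm hG.isForm), hG.adj_K, adj_one (gg_isForm hG.isForm),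
    neg_kron, map_neg]

theorem Rz_sq (hG : Alt G) (j : κ) (z : σ → F) : Rz G j z * Rz G j z = 0 := by
  rw [Rz, ← map_mul, ← Matrix.mul_kronecker_mul, hG.K_sq, Matrix.zero_kronecker, map_zero]

theorem slot_mul (j : κ) (a b : GL σ F) : slot j a * slot j b = slot j (a * b) := by
  rw [← spl_kr_one, ← spl_kr_one, ← spl_kr_one, ← map_mul, ← map_mul, Prod.mk_mul_mk, one_mul]

theorem slot_one (j : κ) : slot j (1 : GL σ F) = 1 := by
  rw [← spl_kr_one, show ((1 : GL σ F), (1 : GL (oth j → σ) F)) = 1 from rfl, map_one, map_one]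

theorem slot_rt_pow (hG : Alt G) (j : κ) (z : σ → F) (c : F) (n : ℕ) :
    slot j (rt hG z c) ^ n = slot j (rt hG z (n * c)) := by
  induction n with
  | zero =>
    rw [pow_zero, Nat.cast_zero, zero_mul, show rt hG z 0 = 1 from Units.ext (by simp [rt_val]), slot_one]
  | succ n ih => rw [pow_succ, ih, slot_mul, rt_add, Nat.cast_succ, add_mul, one_mul]

theorem slot_mem_Wr (j : κ) (a : GL σ F) : slot j a ∈ Wr F κ σ := tenGL_mem_Wr _

/-- wreath elements preserving the form permute the root maps up to scalars -/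
theorem wr_conj_Rz (hG : Alt G) {h : GL (κ → σ) F} (hW : h ∈ Wr F κ σ) (hI : h ∈ iso (GG G κ)) (j : κ) {z : σ → F}
    (hz : z ≠ 0) : ∃ (l : κ) (t : σ → F) (c : F), t ≠ 0 ∧ c ≠ 0 ∧
      (h : Matrix (κ → σ) (κ → σ) F) * Rz G j z = c • (Rz G l t * (h : Matrix (κ → σ) (κ → σ) F)) := by
  obtain ⟨i₀, -⟩ := Function.ne_iff.1 hz
  haveI : Nonempty σ := ⟨i₀⟩
  obtain ⟨L, π, rfl⟩ := id hW
  set l := π j with hl
  set a := (L l : Matrix σ σ F) *ᵥ z with ha
  set v := adj G (((L l)⁻¹ : GL σ F) : Matrix σ σ F) *ᵥ z with hv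
  have hX : (L l : Matrix σ σ F) * K G z z * (((L l)⁻¹ : GL σ F) : Matrix σ σ F) = K G a v := by
    rw [mul_K, K_mul hG.isForm]
  set h := tenGL L * (pmGL π : GL (κ → σ) F) with hh
  set h₀ := (h : Matrix (κ → σ) (κ → σ) F) with hh₀
  have hconj : h₀ * Rz G j z * ((h⁻¹ : GL (κ → σ) F) : Matrix (κ → σ) (κ → σ) F) =
      splM F σ l (K G a v ⊗ₖ 1) := by
    rw [hh₀, hh, _root_.mul_inv_rev, ← map_inv, ← map_inv, Units.val_mul, Units.val_mul, tenGL_val, tenGL_val, pmGL_val,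
      pmGL_val, Rz_eq_ten, ← map_one ten, splM_kron]
    have e : (put j (K G z z) (1 : oth j → Matrix σ σ F)) ∘ π.symm = put l (K G z z) 1 := by
      funext m
      by_cases hm : m = l
      · rw [hm, Function.comp_apply, put_self, hl, Equiv.symm_apply_apply, put_self]
      · have : π.symm m ≠ j := fun h' => hm (by rw [hl, ← h', Equiv.apply_symm_apply])
        simp [put, hm, this]
    rw [show ∀ A B C D E : Matrix (κ → σ) (κ → σ) F, A * B * C * (D * E) = A * (B * C * D) * E from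
      fun A B C D E => by simp only [Matrix.mul_assoc], pm_conj_ten, ← map_mul, ← map_mul, e]
    congr 1
    funext m
    by_cases hm : m = l
    · rw [hm, Pi.mul_apply, Pi.mul_apply, put_self, put_self]
      exact hX
    · simp [put, hm]
  have hskew : adj (GG G κ) (h₀ * Rz G j z * ((h⁻¹ : GL (κ → σ) F) : Matrix (κ → σ) (κ → σ) F)) =
      -(h₀ * Rz G j z * ((h⁻¹ : GL (κ → σ) F) : Matrix (κ → σ) (κ → σ) F)) := by
    rw [adj_mul (gg_isForm hG.isForm), adj_mul (gg_isForm hG.isForm), adj_of_iso (gg_isForm hG.isForm) hI,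
      adj_of_iso (gg_isForm hG.isForm) (inv_mem hI), inv_inv, adj_Rz hG, neg_mul, mul_neg, Matrix.mul_assoc]
  rw [hconj, adj_splM hG.isForm, adj_kron hG.isForm (gg_isForm hG.isForm), adj_one (gg_isForm hG.isForm), hG.adj_K,
    neg_kron, map_neg, neg_inj, (splM F σ l).injective.eq_iff] at hskew
  have hva := kron_injective_left one_ne_zero hskew
  have ha0 : a ≠ 0 := fun h0 => hz (by
    have h1 := congrArg ((((L l)⁻¹ : GL σ F) : Matrix σ σ F) *ᵥ ·) (ha.symm.trans h0)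
    simpa [mulVec_mulVec, ← Units.val_mul] using h1)
  have hX0 : K G a v ≠ 0 := fun h0 => by
    rw [← hX] at h0
    have h1 := congrArg (fun Y => (((L l)⁻¹ : GL σ F) : Matrix σ σ F) * Y * (L l : Matrix σ σ F)) h0
    simp only [← Matrix.mul_assoc, ← Units.val_mul, inv_mul_cancel, Units.val_one, Matrix.one_mul, Matrix.zero_mul,
      Matrix.mul_zero] at h1
    rw [Matrix.mul_assoc, ← Units.val_mul, inv_mul_cancel, Units.val_one, Matrix.mul_one] at h1
    exact hz ((K_eq_zero hG.isForm h1).elim id id)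
  obtain ⟨x, hx⟩ := fm_nondeg hG.isForm ha0
  obtain ⟨r, hr⟩ : ∃ r : F, v = r • a := ⟨fm G x v / fm G x a, by
    have h1 := congrArg (· *ᵥ x) hva
    simp only [K_mulVec] at h1
    rw [div_eq_inv_mul, mul_smul, ← h1, inv_smul_smul₀ hx]⟩
  have hr0 : r ≠ 0 := fun h0 => hX0 (by rw [hr, h0, zero_smul, K_zero_right])
  refine ⟨l, a, r, ha0, hr0, ?_⟩
  rw [← Matrix.smul_mul, show Rz G l a = splM F σ l (K G a a ⊗ₖ 1) from rfl, ← map_smul, ← Matrix.smul_kronecker, ← K_smul_right, ← hr, ← hconj, Matrix.mul_assoc,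
    ← Units.val_mul, inv_mul_cancel, Units.val_one, Matrix.mul_one]

/-- only wreath elements move a root into the wreath product -/
def Rigid (hG : Alt G) (M : Subgroup (GL (κ → σ) F)) : Prop :=
  ∀ g ∈ M, ∀ (i : κ) (w : σ → F), w ≠ 0 → g * slot i (rt hG w 1) * g⁻¹ ∈ Wr F κ σ → g ∈ Wr F κ σ

variable [Finite F]

theorem pgroup_le_Wr (hG : Alt G) {M : Subgroup (GL (κ → σ) F)} (hR : Rigid hG M) {p : ℕ} [Fact p.Prime]
    {P : Subgroup (GL (κ → σ) F)} (hP : IsPGroup p P) (hPM : P ≤ M) {i : κ} {w : σ → F} (hw : w ≠ 0)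
    (hr : slot i (rt hG w 1) ∈ P) : P ≤ Wr F κ σ := by
  haveI : Fintype F := Fintype.ofFinite F
  set H := (Wr F κ σ).subgroupOf P with hH
  by_contra hle
  have hlt : H < ⊤ := lt_top_iff_ne_top.2 fun h => hle (Subgroup.subgroupOf_eq_top.1 h)
  haveI := hP.isNilpotent
  obtain ⟨x, hx, hxH⟩ := SetLike.exists_of_lt (normalizerCondition_of_isNilpotent (G := P) H hlt)
  have h1 := (Subgroup.mem_normalizer_iff.1 hx ⟨_, hr⟩).1 (slot_mem_Wr i _)
  exact hxH (hR x (hPM x.2) i w hw h1)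

variable (hG : Alt G) {M : Subgroup (GL (κ → σ) F)} (hM : Over G M) (hR : Rigid hG M)
  {g : GL (κ → σ) F} (hg : g ∈ M) (hgW : g ∉ Wr F κ σ) {i : κ} {w : σ → F} (hw : w ≠ 0)

variable (G) in
/-- the image of the fixed root map -/
noncomputable def Np (g : GL (κ → σ) F) (i : κ) (w : σ → F) : Matrix (κ → σ) (κ → σ) F :=
  (g : Matrix (κ → σ) (κ → σ) F) * Rz G i w * ((g⁻¹ : GL (κ → σ) F) : Matrix (κ → σ) (κ → σ) F)

theorem Np_val : ((g * slot i (rt hG w 1) * g⁻¹ : GL (κ → σ) F) : Matrix (κ → σ) (κ → σ) F) = 1 + Np G g i w := by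
  rw [Units.val_mul, Units.val_mul, slot_rt_val, one_smul, mul_add, Matrix.mul_one, add_mul, ← Units.val_mul,
    mul_inv_cancel, Units.val_one, Np]

theorem inv_Np_mulVec (x : (κ → σ) → F) :
    ((g⁻¹ : GL (κ → σ) F) : Matrix (κ → σ) (κ → σ) F) *ᵥ (Np G g i w *ᵥ x) =
      Rz G i w *ᵥ (((g⁻¹ : GL (κ → σ) F) : Matrix (κ → σ) (κ → σ) F) *ᵥ x) := by
  rw [Np, mulVec_mulVec, mulVec_mulVec, ← Matrix.mul_assoc, ← Matrix.mul_assoc, ← Units.val_mul, inv_mul_cancel,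
    Units.val_one, Matrix.one_mul]

include hG hM hg in
theorem Np_skew : adj (GG G κ) (Np G g i w) = -Np G g i w := by
  have hB := gg_isForm (κ := κ) hG.isForm
  rw [Np, adj_mul hB, adj_mul hB, adj_of_iso hB (hM.le hg), adj_of_iso hB (inv_mem (hM.le hg)), inv_inv, adj_Rz hG,
    neg_mul, mul_neg, Matrix.mul_assoc]

include hG in
theorem Np_sq : Np G g i w * Np G g i w = 0 := by
  rw [Np, show ∀ A B C D E : Matrix (κ → σ) (κ → σ) F, A * B * C * (D * B * E) = A * (B * (C * D) * B) * E from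
    fun A B C D E => by simp only [Matrix.mul_assoc], ← Units.val_mul, inv_mul_cancel, Units.val_one, Matrix.mul_one,
    Rz_sq hG, Matrix.mul_zero, Matrix.zero_mul]

/-- the image of `N'` -/
noncomputable def Dg (G : Matrix σ σ F) (g : GL (κ → σ) F) (i : κ) (w : σ → F) : Submodule F ((κ → σ) → F) :=
  LinearMap.range (Matrix.mulVecLin (Np G g i w))

theorem range_Rz (hG : Alt G) (j : κ) {z : σ → F} (hz : z ≠ 0) :
    LinearMap.range (Matrix.mulVecLin (Rz G j z)) = Tk j (Submodule.span F {z}) :=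
  le_antisymm (by rintro _ ⟨x, rfl⟩; exact Rz_mem j z x) fun x hx => by
    obtain ⟨y, rfl⟩ := exists_Rz_eq hG hz hx
    exact ⟨y, rfl⟩

include hG hw in
theorem finrank_Dg : finrank F (Dg G g i w) = Fintype.card σ ^ (Fintype.card κ - 1) := by
  show (Np G g i w).rank = _
  rw [Np, Matrix.rank_mul_eq_left_of_isUnit_det _ _ ((Matrix.isUnit_iff_isUnit_det _).1 (g⁻¹).isUnit),
    Matrix.rank_mul_eq_right_of_isUnit_det _ _ ((Matrix.isUnit_iff_isUnit_det _).1 g.isUnit)]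
  show finrank F (LinearMap.range (Matrix.mulVecLin (Rz G i w))) = _
  rw [range_Rz hG i hw, finrank_Tk, finrank_span_one hw, one_mul]

include hG hM hR hg hw in
/-- agreement of `g⁻¹` with a wreath element -/
theorem orbit (j : κ) {z : σ → F} (hz : z ≠ 0) : ∃ h ∈ M, ∃ (l : κ) (t : σ → F) (c : F),
    t ≠ 0 ∧ c ≠ 0 ∧ h ∈ Wr F κ σ ∧
    ((h⁻¹ : GL (κ → σ) F) : Matrix (κ → σ) (κ → σ) F) * Rz G i w =
      c • (Rz G l t * ((h⁻¹ : GL (κ → σ) F) : Matrix (κ → σ) (κ → σ) F)) ∧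
    ∀ x, Rz G j z *ᵥ x = 0 → Np G g i w *ᵥ x = 0 →
      (h : Matrix (κ → σ) (κ → σ) F) *ᵥ x = ((g⁻¹ : GL (κ → σ) F) : Matrix (κ → σ) (κ → σ) F) *ᵥ x := by
  haveI : Fintype F := Fintype.ofFinite F
  let S : Subgroup (GL (κ → σ) F) :=
    { carrier := {m | m ∈ M ∧ ∀ x, Rz G j z *ᵥ x = 0 → Np G g i w *ᵥ x = 0 → (m : Matrix _ _ F) *ᵥ x = x}
      one_mem' := ⟨one_mem _, fun x _ _ => one_mulVec x⟩
      mul_mem' := fun {a b} ha hb => ⟨mul_mem ha.1 hb.1, fun x h1 h2 => by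
        rw [Units.val_mul, ← mulVec_mulVec, hb.2 x h1 h2, ha.2 x h1 h2]⟩
      inv_mem' := fun {a} ha => ⟨inv_mem ha.1, fun x h1 h2 => by
        conv_lhs => rw [← ha.2 x h1 h2]
        rw [mulVec_mulVec, ← Units.val_mul, inv_mul_cancel, Units.val_one, one_mulVec]⟩ }
  set r := slot j (rt hG z 1) with hr
  set r' := g * slot i (rt hG w 1) * g⁻¹ with hr'
  have hrS : r ∈ S := ⟨hM.sl j _ (rt_mem_iso hG z 1), fun x h1 _ => by
    rw [hr, slot_rt_val, one_smul, add_mulVec, one_mulVec, h1, add_zero]⟩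
  have hr'S : r' ∈ S := ⟨mul_mem (mul_mem hg (hM.sl i _ (rt_mem_iso hG w 1))) (inv_mem hg), fun x _ h2 => by
    rw [hr', Np_val hG, add_mulVec, one_mulVec, h2, add_zero]⟩
  set p := ringChar F with hp
  haveI : CharP F p := ringChar.charP F
  haveI : Fact p.Prime := ⟨CharP.char_is_prime F p⟩
  have hpow : ∀ (j : κ) (z : σ → F), slot j (rt hG z 1) ^ p = 1 := fun j z => by
    rw [slot_rt_pow, CharP.cast_eq_zero, zero_mul, show rt hG z 0 = 1 from Units.ext (by simp [rt_val]), slot_one]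
  have hcyc : ∀ x : S, x ^ p = 1 → IsPGroup p (Subgroup.zpowers x) := fun x hx y => by
    obtain ⟨n, hn⟩ := Subgroup.mem_zpowers_iff.1 y.2
    refine ⟨1, Subtype.ext ?_⟩
    rw [pow_one, SubmonoidClass.coe_pow, ← hn, ← zpow_natCast, ← _root_.zpow_mul, mul_comm, _root_.zpow_mul, zpow_natCast, hx,
      _root_.one_zpow, OneMemClass.coe_one]
  obtain ⟨P, hP⟩ := (hcyc ⟨r, hrS⟩ (Subtype.ext (hpow j z))).exists_le_sylow
  obtain ⟨Q, hQ⟩ := (hcyc ⟨r', hr'S⟩ (Subtype.ext (by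
    show r' ^ p = 1
    rw [hr', conj_pow, hpow, mul_one, mul_inv_cancel]))).exists_le_sylow
  obtain ⟨c, hc⟩ := MulAction.exists_smul_eq (↥S) Q P
  have hcr : (c * ⟨r', hr'S⟩ * c⁻¹ : S) ∈ (P : Subgroup S) := by
    rw [← hc]
    exact Sylow.coe_subgroup_smul (g := c) (P := Q) ▸ ⟨_, hQ (Subgroup.mem_zpowers _), rfl⟩
  have hPW : (P : Subgroup S).map S.subtype ≤ Wr F κ σ :=
    pgroup_le_Wr hG hR (P.2.map S.subtype) (by rintro _ ⟨x, -, rfl⟩; exact x.2.1) hz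
      ⟨⟨r, hrS⟩, hP (Subgroup.mem_zpowers _), rfl⟩
  have hmem : (c : GL (κ → σ) F) * r' * (c : GL (κ → σ) F)⁻¹ ∈ Wr F κ σ := hPW ⟨_, hcr, rfl⟩
  have hcg : (c : GL (κ → σ) F) * g ∈ Wr F κ σ := hR _ (mul_mem c.2.1 hg) i w hw (by
    rw [hr'] at hmem
    rwa [show (c : GL (κ → σ) F) * g * slot i (rt hG w 1) * ((c : GL (κ → σ) F) * g)⁻¹ =
      (c : GL (κ → σ) F) * (g * slot i (rt hG w 1) * g⁻¹) * (c : GL (κ → σ) F)⁻¹ by group])
  obtain ⟨l, t, a, ht, ha, hconj⟩ := wr_conj_Rz hG hcg (hM.le (mul_mem c.2.1 hg)) i hw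
  refine ⟨((c : GL (κ → σ) F) * g)⁻¹, inv_mem (mul_mem c.2.1 hg), l, t, a, ht, ha, inv_mem hcg,
    by rw [inv_inv]; exact hconj, fun x h1 h2 => ?_⟩
  rw [_root_.mul_inv_rev, Units.val_mul, ← mulVec_mulVec, (S.inv_mem c.2).2 x h1 h2]

include hG in
/-- consequences of the agreement -/
theorem facts_of {j l : κ} {z t : σ → F} {c : F} (hc : c ≠ 0) {h : GL (κ → σ) F}
    (hconj : ((h⁻¹ : GL (κ → σ) F) : Matrix (κ → σ) (κ → σ) F) * Rz G i w =
      c • (Rz G l t * ((h⁻¹ : GL (κ → σ) F) : Matrix (κ → σ) (κ → σ) F)))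
    (hagree : ∀ x, Rz G j z *ᵥ x = 0 → Np G g i w *ᵥ x = 0 →
      (h : Matrix (κ → σ) (κ → σ) F) *ᵥ x = ((g⁻¹ : GL (κ → σ) F) : Matrix (κ → σ) (κ → σ) F) *ᵥ x) :
    (∀ x ∈ Dg G g i w, Rz G j z *ᵥ x = 0 → x ∈ Tk l (Submodule.span F {t})) ∧
    ∀ x, Rz G j z *ᵥ x = 0 → Np G g i w *ᵥ x = 0 → Rz G l t *ᵥ x = 0 := by
  have hback : ∀ x, x = ((h⁻¹ : GL (κ → σ) F) : Matrix (κ → σ) (κ → σ) F) *ᵥ ((h : Matrix (κ → σ) (κ → σ) F) *ᵥ x) :=
    fun x => by rw [mulVec_mulVec, ← Units.val_mul, inv_mul_cancel, Units.val_one, one_mulVec]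
  refine ⟨?_, fun x h1 h2 => ?_⟩
  · rintro _ ⟨y, rfl⟩ hx
    rw [Matrix.mulVecLin_apply] at hx ⊢
    have h2 : Np G g i w *ᵥ (Np G g i w *ᵥ y) = 0 := by rw [mulVec_mulVec, Np_sq hG, zero_mulVec]
    rw [hback (Np G g i w *ᵥ y), hagree _ hx h2, inv_Np_mulVec, mulVec_mulVec, hconj, smul_mulVec, ← mulVec_mulVec]
    exact Submodule.smul_mem _ c (Rz_mem l t _)
  · have e : c • (Rz G l t *ᵥ x) =
        ((h⁻¹ : GL (κ → σ) F) : Matrix (κ → σ) (κ → σ) F) *ᵥ (Rz G i w *ᵥ ((h : Matrix (κ → σ) (κ → σ) F) *ᵥ x)) := by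
      rw [mulVec_mulVec _ _ (Rz G i w), mulVec_mulVec, hconj, Matrix.smul_mul, Matrix.mul_assoc,
        ← Units.val_mul, inv_mul_cancel, Units.val_one, Matrix.mul_one, smul_mulVec]
    rw [hagree x h1 h2, ← inv_Np_mulVec, h2, mulVec_zero, mulVec_zero] at e
    exact (smul_eq_zero.1 e).resolve_left hc

include hG hM hR hg hw in
/-- the wreath element moves the root images -/
theorem orbit_facts (j : κ) {z : σ → F} (hz : z ≠ 0) : ∃ l t, t ≠ 0 ∧
    (∀ x ∈ Dg G g i w, Rz G j z *ᵥ x = 0 → x ∈ Tk l (Submodule.span F {t})) ∧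
    ∀ x, Rz G j z *ᵥ x = 0 → Np G g i w *ᵥ x = 0 → Rz G l t *ᵥ x = 0 := by
  obtain ⟨h, -, l, t, c, ht, hc, -, hconj, hagree⟩ := orbit hG hM hR hg hw j hz
  exact ⟨l, t, ht, facts_of hG hc hconj hagree⟩

theorem range_le_sup {ι : Type} [Fintype ι] [DecidableEq ι] {Z A B C : Matrix ι ι F} (hZ : IsForm Z)
    (hA : adj Z A = -A) (hB : adj Z B = -B) (hC : adj Z C = -C)
    (h : ∀ x, A *ᵥ x = 0 → B *ᵥ x = 0 → C *ᵥ x = 0) :
    LinearMap.range (Matrix.mulVecLin C) ≤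
      LinearMap.range (Matrix.mulVecLin A) ⊔ LinearMap.range (Matrix.mulVecLin B) := by
  intro v hv
  obtain ⟨x, rfl⟩ := hv
  by_contra hne
  obtain ⟨φ, hφ, hφv⟩ := exists_dual _ hne
  obtain ⟨y, hy⟩ : ∃ y, ∀ v, φ v = fm Z v y := by
    refine ⟨Z⁻¹ *ᵥ fun j => φ (Pi.single j 1), fun v => ?_⟩
    rw [fm, mulVec_mulVec, hZ.mul_inv, one_mulVec]
    conv_lhs => rw [pi_eq_sum_univ' v, map_sum]
    exact Finset.sum_congr rfl fun j _ => by rw [map_smul, smul_eq_mul]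
  have key : ∀ X : Matrix ι ι F, adj Z X = -X → (∀ u, φ (X *ᵥ u) = 0) → X *ᵥ y = 0 := fun X hX hφX => by
    by_contra h0
    obtain ⟨u, hu⟩ := fm_nondeg hZ h0
    apply hu
    have h1 := hφX u
    rw [hy, fm_adj hZ, hX, neg_mulVec, fm_neg_right, neg_eq_zero] at h1
    exact h1
  have hCy := h y (key A hA fun u => hφ _ (Submodule.mem_sup_left ⟨u, rfl⟩))
    (key B hB fun u => hφ _ (Submodule.mem_sup_right ⟨u, rfl⟩))
  have h2 := hy (C *ᵥ x)
  rw [fm_adj hZ, hC, neg_mulVec, hCy, neg_zero, fm_zero_right] at h2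
  rw [Matrix.mulVecLin_apply, h2] at hφv
  exact zero_ne_one hφv

include hG hM hR hg hgW hw in
/-- the image of `N'` is in no root image -/
theorem not_le_root (hk : (2 : F) ≠ 0 ∨ 5 ≤ Fintype.card σ) (l : κ) {t : σ → F} (ht : t ≠ 0) :
    ¬ Dg G g i w ≤ Tk l (Submodule.span F {t}) := by
  intro hle
  obtain ⟨i₀, -⟩ := Function.ne_iff.1 ht
  haveI : Nonempty σ := ⟨i₀⟩
  obtain ⟨f, hf⟩ := exists_partner hG ht
  set X := (splM F σ l).symm (Np G g i w) with hX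
  have hXs : splM F σ l X = Np G g i w := AlgEquiv.apply_symm_apply _ _
  have h1 : splM F σ l (K G t f ⊗ₖ 1) * Np G g i w = Np G g i w := by
    refine Matrix.toLin'.injective (LinearMap.ext fun v => ?_)
    simp only [Matrix.toLin'_apply, ← mulVec_mulVec]
    refine ext_col l fun b => ?_
    obtain ⟨r, hr⟩ := Submodule.mem_span_singleton.1 (mem_Tk.1 (hle ⟨v, rfl⟩) b)
    rw [Matrix.mulVecLin_apply] at hr
    rw [kron_one_mulVec, ← hr, mulVec_smul, K_mulVec, hf, one_smul]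
  rw [← hXs, ← map_mul, (splM F σ l).injective.eq_iff] at h1
  have hB := gg_isForm (κ := oth l) hG.isForm
  have hadj : adj (G ⊗ₖ GG G (oth l)) X = -X := by
    have h2 := Np_skew hG hM hg (i := i) (w := w)
    rw [← hXs, adj_splM hG.isForm, ← map_neg, (splM F σ l).injective.eq_iff] at h2
    exact h2
  have h2 : X * (K G (-f) t ⊗ₖ 1) = X := by
    have h3 := congrArg (adj (G ⊗ₖ GG G (oth l))) h1
    rw [adj_mul (kron_isForm hG.isForm hB), adj_kron hG.isForm hB, adj_one hB, hadj, hG.adj_K, neg_kron, Matrix.neg_mul,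
      Matrix.mul_neg] at h3
    rw [neg_neg] at h3
    rw [show K G (-f) t = -K G f t from neg_vecMulVec _ _, neg_kron, Matrix.mul_neg, h3, neg_neg]
  obtain ⟨S, hS⟩ := exists_sandwich (G := G) t f (-f) t X
  rw [h1, h2] at hS
  obtain ⟨c, hc⟩ := (hM.ovr hG hk l).top t S ht ⟨(spl F σ l).symm (g * slot i (rt hG w 1) * g⁻¹), by
      rw [mem_sub, MulEquiv.apply_symm_apply]
      exact mul_mem (mul_mem hg (hM.sl i _ (rt_mem_iso hG w 1))) (inv_mem hg), by
      apply (splM F σ l).injective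
      rw [← spl_val, MulEquiv.apply_symm_apply, Np_val hG, map_add, map_one, ← hXs, hS]⟩
  refine hgW (hR g hg i w hw ?_)
  rw [show g * slot i (rt hG w 1) * g⁻¹ = slot l (rt hG t c) from Units.ext ?_]
  · exact slot_mem_Wr _ _
  rw [Np_val hG, slot_rt_val, ← hXs, hS, hc, kron_smul, map_smul, Rz]

include hG hM hR hg hgW hw in
theorem not_le_ker (hk : (2 : F) ≠ 0 ∨ 5 ≤ Fintype.card σ) (j : κ) {z : σ → F} (hz : z ≠ 0) :
    ¬ Dg G g i w ≤ Tk j (LinearMap.ker (fmL G z)) := fun hle => by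
  obtain ⟨l, t, ht, hD, -⟩ := orbit_facts hG hM hR hg hw j hz
  exact not_le_root hG hM hR hg hgW hw hk l ht fun x hx => hD x hx ((mem_ker_Rz hz).2 (hle hx))

include hG hM hR hg hgW hw in
theorem slot_eq (hk : (2 : F) ≠ 0 ∨ 5 ≤ Fintype.card σ) (h4 : 4 ≤ Fintype.card σ) (j : κ) {z : σ → F} (hz : z ≠ 0)
    {l : κ} {t : σ → F} (ht : t ≠ 0)
    (hD : ∀ x ∈ Dg G g i w, Rz G j z *ᵥ x = 0 → x ∈ Tk l (Submodule.span F {t}))
    (hker : ∀ x, Rz G j z *ᵥ x = 0 → Np G g i w *ᵥ x = 0 → Rz G l t *ᵥ x = 0) :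
    l = j ∧ t ∈ Submodule.span F {z} := by
  have hB := gg_isForm (κ := κ) hG.isForm
  have hsub : ∀ (j : κ) (z : σ → F), z ≠ 0 → ∀ (l : κ) (t : σ → F), t ≠ 0 →
      (∀ x, Rz G j z *ᵥ x = 0 → Np G g i w *ᵥ x = 0 → Rz G l t *ᵥ x = 0) →
      Tk l (Submodule.span F {t}) ≤ Tk j (Submodule.span F {z}) ⊔ Dg G g i w := fun j z hz l t ht h => by
    rw [← range_Rz hG l ht, ← range_Rz hG j hz]
    exact range_le_sup hB (adj_Rz hG j z) (Np_skew hG hM hg (i := i) (w := w)) (adj_Rz hG l t) h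
  set N := Fintype.card σ ^ (Fintype.card κ - 1) with hN
  have hfD := finrank_Dg hG (g := g) (i := i) hw
  have hline : ∀ (j : κ) (z : σ → F), z ≠ 0 → finrank F (Tk j (Submodule.span F {z})) = N := fun j z hz => by
    rw [finrank_Tk, finrank_span_one hz, one_mul]
  -- equal positions
  have same : ∀ (j : κ) (z : σ → F), z ≠ 0 → ∀ t : σ → F, t ≠ 0 →
      (∀ x, Rz G j z *ᵥ x = 0 → Np G g i w *ᵥ x = 0 → Rz G j t *ᵥ x = 0) → t ∈ Submodule.span F {z} := by
    intro j z hz t ht h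
    by_contra hind
    have hle := hsub j z hz j t ht h
    have hinf : Submodule.span F {z} ⊓ Submodule.span F {t} = ⊥ := by
      rw [Submodule.eq_bot_iff]
      rintro x ⟨h1, h2⟩
      obtain ⟨a, ha⟩ := Submodule.mem_span_singleton.1 h2
      by_contra hx
      have ha0 : a ≠ 0 := fun h0 => hx (by rw [← ha, h0, zero_smul])
      exact hind (by rw [← inv_smul_smul₀ ha0 t, ha]; exact Submodule.smul_mem _ _ h1)
    have h2N : finrank F ↥(Tk j (Submodule.span F {z}) ⊔ Tk j (Submodule.span F {t})) = N + N := by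
      have h1 := Submodule.finrank_sup_add_finrank_inf_eq (Tk j (Submodule.span F {z})) (Tk j (Submodule.span F {t}))
      rw [Tk_inf, hinf, Tk_bot, finrank_bot, add_zero, hline j z hz, hline j t ht] at h1
      exact h1
    have hup : finrank F ↥(Tk j (Submodule.span F {z}) ⊔ Dg G g i w) ≤ N + N :=
      (Submodule.finrank_add_le_finrank_add_finrank _ _).trans (by rw [hline j z hz, hfD])
    have heq := Submodule.eq_of_le_of_finrank_le
      (sup_le le_sup_left hle : Tk j (Submodule.span F {z}) ⊔ Tk j (Submodule.span F {t}) ≤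
        Tk j (Submodule.span F {z}) ⊔ Dg G g i w) (by omega)
    obtain ⟨u, hu, huz, hut⟩ := exists_perp_pair hG (by omega) z t
    refine not_le_ker hG hM hR hg hgW (i := i) hw hk j hu ?_
    calc Dg G g i w ≤ Tk j (Submodule.span F {z}) ⊔ Tk j (Submodule.span F {t}) := heq ▸ le_sup_right
      _ ≤ Tk j (LinearMap.ker (fmL G u)) := by
        refine sup_le (Tk_mono j ?_) (Tk_mono j ?_) <;>
          refine Submodule.span_le.2 (Set.singleton_subset_iff.2 (LinearMap.mem_ker.2 ?_)) <;> rw [fmL_apply]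
        · rw [hG.fm_swap u z, huz, neg_zero]
        · rw [hG.fm_swap u t, hut, neg_zero]
  by_cases hlj : l = j
  · subst hlj
    exact ⟨rfl, same _ z hz t ht hker⟩
  exfalso
  set C := Fintype.card σ ^ (Fintype.card κ - 2) with hC
  set Bz := Tk j (Submodule.span F {z}) with hBz
  set Bt := Tk l (Submodule.span F {t}) with hBt
  set Kz := Tk j (LinearMap.ker (fmL G z)) with hKz
  -- the part of `D` killed by the root
  have hdim1 : finrank F Bt ≤ finrank F ↥(Bt ⊓ Kz) + C := by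
    let φ := (Matrix.mulVecLin (Rz G j z)).comp Bt.subtype
    have h1 := LinearMap.finrank_range_add_finrank_ker φ
    have h2 : finrank F (LinearMap.range φ) ≤ C := by
      refine (Submodule.finrank_mono ?_).trans (finrank_Tk_inf (F := F) (Ne.symm hlj) hz ht)
      rintro _ ⟨⟨x, hx⟩, rfl⟩
      refine ⟨Rz_mem j z x, ?_⟩
      obtain ⟨y, rfl⟩ := exists_Rz_eq hG ht hx
      have hcom : Rz G j z * Rz G l t = Rz G l t * Rz G j z := by
        rw [Rz_eq_ten, Rz_eq_ten, ← map_mul, ← map_mul]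
        congr 1
        funext m
        by_cases hm : m = j
        · subst hm; simp [put, Ne.symm hlj]
        · simp [put, hm]
      show Rz G j z *ᵥ (Rz G l t *ᵥ y) ∈ Bt
      rw [mulVec_mulVec, hcom, ← mulVec_mulVec]
      exact Rz_mem l t _
    have h3 : finrank F (LinearMap.ker φ) ≤ finrank F ↥(Bt ⊓ Kz) := by
      have h4 : (LinearMap.ker φ).map Bt.subtype ≤ Bt ⊓ Kz := by
        rintro _ ⟨x, hx, rfl⟩
        exact ⟨x.2, (mem_ker_Rz hz).1 hx⟩
      have := Submodule.finrank_mono h4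
      rwa [Submodule.finrank_map_subtype_eq] at this
    omega
  have hU : Bz ⊔ (Bt ⊓ Kz) ≤ Bz ⊔ (Dg G g i w ⊓ Kz) := by
    refine sup_le le_sup_left ?_
    rw [← sup_inf_assoc_of_le _ (Tk_mono j (span_le_ker hG z))]
    exact le_inf (inf_le_left.trans (hsub j z hz l t ht hker)) inf_le_right
  have h5 := Submodule.finrank_sup_add_finrank_inf_eq Bz (Bt ⊓ Kz)
  have h6 : finrank F ↥(Bz ⊓ (Bt ⊓ Kz)) ≤ C :=
    (Submodule.finrank_mono (inf_le_inf le_rfl inf_le_left)).trans (finrank_Tk_inf (F := F) (Ne.symm hlj) hz ht)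
  have h7 := (Submodule.finrank_mono hU).trans (Submodule.finrank_add_le_finrank_add_finrank _ _)
  rw [hline l t ht] at hdim1
  -- that part is in the image of the root of `t`, hence killed by an orthogonal one
  obtain ⟨v, hvt, hv⟩ := exists_perp_indep hG (by omega) t ht
  have hv0 : v ≠ 0 := fun h => hv (h ▸ Submodule.zero_mem _)
  obtain ⟨l₂, t₂, ht₂, hD₂, hker₂⟩ := orbit_facts hG hM hR hg hw l hv0
  have hL1 : Dg G g i w ⊓ Kz ≤ Bt := fun x hx => hD x hx.1 ((mem_ker_Rz hz).2 hx.2)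
  have hL2 : Dg G g i w ⊓ Kz ≤ Tk l₂ (Submodule.span F {t₂}) := fun x hx =>
    hD₂ x hx.1 ((mem_ker_Rz hv0).2 (Tk_mono l (Submodule.span_le.2 (Set.singleton_subset_iff.2
      (LinearMap.mem_ker.2 (by rw [fmL_apply, hG.fm_swap v t, hvt, neg_zero])))) (hL1 hx)))
  have h8 : finrank F ↥(Dg G g i w ⊓ Kz) ≤ C := by
    refine (Submodule.finrank_mono (le_inf hL1 hL2)).trans ?_
    by_cases hl2 : l₂ = l
    · subst hl2
      have ht2v := same l₂ v hv0 t₂ ht₂ hker₂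
      have hbot : Submodule.span F {t} ⊓ Submodule.span F {t₂} = ⊥ := by
        rw [Submodule.eq_bot_iff]
        rintro x ⟨h1, h2⟩
        obtain ⟨a, ha⟩ := Submodule.mem_span_singleton.1 h1
        by_contra hx
        obtain ⟨b, hb⟩ := Submodule.mem_span_singleton.1 (Submodule.span_le.2 (Set.singleton_subset_iff.2 ht2v) h2)
        have hb0 : b ≠ 0 := fun h0 => hx (by rw [← hb, h0, zero_smul])
        exact hv (by rw [← inv_smul_smul₀ hb0 v, hb, ← ha, smul_smul]; exact Submodule.mem_span_singleton.2 ⟨_, rfl⟩)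
      rw [hBt, Tk_inf, hbot, Tk_bot, finrank_bot]
      exact Nat.zero_le _
    · exact finrank_Tk_inf (Ne.symm hl2) ht ht₂
  have hkC : N = Fintype.card σ * C := by
    have h1 : 1 < Fintype.card κ := Fintype.one_lt_card_iff.2 ⟨j, l, Ne.symm hlj⟩
    rw [hN, hC, ← pow_succ', show Fintype.card κ - 2 + 1 = Fintype.card κ - 1 by omega]
  have hC0 : 0 < C := pow_pos (by omega) _
  have h9 : 4 * C ≤ N := hkC ▸ Nat.mul_le_mul h4 le_rfl
  rw [hline j z hz] at h5 h7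
  omega

include hG hM hR hg hgW hw in
/-- **in dimension four or more the wreath element maps the root to the fixed root** -/
theorem key (hk : (2 : F) ≠ 0 ∨ 5 ≤ Fintype.card σ) (h4 : 4 ≤ Fintype.card σ) (j : κ) {z : σ → F} (hz : z ≠ 0) :
    ∃ h ∈ M, ∃ a : F, a ≠ 0 ∧
      ((h⁻¹ : GL (κ → σ) F) : Matrix (κ → σ) (κ → σ) F) * Rz G i w =
        a • (Rz G j z * ((h⁻¹ : GL (κ → σ) F) : Matrix (κ → σ) (κ → σ) F)) ∧
      ∀ x, Rz G j z *ᵥ x = 0 → Np G g i w *ᵥ x = 0 →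
        (h : Matrix (κ → σ) (κ → σ) F) *ᵥ x = ((g⁻¹ : GL (κ → σ) F) : Matrix (κ → σ) (κ → σ) F) *ᵥ x := by
  obtain ⟨h, hhM, l, t, c, ht, hc, -, hconj, hagree⟩ := orbit hG hM hR hg hw j hz
  obtain ⟨hD, hker⟩ := facts_of hG hc hconj hagree
  obtain ⟨rfl, hmem⟩ := slot_eq hG hM hR hg hgW hw hk h4 j hz ht hD hker
  obtain ⟨r, rfl⟩ := Submodule.mem_span_singleton.1 hmem
  have hr : r ≠ 0 := fun h0 => ht (by rw [h0, zero_smul])
  refine ⟨h, hhM, c * (r * r), mul_ne_zero hc (mul_ne_zero hr hr), ?_, hagree⟩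
  rw [hconj, mul_smul c]
  congr 1
  rw [Rz, Rz, K_smul_self, Matrix.smul_kronecker, map_smul, Matrix.smul_mul]

include hG hM hR hg hgW hw in
theorem inter_D (hk : (2 : F) ≠ 0 ∨ 5 ≤ Fintype.card σ) (h4 : 4 ≤ Fintype.card σ) (j : κ) {z : σ → F} (hz : z ≠ 0)
    {x : (κ → σ) → F} (hx : x ∈ Dg G g i w) (h0 : Rz G j z *ᵥ x = 0) : x = 0 := by
  have hin : ∀ (z : σ → F), z ≠ 0 → Rz G j z *ᵥ x = 0 → x ∈ Tk j (Submodule.span F {z}) := fun z hz h0 => by
    obtain ⟨h, -, a, ha, hconj, hagree⟩ := key hG hM hR hg hgW (i := i) hw hk h4 j hz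
    exact (facts_of hG ha hconj hagree).1 x hx h0
  obtain ⟨v, hv, hv'⟩ := exists_perp_indep hG (by omega) z hz
  have hv0 : v ≠ 0 := fun h => hv' (h ▸ Submodule.zero_mem _)
  have h1 := hin z hz h0
  have h2 := hin v hv0 ((mem_ker_Rz hv0).2 (Tk_mono j (Submodule.span_le.2 (Set.singleton_subset_iff.2
    (LinearMap.mem_ker.2 (by rw [fmL_apply, hG.fm_swap v z, hv, neg_zero])))) h1))
  refine ext_col j fun b => ?_
  rw [map_zero]
  obtain ⟨r, hr⟩ := Submodule.mem_span_singleton.1 (mem_Tk.1 h1 b)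
  obtain ⟨s, hs⟩ := Submodule.mem_span_singleton.1 (mem_Tk.1 h2 b)
  by_contra hne
  have hs0 : s ≠ 0 := fun h => hne (by rw [← hs, h, zero_smul])
  exact hv' (by rw [← inv_smul_smul₀ hs0 v, hs, ← hr, smul_smul]; exact Submodule.mem_span_singleton.2 ⟨_, rfl⟩)

include hG hM hR hg hgW hw in
theorem inter_B (hk : (2 : F) ≠ 0 ∨ 5 ≤ Fintype.card σ) (h4 : 4 ≤ Fintype.card σ) (j : κ) {z : σ → F} (hz : z ≠ 0)
    {x : (κ → σ) → F} (hx : x ∈ Tk j (Submodule.span F {z})) (h0 : Np G g i w *ᵥ x = 0) : x = 0 := by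
  obtain ⟨h, -, a, ha, hconj, hagree⟩ := key hG hM hR hg hgW (i := i) hw hk h4 j hz
  have h1 : Rz G j z *ᵥ x = 0 := (mem_ker_Rz hz).2 (Tk_mono j (span_le_ker hG z) hx)
  refine inter_D hG hM hR hg hgW (i := i) hw hk h4 j hz ?_ h1
  obtain ⟨y, rfl⟩ := exists_Rz_eq hG hz hx
  set h₀ := (h : Matrix (κ → σ) (κ → σ) F)
  set h' := ((h⁻¹ : GL (κ → σ) F) : Matrix (κ → σ) (κ → σ) F)
  have hh : h₀ * h' = 1 := by rw [← Units.val_mul, mul_inv_cancel, Units.val_one]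
  have hh' : h' * h₀ = 1 := by rw [← Units.val_mul, inv_mul_cancel, Units.val_one]
  have e : h₀ * Rz G j z = a⁻¹ • (Rz G i w * h₀) := by
    have h2 : Rz G j z = a⁻¹ • (h' * Rz G i w * h₀) := by
      rw [hconj, Matrix.smul_mul, Matrix.mul_assoc, hh', Matrix.mul_one, inv_smul_smul₀ ha]
    conv_lhs => rw [h2]
    rw [Matrix.mul_smul, ← Matrix.mul_assoc, ← Matrix.mul_assoc, hh, Matrix.one_mul]
  have h3 : ((g⁻¹ : GL (κ → σ) F) : Matrix (κ → σ) (κ → σ) F) *ᵥ (Rz G j z *ᵥ y) =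
      Rz G i w *ᵥ (a⁻¹ • (h₀ *ᵥ y)) := by
    rw [← hagree _ h1 h0, mulVec_mulVec, e, smul_mulVec, mulVec_smul, mulVec_mulVec]
  refine ⟨(g : Matrix (κ → σ) (κ → σ) F) *ᵥ (a⁻¹ • (h₀ *ᵥ y)), ?_⟩
  have h4' := congrArg ((g : Matrix (κ → σ) (κ → σ) F) *ᵥ ·) h3
  simp only [mulVec_mulVec, ← Matrix.mul_assoc, ← Units.val_mul, mul_inv_cancel, Units.val_one, Matrix.one_mul] at h4'
  rw [Matrix.mulVecLin_apply, Np, mulVec_mulVec, Matrix.mul_assoc _ _ (g : Matrix (κ → σ) (κ → σ) F),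
    ← Units.val_mul, inv_mul_cancel, Units.val_one, Matrix.mul_one]
  simp only [h4', mulVec_mulVec]

end Cfsg.Agent.MaxCl.Pow
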