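/-
Two square-zero maps `N, N'` in odd characteristic, injective on each other's image: the group generated by `1 + N`
and `1 + N'` contains an involution commuting with both.
-/
import Cfsg.Agent.Lib.MaxCl.PowerFlag
import Cfsg.Agent.Lib.MaxCl.SLTwoSub

set_option autoImplicit false
set_option linter.unusedSectionVars false

namespace Cfsg.Agent.MaxCl.Pow

open Matrix
open scoped MatrixGroups

variable {ι : Type} [Fintype ι] [DecidableEq ι] {F : Type*} [Field F]

section Shape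

variable {N N' : Matrix ι ι F} (hN : N * N = 0) (hN' : N' * N' = 0)
include hN hN'

theorem comm_pair : Commute (N * N' + N' * N) N ∧ Commute (N * N' + N' * N) N' := by
  constructor <;>
    simp only [Commute, SemiconjBy, add_mul, mul_add, Matrix.mul_assoc, hN, hN', ← Matrix.mul_assoc N N,
      ← Matrix.mul_assoc N' N', Matrix.zero_mul, Matrix.mul_zero, add_zero, zero_add]

variable {A : Type*} [CommRing A] [Algebra F A] (ev : A →ₐ[F] Matrix ι ι F) (s : A)

/-- the operator of a quadruple -/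
def shp (N N' : Matrix ι ι F) (ev : A →ₐ[F] Matrix ι ι F) (a b c d : A) : Matrix ι ι F :=
  1 + ev a * (N * N') + ev b * N + ev c * N' + ev d * (N' * N)

theorem shp_mul (hs : ev s = N * N' + N' * N) (hc : ∀ a, Commute (ev a) N ∧ Commute (ev a) N') (a b c d a' b' c' d' : A) :
    shp N N' ev a b c d * shp N N' ev a' b' c' d' =
      shp N N' ev (a + a' + a * a' * s + b * c') (b + b' + a * b' * s + b * d' * s)
        (c + c' + c * a' * s + d * c' * s) (d + d' + d * d' * s + c * b') := by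
  have hsw : ∀ (e : A) (X : Matrix ι ι F), N * (ev e * X) = ev e * (N * X) := fun e X => by
    rw [← Matrix.mul_assoc, ← (hc e).1.eq, Matrix.mul_assoc]
  have hsw' : ∀ (e : A) (X : Matrix ι ι F), N' * (ev e * X) = ev e * (N' * X) := fun e X => by
    rw [← Matrix.mul_assoc, ← (hc e).2.eq, Matrix.mul_assoc]
  have k1 : ∀ X : Matrix ι ι F, N * (N * X) = 0 := fun X => by rw [← Matrix.mul_assoc, hN, Matrix.zero_mul]
  have k2 : ∀ X : Matrix ι ι F, N' * (N' * X) = 0 := fun X => by rw [← Matrix.mul_assoc, hN', Matrix.zero_mul]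
  have m1 : ev s * (N * N') = N * (N' * (N * N')) := by
    rw [hs, add_mul, Matrix.mul_assoc, Matrix.mul_assoc, k1, Matrix.mul_zero, add_zero]
  have m2 : ev s * N = N * (N' * N) := by
    rw [hs, add_mul, Matrix.mul_assoc, Matrix.mul_assoc, hN, Matrix.mul_zero, add_zero]
  have m3 : ev s * N' = N' * (N * N') := by
    rw [hs, add_mul, Matrix.mul_assoc, Matrix.mul_assoc, hN', Matrix.mul_zero, zero_add]
  have m4 : ev s * (N' * N) = N' * (N * (N' * N)) := by
    rw [hs, add_mul, Matrix.mul_assoc, Matrix.mul_assoc, k2, Matrix.mul_zero, zero_add]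
  simp only [shp, map_add, map_mul, add_mul, mul_add, Matrix.one_mul, Matrix.mul_one, Matrix.mul_assoc, hsw, hsw',
    m1, m2, m3, m4, hN, hN', k1, k2, Matrix.mul_zero, add_zero]
  abel

end Shape

/-- **the involution** -/
theorem exists_involution [Finite F] (h2 : (2 : F) ≠ 0) {M : Subgroup (GL ι F)} {N N' : Matrix ι ι F}
    (hN : N * N = 0) (hN' : N' * N' = 0) (hu : Mem M (1 + N)) (hv : Mem M (1 + N'))
    (hA : ∀ x, N *ᵥ (N' *ᵥ x) = 0 → N' *ᵥ x = 0) (hB : ∀ x, N' *ᵥ (N *ᵥ x) = 0 → N *ᵥ x = 0) (hne : N ≠ 0) :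
    ∃ g ∈ M, g * g = 1 ∧ g ≠ 1 ∧ (g : Matrix ι ι F) * N = N * (g : Matrix ι ι F) ∧
      ∀ x, ∃ y y', (g : Matrix ι ι F) *ᵥ x - x = N *ᵥ y + N' *ᵥ y' := by
  classical
  haveI : Fintype F := Fintype.ofFinite F
  set S := N * N' + N' * N with hS
  set q := minpoly F S with hq
  have hqm : q.Monic := minpoly.monic (Algebra.IsIntegral.isIntegral S)
  let A := Polynomial F ⧸ Ideal.span {q}
  let ev : A →ₐ[F] Matrix ι ι F := Ideal.Quotient.liftₐ (Ideal.span {q}) (Polynomial.aeval S) fun a ha => by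
    obtain ⟨b, rfl⟩ := Ideal.mem_span_singleton.1 ha
    rw [map_mul, minpoly.aeval, zero_mul]
  have hevmk : ∀ p : Polynomial F, ev (Ideal.Quotient.mk _ p) = Polynomial.aeval S p := fun p => rfl
  have hinj : ∀ a : A, ev a = 0 → a = 0 := fun a ha => by
    obtain ⟨p, rfl⟩ := Ideal.Quotient.mk_surjective a
    rw [hevmk] at ha
    exact Ideal.Quotient.eq_zero_iff_mem.2 (Ideal.mem_span_singleton.2 (minpoly.dvd F S ha))
  set s : A := Ideal.Quotient.mk _ Polynomial.X with hsdef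
  have hs : ev s = N * N' + N' * N := by rw [hsdef, hevmk, Polynomial.aeval_X]
  haveI : Module.Finite F A := hqm.finite_adjoinRoot
  haveI : Finite A := Module.finite_of_finite F
  have hc : ∀ a : A, Commute (ev a) N ∧ Commute (ev a) N' := fun a => by
    obtain ⟨p, rfl⟩ := Ideal.Quotient.mk_surjective a
    rw [hevmk]
    constructor
    · exact (Algebra.commute_of_mem_adjoin_singleton_of_commute (Polynomial.aeval_mem_adjoin_singleton F S)
        (comm_pair hN hN').1.symm).symm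
    · exact (Algebra.commute_of_mem_adjoin_singleton_of_commute (Polynomial.aeval_mem_adjoin_singleton F S)
        (comm_pair hN hN').2.symm).symm
  -- the image of `N` is invariant and the non-zero vectors in it are moved
  have hcN : ∀ (a : A) x, ev a *ᵥ (N *ᵥ x) = N *ᵥ (ev a *ᵥ x) := fun a x => by
    rw [mulVec_mulVec, (hc a).1.eq, ← mulVec_mulVec]
  have hcN' : ∀ (a : A) x, ev a *ᵥ (N' *ᵥ x) = N' *ᵥ (ev a *ᵥ x) := fun a x => by
    rw [mulVec_mulVec, (hc a).2.eq, ← mulVec_mulVec]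
  have hNN : ∀ x, N *ᵥ (N *ᵥ x) = 0 := fun x => by rw [mulVec_mulVec, hN, zero_mulVec]
  have hN'N' : ∀ x, N' *ᵥ (N' *ᵥ x) = 0 := fun x => by rw [mulVec_mulVec, hN', zero_mulVec]
  have hSx : ∀ x, ev s *ᵥ x = N *ᵥ (N' *ᵥ x) + N' *ᵥ (N *ᵥ x) := fun x => by
    rw [hs, add_mulVec, mulVec_mulVec, mulVec_mulVec]
  have hSB : ∀ x, ev s *ᵥ (N *ᵥ x) = 0 → N *ᵥ x = 0 := fun x h => by
    rw [hSx, hNN, mulVec_zero, add_zero] at h
    exact hB x (hA _ h)
  have hsnil : ¬ IsNilpotent s := by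
    rintro ⟨n, hn⟩
    obtain ⟨x, hx⟩ : ∃ x, N *ᵥ x ≠ 0 := by
      by_contra! h
      exact hne (Matrix.toLin'.injective (LinearMap.ext fun x => by simpa using h x))
    have : ∀ m, ev (s ^ m) *ᵥ (N *ᵥ x) ≠ 0 := fun m => by
      induction m with
      | zero => simpa using hx
      | succ m ih =>
        intro h0
        rw [pow_succ', map_mul, ← mulVec_mulVec, hcN] at h0
        exact ih (by rw [hcN]; exact hSB _ h0)
    exact this n (by rw [hn, map_zero, zero_mulVec])
  rw [nilpotent_iff_mem_prime] at hsnil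
  push Not at hsnil
  obtain ⟨P, hP, hsP⟩ := hsnil
  haveI := hP
  haveI : P.IsMaximal := IsArtinianRing.isMaximal_of_isPrime P
  letI : Field (A ⧸ P) := Ideal.Quotient.field P
  haveI : Finite (A ⧸ P) := Quotient.finite _
  let π : SL(2, A) →* SL(2, A ⧸ P) := Matrix.SpecialLinearGroup.map (Ideal.Quotient.mk P)
  -- the pair group
  obtain ⟨gu, hgu, hgu'⟩ := hu
  obtain ⟨gv, hgv, hgv'⟩ := hv
  let Sh : SL(2, A) × GL ι F → Prop := fun p => p.2 ∈ M ∧ ∃ a b c d : A,
    (p.1 : Matrix (Fin 2) (Fin 2) A) = !![1 + a * s, b; c * s, 1 + d * s] ∧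
      (p.2 : Matrix ι ι F) = shp N N' ev a b c d
  let H₀ : Submonoid (SL(2, A) × GL ι F) :=
    { carrier := {p | Sh p}
      one_mem' := ⟨one_mem _, 0, 0, 0, 0, by simp [Matrix.one_fin_two], by simp [shp]⟩
      mul_mem' := by
        rintro p p' ⟨hp, a, b, c, d, e1, e2⟩ ⟨hp', a', b', c', d', e1', e2'⟩
        refine ⟨mul_mem hp hp', a + a' + a * a' * s + b * c', b + b' + a * b' * s + b * d' * s,
          c + c' + c * a' * s + d * c' * s, d + d' + d * d' * s + c * b', ?_, ?_⟩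
        · rw [Prod.fst_mul]
          refine (Matrix.SpecialLinearGroup.coe_mul p.1 p'.1).trans ?_
          rw [e1, e1', Matrix.mul_fin_two]
          ext i j
          fin_cases i <;> fin_cases j <;> simp <;> ring
        · rw [Prod.snd_mul, Units.val_mul, e2, e2', shp_mul hN hN' ev s hs hc] }
  let H : Subgroup (SL(2, A) × GL ι F) :=
    { H₀ with
      inv_mem' := fun {p} hp => by
        have h1 : p⁻¹ = p ^ (orderOf p - 1) := by
          refine inv_eq_of_mul_eq_one_right ?_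
          rw [← pow_succ', Nat.sub_add_cancel (orderOf_pos p), pow_orderOf_eq_one]
        rw [h1]
        exact H₀.pow_mem hp _ }
  have hu' : ((⟨!![1, 1; 0, 1], by simp [det_fin_two]⟩ : SL(2, A)), gu) ∈ H :=
    ⟨hgu, 0, 1, 0, 0, by simp, by simp [shp, hgu']⟩
  have hv' : ((⟨!![1, 0; s, 1], by simp [det_fin_two]⟩ : SL(2, A)), gv) ∈ H :=
    ⟨hgv, 0, 0, 1, 0, by simp, by simp [shp, hgv']⟩
  set X := H.map (π.comp (MonoidHom.fst _ _)) with hX
  have hneg : (-1 : SL(2, A ⧸ P)) ∈ X := by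
    have h2' : (2 : A ⧸ P) ≠ 0 := fun h => h2 ((algebraMap F (A ⧸ P)).injective (by rw [map_ofNat, h, map_zero]))
    refine SLTwo.neg_one_mem h2' X one_ne_zero ⟨_, hu', Subtype.ext ?_⟩ ⟨_, hv', rfl⟩ ?_
    · ext i j
      fin_cases i <;> fin_cases j <;> first
        | exact map_one (Ideal.Quotient.mk P)
        | exact map_zero (Ideal.Quotient.mk P)
    · simp [π]
      exact fun h => hsP (Ideal.Quotient.eq_zero_iff_mem.1 h)
  obtain ⟨p, hp, hpneg⟩ := hneg
  -- coefficients of the identity vanish on the image of `N`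
  have one_shp : ∀ a b c d : A, shp N N' ev a b c d = 1 → ∀ x,
      ev (a * s) *ᵥ (N *ᵥ x) = 0 ∧ ev b *ᵥ (N *ᵥ x) = 0 ∧ ev c *ᵥ (N *ᵥ x) = 0 ∧ ev (d * s) *ᵥ (N *ᵥ x) = 0 := by
    intro a b c d e2
    have e : ∀ x, ev a *ᵥ (N *ᵥ (N' *ᵥ x)) + ev b *ᵥ (N *ᵥ x) + ev c *ᵥ (N' *ᵥ x) +
        ev d *ᵥ (N' *ᵥ (N *ᵥ x)) = 0 := fun x => by
      have h1 := congrArg (· *ᵥ x) e2
      simp only [shp, add_mulVec, one_mulVec, ← mulVec_mulVec] at h1
      rw [← sub_eq_zero] at h1
      rw [← h1]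
      abel
    have kc : ∀ x, ev c *ᵥ (N *ᵥ x) = 0 := fun x => by
      have h1 := congrArg (N *ᵥ ·) (e (N *ᵥ x))
      simp only [hNN, mulVec_zero, add_zero, mulVec_add, ← hcN, zero_add] at h1
      rw [hcN, hcN'] at h1
      exact hB (ev c *ᵥ x) (by rw [← hcN]; exact hA _ h1) ▸ hcN c x
    have kb' : ∀ x, ev b *ᵥ (N' *ᵥ x) = 0 := fun x => by
      have h1 := congrArg (N' *ᵥ ·) (e (N' *ᵥ x))
      simp only [hN'N', mulVec_zero, add_zero, zero_add, mulVec_add, ← hcN'] at h1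
      rw [hcN', hcN] at h1
      have h3 : N *ᵥ (N' *ᵥ (ev b *ᵥ x)) = 0 := by rw [← hcN']; exact hB _ h1
      rw [hcN']
      exact hA _ h3
    have kd' : ∀ x, ev (d * s) *ᵥ (N' *ᵥ x) = 0 := fun x => by
      have h1 := e (N' *ᵥ x)
      simp only [hN'N', mulVec_zero, add_zero, zero_add] at h1
      rw [hcN b, kb', mulVec_zero, zero_add] at h1
      rw [map_mul, ← mulVec_mulVec, hSx, hN'N', mulVec_zero, zero_add]
      exact h1
    have hSN : ∀ (r : A) x, (∀ y, ev r *ᵥ (N' *ᵥ y) = 0) → ev r *ᵥ (N *ᵥ x) = 0 := fun r x hr => by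
      rw [hcN]
      refine hSB _ ?_
      rw [hSx, hNN, mulVec_zero, add_zero, ← hcN, ← hcN', hr, mulVec_zero]
    intro x
    refine ⟨?_, hSN b x kb', kc x, hSN _ x kd'⟩
    have h1 := e (N *ᵥ x)
    simp only [hNN, mulVec_zero, add_zero] at h1
    rw [hcN', kc, mulVec_zero, add_zero] at h1
    rw [map_mul, ← mulVec_mulVec, hSx, hNN, mulVec_zero, add_zero]
    exact h1
  -- an element of even order in the second coordinate
  have hker : ∀ p ∈ H, p.2 = 1 → π p.1 = 1 := by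
    rintro p ⟨-, a, b, c, d, e1, e2⟩ hp2
    rw [hp2, Units.val_one] at e2
    have k := one_shp a b c d e2.symm
    have kill : ∀ r : A, (∀ x, ev r *ᵥ (N *ᵥ x) = 0) → r ∈ P := fun r hr => by
      have h0 : r * s = 0 := hinj _ (Matrix.toLin'.injective (LinearMap.ext fun x => by
        simp only [Matrix.toLin'_apply, map_zero, LinearMap.zero_apply, map_mul, ← mulVec_mulVec, hSx, mulVec_add]
        rw [hr, zero_add, hcN', hr, mulVec_zero]))
      exact (hP.mem_or_mem (h0 ▸ P.zero_mem : r * s ∈ P)).resolve_right hsP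
    refine Subtype.ext ?_
    have q1 := Ideal.Quotient.eq_zero_iff_mem.2 (kill _ fun x => (k x).1)
    have q2 := Ideal.Quotient.eq_zero_iff_mem.2 (kill _ fun x => (k x).2.1)
    have q3 := Ideal.Quotient.eq_zero_iff_mem.2 (kill _ fun x => (k x).2.2.1)
    have q4 := Ideal.Quotient.eq_zero_iff_mem.2 (kill _ fun x => (k x).2.2.2)
    rw [map_mul] at q1 q4
    ext i j
    fin_cases i <;> fin_cases j <;> simp [π, e1, q1, q2, q3, q4]
  have h2' : (2 : A ⧸ P) ≠ 0 := fun h => h2 ((algebraMap F (A ⧸ P)).injective (by rw [map_ofNat, h, map_zero]))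
  set n := orderOf p.2 with hn
  have hn0 : 0 < n := orderOf_pos p.2
  have heven : Even n := by
    rcases Nat.even_or_odd n with h | h
    · exact h
    exfalso
    have h1 := hker (p ^ n) (pow_mem hp n) (by rw [Prod.pow_snd, hn, pow_orderOf_eq_one])
    rw [Prod.pow_fst, map_pow, show π p.1 = -1 from hpneg] at h1
    have h3 := congrArg (fun X : SL(2, A ⧸ P) => (X : Matrix (Fin 2) (Fin 2) (A ⧸ P)) 0 0) h1
    simp [h.neg_one_pow] at h3
    exact h2' (by linear_combination -h3)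
  obtain ⟨m, hm⟩ := heven
  obtain ⟨hgM, a, b, c, d, e1, e2⟩ := (pow_mem hp m : p ^ m ∈ H)
  set g := (p ^ m).2 with hgdef
  have hg2 : g * g = 1 := by rw [hgdef, Prod.pow_snd, ← pow_add, ← hm, hn, pow_orderOf_eq_one]
  have hg1 : g ≠ 1 := fun h => by
    rw [hgdef, Prod.pow_snd] at h
    have h1 := orderOf_dvd_of_pow_eq_one h
    have h3 := Nat.le_of_dvd (by omega) h1
    omega
  have hdet : (1 + a * s) * (1 + d * s) - b * (c * s) = 1 := by
    have h1 := (p ^ m).1.2
    rw [e1, det_fin_two_of] at h1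
    exact h1
  have hsq : shp N N' ev (a + a + a * a * s + b * c) (b + b + a * b * s + b * d * s) (c + c + c * a * s + d * c * s)
      (d + d + d * d * s + c * b) = 1 := by
    rw [← shp_mul hN hN' ev s hs hc, ← e2, ← Units.val_mul, hg2, Units.val_one]
  set τ : A := 2 + a * s + d * s with hτ
  have k := one_shp _ _ _ _ hsq
  have hτinj : ∀ x, ev τ *ᵥ (N *ᵥ x) = 0 → N *ᵥ x = 0 := fun x hx => by
    have h1 := (k x).1
    rw [show (a + a + a * a * s + b * c) * s = (1 + a * s) * τ - 2 by rw [hτ]; linear_combination -hdet, map_sub, map_mul,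
      sub_mulVec, ← mulVec_mulVec, hx, mulVec_zero, zero_sub, neg_eq_zero, map_ofNat] at h1
    rw [show (2 : Matrix ι ι F) = (2 : F) • 1 by rw [two_smul, one_add_one_eq_two], smul_mulVec, one_mulVec,
      smul_eq_zero] at h1
    exact h1.resolve_left h2
  have kill2 : ∀ r : A, (∀ x, ev (τ * r) *ᵥ (N *ᵥ x) = 0) → ∀ x, ev r *ᵥ (N *ᵥ x) = 0 := fun r hr x => by
    have h1 := hr x
    rw [map_mul, ← mulVec_mulVec, hcN r] at h1
    rw [hcN]
    exact hτinj _ h1
  have kb : ∀ x, ev b *ᵥ (N *ᵥ x) = 0 := kill2 b fun x => by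
    rw [show τ * b = b + b + a * b * s + b * d * s by rw [hτ]; ring]
    exact (k x).2.1
  have kc : ∀ x, ev c *ᵥ (N *ᵥ x) = 0 := kill2 c fun x => by
    rw [show τ * c = c + c + c * a * s + d * c * s by rw [hτ]; ring]
    exact (k x).2.2.1
  have kad : ∀ x, ev (d - a) *ᵥ (N *ᵥ x) = 0 := fun x => by
    have h0 := kill2 ((d - a) * s) (fun x => by
      rw [show τ * ((d - a) * s) = (d + d + d * d * s + c * b) * s - (a + a + a * a * s + b * c) * s by rw [hτ]; ring,
        map_sub, sub_mulVec, (k x).2.2.2, (k x).1, sub_self]) x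
    rw [mul_comm, map_mul, ← mulVec_mulVec, hcN] at h0
    rw [hcN]
    exact hSB _ h0
  have hval : ∀ x, (g : Matrix ι ι F) *ᵥ x = x + ev a *ᵥ (N *ᵥ (N' *ᵥ x) + N' *ᵥ (N *ᵥ x)) := fun x => by
    have h1 : ev c *ᵥ (N' *ᵥ x) = 0 := by
      rw [hcN']
      exact hA _ (by rw [← hcN', ← hcN]; exact kc _)
    have h3 : ev d *ᵥ (N' *ᵥ (N *ᵥ x)) = ev a *ᵥ (N' *ᵥ (N *ᵥ x)) := by
      have h4 := congrArg (N' *ᵥ ·) (kad x)
      simp only [map_sub, sub_mulVec, mulVec_sub, mulVec_zero, ← hcN', sub_eq_zero] at h4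
      exact h4
    rw [e2]
    simp only [shp, add_mulVec, one_mulVec, ← mulVec_mulVec, kb, h1, h3, add_zero, mulVec_add]
    rw [add_assoc]
  refine ⟨g, hgM, hg2, hg1, ?_, fun x => ⟨ev a *ᵥ (N' *ᵥ x), ev a *ᵥ (N *ᵥ x), ?_⟩⟩
  · refine Matrix.toLin'.injective (LinearMap.ext fun x => ?_)
    simp only [Matrix.toLin'_apply, ← mulVec_mulVec, hval, hNN, mulVec_zero, add_zero, mulVec_add, ← hcN]
    rw [zero_add]
  · simp only [hval, add_sub_cancel_left, mulVec_add, hcN, hcN']

end Cfsg.Agent.MaxCl.Pow
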