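/-
In dimension at least four an element outside the wreath product of an overgroup without root-like monomials cannot
exist: in odd characteristic an involution contradicts the orbit lemma, in general (dimension at least five) the
images of totally isotropic planes do.
-/
import Cfsg.Agent.Lib.MaxCl.PowerOrbit
import Cfsg.Agent.Lib.MaxCl.PowerPair

set_option autoImplicit false
set_option linter.unusedSectionVars false

namespace Cfsg.Agent.MaxCl.Pow

open Matrix
open scoped MatrixGroups Kronecker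
open Module (finrank)

variable {σ : Type} [Fintype σ] [DecidableEq σ] {F : Type*} [Field F] {G : Matrix σ σ F}
variable {κ : Type} [Fintype κ] [DecidableEq κ] [Finite F]
variable (hG : Alt G) {M : Subgroup (GL (κ → σ) F)} (hM : Over G M) (hR : Rigid hG M)
  {g : GL (κ → σ) F} (hg : g ∈ M) (hgW : g ∉ Wr F κ σ) {i : κ} {w : σ → F} (hw : w ≠ 0)

/-- two distinct lines meet trivially -/
theorem span_inf_span {a b : σ → F} (h : b ∉ Submodule.span F {a}) :
    Submodule.span F {a} ⊓ Submodule.span F {b} = ⊥ := by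
  rw [Submodule.eq_bot_iff]
  rintro x ⟨h1, h2⟩
  obtain ⟨r, hr⟩ := Submodule.mem_span_singleton.1 h2
  by_contra hx
  have hr0 : r ≠ 0 := fun h0 => hx (by rw [← hr, h0, zero_smul])
  exact h (by rw [← inv_smul_smul₀ hr0 b, hr]; exact Submodule.smul_mem _ _ h1)

include i hG hM hR hg hgW hw in
theorem false_of_odd (h2 : (2 : F) ≠ 0) (h4 : 4 ≤ Fintype.card σ) : False := by
  classical
  have hk : (2 : F) ≠ 0 ∨ 5 ≤ Fintype.card σ := Or.inl h2
  haveI : Nonempty σ := Fintype.card_pos_iff.1 (by omega)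
  set N := Rz G i w with hN
  set N' := Np G g i w with hN'
  have hA : ∀ x, N *ᵥ (N' *ᵥ x) = 0 → N' *ᵥ x = 0 := fun x hx =>
    inter_D hG hM hR hg hgW (i := i) hw hk h4 i hw ⟨x, rfl⟩ hx
  have hB' : ∀ x, N' *ᵥ (N *ᵥ x) = 0 → N *ᵥ x = 0 := fun x hx =>
    inter_B hG hM hR hg hgW (i := i) hw hk h4 i hw (Rz_mem i w x) hx
  obtain ⟨f, hf⟩ := exists_partner hG hw
  have hfw : fm G f w = -1 := by rw [hG.fm_swap w f, hf]
  have hne : N ≠ 0 := fun h0 => by
    obtain ⟨y, hy⟩ := exists_Rz_eq (j := i) hG hw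
      (x := (vj σ F i).symm fun p => w p.1) (mem_Tk.2 fun b => by
        have : col i b ((vj σ F i).symm fun p => w p.1) = w := funext fun s => by simp [col_apply]
        rw [this]; exact Submodule.mem_span_singleton_self w)
    rw [← hN, h0, zero_mulVec] at hy
    obtain ⟨s, hs⟩ := Function.ne_iff.1 hw
    have := congrFun (congrArg (col i (fun _ => s)) hy) s
    simp [col_apply] at this
    exact hs this.symm
  obtain ⟨g₁, hg₁M, hsq, hne1, hcomm, hdiff⟩ := exists_involution h2 (Rz_sq hG i w) (Np_sq hG)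
    ⟨_, hM.sl i _ (rt_mem_iso hG w 1), by rw [slot_rt_val, one_smul]⟩
    ⟨_, mul_mem (mul_mem hg (hM.sl i _ (rt_mem_iso hG w 1))) (inv_mem hg), Np_val hG⟩ hA hB' hne
  -- the involution is a Kronecker product
  set g₂ := (spl F σ i).symm g₁ with hg₂
  have hg₂M : g₂ ∈ sub i M := by rwa [mem_sub, hg₂, MulEquiv.apply_symm_apply]
  have hg₁v : (g₁ : Matrix (κ → σ) (κ → σ) F) = splM F σ i (g₂ : Matrix (σ × (oth i → σ)) (σ × (oth i → σ)) F) := by
    rw [← spl_val, hg₂, MulEquiv.apply_symm_apply]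
  have hn : (g₂ : Matrix (σ × (oth i → σ)) (σ × (oth i → σ)) F) * (K G w w ⊗ₖ 1) = (1 : F) • ((K G w w ⊗ₖ 1) * (g₂ : Matrix (σ × (oth i → σ)) (σ × (oth i → σ)) F)) := by
    rw [one_smul]
    apply (splM F σ i).injective
    rw [map_mul, map_mul, ← hg₁v]
    exact hcomm
  obtain ⟨L, A, b, d, hb, hd, hkr, hL, hA'⟩ := sim_kr hG (gg_isForm hG.isForm) (hM.ovr hG hk i) (hM.ovr hG hk i)
    one_ne_zero (by rw [one_smul]; exact mem_iso.1 (spl_mem_iso.1 (by rw [hg₂, MulEquiv.apply_symm_apply]; exact hM.le hg₁M)))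
    (fun x hx => mul_mem (mul_mem hg₂M hx) (inv_mem hg₂M)) hw one_ne_zero hn (Or.inl (by omega))
  have hcol : ∀ x q, col i q ((g₁ : Matrix (κ → σ) (κ → σ) F) *ᵥ x) =
      ∑ q', (A : Matrix (oth i → σ) (oth i → σ) F) q q' • ((L : Matrix σ σ F) *ᵥ col i q' x) := fun x q => by
    rw [hg₁v, hkr, ← spl_val, col_spl_kr]
  -- on the fixed space of the root it is trivial modulo the root image
  have hmod : ∀ x, N *ᵥ x = 0 → (g₁ : Matrix (κ → σ) (κ → σ) F) *ᵥ x - x ∈ Tk i (Submodule.span F {w}) := by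
    intro x hx
    obtain ⟨y, y', hy⟩ := hdiff x
    have h1 := congrArg (N *ᵥ ·) hy
    rw [mulVec_sub, mulVec_add, mulVec_mulVec _ N (g₁ : Matrix (κ → σ) (κ → σ) F), ← hcomm, ← mulVec_mulVec, hx,
      mulVec_zero, sub_zero, mulVec_mulVec _ N N, hN, Rz_sq hG, zero_mulVec, zero_add] at h1
    rw [hy, hA y' h1.symm, add_zero]
    exact Rz_mem i w y
  let lift : ((oth i → σ) → F) → (σ → F) → (κ → σ) → F := fun c v => (vj σ F i).symm fun p => c p.2 * v p.1
  have hlift : ∀ c v q, col i q (lift c v) = c q • v := fun c v q => funext fun s => by simp [lift, col_apply]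
  have hkerv : ∀ c v, fm G v w = 0 → N *ᵥ lift c v = 0 := fun c v hv => by
    refine (mem_ker_Rz hw).2 (mem_Tk.2 fun q => ?_)
    rw [hlift, LinearMap.mem_ker, fmL_apply, fm_smul_left, hv, mul_zero]
  obtain ⟨u, hu, huw, huf⟩ := exists_perp_pair hG (by omega) w f
  obtain ⟨u₁, huu, hu₁w, -⟩ := exists_partner_perp hG hf hu huw huf
  have hwu₁ : fm G w u₁ = 0 := by rw [hG.fm_swap u₁ w, hu₁w, neg_zero]
  have hAsc : ∀ c q, ((A : Matrix (oth i → σ) (oth i → σ) F) *ᵥ c) q * fm G ((L : Matrix σ σ F) *ᵥ u) u₁ = c q := by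
    intro c q
    obtain ⟨r, hr⟩ := Submodule.mem_span_singleton.1 (mem_Tk.1 (hmod _ (hkerv c u huw)) q)
    have h1 := congrArg (fun v => fm G v u₁) hr
    rw [map_sub, hcol, hlift] at h1
    simp only [hlift, mulVec_smul, smul_smul, ← Finset.sum_smul, fm_sub_left, fm_smul_left, huu, hwu₁, mul_zero,
      mul_one] at h1
    exact sub_eq_zero.1 h1.symm
  set φ := fm G ((L : Matrix σ σ F) *ᵥ u) u₁ with hφ
  have hφ0 : φ ≠ 0 := fun h0 => by
    have := hAsc (fun _ => 1) (fun _ => Classical.arbitrary σ)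
    rw [h0, mul_zero] at this
    exact one_ne_zero this.symm
  have hAr : (A : Matrix (oth i → σ) (oth i → σ) F) = φ⁻¹ • 1 := by
    refine Matrix.toLin'.injective (LinearMap.ext fun c => funext fun q => ?_)
    simp only [Matrix.toLin'_apply, smul_mulVec, one_mulVec, Pi.smul_apply, smul_eq_mul]
    rw [← hAsc c q]
    field_simp
  set L' := φ⁻¹ • (L : Matrix σ σ F) with hL'
  have hg₁L : (g₁ : Matrix (κ → σ) (κ → σ) F) = splM F σ i (L' ⊗ₖ 1) := by
    rw [hg₁v, hkr, kr_val, hAr, kron_smul, hL', Matrix.smul_kronecker]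
  have hsplinj := (splM F σ i).injective
  have h1ne : (1 : Matrix (oth i → σ) (oth i → σ) F) ≠ 0 := one_ne_zero
  have hL2 : L' * L' = 1 := by
    refine kron_injective_left h1ne (hsplinj ?_)
    rw [Matrix.one_kronecker_one, map_one, ← Matrix.mul_one (1 : Matrix (oth i → σ) (oth i → σ) F),
      Matrix.mul_kronecker_mul, map_mul, ← hg₁L, ← Units.val_mul, hsq, Units.val_one]
  have hLI : L'ᵀ * G * L' = G := by
    have h1 := mem_iso.1 (hM.le hg₁M)
    rw [hg₁L, splM_transpose, ← splM_gg i, ← map_mul, ← map_mul, hsplinj.eq_iff, ← Matrix.kroneckerMap_transpose,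
      Matrix.transpose_one, ← Matrix.mul_kronecker_mul, ← Matrix.mul_kronecker_mul, Matrix.one_mul, Matrix.mul_one] at h1
    exact kron_injective_left (fun h0 => by
      have := gg_det (κ := oth i) hG.isForm
      rw [h0] at this
      simp at this) h1
  have hiso : ∀ x y, fm G (L' *ᵥ x) (L' *ᵥ y) = fm G x y := fun x y => by
    conv_rhs => rw [← hLI]
    simp only [fm, ← mulVec_mulVec]
    rw [dotProduct_mulVec x L'ᵀ, vecMul_transpose]
  have hLK : L' * K G w w = K G w w * L' := by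
    refine kron_injective_left h1ne (hsplinj ?_)
    rw [← Matrix.mul_one (1 : Matrix (oth i → σ) (oth i → σ) F), Matrix.mul_kronecker_mul, Matrix.mul_kronecker_mul,
      map_mul, map_mul, ← hg₁L]
    exact hcomm
  obtain ⟨ε, hε⟩ : ∃ ε : F, L' *ᵥ w = ε • w := ⟨-fm G (L' *ᵥ f) w, by
    have h1 := congrArg (· *ᵥ f) hLK
    simp only [← mulVec_mulVec, K_mulVec, mulVec_smul, hfw] at h1
    rw [neg_smul, ← h1, neg_one_smul, neg_neg]⟩
  have hLL : ∀ x, L' *ᵥ (L' *ᵥ x) = x := fun x => by rw [mulVec_mulVec, hL2, one_mulVec]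
  have hε2 : ε * ε = 1 := by
    have h1 := hLL w
    rw [hε, mulVec_smul, hε, smul_smul] at h1
    rw [← sub_eq_zero]
    exact (smul_eq_zero.1 (show (ε * ε - 1) • w = 0 by rw [sub_smul, one_smul, h1, sub_self])).resolve_right hw
  have hperp : ∀ v, fm G v w = 0 → ∃ c : F, L' *ᵥ v = v + c • w ∧ c * (1 + ε) = 0 := by
    intro v hv
    obtain ⟨r, hr⟩ := Submodule.mem_span_singleton.1 (mem_Tk.1 (hmod _ (hkerv (fun _ => 1) v hv)) (fun _ => Classical.arbitrary σ))
    have hc1 := hlift (fun _ => (1 : F)) v (fun _ => Classical.arbitrary σ)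
    simp only [one_smul] at hc1
    rw [map_sub, hg₁L, kron_one_mulVec, hc1] at hr
    have hv' : L' *ᵥ v = v + r • w := by rw [hr]; abel
    refine ⟨r, hv', ?_⟩
    have h1 := hLL v
    rw [hv', mulVec_add, mulVec_smul, hv', hε, add_assoc, add_eq_left, smul_smul, ← add_smul] at h1
    rw [show r * (1 + ε) = r + r * ε by ring]
    exact (smul_eq_zero.1 h1).resolve_right hw
  set f' := f - L' *ᵥ f with hf'
  have hLf' : L' *ᵥ f' = -f' := by rw [hf', mulVec_sub, hLL]; abel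
  have hwf' : fm G w f' = 1 - ε := by
    have h1 := hiso w f
    rw [hε, fm_smul_left, hf] at h1
    rw [hf', fm_sub_right, hf]
    linear_combination (-ε) * h1 + (fm G w (L' *ᵥ f)) * hε2
  rcases mul_eq_zero.1 (show (ε - 1) * (ε + 1) = 0 by linear_combination hε2) with he | he
  · -- trivial
    have he1 : ε = 1 := sub_eq_zero.1 he
    have hfix : ∀ v, fm G v w = 0 → L' *ᵥ v = v := fun v hv => by
      obtain ⟨c, hc, hc'⟩ := hperp v hv
      rw [he1, one_add_one_eq_two] at hc'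
      rw [hc, (mul_eq_zero.1 hc').resolve_right h2, zero_smul, add_zero]
    have hf0 : L' *ᵥ f = f := by
      have h1 := hfix f' (by rw [hG.fm_swap w f', hwf', he1, sub_self, neg_zero])
      rw [hLf'] at h1
      have h3 : (2 : F) • f' = 0 := by
        rw [two_smul]
        exact add_eq_zero_iff_eq_neg.2 h1.symm
      exact (sub_eq_zero.1 ((smul_eq_zero.1 h3).resolve_left h2)).symm
    refine hne1 (Units.ext ?_)
    rw [hg₁L, Units.val_one, show L' = 1 from Matrix.toLin'.injective (LinearMap.ext fun v => ?_),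
      Matrix.one_kronecker_one, map_one]
    simp only [Matrix.toLin'_apply, one_mulVec]
    have h1 := hfix (v + fm G v w • f) (by rw [fm_add_left, fm_smul_left, hfw]; ring)
    rw [mulVec_add, mulVec_smul, hf0] at h1
    exact add_right_cancel h1
  · -- the image of `N'` lies over the plane of `w` and `f'`
    have he1 : ε = -1 := by linear_combination he
    have hf'w : f' ∉ Submodule.span F {w} := fun h => by
      obtain ⟨r, hr⟩ := Submodule.mem_span_singleton.1 h
      rw [← hr, fm_smul_right, hG.self, mul_zero, he1] at hwf'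
      exact h2 (by linear_combination -hwf')
    have hle : Tk i (Submodule.span F {f'}) ≤ Tk i (Submodule.span F {w}) ⊔ Dg G g i w := by
      intro x hx
      choose c hc using fun q => Submodule.mem_span_singleton.1 (mem_Tk.1 hx q)
      have e : x = lift c f - (g₁ : Matrix (κ → σ) (κ → σ) F) *ᵥ lift c f := ext_col i fun q => by
        rw [map_sub, hg₁L, kron_one_mulVec, hlift, mulVec_smul, ← smul_sub, ← hf', hc]
      obtain ⟨y, y', hy⟩ := hdiff (lift c f)
      rw [e, ← neg_sub, hy]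
      exact neg_mem (Submodule.add_mem_sup (Rz_mem i w y) ⟨y', rfl⟩)
    have hfz : f' ≠ 0 := fun h0 => hf'w (h0 ▸ Submodule.zero_mem _)
    set n := Fintype.card σ ^ (Fintype.card κ - 1) with hn'
    have h2N : finrank F ↥(Tk i (Submodule.span F {w}) ⊔ Tk i (Submodule.span F {f'})) = n + n := by
      have h1 := Submodule.finrank_sup_add_finrank_inf_eq (Tk i (Submodule.span F {w})) (Tk i (Submodule.span F {f'}))
      rw [Tk_inf, span_inf_span hf'w, Tk_bot, finrank_bot, add_zero, finrank_Tk, finrank_Tk, finrank_span_one hw,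
        finrank_span_one hfz, one_mul] at h1
      exact h1
    have hup : finrank F ↥(Tk i (Submodule.span F {w}) ⊔ Dg G g i w) ≤ n + n := by
      refine (Submodule.finrank_add_le_finrank_add_finrank _ _).trans ?_
      rw [finrank_Dg hG hw, finrank_Tk, finrank_span_one hw, one_mul]
    have heq := Submodule.eq_of_le_of_finrank_le
      (sup_le le_sup_left hle : Tk i (Submodule.span F {w}) ⊔ Tk i (Submodule.span F {f'}) ≤
        Tk i (Submodule.span F {w}) ⊔ Dg G g i w) (by omega)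
    obtain ⟨v, hv, hvw, hvf⟩ := exists_perp_pair hG (by omega) w f'
    refine not_le_ker hG hM hR hg hgW (i := i) hw hk i hv ?_
    refine le_trans (le_sup_right.trans heq.ge) (sup_le (Tk_mono i ?_) (Tk_mono i ?_)) <;>
      refine Submodule.span_le.2 (Set.singleton_subset_iff.2 (LinearMap.mem_ker.2 ?_)) <;> rw [fmL_apply]
    · rw [hG.fm_swap v w, hvw, neg_zero]
    · rw [hG.fm_swap v f', hvf, neg_zero]

include i hG hM hR hg hgW hw in
theorem false_of_five (h5 : 5 ≤ Fintype.card σ) : False := by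
  classical
  have hk : (2 : F) ≠ 0 ∨ 5 ≤ Fintype.card σ := Or.inr h5
  haveI : Nonempty σ := Fintype.card_pos_iff.1 (by omega)
  set n := Fintype.card σ ^ (Fintype.card κ - 1) with hn
  have hn0 : 0 < n := pow_pos (by omega) _
  obtain ⟨u, huw, hu⟩ := exists_perp_indep hG (by omega) w hw
  have hu0 : u ≠ 0 := fun h => hu (h ▸ Submodule.zero_mem _)
  set P := Submodule.span F {w} ⊔ Submodule.span F {u} with hP
  have hPdim : finrank F P = 2 := by
    have h1 := Submodule.finrank_sup_add_finrank_inf_eq (Submodule.span F {w}) (Submodule.span F {u})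
    rw [span_inf_span hu, finrank_bot, add_zero, finrank_span_one hw, finrank_span_one hu0] at h1
    exact h1
  have hPiso : ∀ x ∈ P, ∀ y ∈ P, fm G x y = 0 := by
    intro x hx y hy
    obtain ⟨_, hx1, _, hx2, rfl⟩ := Submodule.mem_sup.1 hx
    obtain ⟨_, hy1, _, hy2, rfl⟩ := Submodule.mem_sup.1 hy
    obtain ⟨a, rfl⟩ := Submodule.mem_span_singleton.1 hx1
    obtain ⟨b, rfl⟩ := Submodule.mem_span_singleton.1 hx2
    obtain ⟨a', rfl⟩ := Submodule.mem_span_singleton.1 hy1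
    obtain ⟨b', rfl⟩ := Submodule.mem_span_singleton.1 hy2
    simp only [fm_add_left, fm_add_right, fm_smul_left, fm_smul_right, hG.self, huw, hG.fm_swap u w]
    ring
  have hPker : P ≤ LinearMap.ker (fmL G w) := fun x hx =>
    LinearMap.mem_ker.2 (hPiso x hx w (Submodule.mem_sup_left (Submodule.mem_span_singleton_self w)))
  set g₀ := Matrix.mulVecLin (g : Matrix (κ → σ) (κ → σ) F) with hg₀
  have hginj : Function.Injective g₀ := Matrix.mulVec_injective_iff_isUnit.2 g.isUnit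
  set I := (Tk i P).map g₀ with hI
  have hIdim : finrank F I = 2 * n := by
    rw [hI, ← (Submodule.equivMapOfInjective g₀ hginj (Tk i P)).finrank_eq, finrank_Tk, hPdim]
  have hgback : ∀ v, ((g⁻¹ : GL (κ → σ) F) : Matrix (κ → σ) (κ → σ) F) *ᵥ (g₀ v) = v := fun v => by
    rw [hg₀, Matrix.mulVecLin_apply, mulVec_mulVec, ← Units.val_mul, inv_mul_cancel, Units.val_one, one_mulVec]
  have hIN : ∀ x ∈ I, Np G g i w *ᵥ x = 0 := by
    rintro _ ⟨v, hv, rfl⟩
    rw [Np, ← mulVec_mulVec, hgback, ← mulVec_mulVec, (mem_ker_Rz hw).2 (Tk_mono i hPker hv), mulVec_zero]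
  have hDI : Dg G g i w ≤ I := by
    rintro _ ⟨y, rfl⟩
    refine ⟨Rz G i w *ᵥ (((g⁻¹ : GL (κ → σ) F) : Matrix (κ → σ) (κ → σ) F) *ᵥ y), ?_, ?_⟩
    · exact Tk_mono i (le_sup_left : Submodule.span F {w} ≤ P) (Rz_mem i w _)
    · simp only [hg₀, Matrix.mulVecLin_apply, Np, mulVec_mulVec, Matrix.mul_assoc]
  have hline : ∀ p : σ → F, p ≠ 0 → I ⊓ Tk i (Submodule.span F {p}) = ⊥ := fun p hp => by
    rw [Submodule.eq_bot_iff]
    exact fun x hx => inter_B hG hM hR hg hgW (i := i) hw hk (by omega) i hp hx.2 (hIN x hx.1)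
  have hup : ∀ z : σ → F, z ≠ 0 → finrank F ↥(I ⊓ Tk i (LinearMap.ker (fmL G z))) ≤ n := fun z hz => by
    have h1 := Submodule.finrank_sup_add_finrank_inf_eq (Dg G g i w) (I ⊓ Tk i (LinearMap.ker (fmL G z)))
    have h3 : Dg G g i w ⊓ (I ⊓ Tk i (LinearMap.ker (fmL G z))) = ⊥ := by
      rw [Submodule.eq_bot_iff]
      exact fun x hx => inter_D hG hM hR hg hgW (i := i) hw hk (by omega) i hz hx.1 ((mem_ker_Rz hz).2 hx.2.2)
    rw [h3, finrank_bot, add_zero, finrank_Dg hG hw] at h1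
    have h4 := Submodule.finrank_mono (sup_le hDI inf_le_left :
      Dg G g i w ⊔ I ⊓ Tk i (LinearMap.ker (fmL G z)) ≤ I)
    omega
  have hlow : ∀ z : σ → F, z ≠ 0 → n ≤ finrank F ↥(I ⊓ Tk i (LinearMap.ker (fmL G z))) := fun z hz => by
    let φ := (Matrix.mulVecLin (Rz G i z)).comp I.subtype
    have h1 := LinearMap.finrank_range_add_finrank_ker φ
    have h2 : finrank F (LinearMap.range φ) ≤ n := by
      refine (Submodule.finrank_mono (LinearMap.range_comp_le_range _ _)).trans ?_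
      rw [range_Rz hG i hz, finrank_Tk, finrank_span_one hz, one_mul]
    have h4 : (LinearMap.ker φ).map I.subtype ≤ I ⊓ Tk i (LinearMap.ker (fmL G z)) := by
      rintro _ ⟨x, hx, rfl⟩
      exact ⟨x.2, (mem_ker_Rz hz).1 hx⟩
    have h5 := Submodule.finrank_mono h4
    rw [Submodule.finrank_map_subtype_eq] at h5
    omega
  have plane : ∀ z : σ → F, z ≠ 0 → ∃ Q : Submodule F (σ → F), finrank F Q = 2 ∧
      (∀ x ∈ Q, ∀ y ∈ Q, fm G x y = 0) ∧ z ∈ Q ∧ I ⊓ Tk i (LinearMap.ker (fmL G z)) ≤ Tk i Q := by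
    intro z hz
    obtain ⟨h, hh, a, ha, hconj, hagree⟩ := key hG hM hR hg hgW (i := i) hw hk (by omega) i hz
    obtain ⟨q, hq, hqw⟩ := exists_trans hG hw hz
    have hqR : (slot i q⁻¹ : Matrix (κ → σ) (κ → σ) F) * Rz G i z = Rz G i w * (slot i q⁻¹ : Matrix (κ → σ) (κ → σ) F) := by
      rw [← spl_kr_one, spl_val, kr_val, Units.val_one, Rz, Rz, ← map_mul, ← map_mul, ← Matrix.mul_kronecker_mul,
        ← Matrix.mul_kronecker_mul]
      congr 2
      have h1 := hG.conj_K hq w w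
      rw [hqw] at h1
      rw [← h1, ← Matrix.mul_assoc, ← Matrix.mul_assoc, ← Units.val_mul, inv_mul_cancel, Units.val_one, Matrix.one_mul]
    set g₁ := h⁻¹ * slot i q⁻¹ with hg₁
    have hg₁M : g₁ ∈ M := mul_mem (inv_mem hh) (hM.sl i _ (inv_mem hq))
    set g₂ := (spl F σ i).symm g₁ with hg₂
    have hg₂M : g₂ ∈ sub i M := by rwa [mem_sub, hg₂, MulEquiv.apply_symm_apply]
    have hcomm : (g₁ : Matrix (κ → σ) (κ → σ) F) * Rz G i z = a • (Rz G i z * (g₁ : Matrix (κ → σ) (κ → σ) F)) := by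
      rw [hg₁, Units.val_mul, Matrix.mul_assoc, hqR, ← Matrix.mul_assoc, hconj, Matrix.smul_mul, Matrix.mul_assoc]
    have hg₁v : (g₁ : Matrix (κ → σ) (κ → σ) F) = splM F σ i (g₂ : Matrix (σ × (oth i → σ)) (σ × (oth i → σ)) F) := by
      rw [← spl_val, hg₂, MulEquiv.apply_symm_apply]
    have hn : (g₂ : Matrix (σ × (oth i → σ)) (σ × (oth i → σ)) F) * (K G z z ⊗ₖ 1) = a • ((K G z z ⊗ₖ 1) * (g₂ : Matrix (σ × (oth i → σ)) (σ × (oth i → σ)) F)) := by
      apply (splM F σ i).injective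
      rw [map_smul, map_mul, map_mul, ← hg₁v]
      exact hcomm
    obtain ⟨L, A, b, d, hb, -, hkr, hL, -⟩ := sim_kr hG (gg_isForm hG.isForm) (hM.ovr hG hk i) (hM.ovr hG hk i)
      one_ne_zero (by rw [one_smul]; exact mem_iso.1 (spl_mem_iso.1 (by rw [hg₂, MulEquiv.apply_symm_apply]; exact hM.le hg₁M)))
      (fun x hx => mul_mem (mul_mem hg₂M hx) (inv_mem hg₂M)) hz ha hn (Or.inl (by omega))
    have hA0 : (A : Matrix (oth i → σ) (oth i → σ) F) ≠ 0 := fun h0 => by
      have h1 := (Matrix.isUnit_iff_isUnit_det _).1 A.isUnit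
      rw [h0] at h1
      simp at h1
    have hLK : (L : Matrix σ σ F) * K G z z = a • (K G z z * (L : Matrix σ σ F)) := by
      rw [hkr, kr_val, ← Matrix.mul_kronecker_mul, ← Matrix.mul_kronecker_mul, Matrix.mul_one, Matrix.one_mul,
        ← Matrix.smul_kronecker] at hn
      exact kron_injective_left hA0 hn
    have hinv : h⁻¹ = spl F σ i (kr (L * q, A)) := by
      rw [show h⁻¹ = g₁ * slot i q by rw [hg₁, mul_assoc, slot_mul, inv_mul_cancel, slot_one, mul_one],
        ← (spl F σ i).apply_symm_apply g₁, ← hg₂, hkr, ← spl_kr_one, ← map_mul, ← map_mul, Prod.mk_mul_mk, mul_one]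
    have hLinj : Function.Injective (Matrix.mulVecLin ((L * q : GL σ F) : Matrix σ σ F)) :=
      Matrix.mulVec_injective_iff_isUnit.2 (L * q).isUnit
    refine ⟨P.map (Matrix.mulVecLin ((L * q : GL σ F) : Matrix σ σ F)),
      by rw [← (Submodule.equivMapOfInjective _ hLinj P).finrank_eq, hPdim], ?_, ?_, ?_⟩
    · rintro _ ⟨x, hx, rfl⟩ _ ⟨y, hy, rfl⟩
      have h1 : ∀ v v', fm G ((L : Matrix σ σ F) *ᵥ v) ((L : Matrix σ σ F) *ᵥ v') = b * fm G v v' := fun v v' => by
        rw [← fm_smul_right]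
        simp only [fm]
        rw [mulVec_smul, ← smul_mulVec, ← hL, ← mulVec_mulVec, ← mulVec_mulVec, dotProduct_mulVec v (L : Matrix σ σ F)ᵀ,
          vecMul_transpose]
      simp only [Matrix.mulVecLin_apply, Units.val_mul, ← mulVec_mulVec]
      rw [h1, mem_iso_fm.1 hq, hPiso x hx y hy, mul_zero]
    · obtain ⟨f, hf⟩ := exists_partner hG hz
      have h1 := congrArg (· *ᵥ f) hLK
      simp only [smul_mulVec, ← mulVec_mulVec, K_mulVec, hG.fm_swap z f, hf, mulVec_smul, smul_smul] at h1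
      rw [neg_one_smul] at h1
      have hc : a * fm G ((L : Matrix σ σ F) *ᵥ f) z ≠ 0 := fun h0 => by
        rw [h0, zero_smul, neg_eq_zero] at h1
        exact hz (Matrix.mulVec_injective_iff_isUnit.2 L.isUnit (h1.trans (mulVec_zero _).symm))
      refine ⟨(-(a * fm G ((L : Matrix σ σ F) *ᵥ f) z)⁻¹) • w, Submodule.smul_mem _ _
        (Submodule.mem_sup_left (Submodule.mem_span_singleton_self w)), ?_⟩
      rw [map_smul, Matrix.mulVecLin_apply, Units.val_mul, ← mulVec_mulVec, hqw, neg_smul, ← smul_neg, h1,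
        inv_smul_smul₀ hc]
    · rintro x ⟨hxI, hxK⟩
      obtain ⟨v, hv, hvx⟩ := hxI
      have h1 := hagree x ((mem_ker_Rz hz).2 hxK) (hIN x ⟨v, hv, hvx⟩)
      rw [← hvx, hgback] at h1
      have h2 : x = ((h⁻¹ : GL (κ → σ) F) : Matrix (κ → σ) (κ → σ) F) *ᵥ v := by
        rw [← h1, hvx, mulVec_mulVec, ← Units.val_mul, inv_mul_cancel, Units.val_one, one_mulVec]
      rw [h2, hinv]
      exact map_Tk_le i _ A hv
  -- two planes are equal or disjoint
  have hdis : ∀ z z' : σ → F, z ≠ 0 → z' ≠ 0 → ∀ Q Q' : Submodule F (σ → F), finrank F Q = 2 → finrank F Q' = 2 →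
      (∀ x ∈ Q, ∀ y ∈ Q, fm G x y = 0) → (∀ x ∈ Q', ∀ y ∈ Q', fm G x y = 0) →
      I ⊓ Tk i (LinearMap.ker (fmL G z)) ≤ Tk i Q → I ⊓ Tk i (LinearMap.ker (fmL G z')) ≤ Tk i Q' →
      Q ≠ Q' → Q ⊓ Q' = ⊥ := by
    intro z z' hz hz' Q Q' hQ hQ' hiQ hiQ' hQI hQI' hne
    by_contra hbot
    obtain ⟨p, hp, hp0⟩ := Submodule.exists_mem_ne_zero_of_ne_bot hbot
    have hline' : Q ⊓ Q' = Submodule.span F {p} := by
      refine (Submodule.eq_of_le_of_finrank_le (Submodule.span_le.2 (Set.singleton_subset_iff.2 hp)) ?_).symm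
      rw [finrank_span_one hp0]
      by_contra h1
      have h2 := Submodule.eq_of_le_of_finrank_le (inf_le_left : Q ⊓ Q' ≤ Q) (by omega)
      exact hne (Submodule.eq_of_le_of_finrank_le (h2 ▸ inf_le_right) (by omega))
    set X := I ⊓ Tk i (LinearMap.ker (fmL G z)) with hX
    set X' := I ⊓ Tk i (LinearMap.ker (fmL G z')) with hX'
    have h1 := Submodule.finrank_sup_add_finrank_inf_eq X X'
    have h2 : X ⊓ X' = ⊥ := by
      rw [eq_bot_iff, ← hline p hp0, ← hline', ← Tk_inf]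
      exact le_inf (inf_le_left.trans inf_le_left) (inf_le_inf hQI hQI')
    have h3 : X ⊔ X' ≤ I ⊓ Tk i (LinearMap.ker (fmL G p)) :=
      sup_le (le_inf inf_le_left (hQI.trans (Tk_mono i fun x hx => LinearMap.mem_ker.2 (hiQ x hx p hp.1))))
        (le_inf inf_le_left (hQI'.trans (Tk_mono i fun x hx => LinearMap.mem_ker.2 (hiQ' x hx p hp.2))))
    rw [h2, finrank_bot, add_zero] at h1
    have h4 := (Submodule.finrank_mono h3).trans (hup p hp0)
    have h5 := hlow z hz
    have h6 := hlow z' hz'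
    rw [← hX] at h5
    rw [← hX'] at h6
    omega
  obtain ⟨Q₀, hQ₀, hi₀, hz₀, hI₀⟩ := plane w hw
  obtain ⟨z₁, -, hz₁⟩ := SetLike.exists_of_lt (lt_top_iff_ne_top.2 fun h : Q₀ = ⊤ => by
    rw [h, finrank_top, Module.finrank_fintype_fun_eq_card] at hQ₀
    omega)
  have hz₁0 : z₁ ≠ 0 := fun h => hz₁ (h ▸ Submodule.zero_mem _)
  obtain ⟨Q₁, hQ₁, hi₁, hz₁', hI₁⟩ := plane z₁ hz₁0
  have h01 : Q₀ ⊓ Q₁ = ⊥ := hdis w z₁ hw hz₁0 Q₀ Q₁ hQ₀ hQ₁ hi₀ hi₁ hI₀ hI₁ fun h => hz₁ (h ▸ hz₁')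
  have hIle : I ≤ Tk i (Q₀ ⊔ Q₁) := by
    set X := I ⊓ Tk i (LinearMap.ker (fmL G w))
    set X' := I ⊓ Tk i (LinearMap.ker (fmL G z₁))
    have h1 := Submodule.finrank_sup_add_finrank_inf_eq X X'
    have h2 : X ⊓ X' = ⊥ := by
      rw [eq_bot_iff, ← Tk_bot i, ← h01, ← Tk_inf]
      exact inf_le_inf hI₀ hI₁
    rw [h2, finrank_bot, add_zero] at h1
    have h3 : n ≤ finrank F X := hlow w hw
    have h4 : n ≤ finrank F X' := hlow z₁ hz₁0
    rw [← Submodule.eq_of_le_of_finrank_le (sup_le inf_le_left inf_le_left : X ⊔ X' ≤ I) (by omega)]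
    exact sup_le (hI₀.trans (Tk_mono i le_sup_left)) (hI₁.trans (Tk_mono i le_sup_right))
  obtain ⟨z₂, -, hz₂⟩ := SetLike.exists_of_lt (lt_top_iff_ne_top.2 fun h : Q₀ ⊔ Q₁ = ⊤ => by
    have h1 := Submodule.finrank_add_le_finrank_add_finrank Q₀ Q₁
    rw [h, finrank_top, Module.finrank_fintype_fun_eq_card, hQ₀, hQ₁] at h1
    omega)
  have hz₂0 : z₂ ≠ 0 := fun h => hz₂ (h ▸ Submodule.zero_mem _)
  obtain ⟨Q₂, hQ₂, -, hz₂', hI₂⟩ := plane z₂ hz₂0
  have h7 : I ⊓ Tk i (LinearMap.ker (fmL G z₂)) ≤ I ⊓ Tk i (Q₂ ⊓ (Q₀ ⊔ Q₁)) := by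
    rw [← Tk_inf]
    exact le_inf inf_le_left (le_inf hI₂ (inf_le_left.trans hIle))
  have h8 : finrank F ↥(Q₂ ⊓ (Q₀ ⊔ Q₁)) ≤ 1 := by
    by_contra h1
    have h2 := Submodule.eq_of_le_of_finrank_le (inf_le_left : Q₂ ⊓ (Q₀ ⊔ Q₁) ≤ Q₂) (by omega)
    exact hz₂ (inf_le_right (a := Q₂) (h2.symm ▸ hz₂'))
  have h9 : I ⊓ Tk i (Q₂ ⊓ (Q₀ ⊔ Q₁)) = ⊥ := by
    by_cases hb : Q₂ ⊓ (Q₀ ⊔ Q₁) = ⊥
    · rw [hb, Tk_bot, inf_bot_eq]
    · obtain ⟨p, hp, hp0⟩ := Submodule.exists_mem_ne_zero_of_ne_bot hb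
      rw [← Submodule.eq_of_le_of_finrank_le (Submodule.span_le.2 (Set.singleton_subset_iff.2 hp))
        (by rw [finrank_span_one hp0]; exact h8)]
      exact hline p hp0
  have h10 := (hlow z₂ hz₂0).trans (Submodule.finrank_mono h7)
  rw [h9, finrank_bot] at h10
  omega

end Cfsg.Agent.MaxCl.Pow
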