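/-
Overgroups of the pure operators of determinant one: an element 1 + E with E a pure tensor of elementary matrices
in at least two slots generates the special linear group; the maps of a block position at one slot are scalar.
-/
import Cfsg.Agent.Lib.MaxCl.PowerBasic

set_option autoImplicit false
set_option linter.unusedSectionVars false
set_option linter.style.haveILetI false

namespace Cfsg.Agent.MaxCl.TW

open Matrix
open scoped MatrixGroups Kronecker

variable {S : Type} [Fintype S] [DecidableEq S] {m : ℕ} {F : Type*} [Field F]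

/-- the overgroups -/
def Over (M : Subgroup (GL (S → Fin m) F)) : Prop :=
  (∀ u : S → GL (Fin m) F, (∀ s, (u s : Matrix (Fin m) (Fin m) F).det = 1) → tk u ∈ M) ∧
    (3 ≤ Fintype.card S → ∀ σ, ∃ u, pg σ * tk u ∈ M)

/-- elementary matrices in the slots of `R` -/
def ef (R : Finset S) (x y : S → Fin m) : S → Matrix (Fin m) (Fin m) F :=
  fun r => if r ∈ R then Matrix.single (x r) (y r) 1 else 1

/-- elements `1 + E` for the tensors of elementary matrices in the slots of `R` -/
def Seed (M : Subgroup (GL (S → Fin m) F)) (R : Finset S) : Prop :=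
  ∀ x y : S → Fin m, (∀ r ∈ R, x r ≠ y r) → ∀ e : F,
    ∃ g ∈ M, (g : Matrix (S → Fin m) (S → Fin m) F) = 1 + e • pm (ef R x y)

/-- an operator in one slot, as matrices -/
def sl (r : S) : Matrix (Fin m) (Fin m) F →* Matrix (S → Fin m) (S → Fin m) F :=
  pm.comp (MonoidHom.mulSingle (fun _ : S => Matrix (Fin m) (Fin m) F) r)

theorem pm_eq_zero (f : S → Matrix (Fin m) (Fin m) F) (r : S) (h : f r = 0) : pm f = 0 := by
  ext x y
  rw [pm_apply, Matrix.zero_apply]
  exact Finset.prod_eq_zero (Finset.mem_univ r) (by rw [h, Matrix.zero_apply])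

theorem pm_update_add (f : S → Matrix (Fin m) (Fin m) F) (r : S) (A B : Matrix (Fin m) (Fin m) F) :
    pm (Function.update f r (A + B)) = pm (Function.update f r A) + pm (Function.update f r B) := by
  ext x y
  simp only [pm_apply, Matrix.add_apply, prod_split r, Function.update_self, add_mul]
  congr 1 <;> · congr 1; exact Finset.prod_congr rfl fun q _ => by simp [q.2]

theorem pm_update_smul (f : S → Matrix (Fin m) (Fin m) F) (r : S) (c : F) (A : Matrix (Fin m) (Fin m) F) :
    pm (Function.update f r (c • A)) = c • pm (Function.update f r A) := by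
  ext x y
  simp only [pm_apply, Matrix.smul_apply, prod_split r, Function.update_self, smul_eq_mul, mul_assoc]
  congr 2
  exact Finset.prod_congr rfl fun q _ => by simp [q.2]

theorem pm_smul (f : S → Matrix (Fin m) (Fin m) F) (c : S → F) :
    pm (fun r => c r • f r) = (∏ r, c r) • pm f := by
  ext x y
  simp [pm_apply, Finset.prod_mul_distrib]

theorem sl_zero (r : S) : sl r (0 : Matrix (Fin m) (Fin m) F) = 0 := pm_eq_zero _ r (by simp)

theorem sl_add (r : S) (A B : Matrix (Fin m) (Fin m) F) : sl r (A + B) = sl r A + sl r B :=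
  pm_update_add 1 r A B

theorem pm_split (s : S) (f : S → Matrix (Fin m) (Fin m) F) :
    (pm f).submatrix (spl s).symm (spl s).symm = pm (fun r : {r // r ≠ s} => f r.1) ⊗ₖ f s := by
  ext p q
  obtain ⟨x, rfl⟩ := (spl s).surjective p
  obtain ⟨y, rfl⟩ := (spl s).surjective q
  simp only [submatrix_apply, Equiv.symm_apply_apply]
  rw [spl_apply, spl_apply]
  simp only [kroneckerMap_apply, pm_apply, prod_split s]
  ring

theorem ef_empty (x y : S → Fin m) : (ef ∅ x y : S → Matrix (Fin m) (Fin m) F) = 1 :=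
  funext fun r => if_neg (Finset.notMem_empty r)

theorem pm_ef_univ (x y : S → Fin m) : pm (ef Finset.univ x y) = Matrix.single x y (1 : F) := by
  ext z w
  simp only [pm_apply, ef, Finset.mem_univ, if_true, Matrix.single_apply]
  by_cases h : x = z ∧ y = w
  · obtain ⟨rfl, rfl⟩ := h
    simp
  · rw [if_neg h]
    obtain ⟨i, hi⟩ : ∃ i, ¬ (x i = z i ∧ y i = w i) := by
      by_contra hc
      push Not at hc
      exact h ⟨funext fun i => (hc i).1, funext fun i => (hc i).2⟩
    exact Finset.prod_eq_zero (Finset.mem_univ i) (if_neg hi)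

/-- a third index -/
theorem exists_third (hm : 3 ≤ m) (i k : Fin m) : ∃ l, l ≠ i ∧ l ≠ k := by
  by_contra h
  push Not at h
  have h1 : Fintype.card (Fin m) ≤ ({i, k} : Finset (Fin m)).card := Finset.card_le_card fun x _ => by
    by_cases hx : x = i
    · simp [hx]
    · simp [h x hx]
  have h2 := Finset.card_le_two (a := i) (b := k)
  rw [Fintype.card_fin] at h1
  omega

/-- monomial matrices of determinant one move elementary matrices -/
theorem exists_move_single (hm : 3 ≤ m) {i k i' k' : Fin m} (hik : i ≠ k) (hik' : i' ≠ k') {c : F} (hc : c ≠ 0) :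
    ∃ u : GL (Fin m) F, (u : Matrix (Fin m) (Fin m) F).det = 1 ∧
      (u : Matrix (Fin m) (Fin m) F) * Matrix.single i k 1 = Matrix.single i' k' c * (u : Matrix (Fin m) (Fin m) F) := by
  obtain ⟨π, hπi, hπk⟩ : ∃ π : Equiv.Perm (Fin m), π i = i' ∧ π k = k' := by
    refine ⟨Equiv.swap (Equiv.swap i i' k) k' * Equiv.swap i i', ?_, by simp⟩
    have h1 : Equiv.swap i i' k ≠ i' := fun e => hik ((Equiv.swap i i').injective (by rw [e, Equiv.swap_apply_left]))
    rw [Equiv.Perm.mul_apply, Equiv.swap_apply_left, Equiv.swap_apply_of_ne_of_ne h1.symm hik']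
  obtain ⟨l, hli, hlk⟩ := exists_third hm i' k'
  set ε : F := (((Equiv.Perm.sign π.symm : ℤˣ) : ℤ) : F) with hε
  have hε0 : ε ≠ 0 := by
    rcases Int.units_eq_one_or (Equiv.Perm.sign π.symm) with h | h <;> simp [hε, h]
  let d : Fin m → F := Function.update (Function.update 1 i' c) l (c * ε)⁻¹
  let A : Matrix (Fin m) (Fin m) F := Matrix.diagonal d * Equiv.Perm.permMatrix F π.symm
  have hdet : A.det = 1 := by
    rw [Matrix.det_mul, Matrix.det_diagonal, Matrix.det_permutation]
    have : ∏ p, d p = ε⁻¹ := by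
      rw [← Finset.mul_prod_erase _ _ (Finset.mem_univ l), ← Finset.mul_prod_erase _ _
        (Finset.mem_erase.2 ⟨hli.symm, Finset.mem_univ i'⟩), Finset.prod_eq_one fun x hx => ?_]
      · simp [d, hli.symm]
        field_simp
      · simp only [Finset.mem_erase] at hx
        simp [d, hx.1, hx.2.1]
    rw [this, ← hε, inv_mul_cancel₀ hε0]
  refine ⟨Matrix.GeneralLinearGroup.mkOfDetNeZero A (by rw [hdet]; exact one_ne_zero), hdet, ?_⟩
  show A * Matrix.single i k 1 = Matrix.single i' k' c * A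
  have hA : ∀ p q, A p q = if π.symm p = q then d p else 0 := fun p q => by
    simp [A, Matrix.diagonal_mul, Equiv.Perm.permMatrix, PEquiv.toMatrix_apply, eq_comm]
  ext p q
  have hd1 : d k' = 1 := by simp [d, hlk.symm, hik'.symm]
  have hd2 : d i' = c := by simp [d, hli.symm]
  by_cases hq : q = k <;> by_cases hp : p = i'
  · subst hq hp
    simp [hA, π.symm_apply_eq, hπi, hπk, hd1, hd2]
  · subst hq
    simp [hA, hp, show π.symm p ≠ i from fun e => hp (by rw [← hπi, ← e, Equiv.apply_symm_apply])]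
  · subst hp
    simp [hA, hq, Matrix.single_apply, hπk ▸ π.symm_apply_apply k, Ne.symm hq]
  · simp [hA, hp, hq, Ne.symm hq, Matrix.single_apply, Ne.symm hp]

/-- transvections of determinant one -/
def trv (i k : Fin m) (hik : i ≠ k) (c : F) : GL (Fin m) F where
  val := 1 + Matrix.single i k c
  inv := 1 - Matrix.single i k c
  val_inv := by simp [add_mul, mul_sub, hik.symm]
  inv_val := by simp [sub_mul, mul_add, hik.symm]

theorem det_trv {i k : Fin m} (hik : i ≠ k) (c : F) : (trv i k hik c : Matrix (Fin m) (Fin m) F).det = 1 :=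
  Matrix.det_transvection_of_ne i k hik c

/-- the diagonal matrix with the given determinant -/
theorem exists_diag (o : Fin m) {c : F} (hc : c ≠ 0) : ∃ (D : GL (Fin m) F) (d : Fin m → F),
    (D : Matrix (Fin m) (Fin m) F) = Matrix.diagonal d ∧ (∀ i, d i ≠ 0) ∧
      (D : Matrix (Fin m) (Fin m) F).det = c := by
  have h : (Matrix.diagonal (Function.update (1 : Fin m → F) o c)).det = c := by
    rw [Matrix.det_diagonal, ← Finset.mul_prod_erase _ _ (Finset.mem_univ o), Finset.prod_eq_one fun x hx => ?_]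
    · simp
    · simp [(Finset.mem_erase.1 hx).1]
  refine ⟨Matrix.GeneralLinearGroup.mkOfDetNeZero (Matrix.diagonal (Function.update 1 o c)) (by rw [h]; exact hc), Function.update 1 o c, rfl, fun i => ?_, h⟩
  rcases eq_or_ne i o with rfl | hi
  · simpa using hc
  · simp [hi]

variable {M : Subgroup (GL (S → Fin m) F)}

theorem rt_mem_over (hM : Over M) (s : S) {w : GL (Fin m) F} (hw : (w : Matrix (Fin m) (Fin m) F).det = 1) :
    rt s w ∈ M :=
  hM.1 _ fun r => by
    rcases eq_or_ne r s with rfl | hr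
    · simpa using hw
    · simp [hr]

/-- diagonal representatives of the permutations -/
theorem exists_diag_perm (hm : 3 ≤ m) (hM : Over M) (h3 : 3 ≤ Fintype.card S) (σ : Equiv.Perm S) :
    ∃ (D : S → GL (Fin m) F) (d : S → Fin m → F), (∀ r, (D r : Matrix (Fin m) (Fin m) F) = Matrix.diagonal (d r)) ∧
      (∀ r i, d r i ≠ 0) ∧ pg σ * tk D ∈ M := by
  obtain ⟨u, hu⟩ := hM.2 h3 σ
  choose D d hD hd hdet using fun r => exists_diag (⟨0, by omega⟩ : Fin m)
    (Matrix.GeneralLinearGroup.det (u r)).ne_zero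
  refine ⟨D, d, hD, hd, ?_⟩
  have h1 : tk (u⁻¹ * D) ∈ M := hM.1 _ fun r => by
    rw [Pi.mul_apply, Pi.inv_apply, Units.val_mul, Matrix.det_mul, hdet, Matrix.GeneralLinearGroup.val_det_apply,
      Matrix.coe_units_inv, Matrix.det_nonsing_inv, Ring.inverse_eq_inv',
      inv_mul_cancel₀ (show (u r : Matrix (Fin m) (Fin m) F).det ≠ 0 from
        (Matrix.GeneralLinearGroup.det (u r)).ne_zero)]
  have := M.mul_mem hu h1
  rwa [map_mul, map_inv, ← mul_assoc, mul_inv_cancel_right] at this

/-- conjugating elements `1 + E` -/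
theorem conj_elem {g h : GL (S → Fin m) F} (hg : g ∈ M) (hh : h ∈ M) {e lam : F}
    {X Y : Matrix (S → Fin m) (S → Fin m) F} (hval : (g : Matrix (S → Fin m) (S → Fin m) F) = 1 + e • X)
    (hX : (h : Matrix (S → Fin m) (S → Fin m) F) * X = (lam • Y) * h) :
    ∃ g' ∈ M, (g' : Matrix (S → Fin m) (S → Fin m) F) = 1 + (e * lam) • Y := by
  refine ⟨h * g * h⁻¹, M.mul_mem (M.mul_mem hh hg) (M.inv_mem hh), ?_⟩
  rw [Units.val_mul, Units.val_mul, hval, mul_add, mul_one, add_mul, Units.mul_inv, Matrix.mul_smul, hX,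
    Matrix.smul_mul, mul_assoc, Units.mul_inv, mul_one, smul_smul]

/-- commutators of elements `1 + E` -/
theorem comm_val {ι : Type} [Fintype ι] [DecidableEq ι] {g h : GL ι F} {A B : Matrix ι ι F}
    (hA : (g : Matrix ι ι F) = 1 + A) (hB : (h : Matrix ι ι F) = 1 + B) (hBB : B * B = 0) (hBA : B * A = 0) :
    ((g * h * g⁻¹ * h⁻¹ : GL ι F) : Matrix ι ι F) = 1 + A * B := by
  rw [show g * h * g⁻¹ * h⁻¹ = (g * h) * (h * g)⁻¹ by group, Units.val_mul, Units.mul_inv_eq_iff_eq_mul,
    Units.val_mul, Units.val_mul, hA, hB]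
  rw [show (1 + B) * (1 + A) = 1 + B + A + B * A by noncomm_ring, hBA, add_zero]
  rw [show (1 + A * B) * (1 + B + A) = 1 + B + A + A * B + A * (B * B) + A * (B * A) by noncomm_ring, hBB, hBA]
  noncomm_ring

theorem comm_elem {g h : GL (S → Fin m) F} (hg : g ∈ M) (hh : h ∈ M) {A B : Matrix (S → Fin m) (S → Fin m) F}
    (hA : (g : Matrix (S → Fin m) (S → Fin m) F) = 1 + A) (hB : (h : Matrix (S → Fin m) (S → Fin m) F) = 1 + B)
    (hBB : B * B = 0) (hBA : B * A = 0) :
    ∃ g' ∈ M, (g' : Matrix (S → Fin m) (S → Fin m) F) = 1 + A * B :=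
  ⟨g * h * g⁻¹ * h⁻¹, M.mul_mem (M.mul_mem (M.mul_mem hg hh) (M.inv_mem hg)) (M.inv_mem hh),
    comm_val hA hB hBB hBA⟩

theorem pg_pm (σ : Equiv.Perm S) (f : S → Matrix (Fin m) (Fin m) F) :
    ((pg σ : GL (S → Fin m) F) : Matrix (S → Fin m) (S → Fin m) F) * pm f =
      pm (fun r => f (σ.symm r)) * ((pg σ : GL (S → Fin m) F) : Matrix (S → Fin m) (S → Fin m) F) := by
  ext a b
  simp only [Matrix.mul_apply, pg, Matrix.of_apply, ite_mul, mul_ite, one_mul, zero_mul, mul_one, mul_zero]
  rw [Finset.sum_ite_eq', if_pos (Finset.mem_univ _), Finset.sum_eq_single (b ∘ σ.symm)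
    (fun z _ hz => if_neg fun e => hz (by funext i; simp [e])) (by simp), if_pos (by funext i; simp),
    pm_apply, pm_apply]
  exact Fintype.prod_equiv σ _ _ fun i => by simp

/-- one element gives all of a kind -/
theorem seed_of_one (hm : 3 ≤ m) (hM : Over M) {R : Finset S} (hR : R.Nonempty) {x₀ y₀ : S → Fin m}
    (hxy : ∀ r ∈ R, x₀ r ≠ y₀ r) {e₀ : F} (he : e₀ ≠ 0) {g : GL (S → Fin m) F} (hg : g ∈ M)
    (hval : (g : Matrix (S → Fin m) (S → Fin m) F) = 1 + e₀ • pm (ef R x₀ y₀)) : Seed M R := by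
  intro x y hne e
  rcases eq_or_ne e 0 with rfl | he'
  · exact ⟨1, M.one_mem, by simp⟩
  obtain ⟨r₀, hr₀⟩ := hR
  have : ∀ r : S, ∃ u : GL (Fin m) F, (u : Matrix (Fin m) (Fin m) F).det = 1 ∧
      (u : Matrix (Fin m) (Fin m) F) * ef R x₀ y₀ r = ((if r = r₀ then e / e₀ else 1) • ef R x y r) * (u : Matrix (Fin m) (Fin m) F) := by
    intro r
    by_cases hr : r ∈ R
    · obtain ⟨u, hu1, hu2⟩ := exists_move_single hm (hxy r hr) (hne r hr)
        (c := if r = r₀ then e / e₀ else 1) (by split_ifs <;> simp [he', he])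
      exact ⟨u, hu1, by simp [ef, hr, hu2, Matrix.smul_single]; split_ifs <;> rfl⟩
    · refine ⟨1, by simp, ?_⟩
      simp [ef, hr, show r ≠ r₀ from fun h => hr (h ▸ hr₀)]
  choose u hu1 hu2 using this
  obtain ⟨g', hg', hv⟩ := conj_elem hg (hM.1 u hu1) (lam := e / e₀) (Y := pm (ef R x y)) hval (by
    have h1 : pm ((fun r => (u r : Matrix (Fin m) (Fin m) F)) * ef R x₀ y₀) =
        pm ((fun r => (if r = r₀ then e / e₀ else 1) • ef R x y r) * fun r => (u r : Matrix (Fin m) (Fin m) F)) :=
      congrArg pm (funext hu2)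
    rw [map_mul, map_mul, pm_smul, Finset.prod_ite_eq', if_pos (Finset.mem_univ _)] at h1
    exact h1)
  exact ⟨g', hg', by rw [hv, mul_div_cancel₀ _ he]⟩

theorem ef_mul_zero {R : Finset S} {r : S} (hr : r ∈ R) {x y x' y' : S → Fin m} (h : y r ≠ x' r) {R' : Finset S}
    (hr' : r ∈ R') : pm (ef R x y) * pm (ef R' x' y') = (0 : Matrix (S → Fin m) (S → Fin m) F) := by
  rw [← map_mul]
  exact pm_eq_zero _ r (by simp [ef, hr, hr', h])

/-- two overlapping kinds -/
theorem seed_union (hm : 3 ≤ m) {R R' : Finset S} (h : Seed M R) (h' : Seed M R') {p : S} (hp : p ∈ R)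
    (hp' : p ∈ R') : Seed M (R ∪ R') := by
  intro X Z hXZ e
  choose mid hmid1 hmid2 using fun r => exists_third hm (X r) (Z r)
  let y : S → Fin m := fun r => if r ∈ R' then mid r else Z r
  let y' : S → Fin m := fun r => if r ∈ R then mid r else X r
  obtain ⟨g, hg, hgv⟩ := h X y (fun r hr => by
    by_cases hr' : r ∈ R'
    · simp only [y, if_pos hr']
      exact (hmid1 r).symm
    · simp only [y, if_neg hr']
      exact hXZ r (Finset.mem_union_left _ hr)) e
  obtain ⟨k, hk, hkv⟩ := h' y' Z (fun r hr => by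
    by_cases hr' : r ∈ R
    · simp only [y', if_pos hr']
      exact hmid2 r
    · simp only [y', if_neg hr']
      exact hXZ r (Finset.mem_union_right _ hr)) 1
  rw [one_smul] at hkv
  obtain ⟨g', hg', hv⟩ := comm_elem hg hk hgv hkv
    (ef_mul_zero hp' (by simp only [y', if_pos hp]; exact (hmid2 p).symm) hp') (by
      rw [Matrix.mul_smul, ef_mul_zero hp' (hXZ p (Finset.mem_union_left _ hp)).symm hp, smul_zero])
  refine ⟨g', hg', ?_⟩
  rw [hv, Matrix.smul_mul, ← map_mul]
  congr 3
  funext r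
  by_cases hr : r ∈ R <;> by_cases hr' : r ∈ R' <;> simp [ef, y, y', hr, hr']

/-- moving a kind by a permutation -/
theorem seed_perm (hm : 3 ≤ m) (hM : Over M) (h3 : 3 ≤ Fintype.card S) {R : Finset S} (hR : R.Nonempty)
    (h : Seed M R) (σ : Equiv.Perm S) : Seed M (R.map σ.toEmbedding) := by
  obtain ⟨D, d, hD, hd, hmem⟩ := exists_diag_perm hm hM h3 σ
  let x : S → Fin m := fun _ => ⟨0, by omega⟩
  let y : S → Fin m := fun _ => ⟨1, by omega⟩
  have hxy : ∀ r, x r ≠ y r := fun r => by simp [x, y, Fin.ext_iff]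
  obtain ⟨g, hg, hgv⟩ := h x y (fun r _ => hxy r) 1
  let lam : S → F := fun r => if r ∈ R then d r (x r) / d r (y r) else 1
  have hlam : ∏ r, lam r ≠ 0 := Finset.prod_ne_zero_iff.2 fun r _ => by
    simp only [lam]
    split_ifs <;> simp [hd]
  obtain ⟨g', hg', hv⟩ := conj_elem hg hmem (lam := ∏ r, lam r) (Y := pm (ef (R.map σ.toEmbedding) x y)) hgv (by
    have h1 : pm ((fun r => (D r : Matrix (Fin m) (Fin m) F)) * ef R x y) =
        pm ((fun r => lam r • ef R x y r) * fun r => (D r : Matrix (Fin m) (Fin m) F)) := by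
      refine congrArg pm (funext fun r => ?_)
      simp only [Pi.mul_apply, lam, ef]
      split_ifs
      · rw [hD, Matrix.smul_single]
        ext a b
        simp only [Matrix.mul_diagonal, Matrix.diagonal_mul, Matrix.single_apply, smul_eq_mul]
        split_ifs with h
        · obtain ⟨rfl, rfl⟩ := h
          have := hd r (y r)
          field_simp
        · simp
      · simp
    rw [map_mul, map_mul, pm_smul] at h1
    rw [Units.val_mul, mul_assoc, tk_val, h1, ← mul_assoc, Matrix.mul_smul, pg_pm, ← mul_assoc, Matrix.smul_mul]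
    rw [show (fun r => ef R x y (σ.symm r) : S → Matrix (Fin m) (Fin m) F) = ef (R.map σ.toEmbedding) x y from
      funext fun r => by simp [ef, x, y]]
    simp only [Matrix.smul_mul, mul_assoc])
  exact seed_of_one hm hM (hR.map) (fun r _ => hxy r) (by simpa using hlam) hg' hv

/-- any kind in two slots gives the kind in all slots -/
theorem seed_univ (hm : 3 ≤ m) (hM : Over M) {R : Finset S} (h : Seed M R) (h2 : 2 ≤ R.card) :
    Seed M Finset.univ := by
  classical
  obtain ⟨T, hT, hmax⟩ := Finset.exists_max_image (Finset.univ.filter fun T : Finset S => Seed M T ∧ 2 ≤ T.card)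
    Finset.card ⟨R, Finset.mem_filter.2 ⟨Finset.mem_univ _, h, h2⟩⟩
  obtain ⟨hT, hT2⟩ := (Finset.mem_filter.1 hT).2
  by_cases hu : T = Finset.univ
  · rwa [hu] at hT
  obtain ⟨s, hs⟩ : ∃ s, s ∉ T := by
    by_contra hc
    push Not at hc
    exact hu (Finset.eq_univ_iff_forall.2 hc)
  obtain ⟨a, ha, b, hb, hab⟩ := Finset.one_lt_card.1 hT2
  have h3 : 3 ≤ Fintype.card S := by
    have := Finset.card_le_univ (insert s T)
    rw [Finset.card_insert_of_notMem hs] at this
    omega
  have hb' : b ∈ T.map (Equiv.swap a s).toEmbedding := Finset.mem_map.2 ⟨b, hb, by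
    simp [Equiv.swap_apply_of_ne_of_ne hab.symm (show b ≠ s from fun e => hs (e ▸ hb))]⟩
  have hs' : s ∈ T.map (Equiv.swap a s).toEmbedding := Finset.mem_map.2 ⟨a, ha, by simp⟩
  have hbig : T.card < (T ∪ T.map (Equiv.swap a s).toEmbedding).card :=
    Finset.card_lt_card (Finset.ssubset_iff_subset_ne.2 ⟨Finset.subset_union_left, fun e =>
      hs (e ▸ Finset.mem_union_right _ hs')⟩)
  have hnew := seed_union hm hT (seed_perm hm hM h3 ⟨a, ha⟩ hT (Equiv.swap a s)) hb hb'
  exact absurd (hmax _ (Finset.mem_filter.2 ⟨Finset.mem_univ _, hnew, by omega⟩)) (by omega)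

/-- **a kind in two slots gives the special linear group** -/
theorem sl_le_of_seed (hm : 3 ≤ m) (hM : Over M) {R : Finset S} (h : Seed M R) (h2 : 2 ≤ R.card) :
    Cfsg.Geo.specialLinear (S → Fin m) F ≤ M := by
  classical
  have hu := seed_univ hm hM h h2
  haveI : Nonempty S := ⟨(Finset.card_pos.1 (by omega : 0 < R.card)).choose⟩
  have hdiff : ∀ p q : S → Fin m, (∀ s, p s ≠ q s) → ∀ e : F,
      ∃ g ∈ M, (g : Matrix (S → Fin m) (S → Fin m) F) = 1 + Matrix.single p q e := fun p q hpq e => by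
    obtain ⟨g, hg, hv⟩ := hu p q (fun s _ => hpq s) e
    exact ⟨g, hg, by rw [hv, pm_ef_univ, Matrix.smul_single, smul_eq_mul, mul_one]⟩
  have hall : ∀ p q : S → Fin m, p ≠ q → ∀ e : F,
      ∃ g ∈ M, (g : Matrix (S → Fin m) (S → Fin m) F) = 1 + Matrix.single p q e := by
    intro p q hpq e
    choose r hr1 hr2 using fun s => exists_third hm (p s) (q s)
    have hrq : r ≠ q := fun h0 => hr2 (Classical.arbitrary S) (congrFun h0 _)
    obtain ⟨g, hg, hgv⟩ := hdiff p r (fun s => (hr1 s).symm) e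
    obtain ⟨k, hk, hkv⟩ := hdiff r q hr2 1
    obtain ⟨g', hg', hv⟩ := comm_elem hg hk hgv hkv (by simp [Matrix.single_mul_single_of_ne, hrq.symm])
      (by simp [Matrix.single_mul_single_of_ne, hpq.symm])
    exact ⟨g', hg', by rw [hv, Matrix.single_mul_single_same, mul_one]⟩
  intro g hg
  rw [Cfsg.Geo.specialLinear, Cfsg.Agent.GL.det_ker_eq_range_toGL] at hg
  obtain ⟨A, rfl⟩ := hg
  have htop : M.comap (SpecialLinearGroup.toGL (n := S → Fin m) (R := F)) = ⊤ := by
    refine Cfsg.Agent.GL.SL_eq_top_of_transvection_mem fun p q hpq e => ?_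
    rw [Subgroup.mem_comap]
    obtain ⟨g, hg, hv⟩ := hall p q hpq e
    convert hg using 1
    refine Units.ext ?_
    rw [hv]
    show ((SpecialLinearGroup.transvection hpq e : SpecialLinearGroup (S → Fin m) F) :
      Matrix (S → Fin m) (S → Fin m) F) = _
    rw [SpecialLinearGroup.transvection_coe]
  exact Subgroup.mem_comap.1 (htop ▸ Subgroup.mem_top A : A ∈ M.comap _)

/-! ### one block position at a slot -/

/-- the difference of a conjugate -/
def dc {R : Type*} [Ring R] (E T : R) : R := E * T - T * E - E * T * E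

theorem dc_triple {R : Type*} [Ring R] {a b c : R} (T : R) (hba : b * a = 0) (hab : a * b = 0) (hcb : c * b = 0)
    (hca : c * a = 0) (hac : a * c = 0) (hbc : b * c = a) : dc c (dc b (dc a T)) = a * T * a := by
  have h1 : dc b (dc a T) = -(b * T * a) - a * T * b := by
    simp only [dc, mul_sub, sub_mul, ← mul_assoc, hba, hab]
    simp only [mul_assoc, hba, hab, mul_zero, zero_mul, sub_zero, zero_sub, sub_neg_eq_add]
  rw [h1]
  simp only [dc, mul_sub, sub_mul, mul_neg, neg_mul, ← mul_assoc, hcb, hca, zero_mul, sub_zero, neg_zero]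
  simp only [mul_assoc, hac, hbc, mul_zero, zero_mul, neg_zero, zero_sub, neg_neg]

/-- in the block position `(j, l)` at slot `t` -/
def bz (M : Subgroup (GL (S → Fin m) F)) (t : S) (j l : Fin m) (hjl : j ≠ l) :
    AddSubgroup (Matrix ({r // r ≠ t} → Fin m) ({r // r ≠ t} → Fin m) F) :=
  TP.zGroup (M.map (rid t).toMonoidHom) j l hjl

theorem mem_bz {t : S} {j l : Fin m} {hjl : j ≠ l}
    {T : Matrix ({r // r ≠ t} → Fin m) ({r // r ≠ t} → Fin m) F} :
    T ∈ bz M t j l hjl ↔ ∃ g ∈ M, rid t g = TP.zel j l hjl T :=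
  Subgroup.mem_map

theorem kr_zel_conj {α β : Type} [Fintype α] [DecidableEq α] [Fintype β] [DecidableEq β] (u : GL α F) {j l : β}
    (hjl : j ≠ l) (T : Matrix α α F) :
    TP.kr (u, (1 : GL β F)) * TP.zel j l hjl T * (TP.kr (u, (1 : GL β F)))⁻¹ =
      TP.zel j l hjl ((u : Matrix α α F) * T * ((u⁻¹ : GL α F) : Matrix α α F)) := by
  refine Units.ext ?_
  show ((u : Matrix α α F) ⊗ₖ (1 : Matrix β β F)) * (1 + T ⊗ₖ Matrix.single j l (1 : F)) *
    (((u⁻¹ : GL α F) : Matrix α α F) ⊗ₖ ((1⁻¹ : GL β F) : Matrix β β F)) =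
      1 + ((u : Matrix α α F) * T * ((u⁻¹ : GL α F) : Matrix α α F)) ⊗ₖ Matrix.single j l (1 : F)
  simp only [inv_one, Units.val_one, mul_add, add_mul, mul_one, one_mul, ← Matrix.mul_kronecker_mul,
    Units.mul_inv, Matrix.one_kronecker_one]

theorem sl_single_mul {r : S} (a b c d : Fin m) :
    sl r (Matrix.single a b (1 : F)) * sl r (Matrix.single c d 1) =
      if b = c then sl r (Matrix.single a d 1) else 0 := by
  rw [← map_mul]
  split_ifs with h
  · rw [h, Matrix.single_mul_single_same, mul_one]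
  · rw [Matrix.single_mul_single_of_ne _ _ _ _ h, sl_zero]

theorem bz_dc (hM : Over M) {t : S} {j l : Fin m} {hjl : j ≠ l} (r : {r // r ≠ t}) {i k : Fin m} (hik : i ≠ k)
    {T : Matrix ({r // r ≠ t} → Fin m) ({r // r ≠ t} → Fin m) F} (hT : T ∈ bz M t j l hjl) :
    dc (sl r (Matrix.single i k 1)) T ∈ bz M t j l hjl := by
  obtain ⟨g, hg, hgT⟩ := mem_bz.1 hT
  set w : GL (Fin m) F := trv i k hik 1 with hw
  set k' := rt r.1 w with hk'
  have hk : k' ∈ M := rt_mem_over hM _ (det_trv hik 1)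
  have hr : rid t k' = TP.kr (rt r w, (1 : GL (Fin m) F)) := by
    rw [hk', rt_eq, rid_tk, Pi.mulSingle_eq_of_ne r.2.symm, rt_eq]
    rw [show (fun q : {r // r ≠ t} => (Pi.mulSingle r.1 w : S → GL (Fin m) F) q.1) = Pi.mulSingle r w from
      funext fun q => by
        rcases eq_or_ne q r with rfl | hq
        · simp
        · simp [hq, show q.1 ≠ r.1 from fun e => hq (Subtype.ext e)]]
  have hmem : TP.zel j l hjl (((rt r w : GL ({r // r ≠ t} → Fin m) F) :
      Matrix ({r // r ≠ t} → Fin m) ({r // r ≠ t} → Fin m) F) * T * (((rt r w)⁻¹ : GL ({r // r ≠ t} → Fin m) F) :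
      Matrix ({r // r ≠ t} → Fin m) ({r // r ≠ t} → Fin m) F)) ∈ M.map (rid t).toMonoidHom := by
    refine ⟨k' * g * k'⁻¹, M.mul_mem (M.mul_mem hk hg) (M.inv_mem hk), ?_⟩
    show rid t _ = _
    rw [map_mul, map_mul, map_inv, hr, hgT, kr_zel_conj]
  have e1 : ((rt r w : GL ({r // r ≠ t} → Fin m) F) : Matrix ({r // r ≠ t} → Fin m) ({r // r ≠ t} → Fin m) F) =
      1 + sl r (Matrix.single i k 1) := by
    rw [← map_one (sl (F := F) (m := m) r), ← sl_add]
    show pm _ = pm _
    refine congrArg pm (funext fun q => ?_)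
    rcases eq_or_ne q r with rfl | hq
    · simp [hw, trv]
    · simp [hq]
  have e2 : (((rt r w)⁻¹ : GL ({r // r ≠ t} → Fin m) F) :
      Matrix ({r // r ≠ t} → Fin m) ({r // r ≠ t} → Fin m) F) = 1 - sl r (Matrix.single i k 1) :=
    Units.inv_eq_of_mul_eq_one_right (by
      rw [e1, mul_sub, add_mul, add_mul, sl_single_mul, if_neg hik.symm]
      simp)
  have := (bz M t j l hjl).sub_mem hmem hT
  convert this using 1
  rw [e1, e2, dc]
  noncomm_ring

theorem bz_block (hm : 3 ≤ m) (hM : Over M) {t : S} {j l : Fin m} {hjl : j ≠ l} (r : {r // r ≠ t}) {i k : Fin m}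
    (hik : i ≠ k) {T : Matrix ({r // r ≠ t} → Fin m) ({r // r ≠ t} → Fin m) F} (hT : T ∈ bz M t j l hjl) :
    sl r (Matrix.single i k 1) * T * sl r (Matrix.single i k 1) ∈ bz M t j l hjl := by
  obtain ⟨o, hoi, hok⟩ := exists_third hm i k
  rw [← dc_triple (b := sl r (Matrix.single i o 1)) (c := sl r (Matrix.single o k 1)) T]
  · exact bz_dc hM r hok (bz_dc hM r hoi.symm (bz_dc hM r hik hT))
  · rw [sl_single_mul, if_neg hoi]
  · rw [sl_single_mul, if_neg hik.symm]
  · rw [sl_single_mul, if_neg hik.symm]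
  · rw [sl_single_mul, if_neg hik.symm]
  · rw [sl_single_mul, if_neg hok.symm]
  · rw [sl_single_mul, if_pos rfl]

theorem bz_blocks (hm : 3 ≤ m) (hM : Over M) {t : S} {j l : Fin m} {hjl : j ≠ l}
    {T : Matrix ({r // r ≠ t} → Fin m) ({r // r ≠ t} → Fin m) F} (hT : T ∈ bz M t j l hjl)
    (D : Finset {r // r ≠ t}) (X Y : {r // r ≠ t} → Fin m) (hD : ∀ r ∈ D, X r ≠ Y r) :
    pm (ef D X Y) * T * pm (ef D X Y) ∈ bz M t j l hjl := by
  induction D using Finset.induction with
  | empty => simpa [ef_empty, map_one] using hT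
  | insert r D hr ih =>
    have h1 := bz_block hm hM r (hD r (Finset.mem_insert_self r D))
      (ih fun q hq => hD q (Finset.mem_insert_of_mem hq))
    have e1 : sl r (Matrix.single (X r) (Y r) (1 : F)) * pm (ef D X Y) = pm (ef (insert r D) X Y) := by
      rw [sl, MonoidHom.comp_apply, ← map_mul]
      refine congrArg pm (funext fun q => ?_)
      rcases eq_or_ne q r with rfl | hq
      · simp [ef, hr]
      · simp [ef, hq]
    have e2 : pm (ef D X Y) * sl r (Matrix.single (X r) (Y r) (1 : F)) = pm (ef (insert r D) X Y) := by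
      rw [sl, MonoidHom.comp_apply, ← map_mul]
      refine congrArg pm (funext fun q => ?_)
      rcases eq_or_ne q r with rfl | hq
      · simp [ef, hr]
      · simp [ef, hq]
    rw [show sl r (Matrix.single (X r) (Y r) (1 : F)) * (pm (ef D X Y) * T * pm (ef D X Y)) *
      sl r (Matrix.single (X r) (Y r) (1 : F)) = sl r (Matrix.single (X r) (Y r) (1 : F)) * pm (ef D X Y) * T *
        (pm (ef D X Y) * sl r (Matrix.single (X r) (Y r) (1 : F))) by simp only [mul_assoc], e1, e2] at h1
    exact h1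

theorem pm_ef_mul_apply (D : Finset S) (X Y : S → Fin m) (T : Matrix (S → Fin m) (S → Fin m) F)
    (P Q : S → Fin m) :
    ((pm (ef D X Y) : Matrix (S → Fin m) (S → Fin m) F) * T) P Q = if ∀ r ∈ D, P r = X r then T (D.piecewise Y P) Q else 0 := by
  rw [Matrix.mul_apply, Finset.sum_eq_single (D.piecewise Y P) (fun z _ hz => ?_) (by simp)]
  · split_ifs with h
    · rw [pm_apply, Finset.prod_eq_one fun r _ => ?_, one_mul]
      by_cases hr : r ∈ D
      · simp [ef, hr, h]
      · simp only [ef, if_neg hr]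
        rw [Finset.piecewise_eq_of_notMem _ _ _ hr, Matrix.one_apply_eq]
    · push Not at h
      obtain ⟨r, hr, hne⟩ := h
      rw [pm_apply, Finset.prod_eq_zero (Finset.mem_univ r) (by simp [ef, hr, Ne.symm hne]), zero_mul]
  · obtain ⟨r, hr⟩ := Function.ne_iff.1 hz
    rw [pm_apply, Finset.prod_eq_zero (Finset.mem_univ r) ?_, zero_mul]
    by_cases hrD : r ∈ D
    · simp [hrD] at hr
      simp [ef, hrD, Ne.symm hr]
    · simp [hrD] at hr
      simp [ef, hrD, Matrix.one_apply_ne (Ne.symm hr)]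

theorem mul_pm_ef_apply (D : Finset S) (X Y : S → Fin m) (T : Matrix (S → Fin m) (S → Fin m) F)
    (P Q : S → Fin m) :
    (T * (pm (ef D X Y) : Matrix (S → Fin m) (S → Fin m) F)) P Q = if ∀ r ∈ D, Q r = Y r then T P (D.piecewise X Q) else 0 := by
  rw [Matrix.mul_apply, Finset.sum_eq_single (D.piecewise X Q) (fun z _ hz => ?_) (by simp)]
  · split_ifs with h
    · rw [pm_apply, Finset.prod_eq_one fun r _ => ?_, mul_one]
      by_cases hr : r ∈ D
      · simp [ef, hr, h]
      · simp only [ef, if_neg hr]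
        rw [Finset.piecewise_eq_of_notMem _ _ _ hr, Matrix.one_apply_eq]
    · push Not at h
      obtain ⟨r, hr, hne⟩ := h
      rw [pm_apply, Finset.prod_eq_zero (Finset.mem_univ r) (by simp [ef, hr, Ne.symm hne]), mul_zero]
  · obtain ⟨r, hr⟩ := Function.ne_iff.1 hz
    rw [pm_apply, Finset.prod_eq_zero (Finset.mem_univ r) ?_, mul_zero]
    by_cases hrD : r ∈ D
    · simp [hrD] at hr
      simp [ef, hrD, Ne.symm hr]
    · simp [hrD] at hr
      simp [ef, hrD, Matrix.one_apply_ne hr]

/-- a function invariant under changes of single coordinates is constant -/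
theorem const_of_update {A : Type*} {f : (S → Fin m) → A}
    (h : ∀ Z r i, f (Function.update Z r i) = f Z) (Z W : S → Fin m) : f Z = f W := by
  have : ∀ D : Finset S, f (D.piecewise W Z) = f Z := by
    intro D
    induction D using Finset.induction with
    | empty => simp
    | insert r D _ ih => rw [Finset.piecewise_insert, h, ih]
  rw [← this Finset.univ, Finset.piecewise_univ]

/-- **the maps of a block position are scalar** -/
theorem scalar_of_bz (hm : 3 ≤ m) (hM : Over M) (hproper : ¬ Cfsg.Geo.specialLinear (S → Fin m) F ≤ M) {t : S}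
    {j l : Fin m} {hjl : j ≠ l} {T : Matrix ({r // r ≠ t} → Fin m) ({r // r ≠ t} → Fin m) F}
    (hT : T ∈ bz M t j l hjl) : ∃ c : F, T = c • 1 := by
  classical
  by_cases hT0 : T = 0
  · exact ⟨0, by rw [hT0, zero_smul]⟩
  obtain ⟨D, hD, hmax⟩ := Finset.exists_max_image
    (Finset.univ.filter fun D : Finset {r // r ≠ t} => ∃ T' ∈ bz M t j l hjl, ∃ X Y,
      T' Y X ≠ 0 ∧ ∀ r, r ∈ D ↔ X r ≠ Y r) Finset.card (by
    obtain ⟨Y, X, hXY⟩ : ∃ Y X, T Y X ≠ 0 := by
      by_contra h
      push Not at h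
      exact hT0 (Matrix.ext h)
    exact ⟨Finset.univ.filter fun r => X r ≠ Y r, Finset.mem_filter.2 ⟨Finset.mem_univ _, T, hT, X, Y, hXY,
      fun r => by simp⟩⟩)
  obtain ⟨T', hT', X, Y, hne, hDmem⟩ := (Finset.mem_filter.1 hD).2
  have hlarge : ∀ T₁ ∈ bz M t j l hjl, ∀ P Q, (∀ r ∈ D, P r ≠ Q r) → (∃ r, r ∉ D ∧ P r ≠ Q r) → T₁ P Q = 0 := by
    intro T₁ hT₁ P Q hPD ⟨r, hr, hrne⟩
    by_contra h0
    have h1 := hmax (Finset.univ.filter fun q => Q q ≠ P q) (Finset.mem_filter.2 ⟨Finset.mem_univ _, T₁, hT₁, Q, P,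
      h0, fun q => by simp⟩)
    have h2 : D.card < (Finset.univ.filter fun q => Q q ≠ P q).card :=
      Finset.card_lt_card ⟨fun q hq => Finset.mem_filter.2 ⟨Finset.mem_univ _, (hPD q hq).symm⟩,
        fun hsub => hr (hsub (Finset.mem_filter.2 ⟨Finset.mem_univ _, hrne.symm⟩))⟩
    omega
  -- a tensor of elementary matrices and a scalar
  have hconst : ∀ T₁ ∈ bz M t j l hjl, ∀ X Y : {r // r ≠ t} → Fin m, (∀ r ∈ D, X r ≠ Y r) →
      (∀ P Q, (¬ ((∀ r ∈ D, P r = X r) ∧ ∀ r ∈ D, Q r = Y r)) → T₁ P Q = 0) →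
      ∃ c : F, T₁ = c • pm (ef D X Y) := by
    intro T₁ hT₁ X Y hXY hsupp
    let f : ({r // r ≠ t} → Fin m) → F := fun Z => T₁ (D.piecewise X Z) (D.piecewise Y Z)
    have hf : ∀ Z r k, f (Function.update Z r k) = f Z := by
      intro Z r k
      by_cases hr : r ∈ D
      · have e : ∀ W, D.piecewise W (Function.update Z r k) = D.piecewise W Z := fun W =>
          Finset.piecewise_congr D (fun _ _ => rfl)
            fun q hq => Function.update_of_ne (fun h => hq (by rw [h]; exact hr)) _ _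
        exact congrArg₂ T₁ (e X) (e Y)
      rcases eq_or_ne k (Z r) with rfl | hk
      · rw [Function.update_eq_self]
      set E := sl r (Matrix.single (Z r) k (1 : F)) with hE
      have hEp : E = pm (ef {r} (fun _ => Z r) fun _ => k) := by
        rw [hE, sl, MonoidHom.comp_apply]
        refine congrArg pm (funext fun q => ?_)
        rcases eq_or_ne q r with rfl | hq
        · simp [ef]
        · simp [ef, hq]
      set P := D.piecewise X Z with hP
      set Q := D.piecewise Y (Function.update Z r k) with hQ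
      have hPr : P r = Z r := by simp [hP, hr]
      have hQr : Q r = k := by simp [hQ, hr]
      have hzero : dc E T₁ P Q = 0 := hlarge _ (bz_dc hM r hk.symm hT₁) P Q
        (fun q hq => by simp [hP, hQ, hq, hXY q hq]) ⟨r, hr, by rw [hPr, hQr]; exact hk.symm⟩
      have hcross : T₁ (({r} : Finset _).piecewise (fun _ => k) P) (({r} : Finset _).piecewise (fun _ => Z r) Q) = 0 :=
        hlarge T₁ hT₁ _ _ (fun q hq => by
          have hqr : q ≠ r := fun e => hr (e ▸ hq)
          simp [hP, hQ, hq, hqr, hXY q hq]) ⟨r, hr, by simp [hk]⟩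
      rw [dc, hEp, Matrix.sub_apply, Matrix.sub_apply, mul_pm_ef_apply, mul_pm_ef_apply, pm_ef_mul_apply,
        if_pos (by simp [hPr]), if_pos (by simp [hQr]), if_pos (by simp [hQr]), pm_ef_mul_apply,
        if_pos (by simp [hPr]), hcross,
        sub_zero, sub_eq_zero] at hzero
      convert hzero using 2 <;>
      · funext q
        by_cases hq : q ∈ D
        · simp [f, hP, hQ, hq, show q ≠ r from fun e => hr (e ▸ hq)]
        · rcases eq_or_ne q r with rfl | hqr <;> simp [f, hP, hQ, hq, *]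
    refine ⟨f fun r => ⟨0, by omega⟩, Matrix.ext fun P Q => ?_⟩
    rw [Matrix.smul_apply, pm_apply, smul_eq_mul]
    by_cases hPQ : (∀ r ∈ D, P r = X r) ∧ ∀ r ∈ D, Q r = Y r
    · by_cases hoff : ∀ r, r ∉ D → P r = Q r
      · rw [Finset.prod_eq_one fun r _ => ?_, mul_one, const_of_update hf _ P]
        · show _ = T₁ _ _
          congr 1 <;> funext r <;> by_cases hr : r ∈ D <;> simp [hr, hPQ.1, hPQ.2, hoff]
        · by_cases hr : r ∈ D
          · simp [ef, hr, hPQ.1, hPQ.2]
          · simp only [ef, if_neg hr]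
            rw [hoff r hr, Matrix.one_apply_eq]
      · push Not at hoff
        obtain ⟨r, hr, hne'⟩ := hoff
        rw [Finset.prod_eq_zero (Finset.mem_univ r) (by simp [ef, hr, Matrix.one_apply_ne hne']), mul_zero]
        exact hlarge T₁ hT₁ P Q (fun q hq => by rw [hPQ.1 q hq, hPQ.2 q hq]; exact hXY q hq) ⟨r, hr, hne'⟩
    · rw [hsupp P Q hPQ]
      push Not at hPQ
      by_cases h1 : ∀ r ∈ D, P r = X r
      · obtain ⟨r, hr, hne'⟩ := hPQ h1
        rw [Finset.prod_eq_zero (Finset.mem_univ r) (by simp [ef, hr, Ne.symm hne']), mul_zero]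
      · push Not at h1
        obtain ⟨r, hr, hne'⟩ := h1
        rw [Finset.prod_eq_zero (Finset.mem_univ r) (by simp [ef, hr, Ne.symm hne']), mul_zero]
  rcases D.eq_empty_or_nonempty with hD0 | hDne
  · obtain ⟨c, hc⟩ := hconst T hT X Y (by simp [hD0]) (fun P Q h => absurd (by simp [hD0]) h)
    exact ⟨c, by rw [hc, hD0, ef_empty, map_one]⟩
  exfalso
  have hXY : ∀ r ∈ D, X r ≠ Y r := fun r hr => (hDmem r).1 hr
  set T₂ := pm (ef D X Y) * T' * pm (ef D X Y) with hT₂
  have hT₂mem : T₂ ∈ bz M t j l hjl := bz_blocks hm hM hT' D X Y hXY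
  obtain ⟨c, hc⟩ := hconst T₂ hT₂mem X Y hXY (fun P Q h => by
    rw [hT₂, mul_pm_ef_apply]
    split_ifs with hQ
    · rw [pm_ef_mul_apply, if_neg fun hP => h ⟨hP, hQ⟩]
    · rfl)
  have hval : T₂ X Y ≠ 0 := by
    rw [hT₂, mul_pm_ef_apply, if_pos (fun r _ => rfl), pm_ef_mul_apply, if_pos (fun r _ => rfl)]
    convert hne using 2
    · funext r
      by_cases hr : r ∈ D
      · simp [hr]
      · simpa [hr] using (not_not.1 ((not_congr (hDmem r)).1 hr))
    · funext r
      by_cases hr : r ∈ D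
      · simp [hr]
      · simpa [hr] using (not_not.1 ((not_congr (hDmem r)).1 hr)).symm
  have hc0 : c ≠ 0 := fun h => hval (by rw [hc, h, zero_smul, Matrix.zero_apply])
  obtain ⟨g, hg, hgT⟩ := mem_bz.1 hT₂mem
  let R : Finset S := insert t (D.map (Function.Embedding.subtype _))
  let x : S → Fin m := fun r => if h : r = t then j else X ⟨r, h⟩
  let y : S → Fin m := fun r => if h : r = t then l else Y ⟨r, h⟩
  have htD : t ∉ D.map (Function.Embedding.subtype _) := fun h => by
    obtain ⟨q, -, hq⟩ := Finset.mem_map.1 h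
    exact q.2 hq
  have hxy : ∀ r ∈ R, x r ≠ y r := fun r hr => by
    rcases Finset.mem_insert.1 hr with rfl | hr
    · simp [x, y, hjl]
    · obtain ⟨q, hq, rfl⟩ := Finset.mem_map.1 hr
      simp [x, y, q.2, hXY q hq]
  have hgv : (g : Matrix (S → Fin m) (S → Fin m) F) = 1 + c • pm (ef R x y) := by
    refine (Matrix.reindex (spl t) (spl t)).injective ?_
    show (rid t g : Matrix (({r // r ≠ t} → Fin m) × Fin m) (({r // r ≠ t} → Fin m) × Fin m) F) =
      ((1 : Matrix (S → Fin m) (S → Fin m) F) + c • pm (ef R x y)).submatrix (spl t).symm (spl t).symm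
    have hsub : Matrix.submatrix ((1 : Matrix (S → Fin m) (S → Fin m) F) + c • pm (ef R x y)) (spl t).symm (spl t).symm =
        (1 : Matrix (({r // r ≠ t} → Fin m) × Fin m) (({r // r ≠ t} → Fin m) × Fin m) F) +
          c • Matrix.submatrix (pm (ef R x y)) (spl t).symm (spl t).symm := by
      ext p q
      simp [Matrix.one_apply]
    rw [hsub, hgT, hc, pm_split]
    show 1 + (c • pm (ef D X Y)) ⊗ₖ Matrix.single j l (1 : F) = _
    rw [Matrix.smul_kronecker]
    congr 3
    · refine congrArg pm (funext fun q => ?_)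
      simp [ef, R, x, y, q.2, show t ≠ q.1 from q.2.symm]
    · simp [ef, R, x, y]
  have hcard : 2 ≤ R.card := by
    rw [Finset.card_insert_of_notMem htD, Finset.card_map]
    have := hDne.card_pos
    omega
  exact hproper (sl_le_of_seed hm hM (seed_of_one hm hM ⟨t, Finset.mem_insert_self _ _⟩ hxy hc0 hg hgv) hcard)

end Cfsg.Agent.MaxCl.TW
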