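/-
Transporters fixing a root element of one slot consist of Kronecker products; in a proper overgroup of the pure
operators of determinant one they lie in the wreath product when the wreath product is maximal for fewer slots.
-/
import Cfsg.Agent.Lib.MaxCl.PowerSeed

set_option autoImplicit false
set_option linter.unusedSectionVars false
set_option linter.style.haveILetI false

namespace Cfsg.Agent.MaxCl.TP

open Matrix
open scoped MatrixGroups Kronecker

variable {α β : Type} [Fintype α] [DecidableEq α] [Fintype β] [DecidableEq β] {F : Type*} [Field F]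

/-- groups with the products of the right factor and only scalar block positions -/
structure Good (M : Subgroup (GL (α × β) F)) : Prop where
  kr_mem : ∀ w : GL β F, (w : Matrix β β F).det = 1 → kr ((1 : GL α F), w) ∈ M
  scalar : ∀ (j l : β) (hjl : j ≠ l) (T : Matrix α α F), zel j l hjl T ∈ M → ∃ c : F, T = c • 1

variable {M : Subgroup (GL (α × β) F)} {j₀ j₁ : β}

/-- the maps from one column are scalar -/
theorem scalar_cols (hb : 3 ≤ Fintype.card β) (hM : Good M) {u : GL α F} {w : GL β F} {z : GL (α × β) F}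
    (hfix : ∀ x, col x j₁ = 0 → act z x = x) (hcol : ∀ x, col (act z x) j₁ = col x j₁)
    (hconj : ∀ w' : GL β F, (w' : Matrix β β F).det = 1 →
      kr (u, w) * z * kr ((1 : GL α F), w') * (kr (u, w) * z)⁻¹ ∈ M) :
    ∃ w'' : GL β F, z = kr ((1 : GL α F), w'') := by
  classical
  let χ : β → Matrix α α F := fun j => LinearMap.toMatrix'
    { toFun := fun y => col (act z (pv y (Pi.single j₁ 1))) j
      map_add' := fun y y' => by rw [pv_add_left, map_add, col_add]
      map_smul' := fun c y => by rw [pv_smul_left, map_smul]; rfl }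
  have hχ : ∀ j y, χ j *ᵥ y = col (act z (pv y (Pi.single j₁ 1))) j := fun j y => by
    rw [← Matrix.toLin'_apply, Matrix.toLin'_toMatrix']
    rfl
  have hact : ∀ x, act z x = x + ∑ j ∈ Finset.univ.erase j₁, pv (χ j *ᵥ col x j₁) (Pi.single j 1) := by
    intro x
    have h0 : col (x - pv (col x j₁) (Pi.single j₁ 1)) j₁ = 0 := by
      funext i
      simp [col, pv_apply]
    have h1 := hfix _ h0
    rw [map_sub, sub_eq_iff_eq_add] at h1
    rw [h1, sub_add_eq_add_sub]
    conv_lhs => rw [add_sub_assoc, sum_pv_single (act z (pv (col x j₁) (Pi.single j₁ 1))),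
      ← Finset.add_sum_erase _ _ (Finset.mem_univ j₁), hcol, col_pv_single, if_pos rfl]
    rw [add_sub_cancel_left]
    simp only [hχ]
  have hsc : ∀ j, j ≠ j₁ → ∃ c : F, χ j = c • 1 := by
    intro j hj
    obtain ⟨x, hxj, hx1⟩ : ∃ x, x ≠ j ∧ x ≠ j₁ := by
      by_contra hc
      push Not at hc
      have h1 : Fintype.card β ≤ ({j, j₁} : Finset β).card := Finset.card_le_card fun y _ => by
        by_cases hy : y = j
        · simp [hy]
        · simp [hc y hy]
      have h2 := Finset.card_le_two (a := j) (b := j₁)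
      omega
    set P := kr ((1 : GL α F), bel x j (1 : F)) with hP
    have hkey : z * P = P * zel x j₁ hx1 (-χ j) * z := gl_ext fun v => by
      have hcj : col (∑ i ∈ Finset.univ.erase j₁, pv (χ i *ᵥ col v j₁) (Pi.single i (1 : F))) j = χ j *ᵥ col v j₁ := by
        funext a
        simp [col, Finset.sum_apply, pv_apply, Pi.single_apply, hj]
      rw [act_mul, act_mul, act_mul, hP, act_kr_bel hxj, map_add, hfix (pv _ _) (by
        rw [col_pv, Pi.single_eq_of_ne hx1.symm, zero_smul]), act_zel, hcol, act_kr_bel hxj, one_smul, one_smul,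
        col_add, col_pv_single, if_neg hxj.symm, add_zero, hact v, col_add, hcj, Matrix.neg_mulVec,
        pv_add_left, show pv (-(χ j *ᵥ col v j₁)) (Pi.single x (1 : F)) = -pv (χ j *ᵥ col v j₁) (Pi.single x 1)
          from funext fun _ => neg_mul _ _]
      abel
    have hzel : zel x j₁ hx1 (-χ j) = P⁻¹ * (z * P * z⁻¹) := by
      rw [hkey]
      group
    obtain ⟨D, hDdet, hD⟩ : ∃ (D : GL β F), (D : Matrix β β F).det = (w : Matrix β β F).det ∧
        kr ((1 : GL α F), D) * zel x j₁ hx1 (-χ j) = zel x j₁ hx1 (-χ j) * kr ((1 : GL α F), D) := by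
      obtain ⟨D, hDdet, hD⟩ := exists_dg j (c := (w : Matrix β β F).det)
        (Matrix.GeneralLinearGroup.det w).ne_zero
      refine ⟨D, hDdet, gl_ext_single fun y l => ?_⟩
      have hDe : ∀ i, i ≠ j → act D (Pi.single i 1) = Pi.single i 1 := fun i hi => by
        rw [hD, Pi.single_eq_of_ne hi.symm, mul_zero, zero_smul, add_zero]
      rw [act_mul, act_mul, act_zel, map_add, act_kr_pv, act_one, act_kr_pv, act_one, hDe x hxj, act_zel,
        col_pv, col_pv]
      congr 3
      rw [hD]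
      simp [hj.symm]
    obtain ⟨t, ht⟩ : ∃ t : F, (u : Matrix α α F) * (-χ j) * ((u⁻¹ : GL α F) : Matrix α α F) = t • 1 := by
      refine hM.scalar x j₁ hx1 _ ?_
      have h1 : kr (u, w) * zel x j₁ hx1 (-χ j) * (kr (u, w))⁻¹ ∈ M := by
        have h2 := hconj _ (det_bel hxj (1 : F))
        have h3 : kr ((1 : GL α F), w * bel x j 1 * w⁻¹) ∈ M := hM.kr_mem _ (by
          rw [Units.val_mul, Units.val_mul, Matrix.det_units_conj, det_bel hxj])
        have h4 := M.mul_mem (M.inv_mem h3) h2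
        convert h4 using 1
        rw [hzel, show kr ((1 : GL α F), w * bel x j 1 * w⁻¹) = kr (u, w) * P * (kr (u, w))⁻¹ by
          rw [hP, ← map_inv, ← map_mul, ← map_mul]; simp]
        simp only [hP]
        group
      have hw1 : ((w * D⁻¹ : GL β F) : Matrix β β F).det = 1 := by
        rw [Units.val_mul, Matrix.det_mul, ← hDdet, Matrix.coe_units_inv, Matrix.det_nonsing_inv,
          Ring.inverse_eq_inv', mul_inv_cancel₀ (show (D : Matrix β β F).det ≠ 0 from
            (Matrix.GeneralLinearGroup.det D).ne_zero)]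
      have h5 := M.mul_mem (M.mul_mem (M.inv_mem (hM.kr_mem _ hw1)) h1) (hM.kr_mem _ hw1)
      rw [← TW.kr_zel_conj u hx1]
      have hsplit : kr (u, w) = kr ((1 : GL α F), w * D⁻¹) * (kr (u, (1 : GL β F)) * kr ((1 : GL α F), D)) := by
        rw [← map_mul, ← map_mul]
        simp
      convert h5 using 1
      rw [hsplit]
      calc kr (u, (1 : GL β F)) * zel x j₁ hx1 (-χ j) * (kr (u, (1 : GL β F)))⁻¹
          = kr (u, (1 : GL β F)) * (zel x j₁ hx1 (-χ j) * kr ((1 : GL α F), D)) * (kr ((1 : GL α F), D))⁻¹ *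
              (kr (u, (1 : GL β F)))⁻¹ := by group
        _ = _ := by rw [← hD]; group
    refine ⟨-t, ?_⟩
    have h6 := congrArg (fun T => ((u⁻¹ : GL α F) : Matrix α α F) * T * (u : Matrix α α F)) ht
    simp only [Matrix.mul_smul, Matrix.smul_mul, mul_one, Units.inv_mul, ← mul_assoc, one_mul] at h6
    rw [mul_assoc, Units.inv_mul, mul_one] at h6
    rw [neg_smul, ← h6, neg_neg]
  choose! c hc using hsc
  let v₁ : β → F := fun j => if j = j₁ then 0 else c j
  refine ⟨tv (LinearMap.proj j₁) v₁, gl_ext fun x => ?_⟩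
  funext p
  obtain ⟨i, q⟩ := p
  have h := congrFun (row_kr_one (tv (LinearMap.proj j₁) v₁) x i) q
  rw [act_tv (by simp [v₁])] at h
  simp only [row] at h
  rw [h, hact, Pi.add_apply, Finset.sum_apply, Pi.add_apply]
  congr 1
  by_cases hq : q = j₁
  · simp [v₁, hq, pv_apply, Pi.single_apply]
  · simp [v₁, hq, pv_apply, Pi.single_apply, hc q hq, Matrix.smul_mulVec, col, row, mul_comm]

/-- **transporters fixing a root element are Kronecker products** -/
theorem kron_of_transport (hb : 3 ≤ Fintype.card β) (hM : Good M) (h01 : j₀ ≠ j₁) {c : GL (α × β) F}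
    (hd : ∀ w : GL β F, (w : Matrix β β F).det = 1 → c * kr ((1 : GL α F), w) * c⁻¹ ∈ M)
    (hcomm : c * kr ((1 : GL α F), bel j₀ j₁ (1 : F)) = kr ((1 : GL α F), bel j₀ j₁ (1 : F)) * c) :
    c ∈ Kron α β F := by
  classical
  cases isEmpty_or_nonempty α
  · exact ⟨1, gl_ext fun z => Subsingleton.elim _ _⟩
  let U : (α → F) →ₗ[F] (α → F) :=
    { toFun := fun y => col (act c (pv y (Pi.single j₁ 1))) j₁
      map_add' := fun y y' => by rw [pv_add_left, map_add, col_add]
      map_smul' := fun t y => by rw [pv_smul_left, map_smul]; rfl }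
  have hc0 : ∀ x, act c (pv (col x j₁) (Pi.single j₀ 1)) = pv (col (act c x) j₁) (Pi.single j₀ 1) := fun x => by
    have h := congrArg (fun k => act k x) hcomm
    simp only [act_mul, act_kr_bel h01, map_add, one_smul] at h
    exact add_left_cancel h
  have hcU : ∀ y, act c (pv y (Pi.single j₀ 1)) = pv (U y) (Pi.single j₀ 1) := fun y => by
    have := hc0 (pv y (Pi.single j₁ 1))
    rwa [col_pv_single, if_pos rfl] at this
  have hUinj : Function.Injective U := fun y y' he => by
    have h1 := hcU (y - y')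
    rw [map_sub U, he, sub_self, pv_zero_left] at h1
    have h2 : pv (y - y') (Pi.single j₀ (1 : F)) = 0 := act_injective c (by rw [h1, map_zero])
    exact sub_eq_zero.1 ((pv_eq_zero.1 h2).resolve_right fun e => by simpa using congrFun e j₀)
  have hcolU : ∀ x, col (act c x) j₁ = U (col x j₁) := fun x => by
    have h1 := hc0 x
    rw [hcU] at h1
    funext i
    simpa [pv_apply] using (congrFun h1 (i, j₀)).symm
  have hτ : ∀ l, ∃ τ : β → F, τ j₁ = 0 ∧ (l ≠ j₁ → ∀ y, act c (pv y (Pi.single l 1)) = pv (U y) τ) := by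
    intro l
    rcases eq_or_ne l j₁ with rfl | hl1
    · exact ⟨0, rfl, fun h => absurd rfl h⟩
    rcases eq_or_ne l j₀ with rfl | hl0
    · exact ⟨Pi.single l 1, by simp [hl1.symm], fun _ y => hcU y⟩
    have hp := hM.kr_mem _ (det_bel hl1 (1 : F))
    set p := kr ((1 : GL α F), bel l j₁ (1 : F)) with hpdef
    set g := c * p * c⁻¹ with hgdef
    have hcolinv : ∀ x, U (col (act c⁻¹ x) j₁) = col x j₁ := fun x => by rw [← hcolU, act_act_inv]
    have hfix : ∀ x, col x j₁ = 0 → act g x = x := fun x hx => by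
      have h1 : col (act c⁻¹ x) j₁ = 0 := hUinj (by rw [hcolinv, hx, map_zero])
      rw [hgdef, act_mul, act_mul, hpdef, act_kr_bel hl1, h1, smul_zero, pv_zero_left, add_zero, act_act_inv]
    have hgM : g ∈ M := hd _ (det_bel hl1 1)
    obtain ⟨w, hw⟩ := scalar_cols hb hM (u := 1) (w := 1) hfix (fun x => by
      rw [hgdef, act_mul, act_mul, hcolU, hpdef, act_kr_bel hl1, one_smul, col_add, col_pv_single,
        if_neg hl1.symm, add_zero, hcolinv]) fun w' hw' => by
      rw [show ((1 : GL α F), (1 : GL β F)) = 1 from rfl, map_one, one_mul]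
      exact M.mul_mem (M.mul_mem hgM (hM.kr_mem w' hw')) (M.inv_mem hgM)
    obtain ⟨y₀, hy₀⟩ := exists_ne (0 : α → F)
    have hwfix : ∀ v : β → F, v j₁ = 0 → act w v = v := fun v hv => by
      have h1 := hfix (pv y₀ v) (by rw [col_pv, hv, zero_smul])
      rw [show g = kr ((1 : GL α F), w) from hw, act_kr_pv, act_one, ← sub_eq_zero,
        show pv y₀ (act w v) - pv y₀ v = pv y₀ (act w v - v) from funext fun _ => (mul_sub _ _ _).symm] at h1
      exact sub_eq_zero.1 ((pv_eq_zero.1 h1).resolve_left hy₀)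
    set τ := act w (Pi.single j₁ 1) - Pi.single j₁ 1 with hτdef
    have hcy : ∀ y, act c (pv y (Pi.single l 1)) = pv (U y) τ := by
      intro y
      set x := pv y (Pi.single j₁ (1 : F)) with hx
      have e1 : act g (act c x) = act c x + act c (pv y (Pi.single l 1)) := by
        rw [hgdef, act_mul, act_mul, act_inv_act, hpdef, act_kr_bel hl1, one_smul, hx, col_pv_single, if_pos rfl,
          map_add]
      have e2 : ∀ z, act g z = z + pv (col z j₁) τ := by
        intro z
        rw [show g = kr ((1 : GL α F), w) from hw]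
        funext q
        obtain ⟨i, j⟩ := q
        have h := congrFun (row_kr_one w z i) j
        have hrow : row z i = (row z i - row z i j₁ • Pi.single j₁ 1) + row z i j₁ • Pi.single j₁ 1 := by abel
        rw [hrow, map_add, map_smul, hwfix _ (by simp)] at h
        simp only [row] at h
        rw [h]
        simp [hτdef, pv_apply, col, row]
        ring
      rw [e2, hcolU, hx, col_pv_single, if_pos rfl] at e1
      exact (add_left_cancel e1).symm
    refine ⟨τ, ?_, fun _ => hcy⟩
    have h1 := hcolU (pv y₀ (Pi.single l 1))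
    rw [hcy, col_pv, col_pv_single, if_neg hl1.symm, map_zero, smul_eq_zero] at h1
    exact h1.resolve_right fun e => hy₀ (hUinj (by rw [e, map_zero]))
  choose τ hτ1 hτ using hτ
  obtain ⟨u, hu⟩ := exists_gl U hUinj
  let W : (β → F) →ₗ[F] (β → F) := (Pi.basisFun F β).constr F fun l => if l = j₁ then Pi.single j₁ 1 else τ l
  have hW : ∀ l, W (Pi.single l 1) = if l = j₁ then Pi.single j₁ 1 else τ l := fun l => by
    rw [← Pi.basisFun_apply, Module.Basis.constr_basis]
  have hagree : ∀ y v, v j₁ = 0 → act c (pv y v) = pv (U y) (W v) := by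
    intro y v hv
    rw [(Pi.basisFun F β).sum_repr v |>.symm]
    let Sv : (β → F) →ₗ[F] (α × β → F) :=
      { toFun := fun v => pv y v
        map_add' := fun v v' => pv_add_right y v v'
        map_smul' := fun t v => pv_smul_right t y v }
    let Su : (β → F) →ₗ[F] (α × β → F) :=
      { toFun := fun v => pv (U y) v
        map_add' := fun v v' => pv_add_right _ v v'
        map_smul' := fun t v => pv_smul_right t _ v }
    show act c (Sv _) = Su (W _)
    simp only [map_sum, map_smul]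
    refine Finset.sum_congr rfl fun l _ => ?_
    rcases eq_or_ne l j₁ with rfl | hl
    · simp [hv]
    · congr 1
      show act c (pv y _) = pv (U y) _
      rw [Pi.basisFun_apply, hW, if_neg hl, hτ l hl]
  obtain ⟨w, hw⟩ := exists_gl W fun v v' he => by
    rw [← sub_eq_zero] at he ⊢
    rw [← map_sub] at he
    generalize v - v' = z at he ⊢
    have hz1 : z j₁ = 0 := by
      have h := congrFun he j₁
      rw [← (Pi.basisFun F β).sum_repr z, map_sum, Finset.sum_apply, Finset.sum_eq_single j₁ (fun q _ hq => by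
        rw [map_smul, Pi.basisFun_apply, hW, if_neg hq, Pi.smul_apply, hτ1, smul_zero]) (by simp)] at h
      rw [map_smul, Pi.basisFun_apply, hW, if_pos rfl] at h
      simpa using h
    obtain ⟨y₀, hy₀⟩ := exists_ne (0 : α → F)
    have h1 := hagree y₀ z hz1
    rw [he, pv_zero_right] at h1
    exact (pv_eq_zero.1 (act_injective c (by rw [h1, map_zero]))).resolve_left hy₀
  set k := kr (u, w) with hk
  have hkey : ∀ y v, v j₁ = 0 → act k (pv y v) = act c (pv y v) := fun y v hv => by
    rw [hk, act_kr_pv, hu, hw, hagree y v hv]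
  have hKfix : ∀ x, col x j₁ = 0 → act k x = act c x := fun x hx => by
    rw [sum_pv_single x, map_sum, map_sum]
    refine Finset.sum_congr rfl fun l _ => ?_
    rcases eq_or_ne l j₁ with rfl | hl
    · rw [hx, pv_zero_left, map_zero, map_zero]
    · exact hkey _ _ (by simp [hl.symm])
  have hkcol : ∀ z, col (act k z) j₁ = U (col z j₁) := fun z => by
    conv_lhs => rw [sum_pv_single z]
    rw [map_sum, show col (∑ l, act k (pv (col z l) (Pi.single l 1))) j₁ =
      ∑ l, col (act k (pv (col z l) (Pi.single l 1))) j₁ from funext fun i => by simp [col, Finset.sum_apply]]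
    rw [Finset.sum_eq_single j₁ (fun l _ hl => by
      rw [hk, act_kr_pv, col_pv, hw, hW, if_neg hl, hτ1, zero_smul]) (by simp)]
    rw [hk, act_kr_pv, col_pv, hw, hW, if_pos rfl, hu, Pi.single_eq_same, one_smul]
  have hfix : ∀ x, col x j₁ = 0 → act (k⁻¹ * c) x = x := fun x hx => by rw [act_mul, ← hKfix x hx, act_inv_act]
  obtain ⟨w', hw'⟩ := scalar_cols hb hM (u := u) (w := w) hfix (fun x => hUinj (by
      rw [← hkcol, act_mul, act_act_inv, hcolU])) fun w' hw' => by
    rw [← hk, mul_inv_cancel_left]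
    exact hd w' hw'
  rw [inv_mul_eq_iff_eq_mul] at hw'
  rw [hw']
  exact mul_mem (kr_mem u w) (kr_mem _ _)

end Cfsg.Agent.MaxCl.TP

namespace Cfsg.Agent.MaxCl.TW

open Matrix
open scoped MatrixGroups Kronecker

variable {S : Type} [Fintype S] [DecidableEq S] {m : ℕ} {F : Type*} [Field F]
  {M : Subgroup (GL (S → Fin m) F)}

/-- the wreath product is maximal for one slot fewer -/
def Below (S : Type) [Fintype S] [DecidableEq S] (m : ℕ) (F : Type*) [Field F] : Prop :=
  ∀ (s : S) (U : Subgroup (GL ({r // r ≠ s} → Fin m) F)), Over U →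
    ¬ Cfsg.Geo.specialLinear ({r // r ≠ s} → Fin m) F ≤ U → U ≤ Wr {r // r ≠ s} m F

theorem good_map (hm : 3 ≤ m) (hM : Over M) (hproper : ¬ Cfsg.Geo.specialLinear (S → Fin m) F ≤ M) (t : S) :
    TP.Good (M.map (rid t).toMonoidHom) where
  kr_mem w hw := ⟨rt t w, rt_mem_over hM t hw, rid_rt t w⟩
  scalar _ _ _ _ hT := scalar_of_bz hm hM hproper hT

theorem wr_eq_top [Subsingleton S] [Nonempty S] : Wr S m F = ⊤ := by
  refine eq_top_iff.2 fun g _ => ?_
  obtain ⟨s⟩ := ‹Nonempty S›
  haveI : Unique S := uniqueOfSubsingleton s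
  have : g = tk fun _ => Cfsg.Geo.glReindex (Equiv.funUnique S (Fin m)) g := by
    refine Units.ext (Matrix.ext fun x y => ?_)
    rw [tk_val, pm_apply, Fintype.prod_unique]
    show (g : Matrix (S → Fin m) (S → Fin m) F) x y = (g : Matrix (S → Fin m) (S → Fin m) F)
      ((Equiv.funUnique S (Fin m)).symm (x default)) ((Equiv.funUnique S (Fin m)).symm (y default))
    have hx : ∀ x : S → Fin m, (Equiv.funUnique S (Fin m)).symm (x default) = x := fun x =>
      funext fun i => by simp [Unique.eq_default i]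
    rw [hx, hx]
  rw [this]
  exact tk_mem _

/-- **elements that are products in split coordinates lie in the wreath product** -/
theorem mem_wr_of_kron (hm : 3 ≤ m) (hM : Over M) (hproper : ¬ Cfsg.Geo.specialLinear (S → Fin m) F ≤ M)
    (hbelow : Below S m F) {s : S} {g : GL (S → Fin m) F} (hg : g ∈ M)
    (hk : rid s g ∈ TP.Kron ({r // r ≠ s} → Fin m) (Fin m) F) : g ∈ Wr S m F := by
  classical
  rcases subsingleton_or_nontrivial S with hS | hS
  · haveI : Nonempty S := ⟨s⟩
    rw [wr_eq_top]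
    exact Subgroup.mem_top g
  obtain ⟨u, w, huw⟩ := TP.exists_of_mem hk
  refine mem_wr_of_rid s huw ?_
  haveI hR : Nonempty {r // r ≠ s} := let ⟨r, hr⟩ := exists_ne s; ⟨⟨r, hr⟩⟩
  by_cases hc : Fintype.card {r // r ≠ s} ≤ 1
  · haveI := Fintype.card_le_one_iff_subsingleton.1 hc
    rw [wr_eq_top]
    exact Subgroup.mem_top u
  let U : Subgroup (GL ({r // r ≠ s} → Fin m) F) :=
    { carrier := {u | ∃ g ∈ M, ∃ w, rid s g = TP.kr (u, w)}
      one_mem' := ⟨1, M.one_mem, 1, by rw [map_one]; exact (map_one TP.kr).symm⟩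
      mul_mem' := by
        rintro u u' ⟨g, hg, w, h⟩ ⟨g', hg', w', h'⟩
        exact ⟨g * g', M.mul_mem hg hg', w * w', by rw [map_mul, h, h', ← map_mul, Prod.mk_mul_mk]⟩
      inv_mem' := by
        rintro u ⟨g, hg, w, h⟩
        exact ⟨g⁻¹, M.inv_mem hg, w⁻¹, by rw [map_inv, h, ← map_inv, Prod.inv_mk]⟩ }
  have hU : Over U := by
    refine ⟨fun v hv => ⟨tk fun r => if h : r = s then 1 else v ⟨r, h⟩, hM.1 _ fun r => by
      by_cases h : r = s <;> simp [h, hv], 1, ?_⟩, fun h3 σ => ?_⟩
    · rw [rid_tk, dif_pos rfl]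
      congr 3
      exact funext fun (r : {r // r ≠ s}) => dif_neg r.2
    · obtain ⟨v, hv⟩ := hM.2 (h3.trans (Fintype.card_subtype_le _)) (Equiv.Perm.ofSubtype σ)
      refine ⟨fun r => v r.1, _, hv, v s, ?_⟩
      rw [map_mul, rid_pg, rid_tk, ← map_mul, Prod.mk_mul_mk, one_mul]
  refine hbelow s U hU (fun hle => ?_) ⟨g, hg, w, huw⟩
  -- the special linear group in the remaining slots gives a kind in them
  obtain ⟨a, b, o, hab, hoa, hob⟩ : ∃ a b o : Fin m, a ≠ b ∧ o ≠ a ∧ o ≠ b := by
    obtain ⟨o, ho1, ho2⟩ := exists_third hm ⟨0, by omega⟩ ⟨1, by omega⟩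
    exact ⟨_, _, o, by simp [Fin.ext_iff], ho1, ho2⟩
  obtain ⟨r₀⟩ := id hR
  have hel : ∀ p q : {r // r ≠ s} → Fin m, p ≠ q →
      ∃ g ∈ M, ∃ u w, rid s g = TP.kr (u, w) ∧
        ((u : GL ({r // r ≠ s} → Fin m) F) : Matrix ({r // r ≠ s} → Fin m) ({r // r ≠ s} → Fin m) F) =
          1 + Matrix.single p q 1 := fun p q hpq => by
    have hdet : (1 + Matrix.single p q (1 : F)).det = 1 := Matrix.det_transvection_of_ne p q hpq 1
    obtain ⟨g, hg, w, h⟩ := hle (x := Matrix.GeneralLinearGroup.mkOfDetNeZero _ (by rw [hdet]; exact one_ne_zero))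
      (TP.mem_sl_iff.2 hdet)
    exact ⟨g, hg, _, w, h, rfl⟩
  have hne : ∀ {i k : Fin m}, i ≠ k → (fun _ : {r // r ≠ s} => i) ≠ fun _ => k := fun h e => h (congrFun e r₀)
  obtain ⟨g₁, hg₁, u₁, w₁, h₁, hv₁⟩ := hel _ _ (hne hoa.symm)
  obtain ⟨g₂, hg₂, u₂, w₂, h₂, hv₂⟩ := hel _ _ (hne hob)
  have hdetw : ((w₁ * w₂ * w₁⁻¹ * w₂⁻¹ : GL (Fin m) F) : Matrix (Fin m) (Fin m) F).det = 1 := by
    have : Matrix.GeneralLinearGroup.det (w₁ * w₂ * w₁⁻¹ * w₂⁻¹) = 1 := by
      rw [map_mul, map_mul, map_mul, map_inv, map_inv, mul_comm (Matrix.GeneralLinearGroup.det w₁)]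
      group
    exact congrArg Units.val this
  set g' := g₁ * g₂ * g₁⁻¹ * g₂⁻¹ * (rt s (w₁ * w₂ * w₁⁻¹ * w₂⁻¹))⁻¹ with hg'
  have hg'M : g' ∈ M := M.mul_mem (M.mul_mem (M.mul_mem (M.mul_mem hg₁ hg₂) (M.inv_mem hg₁)) (M.inv_mem hg₂))
    (M.inv_mem (rt_mem_over hM s hdetw))
  have hr : rid s g' = TP.kr (u₁ * u₂ * u₁⁻¹ * u₂⁻¹, (1 : GL (Fin m) F)) := by
    rw [hg', map_mul, map_inv, rid_rt, map_mul, map_mul, map_mul, map_inv, map_inv, h₁, h₂]
    refine ((by simp : ∀ (f : GL ({r // r ≠ s} → Fin m) F × GL (Fin m) F →* GL (({r // r ≠ s} → Fin m) × Fin m) F) p q r,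
      f p * f q * (f p)⁻¹ * (f q)⁻¹ * (f r)⁻¹ = f (p * q * p⁻¹ * q⁻¹ * r⁻¹)) TP.kr _ _ _).trans
      (congrArg _ (Prod.ext ?_ ?_))
    · simp
    · simp [mul_assoc]
  let x : S → Fin m := fun _ => a
  let y : S → Fin m := fun _ => b
  refine hproper (sl_le_of_seed hm hM (R := Finset.univ.erase s) (seed_of_one hm hM ⟨r₀.1, by simp [r₀.2]⟩
    (x₀ := x) (y₀ := y) (fun _ _ => hab) one_ne_zero hg'M ?_) ?_)
  · refine (Matrix.reindex (spl s) (spl s)).injective ?_
    show (rid s g' : Matrix (({r // r ≠ s} → Fin m) × Fin m) (({r // r ≠ s} → Fin m) × Fin m) F) =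
      Matrix.submatrix ((1 : Matrix (S → Fin m) (S → Fin m) F) + (1 : F) • pm (ef (Finset.univ.erase s) x y))
        (spl s).symm (spl s).symm
    have hsub : Matrix.submatrix ((1 : Matrix (S → Fin m) (S → Fin m) F) + (1 : F) • pm (ef (Finset.univ.erase s) x y))
        (spl s).symm (spl s).symm =
        (1 : Matrix (({r // r ≠ s} → Fin m) × Fin m) (({r // r ≠ s} → Fin m) × Fin m) F) +
          Matrix.submatrix (pm (ef (Finset.univ.erase s) x y)) (spl s).symm (spl s).symm := by
      ext p q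
      simp [Matrix.one_apply]
    have hef : (fun r : {r // r ≠ s} => ef (F := F) (Finset.univ.erase s) x y r.1) =
        ef Finset.univ (fun _ => a) fun _ => b := funext fun r => by simp [ef, x, y, r.2]
    rw [hsub, hr, pm_split, hef, pm_ef_univ, show ef (F := F) (Finset.univ.erase s) x y s = 1 by simp [ef]]
    show ((u₁ * u₂ * u₁⁻¹ * u₂⁻¹ : GL ({r // r ≠ s} → Fin m) F) :
      Matrix ({r // r ≠ s} → Fin m) ({r // r ≠ s} → Fin m) F) ⊗ₖ (1 : Matrix (Fin m) (Fin m) F) = _
    rw [comm_val hv₁ hv₂ (by simp [Matrix.single_mul_single_of_ne, (hne hob).symm])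
        (by simp [Matrix.single_mul_single_of_ne, (hne hab).symm]), Matrix.single_mul_single_same, mul_one,
      Matrix.add_kronecker, Matrix.one_kronecker_one]
  · rw [Finset.card_erase_of_mem (Finset.mem_univ s), Finset.card_univ]
    rw [Fintype.card_subtype, Finset.filter_ne', Finset.card_erase_of_mem (Finset.mem_univ s), Finset.card_univ] at hc
    omega

theorem root_normal (hm : 3 ≤ m) {o₀ o₁ : Fin m} (h01 : o₀ ≠ o₁) (w : GL (Fin m) F) :
    ∃ w' : GL (Fin m) F, (w' : Matrix (Fin m) (Fin m) F).det = 1 ∧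
      w * TP.bel o₀ o₁ 1 * w⁻¹ = w' * TP.bel o₀ o₁ 1 * w'⁻¹ := by
  obtain ⟨o, ho0, ho1⟩ := exists_third hm o₀ o₁
  obtain ⟨D, hDdet, hD⟩ := TP.exists_dg o (c := (w : Matrix (Fin m) (Fin m) F).det)
    (Matrix.GeneralLinearGroup.det w).ne_zero
  refine ⟨w * D⁻¹, ?_, ?_⟩
  · rw [Units.val_mul, Matrix.det_mul, Matrix.coe_units_inv, Matrix.det_nonsing_inv, Ring.inverse_eq_inv', hDdet,
      mul_inv_cancel₀ (show (w : Matrix (Fin m) (Fin m) F).det ≠ 0 from
        (Matrix.GeneralLinearGroup.det w).ne_zero)]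
  · have hc : D * TP.bel o₀ o₁ 1 = TP.bel o₀ o₁ 1 * D := gl_ext fun v => by
      rw [act_mul, act_mul, TP.act_bel h01, TP.act_bel h01, hD, hD]
      simp [ho0.symm, ho0, ho1.symm]
      module
    calc w * TP.bel o₀ o₁ 1 * w⁻¹ = w * D⁻¹ * (D * TP.bel o₀ o₁ 1) * w⁻¹ := by group
      _ = _ := by rw [hc]; group

/-- **centralisers of root elements lie in the wreath product** -/
theorem mem_wr_of_comm (hm : 3 ≤ m) (hM : Over M) (hproper : ¬ Cfsg.Geo.specialLinear (S → Fin m) F ≤ M)
    (hbelow : Below S m F) {o₀ o₁ : Fin m} (h01 : o₀ ≠ o₁) {s : S} {w : GL (Fin m) F} {c : GL (S → Fin m) F}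
    (hc : c ∈ M) (hcomm : c * rt s (w * TP.bel o₀ o₁ 1 * w⁻¹) = rt s (w * TP.bel o₀ o₁ 1 * w⁻¹) * c) :
    c ∈ Wr S m F := by
  obtain ⟨v, hv, hroot⟩ := root_normal hm h01 w
  rw [hroot, map_mul, map_mul, map_inv] at hcomm
  set k := rt s v with hk
  have hkM : k ∈ M := rt_mem_over hM s hv
  have hd : k⁻¹ * c * k ∈ Wr S m F := by
    have hdM : k⁻¹ * c * k ∈ M := M.mul_mem (M.mul_mem (M.inv_mem hkM) hc) hkM
    refine mem_wr_of_kron hm hM hproper hbelow hdM (s := s) (TP.kron_of_transport (by simpa using hm)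
      (good_map hm hM hproper s) h01 (fun w' hw' => ⟨k⁻¹ * c * k * rt s w' * (k⁻¹ * c * k)⁻¹,
        M.mul_mem (M.mul_mem hdM (rt_mem_over hM s hw')) (M.inv_mem hdM), by
          show rid s _ = _
          rw [map_mul, map_mul, map_inv, rid_rt]⟩) ?_)
    rw [← rid_rt, ← map_mul, ← map_mul]
    refine congrArg _ ?_
    calc k⁻¹ * c * k * rt s (TP.bel o₀ o₁ 1) = k⁻¹ * (c * (k * rt s (TP.bel o₀ o₁ 1) * k⁻¹)) * k := by group
      _ = _ := by rw [hcomm]; group
  have := mul_mem (mul_mem (rt_mem s v) hd) (inv_mem (rt_mem s v))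
  rwa [← hk, show k * (k⁻¹ * c * k) * k⁻¹ = c by group] at this

end Cfsg.Agent.MaxCl.TW
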