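/-
Root elements in one slot of a tensor power: the image and the fixed space, their coordinates, their dimensions
and the dimensions of their intersections.
-/
import Cfsg.Agent.Lib.MaxCl.PowerCent

set_option autoImplicit false
set_option linter.unusedSectionVars false
set_option linter.style.haveILetI false

namespace Cfsg.Agent.MaxCl.TW

open Matrix
open scoped MatrixGroups Kronecker

variable {S : Type} [Fintype S] [DecidableEq S] {m : ℕ} {F : Type*} [Field F]

/-- a root element of a slot -/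
structure Rt (S : Type) (m : ℕ) (F : Type*) [Field F] where
  /-- the slot -/
  s : S
  /-- the functional -/
  φ : (Fin m → F) →ₗ[F] F
  /-- the vector -/
  ζ : Fin m → F
  hφ : φ ≠ 0
  hζ : ζ ≠ 0
  h0 : φ ζ = 0

/-- the element -/
noncomputable def Rt.elt (r : Rt S m F) : GL (S → Fin m) F := rt r.s (tv r.φ r.ζ)

/-- the image of `elt - 1` -/
noncomputable def Rt.L (r : Rt S m F) : Submodule F ((S → Fin m) → F) := LinearMap.range (act r.elt - LinearMap.id)

/-- the fixed space -/
noncomputable def Rt.K (r : Rt S m F) : Submodule F ((S → Fin m) → F) := LinearMap.ker (act r.elt - LinearMap.id)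

theorem elt_mem_wr (r : Rt S m F) : r.elt ∈ Wr S m F := rt_mem _ _

theorem det_tv {ι : Type} [Fintype ι] [DecidableEq ι] {φ : (ι → F) →ₗ[F] F} {v : ι → F} (h : φ v = 0) :
    (tv φ v : Matrix ι ι F).det = 1 := by
  rw [det_eq_of_fix_hyperplane (act_tv h), h, add_zero]

theorem elt_mem_over {M : Subgroup (GL (S → Fin m) F)} (hM : Over M) (r : Rt S m F) : r.elt ∈ M :=
  rt_mem_over hM _ (det_tv r.h0)

/-- conjugation moves the two subspaces -/
theorem map_of_conj {r r' : Rt S m F} {c : GL (S → Fin m) F} (h : c * r.elt = r'.elt * c) :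
    r.L.map (act c) = r'.L ∧ r.K.map (act c) = r'.K := by
  have key : ∀ z, act c ((act r.elt - LinearMap.id : _ →ₗ[F] _) z) =
      (act r'.elt - LinearMap.id : _ →ₗ[F] _) (act c z) := fun z => by
    simp only [LinearMap.sub_apply, LinearMap.id_apply, map_sub, ← act_mul, h]
  constructor
  · refine le_antisymm ?_ ?_
    · rintro _ ⟨_, ⟨z, rfl⟩, rfl⟩
      exact ⟨act c z, (key z).symm⟩
    · rintro _ ⟨z, rfl⟩
      exact ⟨_, ⟨act c⁻¹ z, rfl⟩, by rw [key, act_act_inv]⟩
  · refine le_antisymm ?_ ?_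
    · rintro _ ⟨z, hz, rfl⟩
      rw [Rt.K, LinearMap.mem_ker, ← key, LinearMap.mem_ker.1 hz, map_zero]
    · intro z hz
      refine ⟨act c⁻¹ z, LinearMap.mem_ker.2 (act_injective c ?_), act_act_inv c z⟩
      rw [key, act_act_inv, map_zero]
      exact hz

theorem toR_elt (r : Rt S m F) (z : (S → Fin m) → F) :
    toR r.s ((act r.elt - LinearMap.id : _ →ₗ[F] _) z) =
      TP.pv (fun i => r.φ (TP.row (toR r.s z) i)) r.ζ := by
  funext p
  obtain ⟨i, j⟩ := p
  rw [LinearMap.sub_apply, LinearMap.id_apply, map_sub, ← act_rid, Rt.elt, rid_rt, Pi.sub_apply]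
  have h := congrFun (TP.row_kr_one (tv r.φ r.ζ) (toR r.s z) i) j
  rw [act_tv r.h0] at h
  simp only [TP.row] at h
  rw [h]
  simp [TP.row, TP.pv_apply]

theorem mem_K {r : Rt S m F} {z : (S → Fin m) → F} :
    z ∈ r.K ↔ ∀ i, r.φ (TP.row (toR r.s z) i) = 0 := by
  rw [Rt.K, LinearMap.mem_ker, ← (toR (F := F) (m := m) r.s).map_eq_zero_iff, toR_elt, TP.pv_eq_zero,
    or_iff_left r.hζ, funext_iff]
  rfl

theorem exists_dual_one {φ : (Fin m → F) →ₗ[F] F} (hφ : φ ≠ 0) : ∃ v, φ v = 1 := by
  obtain ⟨v, hv⟩ : ∃ v, φ v ≠ 0 := by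
    by_contra h
    push Not at h
    exact hφ (LinearMap.ext h)
  exact ⟨(φ v)⁻¹ • v, by simp [hv]⟩

theorem mem_L {r : Rt S m F} {z : (S → Fin m) → F} : z ∈ r.L ↔ ∃ y, toR r.s z = TP.pv y r.ζ := by
  constructor
  · rintro ⟨x, rfl⟩
    exact ⟨_, toR_elt r x⟩
  · rintro ⟨y, hy⟩
    obtain ⟨v, hv⟩ := exists_dual_one r.hφ
    refine ⟨(toR r.s).symm (TP.pv y v), (toR r.s).injective ?_⟩
    rw [toR_elt, LinearEquiv.apply_symm_apply, hy]
    congr
    funext i
    rw [TP.row_pv, map_smul, hv, smul_eq_mul, mul_one]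

theorem L_le_K (r : Rt S m F) : r.L ≤ r.K := by
  intro z hz
  obtain ⟨y, hy⟩ := mem_L.1 hz
  exact mem_K.2 fun i => by rw [hy, TP.row_pv, map_smul, r.h0, smul_zero]

theorem act_elt_fix {r : Rt S m F} {z : (S → Fin m) → F} (hz : z ∈ r.K) : act r.elt z = z :=
  sub_eq_zero.1 (LinearMap.mem_ker.1 hz)

theorem act_elt_sub_mem (r : Rt S m F) (z : (S → Fin m) → F) : act r.elt z - z ∈ r.L := ⟨z, rfl⟩

theorem finrank_L (r : Rt S m F) : Module.finrank F r.L = m ^ (Fintype.card S - 1) := by
  let f : (({q // q ≠ r.s} → Fin m) → F) →ₗ[F] ((S → Fin m) → F) := (toR r.s).symm.toLinearMap ∘ₗ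
    { toFun := fun y => TP.pv y r.ζ
      map_add' := fun y y' => TP.pv_add_left y y' _
      map_smul' := fun c y => TP.pv_smul_left c y _ }
  have hf : Function.Injective f := by
    rw [← LinearMap.ker_eq_bot, LinearMap.ker_eq_bot']
    intro y hy
    exact (TP.pv_eq_zero.1 ((toR r.s).symm.map_eq_zero_iff.1 hy)).resolve_right r.hζ
  have hrange : r.L = LinearMap.range f := by
    ext z
    rw [mem_L]
    exact ⟨fun ⟨y, hy⟩ => ⟨y, (LinearEquiv.symm_apply_eq _).2 hy.symm⟩,
      fun ⟨y, hy⟩ => ⟨y, by rw [← hy]; exact LinearEquiv.apply_symm_apply _ _⟩⟩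
  rw [hrange, LinearMap.finrank_range_of_inj hf, Module.finrank_fintype_fun_eq_card, Fintype.card_fun,
    Fintype.card_fin, Fintype.card_subtype, Finset.filter_ne', Finset.card_erase_of_mem (Finset.mem_univ r.s),
    Finset.card_univ]

theorem pow_card (s : S) : m ^ Fintype.card S = m * m ^ (Fintype.card S - 1) := by
  rw [← pow_succ', Nat.sub_add_cancel (Fintype.card_pos_iff.2 ⟨s⟩)]

theorem finrank_K (r : Rt S m F) : Module.finrank F r.K + m ^ (Fintype.card S - 1) = m * m ^ (Fintype.card S - 1) := by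
  have h := LinearMap.finrank_range_add_finrank_ker (act r.elt - LinearMap.id : _ →ₗ[F] _)
  rw [Module.finrank_fintype_fun_eq_card, Fintype.card_fun, Fintype.card_fin, pow_card r.s] at h
  rw [← finrank_L r, add_comm]
  rw [show LinearMap.range (act r.elt - LinearMap.id) = r.L from rfl] at h
  rw [show LinearMap.ker (act r.elt - LinearMap.id) = r.K from rfl] at h
  rw [h, finrank_L r]

/-- moving a root element by an element of the wreath product -/
noncomputable def Rt.move (r : Rt S m F) (σ : Equiv.Perm S) (u : S → GL (Fin m) F) : Rt S m F where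
  s := σ r.s
  φ := r.φ ∘ₗ act (u r.s)⁻¹
  ζ := act (u r.s) r.ζ
  hφ h := r.hφ (LinearMap.ext fun v => by
    have := LinearMap.congr_fun h (act (u r.s) v)
    rwa [LinearMap.comp_apply, act_inv_act] at this)
  hζ h := r.hζ (act_injective _ (h.trans (map_zero _).symm))
  h0 := by rw [LinearMap.comp_apply, act_inv_act, r.h0]

theorem conj_elt (r : Rt S m F) (σ : Equiv.Perm S) (u : S → GL (Fin m) F) :
    pg σ * tk u * r.elt * (pg σ * tk u)⁻¹ = (r.move σ u).elt := by
  rw [Rt.elt, rt_eq, _root_.mul_inv_rev, show pg σ * tk u * tk (Pi.mulSingle r.s (tv r.φ r.ζ)) * ((tk u)⁻¹ * (pg σ)⁻¹) =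
    pg σ * (tk u * tk (Pi.mulSingle r.s (tv r.φ r.ζ)) * (tk u)⁻¹) * (pg σ)⁻¹ by group, ← map_inv, ← map_mul,
    ← map_mul, pg_conj, Rt.elt, rt_eq]
  refine congrArg tk (funext fun q => ?_)
  simp only [Pi.mul_apply, Pi.inv_apply, Rt.move]
  rcases eq_or_ne q (σ r.s) with rfl | hq
  · simp [conj_tv _ r.h0]
  · simp [hq, show σ.symm q ≠ r.s from fun e => hq (by rw [← e, Equiv.apply_symm_apply])]

theorem map_move (r : Rt S m F) (σ : Equiv.Perm S) (u : S → GL (Fin m) F) :
    r.L.map (act (pg σ * tk u)) = (r.move σ u).L ∧ r.K.map (act (pg σ * tk u)) = (r.move σ u).K :=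
  map_of_conj (by rw [← conj_elt, inv_mul_cancel_right])

/-- root elements with given subspaces exist -/
theorem exists_functional {W : Submodule F (Fin m → F)} (h : Module.finrank F W < m) :
    ∃ φ : (Fin m → F) →ₗ[F] F, φ ≠ 0 ∧ ∀ v ∈ W, φ v = 0 := by
  obtain ⟨v, hv⟩ : ∃ v, v ∉ W := by
    by_contra hc
    push Not at hc
    rw [show W = ⊤ from eq_top_iff.2 fun v _ => hc v, finrank_top, Module.finrank_fintype_fun_eq_card,
      Fintype.card_fin] at h
    exact lt_irrefl _ h
  obtain ⟨φ, h1, h2⟩ := exists_dual W hv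
  exact ⟨φ, fun e => by simp [e] at h2, h1⟩

theorem finrank_span_two (v w : Fin m → F) : Module.finrank F (Submodule.span F ({v, w} : Set (Fin m → F))) ≤ 2 := by
  classical
  rw [show ({v, w} : Set (Fin m → F)) = ↑({v, w} : Finset (Fin m → F)) by simp]
  exact (finrank_span_finset_le_card _).trans Finset.card_le_two

/-- the standard root element -/
noncomputable def std (s : S) {o₀ o₁ : Fin m} (h : o₀ ≠ o₁) : Rt S m F where
  s := s
  φ := LinearMap.proj o₁
  ζ := Pi.single o₀ 1
  hφ e := by simpa using LinearMap.congr_fun e (Pi.single o₁ 1)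
  hζ e := by simpa using congrFun e o₀
  h0 := by simp [h.symm]

theorem std_elt (s : S) {o₀ o₁ : Fin m} (h : o₀ ≠ o₁) :
    (std (F := F) s h).elt = rt s (TP.bel o₀ o₁ 1) := by
  rw [Rt.elt, std, TP.bel, one_smul]

theorem exists_std (hm : 3 ≤ m) (r : Rt S m F) {o₀ o₁ : Fin m} (h : o₀ ≠ o₁) :
    ∃ w : GL (Fin m) F, (w : Matrix (Fin m) (Fin m) F).det = 1 ∧
      r.elt = rt r.s w * (std r.s h).elt * (rt r.s w)⁻¹ ∧ r.elt = rt r.s (w * TP.bel o₀ o₁ 1 * w⁻¹) := by
  obtain ⟨w, hw, he⟩ := TP.exists_move_root h (by simpa using hm) r.hφ r.hζ r.h0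
  exact ⟨w, hw, by rw [Rt.elt, ← he, std_elt, ← map_inv, ← map_mul, ← map_mul], by rw [Rt.elt, he]⟩

/-! ### coordinate subspaces -/

/-- the vectors supported in a set -/
def cs (X : Finset (S → Fin m)) : Submodule F ((S → Fin m) → F) where
  carrier := {z | ∀ x, x ∉ X → z x = 0}
  add_mem' hz hw x hx := by rw [Pi.add_apply, hz x hx, hw x hx, add_zero]
  zero_mem' _ _ := rfl
  smul_mem' c z hz x hx := by rw [Pi.smul_apply, hz x hx, smul_zero]

theorem finrank_cs (X : Finset (S → Fin m)) : Module.finrank F (cs (F := F) X) = X.card := by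
  classical
  have e : (cs (F := F) X) ≃ₗ[F] (X → F) :=
    { toFun := fun z x => z.1 x.1
      map_add' := fun _ _ => rfl
      map_smul' := fun _ _ => rfl
      invFun := fun f => ⟨fun x => if h : x ∈ X then f ⟨x, h⟩ else 0, fun x hx => dif_neg hx⟩
      left_inv := fun z => Subtype.ext (funext fun x => by
        show (if h : x ∈ X then z.1 x else 0) = z.1 x
        split_ifs with h
        · rfl
        · exact (z.2 x h).symm)
      right_inv := fun f => funext fun x => dif_pos x.2 }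
  rw [e.finrank_eq, Module.finrank_fintype_fun_eq_card, Fintype.card_coe]

theorem cs_inter (X Y : Finset (S → Fin m)) : cs (F := F) (X ∩ Y) = cs X ⊓ cs Y := by
  ext z
  refine ⟨fun h => ⟨fun x hx => h x fun hxy => hx (Finset.mem_inter.1 hxy).1,
    fun x hx => h x fun hxy => hx (Finset.mem_inter.1 hxy).2⟩, fun h x hx => ?_⟩
  rw [Finset.mem_inter, not_and] at hx
  by_cases hX : x ∈ X
  · exact h.2 x (hx hX)
  · exact h.1 x hX

/-- the indices with a slot in a set -/
def slot (s : S) (Y : Finset (Fin m)) : Finset (S → Fin m) := Finset.univ.filter fun x => x s ∈ Y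

theorem card_slot_inter {s s' : S} (h : s ≠ s') (Y Y' : Finset (Fin m)) :
    (slot s Y ∩ slot s' Y').card = Y.card * Y'.card * m ^ (Fintype.card S - 2) := by
  have he : slot s Y ∩ slot s' Y' =
      Fintype.piFinset (Function.update (Function.update (fun _ => Finset.univ) s Y) s' Y') := by
    ext x
    simp only [slot, Finset.mem_inter, Finset.mem_filter, Finset.mem_univ, true_and, Fintype.mem_piFinset]
    refine ⟨fun ⟨h1, h2⟩ q => ?_, fun hx => ⟨?_, by simpa using hx s'⟩⟩
    · rcases eq_or_ne q s' with rfl | hq'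
      · simpa using h2
      rcases eq_or_ne q s with rfl | hq
      · simpa [hq'] using h1
      · simp [hq, hq']
    · simpa [h] using hx s
  rw [he, Fintype.card_piFinset, ← Finset.mul_prod_erase _ _ (Finset.mem_univ s'),
    ← Finset.mul_prod_erase _ _ (Finset.mem_erase.2 ⟨h, Finset.mem_univ s⟩),
    Finset.prod_eq_pow_card (b := m) fun q hq => ?_]
  · simp [h, Finset.card_erase_of_mem, Finset.mem_erase]
    ring_nf
    rw [show Fintype.card S - 1 - 1 = Fintype.card S - 2 by omega]
  · simp only [Finset.mem_erase] at hq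
    simp [hq.1, hq.2.1]

theorem std_L (s : S) {o₀ o₁ : Fin m} (h : o₀ ≠ o₁) : (std (F := F) s h).L = cs (slot s {o₀}) := by
  ext z
  rw [mem_L]
  constructor
  · rintro ⟨y, hy⟩ x hx
    have h1 := congrFun hy (spl s x)
    change toR s z (spl s x) = _ at h1
    rw [toR_apply, Equiv.symm_apply_apply] at h1
    rw [h1]
    simp [slot] at hx
    show y _ * (Pi.single o₀ (1 : F) : Fin m → F) (x s) = 0
    rw [Pi.single_eq_of_ne hx, mul_zero]
  · intro hz
    refine ⟨fun i => z ((spl s).symm (i, o₀)), funext fun p => ?_⟩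
    obtain ⟨i, j⟩ := p
    change toR s z (i, j) = _
    rw [toR_apply]
    rcases eq_or_ne j o₀ with rfl | hj
    · show z _ = z _ * (Pi.single j (1 : F) : Fin m → F) j
      rw [Pi.single_eq_same, mul_one]
    · show z _ = z _ * (Pi.single o₀ (1 : F) : Fin m → F) j
      rw [Pi.single_eq_of_ne hj, mul_zero]
      refine hz _ ?_
      simp [slot]
      rwa [show ((spl s).symm (i, j)) s = j from congrArg Prod.snd ((spl s).apply_symm_apply (i, j))]

theorem std_K (s : S) {o₀ o₁ : Fin m} (h : o₀ ≠ o₁) :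
    (std (F := F) s h).K = cs (slot s (Finset.univ.erase o₁)) := by
  ext z
  rw [mem_K]
  constructor
  · intro hz x hx
    simp [slot] at hx
    have h1 : z ((spl s).symm ((spl s x).1, o₁)) = 0 := hz (spl s x).1
    rwa [← hx, show ((spl s x).1, x s) = spl s x from rfl, Equiv.symm_apply_apply] at h1
  · intro hz i
    show z ((spl s).symm (i, o₁)) = 0
    refine hz _ ?_
    simp [slot]
    exact congrArg Prod.snd ((spl s).apply_symm_apply (i, o₁))

/-- **intersections in two slots** -/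
theorem finrank_cross (hm : 3 ≤ m) {r r' : Rt S m F} (h : r.s ≠ r'.s) :
    Module.finrank F ↥(r.L ⊓ r'.L) = m ^ (Fintype.card S - 2) ∧
      Module.finrank F ↥(r.L ⊓ r'.K) = (m - 1) * m ^ (Fintype.card S - 2) ∧
      Module.finrank F ↥(r.K ⊓ r'.K) = (m - 1) * (m - 1) * m ^ (Fintype.card S - 2) := by
  have h01 : (⟨0, by omega⟩ : Fin m) ≠ ⟨1, by omega⟩ := by simp [Fin.ext_iff]
  obtain ⟨w, -, hw, -⟩ := exists_std hm r h01
  obtain ⟨w', -, hw', -⟩ := exists_std hm r' h01
  set V := rt r.s w * rt r'.s w' with hV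
  have hcomm : ∀ (p q : S) (x y : GL (Fin m) F), p ≠ q → rt p x * rt q y = rt q y * rt p x := fun p q x y hpq => by
    rw [rt_eq, rt_eq, ← map_mul, ← map_mul]
    refine congrArg tk (funext fun t => ?_)
    rcases eq_or_ne t p with rfl | htp
    · simp [hpq]
    · simp [htp]
  have h1 := map_of_conj (r := std r.s h01) (r' := r) (c := V) (by
    rw [hw, hV, std_elt]
    generalize TP.bel (β := Fin m) _ _ (1 : F) = b
    calc rt r.s w * rt r'.s w' * rt r.s b = rt r.s w * (rt r'.s w' * rt r.s b) := by group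
      _ = rt r.s w * rt r.s b * rt r'.s w' := by rw [hcomm _ _ _ _ h.symm]; group
      _ = _ := by group)
  have h2 := map_of_conj (r := std r'.s h01) (r' := r') (c := V) (by
    rw [hw', hV, std_elt, hcomm _ _ _ _ h]
    generalize TP.bel (β := Fin m) _ _ (1 : F) = b
    calc rt r'.s w' * rt r.s w * rt r'.s b = rt r'.s w' * (rt r.s w * rt r'.s b) := by group
      _ = rt r'.s w' * rt r'.s b * rt r.s w := by rw [hcomm _ _ _ _ h]; group
      _ = _ := by group)
  have hd : ∀ (A B : Submodule F ((S → Fin m) → F)),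
      Module.finrank F ↥(A.map (act V) ⊓ B.map (act V)) = Module.finrank F ↥(A ⊓ B) := fun A B => by
    rw [← Submodule.map_inf _ (act_injective V)]
    exact (Submodule.equivMapOfInjective _ (act_injective V) _).finrank_eq.symm
  rw [← h1.1, ← h1.2, ← h2.1, ← h2.2, hd, hd, hd, std_L, std_L, std_K, std_K, ← cs_inter, ← cs_inter, ← cs_inter,
    finrank_cs, finrank_cs, finrank_cs, card_slot_inter h, card_slot_inter h, card_slot_inter h]
  simp

/-- intersections of two fixed spaces in one slot -/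
theorem finrank_K_inf {r r' : Rt S m F} (h : r.s = r'.s) (hind : LinearIndependent F ![r.φ, r'.φ]) :
    Module.finrank F ↥(r.K ⊓ r'.K) + 2 * m ^ (Fintype.card S - 1) = m * m ^ (Fintype.card S - 1) := by
  obtain ⟨s, φ, ζ, hφ, hζ, h0⟩ := r
  obtain ⟨s', φ', ζ', hφ', hζ', h0'⟩ := r'
  change s = s' at h
  subst h
  rw [LinearIndependent.pair_iff] at hind
  let f : ((S → Fin m) → F) →ₗ[F] (({q // q ≠ s} → Fin m) → F) × (({q // q ≠ s} → Fin m) → F) :=
    { toFun := fun z => (fun i => φ (TP.row (toR s z) i), fun i => φ' (TP.row (toR s z) i))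
      map_add' := fun z z' => Prod.ext
        (funext fun i => by simp only [map_add]; exact map_add φ (TP.row (toR s z) i) (TP.row (toR s z') i))
        (funext fun i => by simp only [map_add]; exact map_add φ' (TP.row (toR s z) i) (TP.row (toR s z') i))
      map_smul' := fun c z => Prod.ext
        (funext fun i => by simp only [map_smul]; exact map_smul φ c (TP.row (toR s z) i))
        (funext fun i => by simp only [map_smul]; exact map_smul φ' c (TP.row (toR s z) i)) }
  have hker : LinearMap.ker f = (⟨s, φ, ζ, hφ, hζ, h0⟩ : Rt S m F).K ⊓ (⟨s, φ', ζ', hφ', hζ', h0'⟩ : Rt S m F).K := by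
    ext z
    rw [LinearMap.mem_ker, Submodule.mem_inf, mem_K, mem_K]
    exact ⟨fun e => ⟨congrFun (congrArg Prod.fst e), congrFun (congrArg Prod.snd e)⟩,
      fun e => Prod.ext (funext e.1) (funext e.2)⟩
  obtain ⟨v₁, hv₁, hv₁'⟩ : ∃ v, φ v = 1 ∧ φ' v = 0 := by
    obtain ⟨w, hw⟩ := exists_dual_one hφ'
    have : φ - φ w • φ' ≠ 0 := fun e => one_ne_zero (hind 1 (-φ w) (by rw [neg_smul, one_smul, ← sub_eq_add_neg, e])).1
    obtain ⟨v, hv⟩ := exists_dual_one this
    refine ⟨v - φ' v • w, ?_, by simp [hw]⟩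
    simpa [mul_comm] using hv
  obtain ⟨v₂, hv₂, hv₂'⟩ : ∃ v, φ' v = 1 ∧ φ v = 0 := by
    obtain ⟨w, hw⟩ := exists_dual_one hφ'
    exact ⟨w - φ w • v₁, by simp [hw, hv₁'], by simp [hv₁]⟩
  have hsurj : Function.Surjective f := by
    rintro ⟨y, y'⟩
    refine ⟨(toR s).symm (TP.pv y v₁ + TP.pv y' v₂), Prod.ext (funext fun i => ?_) (funext fun i => ?_)⟩
    · show φ _ = _
      rw [LinearEquiv.apply_symm_apply]
      exact (map_add φ (y i • v₁) (y' i • v₂)).trans (by simp [hv₁, hv₂'])
    · show φ' _ = _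
      rw [LinearEquiv.apply_symm_apply]
      exact (map_add φ' (y i • v₁) (y' i • v₂)).trans (by simp [hv₁', hv₂])
  have h1 := LinearMap.finrank_range_add_finrank_ker f
  rw [LinearMap.range_eq_top.2 hsurj, finrank_top, hker, Module.finrank_prod,
    Module.finrank_fintype_fun_eq_card, Module.finrank_fintype_fun_eq_card, Fintype.card_fun, Fintype.card_fun,
    Fintype.card_fin, Fintype.card_subtype, Finset.filter_ne', Finset.card_erase_of_mem (Finset.mem_univ s),
    Finset.card_univ, pow_card s] at h1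
  omega

/-- two images in one slot -/
theorem finrank_L_sup {r r' : Rt S m F} (h : r.s = r'.s) (hind : LinearIndependent F ![r.ζ, r'.ζ]) :
    Module.finrank F ↥(r.L ⊔ r'.L) = 2 * m ^ (Fintype.card S - 1) := by
  have h1 := Submodule.finrank_sup_add_finrank_inf_eq r.L r'.L
  have h2 : r.L ⊓ r'.L = ⊥ := by
    rw [eq_bot_iff]
    rintro z ⟨hz, hz'⟩
    obtain ⟨y, hy⟩ := mem_L.1 hz
    obtain ⟨y', hy'⟩ := mem_L.1 hz'
    rw [Submodule.mem_bot, ← (toR (F := F) (m := m) r.s).map_eq_zero_iff, hy, TP.pv_eq_zero]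
    left
    obtain ⟨s, φ, ζ, hφ, hζ, h0⟩ := r
    obtain ⟨s', φ', ζ', hφ', hζ', h0'⟩ := r'
    change s = s' at h
    subst h
    dsimp only at hy hy' hind
    rw [hy] at hy'
    rw [LinearIndependent.pair_iff] at hind
    funext i
    exact (hind (y i) (-y' i) (by
      have h3 : y i • ζ = y' i • ζ' := by simpa only [TP.row_pv] using congrArg (fun x => TP.row x i) hy'
      rw [h3, neg_smul, add_neg_cancel])).1
  rw [h2, finrank_bot, add_zero, finrank_L, finrank_L] at h1
  omega

end Cfsg.Agent.MaxCl.TW
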