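/-
An element of the wreath product whose square of `g - 1` vanishes and whose image of `g - 1` is small is a root
element, or an involution of the swap type in characteristic two with three-dimensional factors.
-/
import Cfsg.Agent.Lib.MaxCl.PowerRoot

set_option autoImplicit false
set_option linter.unusedSectionVars false
set_option linter.style.haveILetI false

namespace Cfsg.Agent.MaxCl.TW

open Matrix
open scoped MatrixGroups Kronecker

variable {S : Type} [Fintype S] [DecidableEq S] {m : ℕ} {F : Type*} [Field F]

/-- the pure functional -/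
def tpd (ψ : S → (Fin m → F) →ₗ[F] F) : ((S → Fin m) → F) →ₗ[F] F where
  toFun z := ∑ x, z x * ∏ s, ψ s (Pi.single (x s) 1)
  map_add' z z' := by simp [add_mul, Finset.sum_add_distrib]
  map_smul' c z := by simp [mul_assoc, Finset.mul_sum]

theorem tpd_tp (ψ : S → (Fin m → F) →ₗ[F] F) (a : S → Fin m → F) : tpd ψ (tp a) = ∏ s, ψ s (a s) := by
  show ∑ x : S → Fin m, tp a x * ∏ s, ψ s (Pi.single (x s) 1) = _
  simp only [tp_apply, ← Finset.prod_mul_distrib]
  rw [← Fintype.prod_sum fun s j => a s j * ψ s (Pi.single j 1)]
  refine Finset.prod_congr rfl fun s _ => ?_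
  conv_rhs => rw [← (Pi.basisFun F (Fin m)).sum_repr (a s)]
  simp [map_sum]

theorem exists_tpd (a : S → Fin m → F) (ha : ∀ s, a s ≠ 0) (s₀ : S) (W : Submodule F (Fin m → F)) (hW : a s₀ ∉ W) :
    ∃ ψ : S → (Fin m → F) →ₗ[F] F, tpd ψ (tp a) = 1 ∧ ∀ b : S → Fin m → F, b s₀ ∈ W → tpd ψ (tp b) = 0 := by
  classical
  choose χ hχ hχ1 using fun s => exists_dual (⊥ : Submodule F (Fin m → F))
    (show a s ∉ (⊥ : Submodule F (Fin m → F)) from fun h => ha s ((Submodule.mem_bot F).1 h))
  obtain ⟨φ, hφW, hφ1⟩ := exists_dual W hW
  refine ⟨Function.update χ s₀ φ, ?_, fun b hb => ?_⟩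
  · rw [tpd_tp]
    exact Finset.prod_eq_one fun s _ => by
      rcases eq_or_ne s s₀ with rfl | h
      · simpa using hφ1
      · simpa [h] using hχ1 s
  · rw [tpd_tp]
    exact Finset.prod_eq_zero (Finset.mem_univ s₀) (by simpa using hφW _ hb)

theorem exists_notMem_span (hm : 3 ≤ m) (v w : Fin m → F) :
    ∃ x, x ∉ Submodule.span F ({v, w} : Set (Fin m → F)) := by
  by_contra h
  push Not at h
  have h1 := finrank_span_two v w
  rw [show Submodule.span F ({v, w} : Set (Fin m → F)) = ⊤ from eq_top_iff.2 fun x _ => h x, finrank_top,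
    Module.finrank_fintype_fun_eq_card, Fintype.card_fin] at h1
  omega

/-- small unipotent elements of the wreath product -/
structure Small (g : GL (S → Fin m) F) : Prop where
  rank : Module.finrank F (LinearMap.range (act g - LinearMap.id)) ≤ m ^ (Fintype.card S - 1)
  sq : ∀ z, act g (act g z - z) = act g z - z
  ne : g ≠ 1

theorem small_conj (c : GL (S → Fin m) F) (r : Rt S m F) : Small (c * r.elt * c⁻¹) where
  rank := by
    refine le_trans (Submodule.finrank_mono (t := r.L.map (act c)) ?_) ?_
    · rintro _ ⟨z, rfl⟩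
      refine ⟨_, act_elt_sub_mem r (act c⁻¹ z), ?_⟩
      rw [map_sub, act_act_inv, LinearMap.sub_apply, LinearMap.id_apply, act_mul, act_mul]
    · exact (Submodule.finrank_map_le _ _).trans (finrank_L r).le
  sq z := by
    have h1 : act (c * r.elt * c⁻¹) z - z = act c (act r.elt (act c⁻¹ z) - act c⁻¹ z) := by
      rw [act_mul, act_mul, map_sub, act_act_inv]
    rw [h1, act_mul, act_mul, act_inv_act, act_elt_fix (L_le_K r (act_elt_sub_mem r _))]
  ne h := by
    have h1 : r.elt = 1 := by
      have := congrArg (fun x => c⁻¹ * x * c) h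
      simpa [mul_assoc] using this
    have h2 : r.L = ⊥ := by
      rw [Rt.L, h1]
      exact LinearMap.range_eq_bot.2 (LinearMap.ext fun z => by simp [act_one])
    have h3 := finrank_L r
    rw [h2, finrank_bot] at h3
    rcases Nat.eq_zero_or_pos m with hm | hm
    · subst hm
      exact r.hζ (funext fun i => i.elim0)
    · have := Nat.one_le_pow (Fintype.card S - 1) m hm
      omega

variable {g : GL (S → Fin m) F}

/-- an element permuting slots lives in characteristic two and is an involution -/
theorem Small.char_two (hm : 3 ≤ m) (hg : Small g) {σ : Equiv.Perm S} {u : S → GL (Fin m) F}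
    (he : g = pg σ * tk u) {s : S} (hs : σ.symm s ≠ s) : (2 : F) = 0 := by
  classical
  by_contra h2
  set q := σ.symm s with hq
  set q' := σ.symm q with hq'
  have hqq : q' ≠ q := fun e => hs (σ.symm.injective e)
  obtain ⟨e, he0⟩ : ∃ e : Fin m → F, e ≠ 0 := ⟨Pi.single ⟨0, by omega⟩ 1, by simp⟩
  obtain ⟨x, hx⟩ := exists_notMem_span hm e (act (u q) (act (u q') e))
  let a : S → Fin m → F := Function.update (fun _ => e) q (act (u q)⁻¹ x)
  have hx0 : x ≠ 0 := fun h => hx (h ▸ zero_mem _)
  have ha : ∀ t, a t ≠ 0 := fun t => by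
    rcases eq_or_ne t q with rfl | ht
    · simpa [a] using fun h => hx0 (act_injective _ (h.trans (map_zero _).symm))
    · simpa [a, ht] using he0
  have h1 : act g (tp a) = tp fun t => act (u (σ.symm t)) (a (σ.symm t)) := by rw [he, act_wr]
  have h3 : act g (act g (tp a)) =
      tp fun t => act (u (σ.symm t)) (act (u (σ.symm (σ.symm t))) (a (σ.symm (σ.symm t)))) := by
    rw [h1, he, act_wr]
  obtain ⟨ψ, hψ1, hψ0⟩ := exists_tpd (fun t => act (u (σ.symm t)) (a (σ.symm t)))
    (fun t h => ha _ (act_injective _ (h.trans (map_zero _).symm))) s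
    (Submodule.span F ({e, act (u q) (act (u q') e)} : Set (Fin m → F))) (by
      simpa [a, ← hq, act_act_inv] using hx)
  have h4 := congrArg (tpd ψ) (hg.sq (tp a))
  simp only [map_sub, h3] at h4
  rw [h1, hψ1, hψ0 a (by
    rw [show a s = e by simp [a, hs.symm]]
    exact Submodule.subset_span (by simp)), hψ0 _ (by
    show act (u (σ.symm s)) (act (u (σ.symm (σ.symm s))) (a (σ.symm (σ.symm s)))) ∈ _
    rw [← hq, ← hq', show a q' = e by simp [a, hqq]]
    exact Submodule.subset_span (by simp))] at h4
  exact h2 (by linear_combination -h4)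

theorem Small.sq_eq_one (hg : Small g) (h2 : (2 : F) = 0) : g * g = 1 :=
  gl_ext fun z => by
    have h := hg.sq z
    rw [map_sub, sub_eq_iff_eq_add] at h
    rw [act_mul, act_one, h]
    funext x
    simp only [Pi.add_apply, Pi.sub_apply]
    linear_combination (act g z x - z x) * h2

/-- an element fixing every slot is a root element -/
theorem Small.root (hm : 3 ≤ m) (hg : Small g) {u : S → GL (Fin m) F} (he : g = tk u) :
    ∃ r : Rt S m F, g = r.elt := by
  classical
  haveI : Nonempty S := by
    by_contra h
    rw [not_nonempty_iff] at h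
    exact hg.ne (he.trans (by rw [Subsingleton.elim u 1, map_one]))
  -- the slots of non-scalar factors
  let NS : S → Prop := fun s => ∃ v, LinearIndependent F ![v, act (u s) v]
  have hscal : ∀ s, ¬ NS s → ∃ c : F, ∀ v, act (u s) v = c • v := fun s hs => by
    obtain ⟨c, hc⟩ := TP.eq_smul_of_forall (β := Fin m) (W₁ := LinearMap.id) (W₂ := act (u s))
      Function.injective_id (by simp only [Fintype.card_fin]; omega) fun v => by
        rcases eq_or_ne v 0 with rfl | hv
        · exact ⟨0, by simp⟩
        · exact TP.not_pair hv fun h => hs ⟨v, h⟩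
    exact ⟨c, hc⟩
  have hone : ∀ s s', NS s → NS s' → s = s' := by
    rintro s s' ⟨v, hv⟩ ⟨v', hv'⟩
    by_contra hne
    rw [LinearIndependent.pair_iff] at hv hv'
    obtain ⟨x, hx⟩ := exists_notMem_span hm v (act (u s) v)
    obtain ⟨e, he0⟩ : ∃ e : Fin m → F, e ≠ 0 := ⟨Pi.single ⟨0, by omega⟩ 1, by simp⟩
    let U : GL ({r // r ≠ s} → Fin m) F := tk fun r => u r.1
    let y₀ : ({r // r ≠ s} → Fin m) → F := tp fun r => if r.1 = s' then v' else e
    have hy₀ : ∀ a b : F, a • y₀ + b • act U y₀ = 0 → a = 0 := by
      intro a b hab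
      obtain ⟨ψ, hψ1, hψ0⟩ := exists_tpd (fun r : {r // r ≠ s} => if r.1 = s' then v' else e)
        (fun r => by
          split_ifs
          · exact fun h => one_ne_zero (hv' 1 0 (by rw [h]; simp)).1
          · exact he0) ⟨s', Ne.symm hne⟩ (Submodule.span F {act (u s') v'}) (by
        simp only [if_true]
        rw [Submodule.mem_span_singleton]
        rintro ⟨c, hc⟩
        exact one_ne_zero (hv' 1 (-c) (by rw [neg_smul, hc, one_smul, add_neg_cancel])).1)
      have h := congrArg (tpd ψ) hab
      rw [map_add, map_smul, map_smul, map_zero, hψ1, act_tk, hψ0 _ (by simp)] at h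
      simpa using h
    have hgR : ∀ y w, toR s (act g ((toR s).symm (TP.pv y w))) = TP.pv (act U y) (act (u s) w) := fun y w => by
      rw [← act_rid, LinearEquiv.apply_symm_apply, he, rid_tk, TP.act_kr_pv]
    let f : (({r // r ≠ s} → Fin m) → F) × F →ₗ[F] (({r // r ≠ s} → Fin m) × Fin m → F) :=
      { toFun := fun p => TP.pv (act U p.1) (act (u s) v) - TP.pv p.1 v +
          p.2 • (TP.pv (act U y₀) (act (u s) x) - TP.pv y₀ x)
        map_add' := fun p p' => by simp only [Prod.fst_add, Prod.snd_add, map_add, TP.pv_add_left]; module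
        map_smul' := fun c p => by
          simp only [Prod.smul_fst, Prod.smul_snd, map_smul, TP.pv_smul_left, smul_eq_mul, RingHom.id_apply]; module }
    have hf : ∀ p, f p ∈ (LinearMap.range (act g - LinearMap.id)).map (toR s).toLinearMap := fun p => by
      refine ⟨_, LinearMap.mem_range_self _ ((toR s).symm (TP.pv p.1 v) + p.2 • (toR s).symm (TP.pv y₀ x)), ?_⟩
      simp only [LinearEquiv.coe_coe, LinearMap.sub_apply, LinearMap.id_apply, map_add, map_sub, map_smul, hgR,
        LinearEquiv.apply_symm_apply]
      show _ = TP.pv (act U p.1) _ - _ + p.2 • _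
      module
    have hinj : Function.Injective f := by
      rw [← LinearMap.ker_eq_bot, LinearMap.ker_eq_bot']
      rintro ⟨p, c⟩ hp
      obtain ⟨χ, hχW, hχx⟩ := exists_dual _ hx
      have hrow : ∀ i, act U p i • act (u s) v - p i • v +
          c • (act U y₀ i • act (u s) x - y₀ i • x) = 0 := fun i => funext fun j => congrFun hp (i, j)
      have hc : c = 0 := by
        have h1 : (-c) • y₀ + (c * χ (act (u s) x)) • act U y₀ = 0 := funext fun i => by
          have h2 := congrArg χ (hrow i)
          rw [map_add, map_sub, map_smul, map_smul, map_smul, map_sub, map_smul, map_smul, map_zero,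
            hχW v (Submodule.subset_span (by simp)), hχW (act (u s) v) (Submodule.subset_span (by simp)), hχx] at h2
          simp only [smul_eq_mul] at h2
          simp only [Pi.add_apply, Pi.smul_apply, smul_eq_mul, Pi.zero_apply]
          linear_combination h2
        exact neg_eq_zero.1 (hy₀ _ _ h1)
      refine Prod.ext (funext fun i => ?_) hc
      have h2 := hrow i
      rw [hc, zero_smul, add_zero, sub_eq_add_neg, ← neg_smul, add_comm] at h2
      exact neg_eq_zero.1 (hv _ _ h2).1
    have h1 : Module.finrank F (LinearMap.range f) ≤ _ := Submodule.finrank_mono (by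
      rintro _ ⟨p, rfl⟩
      exact hf p)
    rw [LinearMap.finrank_range_of_inj hinj, Module.finrank_prod, Module.finrank_self,
      Module.finrank_fintype_fun_eq_card, Fintype.card_fun, Fintype.card_fin, Fintype.card_subtype,
      Finset.filter_ne', Finset.card_erase_of_mem (Finset.mem_univ s), Finset.card_univ] at h1
    have h2 := (Submodule.finrank_map_le (toR (F := F) (m := m) s).toLinearMap
      (LinearMap.range (act g - LinearMap.id))).trans hg.rank
    omega
  obtain ⟨s, hs⟩ : ∃ s, ∀ q, q ≠ s → ¬ NS q := by
    by_cases h : ∃ s, NS s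
    · obtain ⟨s, hs⟩ := h
      exact ⟨s, fun q hq h' => hq (hone q s h' hs)⟩
    · exact ⟨Classical.arbitrary S, fun q _ h' => h ⟨q, h'⟩⟩
  choose c hc using fun q : {q // q ≠ s} => hscal q.1 (hs q.1 q.2)
  have hU : ∀ y, act (tk fun q : {q // q ≠ s} => u q.1) y = (∏ q, c q) • y := fun y => by
    refine LinearMap.congr_fun (lext_tp (g := (∏ q, c q) • LinearMap.id) fun a => ?_) y
    rw [act_tk, LinearMap.smul_apply, LinearMap.id_apply]
    funext x
    simp [tp_apply, hc, Finset.prod_mul_distrib]
  let L : (Fin m → F) →ₗ[F] (Fin m → F) := (∏ q, c q) • act (u s)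
  have hgR : ∀ z i, TP.row (toR s (act g z)) i = L (TP.row (toR s z) i) := fun z i => by
    rw [← act_rid, he, rid_tk,
      show (tk (fun q : {q // q ≠ s} => u q.1), u s) = ((tk fun q : {q // q ≠ s} => u q.1), (1 : GL (Fin m) F)) *
        (1, u s) by simp, map_mul, act_mul]
    funext j
    show act (TP.kr ((tk fun q : {q // q ≠ s} => u q.1), (1 : GL (Fin m) F))) _ (i, j) = _
    rw [show act (TP.kr ((tk fun q : {q // q ≠ s} => u q.1), (1 : GL (Fin m) F)))
        (act (TP.kr (1, u s)) (toR s z)) (i, j) = TP.col (act (TP.kr ((tk fun q : {q // q ≠ s} => u q.1),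
          (1 : GL (Fin m) F))) (act (TP.kr (1, u s)) (toR s z))) j i from rfl, TP.col_kr_one, hU]
    show (∏ q, c q) * act (TP.kr (1, u s)) (toR s z) (i, j) = (∏ q, c q) * act (u s) (TP.row (toR s z) i) j
    rw [← TP.row_kr_one]
    rfl
  -- the image is a line in the slot
  have himg : ∀ y v, (toR s).symm (TP.pv y (L v - v)) ∈ LinearMap.range (act g - LinearMap.id) := fun y v => by
    refine ⟨(toR s).symm (TP.pv y v), (toR s).injective ?_⟩
    rw [LinearEquiv.apply_symm_apply, LinearMap.sub_apply, LinearMap.id_apply, map_sub,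
      LinearEquiv.apply_symm_apply]
    funext p
    obtain ⟨i, j⟩ := p
    have h := congrFun (hgR ((toR s).symm (TP.pv y v)) i) j
    rw [LinearEquiv.apply_symm_apply, TP.row_pv, map_smul] at h
    simp only [TP.row, Pi.smul_apply, smul_eq_mul] at h
    rw [Pi.sub_apply, h, TP.pv_apply, TP.pv_apply, Pi.sub_apply]
    ring
  obtain ⟨v₀, hv₀⟩ : ∃ v, L v - v ≠ 0 := by
    by_contra hall
    push Not at hall
    refine hg.ne (gl_ext fun z => (toR s).injective ?_)
    rw [act_one]
    funext p
    obtain ⟨i, j⟩ := p
    exact (congrFun (hgR z i) j).trans (congrFun (sub_eq_zero.1 (hall _)) j)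
  set ζ := L v₀ - v₀ with hζ
  have hline : ∀ v, ∃ t : F, t • ζ = L v - v := fun v => by
    refine TP.not_pair hv₀ fun hli => ?_
    rw [LinearIndependent.pair_iff] at hli
    let N : ((({q // q ≠ s} → Fin m) → F) × (({q // q ≠ s} → Fin m) → F)) →ₗ[F]
        LinearMap.range (act g - LinearMap.id) := LinearMap.codRestrict _
      ((toR s).symm.toLinearMap ∘ₗ
        { toFun := fun p => TP.pv p.1 ζ + TP.pv p.2 (L v - v)
          map_add' := fun p q => by simp only [Prod.fst_add, Prod.snd_add, TP.pv_add_left]; abel
          map_smul' := fun t p => by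
            simp only [Prod.smul_fst, Prod.smul_snd, TP.pv_smul_left, smul_add, RingHom.id_apply] })
      fun p => by
        show (toR s).symm (TP.pv p.1 ζ + TP.pv p.2 (L v - v)) ∈ _
        rw [map_add]
        exact Submodule.add_mem _ (himg _ _) (himg _ _)
    have hN : Function.Injective N := by
      rw [← LinearMap.ker_eq_bot, LinearMap.ker_eq_bot']
      rintro ⟨p, q⟩ hpq
      have h1 : TP.pv p ζ + TP.pv q (L v - v) = 0 :=
        ((toR (F := F) (m := m) s).symm.map_eq_zero_iff).1 (congrArg Subtype.val hpq)
      have h2 : ∀ i, p i = 0 ∧ q i = 0 := fun i => hli _ _ (funext fun j => congrFun h1 (i, j))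
      exact Prod.ext (funext fun i => (h2 i).1) (funext fun i => (h2 i).2)
    have := (LinearMap.finrank_le_finrank_of_injective hN).trans hg.rank
    rw [Module.finrank_prod, Module.finrank_fintype_fun_eq_card, Fintype.card_fun, Fintype.card_fin,
      Fintype.card_subtype, Finset.filter_ne', Finset.card_erase_of_mem (Finset.mem_univ s), Finset.card_univ] at this
    have := Nat.one_le_pow (Fintype.card S - 1) m (by omega)
    omega
  choose t ht using hline
  let φ : (Fin m → F) →ₗ[F] F :=
    { toFun := t
      map_add' := fun v v' => smul_left_injective F hv₀ (by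
        show t (v + v') • ζ = (t v + t v') • ζ
        rw [add_smul, ht, ht, ht, map_add]
        abel)
      map_smul' := fun a v => smul_left_injective F hv₀ (by
        show t (a • v) • ζ = (a • t v) • ζ
        rw [smul_assoc, ht, ht, map_smul, smul_sub]) }
  have hφ : ∀ v, L v = v + φ v • ζ := fun v => by
    show L v = v + t v • ζ
    rw [ht]
    abel
  have hφζ : φ ζ = 0 := by
    let i₀ : {q // q ≠ s} → Fin m := fun _ => ⟨0, by omega⟩
    let z := (toR s).symm (TP.pv (Pi.single i₀ (1 : F)) v₀)
    have hrow : TP.row (toR s z) i₀ = v₀ := by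
      simp [z, TP.row_pv]
    have h1 := congrArg (fun x => TP.row x i₀) (congrArg (toR s) (hg.sq z))
    have h2 : TP.row (toR s (act g z - z)) i₀ = ζ := by
      rw [map_sub]
      show TP.row (toR s (act g z)) i₀ - TP.row (toR s z) i₀ = ζ
      rw [hgR, hrow]
    simp only [hgR, h2, hφ] at h1
    simpa [hv₀] using h1
  have hφne : φ ≠ 0 := fun h => hv₀ (by
    show L v₀ - v₀ = 0
    rw [hφ, h, LinearMap.zero_apply, zero_smul, add_zero, sub_self])
  refine ⟨⟨s, φ, ζ, hφne, hv₀, hφζ⟩, gl_ext fun z => (toR s).injective (funext fun p => ?_)⟩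
  obtain ⟨i, j⟩ := p
  have h := congrFun (hgR z i) j
  simp only [TP.row] at h
  rw [h, hφ, Rt.elt, ← act_rid, rid_rt]
  have h' := congrFun (TP.row_kr_one (tv φ ζ) (toR s z) i) j
  rw [act_tv hφζ] at h'
  exact h'.symm

/-- a set of ordered pairs -/
theorem card_lt_slot {s s' : S} (hne : s ≠ s') :
    2 * (Finset.univ.filter fun x : S → Fin m => x s < x s').card + m ^ (Fintype.card S - 1) =
      m * m ^ (Fintype.card S - 1) := by
  classical
  have hrev : (Finset.univ.filter fun x : S → Fin m => x s < x s').card =
      (Finset.univ.filter fun x : S → Fin m => x s' < x s).card := by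
    refine Finset.card_equiv (Equiv.arrowCongr (Equiv.swap s s') (Equiv.refl _)) fun x => ?_
    simp
  have hdiag : (Finset.univ.filter fun x : S → Fin m => x s = x s').card = m ^ (Fintype.card S - 1) := by
    have : (Finset.univ.filter fun x : S → Fin m => x s = x s').card =
        (Finset.univ : Finset ({q // q ≠ s} → Fin m)).card :=
      Finset.card_bij' (fun x _ q => x q.1) (fun y _ q => if h : q = s then y ⟨s', hne.symm⟩ else y ⟨q, h⟩)
        (fun _ _ => Finset.mem_univ _) (fun y _ => by simp [hne.symm])
        (fun x hx => funext fun q => by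
          have hx' := (Finset.mem_filter.1 hx).2
          by_cases h : q = s
          · subst h
            simp [hx']
          · simp [h])
        (fun y _ => funext fun q => by simp [q.2])
    rw [this, Finset.card_univ, Fintype.card_fun, Fintype.card_fin, Fintype.card_subtype, Finset.filter_ne',
      Finset.card_erase_of_mem (Finset.mem_univ s), Finset.card_univ]
  have htot : (Finset.univ.filter fun x : S → Fin m => x s < x s').card +
      ((Finset.univ.filter fun x : S → Fin m => x s = x s').card +
        (Finset.univ.filter fun x : S → Fin m => x s' < x s).card) = m ^ Fintype.card S := by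
    have h1 := Finset.card_filter_add_card_filter_not (s := (Finset.univ : Finset (S → Fin m)))
      fun x => x s < x s'
    have h2 := Finset.card_filter_add_card_filter_not
      (s := (Finset.univ : Finset (S → Fin m)).filter fun x => ¬ x s < x s') fun x => x s = x s'
    rw [Finset.filter_filter, Finset.filter_filter] at h2
    have e1 : (Finset.univ.filter fun x : S → Fin m => ¬ x s < x s' ∧ x s = x s') =
        Finset.univ.filter fun x : S → Fin m => x s = x s' := by
      ext x
      simp only [Finset.mem_filter, Finset.mem_univ, true_and]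
      omega
    have e2 : (Finset.univ.filter fun x : S → Fin m => ¬ x s < x s' ∧ ¬ x s = x s') =
        Finset.univ.filter fun x : S → Fin m => x s' < x s := by
      ext x
      simp only [Finset.mem_filter, Finset.mem_univ, true_and]
      omega
    rw [e1, e2] at h2
    rw [Finset.card_univ, Fintype.card_fun, Fintype.card_fin] at h1
    omega
  rw [← hrev, hdiag, pow_card s] at htot
  omega

/-- an element permuting slots is conjugate to a swap of two slots -/
theorem Small.swap (hm : 3 ≤ m) (hg : Small g) {σ : Equiv.Perm S} {u : S → GL (Fin m) F}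
    (he : g = pg σ * tk u) {s' : S} (hs : σ.symm s' ≠ s') :
    m = 3 ∧ (2 : F) = 0 ∧ ∃ (s : S) (w : GL (Fin m) F), s ≠ s' ∧
      g = rt s' w * pg (Equiv.swap s s') * (rt s' w)⁻¹ := by
  classical
  have h2 : (2 : F) = 0 := hg.char_two hm he hs
  set s := σ.symm s' with hsdef
  have hs' : σ s = s' := σ.apply_symm_apply s'
  have hgg : act g ∘ₗ act g = LinearMap.id := LinearMap.ext fun z => by
    rw [LinearMap.comp_apply, ← act_mul, hg.sq_eq_one h2, act_one, LinearMap.id_apply]
  have hinv : σ.symm s = s' := by
    have h1 : g * g = pg (σ * σ) * tk ((fun q => u (σ q)) * u) := by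
      rw [he, pg_mul, map_mul, mul_assoc, ← mul_assoc (tk u), tk_pg]
      simp only [mul_assoc]
    rw [hg.sq_eq_one h2] at h1
    have h3 := perm_apply_of_eq (by omega) (h1.symm.trans (show (1 : GL (S → Fin m) F) = pg 1 * tk 1 by
      rw [pg_one, map_one, one_mul]))
    rw [Equiv.symm_apply_eq]
    have h4 := Equiv.congr_fun h3 s
    rw [Equiv.Perm.mul_apply, hs', Equiv.Perm.one_apply] at h4
    exact h4.symm
  set w := u s with hw
  set V := rt s' w with hV
  set p := V⁻¹ * g * V with hp
  -- the conjugate on pure vectors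
  obtain ⟨μ, hμ⟩ : ∃ μ : F, ∀ v, act (u s') (act (u s) v) = μ • v := by
    obtain ⟨c, hc⟩ := TP.eq_smul_of_forall (β := Fin m) (W₁ := LinearMap.id) (W₂ := act (u s') ∘ₗ act (u s))
      Function.injective_id (by simp only [Fintype.card_fin]; omega) fun v => by
        rcases eq_or_ne v 0 with rfl | hv
        · exact ⟨0, by simp⟩
        obtain ⟨e, he0⟩ : ∃ e : Fin m → F, e ≠ 0 := ⟨Pi.single ⟨0, by omega⟩ 1, by simp⟩
        have hne : ∀ q, Function.update (fun _ : S => e) s v q ≠ 0 := fun q => by
          rcases eq_or_ne q s with rfl | hq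
          · simpa using hv
          · simpa [hq] using he0
        have h1 := LinearMap.congr_fun hgg (tp (Function.update (fun _ : S => e) s v))
        rw [LinearMap.comp_apply, LinearMap.id_apply, he, act_wr, act_wr] at h1
        obtain ⟨c, hc⟩ := slot_of_eq h1.symm hne s
        refine ⟨c, ?_⟩
        simpa [hinv, ← hsdef] using hc
    exact ⟨c, hc⟩
  have hpt : ∀ a, act p (tp a) = tp fun q => if q = s' then a s else if q = s then μ • a s' else
      act (u (σ.symm q)) (a (σ.symm q)) := by
    intro a
    rw [hp, act_mul, act_mul, hV, act_rt, he, act_wr, ← map_inv, act_rt]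
    refine congrArg tp (funext fun q => ?_)
    rcases eq_or_ne q s' with rfl | hq'
    · rw [if_pos rfl, Function.update_self, ← hsdef, Function.update_of_ne hs, ← hw, act_inv_act]
    rw [if_neg hq', Function.update_of_ne hq']
    rcases eq_or_ne q s with hqs | hqs
    · rw [if_pos hqs, hqs, hinv, Function.update_self, hw, hμ]
    · rw [if_neg hqs, Function.update_of_ne fun h => hqs (σ.symm.injective (h.trans hinv.symm))]
  set X := Finset.univ.filter fun x : S → Fin m => x s < x s' with hX
  set N := act p - LinearMap.id with hN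
  -- the image of the ordered pairs
  have hsupp : ∀ z ∈ cs (F := F) X, ∀ x, ¬ x s' < x s → act p z x = 0 := by
    intro z hz x hx
    rw [(Pi.basisFun F (S → Fin m)).sum_repr z |>.symm, map_sum, Finset.sum_apply]
    refine Finset.sum_eq_zero fun y _ => ?_
    rw [map_smul, Pi.smul_apply, Pi.basisFun_apply, Pi.basisFun_repr]
    by_cases hy : y ∈ X
    · rw [← tp_single, hpt, tp_apply]
      simp [hX] at hy
      by_cases h1 : x s' = y s
      · by_cases h3 : x s = y s'
        · exact absurd (by rw [h1, h3]; exact hy) hx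
        · rw [Finset.prod_eq_zero (Finset.mem_univ s) (by simp [Ne.symm hs, hs, h3]), smul_zero]
      · rw [Finset.prod_eq_zero (Finset.mem_univ s') (by simp [h1]), smul_zero]
    · rw [hz y hy, zero_smul]
  have hNX : ∀ z ∈ cs (F := F) X, ∀ x ∈ X, N z x = - z x := fun z hz x hx => by
    simp [hX] at hx
    rw [hN, LinearMap.sub_apply, LinearMap.id_apply, Pi.sub_apply, hsupp z hz x (by omega), zero_sub]
  have hker : ∀ z ∈ cs (F := F) X, (∀ x ∈ X, N z x = 0) → z = 0 := fun z hz h0 => funext fun x => by
    by_cases hx : x ∈ X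
    · simpa using (hNX z hz x hx).symm.trans (h0 x hx)
    · exact hz x hx
  have hNrank : Module.finrank F (LinearMap.range N) ≤ m ^ (Fintype.card S - 1) := by
    refine le_trans (Submodule.finrank_mono (t := (LinearMap.range (act g - LinearMap.id)).map (act V⁻¹)) ?_) ?_
    · rintro _ ⟨z, rfl⟩
      refine ⟨_, LinearMap.mem_range_self _ (act V z), ?_⟩
      simp only [LinearMap.sub_apply, LinearMap.id_apply, map_sub, hp, hN, act_mul, act_inv_act]
    · exact (Submodule.finrank_map_le _ _).trans hg.rank
  have hmap : Module.finrank F ((cs (F := F) X).map N) = X.card := by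
    rw [← finrank_cs (F := F) X]
    refine (LinearEquiv.finrank_eq (LinearEquiv.ofBijective (N.submoduleMap _) ⟨?_, N.submoduleMap_surjective _⟩)).symm
    rw [← LinearMap.ker_eq_bot, LinearMap.ker_eq_bot']
    intro z hz
    refine Subtype.ext (hker _ z.2 fun x _ => ?_)
    exact congrFun (congrArg Subtype.val hz) x
  have hcount := card_lt_slot (m := m) (Ne.symm (Ne.symm hs))
  rw [← hX] at hcount
  have hle : X.card ≤ m ^ (Fintype.card S - 1) := by
    rw [← hmap]
    exact (Submodule.finrank_mono LinearMap.map_le_range).trans hNrank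
  have hpos : 0 < m ^ (Fintype.card S - 1) := pow_pos (by omega) _
  have hm3 : m = 3 := by nlinarith
  refine ⟨hm3, h2, s, w, hs, ?_⟩
  have hrange : LinearMap.range N = (cs (F := F) X).map N := by
    refine (Submodule.eq_of_le_of_finrank_le LinearMap.map_le_range ?_).symm
    rw [hmap]
    refine hNrank.trans ?_
    have : m * m ^ (Fintype.card S - 1) = 3 * m ^ (Fintype.card S - 1) := by rw [hm3]
    omega
  have hpp : p = pg (Equiv.swap s s') := by
    refine gl_ext_tp fun a => ?_
    set o : Fin m := ⟨0, by omega⟩
    let a' : S → Fin m → F := fun q => if q = s ∨ q = s' then Pi.single o 1 else a q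
    have hfix : act p (tp a') = tp a' := by
      obtain ⟨z, hz, hzN⟩ : N (tp a') ∈ (cs (F := F) X).map N := hrange ▸ LinearMap.mem_range_self N _
      have hz0 : z = 0 := hker z hz fun x hx => by
        simp [hX] at hx
        have hx' : x s ≠ o ∨ x s' ≠ o := by
          by_contra hc
          push Not at hc
          rw [hc.1, hc.2] at hx
          exact lt_irrefl _ hx
        rw [hzN, hN, LinearMap.sub_apply, LinearMap.id_apply, Pi.sub_apply, hpt, tp_apply, tp_apply]
        rcases hx' with h | h
        · rw [Finset.prod_eq_zero (Finset.mem_univ s) (by simp [hs, a', h]),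
            Finset.prod_eq_zero (Finset.mem_univ s) (by simp [a', h]), sub_zero]
        · rw [Finset.prod_eq_zero (Finset.mem_univ s') (by simp [a', h]),
            Finset.prod_eq_zero (Finset.mem_univ s') (by simp [a', h]), sub_zero]
      rw [hz0, map_zero, hN] at hzN
      exact sub_eq_zero.1 hzN.symm
    rw [hpt, act_pg_tp]
    funext x
    have h := congrFun hfix (Function.update (Function.update x s o) s' o)
    rw [hpt] at h
    have hR : ∀ (f : S → Fin m → F) (y : S → Fin m), tp f y = f s (y s) * f s' (y s') *
        ∏ q ∈ (Finset.univ.erase s).erase s', f q (y q) := fun f y => by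
      rw [tp_apply, ← Finset.mul_prod_erase _ _ (Finset.mem_univ s), ← Finset.mul_prod_erase _ _
        (Finset.mem_erase.2 ⟨Ne.symm hs, Finset.mem_univ s'⟩), mul_assoc]
    rw [hR, hR] at h
    rw [hR, hR]
    simp [hs, Ne.symm hs, a'] at h
    simp only [if_pos, if_true, if_neg hs, Equiv.symm_swap, Equiv.swap_apply_left, Equiv.swap_apply_right,
      Pi.smul_apply, smul_eq_mul]
    have e1 : ∏ q ∈ (Finset.univ.erase s).erase s', (Function.update (Function.update x s o) s' o q |> fun i =>
        (if q = s' then a' s else if q = s then μ • a' s' else act (u (σ.symm q)) (a' (σ.symm q))) i) =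
        ∏ q ∈ (Finset.univ.erase s).erase s',
          (if q = s' then a s else if q = s then μ • a s' else act (u (σ.symm q)) (a (σ.symm q))) (x q) :=
      Finset.prod_congr rfl fun q hq => by
        simp only [Finset.mem_erase] at hq
        have h1 : σ.symm q ≠ s := fun e => hq.1 (by rw [← hs', ← e, Equiv.apply_symm_apply])
        have h3 : σ.symm q ≠ s' := fun e => hq.2.1 (σ.symm.injective (e.trans hinv.symm))
        simp [hq.1, hq.2.1, a', h1, h3]
    have e2 : ∏ q ∈ (Finset.univ.erase s).erase s', a (Equiv.swap s s' q) (x q) =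
        ∏ q ∈ (Finset.univ.erase s).erase s', a' q (Function.update (Function.update x s o) s' o q) :=
      Finset.prod_congr rfl fun q hq => by
        simp only [Finset.mem_erase] at hq
        simp [hq.1, hq.2.1, a', Equiv.swap_apply_of_ne_of_ne hq.2.1 hq.1]
    rw [← e1, e2]
    simp [a'] at h ⊢
    linear_combination (a s (x s') * a s' (x s)) * h
  rw [← hpp, hp, hV]
  group

end Cfsg.Agent.MaxCl.TW
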