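/-
An element of the wreath group preserving a tensor power of an alternating form, whose `h - 1` squares to zero
and has the rank of a root element in one position, is a root element in one position.
-/
import Cfsg.Agent.Lib.MaxCl.PowerSlice
import Cfsg.Agent.Lib.MaxCl.PowerPure

set_option autoImplicit false
set_option linter.unusedSectionVars false
set_option linter.style.haveILetI false

namespace Cfsg.Agent.MaxCl.TW

open Matrix
open scoped MatrixGroups Kronecker

variable {S : Type} [Fintype S] [DecidableEq S] {m : ℕ} {F : Type*} [Field F]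
variable {g : GL (S → Fin m) F}

/-- the permutation part of a power -/
theorem exists_pow_eq (σ : Equiv.Perm S) (u : S → GL (Fin m) F) (n : ℕ) :
    ∃ v, (pg σ * tk u) ^ n = pg (σ ^ n) * tk v := by
  induction n with
  | zero => exact ⟨1, by rw [pow_zero, pow_zero, pg_one, map_one, one_mul]⟩
  | succ n ih =>
    obtain ⟨v, hv⟩ := ih
    refine ⟨(fun s => v (σ s)) * u, ?_⟩
    rw [pow_succ, hv, pow_succ σ, pg_mul, map_mul, mul_assoc, ← mul_assoc (tk v), tk_pg]
    simp only [mul_assoc]

/-- a unipotent element of the wreath product with square zero permutes no position in odd characteristic -/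
theorem Small.perm_eq_one [Finite F] (h2 : (2 : F) ≠ 0) (hm : 2 ≤ m) (hg : Small g) {σ : Equiv.Perm S}
    {u : S → GL (Fin m) F} (he : g = pg σ * tk u) : σ = 1 := by
  classical
  haveI : Fact (ringChar F).Prime := ⟨CharP.char_is_prime F (ringChar F)⟩
  set p := ringChar F with hp
  have hodd : Odd p := (Fact.out : p.Prime).odd_of_ne_two fun h => h2 (by
    have h0 := CharP.cast_eq_zero F p
    rw [h] at h0
    exact_mod_cast h0)
  have hpow : ∀ (n : ℕ) z, act (g ^ n) z = z + (n : F) • (act g z - z) := by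
    intro n
    induction n with
    | zero => intro z; simp [act_one]
    | succ n ih =>
      intro z
      rw [pow_succ', act_mul, ih, map_add, map_smul, hg.sq, Nat.cast_succ]
      module
  have hσp : σ ^ p = 1 := by
    obtain ⟨v, hv⟩ := exists_pow_eq σ u p
    have h1 : g ^ p = pg 1 * tk 1 := by
      rw [pg_one, map_one, one_mul]
      exact gl_ext fun z => by rw [hpow, CharP.cast_eq_zero, zero_smul, add_zero, act_one]
    rw [he, hv] at h1
    exact perm_apply_of_eq hm h1
  refine Equiv.ext fun t => ?_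
  by_contra hst
  set s := σ t with hs
  set q := σ.symm s with hq
  have hqt : q = t := σ.symm_apply_apply t
  have hqs : q ≠ s := by rw [hqt]; exact Ne.symm hst
  set q' := σ.symm q with hq'
  have hq'q : q' ≠ q := fun e => hqs (σ.symm.injective e)
  have hq's : q' ≠ s := fun e => hqs (by
    have h1 : σ q = s := σ.apply_symm_apply s
    have h2' : σ s = q := by rw [← e]; exact σ.apply_symm_apply q
    have key : ∀ n : ℕ, (σ ^ (2 * n + 1)) s = q := fun n => by
      induction n with
      | zero => simpa using h2'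
      | succ n ih =>
        rw [show 2 * (n + 1) + 1 = (2 * n + 1) + 1 + 1 by ring, pow_succ', pow_succ', Equiv.Perm.mul_apply,
          Equiv.Perm.mul_apply, ih, h1, h2']
    obtain ⟨n, hn⟩ := hodd
    have := key n
    rw [← hn, hσp] at this
    exact this.symm)
  obtain ⟨e, he0⟩ : ∃ e : Fin m → F, e ≠ 0 := ⟨Pi.single ⟨0, by omega⟩ 1, by simp⟩
  obtain ⟨x, hx⟩ : ∃ x, x ∉ Submodule.span F ({e} : Set (Fin m → F)) := by
    by_contra! h
    have h1 := finrank_span_singleton (K := F) he0
    rw [show Submodule.span F {e} = ⊤ from eq_top_iff.2 fun x _ => h x, finrank_top,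
      Module.finrank_fintype_fun_eq_card, Fintype.card_fin] at h1
    omega
  have hx0 : x ≠ 0 := fun h => hx (h ▸ zero_mem _)
  let a : S → Fin m → F := Function.update (Function.update (fun _ => e) q (act (u q)⁻¹ x)) q'
    (act (u q')⁻¹ (act (u q)⁻¹ e))
  have ha : ∀ r, a r ≠ 0 := fun r => by
    rcases eq_or_ne r q' with rfl | hr
    · intro h
      simp only [a, Function.update_self] at h
      exact he0 (act_injective _ ((act_injective _ (h.trans (map_zero _).symm)).trans (map_zero _).symm))
    rcases eq_or_ne r q with rfl | hr'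
    · intro h
      simp only [a, Function.update_of_ne hr, Function.update_self] at h
      exact hx0 (act_injective _ (h.trans (map_zero _).symm))
    · simpa [a, hr, hr'] using he0
  have h1 : act g (tp a) = tp fun r => act (u (σ.symm r)) (a (σ.symm r)) := by rw [he, act_wr]
  have h3 : act g (act g (tp a)) =
      tp fun r => act (u (σ.symm r)) (act (u (σ.symm (σ.symm r))) (a (σ.symm (σ.symm r)))) := by
    rw [h1, he, act_wr]
  obtain ⟨ψ, hψ1, hψ0⟩ := exists_tpd (fun r => act (u (σ.symm r)) (a (σ.symm r)))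
    (fun r h => ha _ (act_injective _ (h.trans (map_zero _).symm))) s (Submodule.span F {e}) (by
      simp only [← hq, a, Function.update_of_ne (Ne.symm hq'q), Function.update_self, act_act_inv]
      exact hx)
  have h4 := congrArg (tpd ψ) (hg.sq (tp a))
  simp only [map_sub, h3] at h4
  rw [h1, hψ1, hψ0 a (by
    simp only [a, Function.update_of_ne (Ne.symm hq's), Function.update_of_ne (Ne.symm hqs)]
    exact Submodule.mem_span_singleton_self e), hψ0 _ (by
    show act (u (σ.symm s)) (act (u (σ.symm (σ.symm s))) (a (σ.symm (σ.symm s)))) ∈ _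
    simp only [← hq, ← hq', a, Function.update_self, act_act_inv]
    exact Submodule.mem_span_singleton_self e)] at h4
  exact h2 (by linear_combination -h4)

/-- in odd characteristic a small element fixing every position lives in one position -/
theorem Small.one_slot (h2 : (2 : F) ≠ 0) (hm : 2 ≤ m) (hg : Small g) {u : S → GL (Fin m) F} (he : g = tk u) :
    ∃ (s : S) (A : GL (Fin m) F), g = rt s A := by
  classical
  haveI : Nonempty S := by
    by_contra h
    rw [not_nonempty_iff] at h
    exact hg.ne (he.trans (by rw [Subsingleton.elim u 1, map_one]))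
  let NS : S → Prop := fun s => ∃ v, LinearIndependent F ![v, act (u s) v]
  have hscal : ∀ s, ¬ NS s → ∃ c : F, ∀ v, act (u s) v = c • v := fun s hs => by
    obtain ⟨c, hc⟩ := TP.eq_smul_of_forall (β := Fin m) (W₁ := LinearMap.id) (W₂ := act (u s))
      Function.injective_id (by simp only [Fintype.card_fin]; omega) fun v => by
        rcases eq_or_ne v 0 with rfl | hv
        · exact ⟨0, by simp⟩
        · exact TP.not_pair hv fun h => hs ⟨v, h⟩
    exact ⟨c, hc⟩
  have hone : ∀ s s', NS s → NS s' → s = s' := by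
    rintro s s' ⟨v, hv⟩ ⟨v', hv'⟩
    by_contra hne
    rw [LinearIndependent.pair_iff] at hv hv'
    obtain ⟨e, he0⟩ : ∃ e : Fin m → F, e ≠ 0 := ⟨Pi.single ⟨0, by omega⟩ 1, by simp⟩
    let a : S → Fin m → F := Function.update (Function.update (fun _ => e) s' v') s v
    have has : a s = v := Function.update_self _ _ _
    have has' : a s' = v' := by simp [a, Ne.symm hne]
    have hnz : ∀ r, act (u r) (a r) ≠ 0 := fun r h => by
      have h0 := act_injective _ (h.trans (map_zero _).symm)
      rcases eq_or_ne r s with rfl | hr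
      · rw [has] at h0
        exact one_ne_zero (hv 1 0 (by simp [h0])).1
      rcases eq_or_ne r s' with rfl | hr'
      · rw [has'] at h0
        exact one_ne_zero (hv' 1 0 (by simp [h0])).1
      · exact he0 (by simpa [a, hr, hr'] using h0)
    obtain ⟨χ, hχ0, hχ1⟩ := exists_dual (Submodule.span F {v}) (v := act (u s) v) fun h => by
      obtain ⟨c, hc⟩ := Submodule.mem_span_singleton.1 h
      exact one_ne_zero (hv (-c) 1 (by rw [neg_smul, one_smul, hc, neg_add_cancel])).2
    choose η hη hη1 using fun r => exists_dual (⊥ : Submodule F (Fin m → F))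
      (show act (u r) (a r) ∉ (⊥ : Submodule F (Fin m → F)) from fun h => hnz r ((Submodule.mem_bot F).1 h))
    have hs2 : act g (act g (tp a)) - act g (tp a) = act g (tp a) - tp a := by rw [← map_sub]; exact hg.sq _
    rw [he, act_tk, act_tk] at hs2
    have key : ∀ ρ : (Fin m → F) →ₗ[F] F, ∃ R : F,
        χ (act (u s) (act (u s) v)) * (ρ (act (u s') (act (u s') v')) * R) = 2 * ρ (act (u s') v') ∧
        R = ∏ r ∈ (Finset.univ.erase s).erase s', η r (act (u r) (act (u r) (a r))) := by
      intro ρ
      refine ⟨_, ?_, rfl⟩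
      let ψ := Function.update (Function.update η s' ρ) s χ
      have hR : ∀ b : S → Fin m → F, tpd ψ (tp b) =
          χ (b s) * (ρ (b s') * ∏ r ∈ (Finset.univ.erase s).erase s', η r (b r)) := fun b => by
        rw [tpd_tp, ← Finset.mul_prod_erase _ _ (Finset.mem_univ s), ← Finset.mul_prod_erase _ _
          (Finset.mem_erase.2 ⟨Ne.symm hne, Finset.mem_univ s'⟩)]
        have e1 : ψ s = χ := Function.update_self _ _ _
        have e2 : ψ s' = ρ := by simp [ψ, Ne.symm hne]
        rw [e1, e2]
        congr 2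
        refine Finset.prod_congr rfl fun r hr => ?_
        simp only [Finset.mem_erase] at hr
        simp [ψ, hr.1, hr.2.1]
      have h4 := congrArg (tpd ψ) hs2
      simp only [map_sub, hR, has, has', hχ0 v (Submodule.mem_span_singleton_self v), hχ1, zero_mul, sub_zero] at h4
      have h5 : ∏ r ∈ (Finset.univ.erase s).erase s', η r (act (u r) (a r)) = 1 :=
        Finset.prod_eq_one fun r _ => hη1 r
      rw [h5] at h4
      linear_combination h4
    obtain ⟨ρ₁, -, hρ₁⟩ := exists_dual (⊥ : Submodule F (Fin m → F)) (v := act (u s') v')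
      (fun h => hnz s' (by rw [has']; exact (Submodule.mem_bot F).1 h))
    obtain ⟨R, hR1, hR⟩ := key ρ₁
    rw [hρ₁, mul_one] at hR1
    have hmem : act (u s') (act (u s') v') ∈ Submodule.span F {act (u s') v'} := by
      by_contra hn
      obtain ⟨ρ, hρ0, hρ1⟩ := exists_dual _ hn
      obtain ⟨R', hR2, hR'⟩ := key ρ
      rw [hρ0 _ (Submodule.mem_span_singleton_self _), mul_zero, hρ1, one_mul] at hR2
      subst hR hR'
      exact h2 (by linear_combination -hR1 + ρ₁ (act (u s') (act (u s') v')) * hR2)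
    obtain ⟨c, hc⟩ := Submodule.mem_span_singleton.1 hmem
    rw [← map_smul] at hc
    have h6 := act_injective _ hc
    exact one_ne_zero (hv' (-c) 1 (by rw [neg_smul, one_smul, ← h6, neg_add_cancel])).2
  obtain ⟨s, hs⟩ : ∃ s, ∀ q, q ≠ s → ¬ NS q := by
    by_cases h : ∃ s, NS s
    · obtain ⟨s, hs⟩ := h
      exact ⟨s, fun q hq h' => hq (hone q s h' hs)⟩
    · exact ⟨Classical.arbitrary S, fun q _ h' => h ⟨q, h'⟩⟩
  choose c hc using fun q : {q // q ≠ s} => hscal q.1 (hs q.1 q.2)
  have hc0 : ∀ q, c q ≠ 0 := fun q h => by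
    have h1 := hc q (Pi.single ⟨0, by omega⟩ 1)
    rw [h, zero_smul] at h1
    have := act_injective _ (h1.trans (map_zero _).symm)
    simp at this
  let C : Fˣ := ∏ q, Units.mk0 (c q) (hc0 q)
  let A : GL (Fin m) F := Units.map (algebraMap F (Matrix (Fin m) (Fin m) F)).toMonoidHom C * u s
  have hA : ∀ v, act A v = (∏ q, c q) • act (u s) v := fun v => by
    rw [act_apply, act_apply, Units.val_mul, Units.coe_map]
    simp [C, Units.coe_prod, Algebra.algebraMap_eq_smul_one, Matrix.smul_mulVec]
  refine ⟨s, A, gl_ext_tp fun a => ?_⟩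
  rw [he, act_tk, act_rt]
  funext x
  simp only [tp_apply]
  rw [prod_split s, prod_split s, Function.update_self]
  have e1 : ∏ r : {r // r ≠ s}, Function.update a s (act A (a s)) r.1 (x r.1) = ∏ r : {r // r ≠ s}, a r.1 (x r.1) :=
    Finset.prod_congr rfl fun r _ => by rw [Function.update_of_ne r.2]
  have e2 : ∏ r : {r // r ≠ s}, act (u r.1) (a r.1) (x r.1) = (∏ r, c r) * ∏ r : {r // r ≠ s}, a r.1 (x r.1) := by
    rw [← Finset.prod_mul_distrib]
    exact Finset.prod_congr rfl fun r _ => by rw [hc, Pi.smul_apply, smul_eq_mul]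
  rw [e1, e2, hA, Pi.smul_apply, smul_eq_mul]
  ring

/-- the operator of a small element in one position is a transvection -/
theorem Small.exists_tv (hg : Small g) {s : S} {A : GL (Fin m) F} (he : g = rt s A) :
    ∃ (φ : (Fin m → F) →ₗ[F] F) (ζ : Fin m → F), ζ ≠ 0 ∧ φ ζ = 0 ∧ φ ≠ 0 ∧ ∀ v, act A v = v + φ v • ζ := by
  classical
  let N : (Fin m → F) →ₗ[F] (Fin m → F) := act A - LinearMap.id
  have hrow : ∀ z i, TP.row (toR s (act g z)) i = act A (TP.row (toR s z) i) := fun z i => by
    rw [← act_rid, he, rid_rt, TP.row_kr_one]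
  have himg : ∀ y v, toR s (act g ((toR s).symm (TP.pv y v)) - (toR s).symm (TP.pv y v)) = TP.pv y (N v) := by
    intro y v
    funext p
    obtain ⟨i, j⟩ := p
    have h := congrFun (hrow ((toR s).symm (TP.pv y v)) i) j
    rw [LinearEquiv.apply_symm_apply, TP.row_pv, map_smul] at h
    simp only [TP.row, Pi.smul_apply, smul_eq_mul] at h
    rw [map_sub, LinearEquiv.apply_symm_apply, Pi.sub_apply, h, TP.pv_apply, TP.pv_apply]
    simp [N, mul_sub]
  obtain ⟨v₀, hv₀⟩ : ∃ v, N v ≠ 0 := by
    by_contra hall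
    push Not at hall
    have hA : A = 1 := gl_ext fun v => by rw [act_one]; exact sub_eq_zero.1 (hall v)
    exact hg.ne (by rw [he, hA, map_one])
  have hline : ∀ v, ∃ t : F, t • N v₀ = N v := fun v => by
    refine TP.not_pair hv₀ fun hli => ?_
    rw [LinearIndependent.pair_iff] at hli
    let f : ((({q // q ≠ s} → Fin m) → F) × (({q // q ≠ s} → Fin m) → F)) →ₗ[F]
        (({q // q ≠ s} → Fin m) × Fin m → F) :=
      { toFun := fun p => TP.pv p.1 (N v₀) + TP.pv p.2 (N v)
        map_add' := fun p q => by simp only [Prod.fst_add, Prod.snd_add, TP.pv_add_left]; abel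
        map_smul' := fun t p => by
          simp only [Prod.smul_fst, Prod.smul_snd, TP.pv_smul_left, smul_add, RingHom.id_apply] }
    have hf : Function.Injective f := by
      rw [← LinearMap.ker_eq_bot, LinearMap.ker_eq_bot']
      rintro ⟨p, q⟩ hpq
      have h2 : ∀ i, p i = 0 ∧ q i = 0 := fun i => hli _ _ (funext fun j => congrFun hpq (i, j))
      exact Prod.ext (funext fun i => (h2 i).1) (funext fun i => (h2 i).2)
    have hle : LinearMap.range f ≤ (LinearMap.range (act g - LinearMap.id)).map (toR s).toLinearMap := by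
      rintro _ ⟨⟨p, q⟩, rfl⟩
      refine ⟨_, LinearMap.mem_range_self _ ((toR s).symm (TP.pv p v₀) + (toR s).symm (TP.pv q v)), ?_⟩
      simp only [LinearEquiv.coe_coe, LinearMap.sub_apply, LinearMap.id_apply, map_add, map_sub,
        LinearEquiv.apply_symm_apply]
      show _ = TP.pv p (N v₀) + TP.pv q (N v)
      rw [← himg p v₀, ← himg q v]
      simp only [map_sub, LinearEquiv.apply_symm_apply]
    have h1 := (Submodule.finrank_mono hle).trans
      ((Submodule.finrank_map_le (toR (F := F) (m := m) s).toLinearMap _).trans hg.rank)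
    rw [LinearMap.finrank_range_of_inj hf, Module.finrank_prod, Module.finrank_fintype_fun_eq_card, Fintype.card_fun,
      Fintype.card_fin, Fintype.card_subtype, Finset.filter_ne', Finset.card_erase_of_mem (Finset.mem_univ s),
      Finset.card_univ] at h1
    rcases Nat.eq_zero_or_pos m with hm | hm
    · subst hm
      exact hv₀ (funext fun i => i.elim0)
    have := Nat.one_le_pow (Fintype.card S - 1) m hm
    omega
  choose t ht using hline
  let φ : (Fin m → F) →ₗ[F] F :=
    { toFun := t
      map_add' := fun v v' => smul_left_injective F hv₀ (by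
        show t (v + v') • N v₀ = (t v + t v') • N v₀
        rw [add_smul, ht, ht, ht, map_add])
      map_smul' := fun a v => smul_left_injective F hv₀ (by
        show t (a • v) • N v₀ = (a • t v) • N v₀
        rw [smul_assoc, ht, ht, map_smul]) }
  have hφ : ∀ v, act A v = v + φ v • N v₀ := fun v => by
    show act A v = v + t v • N v₀
    rw [ht]
    simp [N]
  refine ⟨φ, N v₀, hv₀, ?_, fun h => hv₀ ?_, hφ⟩
  · obtain ⟨i₀⟩ : Nonempty ({q // q ≠ s} → Fin m) := by
      rcases Nat.eq_zero_or_pos m with hm | hm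
      · subst hm
        exact absurd (funext fun i => i.elim0) hv₀
      · exact ⟨fun _ => ⟨0, hm⟩⟩
    let y : ({q // q ≠ s} → Fin m) → F := Pi.single i₀ 1
    let z := (toR s).symm (TP.pv y v₀)
    have h1 := congrArg (fun w => TP.row (toR s w) i₀) (hg.sq z)
    have h2 : TP.row (toR s (act g z - z)) i₀ = N v₀ := by
      rw [himg, TP.row_pv]
      simp [y]
    simp only [hrow, h2, hφ] at h1
    simpa [hv₀] using h1
  · rw [← ht v₀]
    simp [show t v₀ = φ v₀ from rfl, h]

/-- a small element of the wreath product is a transvection in one position -/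
theorem Small.exists_slot [Finite F] (hm : ((2 : F) ≠ 0 ∧ 2 ≤ m) ∨ 5 ≤ m) (hg : Small g) (hW : g ∈ Wr S m F) :
    ∃ (s : S) (A : GL (Fin m) F) (φ : (Fin m → F) →ₗ[F] F) (ζ : Fin m → F),
      g = rt s A ∧ ζ ≠ 0 ∧ φ ζ = 0 ∧ φ ≠ 0 ∧ ∀ v, act A v = v + φ v • ζ := by
  obtain ⟨σ, u, he⟩ := exists_of_mem_wr hW
  by_cases h2 : (2 : F) = 0
  · have hm5 : 5 ≤ m := hm.resolve_left fun h => h.1 h2
    by_cases hσ : ∃ s', σ.symm s' ≠ s'
    · obtain ⟨s', hs'⟩ := hσ
      have := (hg.swap (by omega) he hs').1
      omega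
    · push Not at hσ
      have hσ1 : σ = 1 := Equiv.ext fun x => by
        have := hσ (σ x)
        rw [Equiv.symm_apply_apply] at this
        exact this.symm
      rw [hσ1, pg_one, one_mul] at he
      obtain ⟨r, hr⟩ := hg.root (by omega) he
      exact ⟨r.s, tv r.φ r.ζ, r.φ, r.ζ, hr, r.hζ, r.h0, r.hφ, act_tv r.h0⟩
  · have hm2 : 2 ≤ m := by rcases hm with h | h <;> omega
    have hσ1 := hg.perm_eq_one h2 hm2 he
    rw [hσ1, pg_one, one_mul] at he
    obtain ⟨s, A, hA⟩ := hg.one_slot h2 hm2 he
    obtain ⟨φ, ζ, h1, h3, h4, h5⟩ := hg.exists_tv hA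
    exact ⟨s, A, φ, ζ, hA, h1, h3, h4, h5⟩

end Cfsg.Agent.MaxCl.TW

namespace Cfsg.Agent.MaxCl.Pow

open Matrix
open scoped MatrixGroups Kronecker

variable {κ σ : Type} [Fintype κ] [DecidableEq κ] [Fintype σ] [DecidableEq σ] {F : Type*} [Field F]
variable {G : Matrix σ σ F}

/-- renaming the values of the positions -/
theorem glReindex_wr {k : ℕ} (e : σ ≃ Fin k) (L : κ → GL σ F) (π : Equiv.Perm κ) :
    Cfsg.Geo.glReindex (Equiv.piCongrRight fun _ : κ => e) (tenGL L * pmGL π) =
      TW.tk (fun i => Cfsg.Geo.glReindex e (L i)) * TW.pg π := by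
  rw [map_mul]
  congr 1
  refine Units.ext (Matrix.ext fun x y => ?_)
  show (if (fun i => e.symm (y i)) = (fun i => e.symm (x i)) ∘ π then (1 : F) else 0) =
    if y = x ∘ π then 1 else 0
  refine if_congr ?_ rfl rfl
  constructor
  · intro h
    funext i
    exact e.symm.injective (congrFun h i)
  · rintro rfl
    rfl

/-- the middle factor of an isometry in one position is an isometry -/
theorem slot_mem_iso [Nonempty σ] (hG : IsForm G) {i : κ} {A : GL σ F}
    (h : slot i A ∈ iso (ten fun _ : κ => G)) : A ∈ iso G := by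
  rw [mem_iso, slot, tenGL_val, ten_transpose, ← map_mul, ← map_mul, ten_eq_splM i, ten_eq_splM i (fun _ => G)] at h
  have h' := (splM F σ i).injective h
  have e1 : ((fun j => ((put i A (1 : oth i → GL σ F) j : GL σ F) : Matrix σ σ F)ᵀ) * (fun _ : κ => G) *
      fun j => ((put i A (1 : oth i → GL σ F) j : GL σ F) : Matrix σ σ F)) i =
      (A : Matrix σ σ F)ᵀ * G * (A : Matrix σ σ F) := by
    simp
  have e2 : (fun j : oth i => ((fun j => ((put i A (1 : oth i → GL σ F) j : GL σ F) : Matrix σ σ F)ᵀ) *
      (fun _ : κ => G) * fun j => ((put i A (1 : oth i → GL σ F) j : GL σ F) : Matrix σ σ F)) j) =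
      fun _ : oth i => G := by
    funext j
    simp
  rw [e1, e2] at h'
  have hne : ten (fun _ : oth i => G) ≠ 0 := ten_ne_zero fun _ h0 => by
    have := hG.det
    rw [h0, Matrix.det_zero] at this
    exact not_isUnit_zero this
  exact mem_iso.2 (kron_injective_left hne h')

/-- **a small element of the wreath group preserving the power of an alternating form is a root element in one
position** -/
theorem eq_slot_rt [Fintype F] (hG : Alt G)
    (hk : ((2 : F) ≠ 0 ∧ 2 ≤ Fintype.card σ) ∨ 5 ≤ Fintype.card σ) {h : GL (κ → σ) F} (hW : h ∈ Wr F κ σ)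
    (hI : h ∈ iso (ten fun _ : κ => G))
    (hsq : ((h : Matrix (κ → σ) (κ → σ) F) - 1) * ((h : Matrix (κ → σ) (κ → σ) F) - 1) = 0)
    (hrk : ((h : Matrix (κ → σ) (κ → σ) F) - 1).rank = Fintype.card σ ^ (Fintype.card κ - 1)) :
    ∃ i w c, w ≠ 0 ∧ c ≠ 0 ∧ h = slot i (rt hG w c) := by
  classical
  set k := Fintype.card σ with hkdef
  have hk2 : 2 ≤ k := by rcases hk with h | h <;> omega
  haveI : Nonempty σ := Fintype.card_pos_iff.1 (by omega)
  let e : σ ≃ Fin k := Fintype.equivFin σ
  let E : (κ → σ) ≃ (κ → Fin k) := Equiv.piCongrRight fun _ : κ => e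
  let g := Cfsg.Geo.glReindex (F := F) E h
  have hgv : (g : Matrix (κ → Fin k) (κ → Fin k) F) = Matrix.reindexAlgEquiv F F E (h : Matrix (κ → σ) (κ → σ) F) := rfl
  have hgW : g ∈ TW.Wr κ k F := by
    obtain ⟨L, π, rfl⟩ := hW
    show Cfsg.Geo.glReindex E _ ∈ _
    rw [glReindex_wr]
    exact mul_mem (TW.tk_mem _) (TW.pg_mem _)
  have hg1 : act g - LinearMap.id = Matrix.mulVecLin (Matrix.reindexAlgEquiv F F E ((h : Matrix (κ → σ) (κ → σ) F) - 1)) := by
    refine LinearMap.ext fun z => ?_
    rw [LinearMap.sub_apply, LinearMap.id_apply, act_apply, Matrix.mulVecLin_apply, map_sub, map_one,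
      Matrix.sub_mulVec, Matrix.one_mulVec, hgv]
  have hS : TW.Small g := by
    refine ⟨?_, fun z => ?_, fun h1 => ?_⟩
    · rw [hg1]
      show (Matrix.reindexAlgEquiv F F E ((h : Matrix (κ → σ) (κ → σ) F) - 1)).rank ≤ _
      rw [Matrix.coe_reindexAlgEquiv, Matrix.rank_reindex, hrk]
    · have h1 := congrArg (Matrix.reindexAlgEquiv F F E) hsq
      rw [map_mul, map_zero] at h1
      have h2 := congrArg (fun M : Matrix (κ → Fin k) (κ → Fin k) F => M *ᵥ z) h1
      have hd : ∀ w, Matrix.reindexAlgEquiv F F E ((h : Matrix (κ → σ) (κ → σ) F) - 1) *ᵥ w = act g w - w := fun w => by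
        rw [act_apply, map_sub, map_one, Matrix.sub_mulVec, Matrix.one_mulVec, hgv]
      simp only [← Matrix.mulVec_mulVec, hd, Matrix.zero_mulVec] at h2
      exact sub_eq_zero.1 h2
    · have h2 : h = 1 := (Cfsg.Geo.glReindex (F := F) E).injective (h1.trans (map_one _).symm)
      rw [h2, Units.val_one, sub_self, Matrix.rank_zero] at hrk
      exact (pow_pos (show 0 < k by omega) _).ne hrk
  obtain ⟨i, A', φ, ζ, hgA, hζ, hφζ, hφ, hA'⟩ := hS.exists_slot hk hgW
  let A : GL σ F := (Cfsg.Geo.glReindex e).symm A'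
  have hhA : h = slot i A := by
    refine (Cfsg.Geo.glReindex (F := F) E).injective ?_
    show g = _
    rw [hgA, slot, ← mul_one (tenGL _), ← map_one (pmGL (κ := κ) (σ := σ) (F := F)), glReindex_wr, TW.pg_one,
      mul_one, TW.rt_eq]
    congr 1
    funext j
    by_cases hj : j = i
    · subst hj
      simp [A]
    · simp [put, hj]
  have hAiso : A ∈ iso G := slot_mem_iso hG.isForm (hhA ▸ hI)
  let φ' : (σ → F) →ₗ[F] F := φ ∘ₗ (LinearEquiv.funCongrLeft F F e.symm).toLinearMap
  let ζ' : σ → F := ζ ∘ e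
  have hA : ∀ v, (A : Matrix σ σ F) *ᵥ v = v + φ' v • ζ' := fun v => by
    have h1 := hA' (v ∘ e.symm)
    rw [act_apply] at h1
    have hAv : (A' : Matrix (Fin k) (Fin k) F) = (A : Matrix σ σ F).submatrix e.symm e.symm := by
      conv_lhs => rw [← (Cfsg.Geo.glReindex (F := F) e).apply_symm_apply A']
      rfl
    rw [hAv, Matrix.submatrix_mulVec_equiv, Equiv.symm_symm, Function.comp_assoc, Equiv.symm_comp_self,
      Function.comp_id] at h1
    funext x
    have h2 := congrFun h1 (e x)
    simpa [φ', ζ', LinearEquiv.funCongrLeft_apply, LinearMap.funLeft, Function.comp_def] using h2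
  have hζ' : ζ' ≠ 0 := fun h0 => hζ (funext fun j => by
    simpa [ζ'] using congrFun h0 (e.symm j))
  have hφζ' : φ' ζ' = 0 := by
    show φ ((ζ ∘ e) ∘ e.symm) = 0
    rwa [Function.comp_assoc, Equiv.self_comp_symm, Function.comp_id]
  obtain ⟨v₁, hv₁⟩ := TW.exists_dual_one hφ
  let v₀ : σ → F := v₁ ∘ e
  have hv₀ : φ' v₀ = 1 := by
    show φ ((v₁ ∘ e) ∘ e.symm) = 1
    rwa [Function.comp_assoc, Equiv.self_comp_symm, Function.comp_id]
  -- the isometry condition
  have hrel : ∀ x, φ' x * fm G v₀ ζ' = fm G x ζ' := fun x => by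
    have h1 := mem_iso_fm.1 hAiso v₀ x
    rw [hA, hA, hv₀] at h1
    simp only [fm_add_left, fm_add_right, fm_smul_left, fm_smul_right, hG.self, mul_zero, add_zero, one_mul,
      hG.fm_swap x ζ'] at h1
    linear_combination h1
  have hb : fm G v₀ ζ' ≠ 0 := fun h0 => by
    obtain ⟨x, hx⟩ := fm_nondeg hG.isForm hζ'
    exact hx (by rw [← hrel, h0, mul_zero])
  refine ⟨i, ζ', (fm G v₀ ζ')⁻¹, hζ', inv_ne_zero hb, ?_⟩
  rw [hhA]
  congr 1
  refine gl_ext fun x => ?_
  rw [act_apply, act_apply, hA, rt_mulVec, ← hrel x]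
  congr 2
  field_simp

end Cfsg.Agent.MaxCl.Pow
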