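/-
One factor of a tensor power of a symplectic space: moves fixing a vector, the three types of factors of monomials,
and the products of two factors of the same type.
-/
import Cfsg.Agent.Lib.MaxCl.PowerSlice

set_option autoImplicit false
set_option linter.unusedSectionVars false
set_option linter.style.haveILetI false

namespace Cfsg.Agent.MaxCl.Pow

open Matrix
open scoped MatrixGroups

variable {σ : Type} [Fintype σ] [DecidableEq σ] {F : Type*} [Field F] {G : Matrix σ σ F}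

theorem notMem_span_symm {a b : σ → F} (hb : b ≠ 0) (h : a ∉ Submodule.span F {b}) :
    b ∉ Submodule.span F {a} := fun hm => by
  obtain ⟨c, hc⟩ := Submodule.mem_span_singleton.1 hm
  have hc0 : c ≠ 0 := fun h0 => hb (by rw [← hc, h0, zero_smul])
  exact h (Submodule.mem_span_singleton.2 ⟨c⁻¹, by rw [← hc, inv_smul_smul₀ hc0]⟩)

theorem notMem_span_of_fm {a x : σ → F} {z : σ → F} (ha : fm G a z = 0) (hx : fm G x z ≠ 0) :
    x ∉ Submodule.span F {a} := fun hm => by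
  obtain ⟨c, rfl⟩ := Submodule.mem_span_singleton.1 hm
  rw [fm_smul_left, ha, mul_zero] at hx
  exact hx rfl

variable (hG : Alt G)
include hG

theorem notMem_span_of_pair {a f : σ → F} (hf : fm G a f ≠ 0) : f ∉ Submodule.span F {a} :=
  notMem_span_of_fm (hG.self a) (by rw [hG.fm_swap a f]; exact neg_ne_zero.2 hf)

omit hG in
theorem notMem_span_zero {a : σ → F} {w : σ → F} (h : a ∉ Submodule.span F {w}) : a ≠ 0 :=
  fun h0 => h (h0 ▸ Submodule.zero_mem _)

/-- isometries fixing `a` are transitive on the vectors orthogonal to `a` and independent of it -/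
theorem exists_trans_perp {a x y : σ → F} (hx : fm G x a = 0) (hxs : x ∉ Submodule.span F {a})
    (hy : fm G y a = 0) (hys : y ∉ Submodule.span F {a}) :
    ∃ g ∈ iso G, (g : Matrix σ σ F) *ᵥ a = a ∧ (g : Matrix σ σ F) *ᵥ x = y := by
  have step : ∀ u v, fm G u a = 0 → fm G v a = 0 → fm G u v ≠ 0 →
      ∃ g ∈ iso G, (g : Matrix σ σ F) *ᵥ a = a ∧ (g : Matrix σ σ F) *ᵥ u = v := fun u v hu hv huv => by
    refine ⟨rt hG (v - u) (fm G u v)⁻¹, rt_mem_iso hG _ _, ?_, ?_⟩
    · rw [rt_mulVec, fm_sub_right, hG.fm_swap v a, hG.fm_swap u a, hu, hv, sub_self, mul_zero, zero_smul, add_zero]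
    · rw [rt_mulVec, fm_sub_right, hG.self, sub_zero, inv_mul_cancel₀ huv, one_smul, add_sub_cancel]
  obtain ⟨z₁, a1, x1⟩ := exists_perp_dual hG hxs
  obtain ⟨z₂, a2, y2⟩ := exists_perp_dual hG hys
  obtain ⟨z, hz, hxz, hyz⟩ : ∃ z, fm G a z = 0 ∧ fm G x z ≠ 0 ∧ fm G y z ≠ 0 := by
    by_cases h1 : fm G y z₁ = 0
    · by_cases h2 : fm G x z₂ = 0
      · refine ⟨z₁ + z₂, by rw [fm_add_right, a1, a2, add_zero], ?_, ?_⟩
        · rw [fm_add_right, x1, h2, add_zero]; exact one_ne_zero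
        · rw [fm_add_right, y2, h1, zero_add]; exact one_ne_zero
      · exact ⟨z₂, a2, h2, by rw [y2]; exact one_ne_zero⟩
    · exact ⟨z₁, a1, by rw [x1]; exact one_ne_zero, h1⟩
  have hza : fm G z a = 0 := by rw [hG.fm_swap a z, hz, neg_zero]
  obtain ⟨g, hg, ga, gx⟩ := step x z hx hza hxz
  obtain ⟨g', hg', ga', gz⟩ := step z y hza hy (by rw [hG.fm_swap y z]; exact neg_ne_zero.2 hyz)
  exact ⟨g' * g, mul_mem hg' hg, by rw [Units.val_mul, ← mulVec_mulVec, ga, ga'],
    by rw [Units.val_mul, ← mulVec_mulVec, gx, gz]⟩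

/-- isometries are transitive on orthogonal independent pairs -/
theorem exists_trans_pair {a b a' b' : σ → F} (h : fm G a b = 0) (hs : a ∉ Submodule.span F {b}) (hb : b ≠ 0)
    (h' : fm G a' b' = 0) (hs' : a' ∉ Submodule.span F {b'}) (hb' : b' ≠ 0) :
    ∃ g ∈ iso G, (g : Matrix σ σ F) *ᵥ a = a' ∧ (g : Matrix σ σ F) *ᵥ b = b' := by
  obtain ⟨g, hg, gb⟩ := exists_trans hG hb hb'
  have h1 : fm G ((g : Matrix σ σ F) *ᵥ a) b' = 0 := by rw [← gb, mem_iso_fm.1 hg, h]
  have h2 : (g : Matrix σ σ F) *ᵥ a ∉ Submodule.span F {b'} := fun hm => by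
    obtain ⟨c, hc⟩ := Submodule.mem_span_singleton.1 hm
    rw [← gb, ← mulVec_smul] at hc
    have h3 := congrArg (((g⁻¹ : GL σ F) : Matrix σ σ F) *ᵥ ·) hc
    simp only [mulVec_mulVec, ← Units.val_mul, inv_mul_cancel, Units.val_one, one_mulVec] at h3
    exact hs (Submodule.mem_span_singleton.2 ⟨c, h3⟩)
  obtain ⟨g', hg', gb', ga'⟩ := exists_trans_perp hG h1 h2 h' hs'
  exact ⟨g' * g, mul_mem hg' hg, by rw [Units.val_mul, ← mulVec_mulVec, ga'],
    by rw [Units.val_mul, ← mulVec_mulVec, gb, gb']⟩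

/-- isometries fixing `a` are transitive on the vectors with product one with `a` -/
theorem exists_trans_dual {a f v : σ → F} (hf : fm G a f = 1) (hv : fm G a v = 1) :
    ∃ g ∈ iso G, (g : Matrix σ σ F) *ᵥ a = a ∧ (g : Matrix σ σ F) *ᵥ f = v := by
  by_cases hfv : fm G f v = 0
  · have h1 : fm G a (f - v) = 0 := by rw [fm_sub_right, hf, hv, sub_self]
    refine ⟨sie hG a (f - v), sie_mem_iso hG _ _, ?_, ?_⟩
    · rw [sie_mulVec hG h1, h1, hG.self, zero_smul, zero_smul, add_zero, add_zero]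
    · rw [sie_mulVec hG h1, fm_sub_right, hG.self, hfv, hG.fm_swap a f, hf]
      module
  · refine ⟨rt hG (v - f) (fm G f v)⁻¹, rt_mem_iso hG _ _, ?_, ?_⟩
    · rw [rt_mulVec, fm_sub_right, hv, hf, sub_self, mul_zero, zero_smul, add_zero]
    · rw [rt_mulVec, fm_sub_right, hG.self, sub_zero, inv_mul_cancel₀ hfv, one_smul, add_sub_cancel]

theorem two_le_card {e f : σ → F} (hef : fm G e f = 1) : 2 ≤ Fintype.card σ := by
  have he : e ≠ 0 := fun h => by rw [h, fm_zero_left] at hef; exact zero_ne_one hef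
  have hind : LinearIndependent F ![e, f] := (LinearIndependent.pair_iff' he).2 fun c hc =>
    notMem_span_of_pair hG (by rw [hef]; exact one_ne_zero) (Submodule.mem_span_singleton.2 ⟨c, hc⟩)
  simpa using hind.fintype_card_le_finrank

/-- in dimension two a hyperbolic pair gives the identity -/
theorem Lam_eq_one (h2 : Fintype.card σ ≤ 2) {e f : σ → F} (hef : fm G e f = 1) : Lam G e f = 1 := by
  have he : e ≠ 0 := fun h => by rw [h, fm_zero_left] at hef; exact zero_ne_one hef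
  have hind : LinearIndependent F ![e, f] := (LinearIndependent.pair_iff' he).2 fun c hc =>
    notMem_span_of_pair hG (by rw [hef]; exact one_ne_zero) (Submodule.mem_span_singleton.2 ⟨c, hc⟩)
  have h2' := two_le_card hG hef
  have hfe : fm G f e = -1 := by rw [hG.fm_swap e f, hef]
  refine Matrix.toLin'.injective ((basisOfLinearIndependentOfCardEqFinrank hind (by
    rw [Module.finrank_fintype_fun_eq_card, Fintype.card_fin]; omega)).ext fun i => ?_)
  simp only [coe_basisOfLinearIndependentOfCardEqFinrank, Matrix.toLin'_apply, one_mulVec, Lam_mulVec]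
  fin_cases i
  · simp [hG.self, hef]
  · simp [hG.self, hfe]

/-- five or more dimensions: a vector orthogonal to three and independent of one of them -/
theorem exists_perp_three (h5 : 5 ≤ Fintype.card σ) (u v w : σ → F) :
    ∃ z, fm G z u = 0 ∧ fm G z v = 0 ∧ fm G z w = 0 ∧ z ∉ Submodule.span F {u} := by
  let φ : (σ → F) →ₗ[F] (F × F) × F := ((fmL G u).prod (fmL G v)).prod (fmL G w)
  obtain ⟨z, hz, hzu⟩ : ∃ z ∈ LinearMap.ker φ, z ∉ Submodule.span F {u} := by
    by_contra! hc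
    have h1 := Submodule.finrank_mono (fun z hz => hc z hz : LinearMap.ker φ ≤ Submodule.span F {u})
    have h2 := LinearMap.finrank_range_add_finrank_ker φ
    have h3 := Submodule.finrank_le (LinearMap.range φ)
    have h4 : Module.finrank F (Submodule.span F {u}) ≤ 1 := by
      rcases eq_or_ne u 0 with rfl | hu
      · rw [Submodule.span_singleton_eq_bot.2 rfl, finrank_bot]; exact Nat.zero_le 1
      · rw [finrank_span_singleton hu]
    rw [Module.finrank_fintype_fun_eq_card] at h2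
    simp only [Module.finrank_prod, Module.finrank_self] at h3
    omega
  have := LinearMap.mem_ker.1 hz
  exact ⟨z, congrArg (fun p => p.1.1) this, congrArg (fun p => p.1.2) this, congrArg Prod.snd this, hzu⟩

theorem conj_Lam {g : GL σ F} (hg : g ∈ iso G) (a b : σ → F) :
    (g : Matrix σ σ F) * Lam G a b * ((g⁻¹ : GL σ F) : Matrix σ σ F) =
      Lam G ((g : Matrix σ σ F) *ᵥ a) ((g : Matrix σ σ F) *ᵥ b) := by
  rw [Lam, mul_sub, sub_mul, hG.conj_K hg, hG.conj_K hg, Lam]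

/-! ### types of factors -/

omit hG in
/-- the types of the factors of a monomial -/
inductive Ty
  | o
  | k
  | l
deriving DecidableEq

omit hG in
/-- a factor of the given type -/
def IsTy (G : Matrix σ σ F) : Ty → Matrix σ σ F → Prop
  | .o, X => X = 1
  | .k, X => ∃ w, w ≠ 0 ∧ X = K G w w
  | .l, X => ∃ a w, fm G a w = 0 ∧ a ∉ Submodule.span F {w} ∧ w ≠ 0 ∧ X = Lam G a w

theorem IsTy.sq {τ : Ty} {X : Matrix σ σ F} (h : IsTy G τ X) (hτ : τ ≠ .o) : X * X = 0 := by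
  cases τ with
  | o => exact absurd rfl hτ
  | k => obtain ⟨w, -, rfl⟩ := h; exact hG.K_sq w
  | l => obtain ⟨a, w, h, -, -, rfl⟩ := h; exact Lam_sq hG h

theorem IsTy.conj {τ : Ty} {X Y : Matrix σ σ F} (hX : IsTy G τ X) (hY : IsTy G τ Y) :
    ∃ g ∈ iso G, (g : Matrix σ σ F) * X * ((g⁻¹ : GL σ F) : Matrix σ σ F) = Y := by
  cases τ with
  | o => exact ⟨1, one_mem _, by rw [hX, hY]; simp⟩
  | k =>
    obtain ⟨u, hu, rfl⟩ := hX
    obtain ⟨v, hv, rfl⟩ := hY
    obtain ⟨g, hg, gu⟩ := exists_trans hG hu hv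
    exact ⟨g, hg, by rw [hG.conj_K hg, gu]⟩
  | l =>
    obtain ⟨a, b, h, hs, hb, rfl⟩ := hX
    obtain ⟨a', b', h', hs', hb', rfl⟩ := hY
    obtain ⟨g, hg, ga, gb⟩ := exists_trans_pair hG h hs hb h' hs' hb'
    exact ⟨g, hg, by rw [conj_Lam hG hg, ga, gb]⟩

theorem IsTy.ne_zero [Nonempty σ] {τ : Ty} {X : Matrix σ σ F} (h : IsTy G τ X) : X ≠ 0 := by
  refine Fac.ne_zero hG ?_
  cases τ with
  | o => exact Or.inl h
  | k => exact Or.inr (Or.inl h)
  | l => exact Or.inr (Or.inr h)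

theorem exists_isTy_k [Nonempty σ] : ∃ X, IsTy G .k X :=
  ⟨_, fun _ => 1, Function.ne_iff.2 ⟨Classical.arbitrary σ, one_ne_zero⟩, rfl⟩

theorem exists_isTy_l (h3 : 3 ≤ Fintype.card σ) : ∃ X, IsTy G .l X := by
  haveI : Nonempty σ := Fintype.card_pos_iff.1 (by omega)
  have h1 : (fun _ => 1 : σ → F) ≠ 0 := Function.ne_iff.2 ⟨Classical.arbitrary σ, one_ne_zero⟩
  obtain ⟨b, hb, hbs⟩ := exists_perp_indep hG h3 _ h1
  exact ⟨_, b, _, hb, hbs, h1, rfl⟩

theorem three_le_of_l {X : Matrix σ σ F} (h : IsTy G .l X) : 3 ≤ Fintype.card σ := by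
  obtain ⟨a, w, haw, hs, hw, rfl⟩ := h
  by_contra hk
  obtain ⟨f, hf⟩ := exists_partner hG hw
  refine hs (Submodule.mem_span_singleton.2 ⟨fm G a f, ?_⟩)
  have h1 := congrArg (· *ᵥ a) (Lam_eq_one hG (by omega) hf)
  simp only [Lam_mulVec, one_mulVec, haw, zero_smul, sub_zero] at h1
  exact h1

/-! ### products of two factors -/

omit hG in
/-- `P, Q` become `Z, s • Z`, either as they stand or by conjugation minus identity -/
def Shift (G : Matrix σ σ F) (P Q Z : Matrix σ σ F) (s : F) : Prop :=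
  (P = Z ∧ Q = s • Z) ∨ ∃ g ∈ iso G, (g : Matrix σ σ F) * P * ((g⁻¹ : GL σ F) : Matrix σ σ F) - P = Z ∧
    (g : Matrix σ σ F) * Q * ((g⁻¹ : GL σ F) : Matrix σ σ F) - Q = s • Z

theorem exists_kk [Nonempty σ] :
    ∃ X Y Z, IsTy G .k X ∧ IsTy G .k Y ∧ IsTy G .k Z ∧ Shift G (X * Y) (Y * X) Z (-1) := by
  have ha : (fun _ => 1 : σ → F) ≠ 0 := Function.ne_iff.2 ⟨Classical.arbitrary σ, one_ne_zero⟩
  obtain ⟨f, hf⟩ := exists_partner hG ha
  set a : σ → F := fun _ => 1
  have hfa : fm G f a = -1 := by rw [hG.fm_swap a f, hf]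
  have hc : fm G (-f) a = 1 := by rw [fm_neg_left, hfa, neg_neg]
  have hac : fm G a (-f) = -1 := by rw [fm_neg_right, hf]
  have hc0 : (-f : σ → F) ≠ 0 := fun h => by rw [h, fm_zero_left] at hc; exact zero_ne_one hc
  obtain ⟨g, hg, ga, gc⟩ := exists_shift hG (c := -f) (a := a)
    (notMem_span_of_pair hG (by rw [hac]; exact neg_ne_zero.2 one_ne_zero))
  refine ⟨K G a a, K G (-f) (-f), K G a a, ⟨a, ha, rfl⟩, ⟨-f, hc0, rfl⟩, ⟨a, ha, rfl⟩, Or.inr ⟨g, hg, ?_, ?_⟩⟩
  · rw [K_mul_K, hc, one_smul, hG.conj_K hg, ga, gc, K_add_right]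
    abel
  · rw [K_mul_K, hac, neg_one_smul, Matrix.mul_neg, Matrix.neg_mul, hG.conj_K hg, ga, gc, K_add_left, neg_one_smul]
    abel

/-- the sum of the two products of two root maps gives a factor of type `l` -/
theorem exists_kk_open (h3 : 3 ≤ Fintype.card σ) :
    ∃ X Y, IsTy G .k X ∧ IsTy G .k Y ∧ ∃ g ∈ iso G, IsTy G .l
      ((g : Matrix σ σ F) * (X * Y + Y * X) * ((g⁻¹ : GL σ F) : Matrix σ σ F) - (X * Y + Y * X)) := by
  haveI : Nonempty σ := Fintype.card_pos_iff.1 (by omega)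
  have ha : (fun _ => 1 : σ → F) ≠ 0 := Function.ne_iff.2 ⟨Classical.arbitrary σ, one_ne_zero⟩
  obtain ⟨f, hf⟩ := exists_partner hG ha
  set a : σ → F := fun _ => 1
  have hfa : fm G f a = -1 := by rw [hG.fm_swap a f, hf]
  have hc : fm G (-f) a = 1 := by rw [fm_neg_left, hfa, neg_neg]
  have hac : fm G a (-f) = -1 := by rw [fm_neg_right, hf]
  have hc0 : (-f : σ → F) ≠ 0 := fun h => by rw [h, fm_zero_left] at hc; exact zero_ne_one hc
  obtain ⟨z, hz, hza, hzf⟩ := exists_perp_pair hG h3 a f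
  have haz : fm G a z = 0 := by rw [hG.fm_swap z a, hza, neg_zero]
  have hfz : fm G (-f) z = 0 := by rw [fm_neg_left, hG.fm_swap z f, hzf]; ring
  refine ⟨K G a a, K G (-f) (-f), ⟨a, ha, rfl⟩, ⟨-f, hc0, rfl⟩, sie hG a z, sie_mem_iso hG _ _,
    a, z, haz, notMem_span_of_fm hzf (by rw [hf]; exact one_ne_zero), hz, ?_⟩
  have ga : (sie hG a z : Matrix σ σ F) *ᵥ a = a := by
    rw [sie_mulVec hG haz, haz, hG.self, zero_smul, zero_smul, add_zero, add_zero]
  have gc : (sie hG a z : Matrix σ σ F) *ᵥ (-f) = -f + z := by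
    rw [sie_mulVec hG haz, hfz, hc, zero_smul, one_smul, add_zero]
  rw [K_mul_K, K_mul_K, hc, hac, one_smul, neg_one_smul, mul_add, add_mul, Matrix.mul_neg, Matrix.neg_mul,
    hG.conj_K (sie_mem_iso hG a z), hG.conj_K (sie_mem_iso hG a z), ga, gc, K_add_right, K_add_left, Lam]
  abel

theorem exists_ll (h3 : 3 ≤ Fintype.card σ) :
    ∃ X Y Z, IsTy G .l X ∧ IsTy G .l Y ∧ IsTy G .k Z ∧ X * Y = Z ∧ Y * X = -Z ∧ X * Y * X = 0 ∧ Y * X * Y = 0 := by
  obtain ⟨X, a, b, hab, hs, hb, rfl⟩ := exists_isTy_l hG h3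
  have ha : a ≠ 0 := notMem_span_zero hs
  have hba : fm G b a = 0 := by rw [hG.fm_swap a b, hab, neg_zero]
  obtain ⟨z, haz, hbz⟩ := exists_perp_dual hG (notMem_span_symm hb hs)
  have hzb : fm G z b = -1 := by rw [hG.fm_swap b z, hbz]
  have hza : fm G z a = 0 := by rw [hG.fm_swap a z, haz, neg_zero]
  have hXY : Lam G a b * Lam G (-z) a = K G a a := by
    simp only [Lam, mul_sub, sub_mul, K_mul_K, fm_neg_left, hzb, hza, hab, hG.self, neg_zero, zero_smul, neg_neg,
      one_smul, sub_zero]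
  have hYX : Lam G (-z) a * Lam G a b = -K G a a := by
    simp only [Lam, mul_sub, sub_mul, K_mul_K, fm_neg_right, haz, hbz, hba, hG.self, neg_zero, zero_smul,
      neg_smul, one_smul, sub_zero, zero_sub, sub_neg_eq_add, zero_add]
  refine ⟨_, _, _, ⟨a, b, hab, hs, hb, rfl⟩, ⟨-z, a, by rw [fm_neg_left, hza, neg_zero],
    notMem_span_of_fm hab (by rw [fm_neg_left, hzb, neg_neg]; exact one_ne_zero), ha, rfl⟩, ⟨a, ha, rfl⟩,
    hXY, hYX, ?_, ?_⟩
  · rw [hXY]
    simp [Lam, mul_sub, K_mul_K, hG.self, hba]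
  · rw [hYX]
    simp [Lam, mul_sub, K_mul_K, hG.self, fm_neg_left, hza]

theorem exists_ll_open (h5 : 5 ≤ Fintype.card σ) :
    ∃ X Y, IsTy G .l X ∧ IsTy G .l Y ∧ IsTy G .l (X * Y + Y * X) ∧ X * Y * X = 0 ∧ Y * X * Y = 0 := by
  obtain ⟨X, a, b, hab, hs, hb, rfl⟩ := exists_isTy_l hG (by omega)
  have ha : a ≠ 0 := notMem_span_zero hs
  have hba : fm G b a = 0 := by rw [hG.fm_swap a b, hab, neg_zero]
  obtain ⟨z, haz, hbz⟩ := exists_perp_dual hG (notMem_span_symm hb hs)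
  have hzb : fm G z b = -1 := by rw [hG.fm_swap b z, hbz]
  have hza : fm G z a = 0 := by rw [hG.fm_swap a z, haz, neg_zero]
  obtain ⟨w, hwa, hwb, hwz, hws⟩ := exists_perp_three hG h5 a b z
  have haw : fm G a w = 0 := by rw [hG.fm_swap w a, hwa, neg_zero]
  have hbw : fm G b w = 0 := by rw [hG.fm_swap w b, hwb, neg_zero]
  have hw : w ≠ 0 := notMem_span_zero hws
  have hXY : Lam G a b * Lam G (-z) w = K G a w := by
    simp only [Lam, mul_sub, sub_mul, K_mul_K, fm_neg_left, hzb, hza, hwa, hwb, neg_zero, zero_smul, neg_neg,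
      one_smul, sub_zero]
  have hYX : Lam G (-z) w * Lam G a b = -K G w a := by
    simp only [Lam, mul_sub, sub_mul, K_mul_K, fm_neg_right, haz, hbz, haw, hbw, neg_zero, zero_smul,
      neg_smul, one_smul, sub_zero, zero_sub, sub_neg_eq_add, zero_add]
  refine ⟨_, _, ⟨a, b, hab, hs, hb, rfl⟩, ⟨-z, w, by rw [fm_neg_left, hG.fm_swap w z, hwz]; ring,
    notMem_span_of_fm hwb (by rw [fm_neg_left, hzb, neg_neg]; exact one_ne_zero), hw, rfl⟩, ?_, ?_, ?_⟩
  · refine ⟨a, w, haw, notMem_span_symm ha hws, hw, ?_⟩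
    rw [hXY, hYX, Lam, sub_eq_add_neg]
  · rw [hXY]
    simp [Lam, mul_sub, K_mul_K, haw, hbw]
  · rw [hYX]
    simp [Lam, mul_sub, K_mul_K, fm_neg_left, hza, hwa]

end Cfsg.Agent.MaxCl.Pow
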