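/-
Tensor powers of a symplectic space: the matrices standing next to a root map of one position in an overgroup form a
space closed under the Jordan product of suitable members; monomials in such a space.
-/
import Cfsg.Agent.Lib.MaxCl.PowerFactor
import Cfsg.Agent.Lib.MaxCl.PowerTS

set_option autoImplicit false
set_option linter.unusedSectionVars false
set_option linter.style.haveILetI false

namespace Cfsg.Agent.MaxCl.Pow

open Matrix
open scoped MatrixGroups Kronecker

variable {σ : Type} [Fintype σ] [DecidableEq σ] {F : Type*} [Field F] {G : Matrix σ σ F}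

/-! ### unipotent members -/

section Unipotent

variable {ι : Type} [Fintype ι] [DecidableEq ι] {M : Subgroup (GL ι F)}

theorem mem_neg {D : Matrix ι ι F} (hD : D * D = 0) (h : Mem M (1 + D)) : Mem M (1 + -D) := by
  obtain ⟨g, hg, hgv⟩ := h
  refine ⟨g⁻¹, inv_mem hg, ?_⟩
  rw [Matrix.coe_units_inv, hgv]
  refine Matrix.inv_eq_left_inv ?_
  simp only [add_mul, mul_add, Matrix.one_mul, Matrix.mul_one, Matrix.neg_mul, hD]
  abel

theorem mem_sub_of {B B' : Matrix ι ι F} (hB : B * B = 0) (hBB : B' * B = 0) (h : Mem M (1 + B))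
    (h' : Mem M (1 + B')) : Mem M (1 + (B' - B)) := by
  have := h'.mul (mem_neg hB h)
  simp only [add_mul, mul_add, Matrix.one_mul, Matrix.mul_one, Matrix.mul_neg, hBB, neg_zero, add_zero] at this
  rwa [sub_eq_add_neg, ← add_assoc]

/-- the commutator of two unipotent members -/
theorem mem_comm {D D' : Matrix ι ι F} (hD : D * D = 0) (hD' : D' * D' = 0) (h1 : D * D' * D = 0)
    (h2 : D' * D * D' = 0) (h : Mem M (1 + D)) (h' : Mem M (1 + D')) : Mem M (1 + (D * D' - D' * D)) := by
  have := ((h.mul h').mul (mem_neg hD h)).mul (mem_neg hD' h')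
  have e1 : (1 + D) * (1 + D') * (1 + -D) = 1 + D' + (D * D' - D' * D) := by
    simp only [add_mul, mul_add, Matrix.one_mul, Matrix.mul_one, Matrix.mul_neg, hD, h1]
    abel
  have h3 : D * D' * D' = 0 := by rw [Matrix.mul_assoc, hD', Matrix.mul_zero]
  rw [e1] at this
  convert this using 1
  simp only [add_mul, mul_add, Matrix.one_mul, Matrix.mul_one, Matrix.mul_neg, sub_mul, h2, h3, hD']
  abel

end Unipotent

/-! ### the space next to a root map -/

section Split

variable {β : Type} [Fintype β] [DecidableEq β] {N : Subgroup (GL (σ × β) F)}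
variable (hG : Alt G) (hsp : ∀ g ∈ iso G, kr (g, (1 : GL β F)) ∈ N)
include hG hsp

omit hG in
theorem mem_conj_kr {g : GL σ F} (hg : g ∈ iso G) {B : Matrix (σ × β) (σ × β) F} (h : Mem N (1 + B)) :
    Mem N (1 + ((g : Matrix σ σ F) ⊗ₖ 1) * B * (((g⁻¹ : GL σ F) : Matrix σ σ F) ⊗ₖ 1)) := by
  obtain ⟨n, hn, hnv⟩ := h
  refine ⟨kr (g, 1) * n * (kr (g, 1))⁻¹, mul_mem (mul_mem (hsp g hg) hn) (inv_mem (hsp g hg)), ?_⟩
  rw [← map_inv, Prod.inv_mk, inv_one, Units.val_mul, Units.val_mul, hnv, kr_val, kr_val, Units.val_one, mul_add,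
    add_mul, Matrix.mul_one, ← Matrix.mul_kronecker_mul, ← Units.val_mul, mul_inv_cancel, Units.val_one,
    Matrix.one_mul, Matrix.one_kronecker_one]

variable [Finite F]

variable (N) in
omit hsp in
/-- the matrices standing next to all root maps -/
def Tsp (hG : Alt G) : Submodule F (Matrix β β F) where
  carrier := {C | ∀ e, e ≠ 0 → Mem N (1 + K G e e ⊗ₖ C)}
  zero_mem' e _ := ⟨1, one_mem _, by simp⟩
  add_mem' {X Y} hX hY e he := by
    have := (hX e he).mul (hY e he)
    simp only [add_mul, mul_add, Matrix.one_mul, Matrix.mul_one, ← Matrix.mul_kronecker_mul, hG.K_sq,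
      Matrix.zero_kronecker, add_zero] at this
    rwa [kron_add, ← add_assoc]
  smul_mem' l X hX e he := by
    have hsq : ∀ a : F, Mem N (1 + K G e e ⊗ₖ ((a * a) • X)) := by
      intro a
      by_cases ha : a = 0
      · exact ⟨1, one_mem _, by simp [ha]⟩
      have := hX (a • e) (smul_ne_zero ha he)
      rwa [K_smul_self, Matrix.smul_kronecker, ← kron_smul] at this
    obtain ⟨a, b, rfl⟩ := exists_sq_sub_sq l
    have h2 : Mem N (1 + K G e e ⊗ₖ (-((b * b) • X))) := by
      rw [kron_neg]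
      exact mem_neg (by rw [← Matrix.mul_kronecker_mul, hG.K_sq, Matrix.zero_kronecker]) (hsq b)
    have := (hsq a).mul h2
    simp only [add_mul, mul_add, Matrix.one_mul, Matrix.mul_one, ← Matrix.mul_kronecker_mul, hG.K_sq,
      Matrix.zero_kronecker, add_zero] at this
    rwa [sub_smul, sub_eq_add_neg, kron_add, ← add_assoc]

theorem mem_tsp_of {e : σ → F} (he : e ≠ 0) {C : Matrix β β F} (h : Mem N (1 + K G e e ⊗ₖ C)) :
    C ∈ Tsp N hG := fun f hf => by
  obtain ⟨g, hg, ge⟩ := exists_trans hG he hf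
  have := mem_conj_kr hsp hg h
  rwa [← Matrix.mul_kronecker_mul, ← Matrix.mul_kronecker_mul, hG.conj_K hg, ge, Matrix.one_mul, Matrix.mul_one]
    at this

theorem tsp_bracket {C C' : Matrix β β F} (hC : C ∈ Tsp N hG) (hC' : C' ∈ Tsp N hG)
    (h1 : C * C' * C = 0) (h2 : C' * C * C' = 0) {a c : σ → F} (hca : fm G c a = 1) :
    Mem N (1 + (K G a c ⊗ₖ (C * C') + K G c a ⊗ₖ (C' * C))) := by
  have ha : a ≠ 0 := fun h => by rw [h, fm_zero_right] at hca; exact zero_ne_one hca
  have hc : c ≠ 0 := fun h => by rw [h, fm_zero_left] at hca; exact zero_ne_one hca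
  have hac : fm G a c = -1 := by rw [hG.fm_swap c a, hca]
  have := mem_comm (M := N) (by rw [← Matrix.mul_kronecker_mul, hG.K_sq, Matrix.zero_kronecker])
    (by rw [← Matrix.mul_kronecker_mul, hG.K_sq, Matrix.zero_kronecker])
    (by rw [← Matrix.mul_kronecker_mul, ← Matrix.mul_kronecker_mul, h1, kron_zero])
    (by rw [← Matrix.mul_kronecker_mul, ← Matrix.mul_kronecker_mul, h2, kron_zero]) (hC a ha) (hC' c hc)
  rwa [← Matrix.mul_kronecker_mul, ← Matrix.mul_kronecker_mul, K_mul_K, K_mul_K, hca, hac, one_smul, neg_one_smul,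
    neg_kron, sub_neg_eq_add] at this

omit hG hsp in
/-- all products of the two products vanish -/
theorem prods_zero {C C' : Matrix β β F} (hC : C * C = 0) (hC' : C' * C' = 0) (h1 : C * C' * C = 0)
    (h2 : C' * C * C' = 0) : C * C' * (C * C') = 0 ∧ C * C' * (C' * C) = 0 ∧ C' * C * (C * C') = 0 ∧
      C' * C * (C' * C) = 0 := by
  refine ⟨?_, ?_, ?_, ?_⟩
  · rw [← Matrix.mul_assoc, h1, Matrix.zero_mul]
  · rw [Matrix.mul_assoc C, ← Matrix.mul_assoc C' C' C, hC', Matrix.zero_mul, Matrix.mul_zero]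
  · rw [Matrix.mul_assoc C', ← Matrix.mul_assoc C C C', hC, Matrix.zero_mul, Matrix.mul_zero]
  · rw [← Matrix.mul_assoc, h2, Matrix.zero_mul]

/-- **the space is closed under the Jordan product of suitable members** -/
theorem tsp_jordan [Nonempty σ] {C C' : Matrix β β F} (hC : C ∈ Tsp N hG) (hC' : C' ∈ Tsp N hG)
    (hCs : C * C = 0) (hCs' : C' * C' = 0) (h1 : C * C' * C = 0) (h2 : C' * C * C' = 0) :
    C * C' + C' * C ∈ Tsp N hG := by
  obtain ⟨p1, p2, p3, p4⟩ := prods_zero hCs hCs' h1 h2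
  have ha : (fun _ => 1 : σ → F) ≠ 0 := Function.ne_iff.2 ⟨Classical.arbitrary σ, one_ne_zero⟩
  obtain ⟨f, hf⟩ := exists_partner hG ha
  set a : σ → F := fun _ => 1
  have hca : fm G (-f) a = 1 := by rw [fm_neg_left, hG.fm_swap a f, hf, neg_neg]
  have hB := tsp_bracket hG hsp hC hC' h1 h2 hca
  obtain ⟨g, hg, ga, gc⟩ := exists_shift hG (c := -f) (a := a)
    (notMem_span_of_pair hG (by rw [fm_neg_right, hf]; exact neg_ne_zero.2 one_ne_zero))
  have hB' := mem_conj_kr hsp hg hB
  rw [mul_add, add_mul, ← Matrix.mul_kronecker_mul, ← Matrix.mul_kronecker_mul, ← Matrix.mul_kronecker_mul,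
    ← Matrix.mul_kronecker_mul, hG.conj_K hg, hG.conj_K hg, ga, gc, Matrix.one_mul, Matrix.mul_one, Matrix.one_mul,
    Matrix.mul_one] at hB'
  have := mem_sub_of (by simp only [add_mul, mul_add, ← Matrix.mul_kronecker_mul, p1, p2, p3, p4, kron_zero, add_zero])
    (by simp only [add_mul, mul_add, ← Matrix.mul_kronecker_mul, p1, p2, p3, p4, kron_zero, add_zero]) hB hB'
  refine mem_tsp_of hG hsp ha ?_
  convert this using 2
  rw [K_add_left, K_add_right, Matrix.add_kronecker, Matrix.add_kronecker, kron_add]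
  abel

/-- anticommuting members give elements with a factor of type `l` -/
theorem tsp_open (h3 : 3 ≤ Fintype.card σ) {C C' : Matrix β β F} (hC : C ∈ Tsp N hG) (hC' : C' ∈ Tsp N hG)
    (hCs : C * C = 0) (hCs' : C' * C' = 0) (h1 : C * C' * C = 0) (h2 : C' * C * C' = 0)
    (hanti : C' * C = -(C * C')) {X : Matrix σ σ F} (hX : IsTy G .l X) : Mem N (1 + X ⊗ₖ (C * C')) := by
  haveI : Nonempty σ := Fintype.card_pos_iff.1 (by omega)
  obtain ⟨p1, -, -, -⟩ := prods_zero hCs hCs' h1 h2
  have ha : (fun _ => 1 : σ → F) ≠ 0 := Function.ne_iff.2 ⟨Classical.arbitrary σ, one_ne_zero⟩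
  obtain ⟨f, hf⟩ := exists_partner hG ha
  set a : σ → F := fun _ => 1
  have hca : fm G (-f) a = 1 := by rw [fm_neg_left, hG.fm_swap a f, hf, neg_neg]
  have hB := tsp_bracket hG hsp hC hC' h1 h2 hca
  rw [hanti, kron_neg, ← neg_kron, ← Matrix.add_kronecker, ← sub_eq_add_neg, ← Lam] at hB
  obtain ⟨z, hz, hza, hzf⟩ := exists_perp_pair hG h3 a f
  have haz : fm G a z = 0 := by rw [hG.fm_swap z a, hza, neg_zero]
  have hfz : fm G (-f) z = 0 := by rw [fm_neg_left, hG.fm_swap z f, hzf]; ring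
  have hg := sie_mem_iso hG a z
  have ga : (sie hG a z : Matrix σ σ F) *ᵥ a = a := by
    rw [sie_mulVec hG haz, haz, hG.self, zero_smul, zero_smul, add_zero, add_zero]
  have gc : (sie hG a z : Matrix σ σ F) *ᵥ (-f) = -f + z := by
    rw [sie_mulVec hG haz, hfz, hca, zero_smul, one_smul, add_zero]
  have hB' := mem_conj_kr hsp hg hB
  rw [← Matrix.mul_kronecker_mul, ← Matrix.mul_kronecker_mul, conj_Lam hG hg, ga, gc, Matrix.one_mul,
    Matrix.mul_one] at hB'
  have h := mem_sub_of (by rw [← Matrix.mul_kronecker_mul, p1, kron_zero])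
    (by rw [← Matrix.mul_kronecker_mul, p1, kron_zero]) hB hB'
  have e : Lam G a (-f + z) ⊗ₖ (C * C') - Lam G a (-f) ⊗ₖ (C * C') = Lam G a z ⊗ₖ (C * C') := by
    rw [show Lam G a (-f + z) = Lam G a (-f) + Lam G a z by simp only [Lam, K_add_left, K_add_right]; abel,
      Matrix.add_kronecker]
    abel
  rw [e] at h
  obtain ⟨q, hq, hqv⟩ := IsTy.conj hG
    (show IsTy G .l (Lam G a z) from ⟨a, z, haz, notMem_span_of_fm hzf (by rw [hf]; exact one_ne_zero), hz, rfl⟩) hX
  have := mem_conj_kr hsp hq h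
  rwa [← Matrix.mul_kronecker_mul, ← Matrix.mul_kronecker_mul, hqv, Matrix.one_mul, Matrix.mul_one] at this

end Split

/-! ### monomials -/

section Mono

variable {ρ : Type} [Fintype ρ] [DecidableEq ρ]

variable (G) in
/-- all monomials of the given types -/
def Has (T : Submodule F (Matrix (ρ → σ) (ρ → σ) F)) (S : ρ → Ty) : Prop :=
  ∀ A : ρ → Matrix σ σ F, (∀ i, IsTy G (S i) (A i)) → ten A ∈ T

/-- the type of a product -/
def joinTy (τ τ' : Ty) : Ty := if τ = .o then τ' else if τ' = .o then τ else .k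

/-- the positions non-trivial in both patterns -/
def both (S S' : ρ → Ty) : Finset ρ := Finset.univ.filter fun i => S i ≠ .o ∧ S' i ≠ .o

/-- the positions non-trivial in a pattern -/
def supp (S : ρ → Ty) : Finset ρ := Finset.univ.filter fun i => S i ≠ .o

theorem mem_supp {S : ρ → Ty} {i : ρ} : i ∈ supp S ↔ S i ≠ .o := by simp [supp]

theorem supp_join (S S' : ρ → Ty) : supp (fun i => joinTy (S i) (S' i)) = supp S ∪ supp S' := by
  ext i
  simp only [mem_supp, Finset.mem_union, joinTy]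
  by_cases h : S i = .o <;> by_cases h' : S' i = .o <;> simp [h, h']

theorem ten_update_smul' (A : ρ → Matrix σ σ F) (i : ρ) (c : F) (X : Matrix σ σ F) :
    c • ten (Function.update A i X) = ten (Function.update A i (c • X)) := (ten_smul A i c X).symm

theorem tenGL_conj_ten (L : ρ → GL σ F) (A : ρ → Matrix σ σ F) :
    (tenGL L : Matrix (ρ → σ) (ρ → σ) F) * ten A * (((tenGL L)⁻¹ : GL (ρ → σ) F) : Matrix _ _ F) =
      ten fun i => (L i : Matrix σ σ F) * A i * (((L i)⁻¹ : GL σ F) : Matrix σ σ F) := by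
  rw [← map_inv, tenGL_val, tenGL_val, ← map_mul, ← map_mul]
  rfl

variable (T : Submodule F (Matrix (ρ → σ) (ρ → σ) F))
variable (hG : Alt G)
variable (hinv : ∀ L : ρ → GL σ F, (∀ i, L i ∈ iso G) → ∀ X ∈ T,
  (tenGL L : Matrix (ρ → σ) (ρ → σ) F) * X * (((tenGL L)⁻¹ : GL (ρ → σ) F) : Matrix _ _ F) ∈ T)
include hG hinv

theorem has_of_mem {S : ρ → Ty} {A : ρ → Matrix σ σ F} (hA : ∀ i, IsTy G (S i) (A i)) {c : F} (hc : c ≠ 0)
    (h : c • ten A ∈ T) : Has G T S := by
  intro B hB
  choose L hL hLv using fun i => IsTy.conj hG (hA i) (hB i)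
  have := hinv L hL _ (T.smul_mem c⁻¹ h)
  rw [inv_smul_smul₀ hc, tenGL_conj_ten] at this
  simpa only [hLv] using this

/-- conjugation minus identity at one position -/
theorem derive_ten {U V : ρ → Matrix σ σ F} {r : F} (h : ten U + r • ten V ∈ T) (i : ρ) {g : GL σ F}
    (hg : g ∈ iso G) :
    ten (Function.update U i ((g : Matrix σ σ F) * U i * ((g⁻¹ : GL σ F) : Matrix σ σ F) - U i)) +
      r • ten (Function.update V i ((g : Matrix σ σ F) * V i * ((g⁻¹ : GL σ F) : Matrix σ σ F) - V i)) ∈ T := by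
  have h1 := T.sub_mem (hinv (Function.update (fun _ => 1) i g) (fun j => by
    by_cases hj : j = i
    · subst hj; rwa [Function.update_self]
    · rw [Function.update_of_ne hj]; exact one_mem _) _ h) h
  have hsub : ∀ (W : ρ → Matrix σ σ F) (Y : Matrix σ σ F),
      ten (Function.update W i (Y - W i)) = ten (Function.update W i Y) - ten W := fun W Y => by
    have := ten_update_add W i (Y - W i) (W i)
    rw [sub_add_cancel, Function.update_eq_self] at this
    rw [this, add_sub_cancel_right]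
  have hW : ∀ W : ρ → Matrix σ σ F, (fun j => (Function.update (fun _ => 1 : ρ → GL σ F) i g j : Matrix σ σ F) * W j *
      (((Function.update (fun _ => 1 : ρ → GL σ F) i g j)⁻¹ : GL σ F) : Matrix σ σ F)) =
      Function.update W i ((g : Matrix σ σ F) * W i * ((g⁻¹ : GL σ F) : Matrix σ σ F)) := fun W => by
    funext j
    by_cases hj : j = i
    · subst hj; simp
    · simp [hj]
  rw [mul_add, add_mul, Matrix.mul_smul, Matrix.smul_mul, tenGL_conj_ten, tenGL_conj_ten, hW, hW] at h1
  rw [hsub, hsub, smul_sub]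
  convert h1 using 1
  abel

theorem close_ten {U V Z : ρ → Matrix σ σ F} {s : ρ → F} (t : Finset ρ) {r : F}
    (hst : ∀ i ∈ t, Shift G (U i) (V i) (Z i) (s i)) (h : ten U + r • ten V ∈ T) :
    ten (t.piecewise Z U) + (r * ∏ i ∈ t, s i) • ten (t.piecewise Z V) ∈ T := by
  induction t using Finset.induction with
  | empty => simpa using h
  | insert a t ha ih =>
    specialize ih fun i hi => hst i (Finset.mem_insert_of_mem hi)
    have hU : t.piecewise Z U a = U a := Finset.piecewise_eq_of_notMem _ _ _ ha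
    have hV : t.piecewise Z V a = V a := Finset.piecewise_eq_of_notMem _ _ _ ha
    have key : ten (Function.update (t.piecewise Z U) a (Z a)) +
        (r * ∏ i ∈ t, s i) • ten (Function.update (t.piecewise Z V) a (s a • Z a)) ∈ T := by
      rcases hst a (Finset.mem_insert_self a t) with ⟨h1, h2⟩ | ⟨g, hg, h1, h2⟩
      · have e1 : Function.update (t.piecewise Z U) a (Z a) = t.piecewise Z U := by
          rw [← h1, ← hU, Function.update_eq_self]
        have e2 : Function.update (t.piecewise Z V) a (s a • Z a) = t.piecewise Z V := by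
          rw [← h2, ← hV, Function.update_eq_self]
        rw [e1, e2]
        exact ih
      · have := derive_ten T hG hinv ih a hg
        rwa [hU, hV, h1, h2] at this
    rw [ten_smul, smul_smul] at key
    rw [Finset.piecewise_insert, Finset.piecewise_insert, Finset.prod_insert ha]
    convert key using 3
    ring

variable (hjor : ∀ C ∈ T, ∀ C' ∈ T, C * C = 0 → C' * C' = 0 → C * C' * C = 0 → C' * C * C' = 0 → C * C' + C' * C ∈ T)
include hjor

omit hinv hjor in
/-- choices of two factors at every position -/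
theorem exists_choice [Nonempty σ] {S S' : ρ → Ty} (hS : ∀ i, S i = .o ∨ S' i = .o ∨ S i = S' i)
    (hl : 3 ≤ Fintype.card σ ∨ ∀ i, S i ≠ .l ∧ S' i ≠ .l) :
    ∃ A A' Z : ρ → Matrix σ σ F, (∀ i, IsTy G (S i) (A i)) ∧ (∀ i, IsTy G (S' i) (A' i)) ∧
      (∀ i, IsTy G (joinTy (S i) (S' i)) (Z i)) ∧
      (∀ i, Shift G (A i * A' i) (A' i * A i) (Z i) (if S i ≠ .o ∧ S' i ≠ .o then -1 else 1)) ∧
      ∀ i, S i = .l → S' i = .l → A i * A' i * A i = 0 ∧ A' i * A i * A' i = 0 := by
  have hex : ∀ τ : Ty, (τ = .l → 3 ≤ Fintype.card σ) → ∃ X, IsTy G τ X := fun τ h => by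
    cases τ with
    | o => exact ⟨1, rfl⟩
    | k => exact exists_isTy_k hG
    | l => exact exists_isTy_l hG (h rfl)
  have h : ∀ i, ∃ X Y Z, IsTy G (S i) X ∧ IsTy G (S' i) Y ∧ IsTy G (joinTy (S i) (S' i)) Z ∧
      Shift G (X * Y) (Y * X) Z (if S i ≠ .o ∧ S' i ≠ .o then -1 else 1) ∧
      (S i = .l → S' i = .l → X * Y * X = 0 ∧ Y * X * Y = 0) := fun i => by
    have h3 : S i = .l ∨ S' i = .l → 3 ≤ Fintype.card σ := fun h => hl.elim id fun h' =>
      absurd h (not_or.2 (h' i))
    by_cases ho : S i = .o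
    · obtain ⟨Y, hY⟩ := hex (S' i) fun h => h3 (Or.inr h)
      refine ⟨1, Y, Y, by rw [ho]; rfl, hY, by simpa [joinTy, ho] using hY, Or.inl ⟨Matrix.one_mul Y, ?_⟩,
        fun h => absurd (ho.symm.trans h) (by decide)⟩
      rw [if_neg (fun h => h.1 ho), one_smul, Matrix.mul_one]
    by_cases ho' : S' i = .o
    · obtain ⟨X, hX⟩ := hex (S i) fun h => h3 (Or.inl h)
      refine ⟨X, 1, X, hX, by rw [ho']; rfl, by simpa [joinTy, ho, ho'] using hX, Or.inl ⟨Matrix.mul_one X, ?_⟩,
        fun _ h => absurd (ho'.symm.trans h) (by decide)⟩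
      rw [if_neg (fun h => h.2 ho'), one_smul, Matrix.one_mul]
    have heq : S i = S' i := ((hS i).resolve_left ho).resolve_left ho'
    have hj : joinTy (S i) (S' i) = .k := by simp [joinTy, ho, ho']
    rw [if_pos ⟨ho, ho'⟩, hj, ← heq]
    cases hSi : S i with
    | o => exact absurd hSi ho
    | k =>
      obtain ⟨X, Y, Z, hX, hY, hZ, hs⟩ := exists_kk hG
      exact ⟨X, Y, Z, hX, hY, hZ, hs, fun h => absurd h (by decide)⟩
    | l =>
      obtain ⟨X, Y, Z, hX, hY, hZ, h1, h2, h3', h4⟩ := exists_ll hG (h3 (Or.inl hSi))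
      exact ⟨X, Y, Z, hX, hY, hZ, Or.inl ⟨h1, by rw [h2, neg_one_smul]⟩, fun _ _ => ⟨h3', h4⟩⟩
  choose A A' Z h1 h2 h3 h4 h5 using h
  exact ⟨A, A', Z, h1, h2, h3, h4, h5⟩

omit hinv hjor in
theorem nil_of [Nonempty σ] {S S' : ρ → Ty} {A A' : ρ → Matrix σ σ F} (hA : ∀ i, IsTy G (S i) (A i))
    (hA' : ∀ i, IsTy G (S' i) (A' i))
    (h : (∃ i, A i * A' i * A i = 0 ∧ A' i * A i * A' i = 0) ∨
      ((∃ i, S i ≠ .o ∧ S' i = .o) ∧ ∃ i, S' i ≠ .o ∧ S i = .o)) :
    ten A * ten A' * ten A = 0 ∧ ten A' * ten A * ten A' = 0 := by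
  simp only [← map_mul]
  rcases h with ⟨i, h1, h2⟩ | ⟨⟨i, hi, hi'⟩, ⟨j, hj, hj'⟩⟩
  · exact ⟨ten_eq_zero _ (i := i) h1, ten_eq_zero _ (i := i) h2⟩
  · refine ⟨ten_eq_zero _ (i := i) ?_, ten_eq_zero _ (i := j) ?_⟩
    · have := hA' i
      rw [hi'] at this
      simp only [Pi.mul_apply, show A' i = 1 from this, Matrix.mul_one]
      exact IsTy.sq hG (hA i) hi
    · have := hA j
      rw [hj'] at this
      simp only [Pi.mul_apply, show A j = 1 from this, Matrix.mul_one]
      exact IsTy.sq hG (hA' j) hj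

theorem ten_sq {S : ρ → Ty} {A : ρ → Matrix σ σ F} (hA : ∀ i, IsTy G (S i) (A i)) {i : ρ} (hi : S i ≠ .o) :
    ten A * ten A = 0 := by
  rw [← map_mul]
  exact ten_eq_zero _ (i := i) (IsTy.sq hG (hA i) hi)

/-- the Jordan product with all common positions closed -/
theorem jordan_closed [Nonempty σ] {S S' : ρ → Ty} (hS : Has G T S) (hS' : Has G T S')
    (hc : ∀ i, S i = .o ∨ S' i = .o ∨ S i = S' i) (hl : 3 ≤ Fintype.card σ ∨ ∀ i, S i ≠ .l ∧ S' i ≠ .l)
    (hne : (∃ i, S i ≠ .o) ∧ ∃ i, S' i ≠ .o)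
    (hn : (∃ i, S i = .l ∧ S' i = .l) ∨ ((∃ i, S i ≠ .o ∧ S' i = .o) ∧ ∃ i, S' i ≠ .o ∧ S i = .o))
    (h2 : (2 : F) ≠ 0) (hpar : Even (both S S').card) : Has G T fun i => joinTy (S i) (S' i) := by
  obtain ⟨A, A', Z, hA, hA', hZ, hsh, hll⟩ := exists_choice hG hc hl
  obtain ⟨n1, n2⟩ := nil_of hG hA hA' (hn.imp (fun ⟨i, hi, hi'⟩ => ⟨i, hll i hi hi'⟩) id)
  have hj := hjor _ (hS A hA) _ (hS' A' hA') (ten_sq T hG hinv hjor hA hne.1.choose_spec)
    (ten_sq T hG hinv hjor hA' hne.2.choose_spec) n1 n2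
  rw [← map_mul, ← map_mul, ← one_smul F (ten (A' * A))] at hj
  have := close_ten T hG hinv Finset.univ (fun i _ => hsh i) hj
  rw [Finset.piecewise_univ, Finset.piecewise_univ, one_mul, Finset.prod_ite, Finset.prod_const, Finset.prod_const,
    one_pow, mul_one, ← both, hpar.neg_one_pow, one_smul, ← two_smul F] at this
  exact has_of_mem T hG hinv hZ h2 this

/-- the Jordan product with one common position open -/
theorem jordan_open [Nonempty σ] {S S' : ρ → Ty} (hS : Has G T S) (hS' : Has G T S')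
    (hc : ∀ i, S i = .o ∨ S' i = .o ∨ S i = S' i) (hl : 3 ≤ Fintype.card σ ∨ ∀ i, S i ≠ .l ∧ S' i ≠ .l)
    {p : ρ} (hp : S p ≠ .o) (hp' : S' p ≠ .o) {X Y : Matrix σ σ F} (hX : IsTy G (S p) X) (hY : IsTy G (S' p) Y)
    (hn : (X * Y * X = 0 ∧ Y * X * Y = 0) ∨ (∃ i ≠ p, S i = .l ∧ S' i = .l) ∨
      ((∃ i, S i ≠ .o ∧ S' i = .o) ∧ ∃ i, S' i ≠ .o ∧ S i = .o))
    (hpar : (2 : F) = 0 ∨ Odd (both S S').card) :
    ∃ Z : ρ → Matrix σ σ F, (∀ i, i ≠ p → IsTy G (joinTy (S i) (S' i)) (Z i)) ∧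
      ten (Function.update Z p (X * Y + Y * X)) ∈ T := by
  obtain ⟨A₀, A₀', Z, hA₀, hA₀', hZ, hsh, hll⟩ := exists_choice hG hc hl
  set A := Function.update A₀ p X with hAdef
  set A' := Function.update A₀' p Y with hA'def
  have hA : ∀ i, IsTy G (S i) (A i) := fun i => by
    by_cases hi : i = p
    · subst hi; simpa [hAdef] using hX
    · simpa [hAdef, hi] using hA₀ i
  have hA' : ∀ i, IsTy G (S' i) (A' i) := fun i => by
    by_cases hi : i = p
    · subst hi; simpa [hA'def] using hY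
    · simpa [hA'def, hi] using hA₀' i
  obtain ⟨n1, n2⟩ := nil_of hG hA hA' (by
    rcases hn with h | ⟨i, hip, hi, hi'⟩ | h
    · exact Or.inl ⟨p, by simpa [hAdef, hA'def] using h⟩
    · exact Or.inl ⟨i, by simpa [hAdef, hA'def, hip] using hll i hi hi'⟩
    · exact Or.inr h)
  have hj := hjor _ (hS A hA) _ (hS' A' hA') (ten_sq T hG hinv hjor hA hp)
    (ten_sq T hG hinv hjor hA' hp') n1 n2
  rw [← map_mul, ← map_mul, ← one_smul F (ten (A' * A))] at hj
  have h := close_ten T hG hinv (Z := Z) (s := fun i => if S i ≠ .o ∧ S' i ≠ .o then (-1 : F) else 1)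
    (Finset.univ.erase p) (fun i hi => by
      have hip := Finset.ne_of_mem_erase hi
      simpa [hAdef, hA'def, hip] using hsh i) hj
  have hpm : p ∈ both S S' := by simp [both, hp, hp']
  have hprod : ∏ i ∈ Finset.univ.erase p, (if S i ≠ .o ∧ S' i ≠ .o then (-1 : F) else 1) = 1 := by
    rw [Finset.prod_ite, Finset.prod_const, Finset.prod_const, one_pow, mul_one, Finset.filter_erase, ← both,
      Finset.card_erase_of_mem hpm]
    rcases hpar with h2 | hodd
    · rw [show (-1 : F) = 1 by linear_combination -h2, one_pow]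
    · exact (Nat.Odd.sub_odd hodd odd_one).neg_one_pow
  have epw : ∀ W : ρ → Matrix σ σ F, (Finset.univ.erase p).piecewise Z W = Function.update Z p (W p) := fun W => by
    funext i
    by_cases hi : i = p
    · subst hi; simp
    · simp [hi, Finset.piecewise]
  rw [hprod, one_mul, one_smul, epw, epw, ← ten_update_add] at h
  refine ⟨Z, fun i _ => hZ i, ?_⟩
  simpa [hAdef, hA'def] using h

/-- an open position with two root maps gives type `l` -/
theorem jordan_open_k (h3 : 3 ≤ Fintype.card σ) {S S' : ρ → Ty} (hS : Has G T S) (hS' : Has G T S')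
    (hc : ∀ i, S i = .o ∨ S' i = .o ∨ S i = S' i) {p : ρ} (hp : S p = .k) (hp' : S' p = .k)
    (hn : (∃ i ≠ p, S i = .l ∧ S' i = .l) ∨ ((∃ i, S i ≠ .o ∧ S' i = .o) ∧ ∃ i, S' i ≠ .o ∧ S i = .o))
    (hpar : (2 : F) = 0 ∨ Odd (both S S').card) :
    Has G T (Function.update (fun i => joinTy (S i) (S' i)) p .l) := by
  haveI : Nonempty σ := Fintype.card_pos_iff.1 (by omega)
  obtain ⟨X, Y, hX, hY, g, hg, hW⟩ := exists_kk_open hG h3
  obtain ⟨Z, hZ, h⟩ := jordan_open T hG hinv hjor hS hS' hc (Or.inl h3) (p := p) (by simp [hp]) (by simp [hp'])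
    (hp ▸ hX) (hp' ▸ hY) (Or.inr hn) hpar
  have h' := derive_ten T hG hinv (r := 0) (U := Function.update Z p (X * Y + Y * X))
    (V := Function.update Z p (X * Y + Y * X)) (by rw [zero_smul, add_zero]; exact h) p hg
  rw [zero_smul, add_zero, Function.update_self, Function.update_idem, ← one_smul F (ten _)] at h'
  refine has_of_mem T hG hinv (fun i => ?_) one_ne_zero h'
  by_cases hi : i = p
  · subst hi; simpa using hW
  · simpa [hi] using hZ i hi

/-- an open position with two factors of type `l` -/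
theorem jordan_open_l (h5 : 5 ≤ Fintype.card σ) {S S' : ρ → Ty} (hS : Has G T S) (hS' : Has G T S')
    (hc : ∀ i, S i = .o ∨ S' i = .o ∨ S i = S' i) {p : ρ} (hp : S p = .l) (hp' : S' p = .l)
    (hpar : (2 : F) = 0 ∨ Odd (both S S').card) :
    Has G T (Function.update (fun i => joinTy (S i) (S' i)) p .l) := by
  haveI : Nonempty σ := Fintype.card_pos_iff.1 (by omega)
  obtain ⟨X, Y, hX, hY, hW, hn⟩ := exists_ll_open hG h5
  obtain ⟨Z, hZ, h⟩ := jordan_open T hG hinv hjor hS hS' hc (Or.inl (by omega)) (p := p) (by simp [hp])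
    (by simp [hp']) (hp ▸ hX) (hp' ▸ hY) (Or.inl hn) hpar
  rw [← one_smul F (ten _)] at h
  refine has_of_mem T hG hinv (fun i => ?_) one_ne_zero h
  by_cases hi : i = p
  · subst hi; simpa using hW
  · simpa [hi] using hZ i hi

omit hjor in
/-- in characteristic two a root map may become a factor of type `l` -/
theorem has_k_to_l (h2 : (2 : F) = 0) (h3 : 3 ≤ Fintype.card σ) {S : ρ → Ty} (hS : Has G T S) {p : ρ}
    (hp : S p = .k) : Has G T (Function.update S p .l) := by
  intro A hA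
  have hAp := hA p
  rw [Function.update_self] at hAp
  obtain ⟨a, b, hab, hs, hb, hX⟩ := hAp
  have hmem : ∀ w : σ → F, w ≠ 0 → ten (Function.update A p (K G w w)) ∈ T := fun w hw => hS _ fun i => by
    by_cases hi : i = p
    · subst hi; rw [Function.update_self, hp]; exact ⟨w, hw, rfl⟩
    · rw [Function.update_of_ne hi]
      simpa [hi] using hA i
  have hsum : a + b ≠ 0 := fun h => hs (Submodule.mem_span_singleton.2 ⟨-1, by
    rw [neg_one_smul]; exact (eq_neg_of_add_eq_zero_left h).symm⟩)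
  have hneg : ∀ M : Matrix σ σ F, -M = M := fun M => by
    rw [← neg_one_smul F M, show (-1 : F) = 1 by linear_combination -h2, one_smul]
  have e : A p = K G (a + b) (a + b) - K G a a - K G b b := by
    rw [hX, Lam, sub_eq_add_neg, hneg, K_add_self]
    abel
  have h := T.sub_mem (T.sub_mem (hmem _ hsum) (hmem a (notMem_span_zero hs))) (hmem b hb)
  have hsub : ∀ P Q : Matrix σ σ F, ten (Function.update A p (P - Q)) =
      ten (Function.update A p P) - ten (Function.update A p Q) := fun P Q => by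
    have := ten_update_add A p (P - Q) Q
    rw [sub_add_cancel] at this
    rw [this, add_sub_cancel_right]
  rwa [← hsub, ← hsub, ← e, Function.update_eq_self] at h

omit hjor in
/-- a pattern of root maps has even length -/
theorem has_even [Nonempty σ] (h2 : (2 : F) ≠ 0) (hadj : ∀ C ∈ T, adj (GG G ρ) C = C) {S : ρ → Ty}
    (hS : Has G T S) (hk : ∀ i, S i ≠ .l) : Even (supp S).card := by
  obtain ⟨w, hw⟩ : ∃ X, IsTy G .k X := exists_isTy_k hG
  set A : ρ → Matrix σ σ F := fun i => if S i = .o then 1 else w with hA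
  have hAt : ∀ i, IsTy G (S i) (A i) := fun i => by
    cases h : S i with
    | o => simp [hA, h, IsTy]
    | k => simp only [hA, h]; exact hw
    | l => exact absurd h (hk i)
  have h1 := hadj _ (hS A hAt)
  rw [adj_ten hG.isForm] at h1
  have h3 : (fun i => adj G (A i)) = fun i => (if S i ≠ .o then (-1 : F) else 1) • A i := by
    funext i
    by_cases h : S i = .o
    · simp [hA, h, adj_one hG.isForm]
    · obtain ⟨v, -, rfl⟩ := hw
      simp [hA, h, hG.adj_K]
  rw [h3] at h1
  have h4 : ten (fun i => (if S i ≠ .o then (-1 : F) else 1) • A i) = (-1 : F) ^ (supp S).card • ten A := by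
    ext x y
    simp only [ten_apply, Matrix.smul_apply, smul_eq_mul, Finset.prod_mul_distrib, Finset.prod_ite,
      Finset.prod_const, one_pow, mul_one, supp]
  rw [h4] at h1
  by_contra hodd
  rw [(Nat.not_even_iff_odd.1 hodd).neg_one_pow] at h1
  have h5 : (2 : F) • ten A = 0 := by rw [two_smul]; nth_rewrite 1 [← h1]; rw [neg_one_smul, neg_add_cancel]
  exact ten_ne_zero (fun i => IsTy.ne_zero hG (hAt i)) ((smul_eq_zero.1 h5).resolve_left h2)

end Mono

end Cfsg.Agent.MaxCl.Pow
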