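/-
An overgroup of the isometry groups of all positions of a tensor power with a root-like monomial contains monomials
of the largest possible pattern: all factors root maps, or all but one.
-/
import Cfsg.Agent.Lib.MaxCl.PowerJordan

set_option autoImplicit false
set_option linter.unusedSectionVars false
set_option linter.style.haveILetI false

namespace Cfsg.Agent.MaxCl.Pow

open Matrix
open scoped MatrixGroups Kronecker

variable {σ : Type} [Fintype σ] [DecidableEq σ] {F : Type*} [Field F] {G : Matrix σ σ F}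

section Abstract

variable {ρ : Type} [Fintype ρ] [DecidableEq ρ]

variable (G) in
/-- what is used about the space next to a root map of one position -/
structure Slice (T : Submodule F (Matrix (ρ → σ) (ρ → σ) F)) : Prop where
  inv : ∀ L : ρ → GL σ F, (∀ i, L i ∈ iso G) → ∀ X ∈ T,
    (tenGL L : Matrix (ρ → σ) (ρ → σ) F) * X * (((tenGL L)⁻¹ : GL (ρ → σ) F) : Matrix _ _ F) ∈ T
  jor : ∀ C ∈ T, ∀ C' ∈ T, C * C = 0 → C' * C' = 0 → C * C' * C = 0 → C' * C * C' = 0 → C * C' + C' * C ∈ T
  perm : ∀ π : Equiv.Perm ρ, Equiv.Perm.sign π = 1 → ∀ S, Has G T S → Has G T fun i => S (π.symm i)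
  adj_eq : ∀ C ∈ T, adj (GG G ρ) C = C

/-- `S` with the type at `p` moved to `f` -/
def moved (S : ρ → Ty) (p f : ρ) : ρ → Ty := Function.update (Function.update S p .o) f (S p)

theorem moved_p (S : ρ → Ty) {p f : ρ} (h : p ≠ f) : moved S p f p = .o := by simp [moved, h]

theorem moved_f (S : ρ → Ty) (p f : ρ) : moved S p f f = S p := by simp [moved]

theorem moved_of_ne (S : ρ → Ty) {p f i : ρ} (hp : i ≠ p) (hf : i ≠ f) : moved S p f i = S i := by
  simp [moved, hp, hf]

theorem both_moved (S : ρ → Ty) {p f : ρ} (hp : S p ≠ .o) (hf : S f = .o) :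
    both S (moved S p f) = (supp S).erase p := by
  have hpf : p ≠ f := fun h => hp (h ▸ hf)
  ext i
  simp only [both, Finset.mem_filter, Finset.mem_univ, true_and, Finset.mem_erase, mem_supp]
  by_cases h1 : i = p
  · subst h1; simp [moved_p S hpf]
  by_cases h2 : i = f
  · subst h2; simp [hf]
  simp [moved_of_ne S h1 h2, h1]

theorem join_moved_ne (S : ρ → Ty) {p f : ρ} (hp : S p ≠ .o) (hf : S f = .o) :
    (supp fun i => joinTy (S i) (moved S p f i)) = insert f (supp S) := by
  have hpf : p ≠ f := fun h => hp (h ▸ hf)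
  ext i
  rw [supp_join, Finset.mem_union, Finset.mem_insert, mem_supp, mem_supp]
  by_cases h1 : i = p
  · subst h1; simp [hp]
  by_cases h2 : i = f
  · subst h2; simp [moved_f, hp]
  simp [moved_of_ne S h1 h2, h2]

theorem compat_moved (S : ρ → Ty) {p f : ρ} (hp : S p ≠ .o) (hf : S f = .o) :
    (∀ i, S i = .o ∨ moved S p f i = .o ∨ S i = moved S p f i) ∧
      (∃ i, S i ≠ .o ∧ moved S p f i = .o) ∧ ∃ i, moved S p f i ≠ .o ∧ S i = .o := by
  have hpf : p ≠ f := fun h => hp (h ▸ hf)
  refine ⟨fun i => ?_, ⟨p, hp, moved_p S hpf⟩, ⟨f, by rwa [moved_f], hf⟩⟩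
  by_cases h1 : i = p
  · subst h1; exact Or.inr (Or.inl (moved_p S hpf))
  by_cases h2 : i = f
  · subst h2; exact Or.inl hf
  exact Or.inr (Or.inr (moved_of_ne S h1 h2).symm)

theorem supp_card_le (S : ρ → Ty) : (supp S).card ≤ Fintype.card ρ := Finset.card_le_univ _

theorem exists_free (S : ρ → Ty) (h : (supp S).card < Fintype.card ρ) : ∃ f, S f = .o := by
  by_contra! hc
  have : supp S = Finset.univ := Finset.eq_univ_iff_forall.2 fun i => mem_supp.2 (hc i)
  rw [this, Finset.card_univ] at h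
  omega

theorem exists_free_two (S : ρ → Ty) (h : (supp S).card + 2 ≤ Fintype.card ρ) :
    ∃ f g, f ≠ g ∧ S f = .o ∧ S g = .o := by
  have hc : 1 < ((supp S)ᶜ).card := by rw [Finset.card_compl]; omega
  obtain ⟨f, hf, g, hg, hfg⟩ := Finset.one_lt_card.1 hc
  simp only [Finset.mem_compl, mem_supp, not_not] at hf hg
  exact ⟨f, g, hfg, hf, hg⟩

variable {T : Submodule F (Matrix (ρ → σ) (ρ → σ) F)} (hG : Alt G) (hT : Slice G T)
include hG hT

theorem Slice.move_swap (hall : ∀ π : Equiv.Perm ρ, ∀ S, Has G T S → Has G T fun i => S (π.symm i))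
    {S : ρ → Ty} (hS : Has G T S) {p f : ρ} (hp : S p ≠ .o) (hf : S f = .o) : Has G T (moved S p f) := by
  have hpf : p ≠ f := fun h => hp (h ▸ hf)
  convert hall (Equiv.swap p f) S hS using 1
  funext i
  rw [Equiv.symm_swap]
  by_cases h1 : i = p
  · subst h1; rw [moved_p S hpf, Equiv.swap_apply_left, hf]
  by_cases h2 : i = f
  · subst h2; rw [moved_f, Equiv.swap_apply_right]
  rw [moved_of_ne S h1 h2, Equiv.swap_apply_of_ne_of_ne h1 h2]

theorem Slice.move_free {S : ρ → Ty} (hS : Has G T S) {p f g : ρ} (hp : S p ≠ .o) (hf : S f = .o) (hg : S g = .o)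
    (hfg : f ≠ g) : Has G T (moved S p f) := by
  have hpf : p ≠ f := fun h => hp (h ▸ hf)
  have hpg : p ≠ g := fun h => hp (h ▸ hg)
  convert hT.perm (Equiv.swap p g * Equiv.swap p f)
    (by rw [map_mul, Equiv.Perm.sign_swap hpg, Equiv.Perm.sign_swap hpf]; rfl) S hS using 1
  funext i
  rw [show (Equiv.swap p g * Equiv.swap p f).symm i = Equiv.swap p f (Equiv.swap p g i) from rfl]
  by_cases h1 : i = p
  · subst h1
    rw [moved_p S hpf, Equiv.swap_apply_left, Equiv.swap_apply_of_ne_of_ne hpg.symm hfg.symm, hg]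
  by_cases h2 : i = f
  · subst h2
    rw [moved_f, Equiv.swap_apply_of_ne_of_ne h1 hfg, Equiv.swap_apply_right]
  by_cases h3 : i = g
  · subst h3
    rw [moved_of_ne S h1 h2, Equiv.swap_apply_right, Equiv.swap_apply_left, hg, hf]
  rw [moved_of_ne S h1 h2, Equiv.swap_apply_of_ne_of_ne h1 h3, Equiv.swap_apply_of_ne_of_ne h1 h2]

theorem Slice.move_same {S : ρ → Ty} (hS : Has G T S) {p f r : ρ} (hp : S p ≠ .o) (hf : S f = .o) (hrp : r ≠ p)
    (hr : S r = S p) : Has G T (moved S p f) := by
  have hpf : p ≠ f := fun h => hp (h ▸ hf)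
  have hrf : r ≠ f := fun h => hp (hr ▸ h ▸ hf)
  convert hT.perm (Equiv.swap p f * Equiv.swap p r)
    (by rw [map_mul, Equiv.Perm.sign_swap hpf, Equiv.Perm.sign_swap hrp.symm]; rfl) S hS using 1
  funext i
  rw [show (Equiv.swap p f * Equiv.swap p r).symm i = Equiv.swap p r (Equiv.swap p f i) from rfl]
  by_cases h1 : i = p
  · subst h1
    rw [moved_p S hpf, Equiv.swap_apply_left, Equiv.swap_apply_of_ne_of_ne hpf.symm hrf.symm, hf]
  by_cases h2 : i = f
  · subst h2
    rw [moved_f, Equiv.swap_apply_right, Equiv.swap_apply_left, hr]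
  rw [moved_of_ne S h1 h2, Equiv.swap_apply_of_ne_of_ne h1 h2]
  by_cases h3 : i = r
  · subst h3; rw [Equiv.swap_apply_right, hr]
  rw [Equiv.swap_apply_of_ne_of_ne h1 h3]

/-- in odd characteristic an even pattern becomes a pattern of root maps -/
theorem Slice.to_k (h2 : (2 : F) ≠ 0) (h3 : 3 ≤ Fintype.card σ) {S : ρ → Ty} (hS : Has G T S)
    (he : Even (supp S).card) : ∃ S', Has G T S' ∧ supp S' = supp S ∧ ∀ i, S' i ≠ .l := by
  haveI : Nonempty σ := Fintype.card_pos_iff.1 (by omega)
  by_cases hl : ∀ i, S i ≠ .l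
  · exact ⟨S, hS, rfl, hl⟩
  push Not at hl
  obtain ⟨i, hi⟩ := hl
  refine ⟨_, jordan_closed T hG hT.inv hT.jor hS hS (fun _ => Or.inr (Or.inr rfl)) (Or.inl h3)
    ⟨⟨i, by simp [hi]⟩, i, by simp [hi]⟩ (Or.inl ⟨i, hi, hi⟩) h2 ?_, by rw [supp_join, Finset.union_self],
    fun i => ?_⟩
  · rwa [show both S S = supp S by ext; simp [both, supp]]
  · simp only [joinTy]
    by_cases h : S i = .o <;> simp [h]

/-- one more position in odd characteristic -/
theorem Slice.step_odd (h2 : (2 : F) ≠ 0) (h3 : 3 ≤ Fintype.card σ)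
    (hall : (∀ π : Equiv.Perm ρ, ∀ S, Has G T S → Has G T fun i => S (π.symm i)) ∨ Odd (Fintype.card ρ))
    {S : ρ → Ty} (hS : Has G T S) (hne : (supp S).Nonempty) (hlt : (supp S).card < Fintype.card ρ) :
    ∃ S', Has G T S' ∧ (supp S).card < (supp S').card := by
  haveI : Nonempty σ := Fintype.card_pos_iff.1 (by omega)
  rcases Nat.even_or_odd (supp S).card with he | ho
  · obtain ⟨S₁, hS₁, hsupp, hnl⟩ := hT.to_k hG h2 h3 hS he
    rw [← hsupp] at he hne hlt ⊢
    obtain ⟨f, hf⟩ := exists_free S₁ hlt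
    have hk : ∀ i, S₁ i ≠ .o → S₁ i = .k := fun i hi => by
      cases h : S₁ i with
      | o => exact absurd h hi
      | k => rfl
      | l => exact absurd h (hnl i)
    have h1 : 1 < (supp S₁).card := by
      rcases he with ⟨c, hc⟩
      have := hne.card_pos
      omega
    obtain ⟨p, hp, r, hr, hpr⟩ := Finset.one_lt_card.1 h1
    have hp' := mem_supp.1 hp
    have hr' := mem_supp.1 hr
    have hS' := hT.move_same hG hS₁ hp' hf hpr.symm (by rw [hk r hr', hk p hp'])
    obtain ⟨hc, hn⟩ := compat_moved S₁ hp' hf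
    have hrf : r ≠ f := fun h => hr' (h ▸ hf)
    refine ⟨_, jordan_open_k T hG hT.inv hT.jor h3 hS₁ hS' hc (p := r) (hk r hr')
      (by rw [moved_of_ne S₁ hpr.symm hrf, hk r hr']) (Or.inr hn) (Or.inr ?_), ?_⟩
    · rw [both_moved S₁ hp' hf, Finset.card_erase_of_mem hp]
      exact Nat.Even.sub_odd (by omega) he odd_one
    · refine Finset.card_lt_card (Finset.ssubset_iff.2 ⟨f, by simpa [mem_supp] using hf, fun i hi => ?_⟩)
      rw [mem_supp]
      by_cases hir : i = r
      · simp [hir]
      · rw [Function.update_of_ne hir]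
        have h := (Finset.ext_iff.1 (join_moved_ne S₁ hp' hf) i).2 hi
        rwa [mem_supp] at h
  · obtain ⟨p, hp⟩ := hne
    have hp' := mem_supp.1 hp
    obtain ⟨f, hf, hS'⟩ : ∃ f, S f = .o ∧ Has G T (moved S p f) := by
      rcases hall with hall | hρ
      · obtain ⟨f, hf⟩ := exists_free S hlt
        exact ⟨f, hf, hT.move_swap hG hall hS hp' hf⟩
      · obtain ⟨f, g, hfg, hf, hg⟩ := exists_free_two S (by
          obtain ⟨a, ha⟩ := ho
          obtain ⟨b, hb⟩ := hρ
          omega)
        exact ⟨f, hf, hT.move_free hG hS hp' hf hg hfg⟩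
    obtain ⟨hc, hn⟩ := compat_moved S hp' hf
    refine ⟨_, jordan_closed T hG hT.inv hT.jor hS hS' hc (Or.inl h3) ⟨⟨p, hp'⟩, f, by rwa [moved_f]⟩ (Or.inr hn) h2
      (by rw [both_moved S hp' hf, Finset.card_erase_of_mem hp]; exact Nat.Odd.sub_odd ho odd_one), ?_⟩
    rw [join_moved_ne S hp' hf, Finset.card_insert_of_notMem (by simpa [mem_supp] using hf)]
    omega

/-- one more position in characteristic two -/
theorem Slice.step_two (h2 : (2 : F) = 0) (h5 : 5 ≤ Fintype.card σ) {S : ρ → Ty} (hS : Has G T S)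
    (hnk : ∀ i, S i ≠ .k) (hm : 2 ≤ (supp S).card) (hlt : (supp S).card < Fintype.card ρ) :
    ∃ S', Has G T S' ∧ (supp S).card < (supp S').card := by
  obtain ⟨f, hf⟩ := exists_free S hlt
  have hl : ∀ i, S i ≠ .o → S i = .l := fun i hi => by
    cases h : S i with
    | o => exact absurd h hi
    | k => exact absurd h (hnk i)
    | l => rfl
  obtain ⟨p, hp, r, hr, hpr⟩ := Finset.one_lt_card.1 hm
  have hp' := mem_supp.1 hp
  have hr' := mem_supp.1 hr
  have hS' := hT.move_same hG hS hp' hf hpr.symm (by rw [hl r hr', hl p hp'])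
  obtain ⟨hc, -⟩ := compat_moved S hp' hf
  have hrf : r ≠ f := fun h => hr' (h ▸ hf)
  refine ⟨_, jordan_open_l T hG hT.inv hT.jor h5 hS hS' hc (p := r) (hl r hr')
    (by rw [moved_of_ne S hpr.symm hrf, hl r hr']) (Or.inl h2), ?_⟩
  refine Finset.card_lt_card (Finset.ssubset_iff.2 ⟨f, by simpa [mem_supp] using hf, fun i hi => ?_⟩)
  rw [mem_supp]
  by_cases hir : i = r
  · simp [hir]
  · rw [Function.update_of_ne hir]
    have h := (Finset.ext_iff.1 (join_moved_ne S hp' hf) i).2 hi
    rwa [mem_supp] at h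

/-- two more positions in dimension two -/
theorem Slice.step_small (h2 : (2 : F) ≠ 0) [Nonempty σ] {S : ρ → Ty} (hS : Has G T S) (hnl : ∀ i, S i ≠ .l)
    (hne : (supp S).Nonempty) (hlt : (supp S).card + 2 ≤ Fintype.card ρ) :
    ∃ S', Has G T S' ∧ (∀ i, S' i ≠ .l) ∧ (supp S).card < (supp S').card := by
  have he : Even (supp S).card := has_even T hG hT.inv h2 hT.adj_eq hS hnl
  obtain ⟨f, g, hfg, hf, hg⟩ := exists_free_two S hlt
  obtain ⟨p, hp, r, hr, hpr⟩ := Finset.one_lt_card.1 (show 1 < (supp S).card by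
    obtain ⟨c, hc⟩ := he
    have := hne.card_pos
    omega)
  have hp' := mem_supp.1 hp
  have hr' := mem_supp.1 hr
  have hpf : p ≠ f := fun h => hp' (h ▸ hf)
  have hrg : r ≠ g := fun h => hr' (h ▸ hg)
  have hpg : p ≠ g := fun h => hp' (h ▸ hg)
  have hrf : r ≠ f := fun h => hr' (h ▸ hf)
  set π := Equiv.swap p f * Equiv.swap r g with hπ
  have hS' := hT.perm π (by rw [hπ, map_mul, Equiv.Perm.sign_swap hpf, Equiv.Perm.sign_swap hrg]; rfl) S hS
  have hsy : ∀ i, π.symm i = Equiv.swap r g (Equiv.swap p f i) := fun i => rfl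
  have e1 : S (π.symm p) = .o := by
    rw [hsy, Equiv.swap_apply_left, Equiv.swap_apply_of_ne_of_ne hrf.symm hfg, hf]
  have e2 : S (π.symm r) = .o := by
    rw [hsy, Equiv.swap_apply_of_ne_of_ne hpr.symm hrf, Equiv.swap_apply_left, hg]
  have e3 : S (π.symm f) = S p := by
    rw [hsy, Equiv.swap_apply_right, Equiv.swap_apply_of_ne_of_ne hpr hpg]
  have e4 : S (π.symm g) = S r := by
    rw [hsy, Equiv.swap_apply_of_ne_of_ne hpg.symm hfg.symm, Equiv.swap_apply_right]
  have e5 : ∀ i, i ≠ p → i ≠ r → i ≠ f → i ≠ g → S (π.symm i) = S i := fun i a b c d => by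
    rw [hsy, Equiv.swap_apply_of_ne_of_ne a c, Equiv.swap_apply_of_ne_of_ne b d]
  have hk : ∀ i, S i ≠ .o → S i = .k := fun i hi => by
    cases h : S i with
    | o => exact absurd h hi
    | k => rfl
    | l => exact absurd h (hnl i)
  refine ⟨_, jordan_closed T hG hT.inv hT.jor hS hS' (fun i => ?_) (Or.inr fun i => ⟨hnl i, hnl _⟩)
    ⟨⟨p, hp'⟩, f, by rw [e3]; exact hp'⟩ (Or.inr ⟨⟨p, hp', e1⟩, f, by rw [e3]; exact hp', hf⟩) h2 ?_,
    fun i => ?_, ?_⟩
  · by_cases h : S i = .o
    · exact Or.inl h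
    by_cases h' : S (π.symm i) = .o
    · exact Or.inr (Or.inl h')
    exact Or.inr (Or.inr (by rw [hk i h, hk _ h']))
  · have : both S (fun i => S (π.symm i)) = ((supp S).erase p).erase r := by
      ext i
      simp only [both, Finset.mem_filter, Finset.mem_univ, true_and, Finset.mem_erase, mem_supp]
      by_cases a : i = p
      · subst a; simp [e1]
      by_cases b : i = r
      · subst b; simp [e2]
      by_cases c : i = f
      · subst c; simp [hf]
      by_cases d : i = g
      · subst d; simp [hg]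
      simp [e5 i a b c d, a, b]
    rw [this, Finset.card_erase_of_mem (Finset.mem_erase.2 ⟨hpr.symm, hr⟩), Finset.card_erase_of_mem hp]
    obtain ⟨c, hc⟩ := he
    exact ⟨c - 1, by omega⟩
  · simp only [joinTy]
    split_ifs
    · exact hnl _
    · exact hnl i
    · decide
  · refine Finset.card_lt_card (Finset.ssubset_iff.2 ⟨f, by simpa [mem_supp] using hf, fun i hi => ?_⟩)
    rw [supp_join, Finset.mem_union]
    rcases Finset.mem_insert.1 hi with rfl | h
    · exact Or.inr (mem_supp.2 (by rw [e3]; exact hp'))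
    · exact Or.inl h

omit hG hT in
/-- a largest pattern with a property closed under enlarging -/
theorem exists_largest {P : (ρ → Ty) → Prop} {S : ρ → Ty} (hS : P S) (hne : (supp S).Nonempty) {n : ℕ}
    (step : ∀ S, P S → (supp S).Nonempty → (supp S).card + n ≤ Fintype.card ρ →
      ∃ S', P S' ∧ (supp S).card < (supp S').card) :
    ∃ S', P S' ∧ (supp S').Nonempty ∧ Fintype.card ρ < (supp S').card + n := by
  suffices H : ∀ (d : ℕ) (S : ρ → Ty), P S → (supp S).Nonempty → Fintype.card ρ - (supp S).card ≤ d →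
      ∃ S', P S' ∧ (supp S').Nonempty ∧ Fintype.card ρ < (supp S').card + n from H _ S hS hne le_rfl
  intro d
  induction d with
  | zero =>
    intro S hS hne hd
    by_cases h : (supp S).card + n ≤ Fintype.card ρ
    · obtain ⟨S', -, hlt⟩ := step S hS hne h
      have := supp_card_le S'
      omega
    · exact ⟨S, hS, hne, by omega⟩
  | succ d ih =>
    intro S hS hne hd
    by_cases h : (supp S).card + n ≤ Fintype.card ρ
    · obtain ⟨S', hS', hlt⟩ := step S hS hne h
      exact ih S' hS' (Finset.card_pos.1 (by omega)) (by omega)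
    · exact ⟨S, hS, hne, by omega⟩

omit hT in
/-- in characteristic two all root maps may be removed -/
theorem Slice.to_l (hT : Slice G T) (h2 : (2 : F) = 0) (h3 : 3 ≤ Fintype.card σ) {S : ρ → Ty} (hS : Has G T S) :
    ∃ S', Has G T S' ∧ supp S' = supp S ∧ ∀ i, S' i ≠ .k := by
  suffices H : ∀ t : Finset ρ, ∃ S', Has G T S' ∧ supp S' = supp S ∧ ∀ i ∈ t, S' i ≠ .k by
    obtain ⟨S', a, b, c⟩ := H Finset.univ
    exact ⟨S', a, b, fun i => c i (Finset.mem_univ i)⟩
  intro t
  induction t using Finset.induction with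
  | empty => exact ⟨S, hS, rfl, by simp⟩
  | @insert p t hp ih =>
    obtain ⟨S', hS', hsupp, hnk⟩ := ih
    by_cases hk : S' p = .k
    · refine ⟨_, has_k_to_l T hG hT.inv h2 h3 hS' hk, ?_, fun i hi => ?_⟩
      · rw [← hsupp]
        ext i
        by_cases h : i = p
        · subst h; simp [mem_supp, hk]
        · simp [mem_supp, h]
      · by_cases h : i = p
        · subst h; simp
        · simpa [h] using hnk i ((Finset.mem_insert.1 hi).resolve_left h)
    · refine ⟨S', hS', hsupp, fun i hi => ?_⟩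
      rcases Finset.mem_insert.1 hi with rfl | h
      · exact hk
      · exact hnk i h

end Abstract

/-! ### the overgroup -/

variable {κ : Type} [Fintype κ] [DecidableEq κ]

variable (G) in
/-- all monomials of the given types give members -/
def HasM (M : Subgroup (GL (κ → σ) F)) (S : κ → Ty) : Prop :=
  ∀ A : κ → Matrix σ σ F, (∀ i, IsTy G (S i) (A i)) → ∀ c : F, Mem M (1 + c • ten A)

variable (M : Subgroup (GL (κ → σ) F)) (hG : Alt G)
  (hle : M ≤ iso (GG G κ)) (hsl : ∀ i, ∀ g ∈ iso G, slot i g ∈ M)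
  (hev : ∀ π : Equiv.Perm κ, Equiv.Perm.sign π = 1 → pmGL π ∈ M)

omit hG in
theorem mem_conj {M : Subgroup (GL (κ → σ) F)} {h : GL (κ → σ) F} (hh : h ∈ M) {X : Matrix (κ → σ) (κ → σ) F}
    (hX : Mem M (1 + X)) :
    Mem M (1 + (h : Matrix (κ → σ) (κ → σ) F) * X * ((h⁻¹ : GL (κ → σ) F) : Matrix (κ → σ) (κ → σ) F)) := by
  obtain ⟨g, hg, hgv⟩ := hX
  exact ⟨h * g * h⁻¹, mul_mem (mul_mem hh hg) (inv_mem hh), by
    rw [Units.val_mul, Units.val_mul, hgv, mul_add, Matrix.mul_one, add_mul, ← Units.val_mul, mul_inv_cancel,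
      Units.val_one]⟩

include hsl in
theorem tenGL_mem {L : κ → GL σ F} (hL : ∀ i, L i ∈ iso G) : tenGL L ∈ M := by
  classical
  suffices ∀ s : Finset κ, tenGL (s.piecewise L 1) ∈ M by simpa using this Finset.univ
  intro s
  induction s using Finset.induction with
  | empty => rw [Finset.piecewise_empty, map_one]; exact one_mem _
  | @insert a s ha ih =>
    have e : (insert a s).piecewise L 1 = put a (L a) 1 * s.piecewise L 1 := by
      funext j
      by_cases h : j = a
      · subst h; simp [ha]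
      · simp [h, put, Finset.piecewise]
    rw [e, map_mul]
    exact mul_mem (hsl a _ (hL a)) ih

variable [Finite F]

/-- the space next to the root maps of a position -/
def TT (j : κ) : Submodule F (Matrix (oth j → σ) (oth j → σ) F) := Tsp (sub j M) hG

include hsl in
theorem kr_mem (j : κ) (g : GL σ F) (hg : g ∈ iso G) : kr (g, (1 : GL (oth j → σ) F)) ∈ sub j M := by
  rw [mem_sub, spl_kr_one]; exact hsl j g hg

include hsl

theorem tt_conj {j : κ} {h : GL (oth j → σ) F} (hh : spl F σ j (kr ((1 : GL σ F), h)) ∈ M)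
    {X : Matrix (oth j → σ) (oth j → σ) F} (hX : X ∈ TT M hG j) :
    (h : Matrix (oth j → σ) (oth j → σ) F) * X * ((h⁻¹ : GL (oth j → σ) F) : Matrix (oth j → σ) (oth j → σ) F) ∈
      TT M hG j := fun e he => by
  obtain ⟨g, hg, hgv⟩ := hX e he
  refine ⟨kr (1, h) * g * (kr (1, h))⁻¹, mul_mem (mul_mem (mem_sub.2 hh) hg) (inv_mem (mem_sub.2 hh)), ?_⟩
  rw [← map_inv, Prod.inv_mk, inv_one, Units.val_mul, Units.val_mul, hgv, kr_val, kr_val, Units.val_one, mul_add,
    add_mul, Matrix.mul_one, ← Matrix.mul_kronecker_mul, ← Matrix.mul_kronecker_mul, ← Matrix.mul_kronecker_mul,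
    Matrix.one_mul, Matrix.one_mul, Matrix.mul_one, ← Units.val_mul, mul_inv_cancel, Units.val_one,
    Matrix.one_kronecker_one]

theorem hasM_iff (j : κ) {S : κ → Ty} (hj : S j = .k) :
    HasM G M S ↔ Has G (TT M hG j) fun i : oth j => S i := by
  constructor
  · intro h A hA e he
    obtain ⟨g, hg, hgv⟩ := h (put j (K G e e) A) (fun i => by
      by_cases hi : i = j
      · subst hi; rw [put_self, hj]; exact ⟨e, he, rfl⟩
      · rw [show put j (K G e e) A i = A ⟨i, hi⟩ from dif_neg hi]; exact hA ⟨i, hi⟩) 1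
    refine ⟨(spl F σ j).symm g, by rw [mem_sub, MulEquiv.apply_symm_apply]; exact hg, (splM F σ j).injective ?_⟩
    rw [← spl_val, MulEquiv.apply_symm_apply, hgv, ← one_smul F (K G e e ⊗ₖ ten A), splM_one_add]
  · intro h A hA c
    obtain ⟨e, he, hAj⟩ : IsTy G .k (A j) := hj ▸ hA j
    obtain ⟨g, hg, hgv⟩ := (TT M hG j).smul_mem c (h (fun i : oth j => A i) fun i => hA i) e he
    refine ⟨spl F σ j g, hg, ?_⟩
    rw [spl_val, hgv, kron_smul, splM_one_add, ← hAj, put_restrict]

theorem HasM.perm {S : κ → Ty} (hS : HasM G M S) {π : Equiv.Perm κ} (hπ : pmGL π ∈ M) :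
    HasM G M fun i => S (π.symm i) := by
  intro A hA c
  have h := hS (fun i => A (π i)) (fun i => by simpa using hA (π i)) c
  have h' := mem_conj hπ h
  rwa [← map_inv, pmGL_val, pmGL_val, Matrix.mul_smul, Matrix.smul_mul, pm_conj_ten,
    show (fun i => A (π i)) ∘ π.symm = A from funext fun i => by simp] at h'

include hle hev in
theorem tt_slice [Nonempty σ] (j : κ) : Slice G (TT M hG j) where
  inv L hL X hX := by
    refine tt_conj M hG hsl ?_ hX
    rw [spl_kr]
    refine tenGL_mem M hsl fun i => ?_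
    by_cases hi : i = j
    · subst hi; rw [put_self]; exact one_mem _
    · rw [show put j (1 : GL σ F) L i = L ⟨i, hi⟩ from dif_neg hi]; exact hL _
  jor C hC C' hC' := tsp_jordan hG (fun g hg => kr_mem M hsl j g hg) hC hC'
  perm π hπ S hS := by
    have h := ((hasM_iff M hG hsl j (S := put j .k S) (put_self _ _ _)).2 (by simpa using hS)).perm M hsl
      (π := extP j π) (hev _ (by rw [extP, Equiv.Perm.sign_ofSubtype]; exact hπ))
    have e : (extP j π).symm = extP j π.symm := by
      show (extP j π)⁻¹ = extP j π⁻¹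
      rw [extP, extP, map_inv]
    have hj : put j Ty.k S ((extP j π).symm j) = .k := by
      rw [e, extP, Equiv.Perm.ofSubtype_apply_of_not_mem _ (by simp), put_self]
    convert (hasM_iff M hG hsl j hj).1 h using 2 with i
    rw [e, extP, Equiv.Perm.ofSubtype_apply_coe, put_oth]
  adj_eq C hC := by
    have he : (fun _ => 1 : σ → F) ≠ 0 := Function.ne_iff.2 ⟨Classical.arbitrary σ, one_ne_zero⟩
    obtain ⟨g, hg, hgv⟩ := hC _ he
    have hiso := spl_mem_iso.1 (hle hg)
    have hF := kron_isForm hG.isForm (gg_isForm (κ := oth j) hG.isForm)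
    set e : σ → F := fun _ => 1
    have hinv' : ((g⁻¹ : GL (σ × (oth j → σ)) F) : Matrix (σ × (oth j → σ)) (σ × (oth j → σ)) F) =
        1 + -(K G e e ⊗ₖ C) := by
      rw [Matrix.coe_units_inv, hgv]
      refine Matrix.inv_eq_left_inv ?_
      simp only [add_mul, mul_add, Matrix.one_mul, Matrix.mul_one, Matrix.neg_mul, ← Matrix.mul_kronecker_mul,
        hG.K_sq, Matrix.zero_kronecker]
      abel
    have h1 := adj_of_iso hF hiso
    rw [hinv', hgv, adj_add, adj_one hF, adj_kron hG.isForm (gg_isForm hG.isForm), hG.adj_K, neg_kron] at h1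
    exact kron_injective_right (fun h0 => he ((K_eq_zero hG.isForm h0).elim id id)) (neg_injective (add_left_cancel h1))

theorem tt_all [Nonempty σ] (hall : ∀ π : Equiv.Perm κ, pmGL π ∈ M) (j : κ) :
    ∀ π : Equiv.Perm (oth j), ∀ S, Has G (TT M hG j) S → Has G (TT M hG j) fun i => S (π.symm i) := fun π S hS => by
  have h := ((hasM_iff M hG hsl j (S := put j .k S) (put_self _ _ _)).2 (by simpa using hS)).perm M hsl
    (π := extP j π) (hall _)
  have e : (extP j π).symm = extP j π.symm := by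
    show (extP j π)⁻¹ = extP j π⁻¹
    rw [extP, extP, map_inv]
  have hj : put j Ty.k S ((extP j π).symm j) = .k := by
    rw [e, extP, Equiv.Perm.ofSubtype_apply_of_not_mem _ (by simp), put_self]
  convert (hasM_iff M hG hsl j hj).1 h using 2 with i
  rw [e, extP, Equiv.Perm.ofSubtype_apply_coe, put_oth]

/-- a root-like monomial gives a pattern next to a root map -/
theorem exists_start (hts : ¬ TS G M) :
    ∃ (j : κ) (S : oth j → Ty), Has G (TT M hG j) S ∧ (supp S).Nonempty ∧ ∀ i, ∃ X, IsTy G (S i) X := by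
  rw [TS] at hts
  push Not at hts
  obtain ⟨X, hX, j, p, hjp, ⟨w, hw, hXj⟩, hXp, c, hc, hmem⟩ := hts
  have hty : ∀ i : oth j, ∃ τ, IsTy G τ (X i) := fun i => by
    rcases hX i with h | h | h
    · exact ⟨.o, h⟩
    · exact ⟨.k, h⟩
    · exact ⟨.l, h⟩
  choose S hS using hty
  refine ⟨j, S, has_of_mem (TT M hG j) hG (fun L hL Y hY => ?_) hS hc ?_, ⟨⟨p, hjp.symm⟩, mem_supp.2 fun h0 => ?_⟩, fun i => ⟨_, hS i⟩⟩
  · refine tt_conj M hG hsl ?_ hY
    rw [spl_kr]
    refine tenGL_mem M hsl fun i => ?_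
    by_cases hi : i = j
    · subst hi; rw [put_self]; exact one_mem _
    · rw [show put j (1 : GL σ F) L i = L ⟨i, hi⟩ from dif_neg hi]; exact hL _
  · refine mem_tsp_of hG (fun g hg => kr_mem M hsl j g hg) hw ?_
    obtain ⟨g, hg, hgv⟩ := hmem
    refine ⟨(spl F σ j).symm g, by rw [mem_sub, MulEquiv.apply_symm_apply]; exact hg, (splM F σ j).injective ?_⟩
    rw [← spl_val, MulEquiv.apply_symm_apply, hgv, kron_smul, splM_one_add, ← hXj, put_restrict]
  · have := hS ⟨p, hjp.symm⟩
    rw [h0] at this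
    exact hXp this

include hG in
/-- from two positions to three in any characteristic -/
theorem hasM_three (h3 : 3 ≤ Fintype.card σ) {j p f : κ} (hjp : j ≠ p) (hjf : j ≠ f) (hpf : p ≠ f)
    (hev' : pmGL (Equiv.swap j f * Equiv.swap j p) ∈ M)
    (h : HasM G M (Function.update (Function.update (fun _ => Ty.o) j .k) p .l)) :
    HasM G M (Function.update (Function.update (Function.update (fun _ => Ty.o) j .k) p .l) f .l) := by
  haveI : Nonempty σ := Fintype.card_pos_iff.1 (by omega)
  intro B hB d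
  have hk : IsTy G .k (B j) := by simpa [hjp, hjf] using hB j
  have hlp : IsTy G .l (B p) := by simpa [hpf] using hB p
  have hlf : IsTy G .l (B f) := by simpa using hB f
  have ho : ∀ i, i ≠ j → i ≠ p → i ≠ f → B i = 1 := fun i a b c => by
    have h' := hB i
    simp only [Function.update_of_ne c, Function.update_of_ne b, Function.update_of_ne a] at h'
    exact h'
  obtain ⟨X, a, b, hab, hs, hb, hX⟩ := exists_isTy_l hG h3
  obtain ⟨z, hbz, haz⟩ := exists_perp_dual hG hs
  have hba : fm G b a = 0 := by rw [hG.fm_swap a b, hab, neg_zero]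
  have hza : fm G z a = -1 := by rw [hG.fm_swap a z, haz]
  have hzb : fm G z b = 0 := by rw [hG.fm_swap b z, hbz, neg_zero]
  have hz0 : z ≠ 0 := fun h0 => by rw [h0, fm_zero_right] at haz; exact zero_ne_one haz
  set C := K G z z with hC
  have hXC : X * C - C * X = Lam G b z := by
    simp only [hX, hC, Lam, sub_mul, mul_sub, K_mul_K, hzb, hza, haz, hbz, zero_smul, one_smul, neg_smul,
      sub_zero, zero_sub, neg_neg]
  have hD : Mem M (1 + d • ten (Function.update (Function.update (fun _ => (1 : Matrix σ σ F)) j (B j)) p X)) := by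
    refine h _ (fun i => ?_) d
    by_cases a1 : i = p
    · subst a1; simp [hX]; exact ⟨a, b, hab, hs, hb, rfl⟩
    by_cases a2 : i = j
    · subst a2; simpa [a1] using hk
    simp [a1, a2, IsTy]
  have hD' : Mem M (1 + (1 : F) • ten (Function.update (Function.update (fun _ => (1 : Matrix σ σ F)) p C) f (B f))) := by
    refine (h.perm M hsl hev') _ (fun i => ?_) 1
    beta_reduce
    rw [show (Equiv.swap j f * Equiv.swap j p).symm i = Equiv.swap j p (Equiv.swap j f i) from rfl]
    by_cases a1 : i = f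
    · subst a1
      simpa [hjp] using hlf
    by_cases a2 : i = p
    · subst a2
      rw [Equiv.swap_apply_of_ne_of_ne hjp.symm a1, Equiv.swap_apply_right]
      simp [hjp, a1, IsTy, hC]
      exact ⟨z, hz0, rfl⟩
    by_cases a3 : i = j
    · subst a3
      rw [Equiv.swap_apply_left, Equiv.swap_apply_of_ne_of_ne hjf.symm hpf.symm]
      simp [hjp, hjf, hjf.symm, hpf.symm, IsTy]
    rw [Equiv.swap_apply_of_ne_of_ne a3 a1, Equiv.swap_apply_of_ne_of_ne a3 a2]
    simp [a1, a2, a3, IsTy]
  set U := Function.update (Function.update (fun _ => (1 : Matrix σ σ F)) j (B j)) p X with hU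
  set V := Function.update (Function.update (fun _ => (1 : Matrix σ σ F)) p C) f (B f) with hV
  have hXl : IsTy G .l X := ⟨a, b, hab, hs, hb, hX⟩
  have uj : U j = B j := by simp [hU, hjp]
  have up : U p = X := by simp [hU]
  have uf : U f = 1 := by simp [hU, hjf.symm, hpf.symm]
  have vj : V j = 1 := by simp [hV, hjp, hjf]
  have vf : V f = B f := by simp [hV]
  have sU : ten U * ten U = 0 := by
    rw [← map_mul]; exact ten_eq_zero _ (i := j) (by rw [Pi.mul_apply, uj]; exact IsTy.sq hG hk (by decide))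
  have sV : ten V * ten V = 0 := by
    rw [← map_mul]; exact ten_eq_zero _ (i := f) (by rw [Pi.mul_apply, vf]; exact IsTy.sq hG hlf (by decide))
  have n1 : ten U * ten V * ten U = 0 := by
    rw [← map_mul, ← map_mul]
    exact ten_eq_zero _ (i := j) (by
      rw [Pi.mul_apply, Pi.mul_apply, uj, vj, Matrix.mul_one]; exact IsTy.sq hG hk (by decide))
  have n2 : ten V * ten U * ten V = 0 := by
    rw [← map_mul, ← map_mul]
    exact ten_eq_zero _ (i := f) (by
      rw [Pi.mul_apply, Pi.mul_apply, uf, vf, Matrix.mul_one]; exact IsTy.sq hG hlf (by decide))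
  have h' := mem_comm (D := d • ten U) (D' := (1 : F) • ten V)
    (by rw [Matrix.smul_mul, Matrix.mul_smul, sU, smul_zero, smul_zero])
    (by rw [one_smul, sV]) (by rw [one_smul, Matrix.smul_mul, Matrix.smul_mul, Matrix.mul_smul, n1, smul_zero,
      smul_zero])
    (by rw [one_smul, Matrix.mul_smul, Matrix.smul_mul, n2, smul_zero]) hD hD'
  rw [one_smul, Matrix.smul_mul, Matrix.mul_smul, ← smul_sub, ← map_mul, ← map_mul] at h'
  have e1 : U * V = Function.update B p (X * C) := by
    funext i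
    by_cases a1 : i = p
    · subst a1; simp [hU, hV, hpf]
    by_cases a2 : i = j
    · subst a2; simp [uj, vj, a1]
    by_cases a3 : i = f
    · subst a3; simp [uf, vf, a1]
    simp [hU, hV, a1, a2, a3, ho i a2 a1 a3]
  have e2 : V * U = Function.update B p (C * X) := by
    funext i
    by_cases a1 : i = p
    · subst a1; simp [hU, hV, hpf]
    by_cases a2 : i = j
    · subst a2; simp [uj, vj, a1]
    by_cases a3 : i = f
    · subst a3; simp [uf, vf, a1]
    simp [hU, hV, a1, a2, a3, ho i a2 a1 a3]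
  have e3 : ten (Function.update B p (X * C)) - ten (Function.update B p (C * X)) =
      ten (Function.update B p (Lam G b z)) := by
    rw [sub_eq_iff_eq_add, ← ten_update_add, ← hXC, sub_add_cancel]
  rw [e1, e2, e3] at h'
  obtain ⟨g, hg, hgv⟩ := IsTy.conj hG (show IsTy G .l (Lam G b z) from
    ⟨b, z, hbz, fun hm => by
      obtain ⟨r, hr⟩ := Submodule.mem_span_singleton.1 hm
      have h0 := congrArg (fun v => fm G v a) hr
      simp only [fm_smul_left, hza, hba] at h0
      have hr0 : r = 0 := by linear_combination -h0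
      exact hb (by rw [← hr, hr0, zero_smul]), hz0, rfl⟩) hlp
  have h'' := mem_conj (hsl p g hg) h'
  rw [Matrix.mul_smul, Matrix.smul_mul, slot, tenGL_conj_ten] at h''
  convert h'' using 5 with i
  by_cases a1 : i = p
  · subst a1; rw [put_self, Function.update_self, hgv]
  · simp [a1, put]

include hev in
/-- all but one position root maps, for every position -/
theorem hasM_all_pos {τ : Ty} (h3 : 3 ≤ Fintype.card κ) {p : κ}
    (h : HasM G M (Function.update (fun _ => Ty.k) p τ)) (o : κ) :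
    HasM G M (Function.update (fun _ => Ty.k) o τ) := by
  rcases eq_or_ne o p with rfl | hop
  · exact h
  obtain ⟨r, hro, hrp⟩ : ∃ r, r ≠ o ∧ r ≠ p := by
    by_contra! hc
    have hsub : (Finset.univ : Finset κ) ⊆ {o, p} := fun i _ => by
      by_cases hi : i = o
      · simp [hi]
      · simp [hc i hi]
    have := (Finset.card_le_card hsub).trans Finset.card_le_two
    rw [Finset.card_univ] at this
    omega
  convert h.perm M hsl (hev (Equiv.swap p r * Equiv.swap p o)
    (by rw [map_mul, Equiv.Perm.sign_swap hrp.symm, Equiv.Perm.sign_swap hop.symm]; rfl)) using 1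
  funext i
  rw [show (Equiv.swap p r * Equiv.swap p o).symm i = Equiv.swap p o (Equiv.swap p r i) from rfl]
  by_cases hi : i = o
  · subst hi
    rw [Equiv.swap_apply_of_ne_of_ne hop hro.symm, Equiv.swap_apply_right, Function.update_self, Function.update_self]
  rw [Function.update_of_ne hi, Function.update_of_ne]
  intro hp
  apply hi
  have := congrArg (Equiv.swap p r ∘ Equiv.swap p o) hp
  simp only [Function.comp, Equiv.swap_apply_self] at this
  rw [this, Equiv.swap_apply_left, Equiv.swap_apply_of_ne_of_ne hop hro.symm]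

/-- a pattern of factors of type `l` next to a root map -/
theorem hasM_open_j {j : κ} (h3 : 3 ≤ Fintype.card σ) (hpar : (2 : F) = 0 ∨ Odd (Fintype.card (oth j)))
    (hS : Has G (TT M hG j) fun _ => Ty.l) (hne : Nonempty (oth j)) :
    HasM G M (Function.update (fun _ => Ty.k) j .l) := by
  intro B hB d
  obtain ⟨X, Y, Z, hX, hY, hZk, hXY, hYX, hXYX, hYXY⟩ := exists_ll hG h3
  obtain ⟨i₀⟩ := hne
  have hinv : ∀ L : oth j → GL σ F, (∀ i, L i ∈ iso G) → ∀ W ∈ TT M hG j,
      (tenGL L : Matrix (oth j → σ) (oth j → σ) F) * W * (((tenGL L)⁻¹ : GL (oth j → σ) F) : Matrix _ _ F) ∈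
        TT M hG j := fun L hL W hW => by
    refine tt_conj M hG hsl ?_ hW
    rw [spl_kr]
    refine tenGL_mem M hsl fun i => ?_
    by_cases hi : i = j
    · subst hi; rw [put_self]; exact one_mem _
    · rw [show put j (1 : GL σ F) L i = L ⟨i, hi⟩ from dif_neg hi]; exact hL _
  have hCC : ten (fun _ : oth j => X) * ten (fun _ : oth j => X) = 0 := by
    rw [← map_mul]; exact ten_eq_zero _ (i := i₀) (IsTy.sq hG hX (by decide))
  have hanti : ten (fun _ : oth j => Y) * ten (fun _ : oth j => X) =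
      -(ten (fun _ : oth j => X) * ten (fun _ : oth j => Y)) := by
    have hsg : ((-1 : F) ^ Fintype.card (oth j)) = -1 := by
      rcases hpar with h2 | ho
      · rw [show (-1 : F) = 1 by linear_combination -h2, one_pow]
      · exact ho.neg_one_pow
    rw [← map_mul, ← map_mul,
      show (fun _ : oth j => Y) * (fun _ : oth j => X) = fun _ => (-1 : F) • Z from
        funext fun _ => by rw [Pi.mul_apply, hYX, neg_one_smul],
      show (fun _ : oth j => X) * (fun _ : oth j => Y) = fun _ => Z from funext fun _ => hXY,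
      ten_smul_all, hsg, neg_one_smul]
  have hj : IsTy G .l (B j) := by simpa using hB j
  have hB' : ∀ i : oth j, IsTy G .k (B i) := fun i => by simpa [i.2] using hB i
  obtain ⟨g, hg, hgv⟩ := tsp_open hG (fun g hg => kr_mem M hsl j g hg) h3
    ((TT M hG j).smul_mem d (hS (fun _ => X) fun _ => hX)) (hS (fun _ => Y) fun _ => hY)
    (by rw [Matrix.smul_mul, Matrix.mul_smul, hCC, smul_zero, smul_zero])
    (by rw [← map_mul]; exact ten_eq_zero _ (i := i₀) (IsTy.sq hG hY (by decide)))
    (by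
      rw [Matrix.smul_mul, Matrix.smul_mul, Matrix.mul_smul, ← map_mul, ← map_mul]
      rw [ten_eq_zero _ (i := i₀) (by simpa using hXYX), smul_zero, smul_zero])
    (by
      rw [Matrix.mul_smul, Matrix.smul_mul, ← map_mul, ← map_mul]
      rw [ten_eq_zero _ (i := i₀) (by simpa using hYXY), smul_zero])
    (by rw [Matrix.mul_smul, Matrix.smul_mul, hanti, smul_neg]) hj
  choose L hL hLv using fun i : oth j => IsTy.conj hG hZk (hB' i)
  have hh : spl F σ j (kr ((1 : GL σ F), tenGL L)) ∈ M := by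
    rw [spl_kr]
    refine tenGL_mem M hsl fun i => ?_
    by_cases hi : i = j
    · subst hi; rw [put_self]; exact one_mem _
    · rw [show put j (1 : GL σ F) L i = L ⟨i, hi⟩ from dif_neg hi]; exact hL _
  refine ⟨spl F σ j (kr (1, tenGL L) * g * (kr (1, tenGL L))⁻¹), by
    rw [map_mul, map_mul, map_inv]
    exact mul_mem (mul_mem hh (mem_sub.1 hg)) (inv_mem hh), ?_⟩
  rw [spl_val, ← map_inv, Prod.inv_mk, inv_one, Units.val_mul, Units.val_mul, hgv, kr_val, kr_val, Units.val_one,
    mul_add, add_mul, Matrix.mul_one, ← Matrix.mul_kronecker_mul, ← Matrix.mul_kronecker_mul,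
    ← Matrix.mul_kronecker_mul, Matrix.one_mul, Matrix.one_mul, Matrix.mul_one, ← Units.val_mul, mul_inv_cancel,
    Units.val_one, Matrix.one_kronecker_one, Matrix.smul_mul, Matrix.mul_smul, Matrix.smul_mul, kron_smul, ← map_mul,
    tenGL_conj_ten, splM_one_add]
  congr 3
  funext i
  by_cases hi : i = j
  · subst hi; rw [put_self]
  · rw [show ∀ R : oth j → Matrix σ σ F, put j (B j) R i = R ⟨i, hi⟩ from fun R => dif_neg hi]
    simp only [Pi.mul_apply, hXY]
    exact hLv ⟨i, hi⟩

omit hsl in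
theorem card_oth_eq (j : κ) : Fintype.card (oth j) = Fintype.card κ - 1 := by
  show Fintype.card {i // ¬ i = j} = _
  rw [Fintype.card_subtype_compl, Fintype.card_subtype_eq]

omit hsl in
theorem eq_const_of_full {ρ : Type} [Fintype ρ] [DecidableEq ρ] {S : ρ → Ty} {τ : Ty}
    (h : Fintype.card ρ ≤ (supp S).card) (hτ : ∀ i, S i ≠ .o → S i = τ) : S = fun _ => τ := by
  have hu : supp S = Finset.univ := Finset.eq_univ_of_card _ (le_antisymm (supp_card_le S) h)
  exact funext fun i => hτ i (mem_supp.1 (hu ▸ Finset.mem_univ i))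

omit hsl in
theorem ty_eq {τ : Ty} (ho : τ ≠ .o) : (τ ≠ .l → τ = .k) ∧ (τ ≠ .k → τ = .l) := by
  cases τ with
  | o => exact absurd rfl ho
  | k => exact ⟨fun _ => rfl, fun h => absurd rfl h⟩
  | l => exact ⟨fun h => absurd rfl h, fun _ => rfl⟩

include hG hle hev

/-- all factors root maps, an odd number of positions -/
theorem exists_all_k [Nonempty σ] (h2 : (2 : F) ≠ 0) (ht : Odd (Fintype.card κ))
    (hall : ∀ π : Equiv.Perm κ, pmGL π ∈ M) (hts : ¬ TS G M) : HasM G M fun _ => Ty.k := by
  obtain ⟨j, S, hS, hne, hw⟩ := exists_start M hG hsl hts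
  have hT := tt_slice M hG hle hsl hev j
  have hρ : Even (Fintype.card (oth j)) := by
    rw [card_oth_eq]; exact Nat.Odd.sub_odd ht odd_one
  refine (hasM_iff M hG hsl j rfl).2 ?_
  suffices H : ∃ S', Has G (TT M hG j) S' ∧ Fintype.card (oth j) ≤ (supp S').card ∧ ∀ i, S' i ≠ .l by
    obtain ⟨S', h1, h2', h3'⟩ := H
    rwa [eq_const_of_full h2' fun i hi => (ty_eq hi).1 (h3' i)] at h1
  by_cases h3 : 3 ≤ Fintype.card σ
  · obtain ⟨S₁, hS₁, -, hfull⟩ := exists_largest (n := 1) hS hne fun S hS hne hlt =>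
      hT.step_odd hG h2 h3 (Or.inl (tt_all M hG hsl hall j)) hS hne (by omega)
    have hc : (supp S₁).card = Fintype.card (oth j) := le_antisymm (supp_card_le S₁) (by omega)
    obtain ⟨S', h1, h2', h3'⟩ := hT.to_k hG h2 h3 hS₁ (hc ▸ hρ)
    exact ⟨S', h1, by rw [h2', hc], h3'⟩
  · have hnl : ∀ i, S i ≠ .l := fun i hi => by
      obtain ⟨X, hX⟩ := hw i
      rw [hi] at hX
      exact h3 (three_le_of_l hG hX)
    obtain ⟨S₁, ⟨hS₁, hnl₁⟩, -, hfull⟩ :=
      exists_largest (P := fun S => Has G (TT M hG j) S ∧ ∀ i, S i ≠ .l) (n := 2) ⟨hS, hnl⟩ hne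
        fun S h hne hlt => by
          obtain ⟨S', a, b, c⟩ := hT.step_small hG h2 h.1 h.2 hne hlt
          exact ⟨S', ⟨a, b⟩, c⟩
    refine ⟨S₁, hS₁, ?_, hnl₁⟩
    obtain ⟨a, ha⟩ := has_even (TT M hG j) hG hT.inv h2 hT.adj_eq hS₁ hnl₁
    obtain ⟨b, hb⟩ := hρ
    omega

/-- one factor `1`, dimension two -/
theorem exists_end_o [Nonempty σ] (h2 : (2 : F) ≠ 0) (ht : Even (Fintype.card κ)) (hσ : ¬ 3 ≤ Fintype.card σ)
    (hts : ¬ TS G M) (o : κ) : HasM G M (Function.update (fun _ => Ty.k) o .o) := by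
  obtain ⟨j, S, hS, hne, hw⟩ := exists_start M hG hsl hts
  have hT := tt_slice M hG hle hsl hev j
  have hnl : ∀ i, S i ≠ .l := fun i hi => by
    obtain ⟨X, hX⟩ := hw i
    rw [hi] at hX
    exact hσ (three_le_of_l hG hX)
  obtain ⟨S₁, ⟨hS₁, hnl₁⟩, hne₁, hfull⟩ :=
    exists_largest (P := fun S => Has G (TT M hG j) S ∧ ∀ i, S i ≠ .l) (n := 2) ⟨hS, hnl⟩ hne
      fun S h hne hlt => by
        obtain ⟨S', a, b, c⟩ := hT.step_small hG h2 h.1 h.2 hne hlt
        exact ⟨S', ⟨a, b⟩, c⟩
  obtain ⟨a, ha⟩ := has_even (TT M hG j) hG hT.inv h2 hT.adj_eq hS₁ hnl₁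
  have hρ := card_oth_eq (κ := κ) j
  have hle₁ := supp_card_le S₁
  have hpos := hne₁.card_pos
  obtain ⟨b, hb⟩ := ht
  obtain ⟨q, hq⟩ := exists_free S₁ (by omega)
  refine hasM_all_pos M hsl hev (p := (q : κ)) (by omega)
    ((hasM_iff M hG hsl j (by simp [Ne.symm q.2])).2 ?_) o
  convert hS₁ using 1
  funext i
  by_cases hi : i = q
  · subst hi; simp [hq]
  · rw [Function.update_of_ne fun h => hi (Subtype.ext h)]
    refine ((ty_eq fun h0 => hi ?_).1 (hnl₁ i)).symm
    by_contra hne'
    have h1 : (supp S₁).card + 2 ≤ Fintype.card (oth j) := by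
      have hsub : supp S₁ ⊆ (Finset.univ.erase q).erase i := fun l hl => by
        rw [mem_supp] at hl
        refine Finset.mem_erase.2 ⟨fun e => hl (e ▸ h0), Finset.mem_erase.2 ⟨fun e => hl (e ▸ hq), Finset.mem_univ l⟩⟩
      have := Finset.card_le_card hsub
      rw [Finset.card_erase_of_mem (Finset.mem_erase.2 ⟨hne', Finset.mem_univ i⟩),
        Finset.card_erase_of_mem (Finset.mem_univ q), Finset.card_univ] at this
      omega
    omega

/-- a factor of type `l`, all other factors root maps -/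
theorem exists_end_l (h3 : 3 ≤ Fintype.card σ)
    (hcase : ((2 : F) ≠ 0 ∧ Even (Fintype.card κ)) ∨ ((2 : F) = 0 ∧ 5 ≤ Fintype.card σ)) (hts : ¬ TS G M) (o : κ) :
    HasM G M (Function.update (fun _ => Ty.k) o .l) := by
  haveI : Nonempty σ := Fintype.card_pos_iff.1 (by omega)
  obtain ⟨j, S, hS, hne, -⟩ := exists_start M hG hsl hts
  have hT := tt_slice M hG hle hsl hev j
  have hρ := card_oth_eq (κ := κ) j
  have hρpos : 0 < Fintype.card (oth j) := hne.card_pos.trans_le (supp_card_le S)
  have endL : ((2 : F) = 0 ∨ Odd (Fintype.card (oth j))) → Has G (TT M hG j) (fun _ => Ty.l) →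
      HasM G M (Function.update (fun _ => Ty.k) o .l) := fun hpar hl => by
    have hj := hasM_open_j M hG hsl h3 hpar hl (Fintype.card_pos_iff.1 hρpos)
    by_cases h : 3 ≤ Fintype.card κ
    · exact hasM_all_pos M hsl hev h hj o
    rcases eq_or_ne o j with rfl | hoj
    · exact hj
    refine (hasM_iff M hG hsl j (by simp [hoj.symm])).2 ?_
    convert hl using 1
    funext i
    have : Subsingleton (oth j) := Fintype.card_le_one_iff_subsingleton.1 (by omega)
    rw [Subsingleton.elim i ⟨o, hoj⟩]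
    simp
  rcases hcase with ⟨h2, ht⟩ | ⟨h2, h5⟩
  · have hodd : Odd (Fintype.card (oth j)) := by
      rw [hρ]; exact Nat.Even.sub_odd (by omega) ht odd_one
    obtain ⟨S₁, hS₁, -, hfull⟩ := exists_largest (n := 1) hS hne fun S hS hne hlt =>
      hT.step_odd hG h2 h3 (Or.inr hodd) hS hne (by omega)
    have hc : (supp S₁).card = Fintype.card (oth j) := le_antisymm (supp_card_le S₁) (by omega)
    by_cases hk : ∀ i, S₁ i ≠ .k
    · rw [eq_const_of_full hc.ge fun i hi => (ty_eq hi).2 (hk i)] at hS₁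
      exact endL (Or.inr hodd) hS₁
    push Not at hk
    obtain ⟨p, hp⟩ := hk
    obtain ⟨i, hi⟩ : ∃ i, S₁ i = .l := by
      by_contra! hno
      have := has_even (TT M hG j) hG hT.inv h2 hT.adj_eq hS₁ hno
      rw [hc] at this
      exact Nat.not_even_iff_odd.2 hodd this
    have hip : i ≠ p := fun e => by rw [e, hp] at hi; exact absurd hi (by decide)
    have hu : ∀ l, S₁ l ≠ .o := fun l => mem_supp.1
      ((Finset.eq_univ_of_card _ hc).symm ▸ Finset.mem_univ l)
    have hopen := jordan_open_k (TT M hG j) hG hT.inv hT.jor h3 hS₁ hS₁ (fun _ => Or.inr (Or.inr rfl)) hp hp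
      (Or.inl ⟨i, hip, hi, hi⟩) (Or.inr (by
        rwa [show both S₁ S₁ = supp S₁ by ext; simp [both, supp], hc]))
    have h2κ : 3 ≤ Fintype.card κ := by
      have : 1 < Fintype.card (oth j) := Fintype.one_lt_card_iff.2 ⟨i, p, hip⟩
      omega
    refine hasM_all_pos M hsl hev (p := (p : κ)) h2κ ((hasM_iff M hG hsl j (by simp [Ne.symm p.2])).2 ?_) o
    convert hopen using 1
    funext l
    by_cases hl : l = p
    · subst hl; simp
    · rw [Function.update_of_ne fun h => hl (Subtype.ext h), Function.update_of_ne hl]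
      simp [joinTy, hu l]
  · have stp : ∀ S, Has G (TT M hG j) S → (supp S).Nonempty → (supp S).card + 1 ≤ Fintype.card (oth j) →
        ∃ S', Has G (TT M hG j) S' ∧ (supp S).card < (supp S').card := by
      intro S hS hne hlt
      obtain ⟨S', hS', hsupp, hnk⟩ := hT.to_l hG h2 h3 hS
      rw [← hsupp] at hne hlt ⊢
      by_cases hm : 2 ≤ (supp S').card
      · exact hT.step_two hG h2 h5 hS' hnk hm (by omega)
      have hpos := hne.card_pos
      obtain ⟨p, hp⟩ := Finset.card_eq_one.1 (show (supp S').card = 1 by omega)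
      obtain ⟨f, hf⟩ := exists_free S' (by omega)
      have hS'p : S' p = .l := (ty_eq (mem_supp.1 (hp ▸ Finset.mem_singleton_self p))).2 (hnk p)
      have hoth : ∀ i, i ≠ p → S' i = .o := fun i hi => by
        by_contra h
        exact hi (Finset.mem_singleton.1 (hp ▸ mem_supp.2 h))
      have hpf : (p : κ) ≠ f := fun h => by
        rw [← Subtype.ext h, hS'p] at hf
        exact absurd hf (by decide)
      have h2' : HasM G M (Function.update (Function.update (fun _ => Ty.o) j .k) (p : κ) .l) := by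
        refine (hasM_iff M hG hsl j (by simp [Ne.symm p.2])).2 ?_
        convert hS' using 1
        funext i
        by_cases hi : i = p
        · subst hi; simp [hS'p]
        · rw [Function.update_of_ne fun h => hi (Subtype.ext h), Function.update_of_ne i.2, hoth i hi]
      have h3' := hasM_three M hG hsl h3 (Ne.symm p.2) (Ne.symm f.2) hpf
        (hev _ (by rw [map_mul, Equiv.Perm.sign_swap (Ne.symm f.2), Equiv.Perm.sign_swap (Ne.symm p.2)]; rfl)) h2'
      refine ⟨_, (hasM_iff M hG hsl j (by simp [Ne.symm p.2, Ne.symm f.2])).1 h3', ?_⟩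
      rw [hp, Finset.card_singleton]
      refine Finset.one_lt_card.2 ⟨p, mem_supp.2 ?_, f, mem_supp.2 ?_, fun h => hpf (congrArg Subtype.val h)⟩
      · simp [hpf]
      · simp
    obtain ⟨S₁, hS₁, -, hfull⟩ := exists_largest (n := 1) hS hne stp
    obtain ⟨S', hS', hsupp, hnk⟩ := hT.to_l hG h2 h3 hS₁
    rw [eq_const_of_full (S := S') (by rw [hsupp]; omega) fun i hi => (ty_eq hi).2 (hnk i)] at hS'
    exact endL (Or.inl h2) hS'

end Cfsg.Agent.MaxCl.Pow
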