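/-
Tensor powers of a symplectic space: an overgroup of the isometry groups of all positions and the permutations with a
root-like monomial contains the whole symplectic group, or the whole derived orthogonal group.
-/
import Cfsg.Agent.Lib.MaxCl.PowerGrow
import Cfsg.Agent.Lib.MaxCl.OrthBase

set_option autoImplicit false
set_option linter.unusedSectionVars false
set_option linter.style.haveILetI false

namespace Cfsg.Agent.MaxCl.Pow

open Matrix
open scoped MatrixGroups

variable {σ : Type} [Fintype σ] [DecidableEq σ] {F : Type*} [Field F] {G : Matrix σ σ F}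
variable {κ : Type} [Fintype κ] [DecidableEq κ]

/-! ### pure vectors -/

theorem fm_gg_pv (x y : κ → σ → F) : fm (GG G κ) (pv x) (pv y) = ∏ i, fm G (x i) (y i) := by
  rw [fm, GG, ten_mulVec]
  simp only [fm, dotProduct, pv, ← Finset.prod_mul_distrib, Fintype.prod_sum]

theorem K_gg_pv (x y : κ → σ → F) : K (GG G κ) (pv x) (pv y) = ten fun i => K G (x i) (y i) := by
  rw [K, GG, ten_mulVec]
  ext a b
  simp [vecMulVec_apply, ten_apply, pv, K, Finset.prod_mul_distrib]

theorem pv_update_add (x : κ → σ → F) (i : κ) (v w : σ → F) :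
    pv (Function.update x i (v + w)) = pv (Function.update x i v) + pv (Function.update x i w) := by
  funext a
  simp only [pv, Pi.add_apply, ← Finset.mul_prod_erase _ _ (Finset.mem_univ i), Function.update_self]
  have h : ∀ z : σ → F, ∏ l ∈ Finset.univ.erase i, Function.update x i z l (a l) =
      ∏ l ∈ Finset.univ.erase i, x l (a l) := fun z => Finset.prod_congr rfl fun l hl => by
    rw [Function.update_of_ne (Finset.ne_of_mem_erase hl)]
  rw [h, h, h, add_mul]

theorem pv_update_smul (x : κ → σ → F) (i : κ) (c : F) (v : σ → F) :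
    pv (Function.update x i (c • v)) = c • pv (Function.update x i v) := by
  funext a
  simp only [pv, Pi.smul_apply, smul_eq_mul, ← Finset.mul_prod_erase _ _ (Finset.mem_univ i), Function.update_self]
  have h : ∀ z : σ → F, ∏ l ∈ Finset.univ.erase i, Function.update x i z l (a l) =
      ∏ l ∈ Finset.univ.erase i, x l (a l) := fun z => Finset.prod_congr rfl fun l hl => by
    rw [Function.update_of_ne (Finset.ne_of_mem_erase hl)]
  rw [h, h, mul_assoc]

theorem eq_sum_pv (w : (κ → σ) → F) :
    w = ∑ e : κ → σ, w e • pv fun i => Pi.single (M := fun _ => F) (e i) 1 := by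
  funext a
  rw [Finset.sum_apply, Finset.sum_eq_single a]
  · simp [pv]
  · intro e _ he
    obtain ⟨i, hi⟩ := Function.ne_iff.1 he
    rw [Pi.smul_apply, smul_eq_mul, pv, Finset.prod_eq_zero (Finset.mem_univ i) (by simp [Ne.symm hi]), mul_zero]
  · simp

theorem gg_alt (hG : Alt G) (h2 : (2 : F) ≠ 0) (ht : Odd (Fintype.card κ)) : Alt (GG G κ) := by
  have hskew : (GG G κ)ᵀ = -(GG G κ) := by
    rw [GG, ten_transpose]
    simp only [hG.skew]
    rw [show (fun _ : κ => -G) = fun _ => (-1 : F) • G by simp, ten_smul_all, ht.neg_one_pow, neg_one_smul]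
  refine ⟨gg_det hG.isForm, hskew, fun u => ?_⟩
  have h : fm (GG G κ) u u = -fm (GG G κ) u u := by
    conv_lhs => rw [fm, dotProduct_mulVec, ← mulVec_transpose, hskew, neg_mulVec, neg_dotProduct, dotProduct_comm]
    rfl
  exact (mul_eq_zero.1 (show (2 : F) * fm (GG G κ) u u = 0 by linear_combination h)).resolve_left h2

/-- three non-zero functionals are all non-zero at some pure vector -/
theorem exists_pure_avoid (h2 : (2 : F) ≠ 0) (φ₁ φ₂ φ₃ : ((κ → σ) → F) →ₗ[F] F) (h₁ : φ₁ ≠ 0) (h₂ : φ₂ ≠ 0)
    (h₃ : φ₃ ≠ 0) : ∃ r : κ → σ → F, φ₁ (pv r) ≠ 0 ∧ φ₂ (pv r) ≠ 0 ∧ φ₃ (pv r) ≠ 0 := by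
  classical
  have avoid : ∀ f₁ f₂ f₃ : (σ → F) →ₗ[F] F, (∃ v, f₁ v ≠ 0) → (∃ v, f₂ v ≠ 0) → (∃ v, f₃ v ≠ 0) →
      ∃ v, f₁ v ≠ 0 ∧ f₂ v ≠ 0 ∧ f₃ v ≠ 0 := by
    intro f₁ f₂ f₃ ⟨v₁, hv₁⟩ ⟨v₂, hv₂⟩ ⟨w, hw⟩
    obtain ⟨v, hv1, hv2⟩ : ∃ v, f₁ v ≠ 0 ∧ f₂ v ≠ 0 := by
      by_cases a : f₂ v₁ = 0
      · by_cases b : f₁ v₂ = 0
        · exact ⟨v₁ + v₂, by rw [map_add, b, add_zero]; exact hv₁, by rw [map_add, a, zero_add]; exact hv₂⟩
        · exact ⟨v₂, b, hv₂⟩
      · exact ⟨v₁, hv₁, a⟩
    by_cases hv3 : f₃ v = 0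
    swap
    · exact ⟨v, hv1, hv2, hv3⟩
    obtain ⟨l, hl1, hl2⟩ : ∃ l : F, l ≠ -f₁ w / f₁ v ∧ l ≠ -f₂ w / f₂ v := by
      by_contra! hc
      have e : ∀ l : F, l = -f₁ w / f₁ v ∨ l = -f₂ w / f₂ v := fun l => (em _).imp id (hc l)
      have a1 : (1 : F) ≠ -1 := fun h => h2 (by linear_combination h)
      rcases e 0 with a | a <;> rcases e 1 with b | b <;> rcases e (-1) with c | c <;>
        first
          | exact zero_ne_one (a.trans b.symm)
          | exact a1 (b.trans c.symm)
          | exact neg_ne_zero.2 one_ne_zero (c.trans a.symm)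
    refine ⟨w + l • v, fun h => hl1 ?_, fun h => hl2 ?_, by rw [map_add, map_smul, hv3, smul_zero, add_zero]; exact hw⟩
    · rw [map_add, map_smul, smul_eq_mul] at h
      rw [eq_div_iff hv1]
      linear_combination h
    · rw [map_add, map_smul, smul_eq_mul] at h
      rw [eq_div_iff hv2]
      linear_combination h
  have base : ∀ φ : ((κ → σ) → F) →ₗ[F] F, φ ≠ 0 → ∃ x : κ → σ → F, φ (pv x) ≠ 0 := fun φ hφ => by
    by_contra! hc
    refine hφ (LinearMap.ext fun w => ?_)
    rw [eq_sum_pv w, map_sum]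
    simp [map_smul, hc]
  suffices H : ∀ t : Finset κ, ∃ r : κ → σ → F, (∃ x, (∀ i ∈ t, x i = r i) ∧ φ₁ (pv x) ≠ 0) ∧
      (∃ x, (∀ i ∈ t, x i = r i) ∧ φ₂ (pv x) ≠ 0) ∧ ∃ x, (∀ i ∈ t, x i = r i) ∧ φ₃ (pv x) ≠ 0 by
    obtain ⟨r, ⟨x₁, e₁, a₁⟩, ⟨x₂, e₂, a₂⟩, ⟨x₃, e₃, a₃⟩⟩ := H Finset.univ
    rw [funext fun i => e₁ i (Finset.mem_univ i)] at a₁
    rw [funext fun i => e₂ i (Finset.mem_univ i)] at a₂
    rw [funext fun i => e₃ i (Finset.mem_univ i)] at a₃
    exact ⟨r, a₁, a₂, a₃⟩
  intro t
  induction t using Finset.induction with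
  | empty =>
    obtain ⟨x₁, a₁⟩ := base φ₁ h₁
    obtain ⟨x₂, a₂⟩ := base φ₂ h₂
    obtain ⟨x₃, a₃⟩ := base φ₃ h₃
    exact ⟨x₁, ⟨x₁, by simp, a₁⟩, ⟨x₂, by simp, a₂⟩, ⟨x₃, by simp, a₃⟩⟩
  | @insert i t hi ih =>
    obtain ⟨r, ⟨x₁, e₁, a₁⟩, ⟨x₂, e₂, a₂⟩, ⟨x₃, e₃, a₃⟩⟩ := ih
    let lf : (((κ → σ) → F) →ₗ[F] F) → (κ → σ → F) → (σ → F) →ₗ[F] F := fun φ x =>
      { toFun := fun v => φ (pv (Function.update x i v))
        map_add' := fun v w => by rw [pv_update_add, map_add]
        map_smul' := fun c v => by rw [pv_update_smul, map_smul]; rfl }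
    have hlf : ∀ φ x, φ (pv x) ≠ 0 → ∃ v, lf φ x v ≠ 0 := fun φ x h => ⟨x i, by
      show φ (pv (Function.update x i (x i))) ≠ 0
      rwa [Function.update_eq_self]⟩
    obtain ⟨v, b₁, b₂, b₃⟩ := avoid _ _ _ (hlf φ₁ x₁ a₁) (hlf φ₂ x₂ a₂) (hlf φ₃ x₃ a₃)
    have agree : ∀ x : κ → σ → F, (∀ l ∈ t, x l = r l) →
        ∀ l ∈ insert i t, Function.update x i v l = Function.update r i v l := fun x e l hl => by
      by_cases h : l = i
      · subst h; simp
      · simp [h, e l ((Finset.mem_insert.1 hl).resolve_left h)]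
    exact ⟨_, ⟨_, agree x₁ e₁, b₁⟩, ⟨_, agree x₂ e₂, b₂⟩, ⟨_, agree x₃ e₃, b₃⟩⟩

variable (hG : Alt G) [Finite F]
include hG

/-! ### the symplectic case -/

/-- **an overgroup with a root-like monomial is the whole symplectic group** -/
theorem top_sp (h2 : (2 : F) ≠ 0) (ht : Odd (Fintype.card κ)) {M : Subgroup (GL (κ → σ) F)}
    (hle : M ≤ iso (GG G κ)) (hsl : ∀ i, ∀ g ∈ iso G, slot i g ∈ M) (hpm : ∀ π : Equiv.Perm κ, pmGL π ∈ M)
    (hts : ¬ TS G M) : iso (GG G κ) ≤ M := by
  obtain ⟨j₀⟩ : Nonempty κ := Fintype.card_pos_iff.1 ht.pos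
  haveI : Nonempty σ := by
    by_contra h
    rw [not_nonempty_iff] at h
    refine hts fun X _ i _ _ ⟨w, hw, _⟩ => absurd (Subsingleton.elim w 0) hw
  have hK := exists_all_k M hG hle hsl (fun π _ => hpm π) h2 ht hpm hts
  have hA := gg_alt (κ := κ) hG h2 ht
  let Φ : ((κ → σ) → F) → Prop := fun u => ∀ c, rt hA u c ∈ M
  have hzero : Φ 0 := fun c => by
    rw [show rt hA 0 c = 1 from Units.ext (by rw [rt_val, K_zero_left, smul_zero, add_zero, Units.val_one])]
    exact one_mem _
  have hpure : ∀ x : κ → σ → F, Φ (pv x) := fun x => by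
    by_cases h : ∀ i, x i ≠ 0
    · intro c
      obtain ⟨g, hg, hgv⟩ := hK (fun i => K G (x i) (x i)) (fun i => ⟨x i, h i, rfl⟩) c
      rwa [show rt hA (pv x) c = g from Units.ext (by rw [rt_val, K_gg_pv, hgv])]
    · push Not at h
      obtain ⟨i, hi⟩ := h
      rw [pv_eq_zero hi]
      exact hzero
  have hsm : ∀ (u) (a : F), Φ u → Φ (a • u) := fun u a hu c => by
    rw [show rt hA (a • u) c = rt hA u (c * (a * a)) from
      Units.ext (by rw [rt_val, rt_val, K_smul_self, smul_smul])]
    exact hu _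
  have hmove : ∀ u p, Φ u → Φ p → fm (GG G κ) u p ≠ 0 → Φ (u + p) := fun u p hu hp hup c => by
    set g := rt hA p (fm (GG G κ) u p)⁻¹ with hg
    have e : g * rt hA u c * g⁻¹ = rt hA (u + p) c := by
      refine Units.ext ?_
      rw [Units.val_mul, Units.val_mul, rt_val hA u c, rt_val hA (u + p) c, mul_add, Matrix.mul_one, add_mul, ← Units.val_mul,
        mul_inv_cancel, Units.val_one, Matrix.mul_smul, Matrix.smul_mul, hA.conj_K (rt_mem_iso hA _ _),
        rt_mulVec, inv_mul_cancel₀ hup, one_smul]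
    rw [← e]
    exact mul_mem (mul_mem (hp _) (hu c)) (inv_mem (hp _))
  have hadd : ∀ u (x : κ → σ → F), Φ u → Φ (u + pv x) := by
    intro u x hu
    rcases eq_or_ne u 0 with rfl | hu0
    · rw [zero_add]; exact hpure x
    rcases eq_or_ne (pv x) 0 with hx0 | hx0
    · rwa [hx0, add_zero]
    rcases eq_or_ne (u + pv x) 0 with hs | hs
    · rw [hs]; exact hzero
    by_cases hup : fm (GG G κ) u (pv x) = 0
    swap
    · exact hmove _ _ hu (hpure x) hup
    let φ : ((κ → σ) → F) → ((κ → σ) → F) →ₗ[F] F := fun v =>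
      { toFun := fun w => fm (GG G κ) v w
        map_add' := fun w w' => fm_add_right _ v w w'
        map_smul' := fun c w => fm_smul_right _ c v w }
    have hφ : ∀ v, v ≠ 0 → φ v ≠ 0 := fun v hv h => by
      obtain ⟨w, hw⟩ := fm_nondeg hA.isForm hv
      apply hw
      rw [hA.fm_swap v w, show fm (GG G κ) v w = φ v w from rfl, h, LinearMap.zero_apply, neg_zero]
    obtain ⟨r, r1, r2, r3⟩ := exists_pure_avoid h2 (φ u) (φ (pv x)) (φ (u + pv x)) (hφ u hu0) (hφ _ hx0) (hφ _ hs)
    change fm (GG G κ) u (pv r) ≠ 0 at r1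
    change fm (GG G κ) (pv x) (pv r) ≠ 0 at r2
    change fm (GG G κ) (u + pv x) (pv r) ≠ 0 at r3
    have s1 := hmove _ _ hu (hpure r) r1
    have s2 := hmove _ _ s1 (hpure x) (by
      rw [fm_add_left, hup, zero_add, hA.fm_swap (pv x) (pv r)]; exact neg_ne_zero.2 r2)
    have s3 := hmove _ _ s2 (hsm _ (-1) (hpure r)) (by
      rw [fm_smul_right, fm_add_left, fm_add_left, hA.self, add_zero, ← fm_add_left]
      exact mul_ne_zero (neg_ne_zero.2 one_ne_zero) r3)
    convert s3 using 1
    module
  refine iso_le_of_roots hA fun u c => ?_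
  suffices H : ∀ s : Finset (κ → σ), Φ (∑ e ∈ s, u e • pv fun i => Pi.single (M := fun _ => F) (e i) 1) by
    have := H Finset.univ
    rw [← eq_sum_pv] at this
    exact this c
  intro s
  induction s using Finset.induction with
  | empty => rw [Finset.sum_empty]; exact hzero
  | @insert e s he ih =>
    rw [Finset.sum_insert he, add_comm,
      ← Function.update_eq_self j₀ (fun i => Pi.single (M := fun _ => F) (e i) 1), ← pv_update_smul]
    exact hadd _ _ ih

/-! ### the orthogonal case -/

section Orth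

variable {Q : QuadraticForm F ((κ → σ) → F)} (hB : ∀ x y, QuadraticMap.polar Q x y = fm (GG G κ) x y)
  (hpure : ∀ x, Q (pv x) = 0) {M : Subgroup (GL (κ → σ) F)} (hle : M ≤ Cfsg.Geo.omegaGL Q)
  (hsl : ∀ i, ∀ g ∈ iso G, slot i g ∈ M)

omit hG [Finite F] in
variable (G M) in
/-- a pair of vectors of a position giving a known Siegel element -/
def Rel (a b : σ → F) : Prop :=
  (fm G a b = 0 ∧ b ∉ Submodule.span F {a} ∧ 3 ≤ Fintype.card σ) ∨ (Fintype.card σ ≤ 2 ∧ fm G a b ≠ 0)

include hB in
theorem gg_sym (x y : (κ → σ) → F) : fm (GG G κ) x y = fm (GG G κ) y x := by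
  rw [← hB, ← hB]; exact Orth.B_comm Q x y

include hB in
theorem le_iso_gg (hle : M ≤ Cfsg.Geo.omegaGL Q) : M ≤ iso (GG G κ) := fun g hg => by
  rw [mem_iso_fm]
  intro u v
  rw [← hB, ← hB, ← act_apply, ← act_apply, Orth.B_act (Orth.omega_le_iso (hle hg))]

omit hG [Finite F] in
variable (M) in
/-- the second vectors of the Siegel elements at `u` in `M` -/
def Wsub (u : (κ → σ) → F) (hu : Q u = 0) : Submodule F ((κ → σ) → F) where
  carrier := {w | QuadraticMap.polar Q u w = 0 ∧ ∀ c : F, Orth.sg Q u (c • w) ∈ M}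
  zero_mem' := ⟨Orth.B_zero_right Q u, fun c => by rw [smul_zero, Orth.sg_zero]; exact one_mem _⟩
  add_mem' {v w} hv hw := ⟨by rw [Orth.B_add_right Q, hv.1, hw.1, add_zero], fun c => by
    rw [smul_add, ← Orth.sg_add Q hu (by rw [Orth.B_smul_right Q, hv.1, mul_zero])
      (by rw [Orth.B_smul_right Q, hw.1, mul_zero])]
    exact mul_mem (hv.2 c) (hw.2 c)⟩
  smul_mem' l w hw := ⟨by rw [Orth.B_smul_right Q, hw.1, mul_zero], fun c => by rw [smul_smul]; exact hw.2 _⟩

include hle in
theorem wsub_act {u : (κ → σ) → F} {hu : Q u = 0} {g : GL (κ → σ) F} (hg : g ∈ M)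
    (hgu : (g : Matrix (κ → σ) (κ → σ) F) *ᵥ u = u) {w : (κ → σ) → F} (hw : w ∈ Wsub M u hu) :
    (g : Matrix (κ → σ) (κ → σ) F) *ᵥ w ∈ Wsub M u hu := by
  have hgi := Orth.omega_le_iso (hle hg)
  rw [← act_apply] at hgu ⊢
  refine ⟨?_, fun c => ?_⟩
  · conv_lhs => rw [← hgu]
    rw [Orth.B_act hgi]
    exact hw.1
  · rw [← map_smul]
    conv => arg 2; arg 2; rw [← hgu]
    rw [← Orth.conj_sg Q hgi]
    exact mul_mem (mul_mem hg (hw.2 c)) (inv_mem hg)

include hB hpure in
/-- monomials with one factor of type `l` are Siegel elements -/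
theorem sg_known [Nonempty σ]
    (h : ∀ o : κ, (3 ≤ Fintype.card σ → HasM G M (Function.update (fun _ => Ty.k) o .l)) ∧
      (Fintype.card σ ≤ 2 → HasM G M (Function.update (fun _ => Ty.k) o .o)))
    (ht : 2 ≤ Fintype.card κ) {a : κ → σ → F} (ha : ∀ i, a i ≠ 0) {o : κ} {b : σ → F} (hb : Rel G (a o) b) :
    pv (Function.update a o b) ∈ Wsub M (pv a) (hpure a) := by
  set u := pv a with hu
  set w := pv (Function.update a o b) with hw
  obtain ⟨l, hl⟩ := Fintype.exists_ne_of_one_lt_card ht o
  have huw : fm (GG G κ) u w = 0 := by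
    rw [hu, hw, fm_gg_pv]
    exact Finset.prod_eq_zero (Finset.mem_univ l) (by rw [Function.update_of_ne hl, hG.self])
  refine ⟨(hB _ _).trans huw, fun c => ?_⟩
  set R : κ → Matrix σ σ F := fun i => K G (a i) (a i) with hR
  have hten : ten (Function.update R o (Lam G (a o) b)) = K (GG G κ) u w - K (GG G κ) w u := by
    rw [hu, hw, K_gg_pv, K_gg_pv, eq_sub_iff_add_eq, Lam]
    have e1 : (fun i => K G (a i) (Function.update a o b i)) = Function.update R o (K G (a o) b) := by
      funext i
      by_cases hi : i = o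
      · subst hi; simp
      · simp [hi, hR]
    have e2 : (fun i => K G (Function.update a o b i) (a i)) = Function.update R o (K G b (a o)) := by
      funext i
      by_cases hi : i = o
      · subst hi; simp
      · simp [hi, hR]
    rw [e1, e2, ← ten_update_add, sub_add_cancel]
  obtain ⟨g, hg, hgv⟩ : Mem M (1 + (-c) • ten (Function.update R o (Lam G (a o) b))) := by
    rcases hb with ⟨hab, hbs, hk⟩ | ⟨hk, hab⟩
    · refine (h o).1 hk _ (fun i => ?_) _
      by_cases hi : i = o
      · rw [hi]
        simp only [Function.update_self]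
        exact ⟨a o, b, hab, notMem_span_symm (ha o) hbs, notMem_span_zero hbs, rfl⟩
      · simp only [Function.update_of_ne hi, hR]
        exact ⟨a i, ha i, rfl⟩
    · have e : Lam G (a o) b = fm G (a o) b • (1 : Matrix σ σ F) := by
          have h1 := Lam_eq_one hG hk (e := a o) (f := (fm G (a o) b)⁻¹ • b)
            (by rw [fm_smul_right, inv_mul_cancel₀ hab])
          conv_rhs => rw [← h1]
          simp only [Lam, K_smul_left, K_smul_right, smul_sub, smul_smul, mul_inv_cancel₀ hab, one_smul]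
      rw [e, ten_smul, smul_smul]
      refine (h o).2 hk _ (fun i => ?_) _
      by_cases hi : i = o
      · subst hi; simp [IsTy]
      · simp only [Function.update_of_ne hi, hR]
        exact ⟨a i, ha i, rfl⟩
  have hQw : Q w = 0 := hpure _
  have e : Orth.sg Q u (c • w) = g := by
    refine gl_ext fun x => ?_
    rw [Orth.act_sg Q (hpure a) (by rw [Orth.B_smul_right Q, hB, huw, mul_zero]), act_apply, hgv, hten, add_mulVec,
      one_mulVec, smul_mulVec, sub_mulVec, K_mulVec, K_mulVec, Orth.B_smul_left Q, Orth.Q_smul Q, hQw, hB, hB,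
      gg_sym hG hB u x, gg_sym hG hB w x]
    module
  rwa [e]

include hB hpure in
/-- the kernel trick -/
theorem wsub_trick {u : (κ → σ) → F} {hu : Q u = 0} (hle : M ≤ Cfsg.Geo.omegaGL Q) {v : κ → σ → F}
    {w x : (κ → σ) → F} (hw : w ∈ Wsub M (pv v) (hpure v)) (hQw : Q w = 0)
    (hvu : fm (GG G κ) (pv v) u = 0) (hwu : fm (GG G κ) w u = 0) (hx : x ∈ Wsub M u hu)
    (hwx : fm (GG G κ) w x = 0) (hvx : fm (GG G κ) (pv v) x ≠ 0) : w ∈ Wsub M u hu := by
  set g := Orth.sg Q (pv v) ((1 : F) • w) with hg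
  have hvw : QuadraticMap.polar Q (pv v) ((1 : F) • w) = 0 := by rw [one_smul]; exact hw.1
  have key : ∀ y, (g : Matrix (κ → σ) (κ → σ) F) *ᵥ y =
      y + fm (GG G κ) (pv v) y • w - fm (GG G κ) w y • pv v := fun y => by
    rw [← act_apply, hg, Orth.act_sg Q (hpure v) hvw, one_smul, hB, hB, hQw, zero_mul, add_zero]
  have hgu : (g : Matrix (κ → σ) (κ → σ) F) *ᵥ u = u := by rw [key, hvu, hwu]; simp
  have h := (Wsub M u hu).sub_mem (wsub_act hG hle (hw.2 1) hgu hx) hx
  rw [key, hwx, zero_smul, sub_zero, add_sub_cancel_left] at h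
  simpa [smul_smul, hvx] using (Wsub M u hu).smul_mem (fm (GG G κ) (pv v) x)⁻¹ h

include hB hpure hle hsl in
/-- **all Siegel elements at a pure vector** -/
theorem full_pure [Nonempty σ]
    (h : ∀ o : κ, (3 ≤ Fintype.card σ → HasM G M (Function.update (fun _ => Ty.k) o .l)) ∧
      (Fintype.card σ ≤ 2 → HasM G M (Function.update (fun _ => Ty.k) o .o)))
    (ht : 2 ≤ Fintype.card κ) (ht' : Fintype.card σ ≤ 2 → 4 ≤ Fintype.card κ) {a : κ → σ → F}
    (ha : ∀ i, a i ≠ 0) : Orth.Full Q M (pv a) := by
  classical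
  set u := pv a with hu
  set W := Wsub M u (hpure a) with hW
  choose f hf using fun i => exists_partner hG (ha i)
  have hfa : ∀ i, fm G (f i) (a i) = -1 := fun i => by rw [hG.fm_swap (a i) (f i), hf i]
  have hne : ∀ {i : κ} {v : σ → F}, fm G v (a i) ≠ 0 ∨ fm G v (f i) ≠ 0 → v ≠ 0 := fun {i v} hv h0 => by
    simp [h0, fm_zero_left] at hv
  -- stabilisers of the positions
  have hst : ∀ (l : κ) (g : GL σ F), g ∈ iso G → (g : Matrix σ σ F) *ᵥ a l = a l → ∀ y : κ → σ → F, pv y ∈ W →
      pv (Function.update y l ((g : Matrix σ σ F) *ᵥ y l)) ∈ W := by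
    intro l g hg hga y hy
    have e : ∀ y : κ → σ → F, (slot l g : Matrix (κ → σ) (κ → σ) F) *ᵥ pv y =
        pv (Function.update y l ((g : Matrix σ σ F) *ᵥ y l)) := fun y => by
      rw [slot, tenGL_val, ten_mulVec]
      congr 1
      funext i
      by_cases hi : i = l
      · subst hi; simp
      · simp [put, hi]
    rw [← e]
    refine wsub_act hG hle (hsl l g hg) ?_ hy
    rw [hu, e, hga, Function.update_eq_self]
  have hlin : ∀ (y : κ → σ → F) (l : κ) (v w : σ → F), pv (Function.update y l v) ∈ W →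
      pv (Function.update y l w) ∈ W → pv (Function.update y l (v - w)) ∈ W := fun y l v w hv hw => by
    have := W.sub_mem hv hw
    conv at this => arg 2; arg 1; rw [← sub_add_cancel v w, pv_update_add]
    rwa [add_sub_cancel_right] at this
  have hfree1 : ∀ (y : κ → σ → F) (l : κ), y l = f l → pv y ∈ W → ∀ v, pv (Function.update y l v) ∈ W := by
    intro y l hyl hy v
    set al := fm G (a l) v
    obtain ⟨g, hg, hga, hgf⟩ := exists_trans_dual hG (hf l) (v := v + (1 - al) • f l)
      (by rw [fm_add_right, fm_smul_right, hf l]; ring)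
    have h1 := hst l g hg hga y hy
    rw [hyl, hgf] at h1
    have h2 : pv (Function.update y l ((1 - al) • f l)) ∈ W := by
      rw [pv_update_smul, ← hyl, Function.update_eq_self]; exact W.smul_mem _ hy
    have := hlin y l _ _ h1 h2
    rwa [add_sub_cancel_right] at this
  have hfree : ∀ (x : κ → σ → F), pv x ∈ W → ∀ (t : Finset κ), (∀ l ∈ t, x l = f l) → ∀ y : κ → σ → F,
      pv (t.piecewise y x) ∈ W := by
    intro x hx t
    induction t using Finset.induction with
    | empty => intro _ y; simpa using hx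
    | @insert l t hl ih =>
      intro ht y
      rw [Finset.piecewise_insert]
      refine hfree1 _ l ?_ (ih (fun i hi => ht i (Finset.mem_insert_of_mem hi)) y) _
      rw [Finset.piecewise_eq_of_notMem _ _ _ hl]
      exact ht l (Finset.mem_insert_self l t)
  have known : ∀ {y : κ → σ → F}, (∀ i, y i ≠ 0) → ∀ {o : κ} {b : σ → F}, Rel G (y o) b →
      pv (Function.update y o b) ∈ Wsub M (pv y) (hpure y) := fun {y} hy {o b} hb =>
    sg_known hG hB hpure h ht hy hb
  have trick : ∀ (x y : κ → σ → F) (o : κ) (b : σ → F), pv x ∈ W → Rel G (y o) b →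
      (∃ l, l ≠ o ∧ fm G (y l) (a l) = 0) → fm G b (x o) = 0 → (∀ l, fm G (y l) (x l) ≠ 0) →
      pv (Function.update y o b) ∈ W := by
    intro x y o b hx hr ⟨l, hlo, hl⟩ hbx hyx
    refine wsub_trick hG hB hpure hle (known (fun i h0 => hyx i (by rw [h0, fm_zero_left])) hr) (hpure _)
      (by rw [hu, fm_gg_pv]; exact Finset.prod_eq_zero (Finset.mem_univ l) hl)
      (by rw [hu, fm_gg_pv]; exact Finset.prod_eq_zero (Finset.mem_univ l) (by rwa [Function.update_of_ne hlo]))
      hx ?_ (by rw [fm_gg_pv]; exact Finset.prod_ne_zero_iff.2 fun i _ => hyx i)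
    rw [fm_gg_pv]
    exact Finset.prod_eq_zero (Finset.mem_univ o) (by rwa [Function.update_self])
  -- a vector orthogonal to `a` at one position
  have perp : ∀ (o : κ) (y : κ → σ → F), fm G (a o) (y o) = 0 → pv y ∈ W := by
    have hnot : ∀ {i : κ} {v : σ → F}, fm G v (a i) = 0 → fm G v (f i) = 0 → v ≠ 0 →
        v ∉ Submodule.span F {f i} := fun {i v} hva _ hv hm => by
      obtain ⟨r, rfl⟩ := Submodule.mem_span_singleton.1 hm
      rw [fm_smul_left, hfa, mul_neg_one, neg_eq_zero] at hva
      exact hv (by rw [hva, zero_smul])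
    have fill : ∀ (x : κ → σ → F) (p o : κ), pv x ∈ W → (∀ l, l ≠ p → l ≠ o → x l = f l) →
        ∀ y : κ → σ → F, y p = x p → y o = x o → pv y ∈ W := fun x p o hx hxf y hp ho => by
      have := hfree x hx ((Finset.univ.erase p).erase o) (fun l hl => by
        simp only [Finset.mem_erase] at hl; exact hxf l hl.2.1 hl.1) y
      convert this using 2
      funext l
      by_cases h1 : l = o
      · subst h1; simp [ho]
      by_cases h2 : l = p
      · subst h2; simp [hp]
      simp [h1, h2, Finset.piecewise]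
    intro o
    obtain ⟨p, hpo⟩ := Fintype.exists_ne_of_one_lt_card ht o
    by_cases h3 : 3 ≤ Fintype.card σ
    · have hdata : ∀ i, ∃ z z', z ≠ 0 ∧ fm G z (a i) = 0 ∧ fm G z (f i) = 0 ∧ fm G z z' = 1 ∧
          fm G z' (a i) = 0 ∧ fm G z' (f i) = 0 := fun i => by
        obtain ⟨z, hz, h1, h2⟩ := exists_perp_pair hG h3 (a i) (f i)
        obtain ⟨z', h4, h5, h6⟩ := exists_partner_perp hG (hf i) hz h1 h2
        exact ⟨z, z', hz, h1, h2, h4, h5, h6⟩
      choose z z' hz hza hzf hzz hza' hzf' using hdata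
      have haz : ∀ i, fm G (a i) (z i) = 0 := fun i => by rw [hG.fm_swap (z i) (a i), hza i, neg_zero]
      have haz' : ∀ i, fm G (a i) (z' i) = 0 := fun i => by rw [hG.fm_swap (z' i) (a i), hza' i, neg_zero]
      have hz' : ∀ i, z' i ≠ 0 := fun i h0 => by
        have := hzz i; rw [h0, fm_zero_right] at this; exact zero_ne_one this
      have hzs : ∀ i, z i ∉ Submodule.span F {a i} := fun i hm => by
        obtain ⟨r, hr⟩ := Submodule.mem_span_singleton.1 hm
        have h' := hzz i
        rw [← hr, fm_smul_left, haz', mul_zero] at h'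
        exact zero_ne_one h'
      have hz'z : ∀ i, fm G (z' i) (z i) = -1 := fun i => by rw [hG.fm_swap (z i) (z' i), hzz i]
      -- two positions
      have x₀ : pv (Function.update a p (z p)) ∈ W := known ha (Or.inl ⟨haz p, hzs p, h3⟩)
      have s1 := trick _ (Function.update f p (z' p)) o (z o) x₀
        (by
          rw [Function.update_of_ne hpo.symm]
          exact Or.inl ⟨by rw [hG.fm_swap (z o) (f o), hzf o, neg_zero], hnot (hza o) (hzf o) (hz o), h3⟩)
        ⟨p, hpo, by rw [Function.update_self, hza']⟩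
        (by rw [Function.update_of_ne hpo.symm, hza])
        (fun l => by
          by_cases hl : l = p
          · subst hl; simp [hz'z]
          · simp [hl, hfa])
      set w₁ := Function.update (Function.update f p (z' p)) o (z o) with hw₁
      have s2 : pv (Function.update (Function.update a p (z' p)) o (z o)) ∈ W :=
        fill w₁ p o s1 (fun l h1 h2 => by simp [hw₁, h1, h2]) _ (by simp [hw₁, hpo]) (by simp [hw₁])
      obtain ⟨g, hg, hga, hgz⟩ := exists_trans_perp hG (hza' p)
        (fun hm => by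
          obtain ⟨r, hr⟩ := Submodule.mem_span_singleton.1 hm
          have h' := hzz p
          rw [← hr, fm_smul_right, hza, mul_zero] at h'
          exact zero_ne_one h')
        (hza p) (hzs p)
      have s3 := hst p g hg hga _ s2
      rw [Function.update_of_ne hpo, Function.update_self, hgz] at s3
      have s4 := trick _ (Function.update (Function.update f o (z' o)) p (z' p)) p (f p) s3
        (by
          rw [Function.update_self]
          exact Or.inl ⟨hzf' p, fun hm => by
            obtain ⟨r, hr⟩ := Submodule.mem_span_singleton.1 hm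
            have h' := hf p
            rw [← hr, fm_smul_right, haz', mul_zero] at h'
            exact zero_ne_one h', h3⟩)
        ⟨o, hpo.symm, by simp [hpo.symm, hza']⟩
        (by simp [hG.fm_swap (z p) (f p), hzf])
        (fun l => by
          by_cases h1 : l = p
          · subst h1; simp [hpo, hz'z]
          by_cases h2 : l = o
          · subst h2; simp [hpo.symm, hz'z]
          simp [h1, h2, hfa])
      rw [Function.update_idem, show Function.update (Function.update f o (z' o)) p (f p) =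
        Function.update f o (z' o) from funext fun l => by
          by_cases h1 : l = p
          · subst h1; simp [hpo]
          · simp [h1]] at s4
      intro y hy
      have base : ∀ y' : κ → σ → F, y' o = z' o → pv y' ∈ W := fun y' hy' =>
        fill _ o o s4 (fun l h1 _ => by simp [h1]) y' (by simpa using hy') (by simpa using hy')
      have indep : ∀ v, fm G v (a o) = 0 → v ∉ Submodule.span F {a o} → pv (Function.update y o v) ∈ W := by
        intro v hv hvs
        obtain ⟨g, hg, hga, hgz⟩ := exists_trans_perp hG (hza' o)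
          (fun hm => by
            obtain ⟨r, hr⟩ := Submodule.mem_span_singleton.1 hm
            have h' := hzz o
            rw [← hr, fm_smul_right, hza, mul_zero] at h'
            exact zero_ne_one h') hv hvs
        have := hst o g hg hga _ (base (Function.update y o (z' o)) (Function.update_self _ _ _))
        rwa [Function.update_self, hgz, Function.update_idem] at this
      have hyo : fm G (y o) (a o) = 0 := by rw [hG.fm_swap (a o) (y o), hy, neg_zero]
      by_cases hys : y o ∈ Submodule.span F {a o}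
      · have h1 := indep (y o + z o) (by rw [fm_add_left, hyo, hza, add_zero]) (fun hm => hzs o (by
          simpa using Submodule.sub_mem _ hm hys))
        have h2 := hlin y o _ _ h1 (indep (z o) (hza o) (hzs o))
        rwa [add_sub_cancel_right, Function.update_eq_self] at h2
      · have := indep (y o) hyo hys
        rwa [Function.update_eq_self] at this
    · have hk : Fintype.card σ ≤ 2 := by omega
      obtain ⟨p', hp', o', ho', hne'⟩ := Finset.one_lt_card.1 (show 1 < ((Finset.univ.erase p).erase o).card by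
        rw [Finset.card_erase_of_mem (Finset.mem_erase.2 ⟨hpo.symm, Finset.mem_univ o⟩),
          Finset.card_erase_of_mem (Finset.mem_univ p), Finset.card_univ]
        have := ht' hk
        omega)
      simp only [Finset.mem_erase, Finset.mem_univ, and_true] at hp' ho'
      have x₀ : pv (Function.update a p' (f p')) ∈ W := known ha (Or.inr ⟨hk, by rw [hf]; exact one_ne_zero⟩)
      have s1 := trick _ (Function.update f p' (a p')) o' (a o') x₀
        (by rw [Function.update_of_ne hne'.symm]; exact Or.inr ⟨hk, by rw [hfa]; exact neg_ne_zero.2 one_ne_zero⟩)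
        ⟨p', hne', by rw [Function.update_self, hG.self]⟩
        (by rw [Function.update_of_ne hne'.symm, hG.self])
        (fun l => by
          by_cases hl : l = p'
          · subst hl; simp [hf]
          · simp [hl, hfa])
      set w₁ := Function.update (Function.update f p' (a p')) o' (a o') with hw₁
      have s2 : pv (Function.update (Function.update a p (f p)) o (f o)) ∈ W :=
        fill w₁ p' o' s1 (fun l h1 h2 => by simp [hw₁, h1, h2]) _ (by simp [hw₁, hne', hp'.1, hp'.2])
          (by simp [hw₁, ho'.1, ho'.2])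
      have s4 := trick _ (Function.update (Function.update f o (a o)) p (a p)) p (f p) s2
        (by rw [Function.update_self]; exact Or.inr ⟨hk, by rw [hf]; exact one_ne_zero⟩)
        ⟨o, hpo.symm, by simp [hpo.symm, hG.self]⟩
        (by simp [hpo, hG.self])
        (fun l => by
          by_cases h1 : l = p
          · subst h1; simp [hpo, hf]
          by_cases h2 : l = o
          · subst h2; simp [hpo.symm, hf]
          simp [h1, h2, hfa])
      rw [Function.update_idem, show Function.update (Function.update f o (a o)) p (f p) =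
        Function.update f o (a o) from funext fun l => by
          by_cases h1 : l = p
          · subst h1; simp [hpo]
          · simp [h1]] at s4
      intro y hy
      have h1 := congrArg (· *ᵥ y o) (Lam_eq_one hG hk (hf o))
      simp only [Lam_mulVec, one_mulVec] at h1
      rw [hG.fm_swap (a o) (y o), hy, neg_zero, zero_smul, sub_zero] at h1
      have h2 := fill _ o o s4 (fun l h _ => by simp [h]) (Function.update y o (a o)) (by simp) (by simp)
      have h3' := W.smul_mem (fm G (y o) (f o)) h2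
      rwa [← pv_update_smul, h1, Function.update_eq_self] at h3'
  -- everything orthogonal
  have span : ∀ y : κ → σ → F, pv y - (∏ i, fm G (a i) (y i)) • pv f ∈ W := by
    intro y
    suffices H : ∀ s : Finset κ, pv y - (∏ i ∈ s, fm G (a i) (y i)) • pv (s.piecewise f y) ∈ W by
      simpa using H Finset.univ
    intro s
    induction s using Finset.induction with
    | empty => simp
    | @insert i s hi ih =>
      set y' := s.piecewise f y with hy'
      have hyi : y' i = y i := Finset.piecewise_eq_of_notMem _ _ _ hi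
      set al := fm G (a i) (y i) with hal
      have h1 : pv (Function.update y' i (y i - al • f i)) ∈ W := perp i _ (by
        rw [Function.update_self, fm_sub_right, fm_smul_right, hf i, mul_one, sub_self])
      have h2 : pv y' = pv (Function.update y' i (y i - al • f i)) + al • pv (Function.update y' i (f i)) := by
        rw [← pv_update_smul, ← pv_update_add, sub_add_cancel, ← hyi, Function.update_eq_self]
      have := W.add_mem ih (W.smul_mem (∏ l ∈ s, fm G (a l) (y l)) h1)
      rw [Finset.prod_insert hi, Finset.piecewise_insert, ← hy']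
      convert this using 1
      rw [h2]
      module
  intro w hw
  set S : F := ∑ e : κ → σ, w e * ∏ i, fm G (a i) (Pi.single (M := fun _ => F) (e i) 1) with hS
  have hsum : w - S • pv f ∈ W := by
    conv => arg 2; arg 1; rw [eq_sum_pv w]
    rw [hS, Finset.sum_smul, ← Finset.sum_sub_distrib]
    refine W.sum_mem fun e _ => ?_
    rw [mul_smul, ← smul_sub]
    exact W.smul_mem _ (span _)
  have h0 : S = 0 := by
    have h1 := hsum.1
    rw [Orth.B_sub_right Q, Orth.B_smul_right Q, hw, hB u (pv f), hu, fm_gg_pv] at h1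
    simp only [hf, Finset.prod_const_one, mul_one, zero_sub, neg_eq_zero] at h1
    exact h1
  rw [h0, zero_smul, sub_zero] at hsum
  simpa using hsum.2 1

/-- **an overgroup with a root-like monomial is the whole derived orthogonal group** -/
theorem top_omega (Q : QuadraticForm F ((κ → σ) → F)) (hB : ∀ x y, QuadraticMap.polar Q x y = fm (GG G κ) x y)
    (hpure : ∀ x, Q (pv x) = 0) (hn : 13 ≤ Fintype.card σ ^ Fintype.card κ)
    (hcase : ((2 : F) ≠ 0 ∧ Even (Fintype.card κ)) ∨ ((2 : F) = 0 ∧ 6 ≤ Fintype.card σ))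
    {M : Subgroup (GL (κ → σ) F)} (hle : M ≤ Cfsg.Geo.omegaGL Q) (hsl : ∀ i, ∀ g ∈ iso G, slot i g ∈ M)
    (hpm : ∀ π : Equiv.Perm κ, Equiv.Perm.sign π = 1 → pmGL π ∈ M) (hts : ¬ TS G M) :
    Cfsg.Geo.omegaGL Q ≤ M := by
  classical
  have ht : 2 ≤ Fintype.card κ := by
    by_contra h
    haveI : Subsingleton κ := Fintype.card_le_one_iff_subsingleton.1 (by omega)
    exact hts fun X _ i j hij => absurd (Subsingleton.elim i j) hij
  haveI : Nonempty σ := by
    by_contra h
    rw [not_nonempty_iff] at h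
    rw [Fintype.card_eq_zero, zero_pow (by omega)] at hn
    omega
  have hle' := le_iso_gg hG hB hle
  obtain ⟨a₀, ha₀⟩ : ∃ a : σ → F, a ≠ 0 :=
    ⟨fun _ => 1, Function.ne_iff.2 ⟨Classical.arbitrary σ, one_ne_zero⟩⟩
  obtain ⟨f₀, hf₀⟩ := exists_partner hG ha₀
  have h2k := two_le_card hG hf₀
  have hend : ∀ o : κ, (3 ≤ Fintype.card σ → HasM G M (Function.update (fun _ => Ty.k) o .l)) ∧
      (Fintype.card σ ≤ 2 → HasM G M (Function.update (fun _ => Ty.k) o .o)) := fun o => by
    refine ⟨fun h3 => exists_end_l M hG hle' hsl hpm h3 (hcase.imp id fun h => ⟨h.1, by omega⟩) hts o, fun hk => ?_⟩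
    rcases hcase with ⟨h2, het⟩ | ⟨-, h6⟩
    · exact exists_end_o M hG hle' hsl hpm h2 het (by omega) hts o
    · omega
  have ht' : Fintype.card σ ≤ 2 → 4 ≤ Fintype.card κ := fun hk => by
    by_contra h
    have := Nat.pow_le_pow_right (show 0 < 2 by omega) (show Fintype.card κ ≤ 3 by omega)
    rw [show Fintype.card σ = 2 by omega] at hn
    omega
  have hf0 : f₀ ≠ 0 := fun h => by rw [h, fm_zero_right] at hf₀; exact zero_ne_one hf₀
  have hQ : (QuadraticMap.polarBilin Q).Nondegenerate := by
    have hGG := gg_isForm (κ := κ) hG.isForm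
    refine ⟨fun x hx => ?_, fun y hy => ?_⟩ <;> by_contra hne
    · obtain ⟨v, hv⟩ := fm_nondeg hGG hne
      exact hv (by rw [gg_sym hG hB, ← hB]; exact hx v)
    · obtain ⟨v, hv⟩ := fm_nondeg hGG hne
      exact hv (by rw [← hB]; exact hy v)
  refine Orth.omega_le_of_full hQ (by rw [Fintype.card_fun]; omega) (hpure fun _ => a₀) (hpure fun _ => f₀) ?_
    (full_pure hG hB hpure hle hsl hend ht ht' fun _ => ha₀) (full_pure hG hB hpure hle hsl hend ht ht' fun _ => hf0)
  rw [hB, fm_gg_pv]
  simp [hf₀]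

end Orth

end Cfsg.Agent.MaxCl.Pow
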