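/-
The swap of two slots is not conjugate to a root element of a slot inside a proper overgroup: the pure operators
commuting with the swap would fix two subspaces of the dimension of a root image with a common vector.
-/
import Cfsg.Agent.Lib.MaxCl.PowerPure

set_option autoImplicit false
set_option linter.unusedSectionVars false
set_option linter.style.haveILetI false

namespace Cfsg.Agent.MaxCl.TW

open Matrix
open scoped MatrixGroups Kronecker

variable {S : Type} [Fintype S] [DecidableEq S] {F : Type*} [Field F]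

/-- the unitriangular elements centralising a root element -/
def Uni (w : GL (Fin 3) F) : Prop :=
  ∃ α β γ : F, ∀ v, act w v = v + ((α * v 1 + β * v 2) • Pi.single 0 1 + (γ * v 1) • Pi.single 2 1)

theorem uni_mul {w w' : GL (Fin 3) F} {α β γ α' β' γ' : F}
    (h : ∀ v, act w v = v + ((α * v 1 + β * v 2) • Pi.single 0 1 + (γ * v 1) • Pi.single 2 1))
    (h' : ∀ v, act w' v = v + ((α' * v 1 + β' * v 2) • Pi.single 0 1 + (γ' * v 1) • Pi.single 2 1)) :
    w * w' * w⁻¹ * w'⁻¹ = TP.bel 0 1 (β * γ' - β' * γ) := by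
  rw [mul_inv_eq_iff_eq_mul, mul_inv_eq_iff_eq_mul]
  refine gl_ext fun v => funext fun i => ?_
  simp only [act_mul, h, h', TP.act_bel (show (0 : Fin 3) ≠ 1 by decide)]
  fin_cases i <;> simp <;> ring

theorem uni_comm_bel {w : GL (Fin 3) F} (hw : Uni w) (δ : F) :
    TP.bel 0 1 δ * w * (TP.bel (0 : Fin 3) 1 δ)⁻¹ * w⁻¹ = 1 := by
  obtain ⟨α, β, γ, h⟩ := hw
  rw [mul_inv_eq_iff_eq_mul, mul_inv_eq_iff_eq_mul, one_mul]
  refine gl_ext fun v => funext fun i => ?_
  simp only [act_mul, h, TP.act_bel (show (0 : Fin 3) ≠ 1 by decide)]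
  fin_cases i <;> simp <;> ring

theorem trv_comm (i l k : Fin 3) (hil : i ≠ l) (hlk : l ≠ k) (hik : i ≠ k) (c d : F) :
    trv i l hil c * trv l k hlk d * (trv i l hil c)⁻¹ * (trv l k hlk d)⁻¹ = trv i k hik (c * d) := by
  refine Units.ext ?_
  rw [comm_val (A := Matrix.single i l c) (B := Matrix.single l k d) rfl rfl
    (by simp [Matrix.single_mul_single_of_ne, hlk.symm]) (by simp [Matrix.single_mul_single_of_ne, hik.symm]),
    Matrix.single_mul_single_same]
  rfl

theorem trv_sq (h2 : (2 : F) = 0) {i k : Fin 3} (hik : i ≠ k) (c : F) : trv i k hik c * trv i k hik c = 1 := by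
  refine Units.ext ?_
  show (1 + Matrix.single i k c) * (1 + Matrix.single i k c) = 1
  simp only [mul_add, add_mul, mul_one, one_mul, Matrix.single_mul_single_of_ne _ _ _ _ hik.symm, add_zero]
  rw [add_assoc, ← Matrix.single_add, show c + c = 0 by linear_combination c * h2, Matrix.single_zero, add_zero]

theorem act_rt_trv (s : S) {i k : Fin 3} (hik : i ≠ k) (c : F) (z : (S → Fin 3) → F) (x : S → Fin 3) :
    act (rt s (trv i k hik c)) z x = z x + if x s = i then c * z (Function.update x s k) else 0 := by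
  have h1 := congrFun (congrArg (fun f => f) (act_rid s (rt s (trv i k hik c)) z)) (spl s x)
  rw [toR_apply, Equiv.symm_apply_apply, rid_rt] at h1
  rw [← h1, spl_apply]
  have h2 := congrFun (TP.row_kr_one (trv i k hik c) (toR s z) fun r => x r.1) (x s)
  simp only [TP.row] at h2
  rw [h2, act_apply]
  show ((1 + Matrix.single i k c) *ᵥ _) _ = _
  have hval : ∀ j, toR s z ((fun r : {r // r ≠ s} => x r.1), j) = z (Function.update x s j) := fun j => by
    rw [toR_apply]
    refine congrArg z ?_
    rw [Equiv.symm_apply_eq, spl_apply]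
    exact Prod.ext (funext fun r => by simp [r.2]) (by simp)
  rw [Matrix.add_mulVec, Matrix.one_mulVec, Pi.add_apply, Matrix.single_mulVec]
  show toR s z ((fun r : {r // r ≠ s} => x r.1), x s) +
    Function.update (0 : Fin 3 → F) i (c * toR s z ((fun r : {r // r ≠ s} => x r.1), k)) (x s) = _
  rw [hval, hval, Function.update_eq_self, Function.update_apply]
  rfl

theorem act_rt_trv_single (s : S) {i k : Fin 3} (hik : i ≠ k) (c : F) (x : S → Fin 3) :
    act (rt s (trv i k hik c)) (Pi.single x 1) =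
      Pi.single x 1 + (if x s = k then c else 0) • Pi.single (Function.update x s i) (1 : F) := by
  classical
  funext y
  rw [act_rt_trv, Pi.add_apply, Pi.smul_apply, smul_eq_mul]
  congr 1
  by_cases hy : y = Function.update x s i
  · subst hy
    by_cases hx : x s = k
    · subst hx
      simp
    · have : (Function.update x s k) ≠ x := fun e => hx (by rw [← e, Function.update_self])
      simp [hx, this]
  · rw [Pi.single_eq_of_ne hy, mul_zero]
    split_ifs with hi
    · rw [Pi.single_eq_of_ne (fun e => hy (by rw [← e, ← hi, Function.update_idem, Function.update_eq_self])),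
        mul_zero]
    · rfl

variable [Finite F] {M : Subgroup (GL (S → Fin 3) F)}

/-- a subspace of the dimension of a root image invariant under the pure operators commuting with the swap
contains the symmetric vector -/
theorem sym_mem_of_invariant (h2 : (2 : F) = 0) {s s' : S} (hne : s ≠ s') {X : Submodule F ((S → Fin 3) → F)}
    (hX : Module.finrank F X = 3 ^ (Fintype.card S - 1))
    (hq : ∀ q, q ≠ s → q ≠ s' → ∀ (i k : Fin 3) (h : i ≠ k) (c : F), ∀ z ∈ X, act (rt q (trv i k h c)) z ∈ X)
    (hp : ∀ (i k : Fin 3) (h : i ≠ k) (c : F), ∀ z ∈ X, act (rt s (trv i k h c) * rt s' (trv i k h c)) z ∈ X) :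
    Pi.single (Function.update (fun _ => (0 : Fin 3)) s' 1) (1 : F) +
      Pi.single (Function.update (fun _ => (0 : Fin 3)) s 1) 1 ∈ X := by
  classical
  let pt : (S → Fin 3) → Fin 3 → Fin 3 → S → Fin 3 := fun Z i j => Function.update (Function.update Z s i) s' j
  let e : (S → Fin 3) → Fin 3 → Fin 3 → (S → Fin 3) → F := fun Z i j => Pi.single (pt Z i j) 1
  have hupds : ∀ Z i j k, Function.update (pt Z i j) s k = pt Z k j := fun Z i j k => by
    simp only [pt]
    rw [Function.update_comm hne.symm, Function.update_idem]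
  have hupds' : ∀ Z i j k, Function.update (pt Z i j) s' k = pt Z i k := fun Z i j k => Function.update_idem ..
  have hpts : ∀ Z i j, pt Z i j s = i := fun Z i j => by simp [pt, hne]
  have hpts' : ∀ Z i j, pt Z i j s' = j := fun Z i j => by simp [pt]
  have hact : ∀ (i k : Fin 3) (h : i ≠ k) Z a b, act (rt s (trv i k h (1 : F)) * rt s' (trv i k h 1)) (e Z a b) =
      e Z a b + (if b = k then (1 : F) else 0) • e Z a i + ((if a = k then (1 : F) else 0) • e Z i b +
        (if a = k ∧ b = k then (1 : F) else 0) • e Z i i) := by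
    intro i k h Z a b
    simp only [e, act_mul, act_rt_trv_single, hpts, hpts', hupds', map_add, map_smul, hupds]
    by_cases ha : a = k <;> by_cases hb : b = k <;> simp [ha, hb] <;> abel
  have hdiff : ∀ (i k : Fin 3) (h : i ≠ k), ∀ z ∈ X,
      act (rt s (trv i k h (1 : F)) * rt s' (trv i k h 1)) z - z ∈ X := fun i k h z hz =>
    X.sub_mem (hp i k h 1 z hz) hz
  have hdiffq : ∀ q, q ≠ s → q ≠ s' → ∀ (i k : Fin 3) (h : i ≠ k), ∀ z ∈ X,
      act (rt q (trv i k h (1 : F))) z - z ∈ X := fun q h1 h3 i k h z hz => X.sub_mem (hq q h1 h3 i k h 1 z hz) hz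
  -- a vector killed by the raising operators
  obtain ⟨z, hz, hz0, hraise, hraiseq⟩ : ∃ z ∈ X, z ≠ 0 ∧
      (∀ (i k : Fin 3) (h : i ≠ k), i < k → act (rt s (trv i k h (1 : F)) * rt s' (trv i k h 1)) z = z) ∧
      ∀ q, q ≠ s → q ≠ s' → ∀ (i k : Fin 3) (h : i ≠ k), i < k → act (rt q (trv i k h (1 : F))) z = z := by
    let wt : (S → Fin 3) → ℕ := fun x => ∑ q, (x q).1
    have hex : ∃ n, ∃ z ∈ X, z ≠ 0 ∧ ∀ x, z x ≠ 0 → wt x < n := by
      obtain ⟨z, hz, hz0⟩ := Submodule.exists_mem_ne_zero_of_ne_bot (p := X) fun h => by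
        rw [h, finrank_bot] at hX
        exact absurd hX.symm (pow_ne_zero _ three_ne_zero)
      exact ⟨(Finset.univ.sup wt) + 1, z, hz, hz0, fun x _ => Nat.lt_succ_of_le (Finset.le_sup (Finset.mem_univ x))⟩
    obtain ⟨z, hz, hz0, hwt⟩ := Nat.find_spec hex
    set n := Nat.find hex with hn
    have hlow : ∀ y ∈ X, (∀ x, y x ≠ 0 → ∃ x', z x' ≠ 0 ∧ wt x < wt x') → y = 0 := by
      intro y hy hsupp
      by_contra hy0
      obtain ⟨x, hx⟩ := Function.ne_iff.1 hy0
      obtain ⟨x', hx', -⟩ := hsupp x hx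
      refine Nat.find_min hex (show n - 1 < n by have := hwt x' hx'; omega) ⟨y, hy, hy0, fun x hx => ?_⟩
      obtain ⟨x', hx', hlt⟩ := hsupp x hx
      have := hwt x' hx'
      omega
    have hwu : ∀ (x : S → Fin 3) q k, x q < k → wt x < wt (Function.update x q k) := fun x q k hk => by
      refine Finset.sum_lt_sum (fun r _ => ?_) ⟨q, Finset.mem_univ q, by simpa using hk⟩
      rcases eq_or_ne r q with rfl | hr
      · simpa using hk.le
      · simp [hr]
    refine ⟨z, hz, hz0, fun i k h hik => sub_eq_zero.1 (hlow _ (hdiff i k h z hz) fun x hx => ?_),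
      fun q h1 h3 i k h hik => sub_eq_zero.1 (hlow _ (hdiffq q h1 h3 i k h z hz) fun x hx => ?_)⟩
    · rw [Pi.sub_apply, act_mul, act_rt_trv, act_rt_trv, act_rt_trv] at hx
      by_cases ha : x s' = i ∧ z (Function.update x s' k) ≠ 0
      · exact ⟨_, ha.2, hwu x s' k (ha.1 ▸ hik)⟩
      by_cases hb : x s = i ∧ z (Function.update x s k) ≠ 0
      · exact ⟨_, hb.2, hwu x s k (hb.1 ▸ hik)⟩
      by_cases hc : x s = i ∧ x s' = i ∧ z (Function.update (Function.update x s k) s' k) ≠ 0
      · refine ⟨_, hc.2.2, (hwu x s k (hc.1 ▸ hik)).trans (hwu _ s' k ?_)⟩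
        simpa [hne.symm, hc.2.1] using hik
      · exfalso
        refine hx ?_
        push Not at ha hb hc
        rw [Function.update_of_ne hne.symm]
        rcases eq_or_ne (x s) i with e1 | e1 <;> rcases eq_or_ne (x s') i with e2 | e2 <;>
          simp [e1, e2, ha, hb, hc]
    · rw [Pi.sub_apply, act_rt_trv] at hx
      by_cases ha : x q = i
      · refine ⟨_, fun e => hx ?_, hwu x q k (ha ▸ hik)⟩
        rw [e, mul_zero]
        simp
      · exact absurd (by simp [ha]) hx
  let Z₀ : S → Fin 3 := fun _ => 0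
  have hsupp : ∀ x q, q ≠ s → q ≠ s' → x q ≠ 0 → z x = 0 := by
    intro x q h1 h3 hx
    have h := congrFun (hraiseq q h1 h3 0 (x q) hx.symm (Fin.pos_iff_ne_zero.2 hx)) (Function.update x q 0)
    rw [act_rt_trv] at h
    simpa using h
  have hfix : ∀ (i k : Fin 3) (h : i ≠ k), i < k → ∀ a b,
      (if b = i then z (pt Z₀ a k) else 0) + ((if a = i then z (pt Z₀ k b) else 0) +
        if a = i ∧ b = i then z (pt Z₀ k k) else 0) = 0 := by
    intro i k h hik a b
    have h1 := congrFun (hraise i k h hik) (pt Z₀ a b)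
    rw [act_mul, act_rt_trv, act_rt_trv, act_rt_trv, hpts, hupds, hpts', hpts', hupds', hupds'] at h1
    by_cases ha : a = i <;> by_cases hb : b = i <;> simp [ha, hb] at h1 ⊢ <;> linear_combination h1
  have f12 : z (pt Z₀ 1 2) = 0 := by simpa using hfix 0 1 (by decide) (by decide) 0 2
  have f21 : z (pt Z₀ 2 1) = 0 := by simpa using hfix 0 1 (by decide) (by decide) 2 0
  have f11 : z (pt Z₀ 1 1) = 0 := by simpa using hfix 0 1 (by decide) (by decide) 1 0
  have f10 : z (pt Z₀ 1 0) = z (pt Z₀ 0 1) := by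
    have := hfix 0 1 (by decide) (by decide) 0 0
    simp [f11] at this
    linear_combination this - z (pt Z₀ 0 1) * h2
  have f22 : z (pt Z₀ 2 2) = 0 := by simpa using hfix 0 2 (by decide) (by decide) 2 0
  have f20 : z (pt Z₀ 2 0) = 0 := by simpa using hfix 1 2 (by decide) (by decide) 1 0
  have f02 : z (pt Z₀ 0 2) = 0 := by simpa using hfix 1 2 (by decide) (by decide) 0 1
  set α := z (pt Z₀ 0 0) with hα
  set β := z (pt Z₀ 0 1) with hβ
  let v : (S → Fin 3) → (S → Fin 3) → F := fun Z => α • e Z 0 0 + β • (e Z 0 1 + e Z 1 0)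
  have hzv : z = v Z₀ := by
    funext x
    by_cases hx : ∀ q, q ≠ s → q ≠ s' → x q = 0
    · have hxpt : x = pt Z₀ (x s) (x s') := funext fun q => by
        rcases eq_or_ne q s' with rfl | hq'
        · simp [hpts']
        rcases eq_or_ne q s with rfl | hq
        · simp [hpts]
        · simp [pt, Z₀, hq, hq', hx q hq hq']
      have heq : ∀ a b a' b', e Z₀ a b (pt Z₀ a' b') = if a = a' ∧ b = b' then (1 : F) else 0 := by
        intro a b a' b'
        by_cases h : a = a' ∧ b = b'
        · rw [if_pos h, h.1, h.2]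
          simp [e]
        · rw [if_neg h]
          refine Pi.single_eq_of_ne (fun hh => h ⟨?_, ?_⟩) 1
          · have := congrFun hh s; rwa [hpts, hpts, eq_comm] at this
          · have := congrFun hh s'; rwa [hpts', hpts', eq_comm] at this
      rw [hxpt]
      generalize x s = a, x s' = b
      simp only [v, Pi.add_apply, Pi.smul_apply, heq, smul_eq_mul]
      fin_cases a <;> fin_cases b <;> simp [hα, hβ, f12, f21, f11, f10, f22, f20, f02]
    · push Not at hx
      obtain ⟨q, h1, h3, hxq⟩ := hx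
      have hv : ∀ a b, e Z₀ a b x = 0 := fun a b => Pi.single_eq_of_ne (fun h => hxq (by
        rw [h]
        simp [pt, Z₀, h1, h3])) 1
      simp [v, hv, hsupp x q h1 h3 hxq]
  -- all rests
  have hvX : ∀ Z, v Z ∈ X := by
    intro Z
    have key : ∀ D : Finset S, (∀ q ∈ D, q ≠ s ∧ q ≠ s') → v (D.piecewise Z Z₀) ∈ X := by
      intro D
      induction D using Finset.induction with
      | empty => intro; simpa [← hzv] using hz
      | insert q D hqD ih =>
        intro hD
        obtain ⟨h1, h3⟩ := hD q (Finset.mem_insert_self q D)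
        have hW := ih fun r hr => hD r (Finset.mem_insert_of_mem hr)
        rw [Finset.piecewise_insert]
        set Wz := D.piecewise Z Z₀ with hWz
        have hW0 : Wz q = 0 := by simp [hWz, hqD, Z₀]
        by_cases hk : Z q = 0
        · rwa [hk, ← hW0, Function.update_eq_self]
        have h := hdiffq q h1 h3 (Z q) 0 hk (v Wz) hW
        convert h using 1
        have hpq : ∀ a b, pt Wz a b q = 0 := fun a b => by simp [pt, h1, h3, hW0]
        have hupq : ∀ a b k, Function.update (pt Wz a b) q k = pt (Function.update Wz q k) a b := fun a b k => by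
          simp only [pt]
          rw [Function.update_comm h3.symm, Function.update_comm h1.symm]
        simp only [v, e, map_add, map_smul, act_rt_trv_single, hpq, if_true, hupq, one_smul]
        module
    have := key ((Finset.univ.erase s).erase s') fun q hq => by
      simp only [Finset.mem_erase] at hq
      exact ⟨hq.2.1, hq.1⟩
    have hagree : ∀ a b, pt (((Finset.univ.erase s).erase s').piecewise Z Z₀) a b = pt Z a b := fun a b => by
      funext q
      rcases eq_or_ne q s' with rfl | hq'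
      · simp [pt]
      rcases eq_or_ne q s with rfl | hq
      · simp [pt, hne]
      · simp [pt, hq, hq']
    simpa [v, e, hagree] using this
  by_cases hα0 : α = 0
  · have hβ0 : β ≠ 0 := fun h => hz0 (by rw [hzv]; simp [v, hα0, h])
    have h := X.smul_mem β⁻¹ (hvX Z₀)
    simp only [v, hα0, zero_smul, zero_add, inv_smul_smul₀ hβ0] at h
    convert h using 2 <;>
    · refine congrArg (fun y => Pi.single y (1 : F)) (funext fun q => ?_)
      rcases eq_or_ne q s' with rfl | hq'
      · simp [pt, hne.symm]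
      rcases eq_or_ne q s with rfl | hq
      · simp [pt, hne]
      · simp [pt, Z₀, hq, hq']
  exfalso
  -- four pivots
  let Y : Finset (S → Fin 3) := Finset.univ.filter fun x =>
    (x s, x s') ∈ ({(0, 0), (1, 1), (1, 2), (2, 2)} : Finset (Fin 3 × Fin 3))
  let π : X →ₗ[F] (Y → F) :=
    { toFun := fun y x => y.1 x.1
      map_add' := fun _ _ => rfl
      map_smul' := fun _ _ => rfl }
  have hY : ∀ Z a b, (a, b) ∈ ({(0, 0), (1, 1), (1, 2), (2, 2)} : Finset (Fin 3 × Fin 3)) → pt Z a b ∈ Y :=
    fun Z a b h => by simp only [Y, Finset.mem_filter, Finset.mem_univ, true_and, hpts, hpts']; exact h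
  have hsurj : LinearMap.range π = ⊤ := by
    have hmem : ∀ Z a b, (a, b) ∈ ({(0, 0), (1, 1), (1, 2), (2, 2)} : Finset (Fin 3 × Fin 3)) →
        (fun x : Y => e Z a b x.1) ∈ LinearMap.range π := by
      intro Z
      have hnot : ∀ a b, (a, b) ∉ ({(0, 0), (1, 1), (1, 2), (2, 2)} : Finset (Fin 3 × Fin 3)) → ∀ x : Y,
          e Z a b x.1 = 0 := fun a b h x => Pi.single_eq_of_ne (fun hx => h (by
            have := (Finset.mem_filter.1 x.2).2
            rwa [hx, hpts, hpts'] at this)) 1
      have n01 := hnot 0 1 (by decide)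
      have n10 := hnot 1 0 (by decide)
      have n02 := hnot 0 2 (by decide)
      have n20 := hnot 2 0 (by decide)
      have n21 := hnot 2 1 (by decide)
      have hP : α • (e Z 0 1 + e Z 1 0 + e Z 1 1) ∈ X := by
        have h := hdiff 1 0 (by decide) (v Z) (hvX Z)
        convert h using 1
        simp [v, hact]
        have hzero : ((2 : F) * β) • e Z 1 1 = 0 := by rw [h2, zero_mul, zero_smul]
        linear_combination (norm := module) -hzero
      have hQ : α • (e Z 0 2 + e Z 2 0 + e Z 2 2) + β • (e Z 1 2 + e Z 2 1) ∈ X := by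
        have h := hdiff 2 0 (by decide) (v Z) (hvX Z)
        convert h using 1
        simp [v, hact]
        module
      have hT : α • (e Z 1 2 + e Z 2 1) ∈ X := by
        have h := X.sub_mem (hdiff 1 2 (by decide) _ hQ) hP
        convert h using 1
        simp [hact]
        have hzero : ((2 : F) * β) • e Z 1 1 = 0 := by rw [h2, zero_mul, zero_smul]
        linear_combination (norm := module) -hzero
      have r12 : (fun x : Y => e Z 1 2 x.1) ∈ LinearMap.range π := by
        refine ⟨α⁻¹ • ⟨_, hT⟩, funext fun x => ?_⟩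
        simp [π, n21, hα0]
      have r11 : (fun x : Y => e Z 1 1 x.1) ∈ LinearMap.range π := by
        refine ⟨α⁻¹ • ⟨_, hP⟩, funext fun x => ?_⟩
        simp [π, n01, n10, hα0]
      have r00 : (fun x : Y => e Z 0 0 x.1) ∈ LinearMap.range π := by
        refine ⟨α⁻¹ • ⟨_, hvX Z⟩, funext fun x => ?_⟩
        simp [π, v, n01, n10, hα0]
      have r22 : (fun x : Y => e Z 2 2 x.1) ∈ LinearMap.range π := by
        refine ⟨α⁻¹ • (⟨_, hQ⟩ - (β * α⁻¹) • ⟨_, hT⟩), funext fun x => ?_⟩
        simp [π, n02, n20, n21]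
        field_simp
        ring
      intro a b h
      simp only [Finset.mem_insert, Finset.mem_singleton, Prod.mk.injEq] at h
      rcases h with ⟨rfl, rfl⟩ | ⟨rfl, rfl⟩ | ⟨rfl, rfl⟩ | ⟨rfl, rfl⟩ <;> assumption
    refine eq_top_iff.2 fun f _ => ?_
    rw [(Pi.basisFun F Y).sum_repr f |>.symm]
    refine Submodule.sum_mem _ fun x _ => Submodule.smul_mem _ _ ?_
    rw [Pi.basisFun_apply]
    have hx := hmem x.1 (x.1 s) (x.1 s') (Finset.mem_filter.1 x.2).2
    convert hx using 1
    funext y
    have hxx : pt x.1 (x.1 s) (x.1 s') = x.1 := by simp [pt]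
    simp only [e, hxx]
    by_cases hyx : y = x
    · simp [hyx]
    · rw [Pi.single_eq_of_ne hyx, Pi.single_eq_of_ne fun h => hyx (Subtype.ext h)]
  have h1 := LinearMap.finrank_range_le π
  rw [hsurj, finrank_top, Module.finrank_fintype_fun_eq_card, Fintype.card_coe, hX] at h1
  have hYeq : Y.card = 4 * 3 ^ (Fintype.card S - 2) := by
    have : Y = (slot s {0} ∩ slot s' {0}) ∪ ((slot s {1} ∩ slot s' {1, 2}) ∪ (slot s {2} ∩ slot s' {2})) := by
      ext x
      simp [Y, slot]
      generalize x s = a, x s' = b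
      revert a b
      decide
    rw [this, Finset.card_union_of_disjoint, Finset.card_union_of_disjoint, card_slot_inter hne, card_slot_inter hne,
      card_slot_inter hne]
    · simp
      ring
    all_goals
      rw [Finset.disjoint_left]
      intro x hx hx'
      simp [slot] at hx hx'
      omega
  have hc2 : 2 ≤ Fintype.card S := Fintype.one_lt_card_iff.2 ⟨s, s', hne⟩
  rw [hYeq, show Fintype.card S - 1 = Fintype.card S - 2 + 1 by omega, pow_succ] at h1
  have := pow_pos (show 0 < 3 by norm_num) (Fintype.card S - 2)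
  omega

/-- **the swap is not conjugate to a root element** -/
theorem no_swap (hM : Over M) (hproper : ¬ Cfsg.Geo.specialLinear (S → Fin 3) F ≤ M) (h2 : (2 : F) = 0)
    {r : Rt S 3 F} {c : GL (S → Fin 3) F} (hc : c ∈ M) {s s' : S} (hne : s ≠ s') {w : GL (Fin 3) F}
    (hg : c * r.elt * c⁻¹ = rt s' w * pg (Equiv.swap s s') * (rt s' w)⁻¹) : False := by
  classical
  have h01 : (0 : Fin 3) ≠ 1 := by decide
  obtain ⟨v, hv, hr, -⟩ := exists_std le_rfl r h01
  set t := r.s
  set π : GL (S → Fin 3) F := pg (Equiv.swap s s') with hπ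
  set k := rt t v with hk
  set V := rt s' w with hV
  set R₀ := (std (F := F) t h01).elt with hR₀
  set d := k⁻¹ * c⁻¹ * V with hd
  have hdR : d * π = R₀ * d := by
    have h1 : k⁻¹ * c⁻¹ * (V * π * V⁻¹) * c * k = R₀ := by rw [← hg, hr]; group
    rw [← h1, hd]
    group
  have hkM : k ∈ M := rt_mem_over hM t hv
  -- pure operators commuting with the swap
  let Comm : GL (S → Fin 3) F → Prop := fun h => ∃ u : S → GL (Fin 3) F,
    (∀ q, (u q : Matrix (Fin 3) (Fin 3) F).det = 1) ∧ h = tk u ∧ h * π = π * h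
  have hmem : ∀ h, Comm h → d * h * d⁻¹ ∈ M := by
    rintro _ ⟨u, hu, rfl, -⟩
    have hVh : V * tk u * V⁻¹ ∈ M := by
      rw [hV, rt_eq, ← map_inv, ← map_mul, ← map_mul]
      refine hM.1 _ fun q => ?_
      rw [Pi.mul_apply, Pi.mul_apply, Pi.inv_apply, Units.val_mul, Units.val_mul, Matrix.det_units_conj, hu]
    have h1 := M.mul_mem (M.mul_mem (M.mul_mem (M.inv_mem hkM) (M.inv_mem hc)) hVh) (M.mul_mem hc hkM)
    convert h1 using 1
    rw [hd]
    group
  have hlift : ∀ h, Comm h → h * h = 1 → ∃ (u : GL ({q // q ≠ t} → Fin 3) F) (W : GL (Fin 3) F),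
      Uni W ∧ rid t (d * h * d⁻¹) = TP.kr (u, W) := by
    intro h hh hsq
    have hcomm : d * h * d⁻¹ * R₀ = R₀ * (d * h * d⁻¹) := by
      have e1 : R₀ = d * π * d⁻¹ := by rw [hdR]; group
      rw [e1]
      calc d * h * d⁻¹ * (d * π * d⁻¹) = d * (h * π) * d⁻¹ := by group
        _ = _ := by
          obtain ⟨u, -, -, hc'⟩ := hh
          rw [hc']
          group
    have hdM := hmem h hh
    have hkron := TP.kron_of_transport (by simp) (good_map le_rfl hM hproper t) h01
      (fun w' hw' => ⟨d * h * d⁻¹ * rt t w' * (d * h * d⁻¹)⁻¹,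
        M.mul_mem (M.mul_mem hdM (rt_mem_over hM t hw')) (M.inv_mem hdM), by
          show rid t _ = _
          rw [map_mul (rid t), map_mul (rid t), map_inv (rid t), rid_rt]⟩)
      (show rid t (d * h * d⁻¹) * TP.kr ((1 : GL ({q // q ≠ t} → Fin 3) F), TP.bel 0 1 1) =
          TP.kr ((1 : GL ({q // q ≠ t} → Fin 3) F), TP.bel 0 1 1) * rid t (d * h * d⁻¹) by
        rw [← rid_rt, ← std_elt t h01, ← map_mul, ← map_mul, ← hR₀, hcomm])
    obtain ⟨u, W, huW⟩ := TP.exists_of_mem hkron
    have hi₀ : ∃ y : ({q // q ≠ t} → Fin 3) → F, y ≠ 0 := ⟨1, one_ne_zero⟩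
    obtain ⟨y, hy⟩ := hi₀
    have huy : act u y ≠ 0 := fun e => hy (act_injective u (e.trans (map_zero _).symm))
    have hcancel : ∀ {p q : Fin 3 → F}, TP.pv (act u y) p = TP.pv (act u y) q → p = q := fun {p q} e => by
      obtain ⟨i, hi⟩ := Function.ne_iff.1 huy
      funext j
      exact mul_left_cancel₀ hi (congrFun e (i, j))
    have hWb : ∀ x, act W (x + x 1 • Pi.single 0 1) = act W x + act W x 1 • Pi.single 0 1 := fun x => by
      have e0 := congrArg (rid t) hcomm
      rw [map_mul (rid t) (d * h * d⁻¹) R₀, map_mul (rid t) R₀, huW, hR₀, std_elt, rid_rt] at e0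
      have e := congrArg (fun g => act g (TP.pv y x)) e0
      simp only [act_mul, TP.act_kr_pv, act_one, TP.act_bel h01, one_mul] at e
      exact hcancel e
    set a := act W (Pi.single 1 1) 1 with ha
    have hW0 : act W (Pi.single 0 1) = a • Pi.single 0 1 := by
      have e := hWb (Pi.single 1 1)
      simpa [ha] using e
    have ha0 : a ≠ 0 := fun e => by
      rw [e, zero_smul] at hW0
      simpa using congrFun (act_injective W (hW0.trans (map_zero _).symm)) 0
    have hW21 : act W (Pi.single 2 1) 1 = 0 := by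
      have e := congrFun (hWb (Pi.single 2 1)) 0
      simpa using e
    have hexp : ∀ x, act W x = x 0 • act W (Pi.single 0 1) + x 1 • act W (Pi.single 1 1) +
        x 2 • act W (Pi.single 2 1) := fun x => by
      rw [← map_smul, ← map_smul, ← map_smul, ← map_add, ← map_add]
      congr 1
      funext i
      fin_cases i <;> simp
    set b := act W (Pi.single 2 1) 2 with hb
    obtain ⟨μ, hμ⟩ : ∃ μ : F, ∀ x, act W (act W x) = μ • x := by
      have e1 : TP.kr (u * u, W * W) = 1 := by
        rw [← Prod.mk_mul_mk, map_mul, ← huW, ← map_mul,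
          show d * h * d⁻¹ * (d * h * d⁻¹) = d * (h * h) * d⁻¹ by group, hsq, mul_one, mul_inv_cancel, map_one]
      obtain ⟨c, hc'⟩ := TP.eq_smul_of_forall (β := Fin 3) (W₁ := LinearMap.id) (W₂ := act W ∘ₗ act W)
        Function.injective_id (by simp) fun x => by
          obtain ⟨i, hi⟩ := Function.ne_iff.1
            (show act (u * u) y ≠ 0 from fun e => hy (act_injective _ (e.trans (map_zero _).symm)))
          refine ⟨y i / act (u * u) y i, funext fun j => ?_⟩
          have e := congrFun (congrArg (fun g => act g (TP.pv y x)) e1) (i, j)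
          simp only [TP.act_kr_pv, act_one, TP.pv_apply, act_mul W W] at e
          rw [Pi.smul_apply, LinearMap.id_apply, smul_eq_mul, LinearMap.comp_apply, div_mul_eq_mul_div,
            div_eq_iff hi, ← e]
          ring
      exact ⟨c, hc'⟩
    have hμa : μ = a * a := by
      have e := congrFun (hμ (Pi.single 0 1)) 0
      rw [hW0, map_smul, hW0] at e
      simpa using e.symm
    have hμb : μ = b * b := by
      have e := congrFun (hμ (Pi.single 2 1)) 2
      rw [hexp (act W (Pi.single 2 1)), hW0, hW21] at e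
      simpa [← hb] using e.symm
    have hab : b = a := by
      have e : (b - a) * (b - a) = 0 := by linear_combination (b * a - b * b) * 0 - hμb + hμa + (a * a - b * a) * h2
      exact sub_eq_zero.1 (mul_self_eq_zero.1 e)
    obtain ⟨W', hW'⟩ := TP.exists_gl (a⁻¹ • act W) fun x x' e =>
      act_injective W (smul_right_injective _ (inv_ne_zero ha0) e)
    obtain ⟨u', hu'⟩ := TP.exists_gl (a • act u) fun x x' e =>
      act_injective u (smul_right_injective _ ha0 e)
    refine ⟨u', W', ⟨a⁻¹ * act W (Pi.single 1 1) 0, a⁻¹ * act W (Pi.single 2 1) 0,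
      a⁻¹ * act W (Pi.single 1 1) 2, fun x => funext fun i => ?_⟩, ?_⟩
    · rw [hW', LinearMap.smul_apply, hexp, hW0]
      fin_cases i <;> simp [← ha, ← hb, hW21, hab] <;> field_simp <;> ring
    · rw [huW]
      refine TP.gl_ext_pv fun p q => ?_
      rw [TP.act_kr_pv, TP.act_kr_pv, hu', hW', LinearMap.smul_apply, LinearMap.smul_apply, TP.pv_smul_left,
        TP.pv_smul_right, smul_smul, mul_inv_cancel₀ ha0, one_smul]
  -- transvections act in the right factor trivially
  have htriv : ∀ f : GL (Fin 3) F →* GL (S → Fin 3) F, (∀ i k (h : i ≠ k) c, Comm (f (trv i k h c))) →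
      ∀ i k (h : i ≠ k) c, ∃ u, rid t (d * f (trv i k h c) * d⁻¹) = TP.kr (u, (1 : GL (Fin 3) F)) := by
    intro f hf i k hik c
    obtain ⟨l, hli, hlk⟩ := exists_third le_rfl i k
    have hl : ∀ i k (h : i ≠ k) c, ∃ (u : GL ({q // q ≠ t} → Fin 3) F) (W : GL (Fin 3) F),
        Uni W ∧ rid t (d * f (trv i k h c) * d⁻¹) = TP.kr (u, W) := fun i k h c =>
      hlift _ (hf i k h c) (by rw [← map_mul, trv_sq h2, map_one])
    obtain ⟨u₁, W₁, ⟨α, β, γ, hW₁⟩, h₁⟩ := hl i k hik (1 : F)
    obtain ⟨u₂, W₂, ⟨α', β', γ', hW₂⟩, h₂⟩ := hl k l hlk.symm 1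
    obtain ⟨u₃, W₃, hW₃, h₃⟩ := hl l k hlk c
    let Φ : GL (Fin 3) F →* GL (({q // q ≠ t} → Fin 3) × Fin 3) F :=
      ((rid t).toMonoidHom.comp (MulAut.conj d).toMonoidHom).comp f
    have hΦ : ∀ g, Φ g = rid t (d * f g * d⁻¹) := fun g => rfl
    rw [← hΦ] at h₁ h₂ h₃ ⊢
    have h₄ : Φ (trv i l hli.symm 1) = TP.kr (u₁ * u₂ * u₁⁻¹ * u₂⁻¹, TP.bel 0 1 (β * γ' - β' * γ)) := by
      rw [← uni_mul hW₁ hW₂, ← one_mul (1 : F), ← trv_comm i k l hik hlk.symm hli.symm, map_mul, map_mul, map_mul,
        map_inv, map_inv, h₁, h₂]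
      simp only [← map_inv, ← map_mul, Prod.inv_mk, Prod.mk_mul_mk]
    refine ⟨u₁ * u₂ * u₁⁻¹ * u₂⁻¹ * u₃ * (u₁ * u₂ * u₁⁻¹ * u₂⁻¹)⁻¹ * u₃⁻¹, ?_⟩
    rw [← one_mul c, ← trv_comm i l k hli.symm hlk hik, map_mul, map_mul, map_mul, map_inv, map_inv, h₄, h₃]
    simp only [← map_inv, ← map_mul, Prod.inv_mk, Prod.mk_mul_mk, uni_comm_bel hW₃]
  -- two invariant subspaces with a common vector
  let X : Fin 3 → Submodule F ((S → Fin 3) → F) := fun j => (cs (slot t {j})).map (act d⁻¹)
  have hinv : ∀ h u, rid t (d * h * d⁻¹) = TP.kr (u, (1 : GL (Fin 3) F)) → ∀ j, ∀ z ∈ X j, act h z ∈ X j := by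
    rintro h u hu j _ ⟨z, hz, rfl⟩
    refine ⟨act (d * h * d⁻¹) z, fun x hx => ?_, by simp only [act_mul, act_inv_act]⟩
    have e1 := congrFun (act_rid t (d * h * d⁻¹) z) (spl t x)
    rw [toR_apply, Equiv.symm_apply_apply, hu] at e1
    have e3 := congrFun (TP.col_kr_one (β := Fin 3) u (toR t z) (x t)) fun q => x q.1
    simp only [TP.col] at e3
    have hcol : (fun i => toR t z (i, x t)) = 0 := funext fun i => hz _ (by
      simp only [slot, Finset.mem_filter, Finset.mem_univ, true_and, Finset.mem_singleton] at hx ⊢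
      rwa [show (spl t).symm (i, x t) t = x t from congrArg Prod.snd ((spl t).apply_symm_apply (i, x t))])
    rw [← e1, spl_apply, e3, show TP.col (toR t z) (x t) = 0 from hcol, map_zero, Pi.zero_apply]
  let f₁ : S → (GL (Fin 3) F →* GL (S → Fin 3) F) := fun q => rt q
  let f₂ : GL (Fin 3) F →* GL (S → Fin 3) F :=
    { toFun := fun g => rt s g * rt s' g
      map_one' := by simp
      map_mul' := fun g g' => by
        have hc' : rt s g' * rt s' g = rt s' g * rt s g' := by
          rw [rt_eq, rt_eq, ← map_mul, ← map_mul]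
          exact congrArg tk (Pi.mulSingle_commute (f := fun _ : S => GL (Fin 3) F) hne g' g)
        rw [map_mul, map_mul]
        calc rt s g * rt s g' * (rt s' g * rt s' g') = rt s g * (rt s g' * rt s' g) * rt s' g' := by group
          _ = _ := by rw [hc']; group }
  have hcommf : ∀ u : S → GL (Fin 3) F, u s = u s' → tk u * π = π * tk u := fun u hu => by
    rw [hπ, tk_pg]
    congr 2
    funext q
    rcases eq_or_ne q s with rfl | h1
    · simp [hu]
    rcases eq_or_ne q s' with rfl | h3
    · simp [hu]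
    · simp [Equiv.swap_apply_of_ne_of_ne h1 h3]
  have hc1 : ∀ q, q ≠ s → q ≠ s' → ∀ i k (h : i ≠ k) c, Comm (f₁ q (trv i k h c)) := fun q h1 h3 i k h c =>
    ⟨Pi.mulSingle q (trv i k h c), fun r => by
      rcases eq_or_ne r q with rfl | hr
      · rw [Pi.mulSingle_eq_same]; exact det_trv h c
      · simp [hr], rfl, hcommf _ (by simp [h1.symm, h3.symm])⟩
  have hc2 : ∀ i k (h : i ≠ k) c, Comm (f₂ (trv i k h c)) := fun i k h c =>
    ⟨Pi.mulSingle s (trv i k h c) * Pi.mulSingle s' (trv i k h c), fun r => by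
      rw [Pi.mul_apply, Units.val_mul, Matrix.det_mul]
      rcases eq_or_ne r s with rfl | hr
      · simp [hne, det_trv h c]
      rcases eq_or_ne r s' with rfl | hr'
      · simp [hne.symm, det_trv h c]
      · simp [hr, hr'], by show rt s _ * rt s' _ = _; rw [rt_eq, rt_eq, map_mul], by
      show rt s _ * rt s' _ * π = π * (rt s _ * rt s' _)
      rw [rt_eq, rt_eq, ← map_mul]
      exact hcommf _ (by simp [hne, hne.symm])⟩
  have hsym : ∀ j, Pi.single (Function.update (fun _ => (0 : Fin 3)) s' 1) (1 : F) +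
      Pi.single (Function.update (fun _ => (0 : Fin 3)) s 1) 1 ∈ X j := by
    intro j
    refine sym_mem_of_invariant h2 hne ?_ (fun q h1 h3 i k h c z hz => ?_) fun i k h c z hz => ?_
    · rw [(Submodule.equivMapOfInjective _ (act_injective d⁻¹) _).finrank_eq.symm]
      have hj : ∃ j', j ≠ j' := ⟨j + 1, by revert j; decide⟩
      obtain ⟨j', hj'⟩ := hj
      rw [← std_L t hj', finrank_L]
    · obtain ⟨u, hu⟩ := htriv (f₁ q) (hc1 q h1 h3) i k h c
      exact hinv _ u hu j z hz
    · obtain ⟨u, hu⟩ := htriv f₂ hc2 i k h c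
      exact hinv _ u hu j z hz
  obtain ⟨z₀, hz₀, e₀⟩ := hsym 0
  obtain ⟨z₁, hz₁, e₁⟩ := hsym 1
  rw [act_injective _ (e₁.trans e₀.symm)] at hz₁
  have hzero : z₀ = 0 := funext fun x => by
    by_cases hx : x t = 0
    · exact hz₁ x (by simp [slot, hx])
    · exact hz₀ x (by simp [slot, hx])
  rw [hzero, map_zero] at e₀
  have hx := congrFun e₀ (Function.update (fun _ => (0 : Fin 3)) s 1)
  have hxy : Function.update (fun _ => (0 : Fin 3)) s 1 ≠ Function.update (fun _ : S => (0 : Fin 3)) s' 1 :=
    fun e => by simpa [hne] using congrFun e s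
  simp [hxy] at hx

end Cfsg.Agent.MaxCl.TW
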