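/-
An element of a proper overgroup conjugating one root element into the wreath product lies in it; so do p-groups
through root elements and the stabilisers of the image or the fixed space of a root element.
-/
import Cfsg.Agent.Lib.MaxCl.PowerSwap

set_option autoImplicit false
set_option linter.unusedSectionVars false
set_option linter.style.haveILetI false

namespace Cfsg.Agent.MaxCl.TW

open Matrix
open scoped MatrixGroups Kronecker

variable {S : Type} [Fintype S] [DecidableEq S] {m : ℕ} {F : Type*} [Field F]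

/-- the standing hypotheses -/
structure Ctx (M : Subgroup (GL (S → Fin m) F)) : Prop where
  hm : 3 ≤ m
  ov : Over M
  proper : ¬ Cfsg.Geo.specialLinear (S → Fin m) F ≤ M
  below : Below S m F

variable {M : Subgroup (GL (S → Fin m) F)}

theorem Ctx.mem_of_comm (H : Ctx M) {r : Rt S m F} {c : GL (S → Fin m) F} (hc : c ∈ M)
    (h : c * r.elt = r.elt * c) : c ∈ Wr S m F := by
  obtain ⟨h01⟩ : Nonempty ((⟨0, by have := H.hm; omega⟩ : Fin m) ≠ ⟨1, by have := H.hm; omega⟩) :=
    ⟨by simp [Fin.ext_iff]⟩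
  obtain ⟨w, -, -, he⟩ := exists_std H.hm r h01
  exact mem_wr_of_comm H.hm H.ov H.proper H.below h01 hc (by rw [← he, h])

/-- root elements of one slot are conjugate -/
theorem exists_conj_same (hm : 3 ≤ m) (hM : Over M) (r r' : Rt S m F) (h : r.s = r'.s) :
    ∃ k ∈ M, k ∈ Wr S m F ∧ k * r.elt * k⁻¹ = r'.elt := by
  have h01 : (⟨0, by omega⟩ : Fin m) ≠ ⟨1, by omega⟩ := by simp [Fin.ext_iff]
  obtain ⟨w, hw, hr, -⟩ := exists_std hm r h01
  obtain ⟨w', hw', hr', -⟩ := exists_std hm r' h01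
  refine ⟨rt r.s w' * (rt r.s w)⁻¹, M.mul_mem (rt_mem_over hM _ hw') (M.inv_mem (rt_mem_over hM _ hw)),
    mul_mem (rt_mem _ _) (inv_mem (rt_mem _ _)), ?_⟩
  rw [hr', ← h, hr]
  group

theorem Ctx.mem_of_same (H : Ctx M) {r r' : Rt S m F} {c : GL (S → Fin m) F} (hc : c ∈ M)
    (h : c * r.elt * c⁻¹ = r'.elt) (hs : r'.s = r.s) : c ∈ Wr S m F := by
  obtain ⟨k, hkM, hkW, hk⟩ := exists_conj_same H.hm H.ov r' r hs
  have := H.mem_of_comm (M.mul_mem hkM hc) (r := r) (by
    calc k * c * r.elt = k * (c * r.elt * c⁻¹) * k⁻¹ * (k * c) := by group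
      _ = _ := by rw [h, hk])
  simpa using mul_mem (inv_mem hkW) this

theorem Ctx.mem_of_root_two (H : Ctx M) {r r' : Rt S m F} {c : GL (S → Fin m) F} (hc : c ∈ M)
    (h : c * r.elt * c⁻¹ = r'.elt) (hs : r'.s ≠ r.s) (h3 : Fintype.card S < 3) {P : GL (S → Fin m) F}
    (hPW : P ∈ Wr S m F)
    (hPu : ∀ u : S → GL (Fin m) F, ∃ σ : Equiv.Perm S, P⁻¹ * tk u * P = tk fun q => u (σ q))
    (r'' : Rt S m F) (hs'' : r''.s = r.s) (he'' : P * r'.elt * P⁻¹ = r''.elt) : c ∈ Wr S m F := by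
  classical
  let M' : Subgroup (GL (S → Fin m) F) :=
    { carrier := {x | P⁻¹ * x * P ∈ M}
      one_mem' := by simp
      mul_mem' := fun {x y} hx hy => by
        have e := M.mul_mem hx hy
        rwa [show P⁻¹ * x * P * (P⁻¹ * y * P) = P⁻¹ * (x * y) * P by group] at e
      inv_mem' := fun {x} hx => by
        have e := M.inv_mem hx
        rwa [show (P⁻¹ * x * P)⁻¹ = P⁻¹ * x⁻¹ * P by group] at e }
  have hmem : ∀ x, x ∈ M' ↔ P⁻¹ * x * P ∈ M := fun x => Iff.rfl
  have hM'over : Over M' := ⟨fun u hu => by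
    obtain ⟨σ, hσ⟩ := hPu u
    rw [hmem, hσ]
    exact H.ov.1 _ fun q => hu _, fun h => absurd h (by omega)⟩
  have hM'proper : ¬ Cfsg.Geo.specialLinear (S → Fin m) F ≤ M' := fun hle => H.proper fun x hx => by
    have h1 : P * x * P⁻¹ ∈ Cfsg.Geo.specialLinear (S → Fin m) F := by
      rw [TP.mem_sl_iff] at hx ⊢
      rw [Units.val_mul, Units.val_mul, Matrix.det_units_conj, hx]
    have h2 := (hmem _).1 (hle h1)
    rwa [show P⁻¹ * (P * x * P⁻¹) * P = x by group] at h2
  obtain ⟨k, hkM, hkW, hk⟩ := exists_conj_same H.hm hM'over r'' r hs''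
  set d := k * P * c with hd
  have hdr : d * r.elt = r.elt * d := by
    calc d * r.elt = k * (P * (c * r.elt * c⁻¹) * P⁻¹) * k⁻¹ * d := by rw [hd]; group
      _ = _ := by rw [h, he'', hk]
  obtain ⟨h01⟩ : Nonempty ((⟨0, by have := H.hm; omega⟩ : Fin m) ≠ ⟨1, by have := H.hm; omega⟩) :=
    ⟨by simp [Fin.ext_iff]⟩
  obtain ⟨w, hw, -, he⟩ := exists_std H.hm r h01
  rw [he, map_mul, map_mul, map_inv] at hdr
  set v := rt r.s w with hv
  set d' := v⁻¹ * d * v with hd'
  have hd'W : d' ∈ Wr S m F := by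
    have hkron := TP.kron_of_transport (by simpa using H.hm) (good_map H.hm hM'over hM'proper r.s) h01
      (c := rid r.s d') (fun w' hw' => ⟨d' * rt r.s w' * d'⁻¹, by
        have h1 : c * (v * rt r.s w' * v⁻¹) * c⁻¹ ∈ M := M.mul_mem (M.mul_mem hc (M.mul_mem (M.mul_mem
          (rt_mem_over H.ov _ hw) (rt_mem_over H.ov _ hw')) (M.inv_mem (rt_mem_over H.ov _ hw)))) (M.inv_mem hc)
        have h2 : P * (c * (v * rt r.s w' * v⁻¹) * c⁻¹) * P⁻¹ ∈ M' := by
          rw [hmem]
          simpa [mul_assoc] using h1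
        have hv' : v ∈ M' := rt_mem_over hM'over _ hw
        have h4 := M'.mul_mem (M'.mul_mem (M'.mul_mem (M'.inv_mem hv') hkM) h2)
          (M'.mul_mem (M'.inv_mem hkM) hv')
        show _ ∈ M'
        convert h4 using 1
        rw [hd', hd]
        group, by
        show rid r.s _ = _
        rw [map_mul, map_mul, map_inv, rid_rt]⟩) (by
      rw [← rid_rt, ← map_mul, ← map_mul]
      refine congrArg _ ?_
      generalize TP.bel (β := Fin m) _ _ (1 : F) = b at hdr ⊢
      calc d' * rt r.s b = v⁻¹ * (d * (v * rt r.s b * v⁻¹)) * v := by rw [hd']; group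
        _ = _ := by rw [hdr, hd']; group)
    obtain ⟨u, w', huw⟩ := TP.exists_of_mem hkron
    refine mem_wr_of_rid r.s huw ?_
    haveI : Subsingleton {q // q ≠ r.s} := Fintype.card_le_one_iff_subsingleton.1 (by
      rw [Fintype.card_subtype, Finset.filter_ne', Finset.card_erase_of_mem (Finset.mem_univ _), Finset.card_univ]
      omega)
    haveI : Nonempty {q // q ≠ r.s} := ⟨⟨r'.s, hs⟩⟩
    rw [wr_eq_top]
    exact Subgroup.mem_top _
  have h5 := mul_mem (mul_mem (inv_mem hPW) (inv_mem hkW))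
    (mul_mem (mul_mem (rt_mem r.s w) hd'W) (inv_mem (rt_mem r.s w)))
  convert h5 using 1
  rw [← hv, hd', hd]
  group

/-- **an element conjugating a root element to a root element lies in the wreath product** -/
theorem Ctx.mem_of_root (H : Ctx M) {r r' : Rt S m F} {c : GL (S → Fin m) F} (hc : c ∈ M)
    (h : c * r.elt * c⁻¹ = r'.elt) : c ∈ Wr S m F := by
  classical
  by_cases hs : r'.s = r.s
  · exact H.mem_of_same hc h hs
  by_cases h3 : 3 ≤ Fintype.card S
  · obtain ⟨D, -, -, -, hP⟩ := exists_diag_perm H.hm H.ov h3 (Equiv.swap r.s r'.s)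
    have := H.mem_of_same (M.mul_mem hP hc) (r := r) (r' := r'.move (Equiv.swap r.s r'.s) D) (by
      rw [← conj_elt, ← h]
      group) (by simp [Rt.move])
    have h2 := mul_mem (inv_mem (mul_mem_wr (Equiv.swap r.s r'.s) D)) this
    rwa [inv_mul_cancel_left] at h2
  -- two slots: the swap may lie outside the overgroup
  refine H.mem_of_root_two hc h (Ne.symm (Ne.symm hs)) (not_le.1 h3) (pg_mem (Equiv.swap r.s r'.s)) (fun u => ?_)
    (r'.move (Equiv.swap r.s r'.s) 1) (by simp [Rt.move]) (by rw [← conj_elt, map_one, mul_one])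
  rw [mul_assoc, tk_pg, inv_mul_cancel_left]
  exact ⟨_, rfl⟩

variable [Finite F]

/-- **an element conjugating a root element into the wreath product lies in it** -/
theorem Ctx.mem_of_conj (H : Ctx M) {r : Rt S m F} {c : GL (S → Fin m) F} (hc : c ∈ M)
    (h : c * r.elt * c⁻¹ ∈ Wr S m F) : c ∈ Wr S m F := by
  obtain ⟨σ, u, he⟩ := exists_of_mem_wr h
  have hg := small_conj c r
  by_cases hσ : σ = 1
  · obtain ⟨r', hr'⟩ := hg.root H.hm (u := u) (by rw [he, hσ, pg_one, one_mul])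
    exact H.mem_of_root hc hr'
  obtain ⟨s', hs'⟩ : ∃ s', σ.symm s' ≠ s' := by
    by_contra hall
    push Not at hall
    exact hσ (Equiv.ext fun q => by
      conv_rhs => rw [Equiv.Perm.one_apply, ← Equiv.symm_apply_apply σ q]
      exact (hall (σ q)).symm)
  obtain ⟨rfl, h2, s, w, hne, hgw⟩ := hg.swap H.hm he hs'
  exact (no_swap H.ov H.proper h2 hc hne hgw).elim

/-- commuting with a conjugate -/
theorem Ctx.mem_of_commConj (H : Ctx M) {r : Rt S m F} {c : GL (S → Fin m) F} (hc : c ∈ M)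
    (h : c * r.elt * c⁻¹ * r.elt = r.elt * (c * r.elt * c⁻¹)) : c ∈ Wr S m F :=
  H.mem_of_conj hc (H.mem_of_comm (M.mul_mem (M.mul_mem hc (elt_mem_over H.ov r)) (M.inv_mem hc)) h)

theorem Ctx.mem_of_cross (H : Ctx M) {r : Rt S m F} {c : GL (S → Fin m) F} (hc : c ∈ M)
    (hLK : r.L.map (act c) ≤ r.K) (hKL : r.L ≤ r.K.map (act c)) : c ∈ Wr S m F := by
  refine H.mem_of_commConj (r := r) hc (gl_ext fun z => ?_)
  set y := c * r.elt * c⁻¹ with hy
  have hyL : ∀ z, act y z - z ∈ r.L.map (act c) := fun z => by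
    refine ⟨_, act_elt_sub_mem r (act c⁻¹ z), ?_⟩
    rw [map_sub, act_act_inv, hy, act_mul, act_mul]
  have hyK : ∀ z ∈ r.K.map (act c), act y z = z := by
    rintro _ ⟨z, hz, rfl⟩
    rw [hy, act_mul, act_mul, act_inv_act, act_elt_fix hz]
  rw [act_mul y r.elt, act_mul r.elt y]
  have e1 : act y (act r.elt z) = act y z + (act r.elt z - z) := by
    conv_lhs => rw [← add_sub_cancel z (act r.elt z)]
    rw [map_add, hyK _ (hKL (act_elt_sub_mem r z))]
  have e2 : act r.elt (act y z) = act r.elt z + (act y z - z) := by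
    conv_lhs => rw [← add_sub_cancel z (act y z)]
    rw [map_add, act_elt_fix (hLK (hyL z))]
  rw [e1, e2]
  abel

theorem eq_of_map_le {c : GL (S → Fin m) F} {V : Submodule F ((S → Fin m) → F)} (h : V.map (act c) ≤ V) :
    V.map (act c) = V :=
  Submodule.eq_of_le_of_finrank_le h (Submodule.equivMapOfInjective _ (act_injective c) V).finrank_eq.le

theorem Ctx.mem_of_stabL (H : Ctx M) {r : Rt S m F} {c : GL (S → Fin m) F} (hc : c ∈ M)
    (h : r.L.map (act c) ≤ r.L) : c ∈ Wr S m F :=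
  H.mem_of_cross hc (h.trans (L_le_K r)) fun z hz => by
    rw [← eq_of_map_le h] at hz
    exact Submodule.map_mono (L_le_K r) hz

theorem Ctx.mem_of_stabK (H : Ctx M) {r : Rt S m F} {c : GL (S → Fin m) F} (hc : c ∈ M)
    (h : r.K.map (act c) ≤ r.K) : c ∈ Wr S m F :=
  H.mem_of_cross hc ((Submodule.map_mono (L_le_K r)).trans h) ((L_le_K r).trans (eq_of_map_le h).ge)

theorem elt_pow_char (hm : 3 ≤ m) (r : Rt S m F) : r.elt ^ ringChar F = 1 := by
  have h01 : (⟨0, by omega⟩ : Fin m) ≠ ⟨1, by omega⟩ := by simp [Fin.ext_iff]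
  obtain ⟨w, -, hw, -⟩ := exists_std hm r h01
  have h1 : (std (F := F) r.s h01).elt ^ ringChar F = 1 :=
    (rid r.s).injective (by rw [map_pow, std_elt, rid_rt, TP.bel_pow_char h01, map_one])
  rw [hw, conj_pow, h1, mul_one, mul_inv_cancel]

/-- **p-groups through root elements** -/
theorem Ctx.pGroup_le (H : Ctx M) {p : ℕ} [Fact p.Prime] (T : Subgroup (GL (S → Fin m) F)) (hT : IsPGroup p T)
    (hTM : T ≤ M) {r : Rt S m F} (hr : r.elt ∈ T) : T ≤ Wr S m F := by
  haveI : Group.IsNilpotent T := hT.isNilpotent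
  let U : Subgroup T := (Wr S m F).comap T.subtype
  suffices U = ⊤ by
    intro x hx
    exact (show (⟨x, hx⟩ : T) ∈ U by rw [this]; exact Subgroup.mem_top _)
  by_contra hU
  obtain ⟨n, hn, hnU⟩ := SetLike.exists_of_lt (Group.normalizerCondition_of_isNilpotent U (lt_top_iff_ne_top.2 hU))
  refine hnU (H.mem_of_conj (hTM n.2) (r := r) ?_)
  exact (Subgroup.mem_normalizer_iff.1 hn ⟨r.elt, hr⟩).1 (elt_mem_wr r)

end Cfsg.Agent.MaxCl.TW
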