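/-
A finite subgroup of `SL(2, K)` with upper unitriangular part `φ F`, `|F| ≥ 4` odd, and lower unitriangular part
containing `φ F * y` has `y` in `φ F` (Dickson's partition argument).
-/
import Cfsg.Agent.Lib.PSL2.TwoSylow

set_option autoImplicit false
set_option linter.style.haveILetI false

namespace Cfsg.Agent.MaxCl.Pow

open Matrix
open scoped MatrixGroups

theorem lower_mem_range {F K : Type*} [Field F] [Fintype F] [Field K] [Finite K] (φ : F →+* K)
    (hq : 4 ≤ Fintype.card F) (h2 : (2 : F) ≠ 0) (X : Subgroup SL(2, K))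
    (hU : ∀ b : K, (∃ x ∈ X, (x : Matrix (Fin 2) (Fin 2) K) = !![1, b; 0, 1]) ↔ b ∈ Set.range φ) {y : K}
    (hy : y ≠ 0) (hL : ∀ c : F, ∃ x ∈ X, (x : Matrix (Fin 2) (Fin 2) K) = !![1, 0; φ c * y, 1]) :
    y ∈ Set.range φ := by
  classical
  haveI := Fintype.ofFinite K
  set p := ringChar F with hp
  haveI : Fact p.Prime := ⟨CharP.char_is_prime F p⟩
  haveI : CharP K p := charP_of_injective_ringHom φ.injective p
  have hp2 : p ≠ 2 := fun e => h2 (by
    have h0 := CharP.cast_eq_zero F p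
    rw [e] at h0
    exact_mod_cast h0)
  have h2K : (2 : K) ≠ 0 := PSL2.two_ne_zero_of_charP hp2
  set H := X ⊔ Subgroup.center SL(2, K)
  have hneg : (-1 : SL(2, K)) ∈ H := (le_sup_right : _ ≤ H) PSL2.neg_one_mem_center
  have huuX : ∀ b : K, PSL2.uu b ∈ X ↔ b ∈ Set.range φ := fun b => by
    rw [← hU]
    exact ⟨fun h => ⟨_, h, rfl⟩, fun ⟨x, hx, e⟩ => (Subtype.ext e : x = PSL2.uu b) ▸ hx⟩
  have hpm : ∀ g ∈ H, g ^ p = 1 → g ∈ X := by
    intro g hg hgp
    obtain ⟨u, hu, z, hz, rfl⟩ := Subgroup.mem_sup_of_normal_right.1 hg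
    rcases PSL2.mem_center_iff_pm.1 hz with rfl | rfl
    · simpa using hu
    · rw [mul_neg, mul_one] at hgp ⊢
      rw [(Fact.out : p.Prime).odd_of_ne_two hp2 |>.neg_pow] at hgp
      have : (-1 : SL(2, K)) ∈ X := by
        rw [show (-1 : SL(2, K)) = u ^ p by rw [← hgp, neg_neg]]
        exact X.pow_mem hu p
      simpa using X.mul_mem hu this
  have htr : ∀ b : K, b ∈ PSL2.transl H ↔ b ∈ Set.range φ := fun b => by
    rw [PSL2.mem_transl, ← huuX]
    refine ⟨fun h => hpm _ h ?_, fun h => (le_sup_left : X ≤ H) h⟩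
    rw [PSL2.uu_pow, CharP.cast_eq_zero, zero_mul, PSL2.uu_zero]
  have hcard : Nat.card (PSL2.transl H) = Fintype.card F := by
    rw [← Nat.card_eq_fintype_card]
    refine (Nat.card_eq_of_bijective (fun a : F => (⟨φ a, (htr _).2 ⟨a, rfl⟩⟩ : PSL2.transl H)) ⟨?_, ?_⟩).symm
    · exact fun a b h => φ.injective (congrArg Subtype.val h)
    · exact fun b => (htr b.1).1 b.2 |>.imp fun a ha => Subtype.ext ha
  have hll : ∀ c : F, PSL2.ll (φ c * y) ∈ H := fun c => by
    obtain ⟨x, hx, e⟩ := hL c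
    exact (le_sup_left : X ≤ H) ((Subtype.ext e : x = PSL2.ll (φ c * y)) ▸ hx)
  have hpt : ∀ b : K, b ≠ 0 → PSL2.ll b ∈ H → (1 / b : K) ∈ PSL2.points H := fun b hb hbH =>
    PSL2.mem_points.2 ⟨PSL2.ll b, hbH, by simpa using hb, by simp⟩
  obtain ⟨m, hm, hm'⟩ := PSL2.exists_card_points H
  have hy1 : (1 / y : K) ∈ PSL2.points H := hpt y hy (by simpa using hll 1)
  have hy2 : (1 / (-y) : K) ∈ PSL2.points H := hpt (-y) (neg_ne_zero.2 hy) (by simpa using hll (-1))
  have hm1 : 1 ≤ m := by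
    rcases Nat.eq_zero_or_pos m with rfl | h
    · rw [mul_zero, Finset.card_eq_zero] at hm
      rw [hm] at hy1
      simp at hy1
    · exact h
  have hone : PSL2.uu (1 : K) ∈ H := (htr 1).2 ⟨1, map_one φ⟩
  rcases PSL2.partition_cases hp2 hneg one_ne_zero hone hm hm1 with rfl | ⟨h3, -⟩
  · obtain ⟨a, ha⟩ := (htr _).1 (hm' rfl _ hy1 _ hy2)
    refine ⟨2 / a, ?_⟩
    rw [map_div₀, map_ofNat, ha]
    field_simp
    ring_nf
    exact inv_mul_cancel₀ h2K
  · omega

end Cfsg.Agent.MaxCl.Pow
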