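/-
A proper overgroup of the pure operators of determinant one is contained in the wreath product: the image of a
root image stays in the span of two root images in different slots, which is impossible.
-/
import Cfsg.Agent.Lib.MaxCl.PowerConj

set_option autoImplicit false
set_option linter.unusedSectionVars false
set_option linter.style.haveILetI false

namespace Cfsg.Agent.MaxCl.TW

open Matrix
open scoped MatrixGroups Kronecker

variable {S : Type} [Fintype S] [DecidableEq S] {m : ℕ} {F : Type*} [Field F]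

theorem map_mul_act (g h : GL (S → Fin m) F) (V : Submodule F ((S → Fin m) → F)) :
    V.map (act (g * h)) = (V.map (act h)).map (act g) := by
  rw [← Submodule.map_comp]
  congr 1
  exact LinearMap.ext fun z => act_mul g h z

theorem finrank_map_act (g : GL (S → Fin m) F) (V : Submodule F ((S → Fin m) → F)) :
    Module.finrank F (V.map (act g)) = Module.finrank F V :=
  (Submodule.equivMapOfInjective _ (act_injective g) V).finrank_eq.symm

theorem slot_eq_of_L (hm : 3 ≤ m) {r r' : Rt S m F} (h : r.L = r'.L) : r.s = r'.s := by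
  by_contra hne
  have h1 := (finrank_cross hm hne).1
  rw [h, inf_idem, finrank_L] at h1
  have hc : 2 ≤ Fintype.card S := Fintype.one_lt_card_iff.2 ⟨_, _, hne⟩
  rw [show Fintype.card S - 1 = Fintype.card S - 2 + 1 by omega, pow_succ] at h1
  have := pow_pos (show 0 < m by omega) (Fintype.card S - 2)
  nlinarith

theorem zeta_of_L {r r' : Rt S m F} (hm : 3 ≤ m) (hs : r.s = r'.s) (h : r.L = r'.L) :
    ∃ c : F, c • r.ζ = r'.ζ := by
  refine TP.not_pair r.hζ fun hind => ?_
  have h1 := finrank_L_sup hs hind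
  rw [h, sup_idem, finrank_L] at h1
  have := pow_pos (show 0 < m by omega) (Fintype.card S - 1)
  omega

theorem phi_of_K {r r' : Rt S m F} (hm : 3 ≤ m) (hs : r.s = r'.s) (h : r.K = r'.K) :
    ∃ c : F, c • r.φ = r'.φ := by
  refine TP.not_pair r.hφ fun hind => ?_
  have h1 := finrank_K_inf hs hind
  rw [h, inf_idem] at h1
  have h2 := finrank_K r'
  have := pow_pos (show 0 < m by omega) (Fintype.card S - 1)
  omega

/-- pure vectors in a root image -/
theorem tp_mem_L (r : Rt S m F) {a : S → Fin m → F} (h : a r.s = r.ζ) : tp a ∈ r.L :=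
  mem_L.2 ⟨_, by rw [toR_tp, h]⟩

/-- functionals killing a root image -/
theorem tpd_L (r : Rt S m F) {ψ : S → (Fin m → F) →ₗ[F] F} (h : ψ r.s r.ζ = 0) {z : (S → Fin m) → F}
    (hz : z ∈ r.L) : tpd ψ z = 0 := by
  obtain ⟨y, hy⟩ := mem_L.1 hz
  rw [← LinearEquiv.eq_symm_apply] at hy
  rw [hy]
  let G : (({q // q ≠ r.s} → Fin m) → F) →ₗ[F] F := tpd ψ ∘ₗ (toR r.s).symm.toLinearMap ∘ₗ
    { toFun := fun y => TP.pv y r.ζ
      map_add' := fun y y' => TP.pv_add_left y y' _
      map_smul' := fun c y => TP.pv_smul_left c y _ }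
  refine LinearMap.congr_fun (show G = 0 from lext_tp fun b => ?_) y
  let a : S → Fin m → F := fun q => if h : q = r.s then r.ζ else b ⟨q, h⟩
  show tpd ψ ((toR r.s).symm (TP.pv (tp b) r.ζ)) = 0
  have hta : toR r.s (tp a) = TP.pv (tp b) r.ζ := by
    rw [toR_tp, show a r.s = r.ζ from dif_pos rfl,
      show (fun q : {q // q ≠ r.s} => a q.1) = b from funext fun q => dif_neg q.2]
  rw [← hta, LinearEquiv.symm_apply_apply, tpd_tp]
  exact Finset.prod_eq_zero (Finset.mem_univ r.s) (by simp [a, h])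

/-- a quadratic relation on an odd-dimensional space gives an eigenvector -/
theorem exists_eigen {V : Type*} [AddCommGroup V] [Module F V] [FiniteDimensional F V]
    (hodd : Odd (Module.finrank F V)) (T : V →ₗ[F] V) {p q : F} (h : ∀ y, p • T (T y) + q • T y = y) :
    ∃ y : V, y ≠ 0 ∧ ∃ c : F, T y = c • y := by
  classical
  by_contra hno
  push Not at hno
  obtain ⟨y₁, hy₁⟩ : ∃ y : V, y ≠ 0 := by
    by_contra hc
    push Not at hc
    haveI : Subsingleton V := ⟨fun a b => by rw [hc a, hc b]⟩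
    rw [Module.finrank_zero_of_subsingleton] at hodd
    exact absurd hodd (by simp)
  have hp : p ≠ 0 := fun h0 => by
    have hy := h y₁
    rw [h0, zero_smul, zero_add] at hy
    have hq : q ≠ 0 := fun h1 => hy₁ (by rw [← hy, h1, zero_smul])
    exact hno y₁ hy₁ q⁻¹ (by conv_rhs => rw [← hy, inv_smul_smul₀ hq])
  have hroot : ∀ c : F, p * (c * c) + q * c - 1 ≠ 0 := by
    intro c hc
    have hc0 : c ≠ 0 := fun e => by simp [e] at hc
    have hq : q = c⁻¹ - p * c := by
      field_simp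
      linear_combination hc
    by_cases hz : T y₁ - c • y₁ = 0
    · exact hno y₁ hy₁ c (sub_eq_zero.1 hz)
    refine hno _ hz (p⁻¹ * -c⁻¹) ?_
    apply smul_right_injective V hp
    show p • _ = p • _
    rw [smul_smul, mul_inv_cancel_left₀ hp, map_sub, map_smul]
    have hy' := h y₁
    rw [hq] at hy'
    have hcy : c⁻¹ • (c • y₁) = y₁ := inv_smul_smul₀ hc0 y₁
    linear_combination (norm := module) hy' - hcy
  have key : ∀ n : ℕ, ∃ K : Submodule F V, (∀ y ∈ K, T y ∈ K) ∧ Module.finrank F K = 2 * n := by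
    intro n
    induction n with
    | zero => exact ⟨⊥, fun y hy => by simp [(Submodule.mem_bot F).1 hy], by simp⟩
    | succ n ih =>
      obtain ⟨K, hK, hKd⟩ := ih
      obtain ⟨y, hy⟩ : ∃ y, y ∉ K := by
        by_contra hc
        push Not at hc
        rw [show K = ⊤ from eq_top_iff.2 fun y _ => hc y, finrank_top] at hKd
        exact absurd hodd (by simp [hKd])
      have hy0 : y ≠ 0 := fun e => hy (e ▸ zero_mem K)
      have hTy : T y ∉ K ⊔ F ∙ y := by
        intro hT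
        obtain ⟨k, hk, w, hw, hkw⟩ := Submodule.mem_sup.1 hT
        obtain ⟨c, rfl⟩ := Submodule.mem_span_singleton.1 hw
        -- then (p c² + q c - 1) y lies in K
        have h1 : (p * (c * c) + q * c - 1) • y ∈ K := by
          have e : (p * (c * c) + q * c - 1) • y = -(p • T k + (p * c + q) • k) := by
            have hy' := h y
            rw [← hkw, map_add, map_smul, ← hkw] at hy'
            linear_combination (norm := module) hy'
          rw [e]
          exact K.neg_mem (K.add_mem (K.smul_mem _ (hK k hk)) (K.smul_mem _ hk))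
        exact hy (by simpa [smul_smul, inv_mul_cancel₀ (hroot c)] using K.smul_mem (p * (c * c) + q * c - 1)⁻¹ h1)
      refine ⟨(K ⊔ F ∙ y) ⊔ F ∙ T y, fun z hz => ?_, ?_⟩
      · obtain ⟨z1, hz1, z2, hz2, rfl⟩ := Submodule.mem_sup.1 hz
        obtain ⟨k, hk, z3, hz3, rfl⟩ := Submodule.mem_sup.1 hz1
        obtain ⟨a, rfl⟩ := Submodule.mem_span_singleton.1 hz3
        obtain ⟨b, rfl⟩ := Submodule.mem_span_singleton.1 hz2
        have hTT : T (T y) = p⁻¹ • y + (-(p⁻¹ * q)) • T y := by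
          calc T (T y) = p⁻¹ • (p • T (T y)) := (inv_smul_smul₀ hp _).symm
            _ = p⁻¹ • (y - q • T y) := by rw [eq_sub_of_add_eq (h y)]
            _ = _ := by module
        rw [map_add, map_add, map_smul, map_smul, hTT, smul_add, smul_smul, smul_smul]
        exact add_mem (add_mem (Submodule.mem_sup_left (Submodule.mem_sup_left (hK k hk)))
          (Submodule.mem_sup_right (Submodule.smul_mem _ _ (Submodule.mem_span_singleton_self _))))
          (add_mem (Submodule.mem_sup_left (Submodule.mem_sup_right (Submodule.smul_mem _ _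
            (Submodule.mem_span_singleton_self _)))) (Submodule.mem_sup_right (Submodule.smul_mem _ _
            (Submodule.mem_span_singleton_self _))))
      · rw [Submodule.finrank_sup_span_singleton hTy, Submodule.finrank_sup_span_singleton hy, hKd]
        ring
  obtain ⟨K, -, hK⟩ := key (Module.finrank F V + 1)
  have := Submodule.finrank_le K
  omega

variable [Finite F] {M : Subgroup (GL (S → Fin m) F)}

/-- the root elements found from one root element `x` for the element `g` -/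
structure Link (M : Subgroup (GL (S → Fin m) F)) (g : GL (S → Fin m) F) (r x x₁ : Rt S m F)
    (c : GL (S → Fin m) F) : Prop where
  mem : c ∈ M
  wr : c⁻¹ * g ∈ Wr S m F
  mapL : x₁.L.map (act c) = r.L.map (act g)
  mapK : x₁.K.map (act c) = r.K.map (act g)
  fix : ∀ z ∈ r.K.map (act g) ⊓ x.K, act c z = z
  triv : ∀ z, act c z - z ∈ r.L.map (act g) ⊔ x.L
  subL : x₁.L ≤ r.L.map (act g) ⊔ x.L
  subK : r.K.map (act g) ⊓ x.K ≤ x₁.K

theorem Ctx.exists_link (H : Ctx M) {g : GL (S → Fin m) F} (hg : g ∈ M) (r x : Rt S m F) :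
    ∃ x₁ c, Link M g r x x₁ c := by
  classical
  set L' := r.L.map (act g) with hL'
  set F' := r.K.map (act g) with hF'
  let Tb : Subgroup (GL (S → Fin m) F) :=
    { carrier := {h | h ∈ M ∧ (∀ z ∈ F' ⊓ x.K, act h z = z) ∧ ∀ z, act h z - z ∈ L' ⊔ x.L}
      one_mem' := ⟨M.one_mem, fun z _ => act_one z, fun z => by rw [act_one, sub_self]; exact zero_mem _⟩
      mul_mem' := fun {h k} hh hk => ⟨M.mul_mem hh.1 hk.1,
        fun z hz => by rw [act_mul, hk.2.1 z hz, hh.2.1 z hz],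
        fun z => by
          rw [act_mul, show act h (act k z) - z = (act h (act k z) - act k z) + (act k z - z) by abel]
          exact add_mem (hh.2.2 _) (hk.2.2 z)⟩
      inv_mem' := fun {h} hh => ⟨M.inv_mem hh.1,
        fun z hz => act_injective h (by rw [act_act_inv, hh.2.1 z hz]),
        fun z => by
          have := hh.2.2 (act h⁻¹ z)
          rw [act_act_inv] at this
          simpa using neg_mem this⟩ }
  have hxT : x.elt ∈ Tb := ⟨elt_mem_over H.ov x, fun z hz => act_elt_fix hz.2,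
    fun z => Submodule.mem_sup_right (act_elt_sub_mem x z)⟩
  set y := g * r.elt * g⁻¹ with hy
  have hyT : y ∈ Tb := ⟨M.mul_mem (M.mul_mem hg (elt_mem_over H.ov r)) (M.inv_mem hg),
    fun z hz => by
      obtain ⟨z', hz', rfl⟩ := hz.1
      rw [hy, act_mul, act_mul, act_inv_act, act_elt_fix hz'],
    fun z => Submodule.mem_sup_left ⟨_, act_elt_sub_mem r (act g⁻¹ z), by
      rw [map_sub, act_act_inv, hy, act_mul, act_mul]⟩⟩
  set p := ringChar F with hp
  haveI : Fact p.Prime := ⟨CharP.prime_ringChar F⟩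
  have hpow : ∀ {s : Tb}, (s : GL (S → Fin m) F) ^ p = 1 → IsPGroup p (Subgroup.zpowers s) := fun {s} hs z => ⟨1, by
    obtain ⟨z, i, rfl⟩ := z
    refine Subtype.ext (Subtype.ext ?_)
    show ((s : GL (S → Fin m) F) ^ i) ^ p ^ 1 = 1
    rw [pow_one, ← zpow_natCast, ← _root_.zpow_mul, mul_comm, _root_.zpow_mul, zpow_natCast, hs, _root_.one_zpow]⟩
  obtain ⟨P, hP⟩ := IsPGroup.exists_le_sylow (p := p) (P := Subgroup.zpowers (⟨x.elt, hxT⟩ : Tb))
    (hpow (elt_pow_char H.hm x))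
  obtain ⟨P', hP'⟩ := IsPGroup.exists_le_sylow (p := p) (P := Subgroup.zpowers (⟨y, hyT⟩ : Tb))
    (hpow (by show y ^ p = 1; rw [hy, conj_pow, elt_pow_char H.hm r, mul_one, mul_inv_cancel]))
  obtain ⟨c, hc⟩ := MulAction.exists_smul_eq Tb P P'
  have hyP : (⟨y, hyT⟩ : Tb) ∈ P' := hP' (Subgroup.mem_zpowers _)
  rw [← hc, ← SetLike.mem_coe, Sylow.coe_smul] at hyP
  obtain ⟨s, hs, hse⟩ := hyP
  have hse' : (c : GL (S → Fin m) F) * s * (c : GL (S → Fin m) F)⁻¹ = y := congrArg Subtype.val hse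
  have hPW : ((P : Subgroup Tb).map Tb.subtype) ≤ Wr S m F :=
    H.pGroup_le _ (P.2.map Tb.subtype) (by rintro _ ⟨z, -, rfl⟩; exact z.2.1) (r := x)
      ⟨⟨x.elt, hxT⟩, hP (Subgroup.mem_zpowers _), rfl⟩
  have hsW : (s : GL (S → Fin m) F) ∈ Wr S m F := hPW ⟨s, hs, rfl⟩
  set k := (c : GL (S → Fin m) F)⁻¹ * g with hk
  have hkW : k ∈ Wr S m F := H.mem_of_conj (r := r) (M.mul_mem (M.inv_mem c.2.1) hg) (by
    convert hsW using 1
    rw [show (c : GL (S → Fin m) F)⁻¹ * g * r.elt * ((c : GL (S → Fin m) F)⁻¹ * g)⁻¹ =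
      (c : GL (S → Fin m) F)⁻¹ * y * c by rw [hy]; group, ← hse']
    group)
  obtain ⟨σ, u, hku⟩ := exists_of_mem_wr hkW
  obtain ⟨hmL, hmK⟩ := map_move r σ u
  rw [← hku] at hmL hmK
  have hLc : (r.move σ u).L.map (act (c : GL (S → Fin m) F)) = L' := by
    rw [← hmL, ← map_mul_act, hk, mul_inv_cancel_left]
  have hKc : (r.move σ u).K.map (act (c : GL (S → Fin m) F)) = F' := by
    rw [← hmK, ← map_mul_act, hk, mul_inv_cancel_left]
  refine ⟨r.move σ u, c, c.2.1, hkW, hLc, hKc, c.2.2.1, c.2.2.2, fun z hz => ?_, fun z hz => ?_⟩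
  · have h1 : act (c : GL (S → Fin m) F) z ∈ L' := hLc ▸ Submodule.mem_map_of_mem hz
    have h2 := c.2.2.2 z
    have := sub_mem (Submodule.mem_sup_left (T := x.L) h1) h2
    rwa [sub_sub_cancel] at this
  · obtain ⟨z', hz', he⟩ : z ∈ (r.move σ u).K.map (act (c : GL (S → Fin m) F)) := hKc ▸ hz.1
    rw [← c.2.2.1 z hz] at he
    rwa [act_injective _ he] at hz'

theorem Link.wr_of_mem {g c : GL (S → Fin m) F} {r x x₁ : Rt S m F} (h : Link M g r x x₁ c) (hc : c ∈ Wr S m F) :
    g ∈ Wr S m F := by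
  simpa using mul_mem hc h.wr

theorem finrank_sup_link (g : GL (S → Fin m) F) (r x : Rt S m F) :
    Module.finrank F ↥(r.L.map (act g) ⊔ x.L) + Module.finrank F ↥(r.L.map (act g) ⊓ x.L) =
      2 * m ^ (Fintype.card S - 1) := by
  rw [Submodule.finrank_sup_add_finrank_inf_eq, finrank_map_act, finrank_L, finrank_L]
  ring

theorem finrank_inf_link (g : GL (S → Fin m) F) (r x : Rt S m F) :
    m * m ^ (Fintype.card S - 1) ≤ Module.finrank F ↥(r.K.map (act g) ⊓ x.K) + 2 * m ^ (Fintype.card S - 1) := by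
  have h1 := Submodule.finrank_sup_add_finrank_inf_eq (r.K.map (act g)) x.K
  have h2 := Submodule.finrank_le (r.K.map (act g) ⊔ x.K)
  rw [finrank_map_act] at h1
  have h3 := finrank_K r
  have h4 := finrank_K x
  rw [Module.finrank_fintype_fun_eq_card, Fintype.card_fun, Fintype.card_fin, pow_card x.s] at h2
  omega

theorem exists_ker_two (hm : 3 ≤ m) (φ ψ : (Fin m → F) →ₗ[F] F) : ∃ v, v ≠ 0 ∧ φ v = 0 ∧ ψ v = 0 := by
  obtain ⟨v, hv, hv0⟩ := Submodule.exists_mem_ne_zero_of_ne_bot (p := LinearMap.ker (φ.prod ψ)) fun h => by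
    have h1 := LinearMap.finrank_range_add_finrank_ker (φ.prod ψ)
    have h2 := Submodule.finrank_le (LinearMap.range (φ.prod ψ))
    rw [h, finrank_bot, Module.finrank_fintype_fun_eq_card, Fintype.card_fin] at h1
    rw [Module.finrank_prod, Module.finrank_self] at h2
    omega
  rw [LinearMap.mem_ker, LinearMap.prod_apply] at hv
  exact ⟨v, hv0, congrArg Prod.fst hv, congrArg Prod.snd hv⟩

theorem exists_phi_two (hm : 3 ≤ m) (v w : Fin m → F) :
    ∃ φ : (Fin m → F) →ₗ[F] F, φ ≠ 0 ∧ φ v = 0 ∧ φ w = 0 := by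
  obtain ⟨φ, hφ, h⟩ := exists_functional (W := Submodule.span F ({v, w} : Set (Fin m → F)))
    (lt_of_le_of_lt (finrank_span_two v w) (by omega))
  exact ⟨φ, hφ, h v (Submodule.subset_span (by simp)), h w (Submodule.subset_span (by simp))⟩

/-- **one slot: the root element is fixed or the element lies in the wreath product** -/
theorem Ctx.same_slot (H : Ctx M) {g c : GL (S → Fin m) F} {r x x₁ : Rt S m F} (h : Link M g r x x₁ c)
    (hgW : g ∉ Wr S m F) (hs : x₁.s = x.s) : x₁.L = x.L ∧ x₁.K = x.K := by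
  have hm := H.hm
  obtain ⟨s, φ, ζ, hφ, hζ, h0⟩ := x
  obtain ⟨s₁, φ₁, ζ₁, hφ₁, hζ₁, h01⟩ := x₁
  change s₁ = s at hs
  subst hs
  set x : Rt S m F := ⟨s₁, φ, ζ, hφ, hζ, h0⟩ with hx
  set x₁ : Rt S m F := ⟨s₁, φ₁, ζ₁, hφ₁, hζ₁, h01⟩ with hx₁
  by_cases hK : LinearIndependent F ![φ, φ₁]
  · exfalso
    obtain ⟨v, hv0, hv, hv₁⟩ := exists_ker_two hm φ φ₁
    let ru : Rt S m F := ⟨s₁, φ, v, hφ, hv0, hv⟩
    have hW : r.K.map (act g) ⊓ x.K = x.K ⊓ x₁.K := by
      refine Submodule.eq_of_le_of_finrank_le (le_inf inf_le_right h.subK) ?_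
      have h1 := finrank_K_inf (r := x) (r' := x₁) rfl hK
      have h2 := finrank_inf_link g r x
      omega
    refine hgW (h.wr_of_mem (H.mem_of_stabL (r := ru) h.mem ?_))
    rintro _ ⟨z, hz, rfl⟩
    obtain ⟨y, hy⟩ := mem_L.1 hz
    rw [h.fix z (hW ▸ ⟨mem_K.2 fun i => by
        show φ (TP.row (toR s₁ z) i) = 0
        rw [hy, TP.row_pv, map_smul, show φ v = 0 from hv, smul_zero], mem_K.2 fun i => by
        show φ₁ (TP.row (toR s₁ z) i) = 0
        rw [hy, TP.row_pv, map_smul, show φ₁ v = 0 from hv₁, smul_zero]⟩)]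
    exact hz
  obtain ⟨a, ha⟩ := TP.not_pair hφ hK
  have ha0 : a ≠ 0 := fun e => hφ₁ (by rw [← ha, e, zero_smul])
  by_cases hL : LinearIndependent F ![ζ, ζ₁]
  · exfalso
    obtain ⟨φ', hφ', hφ'ζ, hφ'ζ₁⟩ := exists_phi_two hm ζ ζ₁
    let rk : Rt S m F := ⟨s₁, φ', ζ, hφ', hζ, hφ'ζ⟩
    have hU : r.L.map (act g) ⊔ x.L = x.L ⊔ x₁.L := by
      refine (Submodule.eq_of_le_of_finrank_le (sup_le le_sup_right h.subL) ?_).symm
      have h1 := finrank_L_sup (r := x) (r' := x₁) rfl hL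
      have h2 := finrank_sup_link g r x
      omega
    have hUK : x.L ⊔ x₁.L ≤ rk.K := sup_le
      (fun z hz => by
        obtain ⟨y, hy⟩ := mem_L.1 hz
        exact mem_K.2 fun i => by
          show φ' (TP.row (toR s₁ z) i) = 0
          rw [hy, TP.row_pv, map_smul, show φ' ζ = 0 from hφ'ζ, smul_zero])
      (fun z hz => by
        obtain ⟨y, hy⟩ := mem_L.1 hz
        exact mem_K.2 fun i => by
          show φ' (TP.row (toR s₁ z) i) = 0
          rw [hy, TP.row_pv, map_smul, show φ' ζ₁ = 0 from hφ'ζ₁, smul_zero])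
    refine hgW (h.wr_of_mem (H.mem_of_stabK (r := rk) h.mem ?_))
    rintro _ ⟨z, hz, rfl⟩
    have := add_mem hz (hUK (hU ▸ h.triv z))
    rwa [add_sub_cancel] at this
  obtain ⟨b, hb⟩ := TP.not_pair hζ hL
  have hb0 : b ≠ 0 := fun e => hζ₁ (by rw [← hb, e, zero_smul])
  refine ⟨?_, ?_⟩
  · ext z
    rw [mem_L, mem_L]
    constructor
    · rintro ⟨y, hy⟩
      exact ⟨b • y, by rw [hy, TP.pv_smul_left]; show TP.pv y ζ₁ = b • TP.pv y ζ; rw [← hb, TP.pv_smul_right]⟩
    · rintro ⟨y, hy⟩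
      refine ⟨b⁻¹ • y, ?_⟩
      rw [hy]
      show TP.pv y ζ = TP.pv (b⁻¹ • y) ζ₁
      rw [← hb, TP.pv_smul_left, TP.pv_smul_right, inv_smul_smul₀ hb0]
  · ext z
    rw [mem_K, mem_K]
    show (∀ i, φ₁ _ = 0) ↔ ∀ i, φ _ = 0
    simp only [← ha, LinearMap.smul_apply, smul_eq_zero, ha0, false_or]
    rfl

theorem scalar_or_move {n : Type} [Fintype n] [DecidableEq n] (hn : 2 ≤ Fintype.card n) (T : GL n F) :
    (∃ l : F, ∀ y, act T y = l • y) ∨ ∃ y, ∀ a b : F, a • y + b • act T y = 0 → a = 0 := by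
  by_cases h : ∀ y, ∃ c : F, c • LinearMap.id (R := F) (M := n → F) y = act T y
  · obtain ⟨l, hl⟩ := TP.eq_smul_of_forall (β := n) (W₁ := LinearMap.id) (W₂ := act T) Function.injective_id hn h
    exact Or.inl ⟨l, hl⟩
  push Not at h
  obtain ⟨y, hy⟩ := h
  refine Or.inr ⟨y, fun a b e => ?_⟩
  by_contra ha
  by_cases hb : b = 0
  · rw [hb, zero_smul, add_zero, smul_eq_zero, or_iff_right ha] at e
    exact hy 0 (by simp [e])
  · refine hy (-(a / b)) ?_
    apply smul_right_injective (n → F) hb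
    show b • _ = b • _
    rw [LinearMap.id_apply, smul_smul, mul_neg, mul_div_cancel₀ _ hb, neg_smul]
    exact (eq_neg_of_add_eq_zero_right e).symm

/-- **some fixed space through a root image leads to another slot** -/
theorem Ctx.exists_cross (H : Ctx M) {g : GL (S → Fin m) F} (hg : g ∈ M) (hgW : g ∉ Wr S m F) (r x : Rt S m F) :
    ∃ x' x₁ c, x'.s = x.s ∧ x'.L = x.L ∧ Link M g r x' x₁ c ∧ x₁.s ≠ x'.s := by
  classical
  by_contra hcon
  push Not at hcon
  have hm := H.hm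
  obtain ⟨s, φ₀, ζ, hφ₀, hζ, h0⟩ := x
  set L' := r.L.map (act g) with hL'
  set U := L' ⊔ (⟨s, φ₀, ζ, hφ₀, hζ, h0⟩ : Rt S m F).L with hU
  have hexc : ∀ (φ : (Fin m → F) →ₗ[F] F) (hφ : φ ≠ 0) (h : φ ζ = 0), ∃ c ∈ M, c⁻¹ * g ∈ Wr S m F ∧
      (⟨s, φ, ζ, hφ, hζ, h⟩ : Rt S m F).L.map (act c) = L' ∧
      (⟨s, φ, ζ, hφ, hζ, h⟩ : Rt S m F).K.map (act c) = r.K.map (act g) ∧ ∀ z, act c z - z ∈ U := by
    intro φ hφ h
    set x' : Rt S m F := ⟨s, φ, ζ, hφ, hζ, h⟩ with hx'
    have hL : x'.L = (⟨s, φ₀, ζ, hφ₀, hζ, h0⟩ : Rt S m F).L := by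
      ext z
      rw [mem_L, mem_L]
    obtain ⟨x₁, c, hl⟩ := H.exists_link hg r x'
    obtain ⟨e1, e2⟩ := H.same_slot hl hgW (hcon x' x₁ c rfl hL hl)
    exact ⟨c, hl.mem, hl.wr, e1 ▸ hl.mapL, e2 ▸ hl.mapK, fun z => by rw [hU, ← hL]; exact hl.triv z⟩
  haveI : Nontrivial S := by
    by_contra hn
    rw [not_nontrivial_iff_subsingleton] at hn
    haveI : Nonempty S := ⟨s⟩
    rw [wr_eq_top] at hgW
    exact hgW (Subgroup.mem_top g)
  have hA : Fintype.card ({q // q ≠ s} → Fin m) = m ^ (Fintype.card S - 1) := by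
    rw [Fintype.card_fun, Fintype.card_fin, Fintype.card_subtype, Finset.filter_ne',
      Finset.card_erase_of_mem (Finset.mem_univ s), Finset.card_univ]
  have hA2 : 2 ≤ Fintype.card ({q // q ≠ s} → Fin m) := by
    rw [hA]
    have hc : 2 ≤ Fintype.card S := Fintype.one_lt_card
    calc 2 ≤ m ^ 1 := by rw [pow_one]; omega
      _ ≤ _ := Nat.pow_le_pow_right (by omega) (by omega)
  have hpair : ∀ (φ₁ φ₂ : (Fin m → F) →ₗ[F] F) (v : Fin m → F), φ₁ ≠ 0 → φ₂ ≠ 0 → φ₁ ζ = 0 → φ₂ ζ = 0 →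
      φ₁ v = 0 → φ₂ v ≠ 0 → ∃ (T : GL ({q // q ≠ s} → Fin m) F) (w : GL (Fin m) F) (ψ : (Fin m → F) →ₗ[F] F),
        φ₂ (act w v) = 0 ∧ ψ ζ = 0 ∧ ψ v = 0 ∧ ψ (act w v) = 1 ∧
        (∀ y u, (toR s).symm (TP.pv (act T y) (act w u) - TP.pv y u) ∈ U) ∧
        (∀ z ∈ U, ∃ z' y, toR s z = TP.pv z' ζ + (TP.pv (act T y) (act w v) - TP.pv y v)) := by
    intro φ₁ φ₂ v hφ₁ hφ₂ h1 h2 hv1 hv2
    obtain ⟨c₁, hc₁, hw₁, hL₁, hK₁, ht₁⟩ := hexc φ₁ hφ₁ h1
    obtain ⟨c₂, hc₂, hw₂, hL₂, hK₂, ht₂⟩ := hexc φ₂ hφ₂ h2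
    set k := c₂⁻¹ * c₁ with hk
    have hkW : k ∈ Wr S m F := by
      have := mul_mem hw₂ (inv_mem hw₁)
      rwa [show c₂⁻¹ * g * (c₁⁻¹ * g)⁻¹ = k by rw [hk]; group] at this
    obtain ⟨σ, u, hku⟩ := exists_of_mem_wr hkW
    set r₁ : Rt S m F := ⟨s, φ₁, ζ, hφ₁, hζ, h1⟩ with hr₁
    set r₂ : Rt S m F := ⟨s, φ₂, ζ, hφ₂, hζ, h2⟩ with hr₂
    obtain ⟨hmL, hmK⟩ := map_move r₁ σ u
    rw [← hku, hk, map_mul_act, hL₁, ← hL₂, ← map_mul_act, inv_mul_cancel,
      show act (1 : GL (S → Fin m) F) = LinearMap.id from LinearMap.ext act_one, Submodule.map_id] at hmL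
    rw [← hku, hk, map_mul_act, hK₁, ← hK₂, ← map_mul_act, inv_mul_cancel,
      show act (1 : GL (S → Fin m) F) = LinearMap.id from LinearMap.ext act_one, Submodule.map_id] at hmK
    have hσs : σ s = s := slot_eq_of_L hm hmL.symm
    obtain ⟨cz, hcz⟩ := zeta_of_L hm (show r₂.s = (r₁.move σ u).s from hσs.symm) hmL
    obtain ⟨cp, hcp⟩ := phi_of_K hm (show (r₁.move σ u).s = r₂.s from hσs) hmK.symm
    change cz • ζ = act (u s) ζ at hcz
    change cp • (φ₁ ∘ₗ act (u s)⁻¹) = φ₂ at hcp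
    set w := u s with hw
    have hφw : φ₂ (act w v) = 0 := by
      rw [← hcp, LinearMap.smul_apply, LinearMap.comp_apply, act_inv_act, hv1, smul_zero]
    set σ' : Equiv.Perm {q // q ≠ s} := σ.subtypePerm (p := fun q => q ≠ s) (fun q => by
      refine not_congr ⟨fun e => σ.injective (e.trans hσs.symm), fun e => e ▸ hσs⟩) with hσ'
    have hσeq : Equiv.Perm.ofSubtype σ' = σ :=
      Equiv.Perm.ofSubtype_subtypePerm _ fun q hq e => hq (e ▸ hσs)
    set T : GL ({q // q ≠ s} → Fin m) F := pg σ' * tk fun q => u q.1 with hT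
    have hridk : rid s k = TP.kr (T, w) := by
      rw [hku, map_mul, ← hσeq, rid_pg, rid_tk, ← map_mul, Prod.mk_mul_mk, one_mul]
    have hktriv : ∀ z, act k z - z ∈ U := fun z => by
      have e2 : ∀ t, act c₂⁻¹ t - t ∈ U := fun t => by
        have := neg_mem (ht₂ (act c₂⁻¹ t))
        rwa [act_act_inv, neg_sub] at this
      rw [hk, act_mul,
        show act c₂⁻¹ (act c₁ z) - z = (act c₂⁻¹ (act c₁ z) - act c₁ z) + (act c₁ z - z) by abel]
      exact add_mem (e2 _) (ht₁ z)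
    have hTmem : ∀ y u', (toR s).symm (TP.pv (act T y) (act w u') - TP.pv y u') ∈ U := fun y u' => by
      convert hktriv ((toR s).symm (TP.pv y u')) using 1
      refine (toR s).injective ?_
      rw [map_sub (toR s) (act k _), ← act_rid, hridk, LinearEquiv.apply_symm_apply, LinearEquiv.apply_symm_apply,
        TP.act_kr_pv]
    have hind : ∀ a b c : F, a • ζ + b • v + c • act w v = 0 → b = 0 ∧ c = 0 := by
      intro a b c he
      have e1 := congrArg φ₂ he
      simp only [map_add, map_smul, map_zero, h2, hφw, smul_eq_mul, mul_zero, zero_add, add_zero] at e1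
      have hb : b = 0 := (mul_eq_zero.1 e1).resolve_right hv2
      refine ⟨hb, ?_⟩
      by_contra hc
      rw [hb, zero_smul, add_zero] at he
      have hcz0 : cz ≠ 0 := fun e => by
        rw [e, zero_smul] at hcz
        exact hζ (act_injective _ (hcz.symm.trans (map_zero _).symm))
      have e3 : act w (c • v + (a / cz) • ζ) = 0 := by
        rw [map_add, map_smul, map_smul, ← hcz, smul_smul, div_mul_cancel₀ _ hcz0, add_comm]
        exact he
      have e4 := congrArg φ₂ (act_injective w (e3.trans (map_zero _).symm))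
      simp [h2, hc, hv2] at e4
    obtain ⟨ψ, hψW, hψ1⟩ := exists_dual (Submodule.span F ({ζ, v} : Set (Fin m → F))) (v := act w v) (fun he => by
      obtain ⟨a, b, hab⟩ := Submodule.mem_span_pair.1 he
      exact one_ne_zero (neg_eq_zero.1 (hind a b (-1) (by rw [hab, neg_one_smul, add_neg_cancel])).2))
    refine ⟨T, w, ψ, hφw, hψW _ (Submodule.subset_span (by simp)), hψW _ (Submodule.subset_span (by simp)), hψ1,
      hTmem, ?_⟩
    let N : ((({q // q ≠ s} → Fin m) → F) × (({q // q ≠ s} → Fin m) → F)) →ₗ[F] ((S → Fin m) → F) :=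
      (toR s).symm.toLinearMap ∘ₗ
        { toFun := fun p => TP.pv p.1 ζ + (TP.pv (act T p.2) (act w v) - TP.pv p.2 v)
          map_add' := fun p q => by simp only [Prod.fst_add, Prod.snd_add, map_add, TP.pv_add_left]; abel
          map_smul' := fun t p => by
            simp only [Prod.smul_fst, Prod.smul_snd, map_smul, TP.pv_smul_left, smul_add, smul_sub, RingHom.id_apply] }
    have hNle : LinearMap.range N ≤ U := by
      rintro _ ⟨p, rfl⟩
      show (toR s).symm (_ + _) ∈ U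
      rw [map_add]
      exact add_mem (hU ▸ Submodule.mem_sup_right (mem_L.2 ⟨p.1, LinearEquiv.apply_symm_apply _ _⟩)) (hTmem _ _)
    have hNinj : Function.Injective N := by
      rw [← LinearMap.ker_eq_bot, LinearMap.ker_eq_bot']
      rintro ⟨p, q⟩ hpq
      have e1 : TP.pv p ζ + (TP.pv (act T q) (act w v) - TP.pv q v) = 0 :=
        ((toR (F := F) (m := m) s).symm.map_eq_zero_iff).1 hpq
      have e2 : ∀ i, p i • ζ + (act T q i • act w v - q i • v) = 0 := fun i => funext fun j => congrFun e1 (i, j)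
      have hq : q = 0 := funext fun i => by
        have := congrArg φ₂ (e2 i)
        simpa [h2, hφw, hv2] using this
      refine Prod.ext (funext fun i => ?_) hq
      have := e2 i
      rw [hq, map_zero] at this
      simpa [hζ] using this
    have hUN : LinearMap.range N = U := by
      refine Submodule.eq_of_le_of_finrank_le hNle ?_
      rw [LinearMap.finrank_range_of_inj hNinj, Module.finrank_prod, Module.finrank_fintype_fun_eq_card, hA, hU]
      have h3 := finrank_sup_link g r ⟨s, φ₀, ζ, hφ₀, hζ, h0⟩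
      rw [← hL'] at h3
      omega
    intro z hz
    obtain ⟨p, rfl⟩ : z ∈ LinearMap.range N := hUN ▸ hz
    exact ⟨p.1, p.2, LinearEquiv.apply_symm_apply _ _⟩
  -- a scalar left factor is impossible
  have hplane : ∀ b : Fin m → F, ¬ ∀ z ∈ U, ∃ z' y, toR s z = TP.pv z' ζ + TP.pv y b := by
    intro b hb
    obtain ⟨φ', hφ', hζ', hb'⟩ := exists_phi_two hm ζ b
    obtain ⟨c, hc, hcw, -, -, htriv⟩ := hexc φ₀ hφ₀ h0
    suffices hcW : c ∈ Wr S m F from hgW (by simpa using mul_mem hcW hcw)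
    refine H.mem_of_stabK (r := ⟨s, φ', ζ, hφ', hζ, hζ'⟩) hc ?_
    rintro _ ⟨z, hz, rfl⟩
    obtain ⟨z', y, he⟩ := hb _ (htriv z)
    have hmem : act c z - z ∈ (⟨s, φ', ζ, hφ', hζ, hζ'⟩ : Rt S m F).K := mem_K.2 fun i => by
      show φ' (TP.row (toR s (act c z - z)) i) = 0
      rw [he, show TP.row (TP.pv z' ζ + TP.pv y b) i = z' i • ζ + y i • b from rfl, map_add, map_smul, map_smul,
        hζ', hb', smul_zero, smul_zero, add_zero]
    have := add_mem hz hmem
    rwa [add_sub_cancel] at this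
  have hscal : ∀ (T : GL ({q // q ≠ s} → Fin m) F) (w : GL (Fin m) F) (v : Fin m → F),
      (∀ z ∈ U, ∃ z' y, toR s z = TP.pv z' ζ + (TP.pv (act T y) (act w v) - TP.pv y v)) →
      ∃ y, ∀ a b : F, a • y + b • act T y = 0 → a = 0 := by
    intro T w v h
    refine (scalar_or_move hA2 T).resolve_left fun ⟨l, hl⟩ => hplane (l • act w v - v) fun z hz => ?_
    obtain ⟨z', y, he⟩ := h z hz
    refine ⟨z', y, ?_⟩
    rw [he, hl]
    congr 1
    funext p
    simp [TP.pv]
    ring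
  -- two fixed spaces
  obtain ⟨v, hv1, hv2, φ₂, hφ₂, h2, hφ₂v⟩ : ∃ v, φ₀ v = 0 ∧ v ≠ 0 ∧ ∃ φ₂ : (Fin m → F) →ₗ[F] F, φ₂ ≠ 0 ∧
      φ₂ ζ = 0 ∧ φ₂ v ≠ 0 := by
    obtain ⟨v, hvmem, hvζ⟩ : ∃ v, v ∈ LinearMap.ker φ₀ ∧ v ∉ F ∙ ζ := by
      by_contra hc
      push Not at hc
      have h1 := Submodule.finrank_mono (show LinearMap.ker φ₀ ≤ F ∙ ζ from hc)
      have h3 := LinearMap.finrank_range_add_finrank_ker φ₀
      have h4 := (Submodule.finrank_le (LinearMap.range φ₀)).trans_eq (Module.finrank_self F)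
      rw [Module.finrank_fintype_fun_eq_card, Fintype.card_fin] at h3
      rw [finrank_span_singleton hζ] at h1
      omega
    obtain ⟨φ₂, hW, h1⟩ := exists_dual _ hvζ
    exact ⟨v, hvmem, fun e => hvζ (e ▸ zero_mem _), φ₂, fun e => by simp [e] at h1,
      hW ζ (Submodule.mem_span_singleton_self ζ), by rw [h1]; exact one_ne_zero⟩
  obtain ⟨T, w, ψ, hφw, hψζ, hψv, hψw, hmem, hall⟩ := hpair φ₀ φ₂ v hφ₀ hφ₂ h0 h2 hv1 hφ₂v
  obtain ⟨y₀, hy₀⟩ := hscal T w v hall
  by_cases hm4 : 4 ≤ m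
  · obtain ⟨v₁, hv₁⟩ : ∃ v₁, v₁ ∉ Submodule.span F ({ζ, v, act w v} : Set (Fin m → F)) := by
      by_contra hc
      push Not at hc
      have h1 : Module.finrank F (Submodule.span F ({ζ, v, act w v} : Set (Fin m → F))) ≤ 3 := by
        rw [show ({ζ, v, act w v} : Set (Fin m → F)) = ↑({ζ, v, act w v} : Finset (Fin m → F)) by simp]
        exact (finrank_span_finset_le_card _).trans Finset.card_le_three
      rw [show Submodule.span F ({ζ, v, act w v} : Set (Fin m → F)) = ⊤ from eq_top_iff.2 fun x _ => hc x,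
        finrank_top, Module.finrank_fintype_fun_eq_card, Fintype.card_fin] at h1
      omega
    obtain ⟨χ, hχW, hχ1⟩ := exists_dual _ hv₁
    obtain ⟨z', y, he⟩ := hall _ (hmem y₀ v₁)
    rw [LinearEquiv.apply_symm_apply] at he
    refine absurd (hy₀ (-1) (χ (act w v₁)) (funext fun i => ?_)) (by simp)
    have e : act T y₀ i • act w v₁ - y₀ i • v₁ = z' i • ζ + (act T y i • act w v - y i • v) :=
      funext fun j => congrFun he (i, j)
    have e1 := congrArg χ e
    simp only [map_sub, map_add, map_smul, hχ1, hχW ζ (Submodule.subset_span (by simp)),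
      hχW v (Submodule.subset_span (by simp)), hχW (act w v) (Submodule.subset_span (by simp)), smul_eq_mul,
      mul_zero, sub_zero, add_zero, mul_one] at e1
    simp only [Pi.add_apply, Pi.smul_apply, smul_eq_mul, Pi.zero_apply]
    linear_combination e1
  -- three dimensions: an eigenvector
  have hm3 : m = 3 := by omega
  set β := φ₂ (act w (act w v)) / φ₂ v with hβ
  have hquad : ∀ y, β • act T (act T y) + ψ (act w (act w v)) • act T y = y := by
    intro y
    obtain ⟨z', y', he⟩ := hall _ (hmem y (act w v))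
    rw [LinearEquiv.apply_symm_apply] at he
    have e : ∀ i, act T y i • act w (act w v) - y i • act w v = z' i • ζ + (act T y' i • act w v - y' i • v) :=
      fun i => funext fun j => congrFun he (i, j)
    have hy' : y' = (-β) • act T y := funext fun i => by
      have e1 := congrArg φ₂ (e i)
      simp only [map_sub, map_add, map_smul, hφw, h2, smul_eq_mul, mul_zero, sub_zero, zero_add, zero_sub] at e1
      rw [Pi.smul_apply, smul_eq_mul, hβ, neg_mul, div_mul_eq_mul_div, ← neg_div, eq_div_iff hφ₂v]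
      linear_combination e1
    funext i
    have e2 := congrArg ψ (e i)
    rw [hy', map_smul] at e2
    simp only [map_sub, map_add, map_smul, hψζ, hψv, hψw, Pi.smul_apply, smul_eq_mul, mul_zero, sub_zero, zero_add,
      mul_one] at e2
    simp only [Pi.add_apply, Pi.smul_apply, smul_eq_mul]
    linear_combination e2
  obtain ⟨y₁, hy₁, l, hl⟩ := exists_eigen (by
    rw [Module.finrank_fintype_fun_eq_card, hA, hm3]
    exact Odd.pow (by decide)) (act T) hquad
  set b := l • act w v - v with hb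
  have hbU : (toR s).symm (TP.pv y₁ b) ∈ U := by
    convert hmem y₁ v using 2
    rw [hl, hb]
    funext p
    simp [TP.pv]
    ring
  have hbφ : φ₂ b ≠ 0 := by
    rw [hb, map_sub, map_smul, hφw, smul_zero, zero_sub, neg_ne_zero]
    exact hφ₂v
  obtain ⟨φ₃, hφ₃, h3, h3b⟩ := exists_phi_two hm ζ b
  obtain ⟨T', w', ψ', hφw', hψζ', hψb', hψw', -, hall'⟩ := hpair φ₃ φ₂ b hφ₃ hφ₂ h3 h2 h3b hbφ
  obtain ⟨z', y', he⟩ := hall' _ hbU
  rw [LinearEquiv.apply_symm_apply] at he
  have e : ∀ i, y₁ i • b = z' i • ζ + (act T' y' i • act w' b - y' i • b) := fun i => funext fun j => congrFun he (i, j)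
  have hy' : y' = -y₁ := funext fun i => by
    have e1 := congrArg φ₂ (e i)
    simp only [map_sub, map_add, map_smul, hφw', h2, smul_eq_mul, mul_zero, zero_add, zero_sub] at e1
    have : (y₁ i + y' i) * φ₂ b = 0 := by linear_combination e1
    exact eq_neg_of_add_eq_zero_right ((mul_eq_zero.1 this).resolve_right hbφ)
  refine hy₁ (act_injective T' ((funext fun i => ?_ : act T' y₁ = 0).trans (map_zero _).symm))
  have e2 := congrArg ψ' (e i)
  rw [hy', map_neg] at e2
  simp only [map_sub, map_add, map_smul, hψζ', hψb', hψw', Pi.neg_apply, smul_eq_mul, mul_zero, sub_zero, zero_add,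
    mul_one] at e2
  simpa using e2.symm

/-- **the overgroup consists of the wreath product** -/
theorem Ctx.le_wr (H : Ctx M) [Nontrivial S] : M ≤ Wr S m F := by
  classical
  intro g hg
  by_contra hgW
  have hm := H.hm
  obtain ⟨s₀⟩ : Nonempty S := inferInstance
  have h01 : (⟨0, by omega⟩ : Fin m) ≠ ⟨1, by omega⟩ := by simp [Fin.ext_iff]
  let r : Rt S m F := std s₀ h01
  set L' := r.L.map (act g) with hL'
  have hc2 : 2 ≤ Fintype.card S := Fintype.one_lt_card
  set b := m ^ (Fintype.card S - 2) with hbdef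
  have hab : m ^ (Fintype.card S - 1) = m * b := by
    rw [hbdef, ← pow_succ']
    congr 1
    omega
  have hb0 : 0 < b := pow_pos (by omega) _
  -- first step: a large intersection
  obtain ⟨x₀, x₁, c₁, -, -, l₁, ne₁⟩ := H.exists_cross hg hgW r r
  have hint : (m - 2) * b ≤ Module.finrank F ↥(L' ⊓ x₁.L) := by
    set W := r.K.map (act g) ⊓ x₀.K with hW
    have hsub : (x₁.L ⊓ x₀.K) ⊓ W ≤ L' ⊓ x₁.L := fun z ⟨⟨hz1, _⟩, hz2⟩ => ⟨by
      rw [hL', ← l₁.mapL, ← l₁.fix z hz2]
      exact Submodule.mem_map_of_mem hz1, hz1⟩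
    have h1 := Submodule.finrank_sup_add_finrank_inf_eq (x₁.L ⊓ x₀.K) W
    have h2 : Module.finrank F ↥((x₁.L ⊓ x₀.K) ⊔ W) ≤ Module.finrank F ↥(x₁.K ⊓ x₀.K) :=
      Submodule.finrank_mono (sup_le (inf_le_inf_right _ (L_le_K x₁))
        (le_inf l₁.subK (hW ▸ inf_le_right)))
    have h3 := finrank_cross hm ne₁
    have h4 := finrank_inf_link g r x₀
    have h5 := Submodule.finrank_mono hsub
    rw [hab, ← hW] at h4
    rw [h3.2.1] at h1
    rw [h3.2.2] at h2
    obtain ⟨k, hk⟩ : ∃ k, m = k + 3 := ⟨m - 3, by omega⟩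
    have e1 : (m - 1) * (m - 1) * b + (m - 2) * b + 2 * (m * b) = (m - 1) * b + m * (m * b) := by
      subst hk
      simp only [show k + 3 - 1 = k + 2 by omega, show k + 3 - 2 = k + 1 by omega]
      ring
    rw [← hbdef] at h1 h2
    omega
  -- second step: the image lies in the sum of two root images
  obtain ⟨y₁, x₂, c₂, hys, hyL, l₂, ne₂⟩ := H.exists_cross hg hgW r x₁
  have ne₂' : x₁.s ≠ x₂.s := fun e => ne₂ (by rw [hys]; exact e.symm)
  have hT : L' ⊔ x₁.L = x₁.L ⊔ x₂.L := by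
    have hle : x₁.L ⊔ x₂.L ≤ L' ⊔ x₁.L := sup_le le_sup_right (hyL ▸ l₂.subL)
    refine (Submodule.eq_of_le_of_finrank_le hle ?_).symm
    have h1 := finrank_sup_link g r x₁
    rw [← hL'] at h1
    have h2 := Submodule.finrank_sup_add_finrank_inf_eq x₁.L x₂.L
    rw [(finrank_cross hm ne₂').1, finrank_L, finrank_L] at h2
    rw [← hbdef] at h2
    have : b ≤ (m - 2) * b := le_mul_of_one_le_left (Nat.zero_le _) (by omega)
    omega
  -- third step: back to the first slot
  obtain ⟨y₂, x₃, c₃, hys₃, hyL₃, l₃, ne₃⟩ := H.exists_cross hg hgW r x₂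
  have hL3T : x₃.L ≤ x₁.L ⊔ x₂.L := by
    refine l₃.subL.trans (sup_le ?_ (hyL₃ ▸ le_sup_right))
    rw [← hL', ← hT]
    exact le_sup_left
  have ne₃' : x₃.s ≠ x₂.s := fun e => ne₃ (by rw [hys₃]; exact e)
  have hkill : ∀ {ψ : S → (Fin m → F) →ₗ[F] F}, ψ x₁.s x₁.ζ = 0 → ψ x₂.s x₂.ζ = 0 →
      ∀ z ∈ x₁.L ⊔ x₂.L, tpd ψ z = 0 := by
    intro ψ h1 h2 z hz
    obtain ⟨p, hp, q, hq, rfl⟩ := Submodule.mem_sup.1 hz
    rw [map_add, tpd_L x₁ h1 hp, tpd_L x₂ h2 hq, add_zero]
  obtain ⟨e, he1, he2⟩ : ∃ e : Fin m → F, e ∉ F ∙ x₁.ζ ∧ e ∉ F ∙ x₂.ζ := by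
    have hne : ∀ v : Fin m → F, (F ∙ v) ≠ ⊤ := fun v h => by
      have h1 := finrank_span_le_card (R := F) ({v} : Set (Fin m → F))
      rw [h, finrank_top, Module.finrank_fintype_fun_eq_card, Fintype.card_fin] at h1
      simp at h1
      omega
    exact exists_notMem_two _ _ (hne _) (hne _)
  obtain ⟨η, hη, hη1⟩ := exists_dual _ he2
  choose χ hχ using fun i : Fin m => exists_dual_one (show (LinearMap.proj i : (Fin m → F) →ₗ[F] F) ≠ 0 from
    fun h => by simpa using LinearMap.congr_fun h (Pi.single i 1))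
  have hL31 : x₃.L = x₁.L := by
    by_contra hne
    obtain ⟨v, hv, hvs⟩ : ∃ v, v ∉ F ∙ x₁.ζ ∧ (x₁.s = x₃.s → v = x₃.ζ) := by
      by_cases hs : x₁.s = x₃.s
      · refine ⟨x₃.ζ, fun hmem => hne ?_, fun _ => rfl⟩
        obtain ⟨a, ha⟩ := Submodule.mem_span_singleton.1 hmem
        have ha0 : a ≠ 0 := fun e => x₃.hζ (by rw [← ha, e, zero_smul])
        ext z
        obtain ⟨s₁, φ₁, ζ₁, hφ₁, hζ₁, h01₁⟩ := x₁
        obtain ⟨s₃, φ₃, ζ₃, hφ₃, hζ₃, h01₃⟩ := x₃
        change s₁ = s₃ at hs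
        change a • ζ₁ = ζ₃ at ha
        subst hs
        rw [mem_L, mem_L]
        constructor
        · rintro ⟨y, hy⟩
          exact ⟨a • y, by rw [hy, TP.pv_smul_left]; show TP.pv y ζ₃ = a • TP.pv y ζ₁; exact (congrArg (TP.pv y) ha).symm.trans (TP.pv_smul_right a y ζ₁)⟩
        · rintro ⟨y, hy⟩
          refine ⟨a⁻¹ • y, ?_⟩
          rw [hy]
          show TP.pv y ζ₁ = TP.pv (a⁻¹ • y) ζ₃
          rw [← ha, TP.pv_smul_left, TP.pv_smul_right, inv_smul_smul₀ ha0]
      · exact ⟨e, he1, fun h => absurd h hs⟩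
    obtain ⟨θ, hθ, hθ1⟩ := exists_dual _ hv
    obtain ⟨ρ, hρ⟩ := exists_dual_one (show (LinearMap.proj (⟨0, by omega⟩ : Fin m) : (Fin m → F) →ₗ[F] F) ≠ 0
      from fun h => by simpa using LinearMap.congr_fun h (Pi.single (⟨0, by omega⟩ : Fin m) 1))
    obtain ⟨θ₃, -, hθ₃⟩ := exists_dual ⊥ (v := x₃.ζ) (by simpa using x₃.hζ)
    let a : S → Fin m → F := fun q =>
      if q = x₃.s then x₃.ζ else if q = x₁.s then v else if q = x₂.s then e else ρ
    let ψ : S → (Fin m → F) →ₗ[F] F := fun q =>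
      if q = x₁.s then θ else if q = x₂.s then η else if q = x₃.s then θ₃ else LinearMap.proj (⟨0, by omega⟩ : Fin m)
    have hval := hkill (ψ := ψ) (by simp [ψ, hθ _ (Submodule.mem_span_singleton_self _)])
      (by simp [ψ, ne₂'.symm, hη _ (Submodule.mem_span_singleton_self _)]) _
      (hL3T (tp_mem_L x₃ (a := a) (by simp [a])))
    rw [tpd_tp, Finset.prod_eq_one fun q _ => ?_] at hval
    · exact one_ne_zero hval
    rcases eq_or_ne q x₁.s with rfl | h1
    · by_cases h13 : x₁.s = x₃.s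
      · simp [ψ, a, h13, ← hvs h13]
        exact hθ1
      · simp [ψ, a, h13, hθ1]
    rcases eq_or_ne q x₂.s with rfl | h2
    · simp [ψ, a, h1, ne₃'.symm, hη1]
    rcases eq_or_ne q x₃.s with rfl | h3
    · simp [ψ, a, h1, h2, hθ₃]
    · simp only [ψ, a, h1, h2, h3, if_false]
      exact hρ
  -- the element from the second to the first
  set k := c₃⁻¹ * c₂ with hk
  have hkW : k ∈ Wr S m F := by
    have := mul_mem l₃.wr (inv_mem l₂.wr)
    rwa [show c₃⁻¹ * g * (c₂⁻¹ * g)⁻¹ = k by rw [hk]; group] at this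
  obtain ⟨σ, u, hku⟩ := exists_of_mem_wr hkW
  have hmL := (map_move x₂ σ u).1
  rw [← hku, hk, map_mul_act, l₂.mapL, ← l₃.mapL, ← map_mul_act, inv_mul_cancel,
    show act (1 : GL (S → Fin m) F) = LinearMap.id from LinearMap.ext act_one, Submodule.map_id, hL31] at hmL
  have hσ : σ x₂.s = x₁.s := (slot_eq_of_L hm hmL).symm
  have hktriv : ∀ z, act k z - z ∈ x₁.L ⊔ x₂.L := fun z => by
    have e2 : ∀ t, act c₃⁻¹ t - t ∈ x₁.L ⊔ x₂.L := fun t => by
      have := neg_mem (l₃.triv (act c₃⁻¹ t))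
      rw [act_act_inv, neg_sub] at this
      refine (sup_le ?_ (hyL₃ ▸ le_sup_right) : r.L.map (act g) ⊔ y₂.L ≤ _) this
      rw [← hL', ← hT]
      exact le_sup_left
    rw [hk, act_mul, show act c₃⁻¹ (act c₂ z) - z = (act c₃⁻¹ (act c₂ z) - act c₂ z) + (act c₂ z - z) by abel]
    refine add_mem (e2 _) ?_
    rw [← hT, hL', ← hyL]
    exact l₂.triv z
  obtain ⟨d, hd⟩ := exists_notMem_span hm x₁.ζ (act (u x₂.s) e)
  obtain ⟨θ, hθ, hθ1⟩ := exists_dual _ hd
  obtain ⟨ρ, hρ⟩ := exists_dual_one (show (LinearMap.proj (⟨0, by omega⟩ : Fin m) : (Fin m → F) →ₗ[F] F) ≠ 0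
    from fun h => by simpa using LinearMap.congr_fun h (Pi.single (⟨0, by omega⟩ : Fin m) 1))
  let a : S → Fin m → F := fun q => if q = x₁.s then d else if q = x₂.s then e else ρ
  let ψ : S → (Fin m → F) →ₗ[F] F := fun q =>
    if q = x₁.s then θ else if q = x₂.s then η else LinearMap.proj (⟨0, by omega⟩ : Fin m)
  have hfa : tpd ψ (tp a) = 1 := by
    rw [tpd_tp]
    refine Finset.prod_eq_one fun q _ => ?_
    rcases eq_or_ne q x₁.s with rfl | h1
    · simp [ψ, a, hθ1]
    rcases eq_or_ne q x₂.s with rfl | h2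
    · simp [ψ, a, h1, hη1]
    · simp only [ψ, a, h1, h2, if_false]
      exact hρ
  have hfk : tpd ψ (act k (tp a)) = 0 := by
    rw [hku, act_wr, tpd_tp]
    refine Finset.prod_eq_zero (Finset.mem_univ x₁.s) ?_
    rw [show σ.symm x₁.s = x₂.s by rw [← hσ, Equiv.symm_apply_apply]]
    simp only [ψ, a, if_true, if_neg ne₂'.symm]
    exact hθ _ (Submodule.subset_span (by simp))
  have := hkill (ψ := ψ) (by simp [ψ, hθ _ (Submodule.subset_span (Set.mem_insert _ _))])
    (by simp [ψ, ne₂'.symm, hη _ (Submodule.mem_span_singleton_self _)]) _ (hktriv (tp a))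
  rw [map_sub, hfk, hfa] at this
  simp at this

theorem le_wr_all (hm : 3 ≤ m) :
    ∀ (n : ℕ) (S : Type) [Fintype S] [DecidableEq S] [Nonempty S] (M : Subgroup (GL (S → Fin m) F)),
      Fintype.card S = n → Over M → ¬ Cfsg.Geo.specialLinear (S → Fin m) F ≤ M → M ≤ Wr S m F := by
  intro n
  induction n using Nat.strong_induction_on with
  | _ n ih =>
    intro S _ _ _ M hn hM hp
    rcases subsingleton_or_nontrivial S with hS | hS
    · rw [wr_eq_top]
      exact le_top
    refine Ctx.le_wr ⟨hm, hM, hp, fun s U hU hU' => ?_⟩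
    haveI : Nonempty {q // q ≠ s} := let ⟨q, hq⟩ := exists_ne s; ⟨⟨q, hq⟩⟩
    exact ih _ (hn ▸ Fintype.card_subtype_lt (x := s) (by simp)) _ U rfl hU hU'

/-- **the wreath product is maximal** -/
theorem le_wr (hm : 3 ≤ m) [Nonempty S] (hM : Over M)
    (hproper : ¬ Cfsg.Geo.specialLinear (S → Fin m) F ≤ M) : M ≤ Wr S m F :=
  le_wr_all hm _ S M rfl hM hproper

end Cfsg.Agent.MaxCl.TW
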