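/-
In `SL(2, K)`, `|K| ≥ 5` odd, a subgroup normalised by the unitriangular groups and without elements of order the
characteristic consists of scalars.
-/
import Cfsg.Agent.Lib.MaxCl.SLTwoSub

set_option autoImplicit false

namespace Cfsg.Agent.MaxCl.Pow

open Matrix
open scoped MatrixGroups
open SLTwo (ux)

variable {K : Type*} [Field K]

/-- lower unitriangular matrix -/
def lx {R : Type*} [CommRing R] (a : R) : SL(2, R) := ⟨!![1, 0; a, 1], by simp [det_fin_two]⟩

theorem lx_val {R : Type*} [CommRing R] (a : R) : (lx a : Matrix (Fin 2) (Fin 2) R) = !![1, 0; a, 1] := rfl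

theorem lx_inv (a : K) : (lx a)⁻¹ = lx (-a) := by
  refine inv_eq_of_mul_eq_one_right (SLTwo.ext2 ?_ ?_ ?_ ?_) <;> simp [lx_val, SLTwo.mul_apply2, SLTwo.one_apply2]

/-- an element of trace two has order dividing the characteristic -/
theorem pow_char_of_tr {k : SL(2, K)} (ht : k 0 0 + k 1 1 = 2) (p : ℕ) [CharP K p] : k ^ p = 1 := by
  have hd := SLTwo.det2 k
  have h11 : k 1 1 = 2 - k 0 0 := by linear_combination ht
  rw [h11] at hd
  have h : ∀ n : ℕ, (k ^ n) 0 0 = 1 + n * (k 0 0 - 1) ∧ (k ^ n) 0 1 = n * k 0 1 ∧ (k ^ n) 1 0 = n * k 1 0 ∧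
      (k ^ n) 1 1 = 1 + n * (1 - k 0 0) := by
    intro n
    induction n with
    | zero => simp [SLTwo.one_apply2.1, SLTwo.one_apply2.2.1, SLTwo.one_apply2.2.2.1, SLTwo.one_apply2.2.2.2]
    | succ n ih =>
      obtain ⟨a, b, c, d⟩ := ih
      refine ⟨?_, ?_, ?_, ?_⟩ <;> simp only [pow_succ, SLTwo.mul_apply2, a, b, c, d, h11, Nat.cast_succ]
      · linear_combination (-(n : K)) * hd
      · ring
      · ring
      · linear_combination (-(n : K)) * hd
  obtain ⟨a, b, c, d⟩ := h p
  rw [CharP.cast_eq_zero] at a b c d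
  exact SLTwo.ext2 (by rw [a, SLTwo.one_apply2.1]; ring) (by rw [b, SLTwo.one_apply2.2.1]; ring)
    (by rw [c, SLTwo.one_apply2.2.2.1]; ring) (by rw [d, SLTwo.one_apply2.2.2.2]; ring)

variable [Finite K]

theorem isScal_of_normal_pprime (h2 : (2 : K) ≠ 0) (hq : 5 ≤ Nat.card K) (N : Subgroup SL(2, K))
    (hu : ∀ k ∈ N, ∀ x, ux x * k * (ux x)⁻¹ ∈ N) (hl : ∀ k ∈ N, ∀ x, lx x * k * (lx x)⁻¹ ∈ N)
    (hp : ∀ k ∈ N, k ^ ringChar K = 1 → k = 1) : ∀ k ∈ N, SLTwo.IsScal k := by
  classical
  haveI := Fintype.ofFinite K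
  have hone : ∀ k ∈ N, k 0 0 + k 1 1 = 2 → k = 1 := fun k hk ht => hp k hk (pow_char_of_tr ht _)
  have hneg : ∀ k ∈ N, k 0 0 + k 1 1 = -2 → k 0 1 = 0 ∧ k 1 0 = 0 := by
    intro k hk ht
    have hd := SLTwo.det2 k
    have hkk : k * k = 1 := hone _ (mul_mem hk hk) (by
      simp only [SLTwo.mul_apply2]
      linear_combination (k 0 0 + k 1 1 - 2) * ht - 2 * hd)
    have e01 := congrArg (fun X : SL(2, K) => X 0 1) hkk
    have e10 := congrArg (fun X : SL(2, K) => X 1 0) hkk
    simp only [SLTwo.mul_apply2, SLTwo.one_apply2.2.1, SLTwo.one_apply2.2.2.1] at e01 e10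
    constructor
    · refine (mul_eq_zero.1 (show (2 : K) * k 0 1 = 0 by linear_combination k 0 1 * ht - e01)).resolve_left h2
    · refine (mul_eq_zero.1 (show (2 : K) * k 1 0 = 0 by linear_combination k 1 0 * ht - e10)).resolve_left h2
  -- conjugation by the torus
  have htor : ∀ (l : K), l ≠ 0 → ∀ k ∈ N, ∀ T : SL(2, K), (T : Matrix (Fin 2) (Fin 2) K) = !![l, 0; 0, l⁻¹] →
      T * k * T⁻¹ ∈ N := by
    intro l hl0 k hk T hT
    have hw : T = ux l * lx (-l⁻¹) * ux l * (ux (-1) * lx 1 * ux (-1)) := by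
      refine SLTwo.ext2 ?_ ?_ ?_ ?_ <;>
        simp [SLTwo.mul_apply2, lx_val, hT] <;> first
          | ring1
          | (field_simp; ring1)
          | (rw [mul_inv_cancel₀ hl0]; simp)
          | simp [hl0]
    have c : ∀ (x : K) (k : SL(2, K)), k ∈ N → ux x * k * (ux x)⁻¹ ∈ N := fun x k hk => hu k hk x
    have := hu _ (hl _ (hu _ (hu _ (hl _ (hu _ hk (-1)) 1) (-1)) l) (-l⁻¹)) l
    rw [hw]
    convert this using 1
    group
  intro k hk
  have hc : ∀ k ∈ N, k 1 0 = 0 → SLTwo.IsScal k := by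
    intro k hk h10
    have hd := SLTwo.det2 k
    rw [h10] at hd
    have h1 := hone _ (mul_mem hk (inv_mem (hu k hk 1))) ?_
    · have hconj : ux (1 : K) * k * (ux (1 : K))⁻¹ = k := (mul_inv_eq_one.1 h1).symm
      have e01 := congrArg (fun X : SL(2, K) => X 0 1) hconj
      simp [SLTwo.mul_apply2, SLTwo.ux_inv, h10] at e01
      have hd01 : k 1 1 = k 0 0 := by linear_combination e01
      rw [hd01] at hd
      rcases mul_eq_zero.1 (show (k 0 0 - 1) * (k 0 0 + 1) = 0 by linear_combination hd) with h | h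
      · have := hone k hk (by rw [hd01]; linear_combination 2 * h)
        rw [this]
        exact ⟨SLTwo.one_apply2.2.1, SLTwo.one_apply2.2.2.1,
          SLTwo.one_apply2.1.trans SLTwo.one_apply2.2.2.2.symm⟩
      · exact ⟨(hneg k hk (by rw [hd01]; linear_combination 2 * h)).1, h10, hd01.symm⟩
    · simp [SLTwo.mul_apply2, adjugate_fin_two, h10]
      linear_combination 2 * hd
  by_contra hns
  have h10 : k 1 0 ≠ 0 := fun h => hns (hc k hk h)
  -- make the first entry zero
  have step : ∀ k ∈ N, k 1 0 ≠ 0 → k 0 0 + k 1 1 = 0 ∧ ∀ l : K, l ≠ 0 → l ^ 4 = 1 := by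
    intro k hk h10
    set k₁ := ux (-(k 0 0 / k 1 0)) * k * (ux (-(k 0 0 / k 1 0)))⁻¹ with hk₁
    have hk₁N : k₁ ∈ N := hu k hk _
    have a0 : k₁ 0 0 = 0 := by
      simp [hk₁, SLTwo.mul_apply2, SLTwo.ux_inv]
      field_simp
      ring
    have htr : k₁ 0 0 + k₁ 1 1 = k 0 0 + k 1 1 := by
      simp [hk₁, SLTwo.mul_apply2, SLTwo.ux_inv]
      ring
    have hd₁ := SLTwo.det2 k₁
    rw [a0] at hd₁
    have key : ∀ l : K, l ≠ 0 → ∀ m ∈ N, m 0 1 = 0 → m 0 0 = (l * l)⁻¹ → m 1 1 = l * l →
        (l ^ 4 = 1 ∧ (l ^ 2 ≠ 1 → m 1 0 = 0)) := by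
      intro l hl0 m hm m01 m00 m11
      have h4 : l ^ 4 = 1 := by
        by_contra h4
        have hm' := mul_mem hm (inv_mem (hl m hm 1))
        have h1 := hone _ hm' ?_
        · have hconj : lx (1 : K) * m * (lx (1 : K))⁻¹ = m := (mul_inv_eq_one.1 h1).symm
          have e10 := congrArg (fun X : SL(2, K) => X 1 0) hconj
          simp [SLTwo.mul_apply2, lx_inv, lx_val, m01, m00, m11] at e10
          apply h4
          field_simp at e10
          linear_combination -e10
        · simp [SLTwo.mul_apply2, adjugate_fin_two, lx_val, m01, m00, m11]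
          field_simp
          ring
      refine ⟨h4, fun h2' => ?_⟩
      have hll : l * l = -1 := by
        rcases mul_eq_zero.1 (show (l * l - 1) * (l * l + 1) = 0 by linear_combination h4) with h | h
        · exact absurd (show l ^ 2 = 1 by linear_combination h) h2'
        · linear_combination h
      exact (hneg m hm (by rw [m00, m11, hll, inv_neg, inv_one]; ring)).2
    have main : ∀ l : K, l ≠ 0 → l ^ 4 = 1 ∧ (l ^ 2 ≠ 1 → k₁ 1 1 = 0) := by
      intro l hl0
      obtain ⟨T, hTv⟩ : ∃ T : SL(2, K), (T : Matrix (Fin 2) (Fin 2) K) = !![l, 0; 0, l⁻¹] :=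
        ⟨⟨!![l, 0; 0, l⁻¹], by simp [det_fin_two, hl0]⟩, rfl⟩
      have hm := mul_mem hk₁N (inv_mem (htor l hl0 k₁ hk₁N T hTv))
      set m := k₁ * (T * k₁ * T⁻¹)⁻¹
      have m01 : m 0 1 = 0 := by
        simp [m, hTv, SLTwo.mul_apply2, adjugate_fin_two, a0]
      have m00 : m 0 0 = (l * l)⁻¹ := by
        simp [m, hTv, SLTwo.mul_apply2, adjugate_fin_two, a0]
        field_simp
        linear_combination hd₁
      have m11 : m 1 1 = l * l := by
        simp [m, hTv, SLTwo.mul_apply2, adjugate_fin_two, a0]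
        linear_combination (l * l) * hd₁
      obtain ⟨h4, hm10⟩ := key l hl0 m hm m01 m00 m11
      refine ⟨h4, fun h2' => ?_⟩
      have e := hm10 h2'
      simp [m, hTv, SLTwo.mul_apply2, adjugate_fin_two, a0] at e
      field_simp at e
      have h10' : k₁ 1 0 ≠ 0 := fun h => by rw [h] at hd₁; simp at hd₁
      have e' : k₁ 1 1 * ((l ^ 2 - 1) * k₁ 1 0) = 0 := by linear_combination e
      exact (mul_eq_zero.1 e').resolve_right (mul_ne_zero (sub_ne_zero.2 h2') h10')
    refine ⟨?_, fun l hl0 => (main l hl0).1⟩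
    rw [← htr, a0, zero_add]
    obtain ⟨l, hl0, hl1⟩ : ∃ l : K, l ≠ 0 ∧ l ^ 2 ≠ 1 := by
      by_contra! h
      have hsub : (Finset.univ : Finset K) ⊆ {0, 1, -1} := fun l _ => by
        simp only [Finset.mem_insert, Finset.mem_singleton]
        by_cases hl0 : l = 0
        · exact Or.inl hl0
        · exact Or.inr (sq_eq_one_iff.1 (h l hl0))
      have := (Finset.card_le_card hsub).trans Finset.card_le_three
      rw [Finset.card_univ, ← Nat.card_eq_fintype_card] at this
      omega
    exact (main l hl0).2 hl1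
  obtain ⟨ht, hall⟩ := step k hk h10
  -- commutators with root elements
  have hcomm : ∀ x : K, x ≠ 0 → 2 + k 1 0 * k 1 0 * (x * x) = 0 := by
    intro x hx
    have hm := mul_mem hk (inv_mem (hu k hk x))
    have hd := SLTwo.det2 k
    have := (step _ hm ?_).1
    · simp [SLTwo.mul_apply2, SLTwo.ux_inv, adjugate_fin_two] at this
      linear_combination this - 2 * hd
    · simp [SLTwo.mul_apply2, SLTwo.ux_inv, adjugate_fin_two]
      have : k 1 0 * k 1 0 * x ≠ 0 := mul_ne_zero (mul_ne_zero h10 h10) hx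
      exact fun h => this (by linear_combination -h)
  have h1 := hcomm 1 one_ne_zero
  have h22 := hcomm 2 h2
  have h3 : (3 : K) * (2 * 2) = 0 := by linear_combination -2 * h22 + 8 * h1
  rcases mul_eq_zero.1 h3 with h3 | h3
  · -- characteristic three: some fourth power is not one
    have hsub : (Finset.univ : Finset K).erase 0 ⊆ (Polynomial.X ^ 4 - 1 : Polynomial K).roots.toFinset := fun l hl => by
      have hl0 := Finset.ne_of_mem_erase hl
      rw [Multiset.mem_toFinset, Polynomial.mem_roots']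
      refine ⟨fun h => ?_, by simp [hall l hl0]⟩
      have := congrArg (Polynomial.eval 0) h
      simp at this
    have hle := (Finset.card_le_card hsub).trans ((Multiset.toFinset_card_le _).trans (Polynomial.card_roots' _))
    have hdeg : (Polynomial.X ^ 4 - 1 : Polynomial K).natDegree = 4 := by compute_degree!
    rw [Finset.card_erase_of_mem (Finset.mem_univ _), Finset.card_univ, ← Nat.card_eq_fintype_card, hdeg] at hle
    have h5 : Nat.card K = 5 := by omega
    have h5' : ((5 : ℕ) : K) = 0 := by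
      rw [← h5, Nat.card_eq_fintype_card]
      exact Nat.cast_card_eq_zero K
    exact h2 (by push_cast at h5'; linear_combination h5' - h3)
  · exact h2 (mul_self_eq_zero.1 h3)

end Cfsg.Agent.MaxCl.Pow
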