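/-
The coefficient ring of a pair `N, N'` of square-zero maps (polynomials in `S = N N' + N' N`), its quotient on which
`S` is invertible, and the elements which have trivial image there.
-/
import Cfsg.Agent.Lib.MaxCl.PowerPair

set_option autoImplicit false
set_option linter.unusedSectionVars false

namespace Cfsg.Agent.MaxCl.Pow

open Matrix
open scoped MatrixGroups

variable {ι : Type} [Fintype ι] [DecidableEq ι] {F : Type*} [Field F]

/-- polynomials in `N N' + N' N` -/
abbrev SA (N N' : Matrix ι ι F) : Type _ := Polynomial F ⧸ Ideal.span {minpoly F (N * N' + N' * N)}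

/-- evaluation -/
noncomputable def evS (N N' : Matrix ι ι F) : SA N N' →ₐ[F] Matrix ι ι F :=
  Ideal.Quotient.liftₐ _ (Polynomial.aeval (N * N' + N' * N)) fun a ha => by
    obtain ⟨b, rfl⟩ := Ideal.mem_span_singleton.1 ha
    rw [map_mul, minpoly.aeval, zero_mul]

/-- the variable -/
noncomputable def sS (N N' : Matrix ι ι F) : SA N N' := Ideal.Quotient.mk _ Polynomial.X

variable {N N' : Matrix ι ι F}

theorem evS_mk (p : Polynomial F) : evS N N' (Ideal.Quotient.mk _ p) = Polynomial.aeval (N * N' + N' * N) p := rfl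

theorem evS_s : evS N N' (sS N N') = N * N' + N' * N := by rw [sS, evS_mk, Polynomial.aeval_X]

theorem evS_injective (a : SA N N') (ha : evS N N' a = 0) : a = 0 := by
  obtain ⟨p, rfl⟩ := Ideal.Quotient.mk_surjective a
  rw [evS_mk] at ha
  exact Ideal.Quotient.eq_zero_iff_mem.2 (Ideal.mem_span_singleton.2 (minpoly.dvd F _ ha))

theorem finite_SA [Finite F] : Finite (SA N N') := by
  haveI : Fintype F := Fintype.ofFinite F
  have hqm : (minpoly F (N * N' + N' * N)).Monic := minpoly.monic (Algebra.IsIntegral.isIntegral _)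
  haveI : Module.Finite F (SA N N') := hqm.finite_adjoinRoot
  exact Module.finite_of_finite F

variable (hN : N * N = 0) (hN' : N' * N' = 0)
include hN hN'

theorem evS_comm (a : SA N N') : Commute (evS N N' a) N ∧ Commute (evS N N' a) N' := by
  obtain ⟨p, rfl⟩ := Ideal.Quotient.mk_surjective a
  rw [evS_mk]
  exact ⟨(Algebra.commute_of_mem_adjoin_singleton_of_commute (Polynomial.aeval_mem_adjoin_singleton F _)
      (comm_pair hN hN').1.symm).symm,
    (Algebra.commute_of_mem_adjoin_singleton_of_commute (Polynomial.aeval_mem_adjoin_singleton F _)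
      (comm_pair hN hN').2.symm).symm⟩

theorem evS_mul_N (a : SA N N') : N * evS N N' a = evS N N' a * N := (evS_comm hN hN' a).1.eq.symm

theorem evS_mul_N' (a : SA N N') : N' * evS N N' a = evS N N' a * N' := (evS_comm hN hN' a).2.eq.symm

/-- coefficients killing the image of `N` are killed by `s` -/
theorem mul_s_eq_zero {r : SA N N'} (h : evS N N' r * N = 0) : r * sS N N' = 0 := by
  refine evS_injective _ ?_
  rw [map_mul, evS_s, mul_add, ← Matrix.mul_assoc, h, Matrix.zero_mul, zero_add, ← Matrix.mul_assoc,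
    ← evS_mul_N' hN hN', Matrix.mul_assoc, h, Matrix.mul_zero]

theorem mul_pow_s_eq_zero {r : SA N N'} (k : ℕ) (h : evS N N' (r * sS N N' ^ k) * N = 0) :
    r * sS N N' ^ (k + 1) = 0 := by
  rw [pow_succ, ← mul_assoc]
  exact mul_s_eq_zero hN hN' h

theorem NN'N : N * N' * N = evS N N' (sS N N') * N := by
  rw [evS_s, add_mul, Matrix.mul_assoc N' N N, hN, Matrix.mul_zero, add_zero]

/-- a quadruple giving the identity is killed by a power of `s` -/
theorem shp_eq_one {a b c d : SA N N'} (h : shp N N' (evS N N') a b c d = 1) :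
    a * sS N N' ^ 3 = 0 ∧ b * sS N N' ^ 3 = 0 ∧ c * sS N N' ^ 2 = 0 ∧ d * sS N N' ^ 3 = 0 := by
  set ev := evS N N' with hev
  set s := sS N N' with hs
  have hsN : ev s * N = N * (N' * N) := by rw [hev, hs, ← NN'N hN hN', Matrix.mul_assoc]
  have e : ev a * (N * N') + ev b * N + ev c * N' + ev d * (N' * N) = 0 := by
    rw [shp, add_assoc, add_assoc, add_assoc, add_eq_left] at h
    rw [← h]
    abel
  have sw : ∀ (r : SA N N') (X : Matrix ι ι F), N * (ev r * X) = ev r * (N * X) := fun r X => by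
    rw [← Matrix.mul_assoc, evS_mul_N hN hN', Matrix.mul_assoc]
  have sw' : ∀ (r : SA N N') (X : Matrix ι ι F), N' * (ev r * X) = ev r * (N' * X) := fun r X => by
    rw [← Matrix.mul_assoc, evS_mul_N' hN hN', Matrix.mul_assoc]
  have k1 : ∀ X : Matrix ι ι F, N * (N * X) = 0 := fun X => by rw [← Matrix.mul_assoc, hN, Matrix.zero_mul]
  have k2 : ∀ X : Matrix ι ι F, N' * (N' * X) = 0 := fun X => by rw [← Matrix.mul_assoc, hN', Matrix.zero_mul]
  -- multiply by `N` on the right
  have e1 : ev a * (N * (N' * N)) + ev c * (N' * N) = 0 := by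
    have := congrArg (· * N) e
    simp only [add_mul, Matrix.mul_assoc, hN, Matrix.mul_zero, add_zero, Matrix.zero_mul] at this
    exact this
  have hc : ev (c * s) * N = 0 := by
    have := congrArg (N * ·) e1
    simp only [mul_add, sw, k1, Matrix.mul_zero, zero_add] at this
    rw [map_mul, Matrix.mul_assoc, hsN]
    exact this
  have ha : ev (a * s ^ 2) * N = 0 := by
    have := congrArg (fun X => ev s * X) e1
    simp only [mul_add, Matrix.mul_zero] at this
    rw [show ev s * (ev c * (N' * N)) = ev (c * s) * (N' * N) by rw [← Matrix.mul_assoc, ← map_mul, mul_comm],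
      show ev (c * s) * (N' * N) = N' * (ev (c * s) * N) by rw [sw'], hc, Matrix.mul_zero, add_zero] at this
    rw [← this, pow_two, ← hsN, ← Matrix.mul_assoc, ← Matrix.mul_assoc, ← map_mul, ← map_mul]
    ring_nf
  -- multiply by `N'` on the right
  have e2 : ev b * (N * N') + ev d * (N' * (N * N')) = 0 := by
    have := congrArg (· * N') e
    simp only [add_mul, Matrix.mul_assoc, hN', Matrix.mul_zero, zero_add, add_zero, Matrix.zero_mul] at this
    exact this
  have hd : ev (d * s ^ 2) * N = 0 := by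
    have := congrArg (fun X => N * X * N) e2
    simp only [mul_add, add_mul, sw, k1, Matrix.mul_zero, Matrix.zero_mul, zero_add, Matrix.mul_assoc] at this
    rw [← this, pow_two, map_mul, map_mul, Matrix.mul_assoc, Matrix.mul_assoc, hsN, ← sw, ← sw', hsN]
  have hb : ev (b * s ^ 2) * N = 0 := by
    have := congrArg (fun X => N * (N' * X) * N) e2
    simp only [mul_add, add_mul, sw, sw', k2, Matrix.mul_zero, Matrix.zero_mul, add_zero, Matrix.mul_assoc] at this
    rw [← this, pow_two, map_mul, map_mul, Matrix.mul_assoc, Matrix.mul_assoc, hsN, ← sw, ← sw', hsN]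
  exact ⟨mul_pow_s_eq_zero hN hN' 2 ha, mul_pow_s_eq_zero hN hN' 2 hb,
    mul_pow_s_eq_zero hN hN' 1 (by rwa [pow_one]), mul_pow_s_eq_zero hN hN' 2 hd⟩

/-- an element commuting with `N` and with an opposite `J`, unipotent, has trivial image where `s` is invertible -/
theorem shp_comm_trivial {R : Type*} [CommRing R] (h2 : IsUnit (2 : R)) (π : SA N N' →+* R) (hu : IsUnit (π (sS N N')))
    (hπ : ∀ r, π r = 0 → ∃ k, r * sS N N' ^ k = 0)
    {J : Matrix ι ι F} (hJ : N * J + J * N = -1) {a b c d : SA N N'} {g : Matrix ι ι F}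
    (hg : g = shp N N' (evS N N') a b c d) (hcN : g * N = N * g) (hcJ : g * J = J * g) {m : ℕ} (hm : (g - 1) ^ m = 0)
    (hdet : (1 + a * sS N N') * (1 + d * sS N N') - b * (c * sS N N') = 1) :
    π (a * sS N N') = 0 ∧ π b = 0 ∧ π (c * sS N N') = 0 ∧ π (d * sS N N') = 0 := by
  set ev := evS N N' with hev
  set s := sS N N' with hs
  have hsN : ev s * N = N * (N' * N) := by rw [hev, hs, ← NN'N hN hN', Matrix.mul_assoc]
  have kill : ∀ {r : SA N N'} (k : ℕ), r * s ^ k = 0 → π r = 0 := fun {r} k h => by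
    have h1 := congrArg π h
    rw [map_mul, map_pow, map_zero] at h1
    exact (IsUnit.mul_left_eq_zero (hu.pow k)).1 h1
  have sw : ∀ (r : SA N N') (X : Matrix ι ι F), N * (ev r * X) = ev r * (N * X) := fun r X => by
    rw [← Matrix.mul_assoc, evS_mul_N hN hN', Matrix.mul_assoc]
  have sw' : ∀ (r : SA N N') (X : Matrix ι ι F), N' * (ev r * X) = ev r * (N' * X) := fun r X => by
    rw [← Matrix.mul_assoc, evS_mul_N' hN hN', Matrix.mul_assoc]
  have k1 : ∀ X : Matrix ι ι F, N * (N * X) = 0 := fun X => by rw [← Matrix.mul_assoc, hN, Matrix.zero_mul]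
  set Z := g - 1 with hZ
  have hZv : Z = ev a * (N * N') + ev b * N + ev c * N' + ev d * (N' * N) := by
    rw [hZ, hg, shp]
    abel
  have hZN : Z * N = ev a * (N * (N' * N)) + ev c * (N' * N) := by
    rw [hZv]
    simp only [add_mul, Matrix.mul_assoc, hN, Matrix.mul_zero, add_zero]
  have hNZ : N * Z = ev c * (N * N') + ev d * (N * (N' * N)) := by
    rw [hZv]
    simp only [mul_add, sw, k1, hN, Matrix.mul_zero, zero_add]
  have hcomm : Z * N = N * Z := by rw [hZ, sub_mul, mul_sub, hcN, Matrix.one_mul, Matrix.mul_one]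
  have hcs : ev (c * s) * N = 0 := by
    have h1 := congrArg (N * ·) hcomm
    simp only [hZN, k1, mul_add, sw, Matrix.mul_zero, zero_add] at h1
    rw [map_mul, Matrix.mul_assoc, hsN]
    exact h1
  have hcs' : ev s * (ev c * (N' * N)) = 0 := by
    rw [← Matrix.mul_assoc, ← map_mul, mul_comm s c, ← sw', hcs, Matrix.mul_zero]
  have had : ev ((a - d) * s ^ 2) * N = 0 := by
    have h1 := congrArg (ev s * ·) hcomm
    simp only [hZN, hNZ, mul_add, hcs', add_zero] at h1
    rw [show ev s * (ev c * (N * N')) = ev (c * s) * N * N' by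
      rw [← Matrix.mul_assoc, ← Matrix.mul_assoc, ← map_mul, mul_comm s c], hcs, Matrix.zero_mul, zero_add,
      ← hsN, ← Matrix.mul_assoc, ← Matrix.mul_assoc, ← Matrix.mul_assoc, ← Matrix.mul_assoc, ← map_mul, ← map_mul,
      ← map_mul, ← map_mul] at h1
    rw [show (a - d) * s ^ 2 = s * a * s - s * d * s by ring, map_sub, sub_mul, h1, sub_self]
  have hZev : ∀ r, Z * ev r = ev r * Z := fun r => by
    have hC : ∀ x, Commute (ev r) (ev x) := fun x => (Commute.all r x).map ev
    obtain ⟨cN, cN'⟩ := evS_comm hN hN' r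
    rw [hZv]
    exact (((((hC a).mul_right (cN.mul_right cN')).add_right ((hC b).mul_right cN)).add_right
      ((hC c).mul_right cN')).add_right ((hC d).mul_right (cN'.mul_right cN))).eq.symm
  have hpow : ∀ n : ℕ, Z ^ n * (ev s * N) = ev ((a * s) ^ n * s) * N := by
    intro n
    induction n with
    | zero => simp
    | succ n ih =>
      rw [pow_succ', Matrix.mul_assoc, ih, ← Matrix.mul_assoc Z, hZev, Matrix.mul_assoc, hZN, mul_add, ← hsN,
        ← Matrix.mul_assoc, ← Matrix.mul_assoc, ← Matrix.mul_assoc, ← map_mul, ← map_mul, ← map_mul]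
      rw [show ev ((a * s) ^ n * s * c) * (N' * N) = N' * (ev ((a * s) ^ n) * (ev (c * s) * N)) by
        rw [← Matrix.mul_assoc (ev _) (ev _), ← map_mul, sw', show (a * s) ^ n * (c * s) = (a * s) ^ n * s * c by ring],
        hcs, Matrix.mul_zero, Matrix.mul_zero, add_zero]
      congr 2
      ring
  have hπc : π (c * s) = 0 := kill 1 (by rw [pow_one]; exact mul_s_eq_zero hN hN' hcs)
  have hπad : π (a * s) = π (d * s) := by
    rw [← sub_eq_zero, ← map_sub]
    refine kill 2 ?_
    rw [← sub_mul, mul_assoc, ← pow_succ']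
    exact mul_pow_s_eq_zero hN hN' 2 had
  have hπa : π (a * s) = 0 := by
    have hnil : IsNilpotent (π (a * s)) := ⟨m, by
      rw [← map_pow]
      refine kill 2 ?_
      rw [show (2 : ℕ) = 1 + 1 from rfl]
      refine mul_pow_s_eq_zero hN hN' 1 ?_
      rw [pow_one, ← hpow m, hm, Matrix.zero_mul]⟩
    have h1 := congrArg π hdet
    rw [map_sub, map_mul π b, hπc, mul_zero, sub_zero, map_mul, map_add, map_add, map_one, ← hπad] at h1
    have h3 : π (a * s) * (2 + π (a * s)) = 0 := by linear_combination h1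
    exact (IsUnit.mul_left_eq_zero (hnil.isUnit_add_left_of_commute h2 (Commute.all _ _))).1 h3
  have hπd : π (d * s) = 0 := hπad ▸ hπa
  -- a multiplier killing `a`, `c`, `d`
  obtain ⟨ka, hka⟩ := hπ _ hπa
  obtain ⟨kc, hkc⟩ := hπ _ hπc
  obtain ⟨kd, hkd⟩ := hπ _ hπd
  set σ := s ^ (ka + kc + kd + 1) with hσ
  have haσ : a * σ = 0 := by
    rw [hσ, show a * s ^ (ka + kc + kd + 1) = a * s * s ^ ka * s ^ (kc + kd) by ring, hka, zero_mul]
  have hcσ : c * σ = 0 := by
    rw [hσ, show c * s ^ (ka + kc + kd + 1) = c * s * s ^ kc * s ^ (ka + kd) by ring, hkc, zero_mul]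
  have hdσ : d * σ = 0 := by
    rw [hσ, show d * s ^ (ka + kc + kd + 1) = d * s * s ^ kd * s ^ (ka + kc) by ring, hkd, zero_mul]
  set T := ev σ with hT
  have hY : T * Z = ev (b * σ) * N := by
    rw [hZv, hT]
    simp only [mul_add, ← Matrix.mul_assoc, ← map_mul, mul_comm σ, haσ, hcσ, hdσ, map_zero, Matrix.zero_mul, zero_add,
      add_zero]
  have hTZN : T * Z * N = 0 := by rw [hY, Matrix.mul_assoc, hN, Matrix.mul_zero]
  have hZT : T * Z = Z * T := (hZev σ).symm
  have hZJ : Z * J = J * Z := by rw [hZ, sub_mul, mul_sub, hcJ, Matrix.one_mul, Matrix.mul_one]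
  have hNY : N * (T * Z) = 0 := by rw [hY, ← Matrix.mul_assoc, evS_mul_N hN hN', Matrix.mul_assoc, hN, Matrix.mul_zero]
  have hY2 : T * Z = -(Z * (N * (J * T))) := by
    have h1 : (N * J + J * N) * (T * Z) = -(T * Z) := by rw [hJ, neg_mul, Matrix.one_mul]
    rw [add_mul, Matrix.mul_assoc J N, hNY, Matrix.mul_zero, add_zero, hZT, Matrix.mul_assoc N J,
      ← Matrix.mul_assoc J Z, ← hZJ, Matrix.mul_assoc Z J, ← Matrix.mul_assoc N Z, ← hcomm, Matrix.mul_assoc Z N] at h1
    rw [hZT, h1, neg_neg]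
  have hfin : ev (σ * (b * σ)) * N = 0 := by
    rw [map_mul, Matrix.mul_assoc, ← hY, hY2, ← hT, Matrix.mul_neg, ← Matrix.mul_assoc, ← Matrix.mul_assoc,
      hTZN, Matrix.zero_mul, neg_zero]
  have h0 := congrArg π (mul_s_eq_zero hN hN' hfin)
  have huσ : IsUnit (π σ) := by rw [hσ, map_pow]; exact hu.pow _
  rw [map_mul, map_mul, map_mul, map_zero] at h0
  refine ⟨hπa, ?_, hπc, hπd⟩
  exact (IsUnit.mul_left_eq_zero huσ).1 ((IsUnit.mul_right_eq_zero huσ).1 ((IsUnit.mul_left_eq_zero hu).1 h0))

end Cfsg.Agent.MaxCl.Pow
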