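/-
Two-dimensional factors, `q ≥ 5` odd: the group generated by the root group at `w` and by an image of a root group has
image `SL(2, q)` where `N N' + N' N` is invertible, hence `N N' N` is a non-zero multiple of `N` for every root `N` of a
position, and then the image of a root is a root of that position.
-/
import Cfsg.Agent.Lib.MaxCl.PowerOrbit
import Cfsg.Agent.Lib.MaxCl.PowerShape
import Cfsg.Agent.Lib.MaxCl.PowerSLNormal
import Cfsg.Agent.Lib.MaxCl.PowerDickson

set_option autoImplicit false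
set_option linter.unusedSectionVars false

namespace Cfsg.Agent.MaxCl.Pow

open Matrix
open scoped MatrixGroups Kronecker
open SLTwo (ux)

variable {σ : Type} [Fintype σ] [DecidableEq σ] {F : Type*} [Field F] {G : Matrix σ σ F}
variable {κ : Type} [Fintype κ] [DecidableEq κ]

/-! ### small facts -/

/-- upper unitriangular matrix over a ring -/
def uR {R : Type*} [CommRing R] (a : R) : SL(2, R) := ⟨!![1, a; 0, 1], by simp [det_fin_two]⟩

theorem uR_val {R : Type*} [CommRing R] (a : R) : (uR a : Matrix (Fin 2) (Fin 2) R) = !![1, a; 0, 1] := rfl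

theorem uR_add {R : Type*} [CommRing R] (a b : R) : uR a * uR b = uR (a + b) := Subtype.ext (by
  rw [Matrix.SpecialLinearGroup.coe_mul, uR_val, uR_val, uR_val, Matrix.mul_fin_two]
  simp [add_comm])

theorem uR_zero {R : Type*} [CommRing R] : uR (0 : R) = 1 := Subtype.ext (by
  rw [uR_val, Matrix.SpecialLinearGroup.coe_one, Matrix.one_fin_two])

theorem map_uR {A R : Type*} [CommRing A] [CommRing R] (f : A →+* R) (a : A) :
    Matrix.SpecialLinearGroup.map f (uR a) = uR (f a) := Subtype.ext (by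
  ext i j
  fin_cases i <;> fin_cases j <;> simp [uR_val])

theorem map_lx {A R : Type*} [CommRing A] [CommRing R] (f : A →+* R) (a : A) :
    Matrix.SpecialLinearGroup.map f (lx a) = lx (f a) := Subtype.ext (by
  ext i j
  fin_cases i <;> fin_cases j <;> simp [lx_val])

theorem uR_eq_ux {R : Type*} [Field R] (a : R) : uR a = ux a := rfl

theorem Rz_comm {j l : κ} (h : j ≠ l) (z t : σ → F) : Rz G j z * Rz G l t = Rz G l t * Rz G j z := by
  rw [Rz_eq_ten, Rz_eq_ten, ← map_mul, ← map_mul]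
  congr 1
  funext m
  by_cases hm : m = j
  · subst hm; simp [put, h]
  · simp [put, hm]

theorem trace_K (a b : σ → F) : Matrix.trace (K G a b) = fm G a b := by rw [K, Matrix.trace_vecMulVec]; rfl

theorem slot_injective [Nonempty σ] (i : κ) : Function.Injective (slot (σ := σ) (F := F) i) := fun a b h => by
  rw [← spl_kr_one, ← spl_kr_one, EmbeddingLike.apply_eq_iff_eq] at h
  have h1 : ((kr (a, 1) : GL (σ × (oth i → σ)) F) : Matrix (σ × (oth i → σ)) (σ × (oth i → σ)) F) =
      ((kr (b, 1) : GL (σ × (oth i → σ)) F) : Matrix (σ × (oth i → σ)) (σ × (oth i → σ)) F) := by rw [h]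
  simp only [kr_val, Units.val_one] at h1
  exact Units.ext (kron_injective_left one_ne_zero h1)

theorem sub_one_pow_eq_zero {ι : Type} [Fintype ι] [DecidableEq ι] [Nonempty ι] {p : ℕ} [Fact p.Prime] [CharP F p]
    {X : Matrix ι ι F} {m : ℕ} (h : X ^ p ^ m = 1) : (X - 1) ^ p ^ m = 0 := by
  rw [sub_pow_char_pow_of_commute p m (Commute.one_right X), h, one_pow, sub_self]

theorem eq_one_of_pow_char_pow {R : Type*} [Field R] {p : ℕ} [Fact p.Prime] [CharP R p] {m : ℕ} {c : R}
    (h : c ^ p ^ m = 1) : c = 1 := by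
  have h1 : (c - 1) ^ p ^ m = 0 := by rw [sub_pow_char_pow, h, one_pow, sub_self]
  exact sub_eq_zero.1 (eq_zero_of_pow_eq_zero h1)

theorem exists_idem {A : Type*} [Monoid A] [Finite A] (s : A) : ∃ n, 0 < n ∧ s ^ n * s ^ n = s ^ n := by
  obtain ⟨a, b, hab, heq⟩ : ∃ a b : ℕ, a ≠ b ∧ s ^ a = s ^ b :=
    Finite.exists_ne_map_eq_of_infinite (fun m : ℕ => s ^ m)
  wlog hlt : a < b generalizing a b
  · exact this b a hab.symm heq.symm (by omega)
  have hper : ∀ m, a ≤ m → ∀ k, s ^ (m + k * (b - a)) = s ^ m := fun m hm k => by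
    induction k with
    | zero => simp
    | succ k ih =>
      rw [show m + (k + 1) * (b - a) = (m - a) + (b + k * (b - a)) by rw [add_mul, one_mul]; omega, pow_add, pow_add,
        ← heq, ← pow_add, ← pow_add, show (m - a) + (a + k * (b - a)) = m + k * (b - a) by omega, ih]
  refine ⟨(b - a) * (a + 1), Nat.mul_pos (by omega) (by omega), ?_⟩
  rw [← pow_add]
  conv_lhs => rw [show (b - a) * (a + 1) + (b - a) * (a + 1) = (b - a) * (a + 1) + (a + 1) * (b - a) by ring]
  refine hper _ ?_ _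
  calc a ≤ a + 1 := by omega
    _ = 1 * (a + 1) := (one_mul _).symm
    _ ≤ (b - a) * (a + 1) := Nat.mul_le_mul_right _ (by omega)

/-! ### the two-dimensional form -/

theorem dec_two (hG : Alt G) (hk : Fintype.card σ = 2) {w f : σ → F} (hf : fm G w f = 1) (v : σ → F) :
    v = fm G v f • w - fm G v w • f := by
  have hfw : fm G f w = -1 := by rw [hG.fm_swap w f, hf]
  rw [← sub_eq_zero, ← sub_add]
  by_contra hne
  set r := v - fm G v f • w + fm G v w • f with hr
  obtain ⟨h1, h3⟩ := perp_part hG hf v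
  rw [← hr] at h1 h3
  obtain ⟨z, hz1, hz2, hz3⟩ := exists_partner_perp hG hf hne h1 h3
  have hli : LinearIndependent F ![w, f, r] := by
    rw [Fintype.linearIndependent_iff]
    intro q hq'
    simp only [Fin.sum_univ_three, Matrix.cons_val_zero, Matrix.cons_val_one, Matrix.cons_val] at hq'
    have q0 := congrArg (fun x => fm G x f) hq'
    have q1 := congrArg (fun x => fm G x w) hq'
    have q2 := congrArg (fun x => fm G x z) hq'
    simp only [fm_add_left, fm_smul_left, fm_zero_left, hG.self, hf, hfw, h1, h3, hz1, hG.fm_swap z w,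
      hG.fm_swap z f, hz2, hz3, neg_zero, mul_zero, mul_one, mul_neg, add_zero, zero_add, neg_eq_zero] at q0 q1 q2
    intro i
    fin_cases i <;> assumption
  have := hli.fintype_card_le_finrank
  rw [Fintype.card_fin, Module.finrank_fintype_fun_eq_card, hk] at this
  omega

theorem Rz_ne_zero [Nonempty σ] (hG : Alt G) (i : κ) {w : σ → F} (hw : w ≠ 0) : Rz G i w ≠ 0 := fun h0 => by
  have h1 : K G w w ⊗ₖ (1 : Matrix (oth i → σ) (oth i → σ) F) = 0 :=
    (splM F σ i).injective (h0.trans (map_zero _).symm)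
  have h3 := kron_injective_left (A' := (0 : Matrix σ σ F)) one_ne_zero (h1.trans (Matrix.zero_kronecker _).symm)
  exact hw ((K_eq_zero hG.isForm h3).elim id id)

theorem Rz_pair (hG : Alt G) (hk : Fintype.card σ = 2) (i : κ) {w f : σ → F} (hf : fm G w f = 1) :
    Rz G i w * Rz G i f + Rz G i f * Rz G i w = -1 := by
  have hfw : fm G f w = -1 := by rw [hG.fm_swap w f, hf]
  have e : K G w w * K G f f + K G f f * K G w w = -(1 : Matrix σ σ F) := by
    refine Matrix.toLin'.injective (LinearMap.ext fun v => ?_)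
    simp only [Matrix.toLin'_apply, K_mul_K, hf, hfw, add_mulVec, K_mulVec, neg_mulVec, one_mulVec,
      neg_one_smul, one_smul]
    conv_rhs => rw [dec_two hG hk hf v]
    abel
  rw [Rz, Rz, ← map_mul, ← map_mul, ← map_add, ← Matrix.mul_kronecker_mul, ← Matrix.mul_kronecker_mul,
    ← Matrix.add_kronecker, e, neg_kron, Matrix.mul_one, Matrix.one_kronecker_one, map_neg, map_one]

/-! ### the shapes -/

section Shape
variable {ι : Type} [Fintype ι] [DecidableEq ι] {N N' : Matrix ι ι F} (hN : N * N = 0) (hN' : N' * N' = 0)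
include hN hN'

theorem evS_comm_shp (r a b c d : SA N N') : Commute (evS N N' r) (shp N N' (evS N N') a b c d) := by
  have hc : ∀ x, Commute (evS N N' r) (evS N N' x) := fun x => (Commute.all r x).map _
  obtain ⟨cN, cN'⟩ := evS_comm hN hN' r
  exact ((((Commute.one_right _).add_right ((hc _).mul_right (cN.mul_right cN'))).add_right
    ((hc _).mul_right cN)).add_right ((hc _).mul_right cN')).add_right ((hc _).mul_right (cN'.mul_right cN))

theorem shp_nil {e : SA N N'} {n : ℕ} (hn : 0 < n) (he : e = sS N N' ^ n) (hid : e * e = e) (a b c d : SA N N') :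
    (evS N N' (1 - e) * (shp N N' (evS N N') a b c d - 1)) ^ (3 * n) = 0 := by
  set ev := evS N N'
  set s := sS N N'
  set q : SA N N' → SA N N' → SA N N' → SA N N' → Matrix ι ι F := fun a b c d => shp N N' ev a b c d - 1 with hqdef
  have hq : ∀ a b c d a' b' c' d', q a b c d * q a' b' c' d' =
      q (a * a' * s + b * c') (a * b' * s + b * d' * s) (c * a' * s + d * c' * s) (d * d' * s + c * b') := by
    intro a b c d a' b' c' d'
    simp only [hqdef, sub_mul, mul_sub, Matrix.one_mul, Matrix.mul_one,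
      shp_mul hN hN' ev s evS_s (evS_comm hN hN')]
    simp only [shp, map_add, add_mul]
    abel
  have hqs : ∀ a b c d, q (a * s) (b * s) (c * s) (d * s) = ev s * q a b c d := fun a b c d => by
    simp only [hqdef, shp, mul_comm _ s, map_mul, add_sub_cancel_left, add_assoc, mul_add, Matrix.mul_assoc]
  obtain ⟨Y, hY, h3⟩ : ∃ Y, Commute (ev s) Y ∧ q a b c d ^ 3 = ev s * Y := by
    refine ⟨q (a * a * s * a + b * c * a + (a * b + b * d) * c) ((a * a * s + b * c) * b + (a * b * s + b * d * s) * d)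
      ((c * a * s + d * c * s) * a + (d * d * s + c * b) * c) (d * d * s * d + c * b * d + (c * a + d * c) * b),
      (evS_comm_shp hN hN' s _ _ _ _).sub_right (Commute.one_right _), ?_⟩
    rw [← hqs, pow_succ, pow_two, hq, hq]
    congr 1 <;> ring
  have hc : Commute (ev (1 - e)) (q a b c d) :=
    (evS_comm_shp hN hN' (1 - e) a b c d).sub_right (Commute.one_right _)
  have h1 : ∀ k, (1 - e) ^ (k + 1) = 1 - e := fun k => by
    induction k with
    | zero => rw [pow_one]
    | succ k ih =>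
      rw [pow_succ, ih]
      linear_combination hid
  obtain ⟨m, rfl⟩ : ∃ m, n = m + 1 := ⟨n - 1, by omega⟩
  have h0 : (1 - e) ^ (3 * (m + 1)) * s ^ (m + 1) = 0 := by
    rw [← he, show 3 * (m + 1) = (3 * m + 2) + 1 by ring, h1]
    linear_combination -hid
  show (ev (1 - e) * q a b c d) ^ (3 * (m + 1)) = 0
  rw [hc.mul_pow, pow_mul (q a b c d) 3, h3, hY.mul_pow, ← Matrix.mul_assoc, ← map_pow, ← map_pow, ← map_mul, h0,
    map_zero, Matrix.zero_mul]

end Shape

/-! ### the generated group -/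

/-- the pair ring at two roots -/
abbrev SP (G : Matrix σ σ F) (g : GL (κ → σ) F) (i : κ) (w : σ → F) (j : κ) (z : σ → F) : Type _ :=
  SA (Rz G i w) (Np G g j z)

section Gam
variable (hG : Alt G) (g : GL (κ → σ) F) (i : κ) (w : σ → F) (j : κ) (z : σ → F)

/-- upper generators -/
noncomputable def gU (x : F) : SL(2, SP G g i w j z) × GL (κ → σ) F :=
  (uR (algebraMap F (SP G g i w j z) x), slot i (rt hG w x))

/-- lower generators -/
noncomputable def gL (x : F) : SL(2, SP G g i w j z) × GL (κ → σ) F :=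
  (lx (algebraMap F (SP G g i w j z) x * sS (Rz G i w) (Np G g j z)), g * slot j (rt hG z x) * g⁻¹)

/-- the group generated by both -/
noncomputable def Gam : Subgroup (SL(2, SP G g i w j z) × GL (κ → σ) F) :=
  Subgroup.closure (Set.range (gU hG g i w j z) ∪ Set.range (gL hG g i w j z))

theorem gU_mem (x : F) : gU hG g i w j z x ∈ Gam hG g i w j z := Subgroup.subset_closure (Or.inl ⟨x, rfl⟩)

theorem gL_mem (x : F) : gL hG g i w j z x ∈ Gam hG g i w j z := Subgroup.subset_closure (Or.inr ⟨x, rfl⟩)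

theorem gU_add (x y : F) : gU hG g i w j z x * gU hG g i w j z y = gU hG g i w j z (x + y) :=
  Prod.ext (by rw [gU, gU, gU, Prod.fst_mul, uR_add, map_add]) (by rw [gU, gU, gU, Prod.snd_mul, slot_mul, rt_add])

variable [Finite F] {M : Subgroup (GL (κ → σ) F)}

instance : Finite (SP G g i w j z) := finite_SA

theorem Gam_mem (hM : Over G M) (hg : g ∈ M) : ∀ t ∈ Gam hG g i w j z, t.2 ∈ M ∧ ∃ a b c d : SP G g i w j z,
    (t.1 : Matrix (Fin 2) (Fin 2) (SP G g i w j z)) =
        !![1 + a * sS (Rz G i w) (Np G g j z), b; c * sS (Rz G i w) (Np G g j z), 1 + d * sS (Rz G i w) (Np G g j z)] ∧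
      (t.2 : Matrix (κ → σ) (κ → σ) F) =
        shp (Rz G i w) (Np G g j z) (evS (Rz G i w) (Np G g j z)) a b c d := by
  have hev : ∀ (x : F) (X : Matrix (κ → σ) (κ → σ) F),
      evS (Rz G i w) (Np G g j z) (algebraMap F _ x) * X = x • X := fun x X => by
    rw [AlgHom.commutes, Algebra.algebraMap_eq_smul_one, Matrix.smul_mul, Matrix.one_mul]
  have hNx : ∀ x : F, (g : Matrix (κ → σ) (κ → σ) F) * (1 + x • Rz G j z) * ((g⁻¹ : GL (κ → σ) F) : Matrix _ _ F) =
      1 + x • Np G g j z := fun x => by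
    rw [mul_add, Matrix.mul_one, add_mul, ← Units.val_mul, mul_inv_cancel, Units.val_one, Matrix.mul_smul,
      Matrix.smul_mul, Np]
  have hN := Rz_sq (κ := κ) hG i w
  have hN' : Np G g j z * Np G g j z = 0 := Np_sq hG
  intro t ht
  induction ht using Subgroup.closure_induction with
  | mem t ht =>
    rcases ht with ⟨x, rfl⟩ | ⟨x, rfl⟩
    · refine ⟨hM.sl i _ (rt_mem_iso hG w x), 0, algebraMap F _ x, 0, 0, by simp [gU, uR_val], ?_⟩
      simp only [gU, shp, slot_rt_val, map_zero, Matrix.zero_mul, add_zero, hev]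
    · refine ⟨mul_mem (mul_mem hg (hM.sl j _ (rt_mem_iso hG z x))) (inv_mem hg), 0, 0, algebraMap F _ x, 0,
        by simp [gL, lx_val], ?_⟩
      simp only [gL, shp, Units.val_mul, slot_rt_val, map_zero, Matrix.zero_mul, add_zero, hNx, hev]
  | one => exact ⟨one_mem _, 0, 0, 0, 0, by simp [Matrix.one_fin_two], by simp [shp]⟩
  | mul t t' _ _ h h' =>
    obtain ⟨h0, a, b, c, d, e1, e2⟩ := h
    obtain ⟨h0', a', b', c', d', e1', e2'⟩ := h'
    set s := sS (Rz G i w) (Np G g j z)
    refine ⟨mul_mem h0 h0', a + a' + a * a' * s + b * c', b + b' + a * b' * s + b * d' * s,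
      c + c' + c * a' * s + d * c' * s, d + d' + d * d' * s + c * b', ?_, ?_⟩
    · rw [Prod.fst_mul, Matrix.SpecialLinearGroup.coe_mul, e1, e1', Matrix.mul_fin_two]
      ext u v
      fin_cases u <;> fin_cases v <;> simp <;> ring
    · rw [Prod.snd_mul, Units.val_mul, e2, e2', shp_mul hN hN' _ s evS_s (evS_comm hN hN')]
  | inv t ht h =>
    have hfin : ∀ k : ℕ, (t ^ k).2 ∈ M ∧ ∃ a b c d : SP G g i w j z,
        ((t ^ k).1 : Matrix (Fin 2) (Fin 2) (SP G g i w j z)) =
            !![1 + a * sS (Rz G i w) (Np G g j z), b; c * sS (Rz G i w) (Np G g j z),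
              1 + d * sS (Rz G i w) (Np G g j z)] ∧
          ((t ^ k).2 : Matrix (κ → σ) (κ → σ) F) =
            shp (Rz G i w) (Np G g j z) (evS (Rz G i w) (Np G g j z)) a b c d := fun k => by
      induction k with
      | zero => exact ⟨one_mem _, 0, 0, 0, 0, by simp [Matrix.one_fin_two], by simp [shp]⟩
      | succ k ih =>
        obtain ⟨h0, a, b, c, d, e1, e2⟩ := ih
        obtain ⟨h0', a', b', c', d', e1', e2'⟩ := h
        set s := sS (Rz G i w) (Np G g j z)
        rw [pow_succ]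
        refine ⟨mul_mem h0 h0', a + a' + a * a' * s + b * c', b + b' + a * b' * s + b * d' * s,
          c + c' + c * a' * s + d * c' * s, d + d' + d * d' * s + c * b', ?_, ?_⟩
        · rw [Prod.fst_mul, Matrix.SpecialLinearGroup.coe_mul, e1, e1', Matrix.mul_fin_two]
          ext u v
          fin_cases u <;> fin_cases v <;> simp <;> ring
        · rw [Prod.snd_mul, Units.val_mul, e2, e2', shp_mul hN hN' _ s evS_s (evS_comm hN hN')]
    have h1 : t⁻¹ = t ^ (orderOf t - 1) := by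
      refine inv_eq_of_mul_eq_one_right ?_
      rw [← pow_succ', Nat.sub_add_cancel (orderOf_pos t), pow_orderOf_eq_one]
    rw [h1]
    exact hfin _

theorem exists_rho (hM : Over G M) (hg : g ∈ M) {e : SP G g i w j z} (hid : e * e = e) :
    ∃ ρ : Gam hG g i w j z →* GL (κ → σ) F, ∀ t : Gam hG g i w j z, (ρ t : Matrix (κ → σ) (κ → σ) F) =
      1 + evS (Rz G i w) (Np G g j z) (1 - e) * ((t.1.2 : Matrix (κ → σ) (κ → σ) F) - 1) := by
  have hN := Rz_sq (κ := κ) hG i w
  have hN' : Np G g j z * Np G g j z = 0 := Np_sq hG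
  set ev := evS (Rz G i w) (Np G g j z)
  let ρ₀ : Gam hG g i w j z →* Matrix (κ → σ) (κ → σ) F :=
    { toFun := fun t => 1 + ev (1 - e) * ((t.1.2 : Matrix (κ → σ) (κ → σ) F) - 1)
      map_one' := by simp
      map_mul' := fun t t' => by
        obtain ⟨-, a, b, c, d, -, e2⟩ := Gam_mem hG g i w j z hM hg _ t.2
        have hc : Commute (ev (1 - e)) (t.1.2 : Matrix (κ → σ) (κ → σ) F) := by
          rw [e2]; exact evS_comm_shp hN hN' _ _ _ _ _
        have hX : ev (1 - e) * ev (1 - e) = ev (1 - e) := by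
          rw [← map_mul]
          congr 1
          linear_combination hid
        simp only [Subgroup.coe_mul, Prod.snd_mul, Units.val_mul]
        set A := (t.1.2 : Matrix (κ → σ) (κ → σ) F)
        set B := (t'.1.2 : Matrix (κ → σ) (κ → σ) F)
        set X := ev (1 - e)
        have k : X * (A - 1) * X = X * (A - 1) := by
          rw [Matrix.mul_assoc, ← (hc.sub_right (Commute.one_right X)).eq, ← Matrix.mul_assoc, hX]
        calc 1 + X * (A * B - 1) = 1 + X * (A - 1) + X * (B - 1) + X * (A - 1) * (B - 1) := by noncomm_ring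
          _ = 1 + X * (A - 1) + X * (B - 1) + X * (A - 1) * X * (B - 1) := by rw [k]
          _ = _ := by noncomm_ring }
  exact ⟨ρ₀.toHomUnits, fun t => rfl⟩

end Gam

/-! ### the unipotent elements over the part with invertible `s` -/

section Exact
variable (hG : Alt G) (g : GL (κ → σ) F) (i : κ) (w : σ → F) (j : κ) (z : σ → F) [Finite F]
  {M : Subgroup (GL (κ → σ) F)} (hM : Over G M) (hg : g ∈ M)
  {R : Type*} [CommRing R] [Nontrivial R] (π : SP G g i w j z →+* R)
  (h2u : IsUnit (2 : R)) (hus : IsUnit (π (sS (Rz G i w) (Np G g j z))))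
  (hπ : ∀ r, π r = 0 → ∃ k, r * sS (Rz G i w) (Np G g j z) ^ k = 0)
include hG hM hg h2u hus hπ

theorem triv_of_comm {p : ℕ} [Fact p.Prime] [CharP F p] [Nonempty σ] {J : Matrix (κ → σ) (κ → σ) F}
    (hJ : Rz G i w * J + J * Rz G i w = -1) (t : Gam hG g i w j z)
    (hcN : Commute (t.1.2 : Matrix (κ → σ) (κ → σ) F) (Rz G i w))
    (hcJ : Commute (t.1.2 : Matrix (κ → σ) (κ → σ) F) J) {m : ℕ} (hm : t ^ p ^ m = 1) :
    Matrix.SpecialLinearGroup.map π t.1.1 = 1 := by
  obtain ⟨-, a, b, c, d, e1, e2⟩ := Gam_mem hG g i w j z hM hg _ t.2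
  have hz : ((t.1.2 : GL (κ → σ) F) : Matrix (κ → σ) (κ → σ) F) ^ p ^ m = 1 := by
    have h1 := congrArg (fun u : Gam hG g i w j z => ((u.1.2 : GL (κ → σ) F) : Matrix (κ → σ) (κ → σ) F)) hm
    simpa using h1
  obtain ⟨q1, q2, q3, q4⟩ := shp_comm_trivial (Rz_sq hG i w) (Np_sq hG) h2u π hus hπ hJ e2 hcN.eq hcJ.eq
    (sub_one_pow_eq_zero hz) (by
      have h1 := t.1.1.2
      rw [e1, det_fin_two_of] at h1
      exact h1)
  refine Subtype.ext ?_
  ext a' b'
  show π ((t.1.1 : Matrix (Fin 2) (Fin 2) (SP G g i w j z)) a' b') = _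
  rw [e1]
  rw [map_mul] at q1 q3 q4
  fin_cases a' <;> fin_cases b' <;> simp [q1, q2, q3, q4]

theorem exact_uR {p : ℕ} [Fact p.Prime] [CharP F p] (h2 : (2 : F) ≠ 0) (hk : Fintype.card σ = 2) (hq : 5 ≤ Nat.card F)
    (hR : Rigid hG M) (hw : w ≠ 0) {P : Subgroup (Gam hG g i w j z)} (hP : IsPGroup p P)
    (hU : ∀ x, (⟨gU hG g i w j z x, gU_mem hG g i w j z x⟩ : Gam hG g i w j z) ∈ P) {y : Gam hG g i w j z} (hy : y ∈ P) :
    ∃ x : F, Matrix.SpecialLinearGroup.map π y.1.1 = uR (π (algebraMap F _ x)) := by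
  classical
  haveI : Fintype F := Fintype.ofFinite F
  haveI : Nonempty σ := Fintype.card_pos_iff.1 (by omega)
  obtain ⟨f, hf⟩ := exists_partner hG hw
  have hfw : fm G f w = -1 := by rw [hG.fm_swap w f, hf]
  have hJ := Rz_pair hG hk i hf
  set N := Rz G i w with hNdef
  have hordp : ∀ u ∈ P, ∃ m, u ^ p ^ m = 1 := fun u hu => by
    obtain ⟨m, hm⟩ := hP ⟨u, hu⟩
    exact ⟨m, congrArg Subtype.val hm⟩
  have hyM := (Gam_mem hG g i w j z hM hg _ y.2).1
  have hyW : y.1.2 ∈ Wr F κ σ := by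
    refine pgroup_le_Wr hG hR (p := p) (hP.map ((MonoidHom.snd _ _).comp (Gam hG g i w j z).subtype)) ?_ hw
      ⟨_, hU 1, rfl⟩ ⟨y, hy, rfl⟩
    rintro _ ⟨u, -, rfl⟩
    exact (Gam_mem hG g i w j z hM hg _ u.2).1
  obtain ⟨l, t, c, ht, hc, hconj⟩ := wr_conj_Rz hG hyW (hM.le hyM) i hw
  set q : Gam hG g i w j z := y * ⟨gU hG g i w j z 1, gU_mem hG g i w j z 1⟩ * y⁻¹ with hq'
  have hqP : q ∈ P := mul_mem (mul_mem hy (hU 1)) (inv_mem hy)
  have hqv : q.1.2 = slot l (rt hG t c) := Units.ext (by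
    show (((y.1.2 * slot i (rt hG w 1) * (y.1.2)⁻¹ : GL (κ → σ) F)) : Matrix (κ → σ) (κ → σ) F) = _
    rw [Units.val_mul, Units.val_mul, slot_rt_val, one_smul, mul_add, Matrix.mul_one, add_mul, hconj,
      ← Units.val_mul, mul_inv_cancel, Units.val_one, slot_rt_val, Matrix.smul_mul, Matrix.mul_assoc,
      ← Units.val_mul, mul_inv_cancel, Units.val_one, Matrix.mul_one])
  by_cases hl : l = i
  swap
  · exfalso
    obtain ⟨m, hm⟩ := hordp q hqP
    have hcom : ∀ v, Commute (q.1.2 : Matrix (κ → σ) (κ → σ) F) (Rz G i v) := fun v => by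
      rw [hqv, slot_rt_val]
      exact (Commute.one_left _).add_left ((show Commute _ _ from Rz_comm hl t v).smul_left c)
    have h1 := triv_of_comm hG g i w j z hM hg π h2u hus hπ hJ q (hcom w) (hcom f) hm
    rw [hq', Subgroup.coe_mul, Subgroup.coe_mul, Subgroup.coe_inv, Prod.fst_mul, Prod.fst_mul, Prod.fst_inv, map_mul,
      map_mul, map_inv, mul_inv_eq_one, mul_eq_left] at h1
    have h3 := congrArg (fun X : SL(2, R) => (X : Matrix (Fin 2) (Fin 2) R) 0 1) h1
    simp [gU, uR_val] at h3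
  subst hl
  -- the same line
  have htw : fm G w t = 0 := by
    obtain ⟨m, hm⟩ := hordp (q * ⟨gU hG g l w j z 1, gU_mem hG g l w j z 1⟩) (mul_mem hqP (hU 1))
    have h1 := congrArg (fun u : Gam hG g l w j z => u.1.2) hm
    simp only [Subgroup.coe_pow, Prod.pow_snd, Subgroup.coe_mul, Prod.snd_mul, Subgroup.coe_one, Prod.snd_one] at h1
    rw [hqv, show (gU hG g l w j z 1).2 = slot l (rt hG w 1) from rfl, slot_mul] at h1
    have h3 : (rt hG t c * rt hG w 1) ^ p ^ m = 1 := by
      refine slot_injective (F := F) l ?_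
      rw [slot_one, ← h1]
      generalize rt hG t c * rt hG w 1 = a
      generalize p ^ m = k
      induction k with
      | zero => rw [pow_zero, pow_zero, slot_one]
      | succ k ih => rw [pow_succ, pow_succ, ← slot_mul, ih]
    have h4 := congrArg Units.val h3
    rw [Units.val_pow_eq_pow_val, Units.val_one] at h4
    have h5 := Matrix.isNilpotent_trace_of_isNilpotent ⟨p ^ m, sub_one_pow_eq_zero h4⟩
    rw [isNilpotent_iff_eq_zero, Units.val_mul, rt_val, rt_val, one_smul] at h5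
    simp only [mul_add, add_mul, Matrix.one_mul, Matrix.mul_one, Matrix.smul_mul, K_mul_K] at h5
    simp only [Matrix.trace_sub, Matrix.trace_add, Matrix.trace_smul, trace_K, hG.self, smul_eq_mul, mul_zero,
      zero_add, add_zero, hG.fm_swap w t] at h5
    have h6 : c * (fm G w t * fm G w t) = 0 := by linear_combination -h5
    exact mul_self_eq_zero.1 ((mul_eq_zero.1 h6).resolve_left hc)
  set r₀ := fm G t f with hr₀
  have htr : t = r₀ • w := by
    have := dec_two hG hk hf t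
    rwa [show fm G t w = 0 by rw [hG.fm_swap w t, htw, neg_zero], zero_smul, sub_zero] at this
  have hr₀0 : r₀ ≠ 0 := fun h0 => ht (by rw [htr, h0, zero_smul])
  set c' := c * (r₀ * r₀) with hc'
  have hyN : (y.1.2 : Matrix (κ → σ) (κ → σ) F) * N = c' • (N * (y.1.2 : Matrix (κ → σ) (κ → σ) F)) := by
    rw [hconj, htr, hc', mul_smul c]
    congr 1
    simp only [hNdef, Rz, K_smul_self, Matrix.smul_kronecker, map_smul, Matrix.smul_mul]
  have hc1 : c' = 1 := by
    obtain ⟨m, hm⟩ := hordp y hy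
    have hpw : ∀ k : ℕ, (y.1.2 : Matrix (κ → σ) (κ → σ) F) ^ k * N =
        c' ^ k • (N * (y.1.2 : Matrix (κ → σ) (κ → σ) F) ^ k) := fun k => by
      induction k with
      | zero => simp
      | succ k ih =>
        rw [pow_succ', Matrix.mul_assoc, ih, Matrix.mul_smul, ← Matrix.mul_assoc, hyN, Matrix.smul_mul,
          Matrix.mul_assoc, smul_smul, pow_succ c']
    have h1 := congrArg (fun u : Gam hG g l w j z => ((u.1.2 : GL (κ → σ) F) : Matrix (κ → σ) (κ → σ) F)) hm
    simp only [Subgroup.coe_pow, Prod.pow_snd, Units.val_pow_eq_pow_val, Subgroup.coe_one, Prod.snd_one,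
      Units.val_one] at h1
    have h3 := hpw (p ^ m)
    rw [h1, Matrix.one_mul, Matrix.mul_one] at h3
    refine eq_one_of_pow_char_pow (p := p) (m := m) (sub_eq_zero.1 ?_)
    exact (smul_eq_zero.1 (show (c' ^ p ^ m - 1) • N = 0 by rw [sub_smul, ← h3, one_smul, sub_self])).resolve_right
      (Rz_ne_zero hG l hw)
  rw [hc1, one_smul] at hyN
  -- so `y` is a Kronecker product with unitriangular first factor
  set g₂ := (spl F σ l).symm y.1.2 with hg₂
  have hg₂M : g₂ ∈ sub l M := by rwa [mem_sub, hg₂, MulEquiv.apply_symm_apply]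
  have hg₂v : (y.1.2 : Matrix (κ → σ) (κ → σ) F) =
      splM F σ l (g₂ : Matrix (σ × (oth l → σ)) (σ × (oth l → σ)) F) := by
    rw [← spl_val, hg₂, MulEquiv.apply_symm_apply]
  have hn2 : (g₂ : Matrix (σ × (oth l → σ)) (σ × (oth l → σ)) F) * (K G w w ⊗ₖ 1) =
      (1 : F) • ((K G w w ⊗ₖ 1) * (g₂ : Matrix (σ × (oth l → σ)) (σ × (oth l → σ)) F)) := by
    rw [one_smul]
    apply (splM F σ l).injective
    rw [map_mul, map_mul, ← hg₂v]
    exact hyN
  obtain ⟨lam, hlam, hlam2⟩ : ∃ l : F, l ≠ 0 ∧ l * l ≠ 1 := by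
    by_contra! h
    have hsub : (Finset.univ : Finset F) ⊆ {0, 1, -1} := fun l _ => by
      simp only [Finset.mem_insert, Finset.mem_singleton]
      by_cases hl0 : l = 0
      · exact Or.inl hl0
      · exact Or.inr (sq_eq_one_iff.1 ((sq l).trans (h l hl0)))
    have := (Finset.card_le_card hsub).trans Finset.card_le_three
    rw [Finset.card_univ, ← Nat.card_eq_fintype_card] at this
    omega
  obtain ⟨L₁, A, b, d, -, -, hkr, -, -⟩ := sim_kr hG (gg_isForm hG.isForm) (hM.ovr hG (Or.inl h2) l)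
    (hM.ovr hG (Or.inl h2) l) one_ne_zero
    (by rw [one_smul]; exact mem_iso.1 (spl_mem_iso.1 (by rw [hg₂, MulEquiv.apply_symm_apply]; exact hM.le hyM)))
    (fun x hx => mul_mem (mul_mem hg₂M hx) (inv_mem hg₂M)) hw one_ne_zero hn2 (Or.inr ⟨hk, lam, hlam, hlam2⟩)
  have hA0 : (A : Matrix (oth l → σ) (oth l → σ) F) ≠ 0 := fun h0 => by
    have h1 := (Matrix.isUnit_iff_isUnit_det _).1 A.isUnit
    rw [h0] at h1
    simp at h1
  have hLK : (L₁ : Matrix σ σ F) * K G w w = K G w w * (L₁ : Matrix σ σ F) := by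
    rw [one_smul, hkr, kr_val, ← Matrix.mul_kronecker_mul, ← Matrix.mul_kronecker_mul, Matrix.mul_one,
      Matrix.one_mul] at hn2
    exact kron_injective_left hA0 hn2
  set r := -fm G ((L₁ : Matrix σ σ F) *ᵥ f) w with hr
  have hLw : (L₁ : Matrix σ σ F) *ᵥ w = r • w := by
    have h1 := congrArg (· *ᵥ f) hLK
    simp only [← mulVec_mulVec, K_mulVec, mulVec_smul, hfw] at h1
    rw [hr, neg_smul, ← h1, neg_one_smul, neg_neg]
  have hr0 : r ≠ 0 := fun h0 => hw (Matrix.mulVec_injective_iff_isUnit.2 L₁.isUnit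
    (hLw.trans (by rw [h0, zero_smul, mulVec_zero])))
  set x := -fm G ((L₁ : Matrix σ σ F) *ᵥ f) f / r with hx
  have hL₁ : (L₁ : Matrix σ σ F) = r • (rt hG w x : Matrix σ σ F) := by
    refine Matrix.toLin'.injective (LinearMap.ext fun v => ?_)
    simp only [Matrix.toLin'_apply, smul_mulVec, rt_mulVec]
    have h1 : (L₁ : Matrix σ σ F) *ᵥ f = fm G ((L₁ : Matrix σ σ F) *ᵥ f) f • w + r • f := by
      rw [hr, neg_smul, ← sub_eq_add_neg]
      exact dec_two hG hk hf _
    conv_lhs => rw [dec_two hG hk hf v, mulVec_sub, mulVec_smul, mulVec_smul, hLw, h1]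
    conv_rhs => arg 2; arg 1; rw [dec_two hG hk hf v]
    rw [hx]
    match_scalars <;> field_simp <;> ring
  set u : Gam hG g l w j z := y * ⟨gU hG g l w j z (-x), gU_mem hG g l w j z _⟩ with hu
  have huP : u ∈ P := mul_mem hy (hU _)
  have huv : (u.1.2 : Matrix (κ → σ) (κ → σ) F) = splM F σ l ((r • 1) ⊗ₖ (A : Matrix (oth l → σ) (oth l → σ) F)) := by
    show ((y.1.2 * slot l (rt hG w (-x)) : GL (κ → σ) F) : Matrix (κ → σ) (κ → σ) F) = _
    rw [Units.val_mul, hg₂v, hkr, ← spl_kr_one, spl_val, kr_val, kr_val, ← map_mul, ← Matrix.mul_kronecker_mul,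
      Units.val_one, Matrix.mul_one, hL₁, Matrix.smul_mul, ← Units.val_mul, rt_add, add_neg_cancel,
      show rt hG w 0 = 1 from Units.ext (by simp [rt_val]), Units.val_one]
  obtain ⟨m, hm⟩ := hordp u huP
  have hcom : ∀ v, Commute (u.1.2 : Matrix (κ → σ) (κ → σ) F) (Rz G l v) := fun v => by
    rw [huv, Rz, Commute, SemiconjBy, ← map_mul, ← map_mul, ← Matrix.mul_kronecker_mul, ← Matrix.mul_kronecker_mul,
      Matrix.smul_mul, Matrix.mul_smul, Matrix.one_mul, Matrix.mul_one, Matrix.one_mul, Matrix.mul_one]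
  have h1 := triv_of_comm hG g l w j z hM hg π h2u hus hπ hJ u (hcom w) (hcom f) hm
  refine ⟨x, ?_⟩
  rw [hu, Subgroup.coe_mul, Prod.fst_mul, map_mul] at h1
  simp only [gU, map_uR, map_neg] at h1
  rw [eq_inv_of_mul_eq_one_left h1, inv_eq_of_mul_eq_one_right]
  rw [uR_add, neg_add_cancel, uR_zero]

end Exact

/-! ### groups over a finite algebra with Sylow subgroup the upper unitriangular `F` -/

section SLR
variable {R : Type*} [CommRing R] [Algebra F R]

theorem nilpotent_sub_one {z : SL(2, R)} (h : ∀ I : Ideal R, I.IsMaximal →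
    Matrix.SpecialLinearGroup.map (Ideal.Quotient.mk I) z = 1) [IsArtinianRing R] :
    IsNilpotent ((z : Matrix (Fin 2) (Fin 2) R) - 1) := by
  set D := (z : Matrix (Fin 2) (Fin 2) R) - 1 with hD
  have hent : ∀ u v, IsNilpotent (D u v) := fun u v => nilpotent_iff_mem_prime.2 fun I hI => by
    haveI := hI
    have h1 : (Matrix.SpecialLinearGroup.map (Ideal.Quotient.mk I) z : Matrix (Fin 2) (Fin 2) (R ⧸ I)) u v =
        (1 : Matrix (Fin 2) (Fin 2) (R ⧸ I)) u v := by
      rw [h I ((IsArtinianRing.isPrime_iff_isMaximal I).1 hI)]; rfl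
    rw [← Ideal.Quotient.eq_zero_iff_mem, hD, Matrix.sub_apply, map_sub, sub_eq_zero]
    refine h1.trans ?_
    fin_cases u <;> fin_cases v <;> simp
  have h2 : D * D = (D 0 0 + D 1 1) • D - (D 0 0 * D 1 1 - D 0 1 * D 1 0) • (1 : Matrix (Fin 2) (Fin 2) R) := by
    ext u v
    fin_cases u <;> fin_cases v <;> simp [Matrix.mul_apply, Fin.sum_univ_two] <;> ring
  have hn : IsNilpotent (D * D) := by
    rw [h2]
    have ht : IsNilpotent (D 0 0 + D 1 1) := (Commute.all _ _).isNilpotent_add (hent 0 0) (hent 1 1)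
    have hd : IsNilpotent (D 0 0 * D 1 1 - D 0 1 * D 1 0) := (Commute.all _ _).isNilpotent_sub
      ((Commute.all _ _).isNilpotent_mul_right (hent 0 0)) ((Commute.all _ _).isNilpotent_mul_right (hent 0 1))
    have hsm : ∀ t : R, IsNilpotent t → ∀ Y : Matrix (Fin 2) (Fin 2) R, IsNilpotent (t • Y) :=
      fun t ⟨n, hn⟩ Y => ⟨n, by rw [smul_pow, hn, zero_smul]⟩
    refine Commute.isNilpotent_sub ?_ (hsm _ ht _) (hsm _ hd _)
    exact (Commute.one_right _).smul_left _ |>.smul_right _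
  obtain ⟨k, hk⟩ := hn
  exact ⟨k + k, by rw [pow_add, ← (Commute.refl D).mul_pow, hk]⟩

variable [Finite R] [Nontrivial R]

theorem lower_eq [Finite F] (h2 : (2 : F) ≠ 0) (hq : 5 ≤ Nat.card F) {p : ℕ} [Fact p.Prime] [CharP F p]
    {X : Subgroup SL(2, R)} {s : R} (hs : IsUnit s) (hU : ∀ x, uR (algebraMap F R x) ∈ X)
    (hL : ∀ x, lx (algebraMap F R x * s) ∈ X)
    (hgen : X ≤ Subgroup.closure (Set.range (fun x => uR (algebraMap F R x)) ∪ Set.range fun x => lx (algebraMap F R x * s)))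
    (Q : Sylow p X) (hQ : ∀ q ∈ Q, ∃ x : F, (q : SL(2, R)) = uR (algebraMap F R x)) :
    ∃ y : F, y ≠ 0 ∧ s = algebraMap F R y := by
  classical
  haveI : Fintype F := Fintype.ofFinite F
  haveI : CharP R p := charP_of_injective_algebraMap (algebraMap F R).injective p
  have h2R : IsUnit (2 : R) := by rw [← map_ofNat (algebraMap F R) 2]; exact h2.isUnit.map _
  have hQU : ∀ x, (⟨_, hU x⟩ : X) ∈ Q := by
    intro x
    -- the upper unitriangular elements form a `p`-subgroup containing `Q`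
    let uH : Multiplicative F →* X := MonoidHom.mk' (fun x => ⟨uR (algebraMap F R x.toAdd), hU _⟩) fun a b =>
      Subtype.ext (by simp only [Subgroup.coe_mul, uR_add, toAdd_mul, map_add])
    have hp : IsPGroup p uH.range := by
      rintro ⟨_, a, rfl⟩
      refine ⟨1, Subtype.ext ?_⟩
      rw [SubmonoidClass.coe_pow, OneMemClass.coe_one]
      show uH a ^ p ^ 1 = 1
      rw [pow_one, ← map_pow, ← map_one uH]
      congr 1
      refine Multiplicative.toAdd.injective ?_
      rw [toAdd_pow, toAdd_one, nsmul_eq_mul, CharP.cast_eq_zero, zero_mul]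
    have := Q.3 hp (fun q hq => by
      obtain ⟨a, ha⟩ := hQ q hq
      exact ⟨Multiplicative.ofAdd a, Subtype.ext ha.symm⟩)
    rw [← SetLike.mem_coe, show (Q : Set X) = (uH.range : Set X) by rw [this]; rfl]
    exact ⟨Multiplicative.ofAdd x, rfl⟩
  -- the residue fields
  have hres : ∀ I : Ideal R, I.IsMaximal → ∃ y : F, y ≠ 0 ∧ Ideal.Quotient.mk I s = Ideal.Quotient.mk I (algebraMap F R y) := by
    intro I hI
    letI := Ideal.Quotient.field I
    haveI : Finite (R ⧸ I) := Quotient.finite _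
    let φ : F →+* R ⧸ I := (Ideal.Quotient.mk I).comp (algebraMap F R)
    let f : X →* SL(2, R ⧸ I) := (Matrix.SpecialLinearGroup.map (Ideal.Quotient.mk I)).comp X.subtype
    have hs0 : Ideal.Quotient.mk I s ≠ 0 := (hs.map (Ideal.Quotient.mk I)).ne_zero
    have hiff : ∀ b : R ⧸ I, (∃ x ∈ f.range, (x : Matrix (Fin 2) (Fin 2) (R ⧸ I)) = !![1, b; 0, 1]) ↔ b ∈ Set.range φ := by
      intro b
      constructor
      · rintro ⟨x, hx, hxv⟩
        -- the upper unitriangular part of the image is a `p`-group containing a Sylow subgroup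
        let T : Subgroup f.range :=
          { carrier := {t | ∃ c, ((t : SL(2, R ⧸ I))) = uR c}
            one_mem' := ⟨0, uR_zero.symm⟩
            mul_mem' := by rintro a b ⟨c, hc⟩ ⟨d, hd⟩; exact ⟨c + d, by rw [Subgroup.coe_mul, hc, hd, uR_add]⟩
            inv_mem' := by
              rintro a ⟨c, hc⟩
              refine ⟨-c, ?_⟩
              rw [Subgroup.coe_inv, hc]
              exact inv_eq_of_mul_eq_one_right (by rw [uR_add, add_neg_cancel, uR_zero]) }
        haveI : CharP (R ⧸ I) p := charP_of_injective_ringHom φ.injective p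
        have hT : IsPGroup p T := by
          rintro ⟨t, c, hc⟩
          refine ⟨1, Subtype.ext (Subtype.ext ?_)⟩
          rw [pow_one, SubmonoidClass.coe_pow, SubmonoidClass.coe_pow, OneMemClass.coe_one, OneMemClass.coe_one, hc]
          have : ∀ k : ℕ, uR c ^ k = uR (k • c) := fun k => by
            induction k with
            | zero => rw [pow_zero, zero_smul, uR_zero]
            | succ k ih => rw [pow_succ, ih, uR_add, succ_nsmul]
          rw [this, nsmul_eq_mul, CharP.cast_eq_zero, zero_mul, uR_zero]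
        have hle : (Q.mapSurjective f.rangeRestrict_surjective : Subgroup f.range) ≤ T := by
          rw [Sylow.coe_mapSurjective]
          rintro _ ⟨q, hq', rfl⟩
          obtain ⟨a, ha⟩ := hQ q hq'
          refine ⟨φ a, ?_⟩
          show Matrix.SpecialLinearGroup.map (Ideal.Quotient.mk I) (q : SL(2, R)) = _
          rw [ha, map_uR]; rfl
        have hTQ := (Q.mapSurjective f.rangeRestrict_surjective).3 hT hle
        have hxT : (⟨x, hx⟩ : f.range) ∈ T := ⟨b, Subtype.ext (by rw [hxv, uR_val])⟩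
        rw [hTQ, Sylow.coe_mapSurjective] at hxT
        obtain ⟨q, hq', hqx⟩ := hxT
        obtain ⟨a, ha⟩ := hQ q hq'
        refine ⟨a, ?_⟩
        have h1 : Matrix.SpecialLinearGroup.map (Ideal.Quotient.mk I) (q : SL(2, R)) = x := congrArg Subtype.val hqx
        rw [ha, map_uR] at h1
        have h3 := congrArg (fun t : SL(2, R ⧸ I) => (t : Matrix (Fin 2) (Fin 2) (R ⧸ I)) 0 1) h1
        simpa [uR_val, hxv, φ] using h3
      · rintro ⟨a, rfl⟩
        refine ⟨f ⟨_, hU a⟩, ⟨_, rfl⟩, ?_⟩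
        show ((Matrix.SpecialLinearGroup.map (Ideal.Quotient.mk I) (uR _) : SL(2, R ⧸ I)) : Matrix (Fin 2) (Fin 2) (R ⧸ I)) = _
        rw [map_uR, uR_val]; rfl
    obtain ⟨y, hy⟩ := lower_mem_range φ (by rw [← Nat.card_eq_fintype_card]; omega) h2 f.range hiff hs0
      fun c => ⟨f ⟨_, hL c⟩, ⟨_, rfl⟩, by
        show ((Matrix.SpecialLinearGroup.map (Ideal.Quotient.mk I) (lx _) : SL(2, R ⧸ I)) : Matrix (Fin 2) (Fin 2) (R ⧸ I)) = _
        rw [map_lx, lx_val, map_mul]; rfl⟩
    refine ⟨y, fun h0 => hs0 ?_, hy.symm⟩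
    rw [← hy, h0, map_zero]
  obtain ⟨I₁, hI₁⟩ := Ideal.exists_maximal R
  obtain ⟨y, hy0, hy⟩ := hres I₁ hI₁
  letI := Ideal.Quotient.field I₁
  set φ₁ : F →+* R ⧸ I₁ := (Ideal.Quotient.mk I₁).comp (algebraMap F R)
  set f₁ : X →* SL(2, R ⧸ I₁) := (Matrix.SpecialLinearGroup.map (Ideal.Quotient.mk I₁)).comp X.subtype
  -- the kernel of the first residue map has no element of order `p`
  have hker : ∀ k ∈ f₁.ker, k ^ p = 1 → k = 1 := by
    intro k hk hkp
    have hpg : IsPGroup p (Subgroup.zpowers k) := by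
      rintro ⟨_, n, rfl⟩
      refine ⟨1, Subtype.ext ?_⟩
      rw [pow_one, SubmonoidClass.coe_pow, OneMemClass.coe_one, ← zpow_natCast, ← _root_.zpow_mul,
        mul_comm, _root_.zpow_mul, zpow_natCast, hkp, _root_.one_zpow]
    obtain ⟨P, hP⟩ := hpg.exists_le_sylow
    obtain ⟨c, hc⟩ := MulAction.exists_smul_eq X P Q
    have h1 : c * k * c⁻¹ ∈ Q := by
      rw [← hc]
      exact Subgroup.smul_mem_pointwise_smul k (MulAut.conj c) P (hP (Subgroup.mem_zpowers k))
    obtain ⟨a, ha⟩ := hQ _ h1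
    have h3 : f₁ (c * k * c⁻¹) = 1 := by rw [map_mul, map_mul, MonoidHom.mem_ker.1 hk, mul_one, ← map_mul,
      mul_inv_cancel, map_one]
    have h4 : φ₁ a = 0 := by
      have h5 : Matrix.SpecialLinearGroup.map (Ideal.Quotient.mk I₁) ((c * k * c⁻¹ : X) : SL(2, R)) = 1 := h3
      rw [ha, map_uR] at h5
      simpa [uR_val] using congrArg (fun t : SL(2, R ⧸ I₁) => (t : Matrix (Fin 2) (Fin 2) (R ⧸ I₁)) 0 1) h5
    have h6 : c * k * c⁻¹ = 1 := Subtype.ext (by
      rw [ha, φ₁.injective (h4.trans (map_zero φ₁).symm), map_zero, uR_zero]; rfl)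
    rwa [mul_inv_eq_one, mul_eq_left] at h6
  have hkerp : ∀ k ∈ f₁.ker, Nat.Coprime p (orderOf k) := by
    intro k hk
    refine (Fact.out : p.Prime).coprime_iff_not_dvd.2 fun hdvd => ?_
    have h1 : orderOf (k ^ (orderOf k / p)) = p :=
      orderOf_pow_orderOf_div (orderOf_pos k).ne' hdvd
    have h3 := hker (k ^ (orderOf k / p)) (pow_mem hk _) (orderOf_dvd_iff_pow_eq_one.1 (dvd_of_eq h1))
    rw [h3, orderOf_one] at h1
    exact (Fact.out : p.Prime).one_lt.ne h1
  -- its elements square to one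
  have hsq : ∀ k ∈ f₁.ker, k * k = 1 := by
    intro k hk
    have hall : ∀ I : Ideal R, I.IsMaximal →
        Matrix.SpecialLinearGroup.map (Ideal.Quotient.mk I) ((k * k : X) : SL(2, R)) = 1 := by
      intro I hI
      letI := Ideal.Quotient.field I
      obtain ⟨y₂, hy₂, hys⟩ := hres I hI
      set φ : F →+* R ⧸ I := (Ideal.Quotient.mk I).comp (algebraMap F R)
      set f : X →* SL(2, R ⧸ I) := (Matrix.SpecialLinearGroup.map (Ideal.Quotient.mk I)).comp X.subtype
      set ψ : SL(2, F) →* SL(2, R ⧸ I) := Matrix.SpecialLinearGroup.map φ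
      have hψu : ∀ x, ψ (ux x) = f ⟨_, hU x⟩ := fun x => by
        show Matrix.SpecialLinearGroup.map φ (uR x) = Matrix.SpecialLinearGroup.map _ (uR _)
        rw [map_uR, map_uR]; rfl
      have hψl : ∀ x, ψ (lx x) = f ⟨_, hL (x / y₂)⟩ := fun x => by
        show Matrix.SpecialLinearGroup.map φ (lx x) = Matrix.SpecialLinearGroup.map _ (lx _)
        rw [map_lx, map_lx, map_mul, hys]
        show _ = lx (φ (x / y₂) * φ y₂)
        rw [← map_mul, div_mul_cancel₀ _ hy₂]
      have hrange : ∀ t : X, f t ∈ ψ.range := by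
        have hle : X ≤ ψ.range.comap (Matrix.SpecialLinearGroup.map (Ideal.Quotient.mk I)) := by
          refine hgen.trans ((Subgroup.closure_le _).2 ?_)
          rintro _ (⟨x, rfl⟩ | ⟨x, rfl⟩)
          · exact ⟨ux x, hψu x⟩
          · refine ⟨lx (x * y₂), (hψl _).trans ?_⟩
            rw [mul_div_cancel_right₀ _ hy₂]; rfl
        exact fun t => hle t.2
      let N : Subgroup SL(2, F) := (f₁.ker.map f).comap ψ
      have hψinj : Function.Injective ψ := fun a b hab => SLTwo.ext2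
        (φ.injective (congrArg (fun t : SL(2, R ⧸ I) => (t : Matrix (Fin 2) (Fin 2) (R ⧸ I)) 0 0) hab))
        (φ.injective (congrArg (fun t : SL(2, R ⧸ I) => (t : Matrix (Fin 2) (Fin 2) (R ⧸ I)) 0 1) hab))
        (φ.injective (congrArg (fun t : SL(2, R ⧸ I) => (t : Matrix (Fin 2) (Fin 2) (R ⧸ I)) 1 0) hab))
        (φ.injective (congrArg (fun t : SL(2, R ⧸ I) => (t : Matrix (Fin 2) (Fin 2) (R ⧸ I)) 1 1) hab))
      have hnorm : ∀ (t : X), ∀ a ∈ N, ∀ b, ψ b = f t → b * a * b⁻¹ ∈ N := by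
        rintro t a ⟨c, hc, hca⟩ b hb
        exact ⟨t * c * t⁻¹, (MonoidHom.normal_ker f₁).conj_mem c hc t, by simp [hb, hca]⟩
      have hrc : ringChar F = p := ringChar.eq F p
      obtain ⟨a, ha⟩ := hrange k
      have haN : a ∈ N := ⟨k, hk, ha.symm⟩
      have hsc := isScal_of_normal_pprime h2 hq N (fun u hu x => hnorm _ u hu _ (hψu x))
        (fun u hu x => hnorm _ u hu _ (hψl x)) (fun u hu hup => by
          obtain ⟨c, hc, hcu⟩ := hu
          refine hψinj ((orderOf_eq_one_iff.1 ?_).trans (map_one ψ).symm)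
          have h7 := ((hkerp c hc).coprime_dvd_right (orderOf_map_dvd f c)).symm
          rw [hcu] at h7
          refine h7.eq_one_of_dvd ?_
          refine orderOf_dvd_of_pow_eq_one ?_
          rw [← map_pow, ← hrc, hup, map_one]) a haN
      have haa : a * a = 1 := by
        obtain ⟨h01, h10, h00⟩ := hsc
        have hd := SLTwo.det2 a
        refine SLTwo.ext2 ?_ ?_ ?_ ?_ <;>
          simp only [SLTwo.mul_apply2, SLTwo.one_apply2.1, SLTwo.one_apply2.2.1, SLTwo.one_apply2.2.2.1,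
            SLTwo.one_apply2.2.2.2, h01, h10, h00] at hd ⊢ <;> first | linear_combination hd | ring
      show f (k * k) = 1
      rw [map_mul, ← ha, ← map_mul, haa, map_one]
    obtain ⟨n, hn⟩ := nilpotent_sub_one hall
    have h1 : ((k * k : X) : SL(2, R)) ^ p ^ n = 1 := Subtype.ext (by
      rw [Matrix.SpecialLinearGroup.coe_pow, Matrix.SpecialLinearGroup.coe_one,
        ← add_sub_cancel (1 : Matrix (Fin 2) (Fin 2) R) ((k * k : X) : SL(2, R)).1,
        add_pow_char_pow_of_commute p n (Commute.one_left _), one_pow,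
        pow_eq_zero_of_le (Nat.lt_pow_self (Fact.out : p.Prime).one_lt).le hn, add_zero])
    have h3 : (k * k) ^ p ^ n = 1 := Subtype.ext (by rw [SubmonoidClass.coe_pow, h1]; rfl)
    exact orderOf_eq_one_iff.1 (Nat.Coprime.eq_one_of_dvd (((hkerp _ (mul_mem hk hk)).pow_left n).symm)
      (orderOf_dvd_of_pow_eq_one h3))
  -- the commutator of a lift of `-1`
  set r := algebraMap F R y⁻¹ * s with hr
  set A : X := (⟨_, hU 1⟩ * ⟨_, hL (-y⁻¹)⟩ * ⟨_, hU 1⟩) with hAdef
  have hA : ((A : SL(2, R)) : Matrix (Fin 2) (Fin 2) R) = !![1 - r, 2 - r; -r, 1 - r] := by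
    ext u v
    fin_cases u <;> fin_cases v <;> simp [hAdef, uR_val, lx_val, hr, Matrix.mul_apply, Fin.sum_univ_two] <;> ring
  set B : X := A * A with hBdef
  have hB : ((B : SL(2, R)) : Matrix (Fin 2) (Fin 2) R) =
      !![(1 - r) * (1 - r) - (2 - r) * r, 2 * (1 - r) * (2 - r); -(2 * r * (1 - r)), (1 - r) * (1 - r) - (2 - r) * r] := by
    rw [hBdef, Subgroup.coe_mul, Matrix.SpecialLinearGroup.coe_mul, hA, Matrix.mul_fin_two]
    ext u v; fin_cases u <;> fin_cases v <;> simp <;> ring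
  set u₁ : X := ⟨_, hU 1⟩ with hu₁
  set q₀ := B * u₁ * B⁻¹ * u₁⁻¹ with hq₀
  clear_value q₀
  have hr1 : Ideal.Quotient.mk I₁ r = 1 := by
    rw [hr, map_mul, hy, ← map_mul, ← map_mul, inv_mul_cancel₀ hy0, map_one, map_one]
  have hq0k : q₀ ∈ f₁.ker := by
    have hcomm : f₁ B * f₁ u₁ = f₁ u₁ * f₁ B := by
      have e : (f₁ B : Matrix (Fin 2) (Fin 2) (R ⧸ I₁)) = (-1 : R ⧸ I₁) • (1 : Matrix (Fin 2) (Fin 2) (R ⧸ I₁)) := by
        show ((B : SL(2, R)) : Matrix (Fin 2) (Fin 2) R).map (Ideal.Quotient.mk I₁) = _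
        rw [hB]
        ext u v; fin_cases u <;> fin_cases v <;> simp [hr1, map_ofNat] <;> ring
      refine Subtype.ext ?_
      rw [Matrix.SpecialLinearGroup.coe_mul, Matrix.SpecialLinearGroup.coe_mul, e, Matrix.smul_mul, Matrix.mul_smul,
        Matrix.one_mul, Matrix.mul_one]
    rw [MonoidHom.mem_ker, hq₀, map_mul, map_mul, map_mul, hcomm, map_inv, map_inv, mul_inv_cancel_right,
      mul_inv_cancel]
  have hq0 := hsq q₀ hq0k
  have hq01 : q₀ = 1 := by
    set Q₀ := ((q₀ : SL(2, R)) : Matrix (Fin 2) (Fin 2) R) with hQ₀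
    have hinv : (q₀ : SL(2, R))⁻¹ = q₀ := inv_eq_of_mul_eq_one_right (congrArg Subtype.val hq0)
    have hadj : Matrix.adjugate Q₀ = Q₀ := by
      rw [hQ₀, ← Matrix.SpecialLinearGroup.coe_inv, hinv]
    rw [Matrix.adjugate_fin_two] at hadj
    have e01 := congrFun (congrFun hadj 0) 1
    have e10 := congrFun (congrFun hadj 1) 0
    have e00 := congrFun (congrFun hadj 0) 0
    simp only [Matrix.of_apply, Matrix.cons_val', Matrix.cons_val_zero, Matrix.cons_val_one, Matrix.cons_val_fin_one,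
      neg_eq_iff_add_eq_zero, ← two_mul] at e01 e10 e00
    rw [h2R.mul_right_eq_zero] at e01 e10
    have hcu : Commute q₀ u₁ := Subtype.ext (Subtype.ext (by
      rw [Subgroup.coe_mul, Subgroup.coe_mul, Matrix.SpecialLinearGroup.coe_mul, Matrix.SpecialLinearGroup.coe_mul,
        ← hQ₀, Matrix.eta_fin_two Q₀, e01, e10, e00, hu₁, uR_val, Matrix.mul_fin_two, Matrix.mul_fin_two]
      simp [mul_comm]))
    have hup : u₁ ^ p = 1 := by
      have hmem := hQU 1
      obtain ⟨n, hn⟩ := Q.2 ⟨u₁, hmem⟩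
      have : ∀ k : ℕ, (u₁ : SL(2, R)) ^ k = uR (k : R) := fun k => by
        induction k with
        | zero => rw [pow_zero, Nat.cast_zero, uR_zero]
        | succ k ih => rw [pow_succ, ih, hu₁, uR_add, map_one, Nat.cast_succ]
      refine Subtype.ext ?_
      rw [SubmonoidClass.coe_pow, this, CharP.cast_eq_zero, uR_zero]; rfl
    have hconj : q₀ * u₁ = B * u₁ * B⁻¹ := by rw [hq₀, inv_mul_cancel_right]
    have hqp : q₀ ^ p = 1 := by
      have h1 : (q₀ * u₁) ^ p = 1 := by rw [hconj, conj_pow, hup, mul_one, mul_inv_cancel]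
      rwa [hcu.mul_pow, hup, mul_one] at h1
    exact hker q₀ hq0k hqp
  have hBu : B * u₁ = u₁ * B := by
    have := hq01
    rwa [hq₀, mul_inv_eq_one, mul_inv_eq_iff_eq_mul] at this
  have h10 : (2 * r * (1 - r) : R) = 0 := by
    have h1 := congrArg (fun t : X => ((t : SL(2, R)) : Matrix (Fin 2) (Fin 2) R) 0 0) hBu
    simp only [Subgroup.coe_mul, Matrix.SpecialLinearGroup.coe_mul, hB, hu₁, uR_val, map_one] at h1
    simp at h1
    exact h1
  have hru : IsUnit r := (IsUnit.map _ (inv_ne_zero hy0).isUnit).mul hs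
  rw [(h2R.mul hru).mul_right_eq_zero, sub_eq_zero] at h10
  refine ⟨y, hy0, ?_⟩
  calc s = algebraMap F R y * r := by rw [hr, ← mul_assoc, ← map_mul, mul_inv_cancel₀ hy0, map_one, one_mul]
    _ = _ := by rw [← h10, mul_one]

end SLR

/-! ### perfect images -/

open scoped commutatorElement in
theorem ux_lx_mem_derived {R : Type*} [CommRing R] [Algebra F R] [Finite F] (hq : 5 ≤ Nat.card F)
    {X : Subgroup SL(2, R)} (hU : ∀ x, uR (algebraMap F R x) ∈ X) (hL : ∀ x, lx (algebraMap F R x) ∈ X) (m : ℕ) :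
    ∀ x : F, (⟨_, hU x⟩ : X) ∈ derivedSeries X m ∧ (⟨_, hL x⟩ : X) ∈ derivedSeries X m := by
  classical
  haveI : Fintype F := Fintype.ofFinite F
  obtain ⟨l, hl, hl2⟩ : ∃ l : F, l ≠ 0 ∧ l * l ≠ 1 := by
    by_contra! h
    have hsub : (Finset.univ : Finset F) ⊆ {0, 1, -1} := fun l _ => by
      simp only [Finset.mem_insert, Finset.mem_singleton]
      by_cases hl0 : l = 0
      · exact Or.inl hl0
      · exact Or.inr (sq_eq_one_iff.1 ((sq l).trans (h l hl0)))
    have := (Finset.card_le_card hsub).trans Finset.card_le_three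
    rw [Finset.card_univ, ← Nat.card_eq_fintype_card] at this
    omega
  induction m with
  | zero => exact fun x => ⟨trivial, trivial⟩
  | succ m ih =>
    let H := derivedSeries X m
    let W : F → X := fun a => ⟨_, hU a⟩ * ⟨_, hL (-a⁻¹)⟩ * ⟨_, hU a⟩
    have hW : ∀ a, W a ∈ H := fun a => mul_mem (mul_mem (ih a).1 (ih _).2) (ih a).1
    set h : X := W l * W (-1) with hh
    have hhm : h ∈ H := mul_mem (hW _) (hW _)
    let mA : F →+* R := algebraMap F R
    let ψ : SL(2, F) →* SL(2, R) := Matrix.SpecialLinearGroup.map mA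
    have hψu : ∀ a, ψ (ux a) = uR (mA a) := fun a => map_uR mA a
    have hψl : ∀ a, ψ (lx a) = lx (mA a) := fun a => map_lx mA a
    obtain ⟨t, htdef⟩ : ∃ t : SL(2, F), t = ux l * lx (-l⁻¹) * ux l * (ux (-1) * lx (-(-1)⁻¹) * ux (-1)) := ⟨_, rfl⟩
    have ht : (h : SL(2, R)) = ψ t := by
      simp only [hh, W, htdef, Subgroup.coe_mul, map_mul, hψu, hψl, mA]
    have ht' : (t : Matrix (Fin 2) (Fin 2) F) = !![l, 0; 0, l⁻¹] := by
      ext u v
      fin_cases u <;> fin_cases v <;> simp [htdef, lx_val, Matrix.mul_apply, Fin.sum_univ_two] <;> field_simp <;> (try ring_nf) <;> simp [hl]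
    have hu : ∀ a, t * ux a = ux (l * l * a) * t := fun a => by
      refine Subtype.ext ?_
      rw [Matrix.SpecialLinearGroup.coe_mul, Matrix.SpecialLinearGroup.coe_mul, ht']
      ext u v
      fin_cases u <;> fin_cases v <;> simp [Matrix.mul_apply, Fin.sum_univ_two] <;> field_simp <;> ring
    have hl' : ∀ a, t * lx a = lx (l⁻¹ * l⁻¹ * a) * t := fun a => by
      refine Subtype.ext ?_
      rw [Matrix.SpecialLinearGroup.coe_mul, Matrix.SpecialLinearGroup.coe_mul, ht']
      ext u v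
      fin_cases u <;> fin_cases v <;> simp [lx_val, Matrix.mul_apply, Fin.sum_univ_two] <;> field_simp <;> ring
    have hl3 : l⁻¹ * l⁻¹ ≠ 1 := fun h0 => hl2 (by rwa [← mul_inv, inv_eq_one] at h0)
    intro x
    constructor
    · have e : (⟨_, hU x⟩ : X) = ⁅h, ⟨_, hU (x / (l * l - 1))⟩⁆ := Subtype.ext (by
        show uR (mA x) = (h : SL(2, R)) * uR (mA _) * (h : SL(2, R))⁻¹ * (uR (mA (x / (l * l - 1))))⁻¹
        rw [ht, ← hψu, ← hψu, ← map_inv, ← map_inv, ← map_mul, ← map_mul, ← map_mul, hu, mul_inv_cancel_right, SLTwo.ux_inv,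
          SLTwo.ux_add]
        congr 2
        rw [← sub_eq_add_neg, ← sub_one_mul, mul_div_cancel₀ _ (sub_ne_zero.2 hl2)])
      rw [e]
      exact Subgroup.commutator_mem_commutator hhm (ih _).1
    · have e : (⟨_, hL x⟩ : X) = ⁅h, ⟨_, hL (x / (l⁻¹ * l⁻¹ - 1))⟩⁆ := Subtype.ext (by
        show lx (mA x) = (h : SL(2, R)) * lx (mA _) * (h : SL(2, R))⁻¹ * (lx (mA (x / (l⁻¹ * l⁻¹ - 1))))⁻¹
        rw [ht, ← hψl, ← hψl, ← map_inv, ← map_inv, ← map_mul, ← map_mul, ← map_mul, hl', mul_inv_cancel_right, lx_inv,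
          show ∀ a b : F, lx a * lx b = lx (a + b) from fun a b => Subtype.ext (by
            ext u v; fin_cases u <;> fin_cases v <;> simp [lx_val, Matrix.mul_apply, Fin.sum_univ_two])]
        congr 2
        rw [← sub_eq_add_neg, ← sub_one_mul, mul_div_cancel₀ _ (sub_ne_zero.2 hl3)])
      rw [e]
      exact Subgroup.commutator_mem_commutator hhm (ih _).2

/-! ### the conclusion -/

section Main
variable [Finite F] (hG : Alt G) {M : Subgroup (GL (κ → σ) F)} (hM : Over G M) (hR : Rigid hG M)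
  {g : GL (κ → σ) F} (hg : g ∈ M) (hgW : g ∉ Wr F κ σ)

set_option maxHeartbeats 800000 in
include hG hM hR hg hgW in
/-- **`N N' N` is a non-zero multiple of `N`** -/
theorem two_scalar (h2 : (2 : F) ≠ 0) (hk : Fintype.card σ = 2) (hq : 5 ≤ Nat.card F) {i j : κ} {w z : σ → F}
    (hw : w ≠ 0) (hz : z ≠ 0) : ∃ y : F, y ≠ 0 ∧ Rz G i w * Np G g j z * Rz G i w = y • Rz G i w := by
  classical
  haveI : Fintype F := Fintype.ofFinite F
  haveI : Nonempty σ := Fintype.card_pos_iff.1 (by omega)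
  set p := ringChar F with hpdef
  haveI : CharP F p := ringChar.charP F
  haveI : Fact p.Prime := ⟨CharP.char_is_prime F p⟩
  have hN := Rz_sq (κ := κ) hG i w
  have hN' : Np G g j z * Np G g j z = 0 := Np_sq hG
  set s := sS (Rz G i w) (Np G g j z) with hs
  set ev := evS (Rz G i w) (Np G g j z) with hev
  obtain ⟨n, hn, hid⟩ := exists_idem s
  set e := s ^ n with he
  obtain ⟨ρ, hρ⟩ := exists_rho hG g i w j z hM hg hid
  obtain ⟨m₀, hm₀⟩ : ∃ m, 3 * n ≤ p ^ m := ⟨3 * n, (Nat.lt_pow_self (Fact.out : p.Prime).one_lt).le⟩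
  have hρp : ∀ t, ρ t ^ p ^ m₀ = 1 := fun t => Units.ext (by
    obtain ⟨-, a, b, c, d, -, e2⟩ := Gam_mem hG g i w j z hM hg _ t.2
    rw [Units.val_pow_eq_pow_val, Units.val_one, hρ, add_pow_char_pow_of_commute p m₀ (Commute.one_left _), one_pow,
      e2, pow_eq_zero_of_le hm₀ (shp_nil hN hN' hn he hid a b c d), add_zero])
  have hne : e ≠ 0 := by
    intro he0
    have hpg : IsPGroup p ((Gam hG g i w j z).map (MonoidHom.snd _ _)) := by
      rintro ⟨_, t, ht, rfl⟩
      refine ⟨m₀, Subtype.ext ?_⟩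
      rw [SubmonoidClass.coe_pow, OneMemClass.coe_one]
      refine Eq.trans ?_ (hρp ⟨t, ht⟩)
      congr 1
      refine Units.ext ?_
      rw [hρ, he0, sub_zero, map_one, Matrix.one_mul, add_sub_cancel]
      rfl
    exact hgW (hR g hg j z hz (pgroup_le_Wr hG hR hpg
      (by rintro _ ⟨t, ht, rfl⟩; exact (Gam_mem hG g i w j z hM hg _ ht).1) hw
      ⟨_, gU_mem hG g i w j z 1, rfl⟩ ⟨_, gL_mem hG g i w j z 1, rfl⟩))
  set I := Ideal.span {1 - e} with hI
  set π := Ideal.Quotient.mk I with hπdef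
  have hπ0 : ∀ r, π r = 0 → r * e = 0 := fun r hr => by
    obtain ⟨t, rfl⟩ := Ideal.mem_span_singleton.1 (Ideal.Quotient.eq_zero_iff_mem.1 hr)
    linear_combination -t * hid
  haveI : Nontrivial (SP G g i w j z ⧸ I) := nontrivial_of_ne 1 0 fun h0 => hne (by
    have := hπ0 1 (by rw [map_one]; exact h0)
    rwa [one_mul] at this)
  have hπe : π e = 1 := by
    rw [← sub_eq_zero, ← map_one π, ← map_sub]
    exact Ideal.Quotient.eq_zero_iff_mem.2 (Ideal.mem_span_singleton.2 ⟨-1, by ring⟩)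
  have hus : IsUnit (π s) := (isUnit_pow_iff hn.ne').1 (by rw [← map_pow, ← he, hπe]; exact isUnit_one)
  have h2u : IsUnit (2 : SP G g i w j z ⧸ I) := by rw [← map_ofNat (algebraMap F (SP G g i w j z ⧸ I)) 2]; exact h2.isUnit.map _
  obtain ⟨fR, hfR⟩ : ∃ f : Gam hG g i w j z →* SL(2, SP G g i w j z ⧸ I), ∀ t, f t = Matrix.SpecialLinearGroup.map π t.1.1 :=
    ⟨(Matrix.SpecialLinearGroup.map π).comp ((MonoidHom.fst _ _).comp (Gam hG g i w j z).subtype), fun t => rfl⟩
  set X := fR.range with hX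
  have hfU : ∀ x, fR ⟨gU hG g i w j z x, gU_mem hG g i w j z x⟩ = uR (algebraMap F (SP G g i w j z ⧸ I) x) := fun x => by
    simp only [hfR, gU, map_uR, hπdef, Ideal.Quotient.mk_algebraMap]
    congr 1
  have hfL : ∀ x, fR ⟨gL hG g i w j z x, gL_mem hG g i w j z x⟩ = lx (algebraMap F (SP G g i w j z ⧸ I) x * π s) := fun x => by
    simp only [hfR, gL, map_lx, map_mul, hπdef, Ideal.Quotient.mk_algebraMap, ← hs]
    congr 1
  -- a Sylow subgroup with the root group
  let uH : Multiplicative F →* Gam hG g i w j z :=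
    MonoidHom.mk' (fun x => ⟨_, gU_mem hG g i w j z x.toAdd⟩) fun a b => Subtype.ext (gU_add hG g i w j z _ _).symm
  have hU0 : IsPGroup p uH.range := by
    rintro ⟨_, x, rfl⟩
    refine ⟨1, Subtype.ext ?_⟩
    rw [SubmonoidClass.coe_pow, OneMemClass.coe_one]
    show uH x ^ p ^ 1 = 1
    rw [pow_one, ← map_pow, ← map_one uH]
    congr 1
    refine Multiplicative.toAdd.injective ?_
    rw [toAdd_pow, toAdd_one, nsmul_eq_mul, CharP.cast_eq_zero, zero_mul]
  obtain ⟨P, hP⟩ := hU0.exists_le_sylow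
  haveI : Finite (SP G g i w j z ⧸ I) := Quotient.finite _
  let am : F →+* SP G g i w j z ⧸ I := algebraMap F (SP G g i w j z ⧸ I)
  have hgen : X ≤ Subgroup.closure (Set.range (fun x : F => uR (am x)) ∪
      Set.range fun x : F => lx (am x * π s)) := by
    rintro _ ⟨t, rfl⟩
    have hle : Gam hG g i w j z ≤ (Subgroup.closure (Set.range (fun x : F => uR (am x)) ∪
        Set.range fun x : F => lx (am x * π s))).comap
        ((Matrix.SpecialLinearGroup.map π).comp (MonoidHom.fst _ _)) := by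
      refine (Subgroup.closure_le _).2 ?_
      rintro _ (⟨x, rfl⟩ | ⟨x, rfl⟩)
      · exact Subgroup.subset_closure (Or.inl ⟨x, (hfU x).symm.trans (hfR _)⟩)
      · exact Subgroup.subset_closure (Or.inr ⟨x, (hfL x).symm.trans (hfR _)⟩)
    rw [hfR]
    exact hle t.2
  let Q : Sylow p X := P.mapSurjective fR.rangeRestrict_surjective
  have hQ : ∀ q ∈ Q, ∃ x : F, (q : SL(2, SP G g i w j z ⧸ I)) = uR (am x) := by
    intro q hq'
    obtain ⟨t, ht, rfl⟩ : q ∈ (P : Subgroup (Gam hG g i w j z)).map fR.rangeRestrict := hq'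
    obtain ⟨x, hx⟩ := exact_uR (R := SP G g i w j z ⧸ I) hG g i w j z hM hg π h2u hus (fun r (hr : π r = 0) => ⟨n, hπ0 r hr⟩) h2 hk hq hR hw P.2
      (fun x => hP ⟨Multiplicative.ofAdd x, rfl⟩) ht
    refine ⟨x, ?_⟩
    rw [MonoidHom.coe_rangeRestrict, hfR, hx, hπdef, Ideal.Quotient.mk_algebraMap]
  obtain ⟨y, hy0, hy⟩ := lower_eq (F := F) (X := X) h2 hq hus (fun x => ⟨_, hfU x⟩) (fun x => ⟨_, hfL x⟩) hgen Q hQ
  refine ⟨y, hy0, ?_⟩
  -- an element of the derived series over `uR 1` with trivial nilpotent part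
  haveI : Group.IsSolvable ρ.range := by
    haveI : Group.IsNilpotent ρ.range := IsPGroup.isNilpotent (p := p) (by
      rintro ⟨_, t, rfl⟩
      exact ⟨m₀, Subtype.ext (hρp t)⟩)
    infer_instance
  obtain ⟨d, hd⟩ := (Group.isSolvable_def _).1 ‹Group.IsSolvable ρ.range›
  have hXU : ∀ x, uR (algebraMap F (SP G g i w j z ⧸ I) x) ∈ X := fun x => ⟨_, hfU x⟩
  have hXL : ∀ x, lx (algebraMap F (SP G g i w j z ⧸ I) x) ∈ X := fun x => ⟨⟨_, gL_mem hG g i w j z (x / y)⟩, by
    rw [hfL, hy, ← map_mul, div_mul_cancel₀ _ hy0]⟩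
  have hmem := (ux_lx_mem_derived hq hXU hXL d 1).1
  rw [← map_derivedSeries_eq fR.rangeRestrict_surjective] at hmem
  obtain ⟨t, ht, htv⟩ := hmem
  have hρ1 : ρ t = 1 := by
    have h1 : ρ.rangeRestrict t ∈ derivedSeries ρ.range d :=
      map_derivedSeries_le_derivedSeries ρ.rangeRestrict d ⟨t, ht, rfl⟩
    rw [hd, Subgroup.mem_bot] at h1
    exact congrArg Subtype.val h1
  have htR : fR t = uR (algebraMap F (SP G g i w j z ⧸ I) 1) := congrArg Subtype.val htv
  obtain ⟨htM, a, b, c, d', e1, e2⟩ := Gam_mem hG g i w j z hM hg _ t.2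
  have he1' : ev (1 - e) * ((t.1.2 : Matrix (κ → σ) (κ → σ) F) - 1) = 0 := by
    have := hρ t
    rw [hρ1, Units.val_one] at this
    exact (add_left_cancel ((add_zero (1 : Matrix (κ → σ) (κ → σ) F)).trans this)).symm
  rw [hfR] at htR
  have hent : ∀ u v, π ((t.1.1 : Matrix (Fin 2) (Fin 2) (SP G g i w j z)) u v) = (!![1, 1; 0, 1] : Matrix (Fin 2) (Fin 2) (SP G g i w j z ⧸ I)) u v := by
    intro u v
    have h1 := congrArg (fun A : SL(2, SP G g i w j z ⧸ I) => (A : Matrix (Fin 2) (Fin 2) (SP G g i w j z ⧸ I)) u v) htR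
    simp only [uR_val, map_one] at h1
    exact h1
  have kill : ∀ r, π (r * s) = 0 → e * r = 0 := fun r hr => by
    obtain ⟨m, rfl⟩ : ∃ m, n = m + 1 := ⟨n - 1, by omega⟩
    have h1 := hπ0 _ hr
    linear_combination s ^ m * h1 - r * hid
  rw [e1] at hent
  have ea : e * a = 0 := kill a (by simpa using hent 0 0)
  have ec : e * c = 0 := kill c (by simpa using hent 1 0)
  have ed : e * d' = 0 := kill d' (by simpa using hent 1 1)
  have eb : e * b = e := by
    have h1 : π (b - 1) = 0 := by rw [map_sub, map_one, sub_eq_zero]; simpa using hent 0 1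
    linear_combination hπ0 _ h1
  have hval : (t.1.2 : Matrix (κ → σ) (κ → σ) F) = 1 + ev e * Rz G i w := by
    have h1 : (t.1.2 : Matrix (κ → σ) (κ → σ) F) - 1 = ev e * ((t.1.2 : Matrix (κ → σ) (κ → σ) F) - 1) := by
      rw [map_sub, map_one, sub_mul, Matrix.one_mul, sub_eq_zero] at he1'
      exact he1'
    rw [e2] at h1 ⊢
    simp only [shp, ← hev, add_assoc, add_sub_cancel_left, mul_add] at h1
    rw [← Matrix.mul_assoc (ev e) (ev a), ← Matrix.mul_assoc (ev e) (ev b), ← Matrix.mul_assoc (ev e) (ev c),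
      ← Matrix.mul_assoc (ev e) (ev d'), ← map_mul, ← map_mul, ← map_mul, ← map_mul, ea, eb, ec, ed] at h1
    simp only [map_zero, Matrix.zero_mul, zero_add, add_zero] at h1
    simp only [shp, add_assoc, add_right_inj, Matrix.mul_assoc, ← hev] at h1 ⊢
    exact h1
  -- it is a root-like element of the position, so scalar
  obtain ⟨m, rfl⟩ : ∃ m, n = m + 1 := ⟨n - 1, by omega⟩
  obtain ⟨φ, hφ⟩ : ∃ φ, ev e * Rz G i w = splM F σ i (K G w w ⊗ₖ φ) := by
    obtain ⟨φ, hφ⟩ := exists_sandwich (G := G) w w w w ((splM F σ i).symm (ev (s ^ m) * Np G g j z))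
    refine ⟨φ, ?_⟩
    rw [← hφ, map_mul, map_mul, AlgEquiv.apply_symm_apply, he, pow_succ, map_mul, Matrix.mul_assoc, hev, hs,
      ← NN'N hN hN', ← Matrix.mul_assoc, ← Matrix.mul_assoc, ← Matrix.mul_assoc,
      (evS_comm hN hN' _).1.eq]
    rfl
  obtain ⟨c', hc'⟩ := (hM.ovr hG (Or.inl h2) i).top w φ hw ⟨(spl F σ i).symm t.1.2,
    by rwa [mem_sub, MulEquiv.apply_symm_apply], by
      apply (splM F σ i).injective
      rw [map_add, map_one, ← hφ, ← spl_val, MulEquiv.apply_symm_apply, hval]⟩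
  have heN : ev e * Rz G i w = c' • Rz G i w := by
    rw [hφ, hc', Matrix.kronecker_smul, map_smul]; rfl
  have hc1 : c' = 1 := by
    have h1 : ev e * (ev e * Rz G i w) = ev e * Rz G i w := by rw [← Matrix.mul_assoc, ← map_mul, hid]
    rw [heN, Matrix.mul_smul, heN, smul_smul] at h1
    have h3 : (c' * c' - c') • Rz G i w = 0 := by rw [sub_smul, h1, sub_self]
    have h4 : c' * (c' - 1) = 0 := by
      rw [mul_sub, mul_one]; exact (smul_eq_zero.1 h3).resolve_right (Rz_ne_zero hG i hw)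
    refine sub_eq_zero.1 ((mul_eq_zero.1 h4).resolve_left fun h5 => hne ?_)
    rw [h5, zero_smul] at heN
    have h6 := mul_s_eq_zero hN hN' heN
    calc e = e * e := hid.symm
      _ = e * s * s ^ m := by rw [mul_assoc, ← pow_succ']
      _ = 0 := by rw [show e * s = 0 from h6, zero_mul]
  rw [hc1, one_smul] at heN
  have hsy : (s - algebraMap F (SP G g i w j z) y) * e = 0 := hπ0 _ (by rw [map_sub, hy, sub_eq_zero]; rfl)
  rw [sub_mul, sub_eq_zero] at hsy
  calc Rz G i w * Np G g j z * Rz G i w = ev s * Rz G i w := NN'N hN hN'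
    _ = ev (s * e) * Rz G i w := by rw [map_mul, Matrix.mul_assoc, heN]
    _ = y • Rz G i w := by
      rw [hsy, map_mul, AlgHom.commutes, Matrix.mul_assoc, heN, Algebra.algebraMap_eq_smul_one, Matrix.smul_mul,
        Matrix.one_mul]

include hG hM hR hg hgW in
theorem false_of_two (h2 : (2 : F) ≠ 0) (hk : Fintype.card σ = 2) (hq : 5 ≤ Nat.card F) (i : κ) {w₀ : σ → F}
    (hw₀ : w₀ ≠ 0) : False := by
  classical
  haveI : Nonempty σ := Fintype.card_pos_iff.1 (by omega)
  set N' := Np G g i w₀ with hN'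
  set X := (splM F σ i).symm N' with hXdef
  have hblk : ∀ w, w ≠ 0 → ∃ y : F, y ≠ 0 ∧ ∀ x x', fm G (blk X x x' *ᵥ w) w = if x = x' then y else 0 := by
    intro w hw
    obtain ⟨y, hy, h⟩ := two_scalar hG hM hR hg hgW h2 hk hq (i := i) (j := i) hw hw₀
    refine ⟨y, hy, fun x x' => ?_⟩
    have h1 : (K G w w ⊗ₖ (1 : Matrix (oth i → σ) (oth i → σ) F)) * X * (K G w w ⊗ₖ 1) = K G w w ⊗ₖ (y • (1 : Matrix (oth i → σ) (oth i → σ) F)) := by
      apply (splM F σ i).injective
      rw [map_mul, map_mul, hXdef, AlgEquiv.apply_symm_apply, Matrix.kronecker_smul, map_smul]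
      exact h
    have h3 : (K G w w ⊗ₖ (1 : Matrix (oth i → σ) (oth i → σ) F)) * X * (K G w w ⊗ₖ 1) =
        K G w w ⊗ₖ Matrix.of fun a b => fm G (blk X a b *ᵥ w) w := eq_kron_of_blk fun a b => by
      rw [blk_mul_right, blk_mul_left, Matrix.mul_assoc, mul_K, K_mul_K, Matrix.of_apply]
    have hK : K G w w ≠ 0 := fun h0 => hw ((K_eq_zero hG.isForm h0).elim id id)
    have h4 := kron_injective_right hK (h3.symm.trans h1)
    have h5 := congrFun (congrFun h4 x) x'
    rw [Matrix.of_apply] at h5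
    rw [h5, Matrix.smul_apply, Matrix.one_apply, smul_eq_mul, mul_ite, mul_one, mul_zero]
  choose yv hyv hyb using hblk
  have hscal : ∀ B : Matrix σ σ F, (∀ w, fm G (B *ᵥ w) w = 0) → ∃ c : F, B = c • 1 := fun B hB =>
    scalar_of_eigen fun v => by
      by_cases hv : v = 0
      · exact ⟨0, by rw [hv, mulVec_zero, smul_zero]⟩
      obtain ⟨f, hf⟩ := exists_partner hG hv
      have := dec_two hG hk hf (B *ᵥ v)
      rw [hB v, zero_smul, sub_zero] at this
      exact ⟨_, this⟩
  obtain ⟨x₀⟩ : Nonempty (oth i → σ) := inferInstance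
  set Ψ := blk X x₀ x₀ with hΨ
  have hΦ : ∀ x x', ∃ c : F, blk X x x' - (if x = x' then Ψ else 0) = c • 1 := fun x x' => hscal _ fun w => by
    by_cases hw : w = 0
    · rw [hw, mulVec_zero, fm_zero_left]
    by_cases hxx : x = x'
    · rw [if_pos hxx, Matrix.sub_mulVec, fm_sub_left, hyb w hw, if_pos hxx, hΨ, hyb w hw, if_pos rfl, sub_self]
    · rw [if_neg hxx, sub_zero, hyb w hw, if_neg hxx]
  choose Φ hΦ using hΦ
  have hX : X = Ψ ⊗ₖ (1 : Matrix (oth i → σ) (oth i → σ) F) + (1 : Matrix σ σ F) ⊗ₖ Matrix.of Φ := by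
    ext ⟨a, x⟩ ⟨b, x'⟩
    have := congrFun (congrFun (hΦ x x') a) b
    simp only [blk, Matrix.sub_apply, Matrix.of_apply, Matrix.smul_apply, smul_eq_mul, sub_eq_iff_eq_add] at this
    rw [Matrix.add_apply, Matrix.kronecker_apply, Matrix.kronecker_apply, this]
    by_cases hxx : x = x' <;> simp [hxx, Matrix.one_apply, add_comm, mul_comm]
  have hX2 : X * X = 0 := by
    apply (splM F σ i).injective
    rw [map_mul, map_zero, hXdef, AlgEquiv.apply_symm_apply]
    exact Np_sq hG
  obtain ⟨f, hf⟩ := exists_partner hG hw₀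
  obtain ⟨φ, hφ⟩ : ∃ φ : F, (Matrix.of Φ : Matrix (oth i → σ) (oth i → σ) F) = φ • 1 := by
    refine ⟨-fm G ((Ψ * Ψ) *ᵥ w₀) w₀ / (2 * yv w₀ hw₀), ?_⟩
    ext x x'
    have h1 : blk (X * X) x x' = 0 := by rw [hX2]; rfl
    rw [hX] at h1
    simp only [mul_add, add_mul, ← Matrix.mul_kronecker_mul, Matrix.one_mul, Matrix.mul_one] at h1
    have h3 := congrArg (fun B : Matrix σ σ F => fm G (B *ᵥ w₀) w₀) h1
    have hblk : ∀ (A : Matrix σ σ F) (B : Matrix (oth i → σ) (oth i → σ) F), blk (A ⊗ₖ B) x x' = B x x' • A :=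
      fun A B => by ext a b; simp [blk, Matrix.kronecker_apply, mul_comm]
    have hadd : ∀ A B : Matrix (σ × (oth i → σ)) (σ × (oth i → σ)) F, blk (A + B) x x' = blk A x x' + blk B x x' :=
      fun A B => rfl
    have hy := hyb w₀ hw₀ x₀ x₀
    rw [if_pos rfl, ← hΨ] at hy
    simp only [hadd, hblk, Matrix.add_mulVec, Matrix.smul_mulVec, Matrix.one_mulVec, Matrix.zero_mulVec, fm_add_left,
      fm_smul_left, fm_zero_left, hG.self, mul_zero, add_zero, hy] at h3
    have h2y : 2 * yv w₀ hw₀ ≠ 0 := mul_ne_zero h2 (hyv w₀ hw₀)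
    rw [Matrix.smul_apply, Matrix.one_apply, smul_eq_mul, div_mul_eq_mul_div, eq_div_iff h2y]
    by_cases hxx : x = x'
    · subst hxx
      rw [Matrix.one_apply_eq, one_mul] at h3
      rw [if_pos rfl, mul_one]
      linear_combination h3
    · rw [Matrix.one_apply_ne hxx, zero_mul, zero_add] at h3
      rw [if_neg hxx, mul_zero]
      linear_combination h3
  set Ψ' := Ψ + φ • (1 : Matrix σ σ F) with hΨ'
  have hX' : X = Ψ' ⊗ₖ 1 := by
    rw [hX, hφ, hΨ', Matrix.add_kronecker, Matrix.smul_kronecker, Matrix.kronecker_smul]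
  have hΨsq : Ψ' * Ψ' = 0 := by
    have h1 : (Ψ' * Ψ') ⊗ₖ (1 : Matrix (oth i → σ) (oth i → σ) F) = (0 : Matrix σ σ F) ⊗ₖ 1 := by
      rw [Matrix.zero_kronecker, ← hX2, hX', ← Matrix.mul_kronecker_mul, Matrix.one_mul]
    exact kron_injective_left one_ne_zero h1
  let L : GL σ F := ⟨1 + Ψ', 1 - Ψ', by simp [mul_sub, add_mul, hΨsq], by simp [sub_mul, mul_add, hΨsq]⟩
  refine hgW (hR g hg i w₀ hw₀ ?_)
  rw [show g * slot i (rt hG w₀ 1) * g⁻¹ = slot i L from Units.ext (by
    rw [Np_val, ← hN', ← (splM F σ i).apply_symm_apply N', ← hXdef, hX', ← spl_kr_one, spl_val, kr_val, Units.val_one,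
      show (L : Matrix σ σ F) = 1 + Ψ' from rfl, Matrix.add_kronecker (1 : Matrix σ σ F) Ψ', Matrix.one_kronecker_one, map_add, map_one])]
  exact slot_mem_Wr i L

end Main
end Cfsg.Agent.MaxCl.Pow
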