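/-
An overgroup of the isometry groups of all positions of a tensor power without root-like monomials lies in the wreath
product: by induction on the number of positions a similitude moving a root of a position into the wreath product lies
in it, and an element outside the wreath product is then impossible.
-/
import Cfsg.Agent.Lib.MaxCl.PowerBig
import Cfsg.Agent.Lib.MaxCl.PowerTwo
import Cfsg.Agent.Lib.MaxCl.PowerClassify

set_option autoImplicit false
set_option linter.unusedSectionVars false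

namespace Cfsg.Agent.MaxCl.Pow

open Matrix
open scoped MatrixGroups Kronecker

variable {σ : Type} [Fintype σ] [DecidableEq σ] {F : Type*} [Field F] {G : Matrix σ σ F}
variable {κ : Type} [Fintype κ] [DecidableEq κ]

theorem exists_sq_ne_one [Finite F] (hq : 5 ≤ Nat.card F) : ∃ l : F, l ≠ 0 ∧ l * l ≠ 1 := by
  classical
  haveI : Fintype F := Fintype.ofFinite F
  by_contra! h
  have hsub : (Finset.univ : Finset F) ⊆ {0, 1, -1} := fun l _ => by
    simp only [Finset.mem_insert, Finset.mem_singleton]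
    by_cases hl0 : l = 0
    · exact Or.inl hl0
    · exact Or.inr (sq_eq_one_iff.1 ((sq l).trans (h l hl0)))
  have := (Finset.card_le_card hsub).trans Finset.card_le_three
  rw [Finset.card_univ, ← Nat.card_eq_fintype_card] at this
  omega

/-! ### permutations of the positions -/

theorem pm_transpose (π : Equiv.Perm κ) : (pm π : Matrix (κ → σ) (κ → σ) F)ᵀ = pm π⁻¹ := by
  ext x y
  rw [Matrix.transpose_apply, pm_apply, pm_apply]
  have h : x = y ∘ π ↔ y = x ∘ ⇑π⁻¹ := by
    constructor <;> rintro rfl <;> funext j <;> simp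
  by_cases hx : x = y ∘ π
  · rw [if_pos hx, if_pos (h.1 hx)]
  · rw [if_neg hx, if_neg (mt h.2 hx)]

theorem pm_conj_GG (π : Equiv.Perm κ) :
    (pm π : Matrix (κ → σ) (κ → σ) F) * GG G κ * pm π⁻¹ = GG G κ := by
  rw [GG, pm_conj_ten]
  rfl

theorem pmGL_mem_iso (π : Equiv.Perm κ) : (pmGL π : GL (κ → σ) F) ∈ iso (GG G κ) := by
  rw [mem_iso, pmGL_val, pm_transpose]
  have := pm_conj_GG (σ := σ) (F := F) (G := G) π⁻¹
  rwa [inv_inv] at this

theorem pmGL_conj_slot (π : Equiv.Perm κ) (j : κ) (L : GL σ F) :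
    pmGL π * slot j L * (pmGL π : GL (κ → σ) F)⁻¹ = slot (π j) L := by
  rw [mul_inv_eq_iff_eq_mul, slot, pmGL_mul_tenGL, slot]
  congr 2
  funext m
  by_cases hm : m = π j
  · subst hm; simp
  · have hm' : π.symm m ≠ j := fun h => hm (by rw [← h, Equiv.apply_symm_apply])
    simp [put, hm, hm']

theorem pm_conj_Rz (π : Equiv.Perm κ) (j : κ) (z : σ → F) :
    (pm π : Matrix (κ → σ) (κ → σ) F) * Rz G j z * pm π⁻¹ = Rz G (π j) z := by
  rw [Rz_eq_ten, pm_conj_ten, Rz_eq_ten]
  congr 1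
  funext m
  by_cases hm : m = π j
  · subst hm; simp
  · have hm' : π.symm m ≠ j := fun h => hm (by rw [← h, Equiv.apply_symm_apply])
    simp [put, hm, hm']

/-- conjugation by a permutation of the positions preserves the hypotheses -/
theorem Over.conj_pm {M : Subgroup (GL (κ → σ) F)} (hM : Over G M) (π : Equiv.Perm κ) :
    Over G (M.map (MulAut.conj (pmGL π : GL (κ → σ) F)).toMonoidHom) where
  le := by
    rintro _ ⟨x, hx, rfl⟩
    exact mul_mem (mul_mem (pmGL_mem_iso π) (hM.le hx)) (inv_mem (pmGL_mem_iso π))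
  sl j L hL := ⟨slot (π.symm j) L, hM.sl _ L hL, by
    show pmGL π * slot (π.symm j) L * (pmGL π)⁻¹ = _
    rw [pmGL_conj_slot, Equiv.apply_symm_apply]⟩
  ts X hX a b hab hK hb c hc hmem := by
    obtain ⟨u, ⟨x, hx, hxu⟩, huv⟩ := hmem
    refine hM.ts (X ∘ π) (fun l => hX _) (π.symm a) (π.symm b) (fun h => hab (π.symm.injective h))
      (by simpa using hK) (by simpa using hb) c hc ⟨x, hx, ?_⟩
    have hxv : (x : Matrix (κ → σ) (κ → σ) F) = pm π⁻¹ * (u : Matrix (κ → σ) (κ → σ) F) * pm π := by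
      rw [← hxu]
      show _ = pm π⁻¹ * ((pmGL π * x * (pmGL π)⁻¹ : GL (κ → σ) F) : Matrix (κ → σ) (κ → σ) F) * pm π
      rw [Units.val_mul, Units.val_mul, ← map_inv, pmGL_val, pmGL_val]
      simp only [Matrix.mul_assoc, pm_mul, inv_mul_cancel, pm_one, Matrix.mul_one]
      rw [← Matrix.mul_assoc, pm_mul, inv_mul_cancel, pm_one, Matrix.one_mul]
    rw [hxv, huv, mul_add, add_mul, Matrix.mul_one, pm_mul, inv_mul_cancel, pm_one, Matrix.mul_smul, Matrix.smul_mul]
    have := pm_conj_ten (F := F) π⁻¹ X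
    rw [inv_inv] at this
    rw [this]
    rfl

/-! ### the induction -/

variable [Finite F] (hG : Alt G) (hk : (2 : F) ≠ 0 ∨ 5 ≤ Fintype.card σ)
  (h24 : 4 ≤ Fintype.card σ ∨ Fintype.card σ = 2 ∧ 5 ≤ Nat.card F)
include hG hk h24

theorem le_Wr_of_rigid [Nonempty κ] {M : Subgroup (GL (κ → σ) F)} (hM : Over G M) (hR : Rigid hG M) :
    M ≤ Wr F κ σ := by
  intro g hg
  by_contra hgW
  obtain ⟨i⟩ := ‹Nonempty κ›
  haveI : Nonempty σ := Fintype.card_pos_iff.1 (by omega)
  obtain ⟨w, hw⟩ := exists_ne (0 : σ → F)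
  by_cases h5 : 5 ≤ Fintype.card σ
  · exact false_of_five hG hM hR hg hgW (i := i) hw h5
  have h2 : (2 : F) ≠ 0 := hk.resolve_right h5
  rcases h24 with h4 | ⟨hk2, hq⟩
  · exact false_of_odd hG hM hR hg hgW (i := i) hw h2 h4
  · exact false_of_two hG hM hR hg hgW h2 hk2 hq i hw

/-- **a similitude between two such groups moving a root into the wreath product lies in it** -/
theorem rigid_sim : ∀ (n : ℕ) {κ : Type} [Fintype κ] [DecidableEq κ], Fintype.card κ = n →
    ∀ {M M' : Subgroup (GL (κ → σ) F)}, Over G M → Over G M' → ∀ (g : GL (κ → σ) F) (a : F), a ≠ 0 →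
    (g : Matrix (κ → σ) (κ → σ) F)ᵀ * GG G κ * g = a • GG G κ → (∀ x ∈ M, g * x * g⁻¹ ∈ M') →
    ∀ (i : κ) (w : σ → F), w ≠ 0 → g * slot i (rt hG w 1) * g⁻¹ ∈ Wr F κ σ → g ∈ Wr F κ σ := by
  intro n
  induction n using Nat.strong_induction_on with
  | _ n IH =>
  intro κ _ _ hcard M M' hM hM' g a ha hs hconj i w hw hW
  classical
  haveI : Fintype F := Fintype.ofFinite F
  have hσ2 : 2 ≤ Fintype.card σ := by rcases h24 with h | h <;> omega
  haveI : Nonempty σ := Fintype.card_pos_iff.1 (by omega)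
  -- the image of the root
  set h := g * slot i (rt hG w 1) * g⁻¹ with hh
  have hv : (h : Matrix (κ → σ) (κ → σ) F) = 1 + Np G g i w := Np_val hG
  obtain ⟨l, t, c, ht, hc, hl⟩ := eq_slot_rt hG (hk.imp (fun h2 => ⟨h2, hσ2⟩) id) hW
    (hM'.le (hconj _ (hM.sl i _ (rt_mem_iso hG w 1))))
    (by rw [hv, add_sub_cancel_left]; exact Np_sq hG)
    (by rw [hv, add_sub_cancel_left]; exact finrank_Dg hG hw)
  have hN : (g : Matrix (κ → σ) (κ → σ) F) * Rz G i w = c • (Rz G l t * (g : Matrix (κ → σ) (κ → σ) F)) := by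
    have h1 : Np G g i w = c • Rz G l t := by
      have := congrArg (fun u : GL (κ → σ) F => (u : Matrix (κ → σ) (κ → σ) F)) hl
      simp only [hv, slot_rt_val, add_right_inj] at this
      exact this
    rw [← Matrix.smul_mul, ← h1, Np, Matrix.mul_assoc, ← Units.val_mul, inv_mul_cancel, Units.val_one, Matrix.mul_one]
  -- move the root back
  obtain ⟨τ, hτ, hτt⟩ := exists_trans hG ht hw
  set π := Equiv.swap i l with hπ
  set P : GL (κ → σ) F := pmGL π with hP
  set M'' := M'.map (MulAut.conj P).toMonoidHom with hM''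
  have hM''O : Over G M'' := hM'.conj_pm π
  set g₂ := slot i τ * (P * g) with hg₂
  have hsl : slot i τ ∈ M'' := hM''O.sl i τ hτ
  have hconj₂ : ∀ x ∈ M, g₂ * x * g₂⁻¹ ∈ M'' := fun x hx => by
    rw [show g₂ * x * g₂⁻¹ = slot i τ * (P * (g * x * g⁻¹) * P⁻¹) * (slot i τ)⁻¹ by rw [hg₂]; group]
    exact mul_mem (mul_mem hsl ⟨_, hconj x hx, rfl⟩) (inv_mem hsl)
  suffices hgoal : g₂ ∈ Wr F κ σ by
    have : g = P⁻¹ * ((slot i τ)⁻¹ * g₂) := by rw [hg₂]; group
    rw [this]
    exact mul_mem (inv_mem (pmGL_mem_Wr π)) (mul_mem (inv_mem (slot_mem_Wr i τ)) hgoal)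
  have hs₂ : (g₂ : Matrix (κ → σ) (κ → σ) F)ᵀ * GG G κ * g₂ = a • GG G κ := by
    have hu : slot i τ * P ∈ iso (GG G κ) := mul_mem (hM''O.le hsl) (pmGL_mem_iso π)
    rw [hg₂, ← mul_assoc, Units.val_mul, Matrix.transpose_mul,
      show ∀ A B C D E : Matrix (κ → σ) (κ → σ) F, A * B * C * (D * E) = A * (B * C * D) * E from
        fun A B C D E => by simp only [Matrix.mul_assoc], mem_iso.1 hu, hs]
  have hn₂ : (g₂ : Matrix (κ → σ) (κ → σ) F) * Rz G i w = c • (Rz G i w * (g₂ : Matrix (κ → σ) (κ → σ) F)) := by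
    have e1 : (P : Matrix (κ → σ) (κ → σ) F) * Rz G l t = Rz G i t * (P : Matrix (κ → σ) (κ → σ) F) := by
      have := pm_conj_Rz (σ := σ) (G := G) π l t
      rw [hπ, Equiv.swap_apply_right, ← hπ] at this
      rw [hP, pmGL_val, ← this, Matrix.mul_assoc _ (pm π⁻¹), pm_mul, inv_mul_cancel, pm_one, Matrix.mul_one]
    have e2 : (slot i τ : Matrix (κ → σ) (κ → σ) F) * Rz G i t = Rz G i w * (slot i τ : Matrix (κ → σ) (κ → σ) F) := by
      rw [← spl_kr_one, spl_val, kr_val, Units.val_one, Rz, Rz, ← map_mul, ← map_mul, ← Matrix.mul_kronecker_mul,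
        ← Matrix.mul_kronecker_mul, Matrix.one_mul]
      congr 2
      have h1 := hG.conj_K hτ t t
      rw [hτt] at h1
      rw [← h1, Matrix.mul_assoc, ← Units.val_mul, inv_mul_cancel, Units.val_one, Matrix.mul_one]
    rw [hg₂, Units.val_mul, Units.val_mul, Matrix.mul_assoc, Matrix.mul_assoc, hN, Matrix.mul_smul, Matrix.mul_smul,
      ← Matrix.mul_assoc (P : Matrix (κ → σ) (κ → σ) F), e1, ← Matrix.mul_assoc, ← Matrix.mul_assoc, e2]
    simp only [Matrix.mul_assoc]
  set g₃ := (spl F σ i).symm g₂ with hg₃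
  have hg₃v : (g₂ : Matrix (κ → σ) (κ → σ) F) =
      splM F σ i (g₃ : Matrix (σ × (oth i → σ)) (σ × (oth i → σ)) F) := by
    rw [← spl_val, hg₃, MulEquiv.apply_symm_apply]
  obtain ⟨L, A, b, d, hb, hd, hkr, -, hA⟩ := sim_kr hG (gg_isForm hG.isForm) (hM.ovr hG hk i) (hM''O.ovr hG hk i) ha
    (g := g₃) (by
      apply (splM F σ i).injective
      rw [map_mul, map_mul, map_smul, ← splM_transpose, ← hg₃v, splM_gg]
      exact hs₂)
    (fun x hx => by
      rw [mem_sub, map_mul, map_mul, map_inv, hg₃, MulEquiv.apply_symm_apply]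
      exact hconj₂ _ hx)
    hw hc (by
      apply (splM F σ i).injective
      rw [map_smul, map_mul, map_mul, ← hg₃v]
      exact hn₂)
    (by rcases h24 with h4 | ⟨hk2, hq⟩
        · exact Or.inl (by omega)
        · exact Or.inr ⟨hk2, exists_sq_ne_one hq⟩)
  have hg₂kr : g₂ = spl F σ i (kr (L, A)) := by rw [← hkr, hg₃, MulEquiv.apply_symm_apply]
  rw [hg₂kr]
  rcases isEmpty_or_nonempty (oth i) with he | ⟨⟨j⟩⟩
  · -- a single position
    set x₀ : oth i → σ := fun m => he.elim m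
    have hA1 : (A : Matrix (oth i → σ) (oth i → σ) F) = (A : Matrix (oth i → σ) (oth i → σ) F) x₀ x₀ • 1 := by
      ext x y
      rw [Subsingleton.elim x x₀, Subsingleton.elim y x₀]
      simp
    have ha0 : (A : Matrix (oth i → σ) (oth i → σ) F) x₀ x₀ ≠ 0 := fun h0 => by
      rw [h0, zero_smul] at hA1
      have h1 := (Matrix.isUnit_iff_isUnit_det _).1 A.isUnit
      rw [hA1] at h1
      simp at h1
    set a₀ := (A : Matrix (oth i → σ) (oth i → σ) F) x₀ x₀
    let L' : GL σ F := ⟨a₀ • (L : Matrix σ σ F), a₀⁻¹ • ((L⁻¹ : GL σ F) : Matrix σ σ F),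
      by rw [Matrix.smul_mul, Matrix.mul_smul, smul_smul, mul_inv_cancel₀ ha0, ← Units.val_mul, mul_inv_cancel,
        Units.val_one, one_smul],
      by rw [Matrix.smul_mul, Matrix.mul_smul, smul_smul, inv_mul_cancel₀ ha0, ← Units.val_mul, inv_mul_cancel,
        Units.val_one, one_smul]⟩
    rw [show kr (L, A) = kr (L', 1) from Units.ext (by
      rw [kr_val, kr_val, hA1, Units.val_one, Matrix.kronecker_smul,
        show (L' : Matrix σ σ F) = a₀ • (L : Matrix σ σ F) from rfl, Matrix.smul_kronecker]), spl_kr_one]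
    exact slot_mem_Wr i L'
  · have hlt : Fintype.card (oth i) < n := hcard ▸ Fintype.card_subtype_lt (x := i) (by simp)
    haveI : Nonempty (oth i) := ⟨j⟩
    have hfib := hM''O.fib hG i
    have hfW : fib i M'' ≤ Wr F (oth i) σ := le_Wr_of_rigid hG hk h24 hfib fun x hx j' w' hw' hx' =>
      IH _ hlt rfl hfib hfib x 1 one_ne_zero (by rw [one_smul]; exact mem_iso.1 (hfib.le hx))
        (fun y hy => mul_mem (mul_mem hx hy) (inv_mem hx)) j' w' hw' hx'
    have hAc : ∀ x ∈ fib i M, A * x * A⁻¹ ∈ fib i M'' := fun x hx => by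
      rw [mem_fib, mem_sub] at hx ⊢
      have := hconj₂ _ hx
      rwa [hg₂kr, ← map_inv, ← map_mul, ← map_mul, ← map_inv, ← map_mul, ← map_mul, Prod.inv_mk, Prod.mk_mul_mk,
        Prod.mk_mul_mk, mul_one, mul_inv_cancel] at this
    have hAW : A ∈ Wr F (oth i) σ := IH _ hlt rfl (hM.fib hG i) hfib A d hd hA hAc j w hw
      (hfW (hAc _ ((hM.fib hG i).sl j _ (rt_mem_iso hG w 1))))
    obtain ⟨R, ρ, rfl⟩ := hAW
    rw [show ((L, tenGL R * pmGL ρ) : GL σ F × GL (oth i → σ) F) = (L, tenGL R) * (1, pmGL ρ) by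
      rw [Prod.mk_mul_mk, mul_one], map_mul, map_mul, spl_kr,
      show spl F σ i (kr (1, pmGL ρ)) = pmGL (extP i ρ) from Units.ext (by
        rw [spl_val, kr_val, Units.val_one, pmGL_val, pmGL_val, splM_one_pm])]
    exact ⟨_, _, rfl⟩

/-- **an overgroup of the isometry groups of the positions without root-like monomials is in the wreath product** -/
theorem le_Wr [Nonempty κ] {M : Subgroup (GL (κ → σ) F)} (hM : Over G M) : M ≤ Wr F κ σ :=
  le_Wr_of_rigid hG hk h24 hM fun g hg i w hw hW => rigid_sim hG hk h24 (Fintype.card κ) rfl hM hM g 1 one_ne_zero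
    (by rw [one_smul]; exact mem_iso.1 (hM.le hg)) (fun _ hx => mul_mem (mul_mem hg hx) (inv_mem hg)) i w hw hW

end Cfsg.Agent.MaxCl.Pow
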