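/-
Tensor powers of a symplectic space: what the wreath product contributes to the symplectic and to the derived
orthogonal group, a member of these groups outside the wreath product, and the passage to other coordinates.
-/
import Cfsg.Agent.Lib.MaxCl.PowerClose
import Cfsg.Agent.Lib.MaxCl.OrthParabolic
import Cfsg.Agent.Lib.Aschbacher.TensorNormal
import Cfsg.Agent.Lib.Aschbacher.FormGram

set_option autoImplicit false
set_option linter.unusedSectionVars false
set_option linter.style.haveILetI false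

namespace Cfsg.Agent.MaxCl.Pow

open Matrix
open scoped MatrixGroups commutatorElement

variable {σ : Type} [Fintype σ] [DecidableEq σ] {F : Type*} [Field F] {G : Matrix σ σ F}
variable {κ : Type} [Fintype κ] [DecidableEq κ]

/-! ### one factor: generation by commutators -/

section Perfect

variable (hG : Alt G)
include hG

theorem sie_conj {g : GL σ F} (hg : g ∈ iso G) {a z : σ → F} (h : fm G a z = 0) :
    g * sie hG a z * g⁻¹ = sie hG ((g : Matrix σ σ F) *ᵥ a) ((g : Matrix σ σ F) *ᵥ z) := by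
  refine Units.ext ?_
  rw [Units.val_mul, Units.val_mul, sie_val hG h, sie_val hG (by rw [mem_iso_fm.1 hg]; exact h)]
  simp only [mul_add, add_mul, Matrix.mul_one, hG.conj_K hg, ← Units.val_mul, mul_inv_cancel, Units.val_one]

theorem sie_mul {a z z' : σ → F} (h : fm G a z = 0) (h' : fm G a z' = 0) (hzz : fm G z' z = 0) :
    sie hG a z * sie hG a z' = sie hG a (z + z') := by
  refine Units.ext ?_
  have hz'a : fm G z' a = 0 := by rw [hG.fm_swap a z', h', neg_zero]
  rw [Units.val_mul, sie_val hG h, sie_val hG h', sie_val hG (by rw [fm_add_right, h, h', add_zero])]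
  simp only [mul_add, add_mul, Matrix.one_mul, Matrix.mul_one, K_mul_K, hG.self, h, hzz, hz'a, zero_smul,
    K_add_left, K_add_right]
  abel

theorem rt_conj {g : GL σ F} (hg : g ∈ iso G) (u : σ → F) (c : F) :
    g * rt hG u c * g⁻¹ = rt hG ((g : Matrix σ σ F) *ᵥ u) c := by
  refine Units.ext ?_
  rw [Units.val_mul, Units.val_mul, rt_val, rt_val]
  simp only [mul_add, add_mul, Matrix.mul_one, Matrix.mul_smul, Matrix.smul_mul, hG.conj_K hg, ← Units.val_mul,
    mul_inv_cancel, Units.val_one]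

theorem rt_smul (u : σ → F) (l c : F) : rt hG (l • u) c = rt hG u (c * (l * l)) :=
  Units.ext (by rw [rt_val, rt_val, K_smul_self, smul_smul])

/-- a group containing the commutators of the isometries contains the isometries -/
theorem iso_le_of_comm [Finite F]
    (hk : (3 ≤ Fintype.card σ ∧ ((2 : F) ≠ 0 ∨ 5 ≤ Fintype.card σ)) ∨ ∃ l : F, l ≠ 0 ∧ l * l ≠ 1)
    {N : Subgroup (GL σ F)} (hN : ∀ g ∈ iso G, ∀ h ∈ iso G, g * h * g⁻¹ * h⁻¹ ∈ N) : iso G ≤ N := by
  refine iso_le_of_roots hG fun u c => ?_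
  rcases eq_or_ne u 0 with rfl | hu
  · rw [show rt hG (0 : σ → F) c = 1 from Units.ext (by rw [rt_val, K_zero_left, smul_zero, add_zero, Units.val_one])]
    exact one_mem _
  rcases hk with ⟨h3, hk⟩ | ⟨l, hl, hl2⟩
  · -- Siegel elements
    obtain ⟨f, hf⟩ := exists_partner hG hu
    obtain ⟨z, hz, hzu, hzf⟩ := exists_perp_pair hG h3 u f
    have huz : fm G u z = 0 := by rw [hG.fm_swap z u, hzu, neg_zero]
    have hzs : z ∉ Submodule.span F {u} := fun hm => hz (by
      obtain ⟨r, rfl⟩ := Submodule.mem_span_singleton.1 hm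
      rw [fm_smul_left, hf, mul_one] at hzf
      rw [hzf, zero_smul])
    have cls : ∀ z', fm G u z' = 0 → z' ∉ Submodule.span F {u} → ∃ n ∈ N, sie hG u z' = n * sie hG u z := by
      intro z' h' hs'
      obtain ⟨g, hg, hga, hgz⟩ := exists_trans_perp hG hzu hzs (by rw [hG.fm_swap u z', h', neg_zero]) hs'
      refine ⟨_, hN g hg _ (sie_mem_iso hG u z), ?_⟩
      conv_lhs => rw [← hga, ← hgz, ← sie_conj hG hg huz]
      group
    have hsie : sie hG u z ∈ N := by
      obtain ⟨z', h', hs', hzz, hs''⟩ : ∃ z', fm G u z' = 0 ∧ z' ∉ Submodule.span F {u} ∧ fm G z' z = 0 ∧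
          z + z' ∉ Submodule.span F {u} := by
        rcases hk with h2 | h5
        · refine ⟨z, huz, hzs, hG.self z, fun hm => hzs ?_⟩
          rw [← two_smul F z] at hm
          exact (Submodule.smul_mem_iff _ h2).1 hm
        · obtain ⟨v, hvz, hvu, hvf⟩ := exists_partner_perp hG hf hz hzu hzf
          obtain ⟨w, hwu, hwz, hwv, hws⟩ := exists_perp_three hG h5 u z v
          refine ⟨w, by rw [hG.fm_swap w u, hwu, neg_zero], hws, hwz, fun hm => ?_⟩
          obtain ⟨r, hr⟩ := Submodule.mem_span_singleton.1 hm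
          have h0 := congrArg (fun x => fm G x v) hr
          simp only [fm_smul_left, fm_add_left, hvz, hwv, add_zero] at h0
          rw [hG.fm_swap v u, hvu] at h0
          simp at h0
      obtain ⟨n₁, hn₁, e₁⟩ := cls (z + z') (by rw [fm_add_right, huz, h', add_zero]) hs''
      obtain ⟨n₂, hn₂, e₂⟩ := cls z' h' hs'
      rw [← sie_mul hG huz h' hzz, e₂, ← mul_assoc] at e₁
      have e3 : sie hG u z = n₁ * n₂⁻¹ := by rw [← mul_right_cancel e₁]; group
      rw [e3]
      exact mul_mem hn₁ (inv_mem hn₂)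
    have rcls : ∀ v w : σ → F, v ≠ 0 → w ≠ 0 → ∀ c, ∃ n ∈ N, rt hG w c = n * rt hG v c := by
      intro v w hv hw c
      obtain ⟨g, hg, hgv⟩ := exists_trans hG hv hw
      refine ⟨_, hN g hg _ (rt_mem_iso hG v c), ?_⟩
      rw [← hgv, ← rt_conj hG hg]
      group
    have h1 : rt hG u 1 ∈ N := by
      have hsum : u + z ≠ 0 := fun h => hzs (Submodule.mem_span_singleton.2 ⟨-1, by
        rw [neg_one_smul]; exact (eq_neg_of_add_eq_zero_right h).symm⟩)
      obtain ⟨n, hn, en⟩ := rcls u (u + z) hu hsum 1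
      obtain ⟨n', hn', en'⟩ := rcls u z hu hz (-1)
      have e : sie hG u z = n * n' * (rt hG u 1)⁻¹ := by
        rw [sie, en, en', ← rt_inv hG u 1]
        group
      rw [e] at hsie
      exact inv_mem_iff.1 ((mul_mem_cancel_left (mul_mem hn hn')).1 hsie)
    have hsq : ∀ a : F, rt hG u (a * a) ∈ N := fun a => by
      rcases eq_or_ne a 0 with rfl | ha
      · rw [show rt hG u (0 * 0) = 1 from Units.ext (by rw [rt_val, mul_zero, zero_smul, add_zero, Units.val_one])]
        exact one_mem _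
      obtain ⟨n, hn, en⟩ := rcls u (a • u) hu (smul_ne_zero ha hu) 1
      rw [rt_smul, one_mul] at en
      rw [en]
      exact mul_mem hn h1
    obtain ⟨a, b, rfl⟩ := exists_sq_sub_sq c
    rw [sub_eq_add_neg, ← rt_add, ← rt_inv]
    exact mul_mem (hsq a) (inv_mem (hsq b))
  · -- torus elements
    obtain ⟨f, hf⟩ := exists_partner hG hu
    obtain ⟨g, hg, hgu, -⟩ := exists_tor hG hf hl
    have h0 : l * l - 1 ≠ 0 := sub_ne_zero.2 hl2
    have h := hN g hg _ (rt_mem_iso hG u (c / (l * l - 1)))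
    rw [rt_conj hG hg, hgu, rt_smul, rt_inv, rt_add] at h
    rwa [show c / (l * l - 1) * (l * l) + -(c / (l * l - 1)) = c by
      rw [← sub_eq_add_neg, ← mul_sub_one, div_mul_cancel₀ _ h0] ] at h

end Perfect

/-! ### the wreath product and isometries -/

theorem tenGL_iso {L : κ → GL σ F} (hL : ∀ i, L i ∈ iso G) : tenGL L ∈ iso (GG G κ) := by
  rw [mem_iso, tenGL_val, ten_transpose, GG, ← map_mul, ← map_mul]
  congr 1
  funext i
  exact mem_iso.1 (hL i)

theorem slot_iso {i : κ} {g : GL σ F} (hg : g ∈ iso G) : slot i g ∈ iso (GG G κ) := tenGL_iso fun j => by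
  by_cases h : j = i
  · subst h; rwa [put_self]
  · rw [show put i g (1 : oth i → GL σ F) j = 1 from dif_neg h]; exact one_mem _

theorem pm_transpose_inv (π : Equiv.Perm κ) : (pm π : Matrix (κ → σ) (κ → σ) F)ᵀ = pm π⁻¹ := by
  ext x y
  rw [Matrix.transpose_apply, pm_apply, pm_apply]
  refine if_congr ⟨?_, ?_⟩ rfl rfl <;> rintro rfl <;> funext j <;> simp [Equiv.Perm.inv_def]

theorem pmGL_iso (π : Equiv.Perm κ) : (pmGL π : GL (κ → σ) F) ∈ iso (GG G κ) := by
  rw [mem_iso, pmGL_val, pm_transpose_inv]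
  have h := pm_conj_ten (σ := σ) π⁻¹ fun _ : κ => G
  rw [inv_inv] at h
  exact h

theorem wr_pure {g : GL (κ → σ) F} (hg : g ∈ Wr F κ σ) (x : κ → σ → F) :
    ∃ y, (g : Matrix (κ → σ) (κ → σ) F) *ᵥ pv x = pv y := by
  obtain ⟨L, π, rfl⟩ := hg
  refine ⟨fun i => (L i : Matrix σ σ F) *ᵥ x (π.symm i), ?_⟩
  rw [Units.val_mul, ← mulVec_mulVec, pmGL_val, tenGL_val]
  have hp : pm π *ᵥ pv x = pv fun i => x (π.symm i) := by
    funext a
    simp only [mulVec, dotProduct, pm_apply, ite_mul, one_mul, zero_mul, Finset.sum_ite_eq', Finset.mem_univ,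
      if_true, pv]
    exact Fintype.prod_equiv π _ _ fun i => by simp
  rw [hp, ten_mulVec]

theorem slot_mem_wr (i : κ) (g : GL σ F) : slot i g ∈ Wr F κ σ := tenGL_mem_Wr _

/-- two pure vectors differing at two positions have no pure sum -/
theorem add_not_pure (hG : Alt G) {a b : κ → σ → F} {i j : κ} (hij : i ≠ j)
    (hai : a i ∉ Submodule.span F {b i}) (hbi : b i ∉ Submodule.span F {a i})
    (haj : a j ∉ Submodule.span F {b j}) (hbj : b j ∉ Submodule.span F {a j})
    (ha : ∀ l, a l ≠ 0) (hb : ∀ l, b l ≠ 0) (y : κ → σ → F) : pv a + pv b ≠ pv y := by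
  intro h
  obtain ⟨x₁, hx₁, hx₁'⟩ := exists_perp_dual hG hai
  obtain ⟨y₁, hy₁, hy₁'⟩ := exists_perp_dual hG hbi
  obtain ⟨x₂, hx₂, hx₂'⟩ := exists_perp_dual hG haj
  obtain ⟨y₂, hy₂, hy₂'⟩ := exists_perp_dual hG hbj
  have hz : ∀ l, ∃ z, fm G (a l) z ≠ 0 ∧ fm G (b l) z ≠ 0 := fun l => by
    obtain ⟨p, hp⟩ := exists_partner hG (ha l)
    obtain ⟨q, hq⟩ := exists_partner hG (hb l)
    by_cases h1 : fm G (b l) p = 0
    · by_cases h2 : fm G (a l) q = 0
      · exact ⟨p + q, by rw [fm_add_right, hp, h2, add_zero]; exact one_ne_zero,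
          by rw [fm_add_right, hq, h1, zero_add]; exact one_ne_zero⟩
      · exact ⟨q, h2, by rw [hq]; exact one_ne_zero⟩
    · exact ⟨p, by rw [hp]; exact one_ne_zero, h1⟩
  choose z hza hzb using hz
  let P : (σ → F) → (σ → F) → κ → σ → F := fun u v => Function.update (Function.update z i u) j v
  have hP : ∀ (c : κ → σ → F) (u v : σ → F), ∏ l, fm G (c l) (P u v l) =
      fm G (c i) u * fm G (c j) v * ∏ l ∈ (Finset.univ.erase i).erase j, fm G (c l) (z l) := fun c u v => by
    rw [← Finset.mul_prod_erase _ _ (Finset.mem_univ i), ← Finset.mul_prod_erase _ _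
      (Finset.mem_erase.2 ⟨hij.symm, Finset.mem_univ j⟩)]
    simp only [P, Function.update_self, Function.update_of_ne hij]
    rw [← mul_assoc]
    congr 1
    refine Finset.prod_congr rfl fun l hl => ?_
    simp only [Finset.mem_erase] at hl
    rw [Function.update_of_ne hl.1, Function.update_of_ne hl.2.1]
  set A := ∏ l ∈ (Finset.univ.erase i).erase j, fm G (a l) (z l) with hA
  set B := ∏ l ∈ (Finset.univ.erase i).erase j, fm G (b l) (z l) with hB
  set Y := ∏ l ∈ (Finset.univ.erase i).erase j, fm G (y l) (z l) with hY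
  have key : ∀ u v, fm G (a i) u * fm G (a j) v * A + fm G (b i) u * fm G (b j) v * B =
      fm G (y i) u * fm G (y j) v * Y := fun u v => by
    have h1 := congrArg (fun w => fm (GG G κ) w (pv (P u v))) h
    simpa only [fm_add_left, fm_gg_pv, hP] using h1
  have e1 := key x₁ x₂
  have e2 := key x₁ y₂
  have e3 := key y₁ x₂
  have e4 := key y₁ y₂
  rw [hx₁', hx₁, hx₂', hx₂] at e1
  rw [hx₁', hx₁, hy₂', hy₂] at e2
  rw [hy₁', hy₁, hx₂', hx₂] at e3
  rw [hy₁', hy₁, hy₂', hy₂] at e4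
  simp only [one_mul, mul_one, zero_mul, mul_zero, add_zero, zero_add] at e1 e2 e3 e4
  have hAB : A * B = 0 := by
    calc A * B = (fm G (y i) x₁ * fm G (y j) x₂ * Y) * (fm G (y i) y₁ * fm G (y j) y₂ * Y) := by rw [← e1, ← e4]
      _ = (fm G (y i) x₁ * fm G (y j) y₂ * Y) * (fm G (y i) y₁ * fm G (y j) x₂ * Y) := by ring
      _ = 0 := by rw [← e2, zero_mul]
  rcases mul_eq_zero.1 hAB with h0 | h0
  · exact Finset.prod_ne_zero_iff.2 (fun l _ => hza l) h0
  · exact Finset.prod_ne_zero_iff.2 (fun l _ => hzb l) h0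

/-! ### the symplectic case -/

section Cases

variable (hG : Alt G) [Finite F]
include hG

theorem card_ne_three (h2 : (2 : F) ≠ 0) : Fintype.card σ ≠ 3 := by
  intro h3
  have h := congrArg Matrix.det hG.skew
  rw [Matrix.det_transpose, Matrix.det_neg, h3] at h
  exact (mul_ne_zero h2 hG.det.ne_zero) (by linear_combination h)

/-- a member of the symplectic group outside the wreath product -/
theorem exists_not_wr_sp [Nonempty σ] (h2 : (2 : F) ≠ 0) (ht : Odd (Fintype.card κ)) (ht2 : 2 ≤ Fintype.card κ) :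
    ∃ g ∈ iso (GG G κ), g ∉ Wr F κ σ := by
  obtain ⟨i, j, hij⟩ := Fintype.one_lt_card_iff.1 ht2
  set a : σ → F := fun _ => 1
  have ha : a ≠ 0 := Function.ne_iff.2 ⟨Classical.arbitrary σ, one_ne_zero⟩
  obtain ⟨f, hf⟩ := exists_partner hG ha
  have hf0 : f ≠ 0 := fun h => by rw [h, fm_zero_right] at hf; exact zero_ne_one hf
  have hA := gg_alt (κ := κ) hG h2 ht
  refine ⟨rt hA (pv fun _ => a) (-1), rt_mem_iso hA _ _, fun hW => ?_⟩
  obtain ⟨y, hy⟩ := wr_pure hW fun _ => f
  rw [rt_mulVec, fm_gg_pv] at hy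
  simp only [hG.fm_swap a f, hf, Finset.prod_const, Finset.card_univ, ht.neg_one_pow, mul_neg, mul_one,
    neg_neg, one_smul] at hy
  have h1 := notMem_span_of_pair hG (a := a) (f := f) (by rw [hf]; exact one_ne_zero)
  exact add_not_pure hG (a := fun _ => f) (b := fun _ => a) hij h1 (notMem_span_symm ha h1)
    h1 (notMem_span_symm ha h1) (fun _ => hf0) (fun _ => ha) y hy

/-- an overgroup in the symplectic group -/
theorem sp_cases (h2 : (2 : F) ≠ 0) (ht : Odd (Fintype.card κ)) {M : Subgroup (GL (κ → σ) F)}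
    (hWr : Over G M → M ≤ Wr F κ σ) (hle : M ≤ iso (GG G κ)) (hge : Wr F κ σ ⊓ iso (GG G κ) ≤ M) :
    M ≤ Wr F κ σ ∨ iso (GG G κ) ≤ M := by
  have hsl : ∀ i, ∀ g ∈ iso G, slot i g ∈ M := fun i g hg => hge ⟨slot_mem_wr i g, slot_iso hg⟩
  by_cases hts : TS G M
  · exact Or.inl (hWr ⟨hle, hsl, hts⟩)
  · exact Or.inr (top_sp hG h2 ht hle hsl (fun π => hge ⟨pmGL_mem_Wr π, pmGL_iso π⟩) hts)

/-! ### the orthogonal case -/

variable {Q : QuadraticForm F ((κ → σ) → F)} (hB : ∀ x y, QuadraticMap.polar Q x y = fm (GG G κ) x y)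
  (hpure : ∀ x, Q (pv x) = 0)

omit hG in
theorem omegaGL_eq_commutator {ι : Type} [Fintype ι] [DecidableEq ι] (Q' : (ι → F) → F) :
    Cfsg.Geo.omegaGL Q' = ⁅isometryGroup F Q', isometryGroup F Q'⁆ := by
  show (Omega F Q').map (isometryGroup F Q').subtype = _
  rw [show Omega F Q' = ⁅(⊤ : Subgroup (isometryGroup F Q')), ⊤⁆ from rfl, Subgroup.map_commutator,
    ← MonoidHom.range_eq_map, Subgroup.range_subtype]

include hB hpure in
theorem wr_isometry {g : GL (κ → σ) F} (hW : g ∈ Wr F κ σ) (hg : g ∈ iso (GG G κ)) : g ∈ isometryGroup F Q := by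
  rw [Orth.mem_iso]
  intro x
  have hadd : ∀ a b, Q (act g a) = Q a → Q (act g b) = Q b → Q (act g (a + b)) = Q (a + b) := fun a b ha hb => by
    rw [map_add, Orth.Q_add Q, Orth.Q_add Q, ha, hb, hB, hB, act_apply, act_apply, mem_iso_fm.1 hg]
  rw [eq_sum_pv x]
  generalize (Finset.univ : Finset (κ → σ)) = s
  induction s using Finset.induction with
  | empty => simp
  | @insert e s he ih =>
    rw [Finset.sum_insert he]
    refine hadd _ _ ?_ ih
    rw [map_smul, Orth.Q_smul Q, Orth.Q_smul Q, hpure, act_apply]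
    obtain ⟨y, hy⟩ := wr_pure hW fun i => Pi.single (M := fun _ => F) (e i) 1
    rw [hy, hpure]

include hB hpure in
theorem slot_mem_omega
    (hk : (3 ≤ Fintype.card σ ∧ ((2 : F) ≠ 0 ∨ 5 ≤ Fintype.card σ)) ∨ ∃ l : F, l ≠ 0 ∧ l * l ≠ 1)
    {i : κ} {g : GL σ F} (hg : g ∈ iso G) : slot i g ∈ Cfsg.Geo.omegaGL Q := by
  let φ : GL σ F →* GL (κ → σ) F :=
    { toFun := fun g => slot i g
      map_one' := by
        show tenGL (put i 1 1) = 1
        rw [show put i (1 : GL σ F) (1 : oth i → GL σ F) = 1 from put_restrict i (1 : κ → GL σ F), map_one]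
      map_mul' := fun a b => by
        show tenGL (put i (a * b) 1) = tenGL (put i a 1) * tenGL (put i b 1)
        rw [← map_mul]
        congr 1
        funext j
        by_cases h : j = i
        · subst h; simp
        · simp [put, h] }
  refine iso_le_of_comm hG hk (N := (Cfsg.Geo.omegaGL Q).comap φ) (fun a ha b hb => ?_) hg
  show φ _ ∈ Cfsg.Geo.omegaGL Q
  rw [map_mul, map_mul, map_mul, map_inv, map_inv]
  exact Orth.commutator_mem_omega (wr_isometry hG hB hpure (slot_mem_wr i a) (slot_iso ha))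
    (wr_isometry hG hB hpure (slot_mem_wr i b) (slot_iso hb))

include hB hpure in
theorem pmGL_mem_omega {π : Equiv.Perm κ} (hπ : Equiv.Perm.sign π = 1) :
    (pmGL π : GL (κ → σ) F) ∈ Cfsg.Geo.omegaGL Q := by
  have hI : ∀ π : Equiv.Perm κ, (pmGL π : GL (κ → σ) F) ∈ isometryGroup F Q := fun π =>
    wr_isometry hG hB hpure (pmGL_mem_Wr π) (pmGL_iso π)
  suffices h : alternatingGroup κ ≤ (Cfsg.Geo.omegaGL Q).comap pmGL from h (Equiv.Perm.mem_alternatingGroup.2 hπ)
  rw [← Equiv.Perm.closure_three_cycles_eq_alternating, Subgroup.closure_le]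
  intro x hx
  have hxx : IsConj x (x * x) := Equiv.Perm.isConj_iff_cycleType_eq.2 (by
    rw [show x.cycleType = {3} from hx, show (x * x).cycleType = {3} from hx.isThreeCycle_sq])
  obtain ⟨g, hg⟩ := isConj_iff.1 hxx
  show (pmGL x : GL (κ → σ) F) ∈ Cfsg.Geo.omegaGL Q
  rw [show x = g * x * g⁻¹ * x⁻¹ by rw [hg]; group, map_mul, map_mul, map_mul, map_inv, map_inv]
  exact Orth.commutator_mem_omega (hI g) (hI x)

include hB in
theorem polar_nondeg : (QuadraticMap.polarBilin Q).Nondegenerate := by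
  have hGG := gg_isForm (κ := κ) hG.isForm
  refine ⟨fun x hx => ?_, fun y hy => ?_⟩ <;> by_contra hne
  · obtain ⟨v, hv⟩ := fm_nondeg hGG hne
    exact hv (by rw [gg_sym hG hB, ← hB]; exact hx v)
  · obtain ⟨v, hv⟩ := fm_nondeg hGG hne
    exact hv (by rw [← hB]; exact hy v)

include hB hpure in
/-- a member of the derived orthogonal group outside the wreath product -/
theorem exists_not_wr_omega [Nonempty σ] (hn : 13 ≤ Fintype.card σ ^ Fintype.card κ) (ht : 2 ≤ Fintype.card κ) :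
    ∃ g ∈ Cfsg.Geo.omegaGL Q, g ∉ Wr F κ σ := by
  obtain ⟨o, j, hoj⟩ := Fintype.one_lt_card_iff.1 ht
  set a : σ → F := fun _ => 1
  have ha : a ≠ 0 := Function.ne_iff.2 ⟨Classical.arbitrary σ, one_ne_zero⟩
  obtain ⟨f, hf⟩ := exists_partner hG ha
  have hf0 : f ≠ 0 := fun h => by rw [h, fm_zero_right] at hf; exact zero_ne_one hf
  have hfa : fm G f a = -1 := by rw [hG.fm_swap a f, hf]
  have h1 := notMem_span_of_pair hG (a := a) (f := f) (by rw [hf]; exact one_ne_zero)
  -- the second vector at one position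
  obtain ⟨b, hb0, hbf, i, hi⟩ : ∃ b : σ → F, b ≠ 0 ∧ fm G b f = 0 ∧
      ∃ i, i ≠ j ∧ f ∉ Submodule.span F {Function.update (fun _ => a) o b i} := by
    by_cases h3 : 3 ≤ Fintype.card σ
    · obtain ⟨z, hz, hza, hzf⟩ := exists_perp_pair hG h3 a f
      refine ⟨z, hz, hzf, o, hoj, ?_⟩
      rw [Function.update_self]
      exact notMem_span_of_fm (z := a) hza (by rw [hfa]; exact neg_ne_zero.2 one_ne_zero)
    · obtain ⟨l, hlo, hlj⟩ : ∃ l, l ≠ o ∧ l ≠ j := by
        by_contra! hc
        have hsub : (Finset.univ : Finset κ) ⊆ {o, j} := fun i _ => by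
          by_cases hi : i = o
          · simp [hi]
          · simp [hc i hi]
        have := (Finset.card_le_card hsub).trans Finset.card_le_two
        rw [Finset.card_univ] at this
        have h4 := Nat.pow_le_pow_right (show 0 < 2 by omega) this
        rw [show Fintype.card σ = 2 from le_antisymm (by omega) (two_le_card hG hf)] at hn
        omega
      refine ⟨f, hf0, hG.self f, l, hlj, ?_⟩
      rw [Function.update_of_ne hlo]
      exact h1
  set w := Function.update (fun _ => a) o b with hw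
  have huw : fm (GG G κ) (pv fun _ => a) (pv w) = 0 := by
    rw [fm_gg_pv]
    exact Finset.prod_eq_zero (Finset.mem_univ j) (by rw [hw, Function.update_of_ne hoj.symm, hG.self])
  refine ⟨_, Orth.sg_mem_omega (polar_nondeg hG hB) (by rw [Fintype.card_fun]; omega) (pv fun _ => a) (pv w),
    fun hW => ?_⟩
  obtain ⟨y, hy⟩ := wr_pure hW fun _ => f
  rw [← act_apply, Orth.act_sg Q (hpure _) (by rw [hB, huw]), hB, hB, hpure w, zero_mul, add_zero, fm_gg_pv,
    fm_gg_pv, Finset.prod_eq_zero (i := o) (f := fun l => fm G (w l) f) (Finset.mem_univ o)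
      (by rw [hw, Function.update_self, hbf]), zero_smul, sub_zero] at hy
  simp only [hf, Finset.prod_const_one, one_smul] at hy
  have hw0 : ∀ l, w l ≠ 0 := fun l => by
    by_cases hl : l = o
    · subst hl; rw [hw, Function.update_self]; exact hb0
    · rw [hw, Function.update_of_ne hl]; exact ha
  refine add_not_pure hG (a := fun _ => f) (b := w) hi.1 hi.2 (notMem_span_symm (hw0 i) hi.2) ?_ ?_ (fun _ => hf0)
    hw0 y hy
  · rw [hw, Function.update_of_ne hoj.symm]; exact h1
  · rw [hw, Function.update_of_ne hoj.symm]; exact notMem_span_symm ha h1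

include hB hpure in
/-- an overgroup in the derived orthogonal group -/
theorem omega_cases (hn : 13 ≤ Fintype.card σ ^ Fintype.card κ)
    (hcase : ((2 : F) ≠ 0 ∧ Even (Fintype.card κ)) ∨ ((2 : F) = 0 ∧ 6 ≤ Fintype.card σ))
    (hk : (3 ≤ Fintype.card σ ∧ ((2 : F) ≠ 0 ∨ 5 ≤ Fintype.card σ)) ∨ ∃ l : F, l ≠ 0 ∧ l * l ≠ 1)
    {M : Subgroup (GL (κ → σ) F)} (hWr : Over G M → M ≤ Wr F κ σ) (hle : M ≤ Cfsg.Geo.omegaGL Q)
    (hge : Wr F κ σ ⊓ Cfsg.Geo.omegaGL Q ≤ M) : M ≤ Wr F κ σ ∨ Cfsg.Geo.omegaGL Q ≤ M := by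
  have hsl : ∀ i, ∀ g ∈ iso G, slot i g ∈ M := fun i g hg =>
    hge ⟨slot_mem_wr i g, slot_mem_omega hG hB hpure hk hg⟩
  by_cases hts : TS G M
  · exact Or.inl (hWr ⟨le_iso_gg hG hB hle, hsl, hts⟩)
  · exact Or.inr (top_omega hG Q hB hpure hn hcase hle hsl
      (fun π hπ => hge ⟨pmGL_mem_Wr π, pmGL_mem_omega hG hB hpure hπ⟩) hts)

end Cases

/-! ### coordinates -/

section Coord

variable {k t : ℕ}

theorem standard_eq_wr : Cfsg.Geo.tensorWreathStandard k t F = Wr F (Fin t) (Fin k) := by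
  refine le_antisymm ((Subgroup.closure_le _).2 ?_) fun g hg => ?_
  · rintro g (⟨gs, hgs⟩ | ⟨π, hπ⟩)
    · rw [show g = tenGL gs from Units.ext (Matrix.ext hgs)]
      exact tenGL_mem_Wr gs
    · rw [show g = pmGL π from Units.ext (Matrix.ext hπ)]
      exact pmGL_mem_Wr π
  · obtain ⟨L, π, rfl⟩ := hg
    refine mul_mem ?_ ?_
    · rw [show tenGL L = Aschbacher.pureGL L from Units.ext (Matrix.ext fun _ _ => rfl)]
      exact Aschbacher.pureGL_mem L
    · rw [show (pmGL π : GL (Fin t → Fin k) F) = Aschbacher.permGL π from Units.ext rfl]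
      exact Aschbacher.permGL_mem π

variable {ι : Type} [Fintype ι] [DecidableEq ι] (e : ι ≃ (Fin t → Fin k)) (P : GL ι F)

theorem wreath_iff (g : GL (Fin t → Fin k) F) :
    Aschbacher.coordGL e P g ∈ Cfsg.Geo.tensorWreathSubgroup k t e P ↔ g ∈ Wr F (Fin t) (Fin k) := by
  rw [← standard_eq_wr]
  constructor
  · rintro ⟨_, ⟨h, hh, rfl⟩, he⟩
    rwa [show g = h from (Aschbacher.coordGL e P).injective ((Aschbacher.coordGL_eq e P h).trans he).symm]
  · exact fun h => Aschbacher.mem_tensorWreathSubgroup e P h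

/-- the coordinates as a linear map -/
def coordLin : ((Fin t → Fin k) → F) →ₗ[F] (ι → F) :=
  (Matrix.mulVecLin (P : Matrix ι ι F)).comp (LinearEquiv.funCongrLeft F F e).toLinearMap

theorem coordLin_apply (x : (Fin t → Fin k) → F) : coordLin e P x = (P : Matrix ι ι F) *ᵥ (x ∘ e) := rfl

theorem coordLin_surjective : Function.Surjective (coordLin e P) := fun y =>
  ⟨(((P⁻¹ : GL ι F) : Matrix ι ι F) *ᵥ y) ∘ e.symm, by
    rw [coordLin_apply, Function.comp_assoc, Equiv.symm_comp_self, Function.comp_id, mulVec_mulVec, ← Units.val_mul,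
      mul_inv_cancel, Units.val_one, one_mulVec]⟩

theorem coordLin_act (g : GL (Fin t → Fin k) F) (x : (Fin t → Fin k) → F) :
    (Aschbacher.coordGL e P g : Matrix ι ι F) *ᵥ coordLin e P x =
      coordLin e P ((g : Matrix (Fin t → Fin k) (Fin t → Fin k) F) *ᵥ x) := Aschbacher.coordGL_mulVec e P g x

theorem power_form {f : (ι → F) → (ι → F) → F} {f₁ : (Fin k → F) → (Fin k → F) → F}
    (hT : Cfsg.Geo.IsTensorPowerFormStructure id f f₁ e P) :
    ∃ c : F, c ≠ 0 ∧ ∀ x y, f (coordLin e P x) (coordLin e P y) =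
      c * fm (GG (Cfsg.Geo.gramMatrix f₁) (Fin t)) x y := by
  obtain ⟨c, hc, h⟩ := hT
  refine ⟨c, hc, fun x y => ?_⟩
  rw [coordLin_apply, coordLin_apply, h]
  congr 1
  simp only [fm, GG, dotProduct, mulVec, Finset.mul_sum, ten_apply, id, mul_assoc]

theorem gram_alt {f₁ : (Fin k → F) → (Fin k → F) → F} (hf₁ : Cfsg.Geo.IsSymplecticForm f₁) :
    Alt (Cfsg.Geo.gramMatrix f₁) := by
  set G := Cfsg.Geo.gramMatrix f₁ with hG
  have gen : ∀ x y : Fin k → F, f₁ x y = x ⬝ᵥ (G *ᵥ y) := by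
    intro x y
    let L : (Fin k → F) →ₗ[F] (Fin k → F) →ₗ[F] F :=
      LinearMap.mk₂ F f₁ hf₁.bilinear.add_left (fun c a b => by rw [hf₁.bilinear.smul_left, smul_eq_mul])
        hf₁.bilinear.add_right (fun c a b => by rw [hf₁.bilinear.smul_right, smul_eq_mul])
    show L x y = _
    conv_lhs => rw [pi_eq_sum_univ' x, pi_eq_sum_univ' y]
    simp only [map_sum, map_smul, LinearMap.sum_apply, LinearMap.smul_apply, smul_eq_mul, dotProduct,
      Matrix.mulVec, Finset.mul_sum]
    rw [Finset.sum_comm]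
    refine Finset.sum_congr rfl fun i _ => Finset.sum_congr rfl fun j _ => ?_
    show y j * (x i * f₁ _ _) = x i * (f₁ _ _ * y j)
    ring
  refine ⟨isUnit_iff_ne_zero.2 fun h0 => ?_, Matrix.ext fun a b => hf₁.skew _ _, fun u => ?_⟩
  · obtain ⟨v, hv0, hv⟩ := Matrix.exists_mulVec_eq_zero_iff.2 h0
    obtain ⟨y, hy⟩ := (hf₁.nondegenerate v hv0).1
    apply hy
    rw [gen, hv, dotProduct_zero]
  · rw [fm, ← gen]
    exact hf₁.alternating u

end Coord

end Cfsg.Agent.MaxCl.Pow
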