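/-
Root elements `x ↦ x + f x b • a - f x a • b` of orthogonal isotropic pairs in a unitary space.
-/
import Mathlib
import Cfsg.Prelude.Def_GeometricClasses
import Cfsg.Agent.Lib.MaxCl.UnitaryStab

set_option autoImplicit false

namespace Cfsg.Agent.MaxCl.Unit

open scoped MatrixGroups Matrix

variable {ι : Type} [Fintype ι] [DecidableEq ι] {F : Type*} [Field F]
variable {σ : F ≃+* F} {f : (ι → F) → (ι → F) → F}
variable (hU : Cfsg.Geo.IsUnitaryForm σ f)
include hU

/-- root element of an orthogonal isotropic pair -/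
noncomputable def uroot (hU : Cfsg.Geo.IsUnitaryForm σ f) (a b : ι → F) : GL ι F :=
  ptv hU a b * ptv hU b (-a)

theorem neg_right' (v x : ι → F) : f v (-x) = -f v x := by
  rw [← neg_one_smul F x, smul_right hU, map_neg, map_one, neg_one_mul]

theorem neg_left' (v x : ι → F) : f (-x) v = -f x v := by
  rw [← neg_one_smul F x, smul_left hU, neg_one_mul]

theorem act_uroot {a b : ι → F} (ha : f a a = 0) (hb : f b b = 0) (hab : f a b = 0) (x : ι → F) :
    act (uroot hU a b) x = x + f x b • a - f x a • b := by
  rw [uroot, act_mul, act_ptv hU hab, act_ptv hU (by rw [neg_right' hU, eq_zero_symm hU hab, neg_zero]),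
    neg_right' hU]
  simp only [add_left hU, smul_left hU, hb, mul_zero, add_zero]
  module

theorem uroot_mem {a b : ι → F} (ha : f a a = 0) (hb : f b b = 0) (hab : f a b = 0) :
    uroot hU a b ∈ uiso f ⊓ Cfsg.Geo.specialLinear ι F := by
  refine ⟨mem_uiso.2 fun x y => ?_, mul_mem (det_ptv hU hab)
    (det_ptv hU (by rw [neg_right' hU, eq_zero_symm hU hab, neg_zero]))⟩
  simp only [act_uroot hU ha hb hab, sub_left hU, sub_right hU, add_left hU, add_right hU, smul_left hU,
    smul_right hU, herm' hU, ha, hb, hab, eq_zero_symm hU hab]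
  ring

theorem conj_uroot {g : GL ι F} (hg : g ∈ uiso f) {a b : ι → F} (hab : f a b = 0) :
    g * uroot hU a b * g⁻¹ = uroot hU (act g a) (act g b) := by
  rw [uroot, uroot, ← map_neg, ← conj_ptv hU hg hab,
    ← conj_ptv hU hg (show f b (-a) = 0 by rw [neg_right' hU, eq_zero_symm hU hab, neg_zero])]
  group

/-- swapping the pair -/
theorem uroot_swap {a b : ι → F} (ha : f a a = 0) (hb : f b b = 0) (hab : f a b = 0) :
    uroot hU a b = uroot hU b (-a) := by
  apply gl_ext; intro x
  rw [act_uroot hU ha hb hab, act_uroot hU hb (by rw [neg_right' hU, neg_left' hU, ha]; simp)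
    (by rw [neg_right' hU, eq_zero_symm hU hab, neg_zero]), neg_right' hU]
  module

/-- moving a scalar across -/
theorem uroot_smul {a b : ι → F} (ha : f a a = 0) (hb : f b b = 0) (hab : f a b = 0) (s : F) :
    uroot hU (s • a) b = uroot hU a (σ s • b) := by
  apply gl_ext; intro x
  rw [act_uroot hU (by rw [smul_left hU, smul_right hU, ha]; ring) hb (by rw [smul_left hU, hab, mul_zero]),
    act_uroot hU ha (by rw [smul_left hU, smul_right hU, hb]; ring) (by rw [smul_right hU, hab, mul_zero]),
    smul_right hU, smul_right hU, hU.involutive]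
  module

end Cfsg.Agent.MaxCl.Unit
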