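/-
Rational structures of odd degree on a unitary space: isotropic rational vectors, and an overgroup `M` of the
rational transvections and Siegel elements containing one transvection at a rational point with an irrational
coefficient contains all transvections.
-/
import Mathlib
import Cfsg.Agent.Lib.MaxCl.UnitaryIso
import Cfsg.Agent.Lib.MaxCl.SympSubfield

set_option autoImplicit false

namespace Cfsg.Agent.MaxCl.USub

open Cfsg.Agent.MaxCl.Unit
open scoped MatrixGroups Matrix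

variable {ι : Type} [Fintype ι] [DecidableEq ι] {F : Type*} [Field F]

/-- the standing hypotheses -/
structure Ctx (σ : F ≃+* F) (f : (ι → F) → (ι → F) → F) (F₀ : Subfield F) (P : GL ι F) (r : ℕ)
    (M : Subgroup (GL ι F)) : Prop where
  unit : Cfsg.Geo.IsUnitaryForm σ f
  dim : 4 ≤ Fintype.card ι
  rat : ∀ x ∈ ratVec F₀ P, ∀ y ∈ ratVec F₀ P, f x y ∈ F₀
  stable : ∀ a ∈ F₀, σ a ∈ F₀
  moved : ∃ θ ∈ F₀, σ θ ≠ θ
  prime : r.Prime
  odd : Odd r
  card : Nat.card F = Nat.card F₀ ^ r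
  iso : M ≤ uiso f
  utv_rat : ∀ l ∈ ratVec F₀ P, f l l = 0 → ∀ c ∈ F₀, c + σ c = 0 → ∀ hU : Cfsg.Geo.IsUnitaryForm σ f,
    utv hU l c ∈ M
  sieg_rat : ∀ a ∈ ratVec F₀ P, ∀ b ∈ ratVec F₀ P, f a a = 0 → f b b = 0 → f a b = 0 → ∀ s ∈ F₀,
    ∀ hU : Cfsg.Geo.IsUnitaryForm σ f, sieg hU a b s ∈ M

variable {σ : F ≃+* F} {f : (ι → F) → (ι → F) → F} {F₀ : Subfield F} {P : GL ι F} {r : ℕ}
  {M : Subgroup (GL ι F)}

/-- the coordinates embedding of rational vectors -/
def emb (F₀ : Subfield F) (P : GL ι F) (u : ι → F₀) : ι → F := act P fun i => (u i : F)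

theorem emb_mem (u : ι → F₀) : emb F₀ P u ∈ ratVec F₀ P := ⟨_, fun i => (u i).2, rfl⟩

theorem exists_emb {x : ι → F} (hx : x ∈ ratVec F₀ P) : ∃ u, emb F₀ P u = x := by
  obtain ⟨u, hu, rfl⟩ := hx; exact ⟨fun i => ⟨u i, hu i⟩, rfl⟩

theorem emb_add (u v : ι → F₀) : emb F₀ P (u + v) = emb F₀ P u + emb F₀ P v := by
  simp only [emb, ← map_add]; rfl

theorem emb_smul (c : F₀) (u : ι → F₀) : emb F₀ P (c • u) = (c : F) • emb F₀ P u := by
  simp only [emb, ← map_smul]; rfl

theorem emb_zero : emb F₀ P (0 : ι → F₀) = 0 := by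
  simpa using emb_smul (P := P) (0 : F₀) (0 : ι → F₀)

theorem emb_injective : Function.Injective (emb F₀ P) := fun u v h =>
  funext fun i => Subtype.ext (congrFun (act_injective P h) i)

variable [Fintype F]

/-- a seed: a rational point with an irrational coefficient -/
def Seed (hU : Cfsg.Geo.IsUnitaryForm σ f) (F₀ : Subfield F) (P : GL ι F) (M : Subgroup (GL ι F)) : Prop :=
  ∃ l ∈ ratVec F₀ P, l ≠ 0 ∧ f l l = 0 ∧ ∃ c, c + σ c = 0 ∧ c ∉ F₀ ∧ utv hU l c ∈ M

/-- a vector orthogonal to `X` is a difference of isotropic ones, the perp exceeding the radical by two -/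
theorem exists_iso_sub_aniso {σ' : F ≃+* F} {f' : (ι → F) → (ι → F) → F} (hU : Cfsg.Geo.IsUnitaryForm σ' f')
    {X : Submodule F (ι → F)} {x : ι → F} (hx : x ∈ uperp hU X)
    (h : Module.finrank F X + Module.finrank F ↥(uperp hU X ⊓ X) + 2 ≤ Fintype.card ι) :
    ∃ w₁ ∈ uperp hU X, ∃ w₂ ∈ uperp hU X, f' w₁ w₁ = 0 ∧ f' w₂ w₂ = 0 ∧ x = w₁ - w₂ := by
  by_cases hxx : f' x x = 0
  · exact ⟨x, hx, 0, zero_mem _, hxx, zero_left hU 0, (sub_zero x).symm⟩
  have hY : Module.finrank F ↥(X ⊔ F ∙ x) ≤ Module.finrank F X + 1 := by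
    refine (Submodule.finrank_add_le_finrank_add_finrank _ _).trans ?_
    have := finrank_span_singleton (K := F) (show x ≠ 0 from fun h0 => hxx (h0 ▸ zero_left hU _))
    omega
  have hrad : uperp hU (X ⊔ F ∙ x) ⊓ (X ⊔ F ∙ x) ≤ uperp hU X ⊓ X := by
    rintro z ⟨hz, hzY⟩
    obtain ⟨w, hw, k, hk, rfl⟩ := Submodule.mem_sup.1 hzY
    obtain ⟨t, rfl⟩ := Submodule.mem_span_singleton.1 hk
    have h0 := hz x (Submodule.mem_sup_right (Submodule.mem_span_singleton_self x))
    rw [add_left hU, smul_left hU, eq_zero_symm hU (hx w hw), zero_add] at h0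
    obtain rfl : t = 0 := (mul_eq_zero.1 h0).resolve_right hxx
    rw [zero_smul, add_zero] at hz ⊢
    exact ⟨fun y hy => hz y (Submodule.mem_sup_left hy), hw⟩
  obtain ⟨p, hp, hpp⟩ : ∃ p ∈ uperp hU (X ⊔ F ∙ x), f' p p ≠ 0 := by
    by_contra hno; push Not at hno
    have hTT : uperp hU (X ⊔ F ∙ x) ≤ X ⊔ F ∙ x := by
      intro a ha
      rw [← uperp_uperp hU (X ⊔ F ∙ x)]
      intro b hb
      obtain ⟨e, he⟩ := exists_moved hU.ne_refl
      have h1 := hno _ (add_mem (Submodule.smul_mem _ e ha) hb)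
      have h2 := hno _ (add_mem ha hb)
      simp only [add_left hU, add_right hU, smul_left hU, smul_right hU, hno a ha, hno b hb, mul_zero,
        add_zero, zero_add] at h1 h2
      have : (e - σ' e) * f' a b = 0 := by linear_combination h1 - σ' e * h2
      exact (mul_eq_zero.1 this).resolve_left (sub_ne_zero.2 (Ne.symm he))
    have h1 := Submodule.finrank_mono (le_trans (le_inf le_rfl hTT) hrad)
    have h2 := finrank_uperp hU (X ⊔ F ∙ x)
    omega
  have hpx : f' p x = 0 := hp x (Submodule.mem_sup_right (Submodule.mem_span_singleton_self x))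
  have hpX : p ∈ uperp hU X := fun y hy => hp y (Submodule.mem_sup_left hy)
  obtain ⟨e, he⟩ := exists_trace_one hU.involutive hU.ne_refl
  obtain ⟨b, hb⟩ := exists_norm hU.involutive hU.ne_refl (-(e * σ' e * f' x x) / f' p p)
    (by rw [map_div₀, map_neg, map_mul, map_mul, hU.involutive, herm' hU, herm' hU]; ring)
  rw [eq_div_iff hpp] at hb
  refine ⟨e • x + b • p, add_mem (Submodule.smul_mem _ e hx) (Submodule.smul_mem _ b hpX),
    (e - 1) • x + b • p, add_mem (Submodule.smul_mem _ _ hx) (Submodule.smul_mem _ b hpX), ?_, ?_, by module⟩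
  · simp only [add_left hU, add_right hU, smul_left hU, smul_right hU, hpx, eq_zero_symm hU hpx]
    linear_combination hb
  · simp only [add_left hU, add_right hU, smul_left hU, smul_right hU, hpx, eq_zero_symm hU hpx, map_sub, map_one]
    linear_combination hb - f' x x * he

section

variable (C : Ctx σ f F₀ P r M)
include C

/-- the restriction of the involution -/
theorem exists_form₀ : ∃ (σ₀ : F₀ ≃+* F₀) (f₀ : (ι → F₀) → (ι → F₀) → F₀),
    (∀ a : F₀, ((σ₀ a : F₀) : F) = σ a) ∧ (∀ u v, (f₀ u v : F) = f (emb F₀ P u) (emb F₀ P v)) ∧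
      Cfsg.Geo.IsUnitaryForm σ₀ f₀ := by
  have hU := C.unit
  let σ₀ : F₀ ≃+* F₀ :=
    { toFun := fun a => ⟨σ a, C.stable _ a.2⟩
      invFun := fun a => ⟨σ a, C.stable _ a.2⟩
      left_inv := fun a => Subtype.ext (hU.involutive a)
      right_inv := fun a => Subtype.ext (hU.involutive a)
      map_mul' := fun a b => Subtype.ext (map_mul σ _ _)
      map_add' := fun a b => Subtype.ext (map_add σ _ _) }
  let f₀ : (ι → F₀) → (ι → F₀) → F₀ := fun u v =>
    ⟨f (emb F₀ P u) (emb F₀ P v), C.rat _ (emb_mem u) _ (emb_mem v)⟩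
  refine ⟨σ₀, f₀, fun _ => rfl, fun _ _ => rfl, ⟨fun h => ?_, fun a => Subtype.ext (hU.involutive a),
    fun x y v => ?_, fun c x v => ?_, fun v w => ?_, fun v hv => ?_⟩⟩
  · obtain ⟨θ, hθ, hne⟩ := C.moved
    exact hne (congrArg Subtype.val (RingEquiv.congr_fun h ⟨θ, hθ⟩))
  · apply Subtype.ext
    show f (emb F₀ P (x + y)) _ = f _ _ + f _ _
    rw [emb_add, add_left hU]
  · apply Subtype.ext
    show f (emb F₀ P (c • x)) _ = (c : F) * f _ _
    rw [emb_smul, smul_left hU]
  · apply Subtype.ext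
    show f _ _ = σ (f _ _)
    rw [herm' hU]
  · have key : ∃ x, f₀ x v ≠ 0 := by
      by_contra hno; push Not at hno
      apply hv
      have e : flinU hU (emb F₀ P v) = flinU hU 0 := ext_of_ratVec F₀ P fun y hy => by
        obtain ⟨u, rfl⟩ := exists_emb hy
        rw [flinU_apply, flinU_apply, zero_right hU]
        exact congrArg Subtype.val (hno u)
      apply emb_injective (P := P)
      rw [flinU_injective hU e, emb_zero]
    obtain ⟨x, hx⟩ := key
    refine ⟨⟨x, hx⟩, ⟨x, fun h => hx (Subtype.ext ?_)⟩⟩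
    exact eq_zero_symm hU (congrArg Subtype.val h)

theorem eq_zero_of_perp {v : ι → F} (h : ∀ x ∈ ratVec F₀ P, f x v = 0) : v = 0 :=
  flinU_injective C.unit (ext_of_ratVec F₀ P fun y hy => by
    rw [flinU_apply, flinU_apply, zero_right C.unit]; exact h y hy)

/-- a rational isotropic vector orthogonal to two given ones, outside their span -/
theorem iso_perp {x y : ι → F} (hx : x ∈ ratVec F₀ P) (hy : y ∈ ratVec F₀ P)
    (hdeg : y = x ∨ (f x x = 0 ∧ f y y = 0 ∧ f x y ≠ 0)) :
    ∃ u ∈ ratVec F₀ P, f u u = 0 ∧ f u x = 0 ∧ f u y = 0 ∧ u ≠ 0 ∧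
      ∀ a ∈ F₀, ∀ b ∈ F₀, u ≠ a • x + b • y := by
  classical
  haveI : Fintype F₀ := Fintype.ofFinite _
  obtain ⟨σ₀, f₀, -, hf₀, hU₀⟩ := exists_form₀ C
  obtain ⟨x, rfl⟩ := exists_emb hx
  obtain ⟨y, rfl⟩ := exists_emb hy
  let X : Submodule F₀ (ι → F₀) := Submodule.span F₀ (Set.range ![x, y])
  have hX : Module.finrank F₀ X ≤ 2 := (finrank_range_le_card ![x, y]).trans_eq (Fintype.card_fin 2)
  obtain ⟨u, hu, huu, huX⟩ : ∃ u ∈ uperp hU₀ X, f₀ u u = 0 ∧ u ∉ X := by
    have hdim := C.dim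
    rcases hdeg with h | ⟨hxx, hyy, hxy⟩
    · obtain rfl : y = x := emb_injective h
      have h1 : X ≤ F₀ ∙ y := Submodule.span_le.2 (by
        rintro _ ⟨i, rfl⟩; fin_cases i <;> exact Submodule.mem_span_singleton_self _)
      have h2 : Module.finrank F₀ X ≤ 1 := (Submodule.finrank_mono h1).trans (by
        simpa using finrank_span_le_card ({y} : Set (ι → F₀)))
      exact exists_iso_perp hU₀ X (by omega)
    · refine exists_iso_perp_rad hU₀ X ?_
      have hbot : uperp hU₀ X ⊓ X = ⊥ := by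
        rw [Submodule.eq_bot_iff]
        rintro w ⟨hw, hwX⟩
        obtain ⟨c, rfl⟩ := (Submodule.mem_span_range_iff_exists_fun F₀).1 hwX
        have q1 := congrArg Subtype.val (hw x (Submodule.subset_span ⟨0, rfl⟩))
        have q2 := congrArg Subtype.val (hw y (Submodule.subset_span ⟨1, rfl⟩))
        simp only [Fin.sum_univ_two, Matrix.cons_val_zero, Matrix.cons_val_one, hf₀, emb_add, emb_smul,
          add_left C.unit, smul_left C.unit, hxx, hyy, mul_zero, zero_add,
          add_zero, ZeroMemClass.coe_zero] at q1 q2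
        have c0 : c 0 = 0 := Subtype.ext ((mul_eq_zero.1 q2).resolve_right hxy)
        have c1 : c 1 = 0 := Subtype.ext ((mul_eq_zero.1 q1).resolve_right (ne_symm C.unit hxy))
        simp [Fin.sum_univ_two, c0, c1]
      have := finrank_uperp_ge hU₀ X
      rw [hbot, finrank_bot]
      omega
  have hperp : ∀ i : Fin 2, f (emb F₀ P u) (emb F₀ P (![x, y] i)) = 0 := fun i => by
    rw [← hf₀, hu _ (Submodule.subset_span ⟨i, rfl⟩)]; rfl
  refine ⟨_, emb_mem u, by rw [← hf₀, huu]; rfl, hperp 0, hperp 1, fun h => huX ?_,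
    fun a ha b hb h => huX ?_⟩
  · rw [show u = 0 from emb_injective (h.trans emb_zero.symm)]
    exact zero_mem _
  · have e : u = (⟨a, ha⟩ : F₀) • x + (⟨b, hb⟩ : F₀) • y :=
      emb_injective (h.trans (by rw [emb_add, emb_smul, emb_smul]))
    rw [e]
    exact add_mem (Submodule.smul_mem _ _ (Submodule.subset_span ⟨0, rfl⟩))
      (Submodule.smul_mem _ _ (Submodule.subset_span ⟨1, rfl⟩))

/-- a rational hyperbolic partner orthogonal to two given vectors -/
theorem partner {x y b : ι → F} (hx : x ∈ ratVec F₀ P) (hy : y ∈ ratVec F₀ P) (hb : b ∈ ratVec F₀ P)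
    (hbb : f b b = 0) (hbx : f b x = 0) (hby : f b y = 0)
    (hout : ∀ a ∈ F₀, ∀ c ∈ F₀, b ≠ a • x + c • y) :
    ∃ z ∈ ratVec F₀ P, f z z = 0 ∧ f z x = 0 ∧ f z y = 0 ∧ f z b = 1 ∧ f b z = 1 := by
  classical
  haveI : Fintype F₀ := Fintype.ofFinite _
  obtain ⟨σ₀, f₀, -, hf₀, hU₀⟩ := exists_form₀ C
  obtain ⟨x, rfl⟩ := exists_emb hx
  obtain ⟨y, rfl⟩ := exists_emb hy
  obtain ⟨b, rfl⟩ := exists_emb hb
  let X : Submodule F₀ (ι → F₀) := Submodule.span F₀ {x, y}
  have hbX : b ∈ uperp hU₀ X := by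
    intro w hw
    obtain ⟨a, c, rfl⟩ := Submodule.mem_span_pair.1 hw
    apply Subtype.ext
    rw [hf₀, emb_add, emb_smul, emb_smul, add_right C.unit, smul_right C.unit, smul_right C.unit, hbx, hby]
    simp
  obtain ⟨z, hz, hzz, hzb⟩ := exists_partner hU₀ hbX (Subtype.ext (by rw [hf₀, hbb]; rfl)) (fun h => by
    obtain ⟨a, c, e⟩ := Submodule.mem_span_pair.1 h
    exact hout a a.2 c c.2 (by rw [← e, emb_add, emb_smul, emb_smul]))
  have h1 : f (emb F₀ P z) (emb F₀ P b) = 1 := by rw [← hf₀, hzb]; rfl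
  refine ⟨_, emb_mem z, by rw [← hf₀, hzz]; rfl, ?_, ?_, h1, by rw [← herm' C.unit, h1, map_one]⟩
  · rw [← hf₀, hz x (Submodule.subset_span (by simp))]; rfl
  · rw [← hf₀, hz y (Submodule.subset_span (by simp))]; rfl

/-- rational vectors orthogonal to two given ones are differences of isotropic ones -/
theorem iso_sub {x y z : ι → F} (hx : x ∈ ratVec F₀ P) (hy : y ∈ ratVec F₀ P) (hz : z ∈ ratVec F₀ P)
    (hzx : f z x = 0) (hzy : f z y = 0)
    (hdeg : y = 0 ∨ f x x = 0 ∧ f y y = 0 ∧ f x y ≠ 0) :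
    ∃ w₁ ∈ ratVec F₀ P, ∃ w₂ ∈ ratVec F₀ P, f w₁ w₁ = 0 ∧ f w₂ w₂ = 0 ∧ f w₁ x = 0 ∧ f w₁ y = 0 ∧
      f w₂ x = 0 ∧ f w₂ y = 0 ∧ z = w₁ - w₂ := by
  classical
  haveI : Fintype F₀ := Fintype.ofFinite _
  obtain ⟨σ₀, f₀, -, hf₀, hU₀⟩ := exists_form₀ C
  obtain ⟨x, rfl⟩ := exists_emb hx
  obtain ⟨y, rfl⟩ := exists_emb hy
  obtain ⟨z, rfl⟩ := exists_emb hz
  let X : Submodule F₀ (ι → F₀) := Submodule.span F₀ {x, y}
  have hX : Module.finrank F₀ X ≤ 2 := by
    refine (finrank_span_le_card ({x, y} : Set (ι → F₀))).trans ?_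
    simp only [Set.toFinset_insert, Set.toFinset_singleton]
    exact Finset.card_le_two
  have hzX : z ∈ uperp hU₀ X := by
    intro w hw
    obtain ⟨a, c, rfl⟩ := Submodule.mem_span_pair.1 hw
    apply Subtype.ext
    rw [hf₀, emb_add, emb_smul, emb_smul, add_right C.unit, smul_right C.unit, smul_right C.unit, hzx, hzy]
    simp
  have hbound : Module.finrank F₀ X + Module.finrank F₀ ↥(uperp hU₀ X ⊓ X) + 2 ≤ Fintype.card ι := by
    have hdim := C.dim
    rcases hdeg with h | ⟨hxx, hyy, hxy⟩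
    · obtain rfl : y = 0 := emb_injective (h.trans emb_zero.symm)
      have h1 : Module.finrank F₀ X ≤ 1 :=
        (Submodule.finrank_mono (Submodule.span_le.2 (Set.insert_subset (Submodule.mem_span_singleton_self x)
          (Set.singleton_subset_iff.2 (zero_mem _))) : X ≤ F₀ ∙ x)).trans (by
          simpa using finrank_span_le_card ({x} : Set (ι → F₀)))
      have := Submodule.finrank_mono (inf_le_right : uperp hU₀ X ⊓ X ≤ X)
      omega
    · have hbot : uperp hU₀ X ⊓ X = ⊥ := by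
        rw [Submodule.eq_bot_iff]
        rintro w ⟨hw, hwX⟩
        obtain ⟨a, c, rfl⟩ := Submodule.mem_span_pair.1 hwX
        have q1 := congrArg Subtype.val (hw x (Submodule.subset_span (by simp)))
        have q2 := congrArg Subtype.val (hw y (Submodule.subset_span (by simp)))
        simp only [hf₀, emb_add, emb_smul, add_left C.unit, smul_left C.unit, hxx, hyy, mul_zero, zero_add,
          add_zero, ZeroMemClass.coe_zero] at q1 q2
        rw [show a = 0 from Subtype.ext ((mul_eq_zero.1 q2).resolve_right hxy),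
          show c = 0 from Subtype.ext ((mul_eq_zero.1 q1).resolve_right (ne_symm C.unit hxy))]
        simp
      rw [hbot, finrank_bot]
      omega
  obtain ⟨w₁, h₁, w₂, h₂, i₁, i₂, e⟩ := exists_iso_sub_aniso hU₀ hzX hbound
  have k : ∀ w ∈ uperp hU₀ X, f (emb F₀ P w) (emb F₀ P x) = 0 ∧ f (emb F₀ P w) (emb F₀ P y) = 0 :=
    fun w hw => ⟨by rw [← hf₀, hw x (Submodule.subset_span (by simp))]; rfl,
      by rw [← hf₀, hw y (Submodule.subset_span (by simp))]; rfl⟩
  refine ⟨_, emb_mem w₁, _, emb_mem w₂, by rw [← hf₀, i₁]; rfl, by rw [← hf₀, i₂]; rfl, (k _ h₁).1,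
    (k _ h₁).2, (k _ h₂).1, (k _ h₂).2, ?_⟩
  rw [eq_sub_iff_add_eq, ← emb_add, e, sub_add_cancel]

theorem smul_rat {c : F} (hc : c ∈ F₀) {x : ι → F} (hx : x ∈ ratVec F₀ P) : c • x ∈ ratVec F₀ P :=
  ratVec_smul hc hx

theorem trace_one : ∃ e ∈ F₀, e + σ e = 1 := by
  obtain ⟨σ₀, f₀, hs, -, hU₀⟩ := exists_form₀ C
  obtain ⟨e, he⟩ := exists_trace_one hU₀.involutive hU₀.ne_refl
  exact ⟨e, e.2, by have := congrArg Subtype.val he; simpa [hs] using this⟩

theorem skew_rat : ∃ c ∈ F₀, c ≠ 0 ∧ c + σ c = 0 := by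
  obtain ⟨θ, hθ, hne⟩ := C.moved
  exact ⟨θ - σ θ, F₀.sub_mem hθ (C.stable θ hθ), sub_ne_zero.2 (Ne.symm hne),
    sub_skew θ C.unit.involutive⟩

theorem norm_rat {a : F} (ha : a ∈ F₀) (hfix : σ a = a) : ∃ b ∈ F₀, b * σ b = a := by
  haveI : Fintype F₀ := Fintype.ofFinite _
  obtain ⟨σ₀, f₀, hs, -, hU₀⟩ := exists_form₀ C
  obtain ⟨b, hb⟩ := exists_norm hU₀.involutive hU₀.ne_refl (⟨a, ha⟩ : F₀) (Subtype.ext (by rw [hs]; exact hfix))
  exact ⟨b, b.2, by have := congrArg Subtype.val hb; simpa [hs] using this⟩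

/-- the coefficient at one rational point passes to an orthogonal one -/
theorem seed_step {l d : ι → F} (hl : l ∈ ratVec F₀ P) (hd : d ∈ ratVec F₀ P) (hll : f l l = 0)
    (hdd : f d d = 0) (hld : f l d = 0) (hind : ∀ a ∈ F₀, l ≠ a • d) {c : F} (hc : c + σ c = 0)
    (hM : utv C.unit l c ∈ M) :
    utv C.unit d c ∈ M ∧ ∀ s ∈ F₀, sieg C.unit l d (c * σ s) ∈ M := by
  have hU := C.unit
  have main : ∀ d, d ∈ ratVec F₀ P → f d d = 0 → f l d = 0 → (∀ a ∈ F₀, l ≠ a • d) →
      utv hU d c ∈ M ∧ ∀ s ∈ F₀, sieg hU l d (c * σ s) * utv hU d (c * s * σ s) ∈ M := by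
    intro d hd hdd hld hind
    obtain ⟨z, hz, hzz, hzd, -, hzl, hlz⟩ := partner C hd hd hl hll hld hld (fun a ha b hb h =>
      hind (a + b) (F₀.add_mem ha hb) (by rw [h, add_smul]))
    have hdz := eq_zero_symm hU hzd
    have hX : ∀ s ∈ F₀, sieg hU l d (c * σ s) * utv hU d (c * s * σ s) ∈ M := by
      intro s hs
      have hg := C.sieg_rat d hd z hz hdd hzz hdz s hs hU
      have := M.mul_mem (M.mul_mem hg hM) (M.inv_mem hg)
      rw [conj_utv hU (sieg_mem hU hdd hzz hdz s) hll, act_sieg hU hdd hzz hdz, hld, hlz, mul_zero,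
        zero_smul, sub_zero, mul_one, utv_shift hU hll hdd hld c s hc, mul_assoc] at this
      exact (M.mul_mem_cancel_left hM).1 this
    refine ⟨?_, hX⟩
    obtain ⟨e, he, he1⟩ := trace_one C
    have h12 := M.mul_mem (M.inv_mem (M.mul_mem (hX e he) (hX 1 F₀.one_mem))) (hX (e + 1) (F₀.add_mem he F₀.one_mem))
    have comm : ∀ A B, utv hU d A * sieg hU l d B = sieg hU l d B * utv hU d A := by
      intro A B
      apply gl_ext; intro x
      rw [act_mul, act_mul, act_sieg hU hll hdd hld, act_utv hU hdd, act_utv hU hdd, act_sieg hU hll hdd hld]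
      simp only [add_left hU, sub_left hU, smul_left hU, hdd, hld, eq_zero_symm hU hld]
      module
    have e' : sieg hU l d (c * σ e) * utv hU d (c * e * σ e) * (sieg hU l d (c * σ 1) * utv hU d (c * 1 * σ 1)) *
        utv hU d c = sieg hU l d (c * σ (e + 1)) * utv hU d (c * (e + 1) * σ (e + 1)) := by
      calc _ = sieg hU l d (c * σ e) * (utv hU d (c * e * σ e) * sieg hU l d (c * σ 1)) *
            (utv hU d (c * 1 * σ 1) * utv hU d c) := by group
        _ = (sieg hU l d (c * σ e) * sieg hU l d (c * σ 1)) *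
            (utv hU d (c * e * σ e) * (utv hU d (c * 1 * σ 1) * utv hU d c)) := by rw [comm]; group
        _ = _ := by
          rw [utv_add hU hdd, utv_add hU hdd, sieg_add hU hll hdd hld, map_add, mul_add, map_one,
            show c * e * σ e + (c * 1 * 1 + c) = c * (e + 1) * (σ e + 1) by linear_combination -c * he1]
    rw [← e', ← mul_assoc, inv_mul_cancel, one_mul] at h12
    exact h12
  refine ⟨(main d hd hdd hld hind).1, fun s hs => ?_⟩
  have h := (main d hd hdd hld hind).2 s hs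
  refine (M.mul_mem_cancel_right ?_).1 h
  rcases eq_or_ne s 0 with rfl | hs0
  · rw [mul_zero, zero_mul, utv_zero hU]; exact M.one_mem
  · have := (main (s • d) (smul_rat C hs hd) (by rw [smul_left hU, smul_right hU, hdd, mul_zero, mul_zero])
      (by rw [smul_right hU, hld, mul_zero]) (fun a ha h => hind (a * s) (F₀.mul_mem ha hs)
        (by rw [h, smul_smul]))).1
    rwa [utv_smul hU hdd, show s * σ s * c = c * s * σ s by ring] at this

/-- every transvection at a rational point with a given coefficient -/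
theorem seed_spread {l : ι → F} (hl : l ∈ ratVec F₀ P) (hl0 : l ≠ 0) (hll : f l l = 0) {c : F}
    (hc : c + σ c = 0) (hM : utv C.unit l c ∈ M) {l' : ι → F} (hl' : l' ∈ ratVec F₀ P)
    (hll' : f l' l' = 0) : utv C.unit l' c ∈ M := by
  have hU := C.unit
  rcases eq_or_ne l' 0 with rfl | hl'0
  · rw [show utv hU (0 : ι → F) c = 1 from gl_ext fun x => by
      rw [act_utv hU (zero_left hU 0), act_one]; simp]
    exact M.one_mem
  by_cases hdep : ∃ a ∈ F₀, l = a • l'
  · obtain ⟨a, ha, hla⟩ := hdep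
    have ha0 : a ≠ 0 := by rintro rfl; exact hl0 (by rw [hla, zero_smul])
    obtain ⟨d, hd, hdd, hdl, -, -, hout⟩ := iso_perp C hl hl (Or.inl rfl)
    have hdl' : f d l' = 0 := by
      rw [hla, smul_right hU, mul_eq_zero, or_iff_right ((map_ne_zero σ).2 ha0)] at hdl; exact hdl
    have h1 := (seed_step C hl hd hll hdd (eq_zero_symm hU hdl) (fun b hb h => by
      have hb0 : b ≠ 0 := by rintro rfl; exact hl0 (by rw [h, zero_smul])
      exact hout b⁻¹ (F₀.inv_mem hb) 0 F₀.zero_mem (by rw [h, inv_smul_smul₀ hb0]; simp)) hc hM).1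
    refine (seed_step C hd hl' hdd hll' hdl' (fun b hb h => ?_) hc h1).1
    exact hout (b / a) (F₀.div_mem hb ha) 0 F₀.zero_mem (by
      rw [h, hla, smul_smul, div_mul_cancel₀ _ ha0]; simp)
  push Not at hdep
  by_cases horth : f l l' = 0
  · exact (seed_step C hl hl' hll hll' horth hdep hc hM).1
  obtain ⟨d, hd, hdd, hdl, hdl', hd0, hout⟩ := iso_perp C hl hl' (Or.inr ⟨hll, hll', horth⟩)
  have h1 := (seed_step C hl hd hll hdd (eq_zero_symm hU hdl) (fun b hb h => by
    have hb0 : b ≠ 0 := by rintro rfl; exact hl0 (by rw [h, zero_smul])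
    exact hout b⁻¹ (F₀.inv_mem hb) 0 F₀.zero_mem (by rw [h, inv_smul_smul₀ hb0]; simp)) hc hM).1
  refine (seed_step C hd hl' hdd hll' hdl' ?_ hc h1).1
  intro a ha h
  exact hout 0 F₀.zero_mem a ha (by rw [h]; simp)

theorem finrank_eq : Module.finrank F₀ F = r := by
  haveI := Fintype.ofFinite F₀
  have e := Module.natCard_eq_pow_finrank (K := F₀) (V := F)
  rw [C.card] at e
  exact (Nat.pow_right_injective (Finite.one_lt_card (α := F₀)) e).symm

theorem simple_order : IsSimpleOrder (Subalgebra F₀ F) := by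
  haveI := Fintype.ofFinite F₀
  exact Subalgebra.isSimpleOrder_of_finrank_prime F₀ F ((finrank_eq C).symm ▸ C.prime)

/-- with a seed all transvections and Siegel elements at rational points are in `M` -/
theorem root_rat (hs : Seed C.unit F₀ P M) :
    (∀ a ∈ ratVec F₀ P, f a a = 0 → RootIn C.unit M a) ∧
    ∀ a ∈ ratVec F₀ P, ∀ b ∈ ratVec F₀ P, f a a = 0 → f b b = 0 → f a b = 0 → (∀ k ∈ F₀, a ≠ k • b) →
      ∀ t, sieg C.unit a b t ∈ M := by
  have hU := C.unit
  obtain ⟨l, hl, hl0, hll, c, hc, hcF, hM⟩ := hs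
  have hcM := fun (x : ι → F) hx hxx => seed_spread C hl hl0 hll hc hM (l' := x) hx hxx
  let G : F → Prop := fun t => ∀ a ∈ ratVec F₀ P, ∀ b ∈ ratVec F₀ P, f a a = 0 → f b b = 0 → f a b = 0 →
    (∀ k ∈ F₀, a ≠ k • b) → sieg hU a b t ∈ M
  have hG1 : ∀ k ∈ F₀, G k := fun k hk a ha b hb i1 i2 i3 _ => C.sieg_rat a ha b hb i1 i2 i3 k hk hU
  -- commutators of two Siegel elements are transvections at rational points
  have hGmul : ∀ S T, G S → G T → G (S * σ T) := by
    intro S T hS hT a ha d hd haa hdd had hind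
    rcases eq_or_ne d 0 with rfl | hd0
    · rw [show sieg hU a 0 (S * σ T) = 1 from gl_ext fun x => by
        rw [act_sieg hU haa hdd had, zero_right hU, act_one]; simp]
      exact M.one_mem
    obtain ⟨z, hz, hzz, hzd, -, hza, haz⟩ := partner C hd hd ha haa had had
      (fun x hx y hy h => hind (x + y) (F₀.add_mem hx hy) (by rw [h, add_smul]))
    have hda := eq_zero_symm hU had
    have hS' := hS a ha d hd haa hdd had hind
    have key : ∀ k ∈ F₀, utv hU d (S * σ T * σ k - T * k * σ S) ∈ M := by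
      intro k hk
      have hTk : sieg hU z d (T * k) ∈ M := by
        rcases eq_or_ne k 0 with rfl | hk0
        · rw [show sieg hU z d (T * 0) = 1 from gl_ext fun x => by
            rw [act_sieg hU hzz hdd hzd, mul_zero, act_one, map_zero]; simp]
          exact M.one_mem
        have hz' : f (k • z) (k • z) = 0 := by rw [smul_left hU, smul_right hU, hzz, mul_zero, mul_zero]
        have h := hT (k • z) (smul_rat C hk hz) d hd hz' hdd (by rw [smul_left hU, hzd, mul_zero])
          (fun m _ h => by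
            have := congrArg (f · a) h
            simp only [smul_left hU, hza, hda, mul_zero, mul_one] at this
            exact hk0 this)
        rwa [sieg_smul_left hU hzz hdd hzd] at h
      have h := M.mul_mem (M.inv_mem hTk) (M.mul_mem (M.mul_mem hS' hTk) (M.inv_mem hS'))
      rw [conj_sieg hU (sieg_mem hU haa hdd had S) hzd, act_sieg hU haa hdd had, act_sieg hU haa hdd had,
        hzd, hza, hdd, hda] at h
      simp only [mul_zero, zero_smul, add_zero, sub_zero, mul_one] at h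
      convert h using 1
      rw [eq_inv_mul_iff_mul_eq]
      apply gl_ext; intro x
      rw [act_mul, act_sieg hU hzz hdd hzd, act_utv hU hdd, act_sieg hU (by
          simp only [sub_left hU, sub_right hU, smul_left hU, smul_right hU, hzz, hzd, eq_zero_symm hU hzd, hdd]
          ring) hdd (by rw [sub_left hU, smul_left hU, hzd, hdd]; ring)]
      simp only [add_left hU, smul_left hU, sub_right hU, smul_right hU, map_mul, hU.involutive, hdd,
        eq_zero_symm hU hzd]
      match_scalars <;> ring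
    have hskew : ∀ k : F, (S * σ T * σ k - T * k * σ S) + σ (S * σ T * σ k - T * k * σ S) = 0 := by
      intro k; simp only [map_sub, map_mul, hU.involutive]; ring
    have hstep : ∀ k ∈ F₀, ∀ u ∈ F₀, sieg hU a d ((S * σ T * σ k - T * k * σ S) * σ u) ∈ M := by
      intro k hk u hu
      have hind' : ∀ m ∈ F₀, d ≠ m • a := fun m hm h => by
        have hm0 : m ≠ 0 := by rintro rfl; exact hd0 (by rw [h, zero_smul])
        exact hind m⁻¹ (F₀.inv_mem hm) (by rw [h, inv_smul_smul₀ hm0])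
      have h1 := (seed_step C hd ha hdd haa hda hind' (hskew k) (key k hk)).1
      exact (seed_step C ha hd haa hdd had hind (hskew k) h1).2 u hu
    obtain ⟨θ, hθ, hne⟩ := C.moved
    have hw : (θ - σ θ)⁻¹ ∈ F₀ := F₀.inv_mem (F₀.sub_mem hθ (C.stable θ hθ))
    have h := M.mul_mem (hstep 1 F₀.one_mem (σ (θ * (θ - σ θ)⁻¹)) (C.stable _ (F₀.mul_mem hθ hw)))
      (hstep θ hθ (σ (-(θ - σ θ)⁻¹)) (C.stable _ (F₀.neg_mem hw)))
    rw [sieg_add hU haa hdd had] at h
    convert h using 2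
    simp only [hU.involutive, map_one]
    field_simp [sub_ne_zero.2 (Ne.symm hne)]
    ring
  have hGconj : ∀ T, G T → G (σ T) := fun T hT => by simpa using hGmul 1 T (hG1 1 F₀.one_mem) hT
  let D : Subalgebra F₀ F :=
    { carrier := {t | G t}
      add_mem' := fun {s t} hs ht a ha b hb i1 i2 i3 i4 => by
        rw [← sieg_add hU i1 i2 i3]; exact M.mul_mem (hs a ha b hb i1 i2 i3 i4) (ht a ha b hb i1 i2 i3 i4)
      mul_mem' := fun {s t} hs ht => by
        show G (s * t)
        have := hGmul s (σ t) hs (hGconj t ht)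
        rwa [hU.involutive] at this
      algebraMap_mem' := fun k => hG1 k k.2 }
  have hcD : c ∈ D := fun a ha b hb i1 i2 i3 i4 => by
    have := (seed_step C ha hb i1 i2 i3 i4 hc (hcM a ha i1)).2 1 F₀.one_mem
    rwa [map_one, mul_one] at this
  have hD : D = ⊤ := by
    haveI := simple_order C
    refine (IsSimpleOrder.eq_bot_or_eq_top D).resolve_left fun h => hcF ?_
    rw [h, Algebra.mem_bot] at hcD
    obtain ⟨e, rfl⟩ := hcD
    exact e.2
  have hall : ∀ t, t ∈ D := fun t => hD ▸ Algebra.mem_top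
  refine ⟨fun d hd hdd => ⟨hdd, fun c' hc' => ?_⟩, fun a ha b hb i1 i2 i3 i4 t => hall t a ha b hb i1 i2 i3 i4⟩
  rcases eq_or_ne d 0 with rfl | hd0
  · rw [show utv hU (0 : ι → F) c' = 1 from gl_ext fun x => by
      rw [act_utv hU (zero_left hU 0), act_one]; simp]
    exact M.one_mem
  obtain ⟨l, hl, hll, hld, -, hl0, hout⟩ := iso_perp C hd hd (Or.inl rfl)
  have hind : ∀ k ∈ F₀, l ≠ k • d := fun k hk h => hout k hk 0 F₀.zero_mem (by rw [h]; simp)
  obtain ⟨b', hb', hb'b', hb'd, -, -, hlb'⟩ := partner C hd hd hl hll hld hld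
    (fun x hx y hy h => hind (x + y) (F₀.add_mem hx hy) (by rw [h, add_smul]))
  obtain ⟨e, he⟩ := exists_trace_one hU.involutive hU.ne_refl
  have hdb' := eq_zero_symm hU hb'd
  have h1 := C.sieg_rat d hd b' hb' hdd hb'b' hdb' 1 F₀.one_mem hU
  have h2 := hall (c' * e) l hl d hd hll hdd hld hind
  have h3 := M.mul_mem (M.mul_mem h1 h2) (M.inv_mem h1)
  rw [conj_sieg hU (sieg_mem hU hdd hb'b' hdb' 1) hld, act_sieg hU hdd hb'b' hdb', act_sieg hU hdd hb'b' hdb',
    hld, hlb', hdd, hdb'] at h3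
  simp only [mul_zero, zero_smul, sub_zero, add_zero, mul_one, one_smul] at h3
  rw [← sieg_add_left hU hll hdd hld hdd hld hdd] at h3
  have h4 := (M.mul_mem_cancel_left h2).1 h3
  convert h4 using 1
  apply gl_ext; intro x
  rw [act_utv hU hdd, act_sieg hU hdd hdd hdd, map_mul, show σ c' = -c' from eq_neg_of_add_eq_zero_right hc',
    add_sub_assoc, ← sub_smul]
  congr 2
  linear_combination -(c' * f x d) * he

/-- a seed gives all transvections -/
theorem utv_all (hs : Seed C.unit F₀ P M) (v : ι → F) (hvv : f v v = 0) : RootIn C.unit M v := by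
  have hU := C.unit
  obtain ⟨hroot, hsieg⟩ := root_rat C hs
  rcases eq_or_ne v 0 with rfl | hv0
  · refine ⟨hvv, fun c _ => ?_⟩
    rw [show utv hU (0 : ι → F) c = 1 from gl_ext fun x => by
      rw [act_utv hU (zero_left hU 0), act_one]; simp]
    exact M.one_mem
  -- a rational isotropic vector not orthogonal to `v`
  obtain ⟨e, he, hee, hve⟩ : ∃ e ∈ ratVec F₀ P, f e e = 0 ∧ f v e ≠ 0 := by
    by_contra hno; push Not at hno
    apply hv0
    refine eq_zero_of_perp C fun x hx => ?_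
    have h0 : (0 : ι → F) ∈ ratVec F₀ P := Submodule.zero_mem _
    obtain ⟨w₁, h₁, w₂, h₂, i₁, i₂, -, -, -, -, rfl⟩ := iso_sub C h0 h0 hx (zero_right hU _) (zero_right hU _) (Or.inl rfl)
    rw [sub_left hU, eq_zero_symm hU (hno w₁ h₁ i₁), eq_zero_symm hU (hno w₂ h₂ i₂), sub_zero]
  have he0 : e ≠ 0 := fun h => hve (by rw [h, zero_right hU])
  have h0 : (0 : ι → F) ∈ ratVec F₀ P := Submodule.zero_mem _
  obtain ⟨e', he', he'e', -, -, he'e, hee'⟩ := partner C h0 h0 he hee (zero_right hU _) (zero_right hU _)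
    (fun a _ b _ h => he0 (by rw [h]; simp))
  obtain ⟨v₁, hv₁⟩ : ∃ v₁, v₁ = (f v e)⁻¹ • v := ⟨_, rfl⟩
  have h1e : f v₁ e = 1 := by rw [hv₁, smul_left hU, inv_mul_cancel₀ hve]
  suffices RootIn hU M v₁ by
    have := rootIn_smul hU this (f v e)
    rwa [hv₁, smul_inv_smul₀ hve] at this
  -- moving `e'`
  let S : Set (ι → F) := {w | ∃ h ∈ M, h ∈ uiso f ∧ act h e = e ∧ (∃ t : F, act h e' = e' + w + t • e) ∧
    ∀ x, f x e = 0 → ∃ k : F, act h x - x - k • e = 0}
  have hS0 : (0 : ι → F) ∈ S := ⟨1, M.one_mem, one_mem _, act_one e, ⟨0, by rw [act_one]; simp⟩,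
    fun x _ => ⟨0, by rw [act_one]; simp⟩⟩
  have hSadd : ∀ w₁ w₂, w₁ ∈ S → w₂ ∈ S → f w₂ e = 0 → w₁ + w₂ ∈ S := by
    rintro w₁ w₂ ⟨h, hh, hi, h1, ⟨t, ht⟩, h2⟩ ⟨h', hh', hi', h1', ⟨t', ht'⟩, h2'⟩ hwe
    refine ⟨h * h', M.mul_mem hh hh', mul_mem hi hi', by rw [act_mul, h1', h1], ?_, fun x hx => ?_⟩
    · obtain ⟨k, hk⟩ := h2 w₂ hwe
      refine ⟨t + k + t', ?_⟩
      rw [act_mul, ht', map_add, map_add, map_smul, h1, ht]
      linear_combination (norm := module) hk
    · obtain ⟨k', hk'⟩ := h2' x hx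
      obtain ⟨k, hk⟩ := h2 x hx
      refine ⟨k + k', ?_⟩
      rw [act_mul, show act h' x = x + k' • e by linear_combination (norm := module) hk', map_add, map_smul, h1]
      linear_combination (norm := module) hk
  have hSiso : ∀ b ∈ ratVec F₀ P, f b b = 0 → f b e = 0 → f b e' = 0 → ∀ t : F, t • b ∈ S := by
    intro b hb hbb hbe hbe' t
    rcases eq_or_ne b 0 with rfl | hb0
    · rw [smul_zero]; exact hS0
    have hind : ∀ k ∈ F₀, b ≠ k • e := fun k _ h => by
      rw [h, smul_left hU, hee', mul_one] at hbe'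
      exact hb0 (by rw [h, hbe', zero_smul])
    refine ⟨_, hsieg b hb e he hbb hee hbe hind t, sieg_mem hU hbb hee hbe t, ?_, ⟨0, ?_⟩, fun x hx => ?_⟩
    · rw [act_sieg hU hbb hee hbe, hee, eq_zero_symm hU hbe]; simp
    · rw [act_sieg hU hbb hee hbe, he'e, eq_zero_symm hU hbe']; simp
    · refine ⟨-(σ t * f x b), ?_⟩
      rw [act_sieg hU hbb hee hbe, hx]
      module
  let p : (ι → F) →ₗ[F] (ι → F) :=
    LinearMap.id - (flinU hU e).smulRight e' - (flinU hU e').smulRight e
  have hp : ∀ x, p x = x - f x e • e' - f x e' • e := fun x => rfl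
  have hpe : ∀ x, f (p x) e = 0 ∧ f (p x) e' = 0 := fun x => by
    rw [hp, sub_left hU, sub_left hU, sub_left hU, sub_left hU, smul_left hU, smul_left hU, smul_left hU,
      smul_left hU, hee, he'e', he'e, hee']
    constructor <;> ring
  have hpS : ∀ u : ι → F, p (act P u) ∈ S := by
    intro u
    induction u using Pi.single_induction with
    | zero => rw [map_zero, map_zero]; exact hS0
    | add a b ha hb => rw [map_add, map_add]; exact hSadd _ _ ha hb (hpe _).1
    | single i k =>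
      have hx := ratVec_basis F₀ P i
      rw [show (Pi.single i k : ι → F) = k • Pi.single i 1 by ext j; simp [Pi.single_apply], map_smul, map_smul]
      have hpx : p (act P (Pi.single i 1)) ∈ ratVec F₀ P := by
        rw [hp]
        exact Submodule.sub_mem _ (Submodule.sub_mem _ hx (smul_rat C (C.rat _ hx _ he) he'))
          (smul_rat C (C.rat _ hx _ he') he)
      obtain ⟨w₁, h₁, w₂, h₂, i₁, i₂, a1, a2, b1, b2, e12⟩ := iso_sub C he he' hpx (hpe _).1 (hpe _).2
        (Or.inr ⟨hee, he'e', by rw [hee']; exact one_ne_zero⟩)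
      rw [e12, smul_sub, sub_eq_add_neg, ← neg_smul]
      exact hSadd _ _ (hSiso w₁ h₁ i₁ a1 a2 k) (hSiso w₂ h₂ i₂ b1 b2 (-k)) (by rw [smul_left hU, b1, mul_zero])
  obtain ⟨h, hh, hi, hhe, ⟨t, ht⟩, -⟩ := hpS (act P⁻¹ v₁)
  rw [act_act_inv, hp, h1e, one_smul] at ht
  obtain ⟨δ, hδ⟩ : ∃ δ, δ = f v₁ e' - t := ⟨_, rfl⟩
  have hv1 : v₁ = act h e' + δ • e := by rw [ht, hδ]; module
  have hA : RootIn hU M (act h e') := rootIn_conj hU hh hi (hroot e' he' he'e')
  have hAe : f (act h e') e = 1 := by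
    conv_lhs => rw [← hhe, mem_uiso.1 hi, he'e]
  have hskew : δ + σ δ = 0 := by
    have h0' : f v₁ v₁ = 0 := by rw [hv₁, smul_left hU, smul_right hU, hvv, mul_zero, mul_zero]
    rw [hv1, add_left hU, add_right hU, add_right hU, smul_left hU, smul_left hU, smul_right hU, smul_right hU,
      hA.1, hee, hAe, ← herm' hU (act h e') e, hAe, map_one] at h0'
    linear_combination h0'
  have := rootIn_conj hU ((hroot e he hee).2 δ hskew) (utv_mem hU hee hskew) hA
  rwa [act_utv hU hee, hAe, mul_one, ← hv1] at this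

end

end Cfsg.Agent.MaxCl.USub
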