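/-
An irrational transvection in an overgroup of a unitary group over a subfield of odd prime degree gives a
transvection at a rational point with irrational coefficient, so the subfield group is maximal.

If the centre is orthogonal to a rational isotropic vector this is a commutator computation. Otherwise the
elements of `M` inducing the identity modulo the span of the centre `v` and of two orthogonal rational isotropic
vectors act on a hyperbolic plane; the element inducing `-1` (odd characteristic) resp. the preimages of a full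
root group (characteristic two: an upper triangular element) send a rational point to an irrational one.
-/
import Mathlib
import Cfsg.Agent.Lib.MaxCl.UnitarySubfieldBase
import Cfsg.Agent.Lib.MaxCl.SLTwoSub

set_option autoImplicit false

namespace Cfsg.Agent.MaxCl.USub

open Cfsg.Agent.MaxCl.Unit
open scoped MatrixGroups Matrix

variable {ι : Type} [Fintype ι] [DecidableEq ι] {F : Type*} [Field F] [Fintype F]
variable {σ : F ≃+* F} {f : (ι → F) → (ι → F) → F} {F₀ : Subfield F} {P : GL ι F} {r : ℕ}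
  {M : Subgroup (GL ι F)}

/-- `v` is a multiple of a rational vector with a rational coefficient -/
def RatPoint (σ : F ≃+* F) (F₀ : Subfield F) (P : GL ι F) (v : ι → F) (c : F) : Prop :=
  ∃ s : F, ∃ v₀ ∈ ratVec F₀ P, v = s • v₀ ∧ c * s * σ s ∈ F₀

section

variable (C : Ctx σ f F₀ P r M)
include C

theorem mem_of_two_traces {x y : F} (h : ∀ s ∈ F₀, s * x + σ s * y ∈ F₀) : x ∈ F₀ := by
  obtain ⟨θ, hθ, hne⟩ := C.moved
  have h1 := h 1 F₀.one_mem
  have h2 := h θ hθ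
  rw [map_one, one_mul, one_mul] at h1
  have hd : (θ - σ θ) * x ∈ F₀ := by
    have := F₀.sub_mem h2 (F₀.mul_mem (C.stable θ hθ) h1)
    convert this using 1; ring
  have := F₀.mul_mem (F₀.inv_mem (F₀.sub_mem hθ (C.stable θ hθ))) hd
  rwa [← mul_assoc, inv_mul_cancel₀ (sub_ne_zero.2 (Ne.symm hne)), one_mul] at this

/-- a transvection at a multiple of a rational point -/
theorem seed_or_point {v₀ : ι → F} (hv₀ : v₀ ∈ ratVec F₀ P) {s c : F} (hc : c + σ c = 0)
    (hvv : f (s • v₀) (s • v₀) = 0) (hM : utv C.unit (s • v₀) c ∈ M) :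
    Seed C.unit F₀ P M ∨ RatPoint σ F₀ P (s • v₀) c := by
  have hU := C.unit
  by_cases h : c * s * σ s ∈ F₀
  · exact Or.inr ⟨s, v₀, hv₀, rfl, h⟩
  have hs : s ≠ 0 := by rintro rfl; simp [F₀.zero_mem] at h
  rw [smul_left hU, smul_right hU] at hvv
  have h0 : f v₀ v₀ = 0 := by simpa [hs] using hvv
  rcases eq_or_ne v₀ 0 with rfl | hv0
  · exact Or.inr ⟨0, 0, Submodule.zero_mem _, by simp, by simp [F₀.zero_mem]⟩
  refine Or.inl ⟨v₀, hv₀, hv0, h0, c * s * σ s, ?_, h, ?_⟩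
  · rw [map_mul, map_mul, hU.involutive]
    linear_combination (s * σ s) * hc
  · rwa [utv_smul hU h0, show s * σ s * c = c * s * σ s by ring] at hM

/-- a centre orthogonal to a rational isotropic vector -/
theorem seed_or_decomp {v b : ι → F} (hb : b ∈ ratVec F₀ P) (hb0 : b ≠ 0) (hbb : f b b = 0)
    (hvv : f v v = 0) (hvb : f v b = 0) {c : F} (hc : c + σ c = 0) (hc0 : c ≠ 0)
    (hM : utv C.unit v c ∈ M) :
    Seed C.unit F₀ P M ∨ ∃ s t : F, ∃ v₀ ∈ ratVec F₀ P, v = s • v₀ + t • b := by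
  have hU := C.unit
  by_cases hseed : Seed hU F₀ P M
  · exact Or.inl hseed
  right
  have hcs : σ c = -c := eq_neg_of_add_eq_zero_right hc
  have hshift : ∀ d ∈ ratVec F₀ P, f d d = 0 → f b d = 0 → ∀ s ∈ F₀,
      utv hU (v + (s * f v d) • b) c ∈ M := by
    intro d hd hdd hbd s hs
    have hg := C.sieg_rat b hb d hd hbb hdd hbd s hs hU
    have := M.mul_mem (M.mul_mem hg hM) (M.inv_mem hg)
    rwa [conj_utv hU (sieg_mem hU hbb hdd hbd s) hvv, act_sieg hU hbb hdd hbd, hvb, mul_zero, zero_smul,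
      sub_zero] at this
  let Γ : Set F := {γ | utv hU (v + γ • b) c ∈ M}
  have htr : ∀ γ₁ γ₂ : F, γ₁ ∈ Γ → γ₂ ∈ Γ → γ₁ + γ₂ ∈ Γ → c * (γ₁ * σ γ₂ + γ₂ * σ γ₁) ∈ F₀ := by
    intro γ₁ γ₂ h1 h2 h3
    by_contra hno
    apply hseed
    refine ⟨b, hb, hb0, hbb, c * (γ₁ * σ γ₂ + γ₂ * σ γ₁), ?_, hno, ?_⟩
    · rw [map_mul, map_add, map_mul, map_mul, hU.involutive, hU.involutive, hcs]; ring
    have hm := M.mul_mem (M.inv_mem (M.mul_mem (M.mul_mem h1 (M.inv_mem hM)) h2)) h3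
    have e : utv hU (v + γ₁ • b) c * (utv hU v c)⁻¹ * utv hU (v + γ₂ • b) c *
        utv hU b (c * (γ₁ * σ γ₂ + γ₂ * σ γ₁)) = utv hU (v + (γ₁ + γ₂) • b) c := by
      have hv : ∀ γ : F, f (v + γ • b) (v + γ • b) = 0 := fun γ => by
        rw [add_left hU, add_right hU, add_right hU, smul_left hU, smul_left hU, smul_right hU, smul_right hU,
          hvv, hbb, hvb, eq_zero_symm hU hvb]
        ring
      apply gl_ext; intro x
      rw [← utv_neg hU hvv, act_mul, act_mul, act_mul, act_utv hU (hv _), act_utv hU hvv, act_utv hU (hv _),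
        act_utv hU hbb, act_utv hU (hv _)]
      simp only [map_add, add_left hU, add_right hU, smul_left hU, smul_right hU, hvv, hbb, hvb,
        eq_zero_symm hU hvb]
      module
    rwa [← e, inv_mul_cancel_left] at hm
  -- products of two values
  have hprod : ∀ x ∈ ratVec F₀ P, f b x = 0 → ∀ y ∈ ratVec F₀ P, f b y = 0 → c * (f v x * σ (f v y)) ∈ F₀ := by
    have hiso : ∀ x ∈ ratVec F₀ P, f x x = 0 → f b x = 0 → ∀ y ∈ ratVec F₀ P, f y y = 0 → f b y = 0 →
        c * (f v x * σ (f v y)) ∈ F₀ := by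
      intro x hx hxx hbx y hy hyy hby
      refine mem_of_two_traces C (y := c * (σ (f v x) * f v y)) fun s hs => ?_
      have h1 := hshift x hx hxx hbx s hs
      have h2 := hshift y hy hyy hby 1 F₀.one_mem
      have h3 : utv hU (v + (s * f v x + 1 * f v y) • b) c ∈ M := by
        have hg := C.sieg_rat b hb x hx hbb hxx hbx s hs hU
        have := M.mul_mem (M.mul_mem hg h2) (M.inv_mem hg)
        rw [conj_utv hU (sieg_mem hU hbb hxx hbx s) (by
            rw [add_left hU, add_right hU, add_right hU, smul_left hU, smul_left hU, smul_right hU, smul_right hU,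
              hvv, hbb, hvb, eq_zero_symm hU hvb]; ring), act_sieg hU hbb hxx hbx] at this
        convert this using 2
        simp only [add_left hU, smul_left hU, hvb, hbb, hbx]
        module
      have := htr _ _ h1 h2 h3
      convert this using 1
      simp only [map_mul, map_one, one_mul]; ring
    intro x hx hbx y hy hby
    have h0 : (0 : ι → F) ∈ ratVec F₀ P := Submodule.zero_mem _
    obtain ⟨x₁, a₁, x₂, a₂, i₁, i₂, o₁, -, o₂, -, rfl⟩ :=
      iso_sub C hb h0 hx (eq_zero_symm hU hbx) (zero_right hU _) (Or.inl rfl)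
    obtain ⟨y₁, b₁, y₂, b₂, j₁, j₂, p₁, -, p₂, -, rfl⟩ :=
      iso_sub C hb h0 hy (eq_zero_symm hU hby) (zero_right hU _) (Or.inl rfl)
    have k := fun u hu iu ou w hw iw ow => hiso u hu iu (eq_zero_symm hU ou) w hw iw (eq_zero_symm hU ow)
    have := F₀.add_mem (F₀.sub_mem (k x₁ a₁ i₁ o₁ y₁ b₁ j₁ p₁) (k x₁ a₁ i₁ o₁ y₂ b₂ j₂ p₂))
      (F₀.sub_mem (k x₂ a₂ i₂ o₂ y₂ b₂ j₂ p₂) (k x₂ a₂ i₂ o₂ y₁ b₁ j₁ p₁))
    convert this using 1
    simp only [sub_right hU, map_sub]; ring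
  have h0 : (0 : ι → F) ∈ ratVec F₀ P := Submodule.zero_mem _
  obtain ⟨b', hb', hb'b', -, -, hb'b, hbb'⟩ := partner C h0 h0 hb hbb (zero_right hU _) (zero_right hU _)
    (fun a _ d _ h => hb0 (by rw [h]; simp))
  have hext : ∀ w : ι → F, (∀ x ∈ ratVec F₀ P, f b x = 0 → f x w = 0) → ∃ t : F, w = t • b := by
    intro w hw
    refine ⟨σ (f b' w), ?_⟩
    refine sub_eq_zero.1 (eq_zero_of_perp C fun x hx => ?_)
    have hk := C.rat x hx b hb
    have := hw (x - f x b • b') (Submodule.sub_mem _ hx (smul_rat C hk hb'))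
      (by rw [sub_right hU, smul_right hU, herm' hU, hbb', mul_one, sub_self])
    rw [sub_left hU, smul_left hU] at this
    rw [sub_right hU, smul_right hU, hU.involutive]
    linear_combination this
  by_cases hall : ∀ x ∈ ratVec F₀ P, f b x = 0 → f v x = 0
  · obtain ⟨t, ht⟩ := hext v fun x hx hbx => eq_zero_symm hU (hall x hx hbx)
    exact ⟨0, t, 0, Submodule.zero_mem _, by rw [ht]; simp⟩
  push Not at hall
  obtain ⟨x₁, hx₁, hbx₁, hne⟩ := hall
  obtain ⟨γ, hγ⟩ : ∃ γ, γ = f v x₁ := ⟨_, rfl⟩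
  have hratio : ∀ x ∈ ratVec F₀ P, f b x = 0 → f x v / σ γ ∈ F₀ := by
    intro x hx hbx
    have hq : f v x / γ ∈ F₀ := by
      have := F₀.div_mem (hprod x hx hbx x₁ hx₁ hbx₁) (hprod x₁ hx₁ hbx₁ x₁ hx₁ hbx₁)
      rw [← hγ, mul_div_mul_left _ _ hc0, mul_div_mul_right _ _ ((map_ne_zero σ).2 (hγ ▸ hne))] at this
      exact this
    have := C.stable _ hq
    rwa [map_div₀, herm' hU] at this
  obtain ⟨σ₀, f₀, hs₀, hf₀, hU₀⟩ := exists_form₀ C
  haveI : Fintype F₀ := Fintype.ofFinite _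
  have hproj : ∀ u : ι → F₀, emb F₀ P u - f (emb F₀ P u) b • b' ∈ ratVec F₀ P ∧
      f b (emb F₀ P u - f (emb F₀ P u) b • b') = 0 := fun u =>
    ⟨Submodule.sub_mem _ (emb_mem u) (smul_rat C (C.rat _ (emb_mem u) _ hb) hb'),
      by rw [sub_right hU, smul_right hU, herm' hU, hbb', mul_one, sub_self]⟩
  let φ : (ι → F₀) →ₗ[F₀] F₀ :=
    { toFun := fun u => ⟨f (emb F₀ P u - f (emb F₀ P u) b • b') v / σ γ,
        hratio _ (hproj u).1 (hproj u).2⟩
      map_add' := fun u u' => Subtype.ext (by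
        show _ / _ = _ / _ + _ / _
        simp only [emb_add, add_left hU, sub_left hU, smul_left hU]; ring)
      map_smul' := fun k u => Subtype.ext (by
        show _ / _ = (k : F) * (_ / _)
        simp only [emb_smul, sub_left hU, smul_left hU]; ring) }
  obtain ⟨w, hw⟩ := Cfsg.Agent.MaxCl.Unit.exists_repr hU₀ φ
  obtain ⟨t, ht⟩ := hext (v - γ • emb F₀ P w) fun x hx hbx => by
    obtain ⟨u, rfl⟩ := exists_emb hx
    have h := congrArg Subtype.val (hw u)
    simp only [hf₀] at h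
    have h' : f (emb F₀ P u - f (emb F₀ P u) b • b') v / σ γ = f (emb F₀ P u) (emb F₀ P w) := h
    rw [show f (emb F₀ P u) b = 0 from eq_zero_symm hU hbx, zero_smul, sub_zero] at h'
    rw [sub_right hU, smul_right hU, ← h', mul_div_cancel₀ _ ((map_ne_zero σ).2 (hγ ▸ hne)), sub_self]
  exact ⟨γ, t, emb F₀ P w, emb_mem w, by rw [← ht, add_sub_cancel]⟩

/-- a centre orthogonal to a rational isotropic vector is a rational point, or there is a seed -/
theorem seed_or_rat {v b : ι → F} (hb : b ∈ ratVec F₀ P) (hb0 : b ≠ 0) (hbb : f b b = 0)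
    (hvv : f v v = 0) (hvb : f v b = 0) {c : F} (hc : c + σ c = 0) (hc0 : c ≠ 0)
    (hM : utv C.unit v c ∈ M) : Seed C.unit F₀ P M ∨ RatPoint σ F₀ P v c := by
  have hU := C.unit
  by_cases hseed : Seed hU F₀ P M
  · exact Or.inl hseed
  obtain ⟨s, t, v₀, hv₀, hv⟩ := (seed_or_decomp C hb hb0 hbb hvv hvb hc hc0 hM).resolve_left hseed
  suffices ∃ s' : F, ∃ v' ∈ ratVec F₀ P, v = s' • v' by
    obtain ⟨s', v', hv', e⟩ := this
    rw [e] at hM hvv ⊢
    exact seed_or_point C hv' hc hvv hM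
  rcases eq_or_ne s 0 with rfl | hs
  · exact ⟨t, b, hb, by rw [hv]; simp⟩
  rcases eq_or_ne t 0 with rfl | ht
  · exact ⟨s, v₀, hv₀, by rw [hv]; simp⟩
  have hv₀b : f v₀ b = 0 := by
    rw [hv, add_left hU, smul_left hU, smul_left hU, hbb, mul_zero, add_zero] at hvb
    exact (mul_eq_zero.1 hvb).resolve_left hs
  have hv₀v₀ : f v₀ v₀ = 0 := by
    rw [hv] at hvv
    simp only [add_left hU, add_right hU, smul_left hU, smul_right hU, hbb, hv₀b, eq_zero_symm hU hv₀b,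
      mul_zero, add_zero] at hvv
    simpa [hs] using hvv
  by_cases hdep : ∃ k ∈ F₀, v₀ = k • b
  · obtain ⟨k, -, rfl⟩ := hdep
    exact ⟨s * k + t, b, hb, by rw [hv]; module⟩
  push Not at hdep
  obtain ⟨m, hm, hmm, hmb, -, -, hv₀m⟩ := partner C hb hb hv₀ hv₀v₀ hv₀b hv₀b
    (fun x hx y hy h => hdep (x + y) (F₀.add_mem hx hy) (by rw [h, add_smul]))
  have hbv₀ := eq_zero_symm hU hv₀b
  obtain ⟨C0, hC0⟩ : ∃ C0, C0 = c * s * σ s := ⟨_, rfl⟩
  have hC0s : C0 + σ C0 = 0 := by rw [hC0, map_mul, map_mul, hU.involutive]; linear_combination (s * σ s) * hc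
  have hC00 : C0 ≠ 0 := hC0 ▸ mul_ne_zero (mul_ne_zero hc0 hs) ((map_ne_zero σ).2 hs)
  let w : F → ι → F := fun γ => v₀ + γ • b
  have hw : ∀ γ, f (w γ) (w γ) = 0 := fun γ => by
    simp only [w, add_left hU, add_right hU, smul_left hU, smul_right hU, hv₀v₀, hbb, hv₀b, hbv₀]; ring
  have hMτ : utv hU (w (t / s)) C0 ∈ M := by
    rw [hC0, show c * s * σ s = s * σ s * c by ring, ← utv_smul hU (hw _)]
    simpa only [w, smul_add, smul_smul, mul_div_cancel₀ _ hs, ← hv] using hM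
  have hV : ∀ γ, utv hU (w γ) C0 ∈ M → ∀ x ∈ F₀, utv hU (w (γ + x)) C0 ∈ M := by
    intro γ h x hx
    have hg := C.sieg_rat b hb m hm hbb hmm (eq_zero_symm hU hmb) x hx hU
    have h' := M.mul_mem (M.mul_mem hg h) (M.inv_mem hg)
    rw [conj_utv hU (sieg_mem hU hbb hmm (eq_zero_symm hU hmb) x) (hw γ),
      act_sieg hU hbb hmm (eq_zero_symm hU hmb)] at h'
    convert h' using 2
    simp only [w, add_left hU, smul_left hU, hv₀m, hv₀b, hbb, eq_zero_symm hU hmb]
    module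
  have hid : ∀ γ x y : F, utv hU (w (γ + x + y)) C0 * utv hU (w γ) C0 =
      utv hU b (C0 * (x * σ y + y * σ x)) * utv hU (w (γ + x)) C0 * utv hU (w (γ + y)) C0 := by
    intro γ x y
    apply gl_ext; intro z
    rw [act_mul, act_mul, act_mul, act_utv hU (hw _), act_utv hU (hw _), act_utv hU hbb, act_utv hU (hw _),
      act_utv hU (hw _)]
    simp only [w, map_add, add_left hU, add_right hU, smul_left hU, smul_right hU, hv₀v₀, hbb, hv₀b, hbv₀]
    match_scalars <;> ring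
  have hkey : ∀ γ x y : F, utv hU (w (γ + x + y)) C0 ∈ M → utv hU (w γ) C0 ∈ M →
      utv hU (w (γ + x)) C0 ∈ M → utv hU (w (γ + y)) C0 ∈ M → C0 * (x * σ y + y * σ x) ∈ F₀ := by
    intro γ x y h1 h2 h3 h4
    by_contra hno
    refine hseed ⟨b, hb, hb0, hbb, _, ?_, hno, ?_⟩
    · rw [map_mul, map_add, map_mul, map_mul, hU.involutive, hU.involutive]
      linear_combination (x * σ y + y * σ x) * hC0s
    · have h5 := M.mul_mem h1 h2
      rw [hid] at h5
      exact (M.mul_mem_cancel_right h3).1 ((M.mul_mem_cancel_right h4).1 h5)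
  have hC0F : C0 ∈ F₀ := by
    obtain ⟨e, he, he1⟩ := trace_one C
    have := hkey (t / s) e 1 (hV _ (hV _ hMτ e he) 1 F₀.one_mem) hMτ (hV _ hMτ e he) (hV _ hMτ 1 F₀.one_mem)
    rwa [map_one, mul_one, one_mul, he1, mul_one] at this
  have hM0 : ∀ x ∈ F₀, utv hU (w x) C0 ∈ M := fun x hx =>
    C.utv_rat _ (Submodule.add_mem _ hv₀ (smul_rat C hx hb)) (hw x) C0 hC0F hC0s hU
  have hτF : t / s ∈ F₀ := by
    have h1 : C0 * σ (t / s) ∈ F₀ := mem_of_two_traces C (y := C0 * (t / s)) fun x hx => by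
      have := hkey 0 x (t / s)
        (by rw [zero_add, add_comm]; exact hV _ hMτ x hx) (hM0 0 F₀.zero_mem)
        (by rw [zero_add]; exact hM0 x hx) (by rw [zero_add]; exact hMτ)
      convert this using 1; ring
    have h2 := F₀.mul_mem (F₀.inv_mem hC0F) h1
    rw [← mul_assoc, inv_mul_cancel₀ hC00, one_mul] at h2
    have h3 := C.stable _ h2
    rwa [hU.involutive] at h3
  exact ⟨s, v₀ + (t / s) • b, Submodule.add_mem _ hv₀ (smul_rat C hτF hb), by
    rw [hv, smul_add, smul_smul, mul_div_cancel₀ _ hs]⟩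

end

section Generic

/-- elements of `M` trivial modulo the span of `l₁, v, r`, fixing `r`, of determinant one on the plane -/
noncomputable def planeGroupU (M : Subgroup (GL ι F)) (e₁ v r : ι → F) (β α : (ι → F) →ₗ[F] F)
    (h : β e₁ = 1 ∧ β v = 0 ∧ β r = 0 ∧ α e₁ = 0 ∧ α v = 1 ∧ α r = 0) : Subgroup (GL ι F) where
  carrier := {g | g ∈ M ∧ act g r = r ∧
    (∀ x, ∃ t : F, act g x - x = β (act g x - x) • e₁ + α (act g x - x) • v + t • r) ∧
    β (act g e₁) * α (act g v) - β (act g v) * α (act g e₁) = 1}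
  one_mem' := ⟨M.one_mem, act_one r, fun x => ⟨0, by simp [act_one]⟩, by
    simp [act_one, h.1, h.2.1, h.2.2.2.1, h.2.2.2.2.1]⟩
  mul_mem' := by
    obtain ⟨h1, h2, h3, h4, h5, h6⟩ := h
    rintro g k ⟨hgM, hgr, hg, hgd⟩ ⟨hkM, hkr, hk, hkd⟩
    refine ⟨M.mul_mem hgM hkM, by rw [act_mul, hkr, hgr], fun x => ?_, ?_⟩
    · obtain ⟨t, ht⟩ := hg (act k x)
      obtain ⟨t', ht'⟩ := hk x
      refine ⟨t + t', ?_⟩
      simp only [map_sub] at ht ht'
      rw [act_mul, map_sub, map_sub]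
      linear_combination (norm := module) ht + ht'
    · obtain ⟨t, ht⟩ := hk e₁
      obtain ⟨t', ht'⟩ := hk v
      rw [map_sub, map_sub, h1, h4, sub_zero] at ht
      rw [map_sub, map_sub, h2, h5, sub_zero] at ht'
      have hb : act k e₁ = β (act k e₁) • e₁ + α (act k e₁) • v + t • r := by
        linear_combination (norm := module) ht
      have ha : act k v = β (act k v) • e₁ + α (act k v) • v + t' • r := by
        linear_combination (norm := module) ht'
      rw [act_mul, act_mul, hb, ha]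
      simp only [map_add, map_smul, hgr, h3, h6, smul_eq_mul]
      linear_combination (β (act k e₁) * α (act k v) - β (act k v) * α (act k e₁)) * hgd + hkd
  inv_mem' := by
    obtain ⟨h1, h2, h3, h4, h5, h6⟩ := h
    rintro g ⟨hgM, hgr, hg, hgd⟩
    have hr : act g⁻¹ r = r := by
      conv_lhs => rw [← hgr]
      rw [act_inv_act]
    have hP : ∀ x, ∃ t : F, act g⁻¹ x - x = β (act g⁻¹ x - x) • e₁ + α (act g⁻¹ x - x) • v + t • r := by
      intro x
      obtain ⟨t, ht⟩ := hg (act g⁻¹ x)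
      refine ⟨-t, ?_⟩
      rw [act_act_inv] at ht
      simp only [map_sub] at ht ⊢
      linear_combination (norm := module) -ht
    refine ⟨M.inv_mem hgM, hr, hP, ?_⟩
    obtain ⟨t, ht⟩ := hP e₁
    obtain ⟨t', ht'⟩ := hP v
    rw [map_sub, map_sub, h1, h4, sub_zero] at ht
    rw [map_sub, map_sub, h2, h5, sub_zero] at ht'
    have hb : act g⁻¹ e₁ = β (act g⁻¹ e₁) • e₁ + α (act g⁻¹ e₁) • v + t • r := by
      linear_combination (norm := module) ht
    have ha : act g⁻¹ v = β (act g⁻¹ v) • e₁ + α (act g⁻¹ v) • v + t' • r := by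
      linear_combination (norm := module) ht'
    have q1 := congrArg (act g) hb
    have q2 := congrArg (act g) ha
    simp only [act_act_inv, map_add, map_smul, hgr] at q1 q2
    have k1 := congrArg β q1
    have k2 := congrArg α q1
    have k3 := congrArg β q2
    have k4 := congrArg α q2
    simp only [map_add, map_smul, smul_eq_mul, h1, h2, h3, h4, h5, h6] at k1 k2 k3 k4
    calc β (act g⁻¹ e₁) * α (act g⁻¹ v) - β (act g⁻¹ v) * α (act g⁻¹ e₁)
        = (β (act g⁻¹ e₁) * α (act g⁻¹ v) - β (act g⁻¹ v) * α (act g⁻¹ e₁)) *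
          (β (act g e₁) * α (act g v) - β (act g v) * α (act g e₁)) := by rw [hgd, mul_one]
      _ = 1 := by
          linear_combination -(β (act g⁻¹ v) * α (act g e₁) + α (act g⁻¹ v) * α (act g v)) * k1 - k4 +
            (β (act g⁻¹ v) * β (act g e₁) + α (act g⁻¹ v) * β (act g v)) * k2

variable {e₁ v rr : ι → F} {β α : (ι → F) →ₗ[F] F}
  {h : β e₁ = 1 ∧ β v = 0 ∧ β rr = 0 ∧ α e₁ = 0 ∧ α v = 1 ∧ α rr = 0}

/-- the action on the plane -/
noncomputable def planeHomU : planeGroupU M e₁ v rr β α h →* SL(2, F) where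
  toFun g := ⟨!![β (act g.1 e₁), β (act g.1 v); α (act g.1 e₁), α (act g.1 v)], by
    rw [Matrix.det_fin_two_of]; exact g.2.2.2.2⟩
  map_one' := SLTwo.ext2 (by simp [act_one, h.1]) (by simp [act_one, h.2.1]) (by simp [act_one, h.2.2.2.1])
    (by simp [act_one, h.2.2.2.2.1])
  map_mul' g k := by
    obtain ⟨h1, h2, h3, h4, h5, h6⟩ := h
    obtain ⟨t, ht⟩ := k.2.2.2.1 e₁
    obtain ⟨t', ht'⟩ := k.2.2.2.1 v
    simp only [map_sub, h1, h4, sub_zero] at ht
    simp only [map_sub, h2, h5, sub_zero] at ht'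
    have hb : act k.1 e₁ = β (act k.1 e₁) • e₁ + α (act k.1 e₁) • v + t • rr := by
      linear_combination (norm := module) ht
    have ha : act k.1 v = β (act k.1 v) • e₁ + α (act k.1 v) • v + t' • rr := by
      linear_combination (norm := module) ht'
    refine Subtype.ext ?_
    show (!![_, _; _, _] : Matrix (Fin 2) (Fin 2) F) = !![_, _; _, _] * !![_, _; _, _]
    rw [Matrix.mul_fin_two, Subgroup.coe_mul, act_mul, act_mul]
    conv_lhs => rw [hb, ha]
    simp only [map_add, map_smul, g.2.2.1, h3, h6, smul_eq_mul]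
    ext i j
    fin_cases i <;> fin_cases j <;> simp <;> ring

theorem planeHomU_val (g : planeGroupU M e₁ v rr β α h) :
    (planeHomU g : Matrix (Fin 2) (Fin 2) F) =
      !![β (act g.1 e₁), β (act g.1 v); α (act g.1 e₁), α (act g.1 v)] := rfl

end Generic

section

variable (C : Ctx σ f F₀ P r M)
include C

theorem three_le_r : 3 ≤ r := by
  have := C.prime.two_le
  rcases C.odd with ⟨k, hk⟩
  omega

theorem quad_rat {κ a : F} (ha : a ∈ F₀) (h : κ * κ + a * κ ∈ F₀) : κ ∈ F₀ := by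
  by_contra hκ
  haveI := simple_order C
  let B : Subalgebra F₀ F :=
    { carrier := {z | ∃ x ∈ F₀, ∃ y ∈ F₀, z = x + y * κ}
      mul_mem' := by
        rintro _ _ ⟨x, hx, y, hy, rfl⟩ ⟨x', hx', y', hy', rfl⟩
        exact ⟨x * x' + y * y' * (κ * κ + a * κ), F₀.add_mem (F₀.mul_mem hx hx') (F₀.mul_mem (F₀.mul_mem hy hy') h),
          x * y' + y * x' - y * y' * a, F₀.sub_mem (F₀.add_mem (F₀.mul_mem hx hy') (F₀.mul_mem hy hx'))
            (F₀.mul_mem (F₀.mul_mem hy hy') ha), by ring⟩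
      add_mem' := by
        rintro _ _ ⟨x, hx, y, hy, rfl⟩ ⟨x', hx', y', hy', rfl⟩
        exact ⟨x + x', F₀.add_mem hx hx', y + y', F₀.add_mem hy hy', by ring⟩
      algebraMap_mem' := fun k => ⟨k, k.2, 0, F₀.zero_mem, by simp; rfl⟩ }
  have hκB : κ ∈ B := ⟨0, F₀.zero_mem, 1, F₀.one_mem, by ring⟩
  rcases IsSimpleOrder.eq_bot_or_eq_top B with hB | hB
  · rw [hB, Algebra.mem_bot] at hκB
    obtain ⟨k, rfl⟩ := hκB
    exact hκ k.2
  · have hsurj : Function.Surjective (fun p : F₀ × F₀ => (p.1 : F) + p.2 * κ) := fun z => by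
      have : z ∈ B := hB ▸ Algebra.mem_top
      obtain ⟨x, hx, y, hy, rfl⟩ := this
      exact ⟨(⟨x, hx⟩, ⟨y, hy⟩), rfl⟩
    have hle := Nat.card_le_card_of_surjective _ hsurj
    rw [Nat.card_prod, C.card, ← pow_two] at hle
    have := Nat.pow_lt_pow_right (Finite.one_lt_card (α := F₀)) (show 2 < r by have := three_le_r C; omega)
    omega

theorem combo_rat {κ : F} (hκ : κ ∉ F₀) {x y : F} (hx : x ∈ F₀) (hy : y ∈ F₀) (h : x + y * κ = 0) :
    x = 0 ∧ y = 0 := by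
  rcases eq_or_ne y 0 with rfl | hy0
  · exact ⟨by linear_combination h, rfl⟩
  · exfalso
    apply hκ
    rw [show κ = -x / y by field_simp; linear_combination h]
    exact F₀.div_mem (F₀.neg_mem hx) hy

/-- the general case of a centre orthogonal to no rational isotropic vector -/
theorem seed_of_generic {v : ι → F} (hvv : f v v = 0) (hgen : ∀ b ∈ ratVec F₀ P, f b b = 0 → b ≠ 0 → f b v ≠ 0)
    {c : F} (hc : c + σ c = 0) (hc0 : c ≠ 0) (hM : utv C.unit v c ∈ M) : Seed C.unit F₀ P M := by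
  classical
  have hU := C.unit
  by_contra hseed
  haveI : Fintype F₀ := Fintype.ofFinite _
  obtain ⟨σ₀, f₀, hs₀, hf₀, hU₀⟩ := exists_form₀ C
  -- two orthogonal rational isotropic vectors and the radical
  have h0 : (0 : ι → F) ∈ ratVec F₀ P := Submodule.zero_mem _
  obtain ⟨e₁, he₁, h11, -, -, he₁0, -⟩ := iso_perp C h0 h0 (Or.inl rfl)
  obtain ⟨e₂, he₂, h22, h21, -, he₂0, hout⟩ := iso_perp C he₁ he₁ (Or.inl rfl)
  have h12 := eq_zero_symm hU h21
  have hD : f e₁ v ≠ 0 := hgen e₁ he₁ h11 he₁0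
  have hD' : f v e₁ ≠ 0 := ne_symm hU hD
  have hsep12 : ∀ x ∈ F₀, ∀ y ∈ F₀, e₁ ≠ x • e₂ + y • e₂ := by
    intro x hx y hy h
    rcases eq_or_ne (x + y) 0 with hxy | hxy
    · exact he₁0 (by rw [h, ← add_smul, hxy, zero_smul])
    · refine hout (x + y)⁻¹ (F₀.inv_mem (F₀.add_mem hx hy)) 0 F₀.zero_mem ?_
      rw [zero_smul, add_zero, h, ← add_smul, inv_smul_smul₀ hxy]
  obtain ⟨κ, hκdef⟩ : ∃ κ, κ = f e₂ v / f e₁ v := ⟨_, rfl⟩
  have hκv : f e₂ v = κ * f e₁ v := by rw [hκdef, div_mul_cancel₀ _ hD]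
  have hκ : κ ∉ F₀ := fun h => hgen (e₂ - κ • e₁) (Submodule.sub_mem _ he₂ (smul_rat C h he₁))
    (by rw [sub_left hU, sub_right hU, sub_right hU, smul_left hU, smul_left hU, smul_right hU, smul_right hU,
      h11, h12, h21, h22]; ring)
    (fun h' => hout κ h 0 F₀.zero_mem (by rw [sub_eq_zero.1 h']; simp))
    (by rw [sub_left hU, smul_left hU, hκv, sub_self])
  obtain ⟨rr, hrr⟩ : ∃ rr, rr = e₂ - κ • e₁ := ⟨_, rfl⟩
  have hrv : f rr v = 0 := by rw [hrr, sub_left hU, smul_left hU, hκv, sub_self]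
  have hre : f rr e₁ = 0 := by rw [hrr, sub_left hU, smul_left hU, h21, h11]; ring
  let β : (ι → F) →ₗ[F] F := (f e₁ v)⁻¹ • flinU hU v
  let α : (ι → F) →ₗ[F] F := (f v e₁)⁻¹ • flinU hU e₁
  have hβ : ∀ x, β x = (f e₁ v)⁻¹ * f x v := fun x => rfl
  have hα : ∀ x, α x = (f v e₁)⁻¹ * f x e₁ := fun x => rfl
  have hh : β e₁ = 1 ∧ β v = 0 ∧ β rr = 0 ∧ α e₁ = 0 ∧ α v = 1 ∧ α rr = 0 := by
    simp [hβ, hα, hvv, hrv, hre, h11, inv_mul_cancel₀ hD, inv_mul_cancel₀ hD']
  obtain ⟨hb1, hb2, hb3, ha1, ha2, ha3⟩ := hh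
  set K := planeGroupU M e₁ v rr β α ⟨hb1, hb2, hb3, ha1, ha2, ha3⟩ with hK
  let ρ : K →* SL(2, F) := planeHomU
  have hρ : ∀ k : K, (ρ k : Matrix (Fin 2) (Fin 2) F) =
      !![β (act k.1 e₁), β (act k.1 v); α (act k.1 e₁), α (act k.1 v)] := fun k => rfl
  -- the rational coefficient
  obtain ⟨c₀, hc₀, hc₀0, hc₀s⟩ := skew_rat C
  have hW : ∀ a b : F, a • e₁ + b • e₂ = (a + b * κ) • e₁ + b • rr := fun a b => by rw [hrr]; module
  have hWiso : ∀ a b : F, f (a • e₁ + b • e₂) (a • e₁ + b • e₂) = 0 := fun a b => by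
    simp only [add_left hU, add_right hU, smul_left hU, smul_right hU, h11, h12, h21, h22, mul_zero, add_zero]
  have hWrat : ∀ a b : F, a ∈ F₀ → b ∈ F₀ → a • e₁ + b • e₂ ∈ ratVec F₀ P := fun a b ha hb =>
    Submodule.add_mem _ (smul_rat C ha he₁) (smul_rat C hb he₂)
  have hupper : ∀ a ∈ F₀, ∀ b ∈ F₀, SLTwo.ux (c₀ * f v e₁ * ((a + b * κ) * σ (a + b * κ))) ∈ ρ.range := by
    intro a ha b hb
    have hl := hWiso a b
    have hm := C.utv_rat _ (hWrat a b ha hb) hl c₀ hc₀ hc₀s hU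
    obtain ⟨l, hldef⟩ : ∃ l, l = a • e₁ + b • e₂ := ⟨_, rfl⟩
    rw [← hldef] at hl hm
    have hl' : l = (a + b * κ) • e₁ + b • rr := hldef.trans (hW a b)
    have hle : f e₁ l = 0 := by rw [hldef, add_right hU, smul_right hU, smul_right hU, h11, h12]; ring
    have hlr : f rr l = 0 := by
      rw [hldef, add_right hU, smul_right hU, smul_right hU, hre, hrr, sub_left hU, smul_left hU, h22, h12]; ring
    have hvl : f v l = σ (a + b * κ) * f v e₁ := by
      rw [hl', add_right hU, smul_right hU, smul_right hU, eq_zero_symm hU hrv]; ring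
    have hβl : β l = a + b * κ := by rw [hl', map_add, map_smul, map_smul, hb1, hb3]; simp
    have hαl : α l = 0 := by rw [hl', map_add, map_smul, map_smul, ha1, ha3]; simp
    refine ⟨⟨utv hU l c₀, hm, ?_, fun x => ⟨c₀ * f x l * b, ?_⟩, ?_⟩, ?_⟩
    · rw [act_utv hU hl, hlr, mul_zero, zero_smul, add_zero]
    · rw [act_utv hU hl, add_sub_cancel_left, map_smul, map_smul, hβl, hαl, smul_eq_mul, smul_eq_mul,
        mul_zero, zero_smul, hl']
      module
    · rw [act_utv hU hl, act_utv hU hl, hle, hvl]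
      simp [hb1, hb2, ha1, ha2, hαl, hβl]
    · apply SLTwo.ext2 <;> simp only [hρ, act_utv hU hl, hle, hvl, map_add, map_smul, hb1, hb2, ha1, ha2,
        hαl, hβl, smul_eq_mul] <;> simp
      ring
  have hlower : ∃ g ∈ ρ.range, (g : SL(2, F)) 1 0 ≠ 0 := by
    have hrv' : f rr v = 0 := hrv
    refine ⟨_, ⟨⟨utv hU v c, hM, ?_, fun x => ⟨0, ?_⟩, ?_⟩, rfl⟩, ?_⟩
    · rw [act_utv hU hvv, hrv', mul_zero, zero_smul, add_zero]
    · rw [act_utv hU hvv, add_sub_cancel_left, map_smul, map_smul, hb2, ha2]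
      simp
    · rw [act_utv hU hvv, act_utv hU hvv, hvv]
      simp [hb1, hb2, ha1, ha2]
    · rw [hρ]
      simp [act_utv hU hvv, ha1, ha2, hc0, hD]
  -- images of rational points of the totally isotropic plane
  have hpoint : ∀ k : K, ∀ a b : F, a ∈ F₀ → b ∈ F₀ →
      ∀ A B : F, act k.1 (a • e₁ + b • e₂) = A • e₁ + B • e₂ → B ≠ 0 → A / B ∈ F₀ := by
    intro k a b ha hb A B hAB hB
    have hiso := C.iso k.2.1
    have hm := M.mul_mem (M.mul_mem k.2.1 (C.utv_rat _ (hWrat a b ha hb) (hWiso a b) c₀ hc₀ hc₀s hU))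
      (M.inv_mem k.2.1)
    rw [conj_utv hU hiso (hWiso a b), hAB] at hm
    have hu : f (A • e₁ + B • e₂) e₁ = 0 := by rw [add_left hU, smul_left hU, smul_left hU, h11, h21]; ring
    obtain ⟨s, v₀, hv₀, hs, -⟩ :=
      (seed_or_rat C he₁ he₁0 h11 (hWiso A B) hu hc₀s hc₀0 hm).resolve_left hseed
    obtain ⟨m₂, hm₂, -, k₁, -, k₂, -⟩ := partner C he₁ he₁ he₂ h22 h21 h21
      (fun x hx y hy h => hout x hx y hy h)
    obtain ⟨m₁, hm₁, -, l₁, -, l₂, -⟩ := partner C he₂ he₂ he₁ h11 h12 h12 hsep12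
    have q1 := congrArg (f m₁) hs
    have q2 := congrArg (f m₂) hs
    simp only [add_right hU, smul_right hU, k₁, k₂, l₁, l₂, mul_zero, mul_one, add_zero, zero_add] at q1 q2
    have hs0 : σ s ≠ 0 := fun h => hB ((map_eq_zero σ).1 (by rw [q2, h, zero_mul]))
    have : σ (A / B) = f m₁ v₀ / f m₂ v₀ := by rw [map_div₀, q1, q2, mul_div_mul_left _ _ hs0]
    have h2 := C.stable _ (this ▸ F₀.div_mem (C.rat _ hm₁ _ hv₀) (C.rat _ hm₂ _ hv₀))
    rwa [hU.involutive] at h2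
  -- an element fixing `rr` with `e₁ ↦ l e₁ + t rr` is trivial there
  have hWfix : ∀ k : K, ∀ l t : F, act k.1 e₁ = l • e₁ + t • rr → l = 1 := by
    intro k l t ht
    have hk2 : act k.1 e₂ = rr + κ • (l • e₁ + t • rr) := by
      rw [show e₂ = rr + κ • e₁ by rw [hrr]; abel, map_add, map_smul, k.2.2.1, ht]
    have p1 := hpoint k 1 0 F₀.one_mem F₀.zero_mem (l - t * κ) t (by
      rw [one_smul, zero_smul, add_zero, ht, hrr]; module)
    have p2 := hpoint k 0 1 F₀.zero_mem F₀.one_mem (κ * (l - t * κ) - κ) (1 + κ * t) (by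
      rw [one_smul, zero_smul, zero_add, hk2, hrr]; module)
    have p3 := hpoint k 1 1 F₀.one_mem F₀.one_mem ((l - t * κ) + (κ * (l - t * κ) - κ)) (t + (1 + κ * t)) (by
      rw [one_smul, one_smul, map_add, ht, hk2, hrr]; module)
    rcases eq_or_ne t 0 with rfl | ht0
    · have h2 := p2 (by simp)
      have h3 := p3 (by simp)
      simp only [zero_mul, sub_zero, mul_zero, add_zero, zero_add, div_one] at h2 h3
      have hl : l ∈ F₀ := by have := F₀.sub_mem h3 h2; simpa using this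
      by_contra hl1
      apply hκ
      rw [show κ = (κ * l - κ) / (l - 1) by field_simp [sub_ne_zero.2 hl1]]
      exact F₀.div_mem h2 (F₀.sub_mem hl F₀.one_mem)
    exfalso
    obtain ⟨a, ha⟩ : ∃ a, a = (l - t * κ) / t := ⟨_, rfl⟩
    have haF : a ∈ F₀ := ha ▸ p1 ht0
    have hat : l - t * κ = a * t := by rw [ha, div_mul_cancel₀ _ ht0]
    rw [hat] at p2 p3
    by_cases hB : 1 + κ * t = 0
    · have h3 := p3 (by rw [hB, add_zero]; exact ht0)
      rw [hB, add_zero, show (a * t + (κ * (a * t) - κ)) / t = a + (κ * κ + a * κ) by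
        field_simp; linear_combination -κ * hB] at h3
      have := F₀.sub_mem h3 haF
      rw [add_sub_cancel_left] at this
      exact hκ (quad_rat C haF this)
    obtain ⟨r₂, hr₂⟩ : ∃ r₂, r₂ = (κ * (a * t) - κ) / (1 + κ * t) := ⟨_, rfl⟩
    have hr₂F : r₂ ∈ F₀ := hr₂ ▸ p2 hB
    have hr₂t : r₂ * (1 + κ * t) = κ * (a * t) - κ := by rw [hr₂, div_mul_cancel₀ _ hB]
    by_cases hS : t + (1 + κ * t) = 0
    · have h1 : (r₂ + (a * κ + κ * κ + κ)) * t = 0 := by linear_combination -hr₂t + (r₂ + κ) * hS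
      have h2 := (mul_eq_zero.1 h1).resolve_right ht0
      refine hκ (quad_rat C (a := a + 1) (F₀.add_mem haF F₀.one_mem) ?_)
      rw [show κ * κ + (a + 1) * κ = -r₂ by linear_combination h2]
      exact F₀.neg_mem hr₂F
    obtain ⟨r₃, hr₃⟩ : ∃ r₃, r₃ = (a * t + (κ * (a * t) - κ)) / (t + (1 + κ * t)) := ⟨_, rfl⟩
    have hr₃F : r₃ ∈ F₀ := hr₃ ▸ p3 hS
    have hr₃t : r₃ * (t + (1 + κ * t)) = a * t + (κ * (a * t) - κ) := by rw [hr₃, div_mul_cancel₀ _ hS]
    by_cases h32 : r₃ = a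
    · subst h32
      exact hκ (by rw [show κ = -r₃ by linear_combination hr₃t]; exact F₀.neg_mem hr₃F)
    obtain ⟨ρ, hρ⟩ : ∃ ρ, ρ = (r₂ - r₃) / (r₃ - a) := ⟨_, rfl⟩
    have hρF : ρ ∈ F₀ := hρ ▸ F₀.div_mem (F₀.sub_mem hr₂F hr₃F) (F₀.sub_mem hr₃F haF)
    have htB : t = ρ * (1 + κ * t) := by
      rw [hρ, div_mul_eq_mul_div, eq_div_iff (sub_ne_zero.2 h32)]
      linear_combination hr₃t - hr₂t
    have hρ0 : ρ ≠ 0 := fun h => ht0 (by rw [htB, h, zero_mul])
    have h1 : r₂ = ρ * (κ * κ) + (a * ρ - 1) * κ := by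
      refine mul_right_cancel₀ hB ?_
      linear_combination hr₂t + (κ * κ + a * κ) * htB
    refine hκ (quad_rat C (a := (a * ρ - 1) / ρ) (F₀.div_mem (F₀.sub_mem (F₀.mul_mem haF hρF) F₀.one_mem) hρF) ?_)
    rw [show κ * κ + (a * ρ - 1) / ρ * κ = r₂ / ρ by rw [h1]; field_simp]
    exact F₀.div_mem hr₂F hρF
  obtain ⟨e0, he0⟩ : ∃ e, e = c₀ * f v e₁ := ⟨_, rfl⟩
  have he00 : e0 ≠ 0 := he0 ▸ mul_ne_zero hc₀0 hD'
  have hx₁ : SLTwo.ux e0 ∈ ρ.range := by
    have := hupper 1 F₀.one_mem 0 F₀.zero_mem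
    rwa [zero_mul, add_zero, map_one, mul_one, mul_one, ← he0] at this
  obtain ⟨g, hg, hg10⟩ := hlower
  by_cases h2 : (2 : F) = 0
  swap
  · -- odd characteristic
    obtain ⟨k, hk⟩ := SLTwo.neg_one_mem h2 ρ.range he00 hx₁ hg hg10
    have e00 := congrArg (fun A : SL(2, F) => A 0 0) hk
    have e10 := congrArg (fun A : SL(2, F) => A 1 0) hk
    simp [hρ] at e00 e10
    obtain ⟨t, ht⟩ := k.2.2.2.1 e₁
    rw [map_sub, map_sub, e00, e10, hb1, ha1] at ht
    have := hWfix k (-1) t (by linear_combination (norm := module) ht)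
    exact h2 (by linear_combination -this)
  -- characteristic two
  obtain ⟨a, ha, b, hb, hN0, hN1⟩ : ∃ a ∈ F₀, ∃ b ∈ F₀,
      (a + b * κ) * σ (a + b * κ) ≠ 0 ∧ (a + b * κ) * σ (a + b * κ) ≠ 1 := by
    have hκ0 : κ ≠ 0 := fun h => hκ (h ▸ F₀.zero_mem)
    have hκ1 : 1 + κ ≠ 0 := fun h => hκ (by
      rw [show κ = -1 by linear_combination h]; exact F₀.neg_mem F₀.one_mem)
    by_cases h : κ * σ κ = 1
    · refine ⟨1, F₀.one_mem, 1, F₀.one_mem,
        by rw [one_mul]; exact mul_ne_zero hκ1 ((map_ne_zero σ).2 hκ1), fun h' => ?_⟩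
      rw [one_mul, map_add, map_one] at h'
      exact hκ (quad_rat C F₀.one_mem (by
        rw [show κ * κ + 1 * κ = -1 by linear_combination κ * h' - (1 + κ) * h]
        exact F₀.neg_mem F₀.one_mem))
    · refine ⟨0, F₀.zero_mem, 1, F₀.one_mem, ?_, ?_⟩ <;> rw [one_mul, zero_add]
      · exact mul_ne_zero hκ0 ((map_ne_zero σ).2 hκ0)
      · exact h
  have hs := hupper a ha b hb
  rw [← he0] at hs
  obtain ⟨d, ⟨k, hk⟩, hd10, hds⟩ := SLTwo.exists_borel h2 ρ.range he00 hx₁ hg hg10 hs (mul_ne_zero he00 hN0)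
  have e00 := congrArg (fun A : SL(2, F) => A 0 0) hk
  have e10 := congrArg (fun A : SL(2, F) => A 1 0) hk
  simp [hρ] at e00 e10
  obtain ⟨t, ht⟩ := k.2.2.2.1 e₁
  rw [map_sub, map_sub, e00, e10, hd10, hb1, ha1] at ht
  have h1 := hWfix k (d 0 0) t (by linear_combination (norm := module) ht)
  rw [h1, one_mul, one_mul] at hds
  exact hN1 (mul_left_cancel₀ he00 (by rw [← hds, mul_one]))

/-- every transvection of `M` at an isotropic point gives a seed or is rational -/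
theorem seed_or_rat_all {v : ι → F} (hvv : f v v = 0) {c : F} (hc : c + σ c = 0) (hc0 : c ≠ 0)
    (hM : utv C.unit v c ∈ M) : Seed C.unit F₀ P M ∨ RatPoint σ F₀ P v c := by
  by_cases h : ∃ b ∈ ratVec F₀ P, f b b = 0 ∧ b ≠ 0 ∧ f b v = 0
  · obtain ⟨b, hb, hbb, hb0, hbv⟩ := h
    exact seed_or_rat C hb hb0 hbb hvv (eq_zero_symm C.unit hbv) hc hc0 hM
  · push Not at h
    exact Or.inl (seed_of_generic C hvv h hc hc0 hM)

/-- an element of `M` outside the subfield group gives a seed -/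
theorem seed_of_not_mem {g : GL ι F} (hg : g ∈ M) (hgn : g ∉ Cfsg.Geo.subfieldSubgroup F₀ P) :
    Seed C.unit F₀ P M := by
  have hU := C.unit
  by_contra hseed
  obtain ⟨c₀, hc₀, hc₀0, hc₀s⟩ := skew_rat C
  have himg : ∀ l, l ∈ ratVec F₀ P ∧ f l l = 0 → ∃ s : F, ∃ w ∈ ratVec F₀ P, act g l = s • w := by
    rintro l ⟨hl, hll⟩
    have hm := M.mul_mem (M.mul_mem hg (C.utv_rat l hl hll c₀ hc₀ hc₀s hU)) (M.inv_mem hg)
    rw [conj_utv hU (C.iso hg) hll] at hm
    obtain ⟨s, w, hw, e, -⟩ := (seed_or_rat_all C (by rw [mem_uiso.1 (C.iso hg), hll]) hc₀s hc₀0 hm).resolve_left hseed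
    exact ⟨s, w, hw, e⟩
  choose! s w hw hsw using himg
  have h0 : (0 : ι → F) ∈ ratVec F₀ P := Submodule.zero_mem _
  have hne : ∀ l ∈ ratVec F₀ P, f l l = 0 → l ≠ 0 → s l ≠ 0 ∧ w l ≠ 0 := fun l hl hll hl0 => by
    have h1 : act g l ≠ 0 := fun h => hl0 (act_injective g (h.trans (map_zero _).symm))
    rw [hsw l ⟨hl, hll⟩] at h1
    exact smul_ne_zero_iff.1 h1
  have hstep : ∀ l l', l ∈ ratVec F₀ P → l' ∈ ratVec F₀ P → f l l = 0 → f l' l' = 0 → f l l' = 0 →
      l ≠ 0 → l' ≠ 0 → (∀ a ∈ F₀, l' ≠ a • l) → s l' / s l ∈ F₀ := by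
    intro l l' hl hl' hll hl'l' hll' hl0 hl'0 hind
    have hsum : l + l' ∈ ratVec F₀ P ∧ f (l + l') (l + l') = 0 :=
      ⟨Submodule.add_mem _ hl hl', by
        rw [add_left hU, add_right hU, add_right hU, hll, hl'l', hll', eq_zero_symm hU hll']; ring⟩
    have he := hsw _ hsum
    rw [map_add, hsw l ⟨hl, hll⟩, hsw l' ⟨hl', hl'l'⟩] at he
    obtain ⟨s₁, hw₁0⟩ := hne l hl hll hl0
    obtain ⟨s₂, hw₂0⟩ := hne l' hl' hl'l' hl'0
    have hpres := mem_uiso.1 (C.iso hg)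
    have i₁ : f (w l) (w l) = 0 := by
      have := hpres l l; rw [hsw l ⟨hl, hll⟩, smul_left hU, smul_right hU, hll] at this
      simpa [s₁] using this
    have i₂ : f (w l') (w l') = 0 := by
      have := hpres l' l'; rw [hsw l' ⟨hl', hl'l'⟩, smul_left hU, smul_right hU, hl'l'] at this
      simpa [s₂] using this
    have i₁₂ : f (w l) (w l') = 0 := by
      have := hpres l l'; rw [hsw l ⟨hl, hll⟩, hsw l' ⟨hl', hl'l'⟩, smul_left hU, smul_right hU, hll'] at this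
      simpa [s₁, s₂] using this
    by_cases hrel : ∃ a ∈ F₀, w l' = a • w l
    · obtain ⟨a, ha, hwa⟩ := hrel
      exfalso
      have : l' = (s l' * a / s l) • l := act_injective g (by
        rw [map_smul, hsw l ⟨hl, hll⟩, hsw l' ⟨hl', hl'l'⟩, hwa, smul_smul, smul_smul, div_mul_cancel₀ _ s₁])
      obtain ⟨z, hz, -, -, -, hzl, -⟩ := partner C h0 h0 hl hll (zero_right hU _) (zero_right hU _)
        (fun a _ b _ h => hl0 (by rw [h]; simp))
      have hk : s l' * a / s l ∈ F₀ := by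
        have h1 := C.rat _ hz _ hl'
        rw [this, smul_right hU, hzl, mul_one] at h1
        have h2 := C.stable _ h1
        rwa [hU.involutive] at h2
      exact hind _ hk this
    push Not at hrel
    obtain ⟨z₂, hz₂, -, a₂, -, b₂, -⟩ := partner C (hw l ⟨hl, hll⟩) (hw l ⟨hl, hll⟩) (hw l' ⟨hl', hl'l'⟩) i₂
      (eq_zero_symm hU i₁₂) (eq_zero_symm hU i₁₂)
      (fun x hx y hy h => hrel (x + y) (F₀.add_mem hx hy) (by rw [h, add_smul]))
    obtain ⟨z₁, hz₁, -, a₁, -, b₁, -⟩ := partner C (hw l' ⟨hl', hl'l'⟩) (hw l' ⟨hl', hl'l'⟩) (hw l ⟨hl, hll⟩) i₁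
      i₁₂ i₁₂ (fun x hx y hy h => by
        rcases eq_or_ne (x + y) 0 with hxy | hxy
        · exact hw₁0 (by rw [h, ← add_smul, hxy, zero_smul])
        · exact hrel (x + y)⁻¹ (F₀.inv_mem (F₀.add_mem hx hy)) (by rw [h, ← add_smul, inv_smul_smul₀ hxy]))
    have q1 := congrArg (f z₁) he
    have q2 := congrArg (f z₂) he
    simp only [add_right hU, smul_right hU, a₁, a₂, b₁, b₂, mul_zero, mul_one, add_zero, zero_add] at q1 q2
    have hss : σ (s (l + l')) ≠ 0 := fun h => s₁ ((map_eq_zero σ).1 (by rw [q1, h, zero_mul]))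
    have : σ (s l' / s l) = f z₂ (w (l + l')) / f z₁ (w (l + l')) := by
      rw [map_div₀, q1, q2, mul_div_mul_left _ _ hss]
    have h2 := C.stable _ (this ▸ F₀.div_mem (C.rat _ hz₂ _ (hw _ hsum)) (C.rat _ hz₁ _ (hw _ hsum)))
    rwa [hU.involutive] at h2
  obtain ⟨l₁, hl₁, hl₁₁, -, -, hl₁0, -⟩ := iso_perp C h0 h0 (Or.inl rfl)
  obtain ⟨γ, hγ⟩ : ∃ γ, γ = s l₁ := ⟨_, rfl⟩
  have hγ0 : γ ≠ 0 := hγ ▸ (hne l₁ hl₁ hl₁₁ hl₁0).1
  have hiso_img : ∀ l ∈ ratVec F₀ P, f l l = 0 → γ⁻¹ • act g l ∈ ratVec F₀ P := by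
    intro l hl hll
    rcases eq_or_ne l 0 with rfl | hl0
    · simpa using Submodule.zero_mem _
    by_cases hdep : ∃ a ∈ F₀, l = a • l₁
    · obtain ⟨a, ha, rfl⟩ := hdep
      rw [map_smul, smul_comm, hsw l₁ ⟨hl₁, hl₁₁⟩, smul_smul γ⁻¹, ← hγ, inv_mul_cancel₀ hγ0, one_smul]
      exact smul_rat C ha (hw l₁ ⟨hl₁, hl₁₁⟩)
    push Not at hdep
    by_cases hor : f l l₁ = 0
    · have h3 := hstep l₁ l hl₁ hl hl₁₁ hll (eq_zero_symm hU hor) hl₁0 hl0 hdep
      rw [← hγ] at h3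
      rw [hsw l ⟨hl, hll⟩, smul_smul, ← div_eq_inv_mul]
      exact smul_rat C h3 (hw l ⟨hl, hll⟩)
    obtain ⟨d, hd, hdd, hdl, hdl1, hd0, hout⟩ := iso_perp C hl hl₁ (Or.inr ⟨hll, hl₁₁, hor⟩)
    have h1 := hstep l₁ d hl₁ hd hl₁₁ hdd (eq_zero_symm hU hdl1) hl₁0 hd0
      (fun a ha h => hout 0 F₀.zero_mem a ha (by rw [h]; simp))
    have h2 := hstep d l hd hl hdd hll hdl hd0 hl0 (fun a ha h => by
      have ha0 : a ≠ 0 := by rintro rfl; exact hl0 (by rw [h, zero_smul])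
      exact hout a⁻¹ (F₀.inv_mem ha) 0 F₀.zero_mem (by rw [h, inv_smul_smul₀ ha0]; simp))
    have h3 := F₀.mul_mem h2 h1
    rw [div_mul_div_cancel₀ (hne d hd hdd hd0).1, ← hγ] at h3
    rw [hsw l ⟨hl, hll⟩, smul_smul, ← div_eq_inv_mul]
    exact smul_rat C h3 (hw l ⟨hl, hll⟩)
  refine hgn (mem_subfieldSubgroup F₀ P hγ0 fun x hx => ?_)
  obtain ⟨w₁, a₁, w₂, a₂, i₁, i₂, -, -, -, -, rfl⟩ := iso_sub C h0 h0 hx (zero_right hU _) (zero_right hU _) (Or.inl rfl)
  rw [map_sub, smul_sub]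
  exact Submodule.sub_mem _ (hiso_img w₁ a₁ i₁) (hiso_img w₂ a₂ i₂)

end

/-- the subfield group of odd prime degree is maximal in the special unitary group -/
theorem subfield_maximal (hU : Cfsg.Geo.IsUnitaryForm σ f) (hn : 4 ≤ Fintype.card ι) (F₀ : Subfield F)
    (P : GL ι F) {r : ℕ} (hrat : ∀ x ∈ ratVec F₀ P, ∀ y ∈ ratVec F₀ P, f x y ∈ F₀)
    (hst : ∀ a ∈ F₀, σ a ∈ F₀) (hmov : ∃ θ ∈ F₀, σ θ ≠ θ) (hr : r.Prime) (hro : Odd r)
    (hcard : Nat.card F = Nat.card F₀ ^ r) :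
    Cfsg.Geo.IsMaximalIn (uiso f ⊓ Cfsg.Geo.specialLinear ι F)
      (Cfsg.Geo.subfieldSubgroup F₀ P ⊓ (uiso f ⊓ Cfsg.Geo.specialLinear ι F)) := by
  classical
  have hrootH : ∀ (M : Subgroup (GL ι F)),
      Cfsg.Geo.subfieldSubgroup F₀ P ⊓ (uiso f ⊓ Cfsg.Geo.specialLinear ι F) ≤ M → M ≤ uiso f →
      Ctx σ f F₀ P r M := by
    intro M hM hMi
    refine ⟨hU, hn, hrat, hst, hmov, hr, hro, hcard, hMi, fun l hl hll c hc hcs hU' => hM ⟨?_,
      utv_mem hU hll hcs, det_ptv hU (by rw [smul_right hU, hll, mul_zero])⟩,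
      fun a ha b hb haa hbb hab s hs hU' => hM ⟨?_, sieg_mem hU haa hbb hab s, det_sieg hU hab s⟩⟩
    · refine mem_subfieldSubgroup F₀ P one_ne_zero fun x hx => ?_
      rw [inv_one, one_smul, act_utv hU hll]
      exact Submodule.add_mem _ hx (ratVec_smul (F₀.mul_mem hc (hrat x hx l hl)) hl)
    · refine mem_subfieldSubgroup F₀ P one_ne_zero fun x hx => ?_
      rw [inv_one, one_smul, act_sieg hU haa hbb hab]
      exact Submodule.sub_mem _ (Submodule.add_mem _ hx (ratVec_smul (F₀.mul_mem hs (hrat x hx b hb)) ha))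
        (ratVec_smul (F₀.mul_mem (hst s hs) (hrat x hx a ha)) hb)
  have hlt : Cfsg.Geo.subfieldSubgroup F₀ P ⊓ (uiso f ⊓ Cfsg.Geo.specialLinear ι F) <
      uiso f ⊓ Cfsg.Geo.specialLinear ι F := by
    refine lt_of_le_of_ne inf_le_right fun heq => ?_
    have C := hrootH (uiso f ⊓ Cfsg.Geo.specialLinear ι F) inf_le_right inf_le_left
    obtain ⟨c₀, hc₀, hc₀0, hc₀s⟩ := skew_rat C
    obtain ⟨θ, hθ, hne⟩ := hmov
    obtain ⟨a, ha, hafix⟩ : ∃ a, a ∉ F₀ ∧ σ a = a := by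
      by_contra h; push Not at h
      obtain ⟨z, hz⟩ : ∃ z, z ∉ F₀ := by
        by_contra h'; push Not at h'
        have e : Nat.card F₀ = Nat.card F := Nat.card_congr (Equiv.subtypeUnivEquiv h')
        rw [hcard] at e
        have h2 : Nat.card F₀ ^ 1 < Nat.card F₀ ^ r := Nat.pow_lt_pow_right Finite.one_lt_card hr.one_lt
        rw [pow_one] at h2
        omega
      have hfix : ∀ a : F, σ a = a → a ∈ F₀ := fun a ha => by
        by_contra h'; exact h a h' ha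
      apply hz
      have h1 : z + σ z ∈ F₀ := hfix _ (by rw [map_add, hU.involutive, add_comm])
      have h2 : θ * z + σ θ * σ z ∈ F₀ := hfix _ (by
        rw [map_add, map_mul, map_mul, hU.involutive, hU.involutive, add_comm])
      have := F₀.mul_mem (F₀.inv_mem (F₀.sub_mem hθ (hst θ hθ))) (F₀.sub_mem h2 (F₀.mul_mem (hst θ hθ) h1))
      rwa [show θ * z + σ θ * σ z - σ θ * (z + σ z) = (θ - σ θ) * z by ring, ← mul_assoc,
        inv_mul_cancel₀ (sub_ne_zero.2 (Ne.symm hne)), one_mul] at this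
    obtain ⟨c, hc⟩ : ∃ c, c = c₀ * a := ⟨_, rfl⟩
    have hcs : c + σ c = 0 := by rw [hc, map_mul, hafix]; linear_combination a * hc₀s
    have hcF : c ∉ F₀ := fun h => ha (by
      have := F₀.mul_mem (F₀.inv_mem hc₀) h
      rwa [hc, ← mul_assoc, inv_mul_cancel₀ hc₀0, one_mul] at this)
    have h0 : (0 : ι → F) ∈ ratVec F₀ P := Submodule.zero_mem _
    obtain ⟨l, hl, hll, -, -, hl0, -⟩ := iso_perp C h0 h0 (Or.inl rfl)
    obtain ⟨z, hz, -, -, -, hzl, hlz⟩ := partner C h0 h0 hl hll (zero_right hU _) (zero_right hU _)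
      (fun a _ b _ h => hl0 (by rw [h]; simp))
    have hmem : utv hU l c ∈ uiso f ⊓ Cfsg.Geo.specialLinear ι F :=
      ⟨utv_mem hU hll hcs, det_ptv hU (by rw [smul_right hU, hll, mul_zero])⟩
    obtain ⟨γ, hγ⟩ := exists_of_mem_subfieldSubgroup F₀ P ((inf_eq_right.1 heq) hmem)
    obtain ⟨y, hy, ey⟩ := hγ l hl
    obtain ⟨y', hy', ey'⟩ := hγ z hz
    rw [act_utv hU hll, hll, mul_zero, zero_smul, add_zero] at ey
    rw [act_utv hU hll, hzl, mul_one] at ey'
    have e1 := congrArg (fun x => f x z) ey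
    have e2 := congrArg (fun x => f x z) ey'
    simp only [add_left hU, smul_left hU, hlz, mul_one] at e1 e2
    have hγF : γ ∈ F₀ := by
      rw [eq_div_of_mul_eq (right_ne_zero_of_mul_eq_one e1.symm) e1.symm]
      exact F₀.div_mem F₀.one_mem (hrat y hy z hz)
    refine hcF ?_
    rw [show c = γ * f y' z - f z z by linear_combination e2]
    exact F₀.sub_mem (F₀.mul_mem hγF (hrat y' hy' z hz)) (hrat z hz z hz)
  refine ⟨hlt, fun M hM1 hM2 => ?_⟩
  by_cases hsub : M ≤ Cfsg.Geo.subfieldSubgroup F₀ P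
  · exact Or.inl (le_antisymm (le_inf hsub hM2) hM1)
  right
  obtain ⟨g, hg, hgn⟩ := SetLike.not_le_iff_exists.1 hsub
  have C := hrootH M hM1 (hM2.trans inf_le_left)
  exact le_antisymm hM2 (su_le_of_utv_four hU hn M
    (fun u c hu hc => (utv_all C (seed_of_not_mem C hg hgn) u hu).2 c hc))

end Cfsg.Agent.MaxCl.USub
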