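/-
For `q` odd the orthogonal subgroup of `SU_n(q)` given by a structure over the field of fixed scalars on which the
unitary form is symmetric is maximal (`n ≥ 6`).

With no transvection at a rational point in an overgroup, an element of the root group of a rational singular `e`
lying in it has a rational vector; conjugates of root elements fixing such an `e` then force an element of the
overgroup to map rational singular points to rational points.
-/
import Mathlib
import Cfsg.Agent.Lib.MaxCl.UnitaryIso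
import Cfsg.Agent.Lib.MaxCl.UnitaryGen
import Cfsg.Agent.Lib.MaxCl.OrthBase
import Cfsg.Agent.Lib.MaxCl.SympSubfield

set_option autoImplicit false

namespace Cfsg.Agent.MaxCl.UOrth

open Cfsg.Agent.MaxCl.Unit
open scoped MatrixGroups Matrix

variable {ι : Type} [Fintype ι] [DecidableEq ι] {F : Type*} [Field F] [Fintype F]

/-- the standing hypotheses -/
structure Ctx (σ : F ≃+* F) (f : (ι → F) → (ι → F) → F) (F₀ : Subfield F) (P : GL ι F)
    (M : Subgroup (GL ι F)) : Prop where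
  unit : Cfsg.Geo.IsUnitaryForm σ f
  dim : 4 ≤ Fintype.card ι
  rat : ∀ x ∈ ratVec F₀ P, ∀ y ∈ ratVec F₀ P, f x y ∈ F₀
  fix : ∀ a : F, a ∈ F₀ ↔ σ a = a
  two : (2 : F) ≠ 0
  iso : M ≤ uiso f
  sieg_rat : ∀ a ∈ ratVec F₀ P, ∀ b ∈ ratVec F₀ P, f a a = 0 → f b b = 0 → f a b = 0 → ∀ s ∈ F₀,
    ∀ hU : Cfsg.Geo.IsUnitaryForm σ f, sieg hU a b s ∈ M

variable {σ : F ≃+* F} {f : (ι → F) → (ι → F) → F} {F₀ : Subfield F} {P : GL ι F} {M : Subgroup (GL ι F)}

/-- the coordinates embedding of rational vectors -/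
def embL (F₀ : Subfield F) (P : GL ι F) : (ι → F₀) →ₗ[F₀] (ι → F) where
  toFun u := act P fun i => (u i : F)
  map_add' u v := by simp only [← map_add]; rfl
  map_smul' c u := by
    show act P (fun i => ((c • u) i : F)) = (c : F) • act P fun i => (u i : F)
    rw [← map_smul]; rfl

theorem embL_mem (u : ι → F₀) : embL F₀ P u ∈ ratVec F₀ P := ⟨_, fun i => (u i).2, rfl⟩

theorem exists_embL {x : ι → F} (hx : x ∈ ratVec F₀ P) : ∃ u, embL F₀ P u = x := by
  obtain ⟨u, hu, rfl⟩ := hx; exact ⟨fun i => ⟨u i, hu i⟩, rfl⟩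

theorem embL_injective : Function.Injective (embL F₀ P) := fun _ _ h =>
  funext fun i => Subtype.ext (congrFun (act_injective P h) i)

/-- a seed: a transvection at a rational point -/
def Seed (hU : Cfsg.Geo.IsUnitaryForm σ f) (F₀ : Subfield F) (P : GL ι F) (M : Subgroup (GL ι F)) : Prop :=
  ∃ l ∈ ratVec F₀ P, l ≠ 0 ∧ f l l = 0 ∧ ∃ c, c ≠ 0 ∧ c + σ c = 0 ∧ utv hU l c ∈ M

/-- the span over the subfield of finitely many vectors -/
abbrev rspan (F₀ : Subfield F) {k : ℕ} (xs : Fin k → ι → F) : Submodule F₀ (ι → F) :=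
  Submodule.span F₀ (Set.range xs)

section

variable (C : Ctx σ f F₀ P M)
include C

theorem symm_rat {x y : ι → F} (hx : x ∈ ratVec F₀ P) (hy : y ∈ ratVec F₀ P) : f y x = f x y := by
  rw [← herm' C.unit x y, (C.fix _).1 (C.rat x hx y hy)]

theorem exists_skew_unit : ∃ ζ : F, ζ ≠ 0 ∧ σ ζ = -ζ ∧ ζ ∉ F₀ := by
  obtain ⟨z, hz⟩ := exists_moved C.unit.ne_refl
  have hne : z - σ z ≠ 0 := sub_ne_zero.2 (Ne.symm hz)
  have hs : σ (z - σ z) = -(z - σ z) := by rw [map_sub, C.unit.involutive, neg_sub]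
  refine ⟨_, hne, hs, fun h => hne ?_⟩
  have := (C.fix _).1 h
  rw [hs] at this
  exact (mul_eq_zero.1 (show (2 : F) * (z - σ z) = 0 by linear_combination -this)).resolve_left C.two

theorem exists_dec {ζ : F} (hζ : ζ ≠ 0) (hζs : σ ζ = -ζ) (v : ι → F) :
    ∃ x ∈ ratVec F₀ P, ∃ y ∈ ratVec F₀ P, v = x + ζ • y := by
  have h2 := C.two
  have hU := C.unit
  obtain ⟨u, rfl⟩ : ∃ u, v = act P u := ⟨_, (act_act_inv P v).symm⟩
  refine ⟨act P fun i => (u i + σ (u i)) / 2, ⟨_, fun i => (C.fix _).2 ?_, rfl⟩,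
    act P fun i => (u i - σ (u i)) / (2 * ζ), ⟨_, fun i => (C.fix _).2 ?_, rfl⟩, ?_⟩
  · rw [map_div₀, map_add, hU.involutive, map_ofNat, add_comm]
  · rw [map_div₀, map_sub, map_mul, hU.involutive, map_ofNat, hζs]
    field_simp
    ring
  · rw [← map_smul, ← map_add]
    congr 1; funext i
    simp only [Pi.add_apply, Pi.smul_apply, smul_eq_mul]
    field_simp
    ring

theorem coef_rat {ζ : F} (hζ : ζ ≠ 0) (hζs : σ ζ = -ζ) {a b : F} (ha : a ∈ F₀) (hb : b ∈ F₀)
    (h : a + ζ * b ∈ F₀) : b = 0 := by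
  have h1 := (C.fix _).1 h
  rw [map_add, map_mul, (C.fix a).1 ha, (C.fix b).1 hb, hζs] at h1
  exact (mul_eq_zero.1 (show (2 * ζ) * b = 0 by linear_combination -h1)).resolve_left (mul_ne_zero C.two hζ)

/-- the symmetric form on the rational vectors -/
theorem exists_quad : ∃ Q : QuadraticForm F₀ (ι → F₀), (QuadraticMap.polarBilin Q).Nondegenerate ∧
    (∀ u, (Q u : F) = f (embL F₀ P u) (embL F₀ P u)) ∧
    ∀ u v, ((QuadraticMap.polar (⇑Q) u v : F₀) : F) = 2 * f (embL F₀ P u) (embL F₀ P v) := by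
  have hU := C.unit
  let b : LinearMap.BilinMap F₀ (ι → F₀) F₀ :=
    LinearMap.mk₂ F₀ (fun u v => ⟨f (embL F₀ P u) (embL F₀ P v), C.rat _ (embL_mem u) _ (embL_mem v)⟩)
      (fun u u' v => Subtype.ext (by simp [map_add, add_left hU]))
      (fun c u v => Subtype.ext (by
        show f (embL F₀ P (c • u)) _ = (c : F) * f _ _
        rw [map_smul]; exact smul_left hU (c : F) _ _))
      (fun u v v' => Subtype.ext (by simp [map_add, add_right hU]))
      (fun c u v => Subtype.ext (by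
        show f _ (embL F₀ P (c • v)) = (c : F) * f _ _
        rw [map_smul]
        show f _ ((c : F) • embL F₀ P v) = _
        rw [smul_right hU, (C.fix _).1 c.2]))
  have hQ : ∀ u, (b.toQuadraticMap u : F) = f (embL F₀ P u) (embL F₀ P u) := fun u => rfl
  have hB : ∀ u v, ((QuadraticMap.polar (⇑b.toQuadraticMap) u v : F₀) : F) = 2 * f (embL F₀ P u) (embL F₀ P v) := by
    intro u v
    rw [QuadraticMap.polar, Subfield.coe_sub, Subfield.coe_sub, hQ, hQ, hQ, map_add, add_left hU, add_right hU,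
      add_right hU, symm_rat C (embL_mem u) (embL_mem v)]
    ring
  refine ⟨b.toQuadraticMap, ⟨fun u hu => ?_, fun u hu => ?_⟩, hQ, hB⟩
  all_goals
    refine embL_injective (P := P) ?_
    rw [map_zero]
    refine flinU_injective hU (ext_of_ratVec F₀ P fun y hy => ?_)
    obtain ⟨v, rfl⟩ := exists_embL hy
    rw [flinU_apply, flinU_apply, zero_right hU]
    have e := congrArg Subtype.val (hu v)
    rw [QuadraticMap.polarBilin_apply_apply, hB] at e
  · rw [symm_rat C (embL_mem u) (embL_mem v)]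
    exact (mul_eq_zero.1 e).resolve_left C.two
  · exact (mul_eq_zero.1 e).resolve_left C.two

theorem eq_zero_of_perp {v : ι → F} (h : ∀ x ∈ ratVec F₀ P, f x v = 0) : v = 0 :=
  flinU_injective C.unit (ext_of_ratVec F₀ P fun y hy => by
    rw [flinU_apply, flinU_apply, zero_right C.unit]; exact h y hy)

theorem exists_lift {k : ℕ} (xs : Fin k → ι → F) (hxs : ∀ i, xs i ∈ ratVec F₀ P) :
    ∃ ys : Fin k → ι → F₀, (∀ i, embL F₀ P (ys i) = xs i) ∧
      rspan F₀ xs = (Submodule.span F₀ (Set.range ys)).map (embL F₀ P) := by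
  choose ys hys using fun i => exists_embL (hxs i)
  refine ⟨ys, hys, ?_⟩
  rw [Submodule.map_span, ← Set.range_comp]
  congr 2
  exact funext fun i => (hys i).symm

/-- a rational singular vector orthogonal to a few rational vectors, outside their span, the radical of the span
being in the span of `m` vectors -/
theorem sing_perp_rad {k m : ℕ} (xs : Fin k → ι → F) (hxs : ∀ i, xs i ∈ ratVec F₀ P) (zs : Fin m → ι → F)
    (hrad : ∀ z ∈ rspan F₀ xs, (∀ i, f z (xs i) = 0) → z ∈ rspan F₀ zs) (h : k + m + 3 ≤ Fintype.card ι) :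
    ∃ u ∈ ratVec F₀ P, f u u = 0 ∧ (∀ i, f u (xs i) = 0) ∧ u ∉ rspan F₀ xs := by
  classical
  obtain ⟨Q, hnd, hQ, hB⟩ := exists_quad C
  obtain ⟨ys, hys, hspan⟩ := exists_lift C xs hxs
  have h1 := Orth.finrank_span_list_le (F := F₀) ys
  set E := Submodule.span F₀ (Set.range ys) with hE
  have h2 := Orth.finrank_perp hnd E
  have hperp : ∀ w ∈ Orth.perp Q E, ∀ i, f (embL F₀ P w) (xs i) = 0 := fun w hw i => by
    have h := congrArg Subtype.val ((Orth.mem_perp_span Q).1 hw _ ⟨i, rfl⟩)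
    rw [hB, hys] at h
    rw [symm_rat C (hxs i) (embL_mem w)]
    exact (mul_eq_zero.1 h).resolve_left C.two
  have h3 : Module.finrank F₀ ↥(E ⊓ Orth.perp Q E) ≤ m := by
    rw [(Submodule.equivMapOfInjective (embL F₀ P) embL_injective _).finrank_eq]
    refine (Submodule.finrank_mono (show _ ≤ rspan F₀ zs from ?_)).trans
      ((finrank_range_le_card zs).trans_eq (Fintype.card_fin m))
    rintro _ ⟨w, ⟨hwE, hwp⟩, rfl⟩
    exact hrad _ (hspan ▸ Submodule.mem_map_of_mem hwE) (hperp w hwp)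
  obtain ⟨u, hu, huX, hu0⟩ := Orth.exists_singular_notMem Q (D := Orth.perp Q E) (E := E ⊓ Orth.perp Q E)
    (by omega)
  refine ⟨_, embL_mem u, by rw [← hQ, hu0]; rfl, hperp u hu, ?_⟩
  rw [hspan]
  intro h
  obtain ⟨w, hw, e⟩ := Submodule.mem_map.1 h
  exact huX ⟨embL_injective e ▸ hw, hu⟩

/-- a rational singular vector orthogonal to a few rational vectors, outside their span -/
theorem sing_perp {k : ℕ} (hk : 2 * k + 3 ≤ Fintype.card ι) (xs : Fin k → ι → F) (hxs : ∀ i, xs i ∈ ratVec F₀ P) :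
    ∃ u ∈ ratVec F₀ P, f u u = 0 ∧ (∀ i, f u (xs i) = 0) ∧ u ∉ rspan F₀ xs :=
  sing_perp_rad C xs hxs xs (fun _ h _ => h) (by omega)

/-- the span of a pair of singular vectors with nonzero product has trivial radical -/
theorem pair_rad {x y : ι → F} (hxx : f x x = 0) (hyy : f y y = 0) (hxy : f x y ≠ 0) :
    ∀ z ∈ rspan F₀ ![x, y], (∀ i, f z ((![x, y] : Fin 2 → ι → F) i) = 0) → z ∈ rspan F₀ (![] : Fin 0 → ι → F) := by
  intro z hz hp
  have hU := C.unit
  rw [rspan, Matrix.range_cons, Matrix.range_cons, Matrix.range_empty, Set.union_empty, Set.singleton_union,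
    Submodule.mem_span_pair] at hz
  obtain ⟨a, b, rfl⟩ := hz
  have q1 : f ((a : F) • x + (b : F) • y) x = 0 := hp 0
  have q2 : f ((a : F) • x + (b : F) • y) y = 0 := hp 1
  simp only [add_left hU, smul_left hU, hxx, hyy, mul_zero, zero_add, add_zero] at q1 q2
  rw [show a = 0 from Subtype.ext ((mul_eq_zero.1 q2).resolve_right hxy),
    show b = 0 from Subtype.ext ((mul_eq_zero.1 q1).resolve_right (ne_symm hU hxy))]
  simp

/-- a rational vector orthogonal to given ones with product one with a vector outside their span -/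
theorem dual {k : ℕ} (xs : Fin k → ι → F) (hxs : ∀ i, xs i ∈ ratVec F₀ P) {b : ι → F}
    (hb : b ∈ ratVec F₀ P) (hout : b ∉ rspan F₀ xs) :
    ∃ z ∈ ratVec F₀ P, (∀ i, f z (xs i) = 0) ∧ f z b = 1 := by
  classical
  obtain ⟨Q, hnd, hQ, hB⟩ := exists_quad C
  obtain ⟨ys, hys, hspan⟩ := exists_lift C xs hxs
  obtain ⟨b, rfl⟩ := exists_embL hb
  obtain ⟨z, hz, hz1⟩ := Orth.exists_perp_one hnd (P := Submodule.span F₀ (Set.range ys)) (v := b) (fun h =>
    hout (hspan ▸ Submodule.mem_map_of_mem h))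
  have h2 : (2 : F) ∈ F₀ := by rw [← one_add_one_eq_two]; exact F₀.add_mem F₀.one_mem F₀.one_mem
  refine ⟨(2 : F) • embL F₀ P z, ratVec_smul h2 (embL_mem z), fun i => ?_, ?_⟩
  · have h := congrArg Subtype.val ((Orth.mem_perp_span Q).1 hz _ ⟨i, rfl⟩)
    rw [hB, hys, ← symm_rat C (hxs i) (embL_mem z)] at h
    rw [smul_left C.unit]; exact h
  · have h := congrArg Subtype.val hz1
    rw [hB, ← symm_rat C (embL_mem b) (embL_mem z)] at h
    rw [smul_left C.unit]; exact h

/-- a rational singular partner -/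
theorem partner {k : ℕ} (xs : Fin k → ι → F) (hxs : ∀ i, xs i ∈ ratVec F₀ P) {b : ι → F}
    (hb : b ∈ ratVec F₀ P) (hbb : f b b = 0) (hbx : ∀ i, f b (xs i) = 0) (hout : b ∉ rspan F₀ xs) :
    ∃ z ∈ ratVec F₀ P, f z z = 0 ∧ (∀ i, f z (xs i) = 0) ∧ f z b = 1 ∧ f b z = 1 := by
  have hU := C.unit
  obtain ⟨y, hy, hyx, hy1⟩ := dual C xs hxs hb hout
  have hby : f b y = 1 := by rw [symm_rat C hy hb, hy1]
  have hk : -(f y y / 2) ∈ F₀ := F₀.neg_mem (F₀.div_mem (C.rat y hy y hy)
    (by rw [← one_add_one_eq_two]; exact F₀.add_mem F₀.one_mem F₀.one_mem))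
  refine ⟨y + (-(f y y / 2)) • b, Submodule.add_mem _ hy (ratVec_smul hk hb), ?_, fun i => ?_, ?_, ?_⟩
  · rw [add_left hU, add_right hU, add_right hU, smul_left hU, smul_left hU, smul_right hU, smul_right hU,
      hbb, hy1, hby, (C.fix _).1 hk]
    have := C.two
    field_simp
    ring
  · rw [add_left hU, smul_left hU, hyx, hbx]; ring
  · rw [add_left hU, smul_left hU, hy1, hbb]; ring
  · rw [add_right hU, smul_right hU, hby, hbb]; ring

/-- rational vectors are differences of singular ones within the perp of a few vectors -/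
theorem sing_sub {k m : ℕ} (xs : Fin k → ι → F) (hxs : ∀ i, xs i ∈ ratVec F₀ P) (zs : Fin m → ι → F)
    (hrad : ∀ z ∈ rspan F₀ xs, (∀ i, f z (xs i) = 0) → z ∈ rspan F₀ zs) (h : k + m + 4 ≤ Fintype.card ι)
    {x : ι → F}
    (hx : x ∈ ratVec F₀ P) (hxx : ∀ i, f x (xs i) = 0) :
    ∃ w₁ ∈ ratVec F₀ P, ∃ w₂ ∈ ratVec F₀ P, f w₁ w₁ = 0 ∧ f w₂ w₂ = 0 ∧ (∀ i, f w₁ (xs i) = 0) ∧
      (∀ i, f w₂ (xs i) = 0) ∧ x = w₁ - w₂ := by
  have hU := C.unit
  have h2 := C.two
  have hall : ∀ i, (Fin.cons x xs : Fin (k + 1) → ι → F) i ∈ ratVec F₀ P := fun i => by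
    refine Fin.cases ?_ (fun j => ?_) i
    · simpa using hx
    · simpa using hxs j
  by_cases hx0 : f x x = 0
  · exact ⟨x, hx, 0, Submodule.zero_mem _, hx0, zero_left hU 0, hxx, fun i => zero_left hU _, (sub_zero x).symm⟩
  obtain ⟨u, hu, huu, hup, huo⟩ := sing_perp_rad C _ hall zs (fun z hz hzp => by
    rw [rspan, Fin.range_cons, Submodule.mem_span_insert] at hz
    obtain ⟨t, w, hw, rfl⟩ := hz
    have hwx : f w x = 0 := by
      clear hzp
      induction hw using Submodule.span_induction with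
      | mem w hw => obtain ⟨i, rfl⟩ := hw; exact eq_zero_symm hU (hxx i)
      | zero => exact zero_left hU _
      | add a b _ _ ha hb => rw [add_left hU, ha, hb, add_zero]
      | smul c a _ ha => exact (smul_left hU (c : F) a x).trans (by rw [ha, mul_zero])
    have h0 : f ((t : F) • x + w) x = 0 := hzp 0
    rw [add_left hU, smul_left hU, hwx, add_zero] at h0
    obtain rfl : t = 0 := Subtype.ext ((mul_eq_zero.1 h0).resolve_right hx0)
    rw [zero_smul, zero_add] at hzp ⊢
    exact hrad w hw fun i => by simpa using hzp i.succ) (by omega)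
  obtain ⟨u', hu', hu'u', hu'p, hu'u, huu'⟩ := partner C _ hall hu huu hup huo
  have hux : f u x = 0 := by simpa using hup 0
  have hu'x : f u' x = 0 := by simpa using hu'p 0
  have hxu : f x u = 0 := eq_zero_symm hU hux
  have hxu' : f x u' = 0 := eq_zero_symm hU hu'x
  have h2F : (2 : F) ∈ F₀ := by rw [← one_add_one_eq_two]; exact F₀.add_mem F₀.one_mem F₀.one_mem
  obtain ⟨a, ha⟩ : ∃ a, a = -(f x x / (2 * 2 * 2)) := ⟨_, rfl⟩
  have haF : a ∈ F₀ := ha ▸ F₀.neg_mem (F₀.div_mem (C.rat x hx x hx) (F₀.mul_mem (F₀.mul_mem h2F h2F) h2F))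
  have hh : (1 / 2 : F) ∈ F₀ := F₀.div_mem F₀.one_mem h2F
  have hsa : σ a = a := (C.fix a).1 haF
  have hsh : σ (1 / 2 : F) = 1 / 2 := (C.fix _).1 hh
  have key : ∀ s : F, s ∈ F₀ → s * s = 1 / (2 * 2) →
      f (s • x + (u' + a • u)) (s • x + (u' + a • u)) = 0 := fun s hs hss => by
    simp only [add_left hU, add_right hU, smul_left hU, smul_right hU, hux, hu'x, hxu, hxu', huu, hu'u', hu'u,
      huu', (C.fix s).1 hs, hsa, mul_zero, mul_one, add_zero, zero_add]
    rw [← mul_assoc, hss, ha]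
    field_simp
    ring
  have hperp : ∀ (s : F) i, f (s • x + (u' + a • u)) (xs i) = 0 := fun s i => by
    have h1 : f u (xs i) = 0 := by simpa using hup i.succ
    have h2' : f u' (xs i) = 0 := by simpa using hu'p i.succ
    rw [add_left hU, add_left hU, smul_left hU, smul_left hU, hxx, h1, h2']; ring
  have hrat : ∀ s ∈ F₀, s • x + (u' + a • u) ∈ ratVec F₀ P := fun s hs =>
    Submodule.add_mem _ (ratVec_smul hs hx) (Submodule.add_mem _ hu' (ratVec_smul haF hu))
  refine ⟨_, hrat _ hh, _, hrat _ (F₀.neg_mem hh), key _ hh (by field_simp), key _ (F₀.neg_mem hh) (by field_simp),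
    hperp _, hperp _, ?_⟩
  match_scalars <;> field_simp <;> ring

omit C in
theorem rspan_one {x y : ι → F} (h : y ∈ rspan F₀ ![x]) : ∃ a ∈ F₀, y = a • x := by
  rw [rspan, Matrix.range_cons, Matrix.range_empty, Set.union_empty, Submodule.mem_span_singleton] at h
  obtain ⟨a, ha⟩ := h
  exact ⟨a, a.2, ha.symm⟩

omit C in
theorem mem_rspan {k : ℕ} (xs : Fin k → ι → F) {a : F} (ha : a ∈ F₀) (i : Fin k) : a • xs i ∈ rspan F₀ xs :=
  Submodule.smul_mem _ (⟨a, ha⟩ : F₀) (Submodule.subset_span ⟨i, rfl⟩)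

/-- a coefficient at one rational point passes to an orthogonal one -/
theorem seed_step {l d : ι → F} (hl : l ∈ ratVec F₀ P) (hd : d ∈ ratVec F₀ P) (hll : f l l = 0)
    (hdd : f d d = 0) (hld : f l d = 0) (hind : ∀ a ∈ F₀, l ≠ a • d) {c : F} (hc : c + σ c = 0)
    (hM : utv C.unit l c ∈ M) :
    utv C.unit d c ∈ M ∧ ∀ s ∈ F₀, sieg C.unit l d (c * s) ∈ M := by
  have hU := C.unit
  have h2 := C.two
  have main : ∀ d, d ∈ ratVec F₀ P → f d d = 0 → f l d = 0 → (∀ a ∈ F₀, l ≠ a • d) →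
      utv hU d (2 * c) ∈ M ∧ ∀ s ∈ F₀, sieg hU l d (c * s) * utv hU d (c * s * s) ∈ M := by
    intro d hd hdd hld hind
    obtain ⟨z, hz, hzz, hzd', hzl, hlz⟩ := partner C ![d] (by simpa using hd) hl hll (by simpa using hld)
      (fun h => by obtain ⟨a, ha, e⟩ := rspan_one h; exact hind a ha e)
    have hzd : f z d = 0 := by simpa using hzd' 0
    have hdz := eq_zero_symm hU hzd
    have hX : ∀ s ∈ F₀, sieg hU l d (c * s) * utv hU d (c * s * s) ∈ M := by
      intro s hs
      have hg := C.sieg_rat d hd z hz hdd hzz hdz s hs hU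
      have := M.mul_mem (M.mul_mem hg hM) (M.inv_mem hg)
      rw [conj_utv hU (sieg_mem hU hdd hzz hdz s) hll, act_sieg hU hdd hzz hdz, hld, hlz, mul_zero,
        zero_smul, sub_zero, mul_one, utv_shift hU hll hdd hld c s hc, (C.fix s).1 hs, mul_assoc] at this
      exact (M.mul_mem_cancel_left hM).1 this
    refine ⟨?_, hX⟩
    have h12 := M.mul_mem (hX 1 F₀.one_mem) (hX (-1) (F₀.neg_mem F₀.one_mem))
    convert h12 using 1
    apply gl_ext; intro x
    simp only [act_mul, act_sieg hU hll hdd hld, act_utv hU hdd, map_mul, map_neg, map_one, add_left hU,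
      sub_left hU, smul_left hU, hll, hdd, hld, eq_zero_symm hU hld, mul_zero, add_zero, sub_zero]
    module
  have h2F : (2 : F) ∈ F₀ := by rw [← one_add_one_eq_two]; exact F₀.add_mem F₀.one_mem F₀.one_mem
  have full : ∀ d, d ∈ ratVec F₀ P → f d d = 0 → f l d = 0 → (∀ a ∈ F₀, l ≠ a • d) → utv hU d c ∈ M := by
    intro d hd hdd hld hind
    have hh : (1 / 2 : F) ∈ F₀ := F₀.div_mem F₀.one_mem h2F
    have := (main ((1 / 2 : F) • d) (ratVec_smul hh hd) (by rw [smul_left hU, smul_right hU, hdd]; ring)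
      (by rw [smul_right hU, hld]; ring) (fun a ha h => hind (a * (1 / 2)) (F₀.mul_mem ha hh) (by rw [h, smul_smul]))).1
    rw [utv_smul hU hdd, (C.fix _).1 hh] at this
    have h4 := M.mul_mem this this
    rw [utv_add hU hdd] at h4
    convert h4 using 2
    field_simp
    ring
  refine ⟨full d hd hdd hld hind, fun s hs => ?_⟩
  have h := (main d hd hdd hld hind).2 s hs
  refine (M.mul_mem_cancel_right ?_).1 h
  rcases eq_or_ne s 0 with rfl | hs0
  · rw [mul_zero, utv_zero hU]; exact M.one_mem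
  · have := full (s • d) (ratVec_smul hs hd) (by rw [smul_left hU, smul_right hU, hdd]; ring)
      (by rw [smul_right hU, hld]; ring) (fun a ha h => hind (a * s) (F₀.mul_mem ha hs) (by rw [h, smul_smul]))
    rwa [utv_smul hU hdd, (C.fix s).1 hs, show s * s * c = c * s * s by ring] at this

/-- two rational singular points are orthogonal and distinct or have a common orthogonal neighbour -/
theorem bridge (h6 : 6 ≤ Fintype.card ι) {l l' : ι → F} (hl : l ∈ ratVec F₀ P) (hl' : l' ∈ ratVec F₀ P) (hll : f l l = 0)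
    (hll' : f l' l' = 0) : (f l l' = 0 ∧ ∀ a ∈ F₀, l' ≠ a • l) ∨
      ∃ d ∈ ratVec F₀ P, f d d = 0 ∧ f d l = 0 ∧ f d l' = 0 ∧ d ≠ 0 ∧ (∀ a ∈ F₀, d ≠ a • l) ∧
        ∀ a ∈ F₀, d ≠ a • l' := by
  by_cases hdep : ∃ a ∈ F₀, l' = a • l
  · obtain ⟨a, ha, rfl⟩ := hdep
    obtain ⟨d, hd, hdd, hdp, hout⟩ := sing_perp C (by have := h6; omega) ![l] (by simpa using hl)
    have hdl : f d l = 0 := by simpa using hdp 0
    refine Or.inr ⟨d, hd, hdd, hdl, by rw [smul_right C.unit, hdl, mul_zero], fun h => hout (h ▸ zero_mem _),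
      fun b hb h => hout (h ▸ mem_rspan ![l] hb 0), fun b hb h => hout ?_⟩
    rw [h, smul_smul]
    exact mem_rspan ![l] (F₀.mul_mem hb ha) 0
  push Not at hdep
  by_cases h0 : f l l' = 0
  · exact Or.inl ⟨h0, hdep⟩
  obtain ⟨d, hd, hdd, hdp, hout⟩ := sing_perp_rad C ![l, l'] (by simp [Fin.forall_fin_two, hl, hl']) ![]
    (pair_rad C hll hll' h0) (by have := h6; omega)
  exact Or.inr ⟨d, hd, hdd, hdp 0, hdp 1, fun h => hout (h ▸ zero_mem _),
    fun a ha h => hout (h ▸ mem_rspan ![l, l'] ha 0), fun a ha h => hout (h ▸ mem_rspan ![l, l'] ha 1)⟩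

theorem seed_spread (h6 : 6 ≤ Fintype.card ι) {l : ι → F} (hl : l ∈ ratVec F₀ P) (hl0 : l ≠ 0) (hll : f l l = 0) {c : F}
    (hc : c + σ c = 0) (hM : utv C.unit l c ∈ M) {l' : ι → F} (hl' : l' ∈ ratVec F₀ P)
    (hll' : f l' l' = 0) : utv C.unit l' c ∈ M := by
  have hU := C.unit
  rcases eq_or_ne l' 0 with rfl | hl'0
  · rw [show utv hU (0 : ι → F) c = 1 from gl_ext fun x => by
      rw [act_utv hU (zero_left hU 0), act_one]; simp]
    exact M.one_mem
  have hswap : ∀ x y : ι → F, x ≠ 0 → (∀ a ∈ F₀, y ≠ a • x) → ∀ a ∈ F₀, x ≠ a • y := fun x y hx0 h a ha e => by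
    have ha0 : a ≠ 0 := by rintro rfl; exact hx0 (by rw [e, zero_smul])
    exact h a⁻¹ (F₀.inv_mem ha) (by rw [e, inv_smul_smul₀ ha0])
  rcases bridge C h6 hl hl' hll hll' with ⟨h0, hne⟩ | ⟨d, hd, hdd, hdl, hdl', hd0, hne, hne'⟩
  · exact (seed_step C hl hl' hll hll' h0 (hswap l l' hl0 hne) hc hM).1
  · have h1 := (seed_step C hl hd hll hdd (eq_zero_symm hU hdl) (hswap l d hl0 hne) hc hM).1
    exact (seed_step C hd hl' hdd hll' hdl' hne' hc h1).1

/-- with a seed all Siegel elements and transvections at rational points are in `M` -/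
theorem root_rat (h6 : 6 ≤ Fintype.card ι) (hs : Seed C.unit F₀ P M) :
    (∀ a ∈ ratVec F₀ P, f a a = 0 → RootIn C.unit M a) ∧
    ∀ a ∈ ratVec F₀ P, ∀ b ∈ ratVec F₀ P, f a a = 0 → f b b = 0 → f a b = 0 → (∀ k ∈ F₀, a ≠ k • b) →
      ∀ t, sieg C.unit a b t ∈ M := by
  have hU := C.unit
  obtain ⟨l, hl, hl0, hll, c, hc0, hc, hM⟩ := hs
  have hcs : σ c = -c := eq_neg_of_add_eq_zero_right hc
  have hsieg : ∀ a ∈ ratVec F₀ P, ∀ b ∈ ratVec F₀ P, f a a = 0 → f b b = 0 → f a b = 0 →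
      (∀ k ∈ F₀, a ≠ k • b) → ∀ t, sieg hU a b t ∈ M := by
    intro a ha b hb i1 i2 i3 i4 t
    have h2 := C.two
    have hx : (t + σ t) / 2 ∈ F₀ := (C.fix _).2 (by rw [map_div₀, map_add, hU.involutive, map_ofNat, add_comm])
    have hy : (t - σ t) / (2 * c) ∈ F₀ := (C.fix _).2 (by
      rw [map_div₀, map_sub, map_mul, hU.involutive, map_ofNat, hcs]
      field_simp
      ring)
    rw [show t = (t + σ t) / 2 + c * ((t - σ t) / (2 * c)) by field_simp; ring, ← sieg_add hU i1 i2 i3]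
    exact M.mul_mem (C.sieg_rat a ha b hb i1 i2 i3 _ hx hU)
      ((seed_step C ha hb i1 i2 i3 i4 hc (seed_spread C h6 hl hl0 hll hc hM ha i1)).2 _ hy)
  refine ⟨fun d hd hdd => ⟨hdd, fun c' hc' => ?_⟩, hsieg⟩
  rcases eq_or_ne d 0 with rfl | hd0
  · rw [show utv hU (0 : ι → F) c' = 1 from gl_ext fun x => by
      rw [act_utv hU (zero_left hU 0), act_one]; simp]
    exact M.one_mem
  obtain ⟨l, hl, hll, hlp, hout⟩ := sing_perp C (by have := h6; omega) ![d] (by simpa using hd)
  have hld : f l d = 0 := by simpa using hlp 0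
  have hind : ∀ k ∈ F₀, l ≠ k • d := fun k hk h => hout (h ▸ mem_rspan ![d] hk 0)
  obtain ⟨b', hb', hb'b', hb'p, -, hlb'⟩ := partner C ![d] (by simpa using hd) hl hll (by simpa using hld) hout
  have hdb' := eq_zero_symm hU (show f b' d = 0 by simpa using hb'p 0)
  have h1 := C.sieg_rat d hd b' hb' hdd hb'b' hdb' 1 F₀.one_mem hU
  have h2 := hsieg l hl d hd hll hdd hld hind (c' / 2)
  have h3 := M.mul_mem (M.mul_mem h1 h2) (M.inv_mem h1)
  rw [conj_sieg hU (sieg_mem hU hdd hb'b' hdb' 1) hld, act_sieg hU hdd hb'b' hdb', act_sieg hU hdd hb'b' hdb',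
    hld, hlb', hdd, hdb'] at h3
  simp only [mul_zero, zero_smul, sub_zero, add_zero, mul_one, one_smul] at h3
  rw [← sieg_add_left hU hll hdd hld hdd hld hdd] at h3
  have h4 := (M.mul_mem_cancel_left h2).1 h3
  convert h4 using 1
  apply gl_ext; intro x
  rw [act_utv hU hdd, act_sieg hU hdd hdd hdd, map_div₀, map_ofNat,
    show σ c' = -c' from eq_neg_of_add_eq_zero_right hc', add_sub_assoc, ← sub_smul]
  congr 2
  have := C.two
  field_simp
  ring

/-- a seed gives all transvections -/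
theorem utv_all (h6 : 6 ≤ Fintype.card ι) (hs : Seed C.unit F₀ P M) (v : ι → F) (hvv : f v v = 0) : RootIn C.unit M v := by
  have hU := C.unit
  obtain ⟨hroot, hsieg⟩ := root_rat C h6 hs
  rcases eq_or_ne v 0 with rfl | hv0
  · refine ⟨hvv, fun c _ => ?_⟩
    rw [show utv hU (0 : ι → F) c = 1 from gl_ext fun x => by
      rw [act_utv hU (zero_left hU 0), act_one]; simp]
    exact M.one_mem
  obtain ⟨e, he, hee, hve⟩ : ∃ e ∈ ratVec F₀ P, f e e = 0 ∧ f v e ≠ 0 := by
    by_contra hno; push Not at hno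
    apply hv0
    refine eq_zero_of_perp C fun x hx => ?_
    obtain ⟨w₁, h₁, w₂, h₂, i₁, i₂, -, -, rfl⟩ := sing_sub C (k := 0) ![] (fun i => i.elim0)
      (![] : Fin 0 → ι → F) (fun _ h _ => h) (by have := h6; omega) hx
      (fun i => i.elim0)
    rw [sub_left hU, eq_zero_symm hU (hno w₁ h₁ i₁), eq_zero_symm hU (hno w₂ h₂ i₂), sub_zero]
  have he0 : e ≠ 0 := fun h => hve (by rw [h, zero_right hU])
  obtain ⟨e', he', he'e', -, he'e, hee'⟩ := partner C (k := 0) ![] (fun i => i.elim0) he hee (fun i => i.elim0)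
    (by simpa [rspan, Matrix.range_empty] using he0)
  obtain ⟨v₁, hv₁⟩ : ∃ v₁, v₁ = (f v e)⁻¹ • v := ⟨_, rfl⟩
  have h1e : f v₁ e = 1 := by rw [hv₁, smul_left hU, inv_mul_cancel₀ hve]
  suffices RootIn hU M v₁ by
    have := rootIn_smul hU this (f v e)
    rwa [hv₁, smul_inv_smul₀ hve] at this
  let S : Set (ι → F) := {w | ∃ h ∈ M, h ∈ uiso f ∧ act h e = e ∧ (∃ t : F, act h e' = e' + w + t • e) ∧
    ∀ x, f x e = 0 → ∃ k : F, act h x - x - k • e = 0}
  have hS0 : (0 : ι → F) ∈ S := ⟨1, M.one_mem, one_mem _, act_one e, ⟨0, by rw [act_one]; simp⟩,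
    fun x _ => ⟨0, by rw [act_one]; simp⟩⟩
  have hSadd : ∀ w₁ w₂, w₁ ∈ S → w₂ ∈ S → f w₂ e = 0 → w₁ + w₂ ∈ S := by
    rintro w₁ w₂ ⟨h, hh, hi, h1, ⟨t, ht⟩, h2⟩ ⟨h', hh', hi', h1', ⟨t', ht'⟩, h2'⟩ hwe
    refine ⟨h * h', M.mul_mem hh hh', mul_mem hi hi', by rw [act_mul, h1', h1], ?_, fun x hx => ?_⟩
    · obtain ⟨k, hk⟩ := h2 w₂ hwe
      refine ⟨t + k + t', ?_⟩
      rw [act_mul, ht', map_add, map_add, map_smul, h1, ht]
      linear_combination (norm := module) hk
    · obtain ⟨k', hk'⟩ := h2' x hx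
      obtain ⟨k, hk⟩ := h2 x hx
      refine ⟨k + k', ?_⟩
      rw [act_mul, show act h' x = x + k' • e by linear_combination (norm := module) hk', map_add, map_smul, h1]
      linear_combination (norm := module) hk
  have hSiso : ∀ b ∈ ratVec F₀ P, f b b = 0 → f b e = 0 → f b e' = 0 → ∀ t : F, t • b ∈ S := by
    intro b hb hbb hbe hbe' t
    rcases eq_or_ne b 0 with rfl | hb0
    · rw [smul_zero]; exact hS0
    have hind : ∀ k ∈ F₀, b ≠ k • e := fun k _ h => by
      rw [h, smul_left hU, hee', mul_one] at hbe'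
      exact hb0 (by rw [h, hbe', zero_smul])
    refine ⟨_, hsieg b hb e he hbb hee hbe hind t, sieg_mem hU hbb hee hbe t, ?_, ⟨0, ?_⟩, fun x hx => ?_⟩
    · rw [act_sieg hU hbb hee hbe, hee, eq_zero_symm hU hbe]; simp
    · rw [act_sieg hU hbb hee hbe, he'e, eq_zero_symm hU hbe']; simp
    · refine ⟨-(σ t * f x b), ?_⟩
      rw [act_sieg hU hbb hee hbe, hx]
      module
  let p : (ι → F) →ₗ[F] (ι → F) :=
    LinearMap.id - (flinU hU e).smulRight e' - (flinU hU e').smulRight e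
  have hp : ∀ x, p x = x - f x e • e' - f x e' • e := fun x => rfl
  have hpe : ∀ x, f (p x) e = 0 ∧ f (p x) e' = 0 := fun x => by
    rw [hp, sub_left hU, sub_left hU, sub_left hU, sub_left hU, smul_left hU, smul_left hU, smul_left hU,
      smul_left hU, hee, he'e', he'e, hee']
    constructor <;> ring
  have hpS : ∀ u : ι → F, p (act P u) ∈ S := by
    intro u
    induction u using Pi.single_induction with
    | zero => rw [map_zero, map_zero]; exact hS0
    | add a b ha hb => rw [map_add, map_add]; exact hSadd _ _ ha hb (hpe _).1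
    | single i k =>
      have hx := ratVec_basis F₀ P i
      rw [show (Pi.single i k : ι → F) = k • Pi.single i 1 by ext j; simp [Pi.single_apply], map_smul, map_smul]
      have hpx : p (act P (Pi.single i 1)) ∈ ratVec F₀ P := by
        rw [hp]
        exact Submodule.sub_mem _ (Submodule.sub_mem _ hx (ratVec_smul (C.rat _ hx _ he) he'))
          (ratVec_smul (C.rat _ hx _ he') he)
      obtain ⟨w₁, h₁, w₂, h₂, i₁, i₂, o₁, o₂, e12⟩ := sing_sub C (k := 2) ![e, e']
        (by simp [Fin.forall_fin_two, he, he']) (![] : Fin 0 → ι → F)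
        (pair_rad C hee he'e' (by rw [hee']; exact one_ne_zero)) (by have := h6; omega) hpx (by simp [Fin.forall_fin_two, (hpe _).1, (hpe _).2])
      simp only [Fin.forall_fin_two, Matrix.cons_val_zero, Matrix.cons_val_one] at o₁ o₂
      rw [e12, smul_sub, sub_eq_add_neg, ← neg_smul]
      exact hSadd _ _ (hSiso w₁ h₁ i₁ o₁.1 o₁.2 k) (hSiso w₂ h₂ i₂ o₂.1 o₂.2 (-k))
        (by rw [smul_left hU, o₂.1, mul_zero])
  obtain ⟨h, hh, hi, hhe, ⟨t, ht⟩, -⟩ := hpS (act P⁻¹ v₁)
  rw [act_act_inv, hp, h1e, one_smul] at ht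
  obtain ⟨δ, hδ⟩ : ∃ δ, δ = f v₁ e' - t := ⟨_, rfl⟩
  have hv1 : v₁ = act h e' + δ • e := by rw [ht, hδ]; module
  have hA : RootIn hU M (act h e') := rootIn_conj hU hh hi (hroot e' he' he'e')
  have hAe : f (act h e') e = 1 := by
    conv_lhs => rw [← hhe, mem_uiso.1 hi, he'e]
  have hskew : δ + σ δ = 0 := by
    have h0' : f v₁ v₁ = 0 := by rw [hv₁, smul_left hU, smul_right hU, hvv, mul_zero, mul_zero]
    rw [hv1, add_left hU, add_right hU, add_right hU, smul_left hU, smul_left hU, smul_right hU, smul_right hU,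
      hA.1, hee, hAe, ← herm' hU (act h e') e, hAe, map_one] at h0'
    linear_combination h0'
  have := rootIn_conj hU ((hroot e he hee).2 δ hskew) (utv_mem hU hee hskew) hA
  rwa [act_utv hU hee, hAe, mul_one, ← hv1] at this

/-- the root element of an isotropic `v` with vector `w` orthogonal to it -/
noncomputable def tev (hU : Cfsg.Geo.IsUnitaryForm σ f) (v w : ι → F) : GL ι F :=
  ptv hU v (w + (f w w / 2) • v) * ptv hU w (-v)

theorem act_tev {v w : ι → F} (hvv : f v v = 0) (hwv : f w v = 0) (x : ι → F) :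
    act (tev C.unit v w) x = x + f x w • v - f x v • w - (f w w / 2 * f x v) • v := by
  have hU := C.unit
  have hvw := eq_zero_symm hU hwv
  have hneg : ∀ z : ι → F, f z (-v) = -f z v := fun z => by
    rw [← neg_one_smul F v, smul_right hU, map_neg, map_one, neg_one_mul]
  have hww : σ (f w w / 2) = f w w / 2 := by rw [map_div₀, herm' hU, map_ofNat]
  rw [tev, act_mul, act_ptv hU (by rw [add_right hU, hvw, smul_right hU, hvv, mul_zero, add_zero]),
    act_ptv hU (by rw [hneg, hwv, neg_zero]), hneg]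
  simp only [add_left hU, add_right hU, smul_left hU, smul_right hU, hwv, hww, mul_zero, add_zero]
  have := C.two
  match_scalars <;> field_simp <;> ring

theorem conj_tev {g : GL ι F} (hg : g ∈ uiso f) {v w : ι → F} (hvv : f v v = 0) (hwv : f w v = 0) :
    g * tev C.unit v w * g⁻¹ = tev C.unit (act g v) (act g w) := by
  have hU := C.unit
  have h1 : f v (w + (f w w / 2) • v) = 0 := by
    rw [add_right hU, eq_zero_symm hU hwv, smul_right hU, hvv, mul_zero, add_zero]
  have h2 : f w (-v) = 0 := by rw [← neg_one_smul F v, smul_right hU, hwv, mul_zero]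
  rw [tev, tev, mem_uiso.1 hg, ← map_smul, ← map_add, ← map_neg, ← conj_ptv hU hg h1, ← conj_ptv hU hg h2]
  group

theorem tev_mul {v w w' : ι → F} (hvv : f v v = 0) (hwv : f w v = 0) (hwv' : f w' v = 0) :
    tev C.unit v w * tev C.unit v w' = tev C.unit v (w + w') * utv C.unit v ((f w w' - f w' w) / 2) := by
  have hU := C.unit
  have h3 : f (w + w') v = 0 := by rw [add_left hU, hwv, hwv', add_zero]
  apply gl_ext; intro x
  rw [act_mul, act_mul, act_utv hU hvv, act_tev C hvv hwv', act_tev C hvv hwv, act_tev C hvv h3]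
  simp only [add_left hU, sub_left hU, add_right hU, smul_left hU, hvv, hwv', eq_zero_symm hU hwv,
    eq_zero_symm hU hwv', mul_zero, add_zero, sub_zero]
  have := C.two
  match_scalars <;> field_simp <;> ring

/-- the rational root elements are in `M` -/
theorem tev_rat (h6 : 6 ≤ Fintype.card ι) {a d : ι → F} (ha : a ∈ ratVec F₀ P) (haa : f a a = 0) (hd : d ∈ ratVec F₀ P) (hda : f d a = 0) :
    tev C.unit a d ∈ M := by
  have hU := C.unit
  obtain ⟨w₁, h₁, w₂, h₂, i₁, i₂, o₁, o₂, rfl⟩ := sing_sub C ![a] (by simpa using ha) ![a] (fun _ h _ => h)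
    (by have := h6; omega) hd (by simpa using hda)
  have hone : ∀ b ∈ ratVec F₀ P, f b b = 0 → f b a = 0 → tev hU a b ∈ M := fun b hb hbb hba => by
    convert C.sieg_rat a ha b hb haa hbb (eq_zero_symm hU hba) 1 F₀.one_mem hU using 1
    apply gl_ext; intro x
    rw [act_tev C haa hba, act_sieg hU haa hbb (eq_zero_symm hU hba), hbb, map_one]
    simp
  have hn : -w₂ ∈ ratVec F₀ P := Submodule.neg_mem _ h₂
  have e₁ : f w₁ a = 0 := by simpa using o₁ 0
  have e₂ : f (-w₂) a = 0 := by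
    rw [← neg_one_smul F w₂, smul_left hU, show f w₂ a = 0 by simpa using o₂ 0, mul_zero]
  have h := M.mul_mem (hone w₁ h₁ i₁ e₁) (hone (-w₂) hn
    (by rw [← neg_one_smul F w₂, smul_left hU, smul_right hU, i₂, mul_zero, mul_zero]) e₂)
  rw [tev_mul C haa e₁ e₂, symm_rat C h₁ hn, sub_self, zero_div, utv_zero hU, mul_one, ← sub_eq_add_neg] at h
  exact h

/-- without seeds a root element at a rational point in `M` has real products with rational vectors -/
theorem tev_real (h6 : 6 ≤ Fintype.card ι) (hseed : ¬ Seed C.unit F₀ P M) {e w b : ι → F} (he : e ∈ ratVec F₀ P) (he0 : e ≠ 0)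
    (hee : f e e = 0) (hwe : f w e = 0) (hM : tev C.unit e w ∈ M) (hb : b ∈ ratVec F₀ P) (hbe : f b e = 0) :
    f b w ∈ F₀ := by
  have hU := C.unit
  have h2 := C.two
  have hMb := tev_rat C h6 he hee hb hbe
  obtain ⟨k, hk⟩ : ∃ k, k = (f w b - f b w) / 2 := ⟨_, rfl⟩
  have hks : k + σ k = 0 := by rw [hk, map_div₀, map_sub, herm' hU, herm' hU, map_ofNat]; ring
  have e1 := tev_mul C hee hwe hbe
  have e2 := tev_mul C hee hbe hwe
  rw [← hk] at e1
  rw [add_comm b w, show (f b w - f w b) / 2 = -k by rw [hk]; ring, utv_neg hU hee] at e2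
  have h : utv hU e (k + k) ∈ M := by
    have := M.mul_mem (M.inv_mem (M.mul_mem hMb hM)) (M.mul_mem hM hMb)
    rwa [e1, e2, mul_inv_rev, inv_inv, mul_assoc, inv_mul_cancel_left, utv_add hU hee] at this
  have hk0 : k = 0 := by
    by_contra h0
    exact hseed ⟨e, he, he0, hee, k + k, by rw [← two_mul]; exact mul_ne_zero h2 h0,
      by rw [map_add]; linear_combination 2 * hks, h⟩
  refine (C.fix _).2 ?_
  rw [herm' hU]
  rw [hk, div_eq_zero_iff, sub_eq_zero] at hk0
  exact hk0.resolve_right h2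

/-- a vector orthogonal to the rational perp of rational vectors lies in their span -/
theorem mem_span_of_perp {k : ℕ} (xs : Fin k → ι → F) (hxs : ∀ i, xs i ∈ ratVec F₀ P) {w : ι → F}
    (h : ∀ x ∈ ratVec F₀ P, (∀ i, f x (xs i) = 0) → f x w = 0) : w ∈ Submodule.span F (Set.range xs) := by
  have hU := C.unit
  obtain ⟨ζ, hζ, hζs, -⟩ := exists_skew_unit C
  obtain ⟨y₁, hy₁, y₂, hy₂, rfl⟩ := exists_dec C hζ hζs w
  have hin : ∀ y ∈ ratVec F₀ P, (∀ x ∈ ratVec F₀ P, (∀ i, f x (xs i) = 0) → f x y = 0) →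
      y ∈ Submodule.span F (Set.range xs) := by
    intro y hy hyp
    by_contra hns
    obtain ⟨z, hz, hzp, hzy⟩ := dual C xs hxs hy (fun h' => hns ((Submodule.span_le.2
      (Submodule.subset_span (R := F)) : rspan F₀ xs ≤ (Submodule.span F (Set.range xs)).restrictScalars F₀) h'))
    exact one_ne_zero (hzy.symm.trans (hyp z hz hzp))
  have hparts : ∀ x ∈ ratVec F₀ P, (∀ i, f x (xs i) = 0) → f x y₁ = 0 ∧ f x y₂ = 0 := by
    intro x hx hp
    have h0 := h x hx hp
    rw [add_right hU, smul_right hU, hζs] at h0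
    have h2 := coef_rat C (neg_ne_zero.2 hζ) (by rw [map_neg, hζs]) (C.rat x hx y₁ hy₁) (C.rat x hx y₂ hy₂)
      (by rw [h0]; exact F₀.zero_mem)
    rw [h2, mul_zero, add_zero] at h0
    exact ⟨h0, h2⟩
  exact add_mem (hin y₁ hy₁ fun x hx hp => (hparts x hx hp).1)
    (Submodule.smul_mem _ _ (hin y₂ hy₂ fun x hx hp => (hparts x hx hp).2))

/-- rational vectors independent over the subfield are independent -/
theorem rat_indep {k : ℕ} {us : Fin k → ι → F₀} (h : LinearIndependent F₀ us) :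
    LinearIndependent F fun i => embL F₀ P (us i) := by
  have hU := C.unit
  have h2 := C.two
  obtain ⟨ζ, hζ, hζs, -⟩ := exists_skew_unit C
  have hre : ∀ t : F, (t + σ t) / 2 ∈ F₀ := fun t =>
    (C.fix _).2 (by rw [map_div₀, map_add, hU.involutive, map_ofNat, add_comm])
  have him : ∀ t : F, (t - σ t) / (2 * ζ) ∈ F₀ := fun t => (C.fix _).2 (by
    rw [map_div₀, map_sub, map_mul, hU.involutive, map_ofNat, hζs]
    field_simp
    ring)
  rw [Fintype.linearIndependent_iff]
  intro c hc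
  let R : Fin k → F₀ := fun i => ⟨_, hre (c i)⟩
  let S : Fin k → F₀ := fun i => ⟨_, him (c i)⟩
  have hsum : ∀ T : Fin k → F₀, (∑ i, (T i : F) • embL F₀ P (us i)) = embL F₀ P (∑ i, T i • us i) := fun T => by
    rw [map_sum]; simp only [map_smul]; rfl
  have hdec : embL F₀ P (∑ i, R i • us i) + ζ • embL F₀ P (∑ i, S i • us i) = 0 := by
    rw [← hsum, ← hsum, Finset.smul_sum, ← Finset.sum_add_distrib, ← hc]
    refine Finset.sum_congr rfl fun i _ => ?_
    rw [smul_smul, ← add_smul]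
    congr 1
    simp only [R, S]
    field_simp
    ring
  have hz : (∑ i, S i • us i) = 0 := embL_injective (by
    rw [map_zero]
    refine eq_zero_of_perp C fun x hx => ?_
    have h0 := congrArg (f x) hdec
    rw [add_right hU, smul_right hU, hζs, zero_right hU] at h0
    exact coef_rat C (neg_ne_zero.2 hζ) (by rw [map_neg, hζs]) (C.rat x hx _ (embL_mem _))
      (C.rat x hx _ (embL_mem _)) (by rw [h0]; exact F₀.zero_mem))
  rw [hz, map_zero, smul_zero, add_zero] at hdec
  have hr : (∑ i, R i • us i) = 0 := embL_injective (hdec.trans (map_zero _).symm)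
  intro i
  have h1 := congrArg Subtype.val (Fintype.linearIndependent_iff.1 h R hr i)
  have h3 := congrArg Subtype.val (Fintype.linearIndependent_iff.1 h S hz i)
  simp only [R, S, ZeroMemClass.coe_zero, div_eq_zero_iff, h2, mul_ne_zero h2 hζ, or_false] at h1 h3
  exact (mul_eq_zero.1 (show (2 : F) * c i = 0 by linear_combination h1 + h3)).resolve_left h2

/-- without seeds an element of `M` maps rational singular points to rational points -/
theorem point_rat (h6 : 6 ≤ Fintype.card ι) (hseed : ¬ Seed C.unit F₀ P M) {g : GL ι F} (hg : g ∈ M) {a : ι → F}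
    (ha : a ∈ ratVec F₀ P) (haa : f a a = 0) : ∃ s : F, ∃ a₁ ∈ ratVec F₀ P, act g a = s • a₁ := by
  classical
  have hU := C.unit
  have hi := mem_uiso.1 (C.iso hg)
  rcases eq_or_ne a 0 with rfl | ha0
  · exact ⟨0, 0, Submodule.zero_mem _, by simp⟩
  obtain ⟨ζ, hζ, hζs, -⟩ := exists_skew_unit C
  obtain ⟨a₁, ha₁, a₂, ha₂, hga⟩ := exists_dec C hζ hζs (act g a)
  by_contra hno
  push Not at hno
  obtain ⟨v, hv⟩ : ∃ v, v = act g a := ⟨_, rfl⟩
  rw [← hv] at hga hno
  have hvv : f v v = 0 := by rw [hv, hi, haa]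
  -- products of the images with rational vectors
  have key : ∀ e ∈ ratVec F₀ P, e ≠ 0 → f e e = 0 → f e v = 0 → ∀ d ∈ ratVec F₀ P, f d a = 0 →
      f (act g d) e = 0 → ∀ h ∈ ratVec F₀ P, f h e = 0 → f h v = 0 → ∀ b ∈ ratVec F₀ P, f b e = 0 →
      σ (f h (act g d)) * f b v ∈ F₀ := by
    intro e he he0 hee hev d hd hda hde h hh hhe hhv b hb hbe
    obtain ⟨w, hw⟩ : ∃ w, w = act g d := ⟨_, rfl⟩
    rw [← hw] at hde ⊢
    have hwv : f w v = 0 := by rw [hw, hv, hi, hda]
    have hX : tev hU v w ∈ M := by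
      have := M.mul_mem (M.mul_mem hg (tev_rat C h6 ha haa hd hda)) (M.inv_mem hg)
      rwa [conj_tev C (C.iso hg) haa hda, ← hv, ← hw] at this
    have hXe : act (tev hU v w) e = e := by
      rw [act_tev C hvv hwv, hev, eq_zero_symm hU hde]; simp
    have hXh : act (tev hU v w) h = h + f h w • v := by
      rw [act_tev C hvv hwv, hhv]; simp
    have hm := M.mul_mem (M.mul_mem hX (tev_rat C h6 he hee hh hhe)) (M.inv_mem hX)
    rw [conj_tev C (C.iso hX) hee hhe, hXe, hXh] at hm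
    have := tev_real C h6 hseed he he0 hee
      (by rw [add_left hU, smul_left hU, hhe, eq_zero_symm hU hev, mul_zero, add_zero]) hm hb hbe
    rw [add_right hU, smul_right hU] at this
    have := F₀.sub_mem this (C.rat b hb h hh)
    rwa [add_sub_cancel_left] at this
  -- the images cannot fit in a plane
  have hfinal : ∀ e ∈ ratVec F₀ P, ∀ x y : ι → F,
      (∀ d ∈ ratVec F₀ P, f d a = 0 → f (act g d) e = 0 → act g d ∈ Submodule.span F {x, y}) → False := by
    intro e he x y hsub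
    haveI : Fintype F₀ := Fintype.ofFinite _
    have h2 : Module.finrank F₀ F ≤ 2 := by
      let L : (F₀ × F₀) →ₗ[F₀] F := (LinearMap.toSpanSingleton F₀ F 1).coprod (LinearMap.toSpanSingleton F₀ F ζ)
      have hL : Function.Surjective L := fun t => by
        refine ⟨(⟨(t + σ t) / 2, (C.fix _).2 (by rw [map_div₀, map_add, hU.involutive, map_ofNat, add_comm])⟩,
          ⟨(t - σ t) / (2 * ζ), (C.fix _).2 (by
            rw [map_div₀, map_sub, map_mul, hU.involutive, map_ofNat, hζs]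
            have := C.two
            field_simp
            ring)⟩), ?_⟩
        show (t + σ t) / 2 * 1 + (t - σ t) / (2 * ζ) * ζ = t
        have := C.two
        field_simp
        ring
      have h := LinearMap.finrank_range_le L
      rw [LinearMap.range_eq_top.2 hL, finrank_top, Module.finrank_prod, Module.finrank_self] at h
      exact h
    let ψ : (ι → F₀) →ₗ[F₀] F₀ × F :=
      { toFun := fun u => (⟨f (embL F₀ P u) a, C.rat _ (embL_mem u) _ ha⟩, f (act g (embL F₀ P u)) e)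
        map_add' := fun u u' => Prod.ext (Subtype.ext (by simp [map_add, add_left hU]))
          (by simp [map_add, add_left hU])
        map_smul' := fun c u => by
          refine Prod.ext (Subtype.ext ?_) ?_
          · show f (embL F₀ P (c • u)) a = (c : F) * f _ _
            rw [map_smul]; exact smul_left hU (c : F) _ _
          · show f (act g (embL F₀ P (c • u))) e = (c : F) * f _ _
            rw [map_smul]
            show f (act g ((c : F) • embL F₀ P u)) e = _
            rw [map_smul, smul_left hU] }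
    have h1 := LinearMap.finrank_range_add_finrank_ker ψ
    have h3 := Submodule.finrank_le (LinearMap.range ψ)
    rw [Module.finrank_prod, Module.finrank_self] at h3
    rw [Module.finrank_pi] at h1
    have hdim := h6
    obtain ⟨us, hus⟩ := exists_linearIndependent_of_le_finrank (R := F₀) (M := LinearMap.ker ψ) (n := 3) (by omega)
    have hli := (rat_indep C (hus.map' _ (Submodule.ker_subtype _))).map' (act g)
      (LinearMap.ker_eq_bot.2 (act_injective g))
    have hle : Submodule.span F (Set.range (⇑(act g) ∘ fun i => embL F₀ P ((⇑(LinearMap.ker ψ).subtype ∘ us) i))) ≤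
        Submodule.span F {x, y} := by
      rw [Submodule.span_le]
      rintro _ ⟨i, rfl⟩
      have hk := LinearMap.mem_ker.1 (us i).2
      exact hsub _ (embL_mem _) (congrArg (fun p : F₀ × F => (p.1 : F)) hk)
        (congrArg (fun p : F₀ × F => p.2) hk)
    have h4 := Submodule.finrank_mono hle
    rw [finrank_span_eq_card hli, Fintype.card_fin] at h4
    have h5 : Module.finrank F (Submodule.span F ({x, y} : Set (ι → F))) ≤ 2 := by
      refine (finrank_span_le_card ({x, y} : Set (ι → F))).trans ?_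
      simp only [Set.toFinset_insert, Set.toFinset_singleton]
      exact Finset.card_le_two
    omega
  -- the two components
  have hA : ∀ i, (![a₁, a₂] : Fin 2 → ι → F) i ∈ ratVec F₀ P := by simp [Fin.forall_fin_two, ha₁, ha₂]
  have hn2 : ∀ k ∈ F₀, a₁ ≠ k • a₂ := fun k _ h => hno (k + ζ) a₂ ha₂ (by rw [hga, h, add_smul])
  have hn1 : ∀ k ∈ F₀, a₂ ≠ k • a₁ := fun k _ h => hno (1 + ζ * k) a₁ ha₁ (by rw [hga, h]; module)
  have hfxv : ∀ x : ι → F, f x v = f x a₁ - ζ * f x a₂ := fun x => by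
    rw [hga, add_right hU, smul_right hU, hζs]; ring
  have hp := C.rat a₂ ha₂ a₁ ha₁
  have hc := C.rat a₂ ha₂ a₂ ha₂
  have e11 : f a₁ a₁ = ζ * ζ * f a₂ a₂ := by
    rw [hga] at hvv
    simp only [add_left hU, add_right hU, smul_left hU, smul_right hU, hζs, symm_rat C ha₂ ha₁] at hvv
    linear_combination hvv
  by_cases hts : f a₂ v = 0
  · -- totally singular components
    rw [hfxv] at hts
    have hc0 : f a₂ a₂ = 0 := coef_rat C (neg_ne_zero.2 hζ) (by rw [map_neg, hζs]) hp hc (by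
      rw [show f a₂ a₁ + -ζ * f a₂ a₂ = 0 by linear_combination hts]; exact F₀.zero_mem)
    have hp0 : f a₂ a₁ = 0 := by rw [hc0] at hts; linear_combination hts
    have h110 : f a₁ a₁ = 0 := by rw [e11, hc0, mul_zero]
    have hp0' : f a₁ a₂ = 0 := eq_zero_symm hU hp0
    obtain ⟨b₂, hb₂, hb₂p, hb₂1⟩ := dual C ![a₁] (by simpa using ha₁) ha₂
      (fun h => by obtain ⟨k, hk, e⟩ := rspan_one h; exact hn1 k hk e)
    obtain ⟨b₁, hb₁, hb₁p, hb₁1⟩ := dual C ![a₂] (by simpa using ha₂) ha₁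
      (fun h => by obtain ⟨k, hk, e⟩ := rspan_one h; exact hn2 k hk e)
    have hb₂a : f b₂ a₁ = 0 := by simpa using hb₂p 0
    have hb₁a : f b₁ a₂ = 0 := by simpa using hb₁p 0
    have ha₁0 : a₁ ≠ 0 := fun h => hn2 0 F₀.zero_mem (by rw [h, zero_smul])
    have ha₂0 : a₂ ≠ 0 := fun h => hn1 0 F₀.zero_mem (by rw [h, zero_smul])
    refine hfinal a₁ ha₁ a₁ a₂ fun d hd hda hde => ?_
    have hde₂ : f (act g d) a₂ = 0 := by
      have h0 : f (act g d) v = 0 := by rw [hv, hi, hda]
      rw [hfxv, hde, zero_sub, neg_eq_zero] at h0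
      exact (mul_eq_zero.1 h0).resolve_left hζ
    have := mem_span_of_perp C ![a₁, a₂] hA (w := act g d) fun h hh hp => by
      simp only [Fin.forall_fin_two, Matrix.cons_val_zero, Matrix.cons_val_one] at hp
      have hhv : f h v = 0 := by rw [hfxv, hp.1, hp.2]; ring
      have q1 := key a₁ ha₁ ha₁0 h110 (by rw [hfxv, h110, hp0']; ring) d hd hda hde h hh hp.1 hhv b₂ hb₂ hb₂a
      have q2 := key a₂ ha₂ ha₂0 hc0 (by rw [hfxv, hp0, hc0]; ring) d hd hda hde₂ h hh hp.2 hhv b₁ hb₁ hb₁a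
      rw [hfxv, hb₂a, hb₂1] at q1
      rw [hfxv, hb₁a, hb₁1, mul_zero, sub_zero, mul_one] at q2
      refine (map_eq_zero σ).1 (coef_rat C (neg_ne_zero.2 hζ) (by rw [map_neg, hζs]) F₀.zero_mem q2 ?_)
      convert q1 using 1; ring
    rwa [Matrix.range_cons, Matrix.range_cons, Matrix.range_empty, Set.union_empty, Set.singleton_union] at this
  · -- nondegenerate components
    obtain ⟨e, he, hee, hep, heout⟩ := sing_perp_rad C ![a₁, a₂] hA (![] : Fin 0 → ι → F) (fun z hz hzp => by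
      rw [rspan, Matrix.range_cons, Matrix.range_cons, Matrix.range_empty, Set.union_empty, Set.singleton_union,
        Submodule.mem_span_pair] at hz
      obtain ⟨s, t, rfl⟩ := hz
      have q1 : f ((s : F) • a₁ + (t : F) • a₂) a₁ = 0 := hzp 0
      have q2 : f ((s : F) • a₁ + (t : F) • a₂) a₂ = 0 := hzp 1
      simp only [add_left hU, smul_left hU, symm_rat C ha₂ ha₁, e11] at q1 q2
      have hm : f a₂ a₁ - ζ * f a₂ a₂ ≠ 0 := by rwa [← hfxv]
      have hq : f a₂ a₁ + ζ * f a₂ a₂ ≠ 0 := fun h0 => hm (by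
        have hc0 := coef_rat C hζ hζs hp hc (by rw [h0]; exact F₀.zero_mem)
        rw [hc0, mul_zero, sub_zero]
        rwa [hc0, mul_zero, add_zero] at h0)
      have hs : (s : F) = 0 := by
        refine (mul_eq_zero.1 (show (s : F) * ((f a₂ a₁ - ζ * f a₂ a₂) * (f a₂ a₁ + ζ * f a₂ a₂)) = 0 by
          linear_combination f a₂ a₁ * q2 - f a₂ a₂ * q1)).resolve_right (mul_ne_zero hm hq)
      rw [hs, zero_mul, zero_add] at q1 q2
      have ht : (t : F) = 0 := by
        by_contra ht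
        exact hts (by rw [hfxv, (mul_eq_zero.1 q1).resolve_left ht, (mul_eq_zero.1 q2).resolve_left ht]; ring)
      rw [show s = 0 from Subtype.ext hs, show t = 0 from Subtype.ext ht]
      simp) (by have := h6; omega)
    simp only [Fin.forall_fin_two, Matrix.cons_val_zero, Matrix.cons_val_one] at hep
    have hev : f e v = 0 := by rw [hfxv, hep.1, hep.2]; ring
    have he0 : e ≠ 0 := fun h => heout (h ▸ zero_mem _)
    have hout' : ∀ (x y : ι → F), (x = a₁ ∧ y = a₂ ∨ x = a₂ ∧ y = a₁) → x ∉ rspan F₀ ![e, y] := by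
      intro x y hxy h
      rw [rspan, Matrix.range_cons, Matrix.range_cons, Matrix.range_empty, Set.union_empty, Set.singleton_union,
        Submodule.mem_span_pair] at h
      obtain ⟨k, l, hkl⟩ := h
      have hkl' : (k : F) • e + (l : F) • y = x := hkl
      rcases eq_or_ne k 0 with rfl | hk0
      · rw [ZeroMemClass.coe_zero, zero_smul, zero_add] at hkl'
        rcases hxy with ⟨rfl, rfl⟩ | ⟨rfl, rfl⟩
        · exact hn2 l l.2 hkl'.symm
        · exact hn1 l l.2 hkl'.symm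
      · apply heout
        have hx : x ∈ rspan F₀ ![a₁, a₂] ∧ y ∈ rspan F₀ ![a₁, a₂] := by
          rcases hxy with ⟨rfl, rfl⟩ | ⟨rfl, rfl⟩
          exacts [⟨Submodule.subset_span ⟨0, rfl⟩, Submodule.subset_span ⟨1, rfl⟩⟩,
            ⟨Submodule.subset_span ⟨1, rfl⟩, Submodule.subset_span ⟨0, rfl⟩⟩]
        rw [show e = k⁻¹ • (x - l • y) by rw [← hkl, add_sub_cancel_right, inv_smul_smul₀ hk0]]
        exact Submodule.smul_mem _ _ (Submodule.sub_mem _ hx.1 (Submodule.smul_mem _ _ hx.2))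
    obtain ⟨b₁, hb₁, hb₁p, hb₁1⟩ := dual C ![e, a₂] (by simp [Fin.forall_fin_two, he, ha₂]) ha₁
      (hout' a₁ a₂ (Or.inl ⟨rfl, rfl⟩))
    obtain ⟨b₂, hb₂, hb₂p, hb₂1⟩ := dual C ![e, a₁] (by simp [Fin.forall_fin_two, he, ha₁]) ha₂
      (hout' a₂ a₁ (Or.inr ⟨rfl, rfl⟩))
    simp only [Fin.forall_fin_two, Matrix.cons_val_zero, Matrix.cons_val_one] at hb₁p hb₂p
    refine hfinal e he v e fun d hd hda hde => ?_
    have hmem := mem_span_of_perp C ![a₁, a₂, e] (by simp [Fin.forall_fin_succ, ha₁, ha₂, he]) (w := act g d)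
      fun h hh hp => by
        simp only [Fin.forall_fin_succ, Matrix.cons_val_zero, Matrix.cons_val_succ, IsEmpty.forall_iff,
          and_true] at hp
        have hhv : f h v = 0 := by rw [hfxv, hp.1, hp.2.1]; ring
        have q1 := key e he he0 hee hev d hd hda hde h hh hp.2.2 hhv b₂ hb₂ hb₂p.1
        have q2 := key e he he0 hee hev d hd hda hde h hh hp.2.2 hhv b₁ hb₁ hb₁p.1
        rw [hfxv, hb₂p.2, hb₂1] at q1
        rw [hfxv, hb₁p.2, hb₁1, mul_zero, sub_zero, mul_one] at q2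
        refine (map_eq_zero σ).1 (coef_rat C (neg_ne_zero.2 hζ) (by rw [map_neg, hζs]) F₀.zero_mem q2 ?_)
        convert q1 using 1; ring
    obtain ⟨c, hc'⟩ := (Submodule.mem_span_range_iff_exists_fun F).1 hmem
    simp only [Fin.sum_univ_three, Matrix.cons_val_zero, Matrix.cons_val_one, Matrix.cons_val_two,
      Matrix.tail_cons, Matrix.head_cons] at hc'
    have hwv : f (act g d) v = 0 := by rw [hv, hi, hda]
    have e3 : act g d = c 0 • v + (c 1 - c 0 * ζ) • a₂ + c 2 • e := by rw [← hc', hga]; module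
    rw [e3, add_left hU, add_left hU, smul_left hU, smul_left hU, smul_left hU, hvv, hev, mul_zero, mul_zero,
      zero_add, add_zero] at hwv
    rw [e3, (mul_eq_zero.1 hwv).resolve_right hts, zero_smul, add_zero]
    exact Submodule.mem_span_pair.2 ⟨_, _, rfl⟩

/-- an element of `M` outside the subfield group gives a seed -/
theorem seed_of_not_mem (h6 : 6 ≤ Fintype.card ι) {g : GL ι F} (hg : g ∈ M) (hgn : g ∉ Cfsg.Geo.subfieldSubgroup F₀ P) :
    Seed C.unit F₀ P M := by
  classical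
  have hU := C.unit
  by_contra hseed
  have himg : ∀ l, l ∈ ratVec F₀ P ∧ f l l = 0 → ∃ s : F, ∃ w ∈ ratVec F₀ P, act g l = s • w :=
    fun l hl => point_rat C h6 hseed hg hl.1 hl.2
  choose! s w hw hsw using himg
  have hne : ∀ l ∈ ratVec F₀ P, f l l = 0 → l ≠ 0 → s l ≠ 0 ∧ w l ≠ 0 := fun l hl hll hl0 => by
    have h1 : act g l ≠ 0 := fun h => hl0 (act_injective g (h.trans (map_zero _).symm))
    rw [hsw l ⟨hl, hll⟩] at h1
    exact smul_ne_zero_iff.1 h1
  have hstep : ∀ l l', l ∈ ratVec F₀ P → l' ∈ ratVec F₀ P → f l l = 0 → f l' l' = 0 → f l l' = 0 →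
      l ≠ 0 → l' ≠ 0 → (∀ a ∈ F₀, l' ≠ a • l) → s l' / s l ∈ F₀ := by
    intro l l' hl hl' hll hl'l' hll' hl0 hl'0 hind
    have hsum : l + l' ∈ ratVec F₀ P ∧ f (l + l') (l + l') = 0 :=
      ⟨Submodule.add_mem _ hl hl', by
        rw [add_left hU, add_right hU, add_right hU, hll, hl'l', hll', eq_zero_symm hU hll']; ring⟩
    have he := hsw _ hsum
    rw [map_add, hsw l ⟨hl, hll⟩, hsw l' ⟨hl', hl'l'⟩] at he
    obtain ⟨s₁, hw₁0⟩ := hne l hl hll hl0
    obtain ⟨s₂, hw₂0⟩ := hne l' hl' hl'l' hl'0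
    have hindw : ∀ x : F, w l' ≠ x • w l := by
      intro x hx
      have hl'l : l' = (s l' * x / s l) • l := act_injective g (by
        rw [map_smul, hsw l ⟨hl, hll⟩, hsw l' ⟨hl', hl'l'⟩, hx, smul_smul, smul_smul, div_mul_cancel₀ _ s₁])
      obtain ⟨z, hz, -, hzl⟩ := dual C (k := 0) ![] (fun i => i.elim0) hl
        (by simpa [rspan, Matrix.range_empty] using hl0)
      have h1 := C.rat _ hz _ hl'
      rw [hl'l, smul_right hU, hzl, mul_one] at h1
      refine hind _ ?_ hl'l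
      have h2 := (C.fix _).1 h1
      rw [hU.involutive] at h2
      rw [h2]; exact h1
    obtain ⟨z₂, hz₂, a₂, b₂⟩ := dual C ![w l] (by simpa using hw l ⟨hl, hll⟩) (hw l' ⟨hl', hl'l'⟩)
      (fun h => by obtain ⟨x, -, e⟩ := rspan_one h; exact hindw x e)
    obtain ⟨z₁, hz₁, a₁, b₁⟩ := dual C ![w l'] (by simpa using hw l' ⟨hl', hl'l'⟩) (hw l ⟨hl, hll⟩)
      (fun h => by
        obtain ⟨x, -, e⟩ := rspan_one h
        rcases eq_or_ne x 0 with rfl | hx0
        · exact hw₁0 (by rw [e, zero_smul])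
        · exact hindw x⁻¹ (by rw [e, inv_smul_smul₀ hx0]))
    simp only [Fin.forall_fin_one, Matrix.cons_val_zero] at a₁ a₂
    have q1 := congrArg (f z₁) he
    have q2 := congrArg (f z₂) he
    simp only [add_right hU, smul_right hU, a₁, a₂, b₁, b₂, mul_zero, mul_one, add_zero, zero_add] at q1 q2
    have hss : σ (s (l + l')) ≠ 0 := fun h => s₁ ((map_eq_zero σ).1 (by rw [q1, h, zero_mul]))
    have e : σ (s l' / s l) = f z₂ (w (l + l')) / f z₁ (w (l + l')) := by
      rw [map_div₀, q1, q2, mul_div_mul_left _ _ hss]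
    have h1 : σ (s l' / s l) ∈ F₀ := e ▸ F₀.div_mem (C.rat _ hz₂ _ (hw _ hsum)) (C.rat _ hz₁ _ (hw _ hsum))
    have h2 := (C.fix _).1 h1
    rw [hU.involutive] at h2
    rw [h2]; exact h1
  obtain ⟨l₁, hl₁, hl₁₁, -, hl₁out⟩ := sing_perp C (k := 0) (by have := h6; omega) ![] (fun i => i.elim0)
  have hl₁0 : l₁ ≠ 0 := fun h => hl₁out (h ▸ zero_mem _)
  obtain ⟨γ, hγ⟩ : ∃ γ, γ = s l₁ := ⟨_, rfl⟩
  have hγ0 : γ ≠ 0 := hγ ▸ (hne l₁ hl₁ hl₁₁ hl₁0).1
  have hiso_img : ∀ l ∈ ratVec F₀ P, f l l = 0 → γ⁻¹ • act g l ∈ ratVec F₀ P := by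
    intro l hl hll
    rcases eq_or_ne l 0 with rfl | hl0
    · simpa using Submodule.zero_mem _
    have h3 : s l / γ ∈ F₀ := by
      rcases bridge C h6 hl₁ hl hl₁₁ hll with ⟨h0, hne'⟩ | ⟨d, hd, hdd, hdl₁, hdl, hd0, hne₁, hne₂⟩
      · rw [hγ]; exact hstep l₁ l hl₁ hl hl₁₁ hll h0 hl₁0 hl0 hne'
      · have h1 := hstep l₁ d hl₁ hd hl₁₁ hdd (eq_zero_symm hU hdl₁) hl₁0 hd0 hne₁
        have h2 := hstep d l hd hl hdd hll hdl hd0 hl0 (fun a ha h => by
          have ha0 : a ≠ 0 := by rintro rfl; exact hl0 (by rw [h, zero_smul])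
          exact hne₂ a⁻¹ (F₀.inv_mem ha) (by rw [h, inv_smul_smul₀ ha0]))
        have h4 := F₀.mul_mem h2 h1
        rwa [div_mul_div_cancel₀ (hne d hd hdd hd0).1, ← hγ] at h4
    rw [hsw l ⟨hl, hll⟩, smul_smul, ← div_eq_inv_mul]
    exact ratVec_smul h3 (hw l ⟨hl, hll⟩)
  refine hgn (mem_subfieldSubgroup F₀ P hγ0 fun x hx => ?_)
  obtain ⟨w₁, a₁, w₂, a₂, i₁, i₂, -, -, rfl⟩ := sing_sub C (k := 0) ![] (fun i => i.elim0)
      (![] : Fin 0 → ι → F) (fun _ h _ => h) (by have := h6; omega) hx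
    (fun i => i.elim0)
  rw [map_sub, smul_sub]
  exact Submodule.sub_mem _ (hiso_img w₁ a₁ i₁) (hiso_img w₂ a₂ i₂)

end

/-- the orthogonal subgroup is maximal in the special unitary group -/
theorem orth_maximal (hU : Cfsg.Geo.IsUnitaryForm σ f) (hn : 6 ≤ Fintype.card ι) (F₀ : Subfield F) (P : GL ι F)
    (hrat : ∀ x ∈ ratVec F₀ P, ∀ y ∈ ratVec F₀ P, f x y ∈ F₀) (hfix : ∀ a : F, a ∈ F₀ ↔ σ a = a)
    (h2 : (2 : F) ≠ 0) :
    Cfsg.Geo.IsMaximalIn (uiso f ⊓ Cfsg.Geo.specialLinear ι F)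
      (Cfsg.Geo.subfieldSubgroup F₀ P ⊓ (uiso f ⊓ Cfsg.Geo.specialLinear ι F)) := by
  classical
  have hctx : ∀ (M : Subgroup (GL ι F)),
      Cfsg.Geo.subfieldSubgroup F₀ P ⊓ (uiso f ⊓ Cfsg.Geo.specialLinear ι F) ≤ M → M ≤ uiso f →
      Ctx σ f F₀ P M := by
    intro M hM hMi
    refine ⟨hU, le_trans (by norm_num) hn, hrat, hfix, h2, hMi, fun a ha b hb haa hbb hab s hs hU' => hM ⟨?_,
      sieg_mem hU haa hbb hab s, det_sieg hU hab s⟩⟩
    refine mem_subfieldSubgroup F₀ P one_ne_zero fun x hx => ?_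
    rw [inv_one, one_smul, act_sieg hU haa hbb hab, (hfix s).1 hs]
    exact Submodule.sub_mem _ (Submodule.add_mem _ hx (ratVec_smul (F₀.mul_mem hs (hrat x hx b hb)) ha))
      (ratVec_smul (F₀.mul_mem hs (hrat x hx a ha)) hb)
  have hlt : Cfsg.Geo.subfieldSubgroup F₀ P ⊓ (uiso f ⊓ Cfsg.Geo.specialLinear ι F) <
      uiso f ⊓ Cfsg.Geo.specialLinear ι F := by
    refine lt_of_le_of_ne inf_le_right fun heq => ?_
    have C := hctx (uiso f ⊓ Cfsg.Geo.specialLinear ι F) inf_le_right inf_le_left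
    obtain ⟨c, hc0, hcs, hcF⟩ := exists_skew_unit C
    obtain ⟨l, hl, hll, -, hlout⟩ := sing_perp C (k := 0) (by omega) ![] (fun i => i.elim0)
    obtain ⟨z, hz, -, -, hzl, hlz⟩ := partner C (k := 0) ![] (fun i => i.elim0) hl hll (fun i => i.elim0) hlout
    have hmem : utv hU l c ∈ uiso f ⊓ Cfsg.Geo.specialLinear ι F :=
      ⟨utv_mem hU hll (by rw [hcs, add_neg_cancel]), det_ptv hU (by rw [smul_right hU, hll, mul_zero])⟩
    obtain ⟨γ, hγ⟩ := exists_of_mem_subfieldSubgroup F₀ P ((inf_eq_right.1 heq) hmem)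
    obtain ⟨y, hy, ey⟩ := hγ l hl
    obtain ⟨y', hy', ey'⟩ := hγ z hz
    rw [act_utv hU hll, hll, mul_zero, zero_smul, add_zero] at ey
    rw [act_utv hU hll, hzl, mul_one] at ey'
    have e1 := congrArg (fun x => f x z) ey
    have e2 := congrArg (fun x => f x z) ey'
    simp only [add_left hU, smul_left hU, hlz, mul_one] at e1 e2
    have hγF : γ ∈ F₀ := by
      rw [eq_div_of_mul_eq (right_ne_zero_of_mul_eq_one e1.symm) e1.symm]
      exact F₀.div_mem F₀.one_mem (hrat y hy z hz)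
    refine hcF ?_
    rw [show c = γ * f y' z - f z z by linear_combination e2]
    exact F₀.sub_mem (F₀.mul_mem hγF (hrat y' hy' z hz)) (hrat z hz z hz)
  refine ⟨hlt, fun M hM1 hM2 => ?_⟩
  by_cases hsub : M ≤ Cfsg.Geo.subfieldSubgroup F₀ P
  · exact Or.inl (le_antisymm (le_inf hsub hM2) hM1)
  right
  obtain ⟨g, hg, hgn⟩ := SetLike.not_le_iff_exists.1 hsub
  have C := hctx M hM1 (hM2.trans inf_le_left)
  exact le_antisymm hM2 (su_le_of_utv hU (by omega) M
    (fun u c hu hc => (utv_all C hn (seed_of_not_mem C hn hg hgn) u hu).2 c hc))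

end Cfsg.Agent.MaxCl.UOrth
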