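/-
A unitary space with tensor coordinates: the root elements `1 ⊗ t`, and the rigidity consequence: if every element
of `M` commuting with a root element is a tensor product, every element of `M` is.
-/
import Mathlib
import Cfsg.Agent.Lib.MaxCl.TensorPreserve
import Cfsg.Agent.Lib.MaxCl.FixedRootCore
import Cfsg.Agent.Lib.MaxCl.UnitarySmall
import Cfsg.Agent.Lib.MaxCl.UnitaryIso

set_option autoImplicit false

namespace Cfsg.Agent.MaxCl.Tens

open scoped MatrixGroups Matrix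
open Module (finrank)
open Unit (uiso flinU utv utvGroup uperp)

variable {ι : Type} [Fintype ι] [DecidableEq ι] {F : Type*} [Field F] {n₁ n₂ : ℕ}
variable {T : TSys ι F n₁ n₂} {σ : F ≃+* F} {f : (ι → F) → (ι → F) → F}
variable {f₁ : (Fin n₁ → F) → (Fin n₁ → F) → F} {f₂ : (Fin n₂ → F) → (Fin n₂ → F) → F} {c : F}
variable {M : Subgroup (GL ι F)}

/-- the determinant one isometries -/
abbrev suGroup (f : (ι → F) → (ι → F) → F) : Subgroup (GL ι F) := uiso f ⊓ Cfsg.Geo.specialLinear ι F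

/-- an overgroup of the stabiliser of a unitary tensor decomposition -/
structure UCtx (T : TSys ι F n₁ n₂) (σ : F ≃+* F) (f : (ι → F) → (ι → F) → F)
    (f₁ : (Fin n₁ → F) → (Fin n₁ → F) → F) (f₂ : (Fin n₂ → F) → (Fin n₂ → F) → F) (c : F)
    (M : Subgroup (GL ι F)) : Prop where
  hU : Cfsg.Geo.IsUnitaryForm σ f
  h₁ : Cfsg.Geo.IsUnitaryForm σ f₁
  h₂ : Cfsg.Geo.IsUnitaryForm σ f₂
  c_ne : c ≠ 0
  form : ∀ u v u' v', f (pt T u v) (pt T u' v') = c * (f₁ u u' * f₂ v v')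
  two_le : 2 ≤ n₁
  lt : n₁ < n₂
  three : 3 ≤ n₂
  big : 6 ≤ Fintype.card ι
  le : M ≤ suGroup f
  ge : ∀ a b, gl T a b ∈ suGroup f → gl T a b ∈ M

/-- contraction against `w` -/
noncomputable def proj (T : TSys ι F n₁ n₂) (h₂ : Cfsg.Geo.IsUnitaryForm σ f₂) (w : Fin n₂ → F) :
    (ι → F) →ₗ[F] (Fin n₁ → F) := cR T (flinU h₂ w)

/-- the root element `1 ⊗ (x ↦ x + d f₂(x, w) w)` -/
noncomputable def root (T : TSys ι F n₁ n₂) (h₂ : Cfsg.Geo.IsUnitaryForm σ f₂) (w : Fin n₂ → F) (d : F) :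
    GL ι F := gl T 1 (utv h₂ w d)

theorem proj_pt (h₂ : Cfsg.Geo.IsUnitaryForm σ f₂) (w : Fin n₂ → F) (u : Fin n₁ → F) (v : Fin n₂ → F) :
    proj T h₂ w (pt T u v) = f₂ v w • u := cR_pt T _ u v

theorem act_root (h₂ : Cfsg.Geo.IsUnitaryForm σ f₂) {w : Fin n₂ → F} (hw : f₂ w w = 0) (d : F) (x : ι → F) :
    act (root T h₂ w d) x = x + d • pt T (proj T h₂ w x) w := by
  let R : (ι → F) →ₗ[F] (ι → F) := LinearMap.id + d • (ptL T w ∘ₗ proj T h₂ w)
  have : act (root T h₂ w d) = R := by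
    refine pt_ext T fun u v => ?_
    show act (gl T 1 _) (pt T u v) = pt T u v + d • pt T (proj T h₂ w (pt T u v)) w
    rw [act_gl_pt, act_one, Unit.act_utv h₂ hw, pt_add_right, pt_smul_right, proj_pt, pt_smul_left, smul_smul]
  rw [this]; rfl

theorem root_mul (h₂ : Cfsg.Geo.IsUnitaryForm σ f₂) {w : Fin n₂ → F} (hw : f₂ w w = 0) (d d' : F) :
    root T h₂ w d * root T h₂ w d' = root T h₂ w (d + d') := by
  rw [root, root, gl_mul, one_mul, Unit.utv_add h₂ hw, root]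

theorem root_pow (h₂ : Cfsg.Geo.IsUnitaryForm σ f₂) {w : Fin n₂ → F} (hw : f₂ w w = 0) (d : F) (n : ℕ) :
    root T h₂ w d ^ n = root T h₂ w (n * d) := by
  induction n with
  | zero => rw [pow_zero, Nat.cast_zero, zero_mul, root, Unit.utv_zero, gl_one]
  | succ n ih => rw [pow_succ, ih, root_mul h₂ hw, Nat.cast_succ, add_mul, one_mul]

/-- a linear map with every vector an eigenvector is scalar -/
theorem exists_scalar_of_eigen {m : ℕ} (L : (Fin m → F) →ₗ[F] (Fin m → F)) (h : ∀ u, L u ∈ F ∙ u) :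
    ∃ k : F, ∀ u, L u = k • u := by
  by_cases hm : ∀ u : Fin m → F, u = 0
  · exact ⟨0, fun u => by rw [hm u, map_zero, smul_zero]⟩
  push Not at hm
  obtain ⟨u₀, hu₀⟩ := hm
  obtain ⟨k, hk⟩ := Submodule.mem_span_singleton.1 (h u₀)
  refine ⟨k, fun u => ?_⟩
  by_cases hu : u ∈ F ∙ u₀
  · obtain ⟨s, rfl⟩ := Submodule.mem_span_singleton.1 hu
    rw [map_smul, ← hk, smul_comm]
  obtain ⟨l, hl⟩ := Submodule.mem_span_singleton.1 (h u)
  obtain ⟨r, hr⟩ := Submodule.mem_span_singleton.1 (h (u + u₀))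
  have e : (r - l) • u = (k - r) • u₀ := by
    rw [map_add, ← hl, ← hk, smul_add] at hr
    linear_combination (norm := module) hr
  have hrl : r - l = 0 := by
    by_contra hne
    exact hu (Submodule.mem_span_singleton.2 ⟨(r - l)⁻¹ * (k - r), by rw [mul_smul, ← e, inv_smul_smul₀ hne]⟩)
  rw [hrl, zero_smul, eq_comm, smul_eq_zero, or_iff_left hu₀, sub_eq_zero] at e
  rw [← hl, e, sub_eq_zero.1 hrl]

/-- the stabiliser of a vector -/
def stabVec (x : ι → F) : Subgroup (GL ι F) where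
  carrier := {g | act g x = x}
  mul_mem' {a b} ha hb := by
    show act (a * b) x = x
    rw [act_mul, (show act b x = x from hb), (show act a x = x from ha)]
  one_mem' := act_one x
  inv_mem' {a} ha := by
    show act a⁻¹ x = x
    conv_lhs => rw [← (show act a x = x from ha)]
    exact act_inv_act a x

theorem exists_ne_two {m : ℕ} {h : (Fin m → F) → (Fin m → F) → F} (hh : Cfsg.Geo.IsUnitaryForm σ h)
    (hm : 0 < m) : ∃ u u', h u u' ≠ 0 := by
  have h0 : (Pi.single ⟨0, hm⟩ 1 : Fin m → F) ≠ 0 := by simp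
  obtain ⟨x, hx⟩ := (hh.nondegenerate _ h0).2
  exact ⟨_, x, hx⟩

variable (C : UCtx T σ f f₁ f₂ c M)
include C

theorem n₁_pos : 0 < n₁ := lt_of_lt_of_le two_pos C.two_le

theorem c_fixed [Fintype F] : σ c = c := by
  obtain ⟨u, u', hu⟩ := exists_ne_two C.h₁ (n₁_pos C)
  obtain ⟨v, v', hv⟩ := exists_ne_two C.h₂ (lt_of_lt_of_le (by norm_num) C.three)
  have e := Unit.herm' C.hU (pt T u v) (pt T u' v')
  rw [C.form, C.form, map_mul, map_mul, Unit.herm' C.h₁, Unit.herm' C.h₂] at e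
  exact mul_right_cancel₀ (mul_ne_zero (Unit.ne_symm C.h₁ hu) (Unit.ne_symm C.h₂ hv)) e

theorem form_right (x : ι → F) (u : Fin n₁ → F) (w : Fin n₂ → F) :
    f x (pt T u w) = c * f₁ (proj T C.h₂ w x) u := by
  let L : (ι → F) →ₗ[F] F := c • (flinU C.h₁ u ∘ₗ proj T C.h₂ w)
  have : flinU C.hU (pt T u w) = L := by
    refine pt_ext T fun a b => ?_
    show f (pt T a b) (pt T u w) = c * f₁ (proj T C.h₂ w (pt T a b)) u
    rw [C.form, proj_pt, Unit.smul_left C.h₁]; ring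
  exact LinearMap.congr_fun this x

theorem gl_mem_uiso {a : GL (Fin n₁) F} {b : GL (Fin n₂) F} (ha : a ∈ uiso f₁) (hb : b ∈ uiso f₂) :
    gl T a b ∈ uiso f := by
  have h1 : ∀ y u v, f (act (gl T a b) y) (act (gl T a b) (pt T u v)) = f y (pt T u v) := by
    intro y u v
    let L : (ι → F) →ₗ[F] F := flinU C.hU (act (gl T a b) (pt T u v)) ∘ₗ act (gl T a b)
    have : L = flinU C.hU (pt T u v) := pt_ext T fun u' v' => by
      show f (act (gl T a b) (pt T u' v')) (act (gl T a b) (pt T u v)) = f (pt T u' v') (pt T u v)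
      rw [act_gl_pt, act_gl_pt, C.form, C.form, Unit.mem_uiso.1 ha, Unit.mem_uiso.1 hb]
    exact LinearMap.congr_fun this y
  refine Unit.mem_uiso.2 fun x y => ?_
  rw [← Unit.herm' C.hU, ← Unit.herm' C.hU y x]
  congr 1
  let L : (ι → F) →ₗ[F] F := flinU C.hU (act (gl T a b) x) ∘ₗ act (gl T a b)
  have : L = flinU C.hU x := pt_ext T fun u v => by
    show f (act (gl T a b) (pt T u v)) (act (gl T a b) x) = f (pt T u v) x
    rw [← Unit.herm' C.hU, h1, Unit.herm' C.hU]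
  exact LinearMap.congr_fun this y

theorem gl_mem_M {a : GL (Fin n₁) F} {b : GL (Fin n₂) F} (ha : a ∈ uiso f₁) (hb : b ∈ uiso f₂)
    (hdet : (a : Matrix (Fin n₁) (Fin n₁) F).det ^ n₂ * (b : Matrix (Fin n₂) (Fin n₂) F).det ^ n₁ = 1) :
    gl T a b ∈ M := by
  refine C.ge a b ⟨gl_mem_uiso C ha hb, MonoidHom.mem_ker.2 (Units.ext ?_)⟩
  rw [Matrix.GeneralLinearGroup.val_det_apply, det_gl, hdet]; rfl

theorem gl_mem_M_of_sl {a : GL (Fin n₁) F} {b : GL (Fin n₂) F} (ha : a ∈ suGroup f₁) (hb : b ∈ suGroup f₂) :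
    gl T a b ∈ M := by
  have da := congrArg Units.val (MonoidHom.mem_ker.1 ha.2)
  have db := congrArg Units.val (MonoidHom.mem_ker.1 hb.2)
  rw [Matrix.GeneralLinearGroup.val_det_apply] at da db
  exact gl_mem_M C ha.1 hb.1 (by rw [da, db]; simp)

theorem gl_left_mem {a : GL (Fin n₁) F} (ha : a ∈ utvGroup C.h₁) : gl T a 1 ∈ M :=
  gl_mem_M_of_sl C ⟨Unit.utvGroup_le_uiso C.h₁ ha, Unit.utvGroup_le_sl C.h₁ ha⟩ (one_mem _)

theorem gl_right_mem {b : GL (Fin n₂) F} (hb : b ∈ utvGroup C.h₂) : gl T 1 b ∈ M :=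
  gl_mem_M_of_sl C (one_mem _) ⟨Unit.utvGroup_le_uiso C.h₂ hb, Unit.utvGroup_le_sl C.h₂ hb⟩

theorem root_mem {w : Fin n₂ → F} (hw : f₂ w w = 0) {d : F} (hd : d + σ d = 0) : root T C.h₂ w d ∈ M :=
  gl_right_mem C (Unit.utv_mem_utvGroup C.h₂ hw hd)

theorem root_fix_iff {w : Fin n₂ → F} (hw : f₂ w w = 0) (hw0 : w ≠ 0) {d : F} (hd : d ≠ 0) {x : ι → F} :
    act (root T C.h₂ w d) x = x ↔ proj T C.h₂ w x = 0 := by
  rw [act_root C.h₂ hw, add_eq_left, smul_eq_zero, or_iff_right hd, pt_eq_zero, or_iff_left hw0]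

theorem root_conj {b : GL (Fin n₂) F} (hb : b ∈ uiso f₂) {w : Fin n₂ → F} (hw : f₂ w w = 0) (d : F) :
    gl T 1 b * root T C.h₂ w d * (gl T 1 b)⁻¹ = root T C.h₂ (act b w) d := by
  rw [gl_inv, root, gl_mul, gl_mul, Unit.conj_utv C.h₂ hb hw, inv_one, one_mul, one_mul, root]

variable [Fintype F]

theorem top_nondeg : Cfsg.Geo.IsNondegenerateOn f₂ (⊤ : Submodule F (Fin n₂ → F)) := fun v _ hv => by
  obtain ⟨⟨a, ha⟩, ⟨b, hb⟩⟩ := C.h₂.nondegenerate v hv
  exact ⟨⟨a, trivial, ha⟩, ⟨b, trivial, hb⟩⟩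

theorem exists_iso_orth (h5 : 5 ≤ n₂) (v₁ v₂ v₃ : Fin n₂ → F) :
    ∃ w, w ≠ 0 ∧ f₂ w w = 0 ∧ f₂ v₁ w = 0 ∧ f₂ v₂ w = 0 ∧ f₂ v₃ w = 0 := by
  classical
  set P := Submodule.span F ({v₁, v₂, v₃} : Set (Fin n₂ → F)) with hP
  have hPdim : finrank F P ≤ 3 := by
    refine (finrank_span_le_card ({v₁, v₂, v₃} : Set (Fin n₂ → F))).trans ?_
    simp only [Set.toFinset_insert, Set.toFinset_singleton]
    exact Finset.card_le_three
  have h1 := Unit.finrank_uperp_ge C.h₂ P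
  rw [Fintype.card_fin] at h1
  obtain ⟨a, ha, ha0⟩ := Submodule.exists_mem_ne_zero_of_ne_bot (p := uperp C.h₂ P) fun e => by
    rw [e, finrank_bot] at h1; omega
  obtain ⟨b, hb, hba⟩ := SetLike.not_le_iff_exists.1 (show ¬ uperp C.h₂ P ≤ F ∙ a by
    intro h; have := Submodule.finrank_mono h; rw [finrank_span_singleton ha0] at this; omega)
  obtain ⟨s, t, hst, hiso⟩ := Unit.exists_isotropic_pair C.h₂ a b
  have hw : s • a + t • b ∈ uperp C.h₂ P := add_mem (Submodule.smul_mem _ _ ha) (Submodule.smul_mem _ _ hb)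
  have hmem : ∀ v ∈ ({v₁, v₂, v₃} : Set (Fin n₂ → F)), f₂ v (s • a + t • b) = 0 := fun v hv =>
    Unit.eq_zero_symm C.h₂ (hw v (Submodule.subset_span hv))
  refine ⟨_, ?_, hiso, hmem _ (by simp), hmem _ (by simp), hmem _ (by simp)⟩
  intro e
  rcases eq_or_ne t 0 with rfl | ht
  · rw [zero_smul, add_zero, smul_eq_zero, or_iff_left ha0] at e
    exact (hst.resolve_right (by simp)) e
  · exact hba (Submodule.mem_span_singleton.2 ⟨-(t⁻¹ * s), by
      rw [neg_smul, mul_smul, eq_neg_of_add_eq_zero_left e, smul_neg, neg_neg, inv_smul_smul₀ ht]⟩)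

theorem exists_iso_two (h4 : 4 ≤ n₂) (v₁ v₂ : Fin n₂ → F) :
    ∃ w, w ≠ 0 ∧ f₂ w w = 0 ∧ f₂ v₁ w = 0 ∧ f₂ v₂ w = 0 := by
  classical
  set P := Submodule.span F ({v₁, v₂} : Set (Fin n₂ → F)) with hP
  have hPdim : finrank F P ≤ 2 := by
    refine (finrank_span_le_card ({v₁, v₂} : Set (Fin n₂ → F))).trans ?_
    simp only [Set.toFinset_insert, Set.toFinset_singleton]
    exact Finset.card_le_two
  have h1 := Unit.finrank_uperp_ge C.h₂ P
  rw [Fintype.card_fin] at h1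
  obtain ⟨a, ha, ha0⟩ := Submodule.exists_mem_ne_zero_of_ne_bot (p := uperp C.h₂ P) fun e => by
    rw [e, finrank_bot] at h1; omega
  obtain ⟨b, hb, hba⟩ := SetLike.not_le_iff_exists.1 (show ¬ uperp C.h₂ P ≤ F ∙ a by
    intro h; have := Submodule.finrank_mono h; rw [finrank_span_singleton ha0] at this; omega)
  obtain ⟨s, t, hst, hiso⟩ := Unit.exists_isotropic_pair C.h₂ a b
  have hw : s • a + t • b ∈ uperp C.h₂ P := add_mem (Submodule.smul_mem _ _ ha) (Submodule.smul_mem _ _ hb)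
  have hmem : ∀ v ∈ ({v₁, v₂} : Set (Fin n₂ → F)), f₂ v (s • a + t • b) = 0 := fun v hv =>
    Unit.eq_zero_symm C.h₂ (hw v (Submodule.subset_span hv))
  refine ⟨_, ?_, hiso, hmem _ (by simp), hmem _ (by simp)⟩
  intro e
  rcases eq_or_ne t 0 with rfl | ht
  · rw [zero_smul, add_zero, smul_eq_zero, or_iff_left ha0] at e
    exact (hst.resolve_right (by simp)) e
  · exact hba (Submodule.mem_span_singleton.2 ⟨-(t⁻¹ * s), by
      rw [neg_smul, mul_smul, eq_neg_of_add_eq_zero_left e, smul_neg, neg_neg, inv_smul_smul₀ ht]⟩)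

theorem exists_iso_sep {v : Fin n₂ → F} (hv : v ≠ 0) : ∃ w, w ≠ 0 ∧ f₂ w w = 0 ∧ f₂ v w ≠ 0 := by
  by_contra hno; push Not at hno
  obtain ⟨x, hx⟩ := (C.h₂.nondegenerate v hv).2
  apply hx
  have hle : Submodule.span F {u | u ∈ (⊤ : Submodule F (Fin n₂ → F)) ∧ f₂ u u = 0} ≤
      uperp C.h₂ (F ∙ v) := by
    rw [Submodule.span_le]
    rintro u ⟨-, hu⟩ p hp
    obtain ⟨s, rfl⟩ := Submodule.mem_span_singleton.1 hp
    rcases eq_or_ne u 0 with rfl | hu0
    · exact Unit.zero_left C.h₂ _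
    · rw [Unit.smul_right C.h₂, Unit.eq_zero_symm C.h₂ (hno u hu0 hu), mul_zero]
  have h5 := C.three
  exact Unit.eq_zero_symm C.h₂ (hle (Unit.mem_span_iso C.h₂ (top_nondeg C)
    (by rw [finrank_top, Module.finrank_fin_fun]; omega) trivial) v (Submodule.mem_span_singleton_self v))

theorem exists_iso : ∃ w, w ≠ 0 ∧ f₂ w w = 0 := by
  have h0 : (Pi.single ⟨0, lt_of_lt_of_le (by norm_num) C.three⟩ 1 : Fin n₂ → F) ≠ 0 := by simp
  obtain ⟨w, hw0, hw, -⟩ := exists_iso_sep C h0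
  exact ⟨w, hw0, hw⟩

/-- a tensor product conjugate to a root element is a root element -/
theorem root_of_conj {g : GL ι F} (hg : g ∈ M) {w : Fin n₂ → F} (hw : f₂ w w = 0) (hw0 : w ≠ 0) {d : F}
    (hd : d + σ d = 0) (hd0 : d ≠ 0) {a : GL (Fin n₁) F} {b : GL (Fin n₂) F}
    (h : g * root T C.h₂ w d * g⁻¹ = gl T a b) :
    ∃ w' d', w' ≠ 0 ∧ f₂ w' w' = 0 ∧ d' + σ d' = 0 ∧ d' ≠ 0 ∧ gl T a b = root T C.h₂ w' d' := by
  have hy : gl T a b ∈ M := h ▸ M.mul_mem (M.mul_mem hg (root_mem C hw hd)) (M.inv_mem hg)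
  let D : (ι → F) →ₗ[F] (ι → F) := act (gl T a b) - LinearMap.id
  have hD : ∀ x, D x = act g (d • pt T (proj T C.h₂ w (act g⁻¹ x)) w) := by
    intro x
    show act (gl T a b) x - x = _
    rw [← h, act_mul, act_mul, act_root C.h₂ hw, map_add, act_act_inv]; abel
  have hDD : ∀ x, D (D x) = 0 := by
    intro x
    rw [hD (D x), hD x, act_inv_act, map_smul (proj T C.h₂ w), proj_pt, hw, zero_smul, smul_zero,
      pt_zero_left, smul_zero, map_zero]
  have hrank : finrank F (LinearMap.range D) ≤ n₁ := by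
    have h1 : LinearMap.range D ≤ LinearMap.range (act g ∘ₗ ptL T w) := by
      rintro _ ⟨x, rfl⟩
      exact ⟨d • proj T C.h₂ w (act g⁻¹ x), by
        show act g (pt T (d • proj T C.h₂ w (act g⁻¹ x)) w) = D x
        rw [hD, pt_smul_left]⟩
    refine (Submodule.finrank_mono h1).trans ((LinearMap.finrank_range_le _).trans_eq ?_)
    exact Module.finrank_fin_fun F
  have hsmall : ∀ {κ : Type _} [AddCommGroup κ] [Module F κ] [Module.Finite F κ] (L : κ →ₗ[F] (ι → F)),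
      Function.Injective L → (∀ z, ∃ x, D x = L z) → finrank F κ ≤ n₁ := by
    intro κ _ _ _ L hL hr
    rw [← LinearMap.finrank_range_of_inj hL]
    refine (Submodule.finrank_mono ?_).trans hrank
    rintro _ ⟨z, rfl⟩
    exact LinearMap.mem_range.2 (hr z)
  have hlt := C.lt
  -- the first factor is scalar
  obtain ⟨k, hk⟩ := exists_scalar_of_eigen (act a) fun u => by
    by_contra hu
    let L : (Fin n₂ → F) →ₗ[F] (ι → F) := ptR T (act a u) ∘ₗ act b - ptR T u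
    have hL : Function.Injective L := by
      refine (injective_iff_map_eq_zero L).2 fun v hv => ?_
      by_contra hv0
      have e : pt T (act a u) (act b v) = pt T u v := sub_eq_zero.1 hv
      exact hu (mem_span_of_pt_eq' T e fun e0 => hv0 (act_injective b (by rw [e0, map_zero])))
    have := hsmall L hL fun v => ⟨pt T u v, by
      show act (gl T a b) (pt T u v) - pt T u v = L v
      rw [act_gl_pt]; rfl⟩
    rw [Module.finrank_fin_fun] at this
    omega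
  have hk0 : k ≠ 0 := by
    rintro rfl
    have h0 : (Pi.single ⟨0, n₁_pos C⟩ 1 : Fin n₁ → F) ≠ 0 := by simp
    exact h0 (act_injective a (by rw [hk, zero_smul, map_zero]))
  let N : (Fin n₂ → F) →ₗ[F] (Fin n₂ → F) := k • act b - LinearMap.id
  have hN : ∀ u v, D (pt T u v) = pt T u (N v) := fun u v => by
    show act (gl T a b) (pt T u v) - pt T u v = pt T u (k • act b v - v)
    rw [act_gl_pt, hk, pt_smul_comm, pt_sub_right]
  obtain ⟨v₀, hv₀⟩ : ∃ v, N v ≠ 0 := by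
    by_contra hno; push Not at hno
    have hD0 : D = 0 := pt_ext T fun u v => by rw [hN, hno, pt_zero_right]; rfl
    obtain ⟨w', hw'⟩ := (C.h₂.nondegenerate w hw0).1
    have h0 : (Pi.single ⟨0, n₁_pos C⟩ 1 : Fin n₁ → F) ≠ 0 := by simp
    have := hD (act g (pt T (Pi.single ⟨0, n₁_pos C⟩ 1) w'))
    rw [hD0, LinearMap.zero_apply, act_inv_act, proj_pt, pt_smul_left, smul_smul, map_smul, eq_comm,
      smul_eq_zero, or_iff_right (mul_ne_zero hd0 hw')] at this
    exact (not_or.2 ⟨h0, hw0⟩) ((pt_eq_zero T).1 (act_injective g (this.trans (map_zero _).symm)))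
  obtain ⟨w', hw'def⟩ : ∃ w', w' = N v₀ := ⟨_, rfl⟩
  rw [← hw'def] at hv₀
  -- the second is a transvection
  have hrk : ∀ v, N v ∈ F ∙ w' := by
    intro v
    by_contra hv
    obtain ⟨φ, hφ0, hφ1⟩ := exists_dual _ hv
    obtain ⟨ψ, -, hψ1⟩ := exists_dual (⊥ : Submodule F (Fin n₂ → F)) (v := w') (by simpa using hv₀)
    let L : ((Fin n₁ → F) × (Fin n₁ → F)) →ₗ[F] (ι → F) :=
      ptL T (N v) ∘ₗ LinearMap.fst F _ _ + ptL T w' ∘ₗ LinearMap.snd F _ _
    have hL : Function.Injective L := by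
      refine (injective_iff_map_eq_zero L).2 fun p hp => ?_
      obtain ⟨u, u'⟩ := p
      have e : pt T u (N v) + pt T u' w' = 0 := hp
      have e1 := congrArg (cR T φ) e
      simp only [map_add, cR_pt, hφ1, hφ0 w' (Submodule.mem_span_singleton_self w'), one_smul, zero_smul,
        add_zero, map_zero] at e1
      subst e1
      have e2 := congrArg (cR T ψ) e
      simp only [pt_zero_left, zero_add, cR_pt, hψ1, one_smul, map_zero] at e2
      subst e2
      rfl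
    have := hsmall L hL fun p => ⟨pt T p.1 v + pt T p.2 v₀, by
      rw [map_add, hN, hN, ← hw'def]; rfl⟩
    rw [Module.finrank_prod, Module.finrank_fin_fun] at this
    have := n₁_pos C
    omega
  have h0 : (Pi.single ⟨0, n₁_pos C⟩ 1 : Fin n₁ → F) ≠ 0 := by simp
  have hNw : N w' = 0 := by
    have := hDD (pt T (Pi.single ⟨0, n₁_pos C⟩ 1) v₀)
    rw [hN, hN, ← hw'def] at this
    exact ((pt_eq_zero T).1 this).resolve_left h0
  have hiso : ∀ v v', f₂ (v + N v) (v' + N v') = f₂ v v' := by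
    intro v v'
    obtain ⟨u, u', hu⟩ := exists_ne_two C.h₁ (n₁_pos C)
    have e := Unit.mem_uiso.1 (C.le hy).1 (pt T u v) (pt T u' v')
    have hb' : ∀ u v, act (gl T a b) (pt T u v) = pt T u (v + N v) := fun u v => by
      rw [pt_add_right, ← hN]
      show act (gl T a b) (pt T u v) = pt T u v + (act (gl T a b) (pt T u v) - pt T u v)
      abel
    rw [hb', hb', C.form, C.form] at e
    exact mul_left_cancel₀ hu (mul_left_cancel₀ C.c_ne e)
  choose ψ hψ using fun v => Submodule.mem_span_singleton.1 (hrk v)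
  have hψ₀ : ψ v₀ = 1 := by
    have := hψ v₀
    rw [← hw'def] at this
    exact smul_left_injective F hv₀ (this.trans (one_smul F w').symm)
  have hw'iso : f₂ w' w' = 0 := by
    have := hiso v₀ w'
    rw [hNw, add_zero, Unit.add_left C.h₂, ← hw'def, add_eq_left] at this
    exact this
  have key : ∀ v v', ψ v * f₂ w' v' + σ (ψ v') * f₂ v w' = 0 := by
    intro v v'
    have := hiso v v'
    rw [← hψ v, ← hψ v'] at this
    simp only [Unit.add_left C.h₂, Unit.add_right C.h₂, Unit.smul_left C.h₂, Unit.smul_right C.h₂,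
      hw'iso] at this
    linear_combination this
  obtain ⟨x₀, hx₀⟩ := (C.h₂.nondegenerate w' hv₀).1
  set d' := -(σ (ψ x₀)) / f₂ w' x₀ with hd'
  have hψd : ∀ v, ψ v = d' * f₂ v w' := fun v => by
    have := key v x₀
    rw [hd']
    field_simp [Unit.ne_symm C.h₂ hx₀]
    linear_combination this
  have hd'0 : d' ≠ 0 := fun e => by simpa [hψd v₀, e] using hψ₀.symm
  have hd'skew : d' + σ d' = 0 := by
    have := key x₀ x₀
    rw [hψd x₀, map_mul, Unit.herm' C.h₂] at this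
    have h2 : (d' + σ d') * (f₂ x₀ w' * f₂ w' x₀) = 0 := by linear_combination this
    exact (mul_eq_zero.1 h2).resolve_right (mul_ne_zero hx₀ (Unit.ne_symm C.h₂ hx₀))
  refine ⟨w', d', hv₀, hw'iso, hd'skew, hd'0, gl_ext_pt T fun u v => ?_⟩
  rw [act_root C.h₂ hw'iso, proj_pt, act_gl_pt, hk, pt_smul_comm, pt_smul_left, smul_smul, ← hψd,
    ← pt_smul_right, hψ, ← pt_add_right]
  congr 1
  show k • act b v = v + (k • act b v - v)
  abel

/-- rigidity of the root elements from the centraliser hypothesis -/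
theorem root_rig
    (hC : ∀ w : Fin n₂ → F, w ≠ 0 → f₂ w w = 0 → ∀ d : F, d + σ d = 0 → d ≠ 0 → ∀ g ∈ M,
      g * root T C.h₂ w d = root T C.h₂ w d * g → g ∈ Cfsg.Geo.tensorProductSubgroup n₁ n₂ T.e T.P) :
    ∀ g ∈ M, ∀ r ∈ {r | ∃ w d, w ≠ 0 ∧ f₂ w w = 0 ∧ d + σ d = 0 ∧ d ≠ 0 ∧ r = root T C.h₂ w d},
      g * r * g⁻¹ ∈ M ⊓ Cfsg.Geo.tensorProductSubgroup n₁ n₂ T.e T.P →
        g ∈ M ⊓ Cfsg.Geo.tensorProductSubgroup n₁ n₂ T.e T.P := by
    rintro g hg _ ⟨w, d, hw0, hw, hd, hd0, rfl⟩ hgr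
    obtain ⟨a, b, hab⟩ := exists_of_mem T hgr.2
    obtain ⟨w', d', hw'0, hw', hd', hd'0, e⟩ := root_of_conj C hg hw hw0 hd hd0 hab
    have hfix : σ (d' / d) = d' / d := by
      rw [map_div₀, eq_neg_of_add_eq_zero_right hd, eq_neg_of_add_eq_zero_right hd', neg_div_neg_eq]
    obtain ⟨l, hl⟩ := Unit.exists_norm C.hU.involutive C.hU.ne_refl _ hfix
    have hl0 : l ≠ 0 := by
      rintro rfl; rw [zero_mul, eq_comm, div_eq_zero_iff] at hl; tauto
    obtain ⟨b', hb', hbw⟩ := Unit.exists_move_exact_three C.h₂ (by simpa using C.three) hw0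
      (smul_ne_zero hl0 hw'0) hw (by rw [Unit.smul_left C.h₂, Unit.smul_right C.h₂, hw', mul_zero, mul_zero])
    set h := gl T 1 b' with hh
    have hhM : h ∈ M := gl_right_mem C hb'
    have hconj : h * root T C.h₂ w d * h⁻¹ = g * root T C.h₂ w d * g⁻¹ := by
      rw [hh, root_conj C (Unit.utvGroup_le_uiso C.h₂ hb') hw, hbw, hab, e, root, root,
        Unit.utv_smul C.h₂ hw', hl, div_mul_cancel₀ _ hd0]
    have hcomm : h⁻¹ * g * root T C.h₂ w d = root T C.h₂ w d * (h⁻¹ * g) := by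
      have : h⁻¹ * (g * root T C.h₂ w d * g⁻¹) * g = h⁻¹ * (h * root T C.h₂ w d * h⁻¹) * g := by rw [hconj]
      simpa [mul_assoc] using this
    have := hC w hw0 hw d hd hd0 _ (M.mul_mem (M.inv_mem hhM) hg) hcomm
    refine ⟨hg, ?_⟩
    rw [show g = h * (h⁻¹ * g) by group]
    exact mul_mem (gl_mem T _ _) this

/-- if the centralisers of root elements in `M` consist of tensor products, so does `M` -/
theorem le_tensor_of_centralizer (h5 : 5 ≤ n₂)
    (hC : ∀ w : Fin n₂ → F, w ≠ 0 → f₂ w w = 0 → ∀ d : F, d + σ d = 0 → d ≠ 0 → ∀ g ∈ M,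
      g * root T C.h₂ w d = root T C.h₂ w d * g → g ∈ Cfsg.Geo.tensorProductSubgroup n₁ n₂ T.e T.P) :
    M ≤ Cfsg.Geo.tensorProductSubgroup n₁ n₂ T.e T.P := by
  obtain ⟨p, hpC⟩ := CharP.exists F
  haveI := hpC
  haveI : Fact p.Prime := ⟨CharP.char_is_prime F p⟩
  obtain ⟨θ, hθ0, hθ⟩ := Unit.exists_skew C.hU.ne_refl C.hU.involutive
  set H := M ⊓ Cfsg.Geo.tensorProductSubgroup n₁ n₂ T.e T.P with hH
  let X : Set (GL ι F) :=
    {r | ∃ w d, w ≠ 0 ∧ f₂ w w = 0 ∧ d + σ d = 0 ∧ d ≠ 0 ∧ r = root T C.h₂ w d}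
  have hXH : X ⊆ (H : Set (GL ι F)) := by
    rintro _ ⟨w, d, -, hw, hd, -, rfl⟩
    exact ⟨root_mem C hw hd, gl_mem T _ _⟩
  have hXp : ∀ r ∈ X, ∃ k, r ^ p ^ k = 1 := by
    rintro _ ⟨w, d, -, hw, -, -, rfl⟩
    refine ⟨1, ?_⟩
    rw [pow_one, root_pow C.h₂ hw, CharP.cast_eq_zero, zero_mul, root, Unit.utv_zero, gl_one]
  have rig : ∀ g ∈ M, ∀ r ∈ X, g * r * g⁻¹ ∈ H → g ∈ H := by
    rintro g hg _ ⟨w, d, hw0, hw, hd, hd0, rfl⟩ hgr
    obtain ⟨a, b, hab⟩ := exists_of_mem T hgr.2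
    obtain ⟨w', d', hw'0, hw', hd', hd'0, e⟩ := root_of_conj C hg hw hw0 hd hd0 hab
    have hfix : σ (d' / d) = d' / d := by
      rw [map_div₀, eq_neg_of_add_eq_zero_right hd, eq_neg_of_add_eq_zero_right hd', neg_div_neg_eq]
    obtain ⟨l, hl⟩ := Unit.exists_norm C.hU.involutive C.hU.ne_refl _ hfix
    have hl0 : l ≠ 0 := by
      rintro rfl; rw [zero_mul, eq_comm, div_eq_zero_iff] at hl; tauto
    obtain ⟨b', hb', hbw⟩ := Unit.exists_move_exact_three C.h₂ (by simpa using C.three) hw0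
      (smul_ne_zero hl0 hw'0) hw (by rw [Unit.smul_left C.h₂, Unit.smul_right C.h₂, hw', mul_zero, mul_zero])
    set h := gl T 1 b' with hh
    have hhM : h ∈ M := gl_right_mem C hb'
    have hconj : h * root T C.h₂ w d * h⁻¹ = g * root T C.h₂ w d * g⁻¹ := by
      rw [hh, root_conj C (Unit.utvGroup_le_uiso C.h₂ hb') hw, hbw, hab, e, root, root,
        Unit.utv_smul C.h₂ hw', hl, div_mul_cancel₀ _ hd0]
    have hcomm : h⁻¹ * g * root T C.h₂ w d = root T C.h₂ w d * (h⁻¹ * g) := by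
      have : h⁻¹ * (g * root T C.h₂ w d * g⁻¹) * g = h⁻¹ * (h * root T C.h₂ w d * h⁻¹) * g := by rw [hconj]
      simpa [mul_assoc] using this
    have := hC w hw0 hw d hd hd0 _ (M.mul_mem (M.inv_mem hhM) hg) hcomm
    refine ⟨hg, ?_⟩
    rw [show g = h * (h⁻¹ * g) by group]
    exact mul_mem (gl_mem T _ _) this
  intro g hg
  let K : PreCtx T {w : Fin n₂ → F // w ≠ 0 ∧ f₂ w w = 0} g :=
    { ξ := fun w => flinU C.h₂ w.1
      lt := C.lt
      cover := fun v₁ v₂ v₃ => by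
        obtain ⟨w, h0, h, e1, e2, e3⟩ := exists_iso_orth C h5 v₁ v₂ v₃
        exact ⟨⟨w, h0, h⟩, e1, e2, e3⟩
      sep := fun v hv => by
        obtain ⟨w, h0, h, e⟩ := exists_iso_sep C hv
        exact ⟨⟨w, h0, h⟩, e⟩
      rig := fun u₁ u₂ u₃ v₁ v₂ v₃ w' hk => by
        set x := pt T u₁ v₁ + pt T u₂ v₂ + pt T u₃ v₃ with hx
        obtain ⟨w, h0, h, e1, e2, e3⟩ := exists_iso_orth C h5 v₁ v₂ v₃
        have hr : root T C.h₂ w θ ∈ stabVec x := (root_fix_iff C h h0 hθ0).2 (by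
          simp [hx, proj_pt, e1, e2, e3])
        have hr' : g⁻¹ * root T C.h₂ w'.1 θ * g ∈ stabVec x := by
          show act _ x = x
          rw [act_mul, act_mul, (root_fix_iff C w'.2.2 w'.2.1 hθ0).2 hk, act_inv_act]
        obtain ⟨h', hh', he⟩ := exists_mem_orbit_of_rigid (p := p) (inf_le_left : H ≤ M) X hXH hXp rig
          (stabVec x) hg ⟨w, θ, h0, h, hθ, hθ0, rfl⟩ ⟨w'.1, θ, w'.2.1, w'.2.2, hθ, hθ0, rfl⟩ hr hr'
        obtain ⟨a, b, hab⟩ := exists_of_mem T hh'.2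
        refine ⟨a, b, ?_⟩
        have : act (h'⁻¹ * g) x = x := he
        rw [act_mul] at this
        rw [← hab]
        conv_rhs => rw [← this, act_act_inv] }
  obtain ⟨a, b, rfl⟩ := exists_gl K (n₁_pos C) (by omega)
  exact gl_mem T a b

end Cfsg.Agent.MaxCl.Tens
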