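/-
The rigidity consequence for tensor products of unitary spaces of dimensions three and four.

Let `g` be in the overgroup. For `u ≠ 0` the vectors `v` with `g (u ⊗ v)` pure contain a hyperplane `l^⊥` with `l`
isotropic: otherwise the image of `u ⊗ F^4` would contain a plane of tensors whose second support is a
non-degenerate three-space for every translate. Three such hyperplanes for a basis share an isotropic vector `v`,
so `g` maps `F^3 ⊗ v` onto some `F^3 ⊗ b`, and then it commutes with a root element up to the stabiliser.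
-/
import Mathlib
import Cfsg.Agent.Lib.MaxCl.UnitaryTensorRoots
import Cfsg.Agent.Lib.MaxCl.UnitaryStab

set_option autoImplicit false

namespace Cfsg.Agent.MaxCl.Tens

open scoped MatrixGroups Matrix
open Module (finrank)
open Unit (uiso flinU utv uperp)

variable {ι : Type} [Fintype ι] [DecidableEq ι] {F : Type*} [Field F] {n₁ n₂ : ℕ}
variable {T : TSys ι F n₁ n₂} {σ : F ≃+* F} {f : (ι → F) → (ι → F) → F}
variable {f₁ : (Fin n₁ → F) → (Fin n₁ → F) → F} {f₂ : (Fin n₂ → F) → (Fin n₂ → F) → F} {c : F}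
variable {M : Subgroup (GL ι F)}

theorem func_proj (h₂ : Cfsg.Geo.IsUnitaryForm σ f₂) (φ : (Fin n₁ → F) →ₗ[F] F) (w : Fin n₂ → F)
    (y : ι → F) : φ (proj T h₂ w y) = f₂ (cL T φ y) w := by
  have : φ ∘ₗ proj T h₂ w = flinU h₂ w ∘ₗ cL T φ := pt_ext T fun u v => by
    simp only [LinearMap.comp_apply, proj_pt, cL_pt, map_smul, Unit.flinU_apply, smul_eq_mul]
    ring
  exact LinearMap.congr_fun this y

theorem ptR_injective {u : Fin n₁ → F} (hu : u ≠ 0) : Function.Injective (ptR T u) :=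
  (injective_iff_map_eq_zero _).2 fun _ h => ((pt_eq_zero T).1 h).resolve_left hu

/-- a map dependent on another pointwise is a multiple of it -/
theorem exists_eq_smul_of_dep {V Q : Type*} [AddCommGroup V] [Module F V] [AddCommGroup Q] [Module F Q]
    (A D : V →ₗ[F] Q) (hne : ∃ v, A v ≠ 0) (hker : ∀ v, A v = 0 → D v = 0)
    (hdep : ∀ v, A v ≠ 0 → D v ∈ F ∙ A v) : ∃ k : F, ∀ v, D v = k • A v := by
  obtain ⟨v₀, hv₀⟩ := hne
  obtain ⟨k, hk⟩ := Submodule.mem_span_singleton.1 (hdep v₀ hv₀)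
  refine ⟨k, fun v => ?_⟩
  by_cases hv : A v ∈ F ∙ A v₀
  · obtain ⟨s, hs⟩ := Submodule.mem_span_singleton.1 hv
    have := hker (v - s • v₀) (by rw [map_sub, map_smul, hs, sub_self])
    rw [map_sub, map_smul, sub_eq_zero] at this
    rw [this, ← hk, ← hs, smul_comm]
  have hv0 : A v ≠ 0 := fun h => hv (h ▸ Submodule.zero_mem _)
  obtain ⟨l, hl⟩ := Submodule.mem_span_singleton.1 (hdep v hv0)
  have hsum : A (v + v₀) ≠ 0 := fun h => hv (by
    rw [map_add] at h
    rw [eq_neg_of_add_eq_zero_left h]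
    exact Submodule.neg_mem _ (Submodule.mem_span_singleton_self _))
  obtain ⟨r, hr⟩ := Submodule.mem_span_singleton.1 (hdep _ hsum)
  rw [map_add, map_add, ← hl, ← hk, smul_add] at hr
  have e : (r - l) • A v = (k - r) • A v₀ := by linear_combination (norm := module) hr
  have hrl : r - l = 0 := by
    by_contra hne
    exact hv (Submodule.mem_span_singleton.2 ⟨(r - l)⁻¹ * (k - r), by rw [mul_smul, ← e, inv_smul_smul₀ hne]⟩)
  rw [hrl, zero_smul, eq_comm, smul_eq_zero, or_iff_left hv₀, sub_eq_zero] at e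
  rw [← hl, e, sub_eq_zero.1 hrl]

variable [Fintype F] (C : UCtx T σ f f₁ f₂ c M)
include C

/-- a plane contains an isotropic vector -/
theorem exists_iso_mem {S : Submodule F (Fin n₂ → F)} (hS : 2 ≤ finrank F S) :
    ∃ w ∈ S, w ≠ 0 ∧ f₂ w w = 0 := by
  obtain ⟨a, ha, ha0⟩ := Submodule.exists_mem_ne_zero_of_ne_bot (p := S) fun e => by
    rw [e, finrank_bot] at hS; omega
  obtain ⟨b, hb, hba⟩ := SetLike.not_le_iff_exists.1 (show ¬ S ≤ F ∙ a by
    intro h; have := Submodule.finrank_mono h; rw [finrank_span_singleton ha0] at this; omega)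
  obtain ⟨s, t, hst, hiso⟩ := Unit.exists_isotropic_pair C.h₂ a b
  refine ⟨_, add_mem (Submodule.smul_mem _ _ ha) (Submodule.smul_mem _ _ hb), ?_, hiso⟩
  intro e
  rcases eq_or_ne t 0 with rfl | ht
  · rw [zero_smul, add_zero, smul_eq_zero, or_iff_left ha0] at e
    exact (hst.resolve_right (by simp)) e
  · exact hba (Submodule.mem_span_singleton.2 ⟨-(t⁻¹ * s), by
      rw [neg_smul, mul_smul, eq_neg_of_add_eq_zero_left e, smul_neg, neg_neg, inv_smul_smul₀ ht]⟩)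

theorem finrank_perp₂ (S : Submodule F (Fin n₂ → F)) : finrank F (uperp C.h₂ S) + finrank F S = n₂ := by
  rw [Unit.finrank_uperp C.h₂ S, Fintype.card_fin]

theorem mem_perp_point {x w : Fin n₂ → F} : x ∈ uperp C.h₂ (F ∙ w) ↔ f₂ x w = 0 := by
  refine ⟨fun h => h w (Submodule.mem_span_singleton_self w), fun h p hp => ?_⟩
  obtain ⟨s, rfl⟩ := Submodule.mem_span_singleton.1 hp
  rw [Unit.smul_right C.h₂, h, mul_zero]

/-- the hypothesis: pure tensors with killed image have pure image -/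
def Rig₄ (g : GL ι F) : Prop :=
  4 ≤ n₂ ∧ ∀ u v w, w ≠ 0 → f₂ w w = 0 → proj T C.h₂ w (act g (pt T u v)) = 0 → IsPt T (act g (pt T u v))

/-- the space of `v` with `g (u ⊗ v)` pure -/
def goodR₄ {g : GL ι F} (hg : Rig₄ C g) (u : Fin n₁ → F) : Submodule F (Fin n₂ → F) where
  carrier := {v | IsPt T (act g (pt T u v))}
  zero_mem' := ⟨0, 0, by simp [pt_zero_right]⟩
  add_mem' {v v'} h h' := by
    obtain ⟨a, b, e⟩ := h
    obtain ⟨a', b', e'⟩ := h'
    obtain ⟨w, hw0, hw, h1, h2⟩ := exists_iso_two C hg.1 b b'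
    refine hg.2 u _ w hw0 hw ?_
    rw [pt_add_right, map_add, e, e', map_add, proj_pt, proj_pt, h1, h2, zero_smul, zero_smul, add_zero]
  smul_mem' k v h := by
    show IsPt T (act g (pt T u (k • v)))
    rw [pt_smul_right, map_smul]; exact isPt_smul h k

theorem exists_kills₄ {g : GL ι F} (u : Fin n₁ → F) (w : Fin n₂ → F) :
    ∃ v ≠ 0, proj T C.h₂ w (act g (pt T u v)) = 0 := by
  have hL : ¬ Function.Injective (proj T C.h₂ w ∘ₗ act g ∘ₗ ptR T u) := fun h => by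
    have := LinearMap.finrank_le_finrank_of_injective h
    simp only [Module.finrank_fin_fun] at this
    exact absurd this (not_le.2 C.lt)
  obtain ⟨v, hv, hv0⟩ := Submodule.exists_mem_ne_zero_of_ne_bot fun h => hL (LinearMap.ker_eq_bot.1 h)
  exact ⟨v, hv0, LinearMap.mem_ker.1 hv⟩

omit [Fintype F] C in
theorem ne_zero_of_image₄ {g : GL ι F} {u a : Fin n₁ → F} {v b : Fin n₂ → F} (hu : u ≠ 0) (hv : v ≠ 0)
    (h : act g (pt T u v) = pt T a b) : a ≠ 0 ∧ b ≠ 0 := by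
  have : pt T a b ≠ 0 := by
    rw [← h]; intro e
    have : pt T u v = 0 := act_injective g (by rw [e, map_zero])
    rcases (pt_eq_zero T).1 this with h' | h' <;> contradiction
  rw [Ne, pt_eq_zero, not_or] at this
  exact this

/-- all pure images of `u ⊗ F^4` share their first factor -/
theorem row_type₄ {g : GL ι F} (hg : Rig₄ C g) {u : Fin n₁ → F} (hu : u ≠ 0) :
    ∃ a, a ≠ 0 ∧ ∀ v ∈ goodR₄ C hg u, ∃ b, act g (pt T u v) = pt T a b := by
  obtain ⟨w₀, hw₀, hw₀', -⟩ := exists_iso_two C hg.1 0 0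
  obtain ⟨v₁, hv₁, a₁, b₁, h₁⟩ : ∃ v, v ≠ 0 ∧ ∃ a b, act g (pt T u v) = pt T a b := by
    obtain ⟨v, hv, hk⟩ := exists_kills₄ C u w₀
    exact ⟨v, hv, hg.2 u v w₀ hw₀ hw₀' hk⟩
  obtain ⟨ha₁, hb₁⟩ := ne_zero_of_image₄ hu hv₁ h₁
  by_cases hall : ∀ v ∈ goodR₄ C hg u, ∃ b, act g (pt T u v) = pt T a₁ b
  · exact ⟨a₁, ha₁, hall⟩
  push Not at hall
  obtain ⟨v₂, hv₂, h₂'⟩ := hall
  obtain ⟨a₂, b₂, h₂⟩ := hv₂
  have ha₂ : a₂ ∉ F ∙ a₁ := fun h => by
    obtain ⟨s, rfl⟩ := Submodule.mem_span_singleton.1 h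
    exact h₂' (s • b₂) (by rw [h₂, pt_smul_left, pt_smul_right])
  have hsum : ∀ v ∈ goodR₄ C hg u, ∀ v' ∈ goodR₄ C hg u, ∀ a b a' b', act g (pt T u v) = pt T a b →
      act g (pt T u v') = pt T a' b' → b ≠ 0 → a ≠ 0 → a' ∉ F ∙ a → b' ∈ F ∙ b := by
    intro v hv v' hv' a b a' b' e e' hb ha ha'
    obtain ⟨a'', b'', e''⟩ := (goodR₄ C hg u).add_mem hv hv'
    rw [pt_add_right, map_add, e, e'] at e''
    exact share T e'' hb ha ha'
  have hv₁m : v₁ ∈ goodR₄ C hg u := ⟨_, _, h₁⟩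
  have hb₂ : b₂ ∈ F ∙ b₁ := hsum v₁ hv₁m v₂ ⟨_, _, h₂⟩ _ _ _ _ h₁ h₂ hb₁ ha₁ ha₂
  have ha₂0 : a₂ ≠ 0 := fun e => ha₂ (e ▸ Submodule.zero_mem _)
  have hb₂0 : b₂ ≠ 0 := fun e => h₂' 0 (by rw [h₂, e, pt_zero_right, pt_zero_right])
  obtain ⟨w, hw0, hw, hbw⟩ := exists_iso_sep C hb₁
  obtain ⟨v₃, hv₃, hk₃⟩ := exists_kills₄ C (g := g) u w
  obtain ⟨a₃, b₃, h₃⟩ := hg.2 u v₃ w hw0 hw hk₃
  obtain ⟨ha₃, hb₃⟩ := ne_zero_of_image₄ hu hv₃ h₃
  rw [h₃, proj_pt, smul_eq_zero] at hk₃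
  have hk₃' := hk₃.resolve_right ha₃
  have hb₃' : b₃ ∉ F ∙ b₁ := fun h => by
    obtain ⟨s, rfl⟩ := Submodule.mem_span_singleton.1 h
    rw [Unit.smul_left C.h₂, mul_eq_zero, or_iff_left hbw] at hk₃'
    exact hb₃ (by rw [hk₃', zero_smul])
  have hv₃m : v₃ ∈ goodR₄ C hg u := ⟨_, _, h₃⟩
  have h31 : a₃ ∈ F ∙ a₁ := by
    by_contra h
    exact hb₃' (hsum v₁ hv₁m v₃ hv₃m _ _ _ _ h₁ h₃ hb₁ ha₁ h)
  have h32 : a₃ ∈ F ∙ a₂ := by
    by_contra h
    have := hsum v₂ ⟨_, _, h₂⟩ v₃ hv₃m _ _ _ _ h₂ h₃ hb₂0 ha₂0 h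
    exact hb₃' ((Submodule.span_singleton_le_iff_mem _ _).2 hb₂ this)
  exfalso
  obtain ⟨s, rfl⟩ := Submodule.mem_span_singleton.1 h31
  obtain ⟨t, ht⟩ := Submodule.mem_span_singleton.1 h32
  have ht0 : t ≠ 0 := fun e => ha₃ (by rw [← ht, e, zero_smul])
  refine ha₂ (Submodule.mem_span_singleton.2 ⟨t⁻¹ * s, ?_⟩)
  rw [mul_smul, ← ht, inv_smul_smul₀ ht0]

/-- the image of `u ⊗ F^4` contains a degenerate hyperplane of some `a ⊗ F^4` -/
theorem image_hyperplane (h3 : n₁ = 3) (h4 : n₂ = 4) {g : GL ι F} (hg : Rig₄ C g) {u : Fin n₁ → F}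
    (hu : u ≠ 0) : ∃ a, a ≠ 0 ∧ ∃ l, l ≠ 0 ∧ f₂ l l = 0 ∧
      ∀ b, f₂ b l = 0 → ∃ v, act g (pt T u v) = pt T a b := by
  classical
  obtain ⟨a, ha, hrow⟩ := row_type₄ C hg hu
  refine ⟨a, ha, ?_⟩
  let G : (Fin n₂ → F) →ₗ[F] (ι → F) := act g ∘ₗ ptR T u
  have hG : Function.Injective G := (act_injective g).comp (ptR_injective hu)
  set B : Submodule F (Fin n₂ → F) := (LinearMap.range G).comap (ptR T a) with hB
  set R : Submodule F (Fin n₂ → F) := (LinearMap.range (ptR T a)).comap G with hR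
  suffices H : ∃ l, l ≠ 0 ∧ f₂ l l = 0 ∧ uperp C.h₂ (F ∙ l) ≤ B by
    obtain ⟨l, hl0, hl, hle⟩ := H
    refine ⟨l, hl0, hl, fun b hb => ?_⟩
    obtain ⟨v, hv⟩ := hle ((mem_perp_point C).2 hb)
    exact ⟨v, hv⟩
  have hkill : ∀ v w, w ≠ 0 → f₂ w w = 0 → proj T C.h₂ w (G v) = 0 → v ∈ R := by
    intro v w hw0 hw h
    obtain ⟨b, hb⟩ := hrow v (hg.2 u v w hw0 hw h)
    exact ⟨b, hb.symm⟩
  have hmap : R.map G = B.map (ptR T a) := by
    ext x
    constructor
    · rintro ⟨v, ⟨b, hb⟩, rfl⟩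
      exact ⟨b, ⟨v, hb.symm⟩, hb⟩
    · rintro ⟨b, ⟨v, hv⟩, rfl⟩
      exact ⟨v, ⟨b, hv.symm⟩, hv⟩
  have hRB : finrank F R = finrank F B := by
    rw [(Submodule.equivMapOfInjective G hG R).finrank_eq, hmap,
      ← (Submodule.equivMapOfInjective _ (ptR_injective (T := T) ha) B).finrank_eq]
  have hB1 : ∀ w, w ≠ 0 → f₂ w w = 0 → ∃ b ∈ B, b ≠ 0 ∧ f₂ b w = 0 := by
    intro w hw0 hw
    obtain ⟨v, hv0, hk⟩ := exists_kills₄ C (g := g) u w
    obtain ⟨b, hb⟩ := hkill v w hw0 hw hk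
    have hb0 : b ≠ 0 := fun e => hv0 (hG (by rw [← hb, e, map_zero, map_zero]))
    refine ⟨b, ⟨v, hb.symm⟩, hb0, ?_⟩
    have e : act g (pt T u v) = pt T a b := hb.symm
    rw [e, proj_pt, smul_eq_zero] at hk
    exact hk.resolve_right ha
  have hB2 : 2 ≤ finrank F B := by
    by_contra hlt
    obtain ⟨w, hw0, hw, -⟩ := exists_iso_two C hg.1 0 0
    obtain ⟨b, hb, hb0, -⟩ := hB1 w hw0 hw
    have hBb : F ∙ b = B := Submodule.eq_of_le_of_finrank_le
      ((Submodule.span_singleton_le_iff_mem _ _).2 hb) (by rw [finrank_span_singleton hb0]; omega)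
    obtain ⟨w', hw'0, hw', hbw'⟩ := exists_iso_sep C hb0
    obtain ⟨b', hb', hb'0, hb'w⟩ := hB1 w' hw'0 hw'
    rw [← hBb] at hb'
    obtain ⟨s, rfl⟩ := Submodule.mem_span_singleton.1 hb'
    rw [Unit.smul_left C.h₂, mul_eq_zero, or_iff_left hbw'] at hb'w
    exact hb'0 (by rw [hb'w, zero_smul])
  have hB4 : finrank F B ≤ 4 := by
    have := Submodule.finrank_le B
    rw [Module.finrank_fin_fun] at this
    omega
  by_cases hB4' : finrank F B = 4
  · obtain ⟨w, hw0, hw, -⟩ := exists_iso_two C hg.1 0 0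
    refine ⟨w, hw0, hw, ?_⟩
    rw [Submodule.eq_top_of_finrank_eq (S := B) (by rw [hB4', Module.finrank_fin_fun, h4])]
    exact le_top
  -- coordinates on the left factor
  obtain ⟨ψ, -, hψ⟩ := exists_dual (⊥ : Submodule F (Fin n₁ → F)) (v := a) (by simpa using ha)
  obtain ⟨e₂, he₂⟩ : ∃ e₂, e₂ ∉ F ∙ a := by
    by_contra h; push Not at h
    have := Submodule.finrank_mono (show ⊤ ≤ F ∙ a from fun x _ => h x)
    rw [finrank_top, Module.finrank_fin_fun, finrank_span_singleton ha] at this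
    omega
  obtain ⟨φ, hφa, hφ2⟩ := exists_dual _ he₂
  obtain ⟨e₃, he₃⟩ : ∃ e₃, e₃ ∉ F ∙ a ⊔ F ∙ e₂ := by
    by_contra h; push Not at h
    have := Submodule.finrank_mono (show ⊤ ≤ F ∙ a ⊔ F ∙ e₂ from fun x _ => h x)
    rw [finrank_top, Module.finrank_fin_fun, Submodule.finrank_sup_span_singleton he₂,
      finrank_span_singleton ha] at this
    omega
  obtain ⟨χ, hχ, hχ3⟩ := exists_dual _ he₃
  have hφa' : φ a = 0 := hφa a (Submodule.mem_span_singleton_self a)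
  have hχa : χ a = 0 := hχ a (Submodule.mem_sup_left (Submodule.mem_span_singleton_self a))
  have hχ2 : χ e₂ = 0 := hχ e₂ (Submodule.mem_sup_right (Submodule.mem_span_singleton_self e₂))
  have htri : ∀ x, ψ x = 0 → φ x = 0 → χ x = 0 → x = 0 := by
    intro x h1 h2 h3'
    have hx : x ∈ F ∙ a ⊔ F ∙ e₂ ⊔ F ∙ e₃ := by
      rw [show F ∙ a ⊔ F ∙ e₂ ⊔ F ∙ e₃ = ⊤ from Submodule.eq_top_of_finrank_eq (by
        rw [Submodule.finrank_sup_span_singleton he₃, Submodule.finrank_sup_span_singleton he₂,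
          finrank_span_singleton ha, Module.finrank_fin_fun, h3])]
      trivial
    obtain ⟨x₁, hx₁, x₃, hx₃, rfl⟩ := Submodule.mem_sup.1 hx
    obtain ⟨r, rfl⟩ := Submodule.mem_span_singleton.1 hx₃
    rw [map_add, hχ x₁ hx₁, map_smul, hχ3, zero_add, smul_eq_mul, mul_one] at h3'
    subst h3'
    obtain ⟨x₀, hx₀, x₂, hx₂, rfl⟩ := Submodule.mem_sup.1 hx₁
    obtain ⟨r, rfl⟩ := Submodule.mem_span_singleton.1 hx₀
    obtain ⟨s, rfl⟩ := Submodule.mem_span_singleton.1 hx₂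
    simp only [map_add, map_smul, hφa', hφ2, smul_eq_mul, mul_zero, mul_one, zero_add, zero_mul, add_zero,
      zero_smul] at h2
    subst h2
    simp only [map_add, map_smul, hψ, smul_eq_mul, mul_one, zero_mul, add_zero, zero_smul] at h1
    subst h1
    simp
  let cc : (Fin n₂ → F) →ₗ[F] (Fin n₂ → F) := cL T ψ ∘ₗ G
  let CC : (Fin n₂ → F) →ₗ[F] (Fin n₂ → F) := cL T φ ∘ₗ G
  let DD : (Fin n₂ → F) →ₗ[F] (Fin n₂ → F) := cL T χ ∘ₗ G
  have hkilled : ∀ v b w, f₂ (cc v + b) w = 0 → f₂ (CC v) w = 0 → f₂ (DD v) w = 0 →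
      proj T C.h₂ w (G v + pt T a b) = 0 := by
    intro v b w h1 h2 h3'
    refine htri _ ?_ ?_ ?_ <;> rw [func_proj C.h₂, map_add, cL_pt]
    · rw [hψ, one_smul]; exact h1
    · rw [hφa', zero_smul, add_zero]; exact h2
    · rw [hχa, zero_smul, add_zero]; exact h3'
  have hN : ∀ v, v ∉ R → ∀ b ∈ B, ∀ w, w ≠ 0 → f₂ w w = 0 → f₂ (cc v + b) w = 0 → f₂ (CC v) w = 0 →
      f₂ (DD v) w = 0 → False := by
    intro v hv b hb w hw0 hw h1 h2 h3'
    obtain ⟨vb, hvb⟩ : ∃ vb, G vb = pt T a b := hb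
    have hvbR : vb ∈ R := ⟨b, hvb.symm⟩
    have := hkill (v + vb) w hw0 hw (by rw [map_add, hvb]; exact hkilled v b w h1 h2 h3')
    exact hv ((R.add_mem_iff_left hvbR).1 this)
  have hR0 : ∀ v ∈ R, CC v = 0 ∧ DD v = 0 := by
    rintro v ⟨b, hb⟩
    have e : G v = pt T a b := hb.symm
    constructor
    · show cL T φ (G v) = 0
      rw [e, cL_pt, hφa', zero_smul]
    · show cL T χ (G v) = 0
      rw [e, cL_pt, hχa, zero_smul]
  -- either `B` lies in the span of the outer supports or there is an isotropic common normal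
  have hK : ∀ v, v ∉ R → B ≤ Submodule.span F {CC v, DD v} ∨ ∃ w, w ≠ 0 ∧ f₂ w w = 0 ∧ B ≤ uperp C.h₂ (F ∙ w) ∧
      f₂ (CC v) w = 0 ∧ f₂ (DD v) w = 0 ∧ w ∈ Submodule.span F {CC v, DD v} := by
    intro v hv
    set P := Submodule.span F ({CC v, DD v} : Set (Fin n₂ → F)) with hP
    set K := uperp C.h₂ P with hKdef
    have hCP : CC v ∈ P := Submodule.subset_span (Set.mem_insert _ _)
    have hDP : DD v ∈ P := Submodule.subset_span (Set.mem_insert_of_mem _ rfl)
    by_cases hKB : K ≤ uperp C.h₂ B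
    · left
      have := Unit.le_uperp_comm C.h₂ hKB
      rwa [hKdef, Unit.uperp_uperp C.h₂] at this
    right
    obtain ⟨p, hpK, hpB⟩ := SetLike.not_le_iff_exists.1 hKB
    have hKv : ∀ x ∈ K, f₂ (CC v) x = 0 ∧ f₂ (DD v) x = 0 := fun x hx =>
      ⟨Unit.eq_zero_symm C.h₂ (hx _ hCP), Unit.eq_zero_symm C.h₂ (hx _ hDP)⟩
    have hisoB : ∀ x ∈ K, x ≠ 0 → f₂ x x = 0 → x ∈ uperp C.h₂ B := by
      intro x hx hx0 hxx
      by_contra hxB
      simp only [Unit.mem_uperp C.h₂] at hxB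
      push Not at hxB
      obtain ⟨b₀, hb₀, hb₀x⟩ := hxB
      have hb₀x' := Unit.ne_symm C.h₂ hb₀x
      refine hN v hv (-(f₂ (cc v) x / f₂ b₀ x) • b₀) (B.smul_mem _ hb₀) x hx0 hxx ?_ (hKv x hx).1 (hKv x hx).2
      rw [Unit.add_left C.h₂, Unit.smul_left C.h₂, neg_mul, div_mul_cancel₀ _ hb₀x', add_neg_cancel]
    have hKd : 2 ≤ finrank F K := by
      have h1 : finrank F K + finrank F P = n₂ := finrank_perp₂ C P
      have h2 : finrank F P ≤ 2 := by
        refine (finrank_span_le_card ({CC v, DD v} : Set (Fin n₂ → F))).trans ?_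
        simp only [Set.toFinset_insert, Set.toFinset_singleton]
        exact Finset.card_le_two
      omega
    obtain ⟨w, hwK, hw0, hw⟩ := exists_iso_mem C hKd
    have hwB := hisoB w hwK hw0 hw
    have hKw : ∀ z ∈ K, f₂ z w = 0 := by
      have key : ∀ z ∈ K, f₂ z w ≠ 0 → z ∈ uperp C.h₂ B := by
        intro z hz hzw
        obtain ⟨e, he⟩ := Unit.exists_isotropic_shift C.h₂ hw (show f₂ ((f₂ z w)⁻¹ • z) w = 1 by
          rw [Unit.smul_left C.h₂, inv_mul_cancel₀ hzw])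
        have hz' : (f₂ z w)⁻¹ • z + e • w ∈ K := add_mem (K.smul_mem _ hz) (K.smul_mem _ hwK)
        have := hisoB _ hz' (fun h0 => by
          have := congrArg (fun t => f₂ t w) h0
          simp only [Unit.add_left C.h₂, Unit.smul_left C.h₂, inv_mul_cancel₀ hzw, hw, mul_zero, add_zero,
            Unit.zero_left C.h₂] at this
          exact one_ne_zero this) he
        rwa [Submodule.add_mem_iff_left _ ((uperp C.h₂ B).smul_mem _ hwB),
          Submodule.smul_mem_iff _ (inv_ne_zero hzw)] at this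
      intro z hz
      by_contra hzw
      have hzB := key z hz hzw
      by_cases hpw : f₂ p w = 0
      · have := key (z + p) (add_mem hz hpK) (by rw [Unit.add_left C.h₂, hpw, add_zero]; exact hzw)
        exact hpB (((uperp C.h₂ B).add_mem_iff_right hzB).1 this)
      · exact hpB (key p hpK hpw)
    refine ⟨w, hw0, hw, fun b hb => (mem_perp_point C).2 (Unit.eq_zero_symm C.h₂ (hwB b hb)),
      (hKv w hwK).1, (hKv w hwK).2, ?_⟩
    rw [← Unit.uperp_uperp C.h₂ P]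
    exact fun k hk => Unit.eq_zero_symm C.h₂ (hKw k hk)
  have hRtop : R ≠ ⊤ := fun e => by
    rw [e, finrank_top, Module.finrank_fin_fun] at hRB; omega
  obtain ⟨v₀, hv₀⟩ : ∃ v, v ∉ R := by
    by_contra h; push Not at h
    exact hRtop (eq_top_iff.2 fun x _ => h x)
  have hPd : ∀ v, finrank F (Submodule.span F ({CC v, DD v} : Set (Fin n₂ → F))) ≤ 2 := fun v => by
    refine (finrank_span_le_card ({CC v, DD v} : Set (Fin n₂ → F))).trans ?_
    simp only [Set.toFinset_insert, Set.toFinset_singleton]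
    exact Finset.card_le_two
  rcases Nat.lt_or_ge (finrank F B) 3 with hB3 | hB3
  swap
  · rcases hK v₀ hv₀ with h | ⟨w, hw0, hw, hBw, -⟩
    · exact absurd (Submodule.finrank_mono h) (by have := hPd v₀; omega)
    · refine ⟨w, hw0, hw, le_of_eq (Submodule.eq_of_le_of_finrank_le hBw ?_).symm⟩
      have := finrank_perp₂ C (F ∙ w)
      rw [finrank_span_singleton hw0] at this
      omega
  exfalso
  have hB2' : finrank F B = 2 := by omega
  set Q := B.mkQ with hQ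
  have hPsup : ∀ v, v ∉ R → (Q (CC v) ≠ 0 ∨ Q (DD v) ≠ 0) → ∃ w, w ≠ 0 ∧ f₂ w w = 0 ∧ B ≤ uperp C.h₂ (F ∙ w) ∧
      f₂ (CC v) w = 0 ∧ f₂ (DD v) w = 0 ∧ w ∈ Submodule.span F {CC v, DD v} := by
    intro v hv hne
    refine (hK v hv).resolve_left fun h => ?_
    have e := Submodule.eq_of_le_of_finrank_le h (by have := hPd v; omega)
    rcases hne with h' | h' <;> apply h' <;> rw [hQ, Submodule.mkQ_apply, Submodule.Quotient.mk_eq_zero, e]
    exacts [Submodule.subset_span (Set.mem_insert _ _), Submodule.subset_span (Set.mem_insert_of_mem _ rfl)]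
  -- the supports do not lie in one hyperplane over `B`
  have hright : ∀ H : Submodule F (Fin n₂ → F), B ≤ H → (∀ v, CC v ∈ H) → (∀ v, DD v ∈ H) → ¬ finrank F H ≤ 3 := by
    intro H hBH hCH hDH hH
    obtain ⟨w, hw0, hw, hBw, hCw, hDw⟩ : ∃ w, w ≠ 0 ∧ f₂ w w = 0 ∧ B ≤ uperp C.h₂ (F ∙ w) ∧
        (∀ v, f₂ (CC v) w = 0) ∧ ∀ v, f₂ (DD v) w = 0 := by
      by_cases hall : ∀ v, Q (CC v) = 0 ∧ Q (DD v) = 0
      · obtain ⟨w, hwB, hw0, hw⟩ := exists_iso_mem C (S := uperp C.h₂ B) (by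
          have := finrank_perp₂ C B; omega)
        have hle : B ≤ uperp C.h₂ (F ∙ w) := fun b hb =>
          (mem_perp_point C).2 (Unit.eq_zero_symm C.h₂ (hwB b hb))
        refine ⟨w, hw0, hw, hle, fun v => ?_, fun v => ?_⟩ <;> refine (mem_perp_point C).1 (hle ?_)
        · exact (Submodule.Quotient.mk_eq_zero B).1 (hall v).1
        · exact (Submodule.Quotient.mk_eq_zero B).1 (hall v).2
      · push Not at hall
        obtain ⟨v, hv⟩ := hall
        have hne : Q (CC v) ≠ 0 ∨ Q (DD v) ≠ 0 := by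
          by_cases h : Q (CC v) = 0
          exacts [Or.inr (hv h), Or.inl h]
        have hvR : v ∉ R := fun h => by
          rw [(hR0 v h).1, (hR0 v h).2, map_zero] at hne; simp at hne
        obtain ⟨w, hw0, hw, hBw, h1, h2, -⟩ := hPsup v hvR hne
        obtain ⟨x, hxH, hxB, hxw⟩ : ∃ x ∈ H, x ∉ B ∧ f₂ x w = 0 := by
          rcases hne with h | h
          · exact ⟨_, hCH v, fun hm => h ((Submodule.Quotient.mk_eq_zero B).2 hm), h1⟩
          · exact ⟨_, hDH v, fun hm => h ((Submodule.Quotient.mk_eq_zero B).2 hm), h2⟩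
        have hHeq : B ⊔ F ∙ x = H := Submodule.eq_of_le_of_finrank_le
          (sup_le hBH ((Submodule.span_singleton_le_iff_mem _ _).2 hxH))
          (by rw [Submodule.finrank_sup_span_singleton hxB]; omega)
        have hHw : H ≤ uperp C.h₂ (F ∙ w) := hHeq ▸ sup_le hBw
          ((Submodule.span_singleton_le_iff_mem _ _).2 ((mem_perp_point C).2 hxw))
        exact ⟨w, hw0, hw, hBw, fun v => (mem_perp_point C).1 (hHw (hCH v)),
          fun v => (mem_perp_point C).1 (hHw (hDH v))⟩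
    let L : (Fin n₂ → F) →ₗ[F] F := flinU C.h₂ w ∘ₗ cc
    obtain ⟨v, hvL, hvR⟩ := SetLike.not_le_iff_exists.1 (show ¬ LinearMap.ker L ≤ R by
      intro h
      have h1 := Submodule.finrank_mono h
      have h2 := LinearMap.finrank_range_add_finrank_ker L
      have h3' := Submodule.finrank_le (LinearMap.range L)
      rw [Module.finrank_self] at h3'
      rw [Module.finrank_fin_fun] at h2
      omega)
    exact hN v hvR 0 B.zero_mem w hw0 hw (by rw [add_zero]; exact LinearMap.mem_ker.1 hvL) (hCw v) (hDw v)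
  -- normalisation: one of them is onto modulo `B`
  have main : ∀ (A D : (Fin n₂ → F) →ₗ[F] (Fin n₂ → F)), (∀ v ∈ R, A v = 0 ∧ D v = 0) →
      (∀ v, v ∉ R → (Q (A v) ≠ 0 ∨ Q (D v) ≠ 0) → ∃ w, w ≠ 0 ∧ f₂ w w = 0 ∧ B ≤ uperp C.h₂ (F ∙ w) ∧
        f₂ (A v) w = 0 ∧ f₂ (D v) w = 0 ∧ w ∈ Submodule.span F {A v, D v}) →
      LinearMap.range (Q ∘ₗ A) = ⊤ → False := by
    intro A D hAR hcase hA
    have hkA : ∀ v, Q (A v) = 0 → v ∈ R := by
      have hle : R ≤ LinearMap.ker (Q ∘ₗ A) := fun v hv => by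
        rw [LinearMap.mem_ker, LinearMap.comp_apply, (hAR v hv).1, map_zero]
      have hrk := LinearMap.finrank_range_add_finrank_ker (Q ∘ₗ A)
      rw [hA, finrank_top, Module.finrank_fin_fun] at hrk
      have hq := Submodule.finrank_quotient_add_finrank B
      rw [Module.finrank_fin_fun] at hq
      have e := Submodule.eq_of_le_of_finrank_le hle (by omega)
      intro v hv
      rw [e]; exact hv
    obtain ⟨k, hk⟩ := exists_eq_smul_of_dep (Q ∘ₗ A) (Q ∘ₗ D)
      ⟨v₀, fun h => hv₀ (hkA v₀ h)⟩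
      (fun v hv => by rw [LinearMap.comp_apply, (hAR v (hkA v hv)).2, map_zero]) (fun v hv => by
        obtain ⟨w, hw0, -, hBw, h1, h2, -⟩ := hcase v (fun h => hv (by
          rw [LinearMap.comp_apply, (hAR v h).1, map_zero])) (Or.inl hv)
        have hxB : A v ∉ B := fun hm => hv ((Submodule.Quotient.mk_eq_zero B).2 hm)
        have hHeq : B ⊔ F ∙ A v = uperp C.h₂ (F ∙ w) := Submodule.eq_of_le_of_finrank_le
          (sup_le hBw ((Submodule.span_singleton_le_iff_mem _ _).2 ((mem_perp_point C).2 h1))) (by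
            rw [Submodule.finrank_sup_span_singleton hxB]
            have := finrank_perp₂ C (F ∙ w)
            rw [finrank_span_singleton hw0] at this
            omega)
        have hm : D v ∈ B ⊔ F ∙ A v := hHeq ▸ (mem_perp_point C).2 h2
        obtain ⟨b, hb, x, hx, e⟩ := Submodule.mem_sup.1 hm
        obtain ⟨s, rfl⟩ := Submodule.mem_span_singleton.1 hx
        refine Submodule.mem_span_singleton.2 ⟨s, ?_⟩
        show s • Q (A v) = Q (D v)
        rw [← e, map_add, map_smul, show Q b = 0 from (Submodule.Quotient.mk_eq_zero B).2 hb, zero_add])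
    obtain ⟨D₁, hD₁⟩ : ∃ D₁, D₁ = D - k • A := ⟨_, rfl⟩
    have hD₁B : ∀ v, D₁ v ∈ B := fun v => (Submodule.Quotient.mk_eq_zero B).1 (by
      show Q (D₁ v) = 0
      rw [hD₁, LinearMap.sub_apply, LinearMap.smul_apply, map_sub, map_smul, sub_eq_zero]
      exact hk v)
    have hcase₁ : ∀ v, v ∉ R → ∃ w, w ≠ 0 ∧ f₂ w w = 0 ∧ uperp C.h₂ (F ∙ w) = B ⊔ F ∙ A v ∧
        f₂ (A v) w = 0 ∧ ∃ s t : F, w = s • A v + t • D₁ v := by
      intro v hv
      have hne : Q (A v) ≠ 0 := fun h => hv (hkA v h)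
      obtain ⟨w, hw0, hw, hBw, h1, -, hwP⟩ := hcase v hv (Or.inl hne)
      have hxB : A v ∉ B := fun hm => hne ((Submodule.Quotient.mk_eq_zero B).2 hm)
      refine ⟨w, hw0, hw, (Submodule.eq_of_le_of_finrank_le
        (sup_le hBw ((Submodule.span_singleton_le_iff_mem _ _).2 ((mem_perp_point C).2 h1))) (by
          rw [Submodule.finrank_sup_span_singleton hxB]
          have := finrank_perp₂ C (F ∙ w)
          rw [finrank_span_singleton hw0] at this
          omega)).symm, h1, ?_⟩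
      obtain ⟨s, t, hst⟩ := Submodule.mem_span_pair.1 hwP
      exact ⟨s + t * k, t, by rw [← hst, hD₁, LinearMap.sub_apply, LinearMap.smul_apply]; module⟩
    -- the perp of `B` is totally singular
    have hts : ∀ x ∈ uperp C.h₂ B, f₂ x x = 0 := by
      intro x hx
      rcases eq_or_ne x 0 with rfl | hx0
      · exact Unit.zero_left C.h₂ _
      have hBx : B ≤ uperp C.h₂ (F ∙ x) := fun b hb => (mem_perp_point C).2 (Unit.eq_zero_symm C.h₂ (hx b hb))
      obtain ⟨y, hy, hyB⟩ := SetLike.not_le_iff_exists.1 (show ¬ uperp C.h₂ (F ∙ x) ≤ B by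
        intro h
        have h1 := Submodule.finrank_mono h
        have h2 := finrank_perp₂ C (F ∙ x)
        rw [finrank_span_singleton hx0] at h2
        omega)
      obtain ⟨v, hv⟩ := LinearMap.range_eq_top.1 hA (Q y)
      have hAy : A v - y ∈ B := (Submodule.Quotient.eq B).1 hv
      have hvR : v ∉ R := fun h => hyB (by
        rw [(hAR v h).1, zero_sub, B.neg_mem_iff] at hAy; exact hAy)
      obtain ⟨w, hw0, hw, hwe, -, -⟩ := hcase₁ v hvR
      have hxw : x ∈ F ∙ w := by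
        rw [← Unit.uperp_uperp C.h₂ (F ∙ w), hwe]
        intro p hp
        obtain ⟨b, hb, q, hq, rfl⟩ := Submodule.mem_sup.1 hp
        obtain ⟨s, rfl⟩ := Submodule.mem_span_singleton.1 hq
        have h1 : f₂ y x = 0 := (mem_perp_point C).1 hy
        have h2 : f₂ (A v - y) x = 0 := (mem_perp_point C).1 (hBx hAy)
        rw [Unit.sub_left C.h₂, h1, sub_zero] at h2
        rw [Unit.add_right C.h₂, Unit.smul_right C.h₂, hx b hb, Unit.eq_zero_symm C.h₂ h2, mul_zero, add_zero]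
      obtain ⟨s, rfl⟩ := Submodule.mem_span_singleton.1 hxw
      rw [Unit.smul_left C.h₂, Unit.smul_right C.h₂, hw, mul_zero, mul_zero]
    have hBB : B = uperp C.h₂ B := by
      have hd := finrank_perp₂ C B
      refine (Submodule.eq_of_le_of_finrank_le ?_ (by omega)).symm
      have hle : uperp C.h₂ B ≤ uperp C.h₂ (uperp C.h₂ B) := by
        intro p hp r hr
        obtain ⟨e, he⟩ := Unit.exists_moved C.hU.ne_refl
        have h1 := hts _ (add_mem ((uperp C.h₂ B).smul_mem e hp) hr)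
        have h2 := hts _ (add_mem hp hr)
        simp only [Unit.add_left C.h₂, Unit.add_right C.h₂, Unit.smul_left C.h₂, Unit.smul_right C.h₂,
          hts p hp, hts r hr, mul_zero, add_zero, zero_add] at h1 h2
        have : (e - σ e) * f₂ p r = 0 := by linear_combination h1 - σ e * h2
        exact (mul_eq_zero.1 this).resolve_left (sub_ne_zero.2 (Ne.symm he))
      rwa [Unit.uperp_uperp C.h₂] at hle
    have hdiag : ∀ v, f₂ (D₁ v) (A v) = 0 ∧ (v ∉ R → D₁ v ≠ 0) := by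
      intro v
      by_cases hv : v ∈ R
      · refine ⟨?_, fun h => absurd hv h⟩
        rw [(hAR v hv).1, Unit.zero_right C.h₂]
      obtain ⟨w, hw0, -, hwe, hAw, s, t, hwst⟩ := hcase₁ v hv
      have hwB : w ∈ B := by
        rw [hBB]
        intro b hb
        exact Unit.eq_zero_symm C.h₂ ((mem_perp_point C).1 (hwe.symm ▸ Submodule.mem_sup_left hb))
      have hs : s = 0 := by
        by_contra hs
        rw [hwst, B.add_mem_iff_left (B.smul_mem _ (hD₁B v)), Submodule.smul_mem_iff _ hs] at hwB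
        exact hv (hkA v ((Submodule.Quotient.mk_eq_zero B).2 hwB))
      rw [hs, zero_smul, zero_add] at hwst
      have ht : t ≠ 0 := fun e => hw0 (by rw [hwst, e, zero_smul])
      refine ⟨?_, fun _ e => hw0 (by rw [hwst, e, smul_zero])⟩
      have := Unit.eq_zero_symm C.h₂ hAw
      rw [hwst, Unit.smul_left C.h₂, mul_eq_zero, or_iff_right ht] at this
      exact this
    refine (hdiag v₀).2 hv₀ ?_
    have hpol : ∀ v v', f₂ (D₁ v) (A v') = 0 := by
      intro v v'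
      obtain ⟨e, he⟩ := Unit.exists_moved C.hU.ne_refl
      have h1 := (hdiag (e • v + v')).1
      have h2 := (hdiag (v + v')).1
      simp only [map_add, map_smul, Unit.add_left C.h₂, Unit.add_right C.h₂, Unit.smul_left C.h₂,
        Unit.smul_right C.h₂, (hdiag v).1, (hdiag v').1, mul_zero, add_zero, zero_add] at h1 h2
      have : (e - σ e) * f₂ (D₁ v) (A v') = 0 := by linear_combination h1 - σ e * h2
      exact (mul_eq_zero.1 this).resolve_left (sub_ne_zero.2 (Ne.symm he))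
    by_contra hne
    obtain ⟨y, hy⟩ := (C.h₂.nondegenerate _ hne).2
    obtain ⟨v, hv⟩ := LinearMap.range_eq_top.1 hA (Q y)
    have hAy : y - A v ∈ B := (Submodule.Quotient.eq B).1 hv.symm
    apply hy
    have h0 : f₂ (D₁ v₀) (y - A v) = 0 := (hBB.le (hD₁B v₀)) _ hAy
    rw [Unit.sub_right C.h₂, hpol, sub_zero] at h0
    exact h0
  have hq : finrank F ((Fin n₂ → F) ⧸ B) = 2 := by
    have := Submodule.finrank_quotient_add_finrank B
    rw [Module.finrank_fin_fun] at this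
    omega
  by_cases hA : LinearMap.range (Q ∘ₗ CC) = ⊤
  · exact main CC DD hR0 hPsup hA
  by_cases hD : LinearMap.range (Q ∘ₗ DD) = ⊤
  · refine main DD CC (fun v hv => (hR0 v hv).symm) (fun v hv h => ?_) hD
    obtain ⟨w, h1, h2, h3', h4', h5, h6⟩ := hPsup v hv h.symm
    exact ⟨w, h1, h2, h3', h5, h4', by rwa [Set.pair_comm] at h6⟩
  have hA1 := Submodule.finrank_lt hA
  have hD1 := Submodule.finrank_lt hD
  by_cases htop : LinearMap.range (Q ∘ₗ CC) ⊔ LinearMap.range (Q ∘ₗ DD) = ⊤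
  swap
  · refine hright ((LinearMap.range (Q ∘ₗ CC) ⊔ LinearMap.range (Q ∘ₗ DD)).comap Q) (fun b hb => ?_)
      (fun v => Submodule.mem_sup_left ⟨v, rfl⟩) (fun v => Submodule.mem_sup_right ⟨v, rfl⟩) ?_
    · rw [Submodule.mem_comap,show Q b = 0 from (Submodule.Quotient.mk_eq_zero B).2 hb]; exact Submodule.zero_mem _
    · set Hc := (LinearMap.range (Q ∘ₗ CC) ⊔ LinearMap.range (Q ∘ₗ DD)).comap Q with hHc
      have hne : Hc ≠ ⊤ := fun e => htop (eq_top_iff.2 fun x _ => by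
        obtain ⟨y, rfl⟩ := B.mkQ_surjective x
        have hy : y ∈ Hc := by rw [e]; exact Submodule.mem_top
        exact hy)
      have := Submodule.finrank_lt hne
      rw [Module.finrank_fin_fun] at this
      omega
  obtain ⟨v₁, hv₁⟩ : ∃ v, Q (CC v) ≠ 0 := by
    by_contra h; push Not at h
    rw [show LinearMap.range (Q ∘ₗ CC) = ⊥ from eq_bot_iff.2 (by rintro _ ⟨v, rfl⟩; exact (h v)), bot_sup_eq]
      at htop
    exact hD htop
  obtain ⟨v₂, hv₂⟩ : ∃ v, Q (DD v) ≠ 0 := by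
    by_contra h; push Not at h
    rw [show LinearMap.range (Q ∘ₗ DD) = ⊥ from eq_bot_iff.2 (by rintro _ ⟨v, rfl⟩; exact (h v)), sup_bot_eq]
      at htop
    exact hA htop
  obtain ⟨v, hvC, hvD⟩ : ∃ v, Q (CC v) ≠ 0 ∧ Q (DD v) ≠ 0 := by
    by_cases h1 : Q (DD v₁) = 0
    · by_cases h2 : Q (CC v₂) = 0
      · exact ⟨v₁ + v₂, by rw [map_add, map_add, h2, add_zero]; exact hv₁,
          by rw [map_add, map_add, h1, zero_add]; exact hv₂⟩
      · exact ⟨v₂, h2, hv₂⟩
    · exact ⟨v₁, hv₁, h1⟩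
  obtain ⟨w, hw0, -, hBw, h1, h2, -⟩ :=
    hPsup v (fun h => hvC (by rw [(hR0 v h).1, map_zero])) (Or.inl hvC)
  have hCe : LinearMap.range (Q ∘ₗ CC) = F ∙ Q (CC v) := (Submodule.eq_of_le_of_finrank_le
    ((Submodule.span_singleton_le_iff_mem _ _).2 (show Q (CC v) ∈ LinearMap.range (Q ∘ₗ CC) from ⟨v, rfl⟩))
    (by rw [finrank_span_singleton hvC]; omega)).symm
  have hDe : LinearMap.range (Q ∘ₗ DD) = F ∙ Q (DD v) := (Submodule.eq_of_le_of_finrank_le
    ((Submodule.span_singleton_le_iff_mem _ _).2 (show Q (DD v) ∈ LinearMap.range (Q ∘ₗ DD) from ⟨v, rfl⟩))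
    (by rw [finrank_span_singleton hvD]; omega)).symm
  rw [hCe, hDe] at htop
  have hle : F ∙ Q (CC v) ⊔ F ∙ Q (DD v) ≤ (uperp C.h₂ (F ∙ w)).map Q :=
    sup_le ((Submodule.span_singleton_le_iff_mem _ _).2 ⟨_, (mem_perp_point C).2 h1, rfl⟩)
      ((Submodule.span_singleton_le_iff_mem _ _).2 ⟨_, (mem_perp_point C).2 h2, rfl⟩)
  rw [htop] at hle
  have htop' : uperp C.h₂ (F ∙ w) = ⊤ := eq_top_iff.2 fun x _ => by
    obtain ⟨y, hy, e⟩ := hle (show Q x ∈ ⊤ from trivial)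
    have hd : y - x ∈ B := (Submodule.Quotient.eq B).1 e
    rw [show x = y - (y - x) by abel]
    exact sub_mem hy (hBw hd)
  obtain ⟨x, hx⟩ := (C.h₂.nondegenerate w hw0).1
  exact hx ((mem_perp_point C).1 (htop' ▸ trivial))

/-- the good vectors for `u` contain the perp of an isotropic vector -/
theorem good_hyperplane (h3 : n₁ = 3) (h4 : n₂ = 4) {g : GL ι F} (hg : Rig₄ C g) (hg' : Rig₄ C g⁻¹)
    {u : Fin n₁ → F} (hu : u ≠ 0) : ∃ a, a ≠ 0 ∧ ∃ l, l ≠ 0 ∧ f₂ l l = 0 ∧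
      ∀ v, f₂ v l = 0 → ∃ b, act g (pt T u v) = pt T a b := by
  obtain ⟨a, ha, l₁, hl₁0, hl₁, hB⟩ := image_hyperplane C h3 h4 hg hu
  obtain ⟨a', ha', l, hl0, hl, hB'⟩ := image_hyperplane C h3 h4 hg' ha
  refine ⟨a, ha, l, hl0, hl, fun v hv => ?_⟩
  have hfin : ∀ {x : Fin n₂ → F}, x ≠ 0 → finrank F (uperp C.h₂ (F ∙ x)) = 3 := fun {x} hx => by
    have := finrank_perp₂ C (F ∙ x)
    rw [finrank_span_singleton hx] at this
    omega
  have key : ∀ v, f₂ v l = 0 → ∃ b, act g (pt T a' v) = pt T a b := by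
    intro v hv
    obtain ⟨b, hb⟩ := hB' v hv
    exact ⟨b, by rw [← hb, act_act_inv]⟩
  set P₁ := (uperp C.h₂ (F ∙ l)).map (act g ∘ₗ ptR T a') with hP₁
  set P₂ := (uperp C.h₂ (F ∙ l₁)).map (ptR T a) with hP₂
  have h1 : P₁ ≤ LinearMap.range (ptR T a) := by
    rintro _ ⟨p, hp, rfl⟩
    obtain ⟨b, hb⟩ := key p ((mem_perp_point C).1 hp)
    exact ⟨b, hb.symm⟩
  have h2 : P₂ ≤ LinearMap.range (ptR T a) := LinearMap.map_le_range
  have d1 : finrank F P₁ = 3 := by
    rw [hP₁, ← (Submodule.equivMapOfInjective _ (show Function.Injective (act g ∘ₗ ptR T a') from fun x y h => ptR_injective (T := T) ha' (act_injective g h))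
      _).finrank_eq, hfin hl0]
  have d2 : finrank F P₂ = 3 := by
    rw [hP₂, ← (Submodule.equivMapOfInjective _ (ptR_injective (T := T) ha) _).finrank_eq, hfin hl₁0]
  have hne : P₁ ⊓ P₂ ≠ ⊥ := fun e => by
    have h5 := Submodule.finrank_sup_add_finrank_inf_eq P₁ P₂
    have h6 := Submodule.finrank_mono (sup_le h1 h2)
    rw [e, finrank_bot, d1, d2] at h5
    rw [LinearMap.finrank_range_of_inj (ptR_injective (T := T) ha), Module.finrank_fin_fun] at h6
    omega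
  obtain ⟨x, ⟨⟨p, hp, hpx⟩, ⟨b, hb, hbx⟩⟩, hx0⟩ := Submodule.exists_mem_ne_zero_of_ne_bot hne
  obtain ⟨v', hv'⟩ := hB b ((mem_perp_point C).1 hb)
  have e : pt T a' p = pt T u v' := act_injective g (hpx.trans (hbx.symm.trans hv'.symm))
  have hp0 : p ≠ 0 := fun h => hx0 (by rw [← hpx, h, map_zero])
  obtain ⟨k, hk⟩ := Submodule.mem_span_singleton.1 (mem_span_of_pt_eq' T e hp0)
  have hk0 : k ≠ 0 := fun h => ha' (act_injective (1 : GL (Fin n₁) F) (by
    rw [act_one, act_one, ← hk, h, zero_smul]))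
  obtain ⟨b', hb'⟩ := key v hv
  refine ⟨k⁻¹ • b', ?_⟩
  rw [← inv_smul_smul₀ hk0 u, pt_smul_left, map_smul, hk, hb', pt_smul_right]

/-- some `F^3 ⊗ v` with `v` isotropic goes to some `F^3 ⊗ b` -/
theorem exists_layer (h3 : n₁ = 3) (h4 : n₂ = 4) {g : GL ι F} (hg : Rig₄ C g) (hg' : Rig₄ C g⁻¹) :
    ∃ v b, v ≠ 0 ∧ f₂ v v = 0 ∧ ∀ u, ∃ a, act g (pt T u v) = pt T a b := by
  classical
  choose! aa haa ll hll0 hll hgood using fun u (hu : u ≠ 0) => good_hyperplane C h3 h4 hg hg' hu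
  have hfin : ∀ {x : Fin n₂ → F}, x ≠ 0 → finrank F (uperp C.h₂ (F ∙ x)) = 3 := fun {x} hx => by
    have := finrank_perp₂ C (F ∙ x)
    rw [finrank_span_singleton hx] at this
    omega
  have hLR : ∀ u, u ≠ 0 → uperp C.h₂ (F ∙ ll u) ≤ goodR₄ C hg u := fun u hu v hv => by
    obtain ⟨b, hb⟩ := hgood u hu v ((mem_perp_point C).1 hv)
    exact ⟨_, b, hb⟩
  have hR3 : ∀ u, u ≠ 0 → 3 ≤ finrank F (goodR₄ C hg u) := fun u hu =>
    (hfin (hll0 u hu)).ge.trans (Submodule.finrank_mono (hLR u hu))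
  -- independent vectors have images with independent first factors
  have hfirst : ∀ {u u' a a' : Fin n₁ → F} {v v' b b' : Fin n₂ → F}, u ≠ 0 → u' ∉ F ∙ u → v ≠ 0 → v' ≠ 0 →
      act g (pt T u v) = pt T a b → act g (pt T u' v') = pt T a' b' → a' ∉ F ∙ a := by
    intro u u' a a' v v' b b' hu hind hv hv' e e' hdep
    have hu' : u' ≠ 0 := fun h => hind (h ▸ Submodule.zero_mem _)
    obtain ⟨r, hr, hrow⟩ := row_type₄ C hg hu
    obtain ⟨r', hr', hrow'⟩ := row_type₄ C hg hu'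
    obtain ⟨ha, hb⟩ := ne_zero_of_image₄ hu hv e
    obtain ⟨ha', hb'⟩ := ne_zero_of_image₄ hu' hv' e'
    obtain ⟨d, hd⟩ := hrow v ⟨_, _, e⟩
    obtain ⟨d', hd'⟩ := hrow' v' ⟨_, _, e'⟩
    have hra : a ∈ F ∙ r := mem_span_of_pt_eq' T (e.symm.trans hd) hb
    have hra' : a' ∈ F ∙ r' := mem_span_of_pt_eq' T (e'.symm.trans hd') hb'
    have hr'r : r' ∈ F ∙ r := by
      obtain ⟨s, hs⟩ := Submodule.mem_span_singleton.1 hra'
      have hs0 : s ≠ 0 := fun h => ha' (by rw [← hs, h, zero_smul])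
      have : a' ∈ F ∙ r := (Submodule.span_singleton_le_iff_mem _ _).2 hra hdep
      rw [← hs, Submodule.smul_mem_iff _ hs0] at this
      exact this
    obtain ⟨s, hs⟩ := Submodule.mem_span_singleton.1 hr'r
    set P₁ := (goodR₄ C hg u).map (act g ∘ₗ ptR T u) with hP₁
    set P₂ := (goodR₄ C hg u').map (act g ∘ₗ ptR T u') with hP₂
    have h1 : P₁ ⊔ P₂ ≤ LinearMap.range (ptR T r) := by
      refine sup_le ?_ ?_ <;> rintro _ ⟨p, hp, rfl⟩
      · obtain ⟨z, hz⟩ := hrow p hp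
        exact ⟨z, hz.symm⟩
      · obtain ⟨z, hz⟩ := hrow' p hp
        exact ⟨s • z, by
          show pt T r (s • z) = act g (pt T u' p)
          rw [hz, ← hs, pt_smul_left, pt_smul_right]⟩
    have d1 : 3 ≤ finrank F P₁ := by
      rw [hP₁, ← (Submodule.equivMapOfInjective _ (show Function.Injective (act g ∘ₗ ptR T u) from fun x y h => ptR_injective (T := T) hu (act_injective g h))
        _).finrank_eq]
      exact hR3 u hu
    have d2 : 3 ≤ finrank F P₂ := by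
      rw [hP₂, ← (Submodule.equivMapOfInjective _ (show Function.Injective (act g ∘ₗ ptR T u') from fun x y h => ptR_injective (T := T) hu' (act_injective g h))
        _).finrank_eq]
      exact hR3 u' hu'
    have hne : P₁ ⊓ P₂ ≠ ⊥ := fun e0 => by
      have h5 := Submodule.finrank_sup_add_finrank_inf_eq P₁ P₂
      have h6 := Submodule.finrank_mono h1
      rw [e0, finrank_bot] at h5
      rw [LinearMap.finrank_range_of_inj (ptR_injective (T := T) hr), Module.finrank_fin_fun] at h6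
      omega
    obtain ⟨x, ⟨⟨p, hp, hpx⟩, ⟨p', hp', hp'x⟩⟩, hx0⟩ := Submodule.exists_mem_ne_zero_of_ne_bot hne
    have e0 : pt T u p = pt T u' p' := act_injective g (hpx.trans hp'x.symm)
    have hp'0 : p' ≠ 0 := fun h => hx0 (by rw [← hp'x, h, map_zero])
    exact hind (mem_span_of_pt_eq' T e0.symm hp'0)
  suffices H : ∃ v, v ≠ 0 ∧ f₂ v v = 0 ∧ ∀ u, v ∈ goodR₄ C hg u by
    obtain ⟨v, hv0, hv, hall⟩ := H
    obtain ⟨u₀, hu₀⟩ : ∃ u : Fin n₁ → F, u ≠ 0 := ⟨Pi.single ⟨0, by omega⟩ 1, by simp⟩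
    obtain ⟨a₀, b₀, e₀⟩ := hall u₀
    obtain ⟨ha₀, hb₀⟩ := ne_zero_of_image₄ hu₀ hv0 e₀
    refine ⟨v, b₀, hv0, hv, fun u => ?_⟩
    by_cases hdep : u ∈ F ∙ u₀
    · obtain ⟨s, rfl⟩ := Submodule.mem_span_singleton.1 hdep
      exact ⟨s • a₀, by rw [pt_smul_left, map_smul, e₀, pt_smul_left]⟩
    obtain ⟨a, b, e⟩ := hall u
    obtain ⟨a'', b'', e''⟩ := hall (u₀ + u)
    rw [pt_add_left, map_add, e₀, e] at e''
    obtain ⟨s, rfl⟩ := Submodule.mem_span_singleton.1
      (share T e'' hb₀ ha₀ (hfirst hu₀ hdep hv0 hv0 e₀ e))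
    exact ⟨s • a, by rw [e, pt_smul_comm]⟩
  by_contra hnone
  push Not at hnone
  -- no two of the spaces of a basis meet too much
  have small : ∀ u u' u'' : Fin n₁ → F, u ≠ 0 → u' ∉ F ∙ u → u'' ∉ F ∙ u ⊔ F ∙ u' →
      finrank F ↥(goodR₄ C hg u ⊓ goodR₄ C hg u' ⊓ goodR₄ C hg u'') ≤ 1 := by
    intro u u' u'' hu hu' hu''
    by_contra hd
    obtain ⟨v, hv, hv0, hvv⟩ :=
      exists_iso_mem C (S := goodR₄ C hg u ⊓ goodR₄ C hg u' ⊓ goodR₄ C hg u'') (by omega)
    obtain ⟨x, hx⟩ := hnone v hv0 hvv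
    apply hx
    let L : Submodule F (Fin n₁ → F) :=
      { carrier := {x | IsPt T (act g (pt T x v))}
        zero_mem' := ⟨0, 0, by simp [pt_zero_left]⟩
        add_mem' := fun {x x'} h h' => by
          obtain ⟨a, b, e⟩ := h
          obtain ⟨a', b', e'⟩ := h'
          obtain ⟨w, hw0, hw, h1, h2⟩ := exists_iso_two C hg.1 b b'
          refine hg.2 _ v w hw0 hw ?_
          rw [pt_add_left, map_add, e, e', map_add, proj_pt, proj_pt, h1, h2, zero_smul, zero_smul, add_zero]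
        smul_mem' := fun k x h => by
          show IsPt T (act g (pt T (k • x) v))
          rw [pt_smul_left, map_smul]; exact isPt_smul h k }
    have htop : F ∙ u ⊔ F ∙ u' ⊔ F ∙ u'' = ⊤ := Submodule.eq_top_of_finrank_eq (by
      rw [Submodule.finrank_sup_span_singleton hu'', Submodule.finrank_sup_span_singleton hu',
        finrank_span_singleton hu, Module.finrank_fin_fun, h3])
    have hle : F ∙ u ⊔ F ∙ u' ⊔ F ∙ u'' ≤ L := sup_le (sup_le
      ((Submodule.span_singleton_le_iff_mem _ _).2 hv.1.1) ((Submodule.span_singleton_le_iff_mem _ _).2 hv.1.2))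
      ((Submodule.span_singleton_le_iff_mem _ _).2 hv.2)
    exact (htop ▸ hle) (Submodule.mem_top : x ∈ ⊤)
  have third : ∀ u u' : Fin n₁ → F, u ≠ 0 → u' ∉ F ∙ u → ∃ u'', u'' ∉ F ∙ u ⊔ F ∙ u' := by
    intro u u' hu hu'
    by_contra h; push Not at h
    have := Submodule.finrank_mono (show ⊤ ≤ F ∙ u ⊔ F ∙ u' from fun x _ => h x)
    rw [finrank_top, Module.finrank_fin_fun, Submodule.finrank_sup_span_singleton hu',
      finrank_span_singleton hu] at this
    omega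
  have hpair : ∀ u u', u ≠ 0 → u' ∉ F ∙ u → finrank F ↥(goodR₄ C hg u ⊓ goodR₄ C hg u') ≤ 2 := by
    intro u u' hu hu'
    obtain ⟨u'', hu''⟩ := third u u' hu hu'
    have hu''0 : u'' ≠ 0 := fun h => hu'' (h ▸ Submodule.zero_mem _)
    have h1 := small u u' u'' hu hu' hu''
    have h2 := Submodule.finrank_sup_add_finrank_inf_eq (goodR₄ C hg u ⊓ goodR₄ C hg u') (goodR₄ C hg u'')
    have h5 := Submodule.finrank_le (goodR₄ C hg u ⊓ goodR₄ C hg u' ⊔ goodR₄ C hg u'')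
    rw [Module.finrank_fin_fun] at h5
    have := hR3 u'' hu''0
    omega
  have hReq : ∀ u, u ≠ 0 → goodR₄ C hg u = uperp C.h₂ (F ∙ ll u) := by
    intro u hu
    obtain ⟨u', hu'⟩ : ∃ u', u' ∉ F ∙ u := by
      by_contra h; push Not at h
      have := Submodule.finrank_mono (show ⊤ ≤ F ∙ u from fun x _ => h x)
      rw [finrank_top, Module.finrank_fin_fun, finrank_span_singleton hu] at this
      omega
    have hu'0 : u' ≠ 0 := fun h => hu' (h ▸ Submodule.zero_mem _)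
    refine (Submodule.eq_of_le_of_finrank_le (hLR u hu) ?_).symm
    by_contra hlt
    rw [hfin (hll0 u hu)] at hlt
    have h5 := Submodule.finrank_le (goodR₄ C hg u)
    rw [Module.finrank_fin_fun] at h5
    have htop : goodR₄ C hg u = ⊤ := Submodule.eq_top_of_finrank_eq (by rw [Module.finrank_fin_fun]; omega)
    have := hpair u u' hu hu'
    rw [htop, top_inf_eq] at this
    have := hR3 u' hu'0
    omega
  -- the isotropic normals of two independent vectors are orthogonal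
  have horth : ∀ u₁ u₂, u₁ ≠ 0 → u₂ ∉ F ∙ u₁ → f₂ (ll u₁) (ll u₂) = 0 := by
    intro u₁ u₂ hu₁ hu₂
    by_contra hne
    have hu₂0 : u₂ ≠ 0 := fun h => hu₂ (h ▸ Submodule.zero_mem _)
    have hw0 : ∀ t : F, u₁ + t • u₂ ≠ 0 := fun t h => by
      rcases eq_or_ne t 0 with rfl | ht
      · exact hu₁ (by simpa using h)
      · refine hu₂ (Submodule.mem_span_singleton.2 ⟨-t⁻¹, ?_⟩)
        rw [eq_neg_of_add_eq_zero_left h, smul_neg, neg_smul, neg_neg, inv_smul_smul₀ ht]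
    have hI : uperp C.h₂ (F ∙ ll u₁ ⊔ F ∙ ll u₂) ≤ goodR₄ C hg u₁ ⊓ goodR₄ C hg u₂ := by
      rw [hReq u₁ hu₁, hReq u₂ hu₂0]
      exact fun x hx => ⟨fun p hp => hx p (Submodule.mem_sup_left hp), fun p hp => hx p (Submodule.mem_sup_right hp)⟩
    have hsame : ∀ u u', u ≠ 0 → u' ≠ 0 → u' ∉ F ∙ u → ll u' ∉ F ∙ ll u := by
      intro u u' hu hu' hind h
      have heq : goodR₄ C hg u' = goodR₄ C hg u := by
        rw [hReq u hu, hReq u' hu']
        refine (Submodule.eq_of_le_of_finrank_le (fun x hx => (mem_perp_point C).2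
          (((Unit.mem_uperp C.h₂).1 hx) _ h)) (by rw [hfin (hll0 u hu), hfin (hll0 u' hu')])).symm
      have := hpair u u' hu hind
      rw [heq, inf_idem] at this
      have := hR3 u hu
      omega
    have hx : ∀ t : F, ∃ x : F, ∃ r : F, r ≠ 0 ∧ ll (u₁ + t • u₂) = r • (ll u₁ + x • ll u₂) := by
      intro t
      have hmem : ll (u₁ + t • u₂) ∈ F ∙ ll u₁ ⊔ F ∙ ll u₂ := by
        rw [← Unit.uperp_uperp C.h₂ (F ∙ ll u₁ ⊔ F ∙ ll u₂)]
        intro p hp
        refine Unit.eq_zero_symm C.h₂ ((mem_perp_point C).1 ?_)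
        rw [← hReq _ (hw0 t)]
        obtain ⟨h1, h2⟩ := hI hp
        obtain ⟨a, b, e⟩ := h1
        obtain ⟨a', b', e'⟩ := h2
        obtain ⟨w, hw0', hw, k1, k2⟩ := exists_iso_two C hg.1 b b'
        refine hg.2 _ p w hw0' hw ?_
        rw [pt_add_left, pt_smul_left, map_add, map_smul, e, e', map_add, map_smul, proj_pt, proj_pt, k1, k2,
          zero_smul, zero_smul, smul_zero, add_zero]
      obtain ⟨_, hy, _, hz, e⟩ := Submodule.mem_sup.1 hmem
      obtain ⟨r, rfl⟩ := Submodule.mem_span_singleton.1 hy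
      obtain ⟨s, rfl⟩ := Submodule.mem_span_singleton.1 hz
      have hind : u₁ + t • u₂ ∉ F ∙ u₂ := fun h => hu₂ (by
        rw [Submodule.add_mem_iff_left _ (Submodule.smul_mem _ _ (Submodule.mem_span_singleton_self _))] at h
        obtain ⟨k, hk⟩ := Submodule.mem_span_singleton.1 h
        have hk0 : k ≠ 0 := by rintro rfl; exact hu₁ (by rw [← hk, zero_smul])
        exact Submodule.mem_span_singleton.2 ⟨k⁻¹, by rw [← hk, inv_smul_smul₀ hk0]⟩)
      have hr : r ≠ 0 := fun h => by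
        refine hsame u₂ (u₁ + t • u₂) hu₂0 (hw0 t) hind ?_
        rw [← e, h, zero_smul, zero_add]
        exact Submodule.smul_mem _ _ (Submodule.mem_span_singleton_self _)
      exact ⟨s / r, r, hr, by rw [← e, smul_add, smul_smul, mul_div_cancel₀ _ hr]⟩
    choose X R hR0' hX using hx
    have hinj : Function.Injective X := by
      intro t t' h
      by_contra htt
      have hind : u₁ + t' • u₂ ∉ F ∙ (u₁ + t • u₂) := by
        intro hm
        obtain ⟨k, hk⟩ := Submodule.mem_span_singleton.1 hm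
        have e : (k - 1) • u₁ = (t' - k * t) • u₂ := by linear_combination (norm := module) hk
        rcases eq_or_ne (t' - k * t) 0 with h0 | h0
        · rw [h0, zero_smul, smul_eq_zero, or_iff_left hu₁, sub_eq_zero] at e
          subst e
          exact htt (by linear_combination -h0)
        · exact hu₂ (Submodule.mem_span_singleton.2 ⟨(t' - k * t)⁻¹ * (k - 1), by
            rw [mul_smul, e, inv_smul_smul₀ h0]⟩)
      refine hsame _ _ (hw0 t) (hw0 t') hind (Submodule.mem_span_singleton.2 ⟨R t' / R t, ?_⟩)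
      rw [hX t, hX t', h, smul_smul, div_mul_cancel₀ _ (hR0' t)]
    obtain ⟨e, he⟩ := Unit.exists_trace_one C.hU.involutive C.hU.ne_refl
    obtain ⟨t, ht⟩ := (Finite.injective_iff_surjective.1 hinj) (σ (e / f₂ (ll u₁) (ll u₂)))
    have h0 : f₂ (ll (u₁ + t • u₂)) (ll (u₁ + t • u₂)) = 0 := hll _ (hw0 t)
    rw [hX t, ht, Unit.smul_left C.h₂, Unit.smul_right C.h₂, mul_eq_zero, or_iff_right (hR0' t), mul_eq_zero,
      or_iff_right ((map_ne_zero σ).2 (hR0' t))] at h0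
    have h21 : f₂ (ll u₂) (ll u₁) = σ (f₂ (ll u₁) (ll u₂)) := (Unit.herm' C.h₂ _ _).symm
    simp only [Unit.add_left C.h₂, Unit.add_right C.h₂, Unit.smul_left C.h₂, Unit.smul_right C.h₂,
      hll u₁ hu₁, hll u₂ hu₂0, C.hU.involutive, h21, ← map_mul] at h0
    rw [div_mul_cancel₀ _ hne] at h0
    apply one_ne_zero (α := F)
    linear_combination h0 - he
  obtain ⟨u₁, hu₁⟩ : ∃ u : Fin n₁ → F, u ≠ 0 := ⟨Pi.single ⟨0, by omega⟩ 1, by simp⟩
  obtain ⟨u₂, hu₂⟩ : ∃ u', u' ∉ F ∙ u₁ := by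
    by_contra h; push Not at h
    have := Submodule.finrank_mono (show ⊤ ≤ F ∙ u₁ from fun x _ => h x)
    rw [finrank_top, Module.finrank_fin_fun, finrank_span_singleton hu₁] at this
    omega
  obtain ⟨u₃, hu₃⟩ := third u₁ u₂ hu₁ hu₂
  have hu₂0 : u₂ ≠ 0 := fun h => hu₂ (h ▸ Submodule.zero_mem _)
  have hu₃0 : u₃ ≠ 0 := fun h => hu₃ (h ▸ Submodule.zero_mem _)
  have e12 := horth u₁ u₂ hu₁ hu₂
  have e13 := horth u₁ u₃ hu₁ fun h => hu₃ (Submodule.mem_sup_left h)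
  have e23 := horth u₂ u₃ hu₂0 fun h => hu₃ (Submodule.mem_sup_right h)
  set S := F ∙ ll u₁ ⊔ F ∙ ll u₂ with hS
  have hSS : S ≤ uperp C.h₂ S := by
    rw [hS]
    refine sup_le ?_ ?_ <;> rw [Submodule.span_singleton_le_iff_mem] <;> intro p hp <;>
      obtain ⟨_, hy, _, hz, rfl⟩ := Submodule.mem_sup.1 hp <;>
      obtain ⟨r, rfl⟩ := Submodule.mem_span_singleton.1 hy <;>
      obtain ⟨s, rfl⟩ := Submodule.mem_span_singleton.1 hz
    · rw [Unit.add_right C.h₂, Unit.smul_right C.h₂, Unit.smul_right C.h₂, hll u₁ hu₁, e12]; ring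
    · rw [Unit.add_right C.h₂, Unit.smul_right C.h₂, Unit.smul_right C.h₂, hll u₂ hu₂0,
        Unit.eq_zero_symm C.h₂ e12]
      ring
  have hI : uperp C.h₂ S ≤ goodR₄ C hg u₁ ⊓ goodR₄ C hg u₂ := by
    rw [hReq u₁ hu₁, hReq u₂ hu₂0]
    exact fun x hx => ⟨fun p hp => hx p (Submodule.mem_sup_left hp), fun p hp => hx p (Submodule.mem_sup_right hp)⟩
  have d1 := finrank_perp₂ C S
  have d2 := Submodule.finrank_mono hI
  have d3 := hpair u₁ u₂ hu₁ hu₂
  have d4 := Submodule.finrank_mono hSS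
  have hSd : finrank F S = 2 := by omega
  have hSe : S = uperp C.h₂ S := Submodule.eq_of_le_of_finrank_le hSS (by omega)
  have hl₃ : ll u₃ ∈ uperp C.h₂ S := by
    intro p hp
    obtain ⟨_, hy, _, hz, rfl⟩ := Submodule.mem_sup.1 hp
    obtain ⟨r, rfl⟩ := Submodule.mem_span_singleton.1 hy
    obtain ⟨s, rfl⟩ := Submodule.mem_span_singleton.1 hz
    rw [Unit.add_right C.h₂, Unit.smul_right C.h₂, Unit.smul_right C.h₂, Unit.eq_zero_symm C.h₂ e13,
      Unit.eq_zero_symm C.h₂ e23]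
    ring
  rw [← hSe] at hl₃
  have hsub : uperp C.h₂ S ≤ goodR₄ C hg u₁ ⊓ goodR₄ C hg u₂ ⊓ goodR₄ C hg u₃ := le_inf hI (by
    rw [hReq u₃ hu₃0]
    exact fun x hx => (mem_perp_point C).2 (hx _ hl₃))
  have := small u₁ u₂ u₃ hu₁ hu₂ hu₃
  have := Submodule.finrank_mono hsub
  omega

/-- if the centralisers of root elements in `M` consist of tensor products, so does `M` (dimensions `3`, `4`) -/
theorem le_tensor_of_centralizer_four (h3 : n₁ = 3) (h4 : n₂ = 4)
    (hC : ∀ w : Fin n₂ → F, w ≠ 0 → f₂ w w = 0 → ∀ d : F, d + σ d = 0 → d ≠ 0 → ∀ g ∈ M,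
      g * root T C.h₂ w d = root T C.h₂ w d * g → g ∈ Cfsg.Geo.tensorProductSubgroup n₁ n₂ T.e T.P) :
    M ≤ Cfsg.Geo.tensorProductSubgroup n₁ n₂ T.e T.P := by
  obtain ⟨p, hpC⟩ := CharP.exists F
  haveI := hpC
  haveI : Fact p.Prime := ⟨CharP.char_is_prime F p⟩
  obtain ⟨θ, hθ0, hθ⟩ := Unit.exists_skew C.hU.ne_refl C.hU.involutive
  set H := M ⊓ Cfsg.Geo.tensorProductSubgroup n₁ n₂ T.e T.P with hH
  let X : Set (GL ι F) :=
    {r | ∃ w d, w ≠ 0 ∧ f₂ w w = 0 ∧ d + σ d = 0 ∧ d ≠ 0 ∧ r = root T C.h₂ w d}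
  have hXH : X ⊆ (H : Set (GL ι F)) := by
    rintro _ ⟨w, d, -, hw, hd, -, rfl⟩
    exact ⟨root_mem C hw hd, gl_mem T _ _⟩
  have hXp : ∀ r ∈ X, ∃ k, r ^ p ^ k = 1 := by
    rintro _ ⟨w, d, -, hw, -, -, rfl⟩
    refine ⟨1, ?_⟩
    rw [pow_one, root_pow C.h₂ hw, CharP.cast_eq_zero, zero_mul, root, Unit.utv_zero, gl_one]
  have rig : ∀ g ∈ M, ∀ r ∈ X, g * r * g⁻¹ ∈ H → g ∈ H := by
    rintro g hg _ ⟨w, d, hw0, hw, hd, hd0, rfl⟩ hgr
    obtain ⟨a, b, hab⟩ := exists_of_mem T hgr.2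
    obtain ⟨w', d', hw'0, hw', hd', hd'0, e⟩ := root_of_conj C hg hw hw0 hd hd0 hab
    have hfix : σ (d' / d) = d' / d := by
      rw [map_div₀, eq_neg_of_add_eq_zero_right hd, eq_neg_of_add_eq_zero_right hd', neg_div_neg_eq]
    obtain ⟨l, hl⟩ := Unit.exists_norm C.hU.involutive C.hU.ne_refl _ hfix
    have hl0 : l ≠ 0 := by
      rintro rfl; rw [zero_mul, eq_comm, div_eq_zero_iff] at hl; tauto
    obtain ⟨b', hb', hbw⟩ := Unit.exists_move_exact_three C.h₂ (by simpa using C.three) hw0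
      (smul_ne_zero hl0 hw'0) hw (by rw [Unit.smul_left C.h₂, Unit.smul_right C.h₂, hw', mul_zero, mul_zero])
    set h := gl T 1 b' with hh
    have hhM : h ∈ M := gl_right_mem C hb'
    have hconj : h * root T C.h₂ w d * h⁻¹ = g * root T C.h₂ w d * g⁻¹ := by
      rw [hh, root_conj C (Unit.utvGroup_le_uiso C.h₂ hb') hw, hbw, hab, e, root, root,
        Unit.utv_smul C.h₂ hw', hl, div_mul_cancel₀ _ hd0]
    have hcomm : h⁻¹ * g * root T C.h₂ w d = root T C.h₂ w d * (h⁻¹ * g) := by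
      have : h⁻¹ * (g * root T C.h₂ w d * g⁻¹) * g = h⁻¹ * (h * root T C.h₂ w d * h⁻¹) * g := by rw [hconj]
      simpa [mul_assoc] using this
    have := hC w hw0 hw d hd hd0 _ (M.mul_mem (M.inv_mem hhM) hg) hcomm
    refine ⟨hg, ?_⟩
    rw [show g = h * (h⁻¹ * g) by group]
    exact mul_mem (gl_mem T _ _) this
  have hrig : ∀ g ∈ M, Rig₄ C g := by
    intro g hg
    refine ⟨h4.ge, fun u v w hw0 hw hk => ?_⟩
    obtain ⟨w', hw'0, hw', hvw', -⟩ := exists_iso_two C h4.ge v 0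
    obtain ⟨h, hh, he⟩ := exists_mem_orbit_of_rigid (p := p) (inf_le_left : H ≤ M) X hXH hXp rig
      (stabVec (pt T u v)) hg ⟨w', θ, hw'0, hw', hθ, hθ0, rfl⟩ ⟨w, θ, hw0, hw, hθ, hθ0, rfl⟩
      ((root_fix_iff C hw' hw'0 hθ0).2 (by rw [proj_pt, hvw', zero_smul]))
      (show act _ (pt T u v) = pt T u v by
        rw [act_mul, act_mul, (root_fix_iff C hw hw0 hθ0).2 hk, act_inv_act])
    obtain ⟨a, b, hab⟩ := exists_of_mem T hh.2
    have e : act g (pt T u v) = act h (pt T u v) := by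
      have e1 : act (h⁻¹ * g) (pt T u v) = pt T u v := he
      rw [act_mul] at e1
      conv_rhs => rw [← e1, act_act_inv]
    exact ⟨_, _, by rw [e, hab, act_gl_pt]⟩
  intro g hg
  obtain ⟨v, b, hv0, hv, hlayer⟩ := exists_layer C h3 h4 (hrig g hg) (hrig g⁻¹ (M.inv_mem hg))
  obtain ⟨u₀, hu₀⟩ : ∃ u : Fin n₁ → F, u ≠ 0 := ⟨Pi.single ⟨0, by omega⟩ 1, by simp⟩
  have hb0 : b ≠ 0 := by
    obtain ⟨a, e⟩ := hlayer u₀
    exact (ne_zero_of_image₄ hu₀ hv0 e).2
  have hb : f₂ b b = 0 := by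
    obtain ⟨u, u', huu'⟩ := exists_ne_two C.h₁ (n₁_pos C)
    obtain ⟨u₁, hu₁⟩ := (C.h₁.nondegenerate u₀ hu₀).2
    by_contra hbb
    obtain ⟨a₀, e₀⟩ := hlayer u₀
    have ha₀ := (ne_zero_of_image₄ hu₀ hv0 e₀).1
    -- the second factor of the image is isotropic
    have hsurj : ∀ a, ∃ u, act g (pt T u v) = pt T a b := by
      choose A hA using hlayer
      have hAl : ∀ x y, A (x + y) = A x + A y := fun x y => by
        have : pt T (A (x + y) - (A x + A y)) b = 0 := by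
          rw [pt_sub_left, pt_add_left, ← hA, ← hA, ← hA, pt_add_left, map_add, sub_self]
        exact sub_eq_zero.1 (((pt_eq_zero T).1 this).resolve_right hb0)
      have hinjA : Function.Injective A := fun x y h => by
        have : pt T x v = pt T y v := act_injective g (by rw [hA, hA, h])
        have h' : pt T (x - y) v = 0 := by rw [pt_sub_left, this, sub_self]
        exact sub_eq_zero.1 (((pt_eq_zero T).1 h').resolve_right hv0)
      intro a
      obtain ⟨x, hx⟩ := (Finite.injective_iff_surjective.1 hinjA) a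
      exact ⟨x, hx ▸ hA x⟩
    obtain ⟨x, hx⟩ := hsurj u
    obtain ⟨x', hx'⟩ := hsurj u'
    have e := Unit.mem_uiso.1 (C.le hg).1 (pt T x v) (pt T x' v)
    rw [hx, hx', C.form, C.form, hv, mul_zero, mul_zero] at e
    exact mul_ne_zero C.c_ne (mul_ne_zero huu' hbb) e
  let K : Subgroup (GL ι F) := ⨅ u, stabVec (pt T u v)
  obtain ⟨h, hh, he⟩ := exists_mem_orbit_of_rigid (p := p) (inf_le_left : H ≤ M) X hXH hXp rig
    K hg ⟨v, θ, hv0, hv, hθ, hθ0, rfl⟩ ⟨b, θ, hb0, hb, hθ, hθ0, rfl⟩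
    (Subgroup.mem_iInf.2 fun u => (root_fix_iff C hv hv0 hθ0).2 (by rw [proj_pt, hv, zero_smul]))
    (Subgroup.mem_iInf.2 fun u => by
      obtain ⟨a, e⟩ := hlayer u
      show act _ (pt T u v) = pt T u v
      rw [act_mul, act_mul, (root_fix_iff C hb hb0 hθ0).2 (by rw [e, proj_pt, hb, zero_smul]), act_inv_act])
  have hfix : ∀ u, act (h⁻¹ * g) (pt T u v) = pt T u v := fun u => Subgroup.mem_iInf.1 he u
  have hm : h⁻¹ * g ∈ M := M.mul_mem (M.inv_mem hh.1) hg
  have hproj : ∀ x, proj T C.h₂ v (act (h⁻¹ * g) x) = proj T C.h₂ v x := by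
    intro x
    by_contra hne
    obtain ⟨u, hu⟩ := (C.h₁.nondegenerate _ (sub_ne_zero.2 hne)).2
    apply hu
    have e : f (act (h⁻¹ * g) x) (pt T u v) = f x (pt T u v) := by
      conv_lhs => rw [← hfix u, Unit.mem_uiso.1 (C.le hm).1]
    rw [form_right C, form_right C] at e
    rw [Unit.sub_left C.h₁, mul_left_cancel₀ C.c_ne e, sub_self]
  have hcomm : h⁻¹ * g * root T C.h₂ v θ = root T C.h₂ v θ * (h⁻¹ * g) := by
    apply gl_ext; intro x
    rw [act_mul, act_mul _ (h⁻¹ * g), act_root C.h₂ hv, act_root C.h₂ hv, map_add, map_smul, hfix, hproj]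
  have := hC v hv0 hv θ hθ hθ0 _ hm hcomm
  rw [show g = h * (h⁻¹ * g) by group]
  exact mul_mem hh.2 this

end Cfsg.Agent.MaxCl.Tens
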