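/-
The centraliser of a root element `1 ⊗ t` in an overgroup of a unitary tensor stabiliser consists of tensor products
as soon as all elements fixing `F^(n₁) ⊗ w^⊥` pointwise are scalar on the top layer.
-/
import Mathlib
import Cfsg.Agent.Lib.MaxCl.UnitaryTensorRoots
import Cfsg.Agent.Lib.MaxCl.UnitaryTensorFour

set_option autoImplicit false

namespace Cfsg.Agent.MaxCl.Tens

open scoped MatrixGroups Matrix
open Module (finrank)
open Unit (uiso flinU utv utvGroup uperp sieg)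

variable {ι : Type} [Fintype ι] [DecidableEq ι] {F : Type*} [Field F] {n₁ n₂ : ℕ}
variable {T : TSys ι F n₁ n₂} {σ : F ≃+* F} {f : (ι → F) → (ι → F) → F}
variable {f₁ : (Fin n₁ → F) → (Fin n₁ → F) → F} {f₂ : (Fin n₂ → F) → (Fin n₂ → F) → F} {c : F}
variable {M : Subgroup (GL ι F)}

/-- `z` adds `f₂(v, w) S u ⊗ w` to `u ⊗ v` -/
def IsTop (T : TSys ι F n₁ n₂) (f₂ : (Fin n₂ → F) → (Fin n₂ → F) → F) (w : Fin n₂ → F) (z : GL ι F)
    (S : (Fin n₁ → F) →ₗ[F] (Fin n₁ → F)) : Prop :=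
  ∀ u v, act z (pt T u v) = pt T u v + f₂ v w • pt T (S u) w

/-- all top elements of `M` are scalar -/
def TopScalar (T : TSys ι F n₁ n₂) (f₂ : (Fin n₂ → F) → (Fin n₂ → F) → F) (M : Subgroup (GL ι F)) : Prop :=
  ∀ w, w ≠ 0 → f₂ w w = 0 → ∀ z ∈ M, ∀ S, IsTop T f₂ w z S → ∃ s : F, ∀ u, S u = s • u

theorem det_one_of_unipotent [Finite F] {g : GL ι F}
    (h : ∀ x, act g (act g (act g x)) - (3 : F) • act g (act g x) + (3 : F) • act g x - x = 0) :
    (g : Matrix ι ι F).det = 1 := by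
  obtain ⟨p, hpC⟩ := CharP.exists F
  haveI := hpC
  haveI hp : Fact p.Prime := ⟨CharP.char_is_prime F p⟩
  rcases isEmpty_or_nonempty ι with hι | hι
  · exact Matrix.det_isEmpty
  haveI : CharP (Matrix ι ι F) p := Matrix.charP p
  set N : Matrix ι ι F := (g : Matrix ι ι F) - 1 with hN
  have h3 : N ^ 3 = 0 := by
    refine Matrix.toLin'.injective (LinearMap.ext fun x => ?_)
    rw [map_zero, LinearMap.zero_apply, Matrix.toLin'_apply, pow_succ, pow_two, ← Matrix.mulVec_mulVec,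
      ← Matrix.mulVec_mulVec, hN]
    simp only [Matrix.sub_mulVec, Matrix.one_mulVec, Matrix.mulVec_sub, ← act_apply, map_sub]
    rw [← h x]; module
  have hg : (g : Matrix ι ι F) = 1 + N := by rw [hN]; abel
  have hpow : (g : Matrix ι ι F) ^ p ^ 3 = 1 := by
    rw [hg, add_pow_char_pow_of_commute p 3 (Commute.one_left N), one_pow,
      pow_eq_zero_of_le (le_trans (Nat.lt_pow_self (n := 3) hp.out.one_lt).le le_rfl) h3, add_zero]
  have hd : (g : Matrix ι ι F).det ^ p ^ 3 = 1 := by rw [← Matrix.det_pow, hpow, Matrix.det_one]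
  have : ((g : Matrix ι ι F).det - 1) ^ p ^ 3 = 0 := by
    rw [sub_pow_char_pow, hd, one_pow, sub_self]
  exact sub_eq_zero.1 (eq_zero_of_pow_eq_zero this)

variable (C : UCtx T σ f f₁ f₂ c M)
include C

theorem exists_partner_top [Fintype F] {w : Fin n₂ → F} (hw0 : w ≠ 0) (hw : f₂ w w = 0) :
    ∃ w', f₂ w' w' = 0 ∧ f₂ w' w = 1 ∧ f₂ w w' = 1 := by
  obtain ⟨φ, -, hφ⟩ := exists_dual (⊥ : Submodule F (Fin n₂ → F)) (v := w) (by simpa using hw0)
  obtain ⟨z, hz⟩ := Unit.exists_repr C.h₂ φ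
  have hzw : f₂ z w = 1 := by rw [← Unit.herm' C.h₂, ← hz, hφ, map_one]
  obtain ⟨a, ha⟩ := Unit.exists_isotropic_shift C.h₂ hw hzw
  have : f₂ (z + a • w) w = 1 := by rw [Unit.add_left C.h₂, Unit.smul_left C.h₂, hzw, hw, mul_zero, add_zero]
  exact ⟨_, ha, this, by rw [← Unit.herm' C.h₂, this, map_one]⟩

theorem eq_of_form {x y : ι → F} (h : ∀ u v, f x (pt T u v) = f y (pt T u v)) : x = y := by
  by_contra hne
  obtain ⟨z, hz⟩ := (C.hU.nondegenerate (x - y) (sub_ne_zero.2 hne)).1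
  apply hz
  have : flinU C.hU (x - y) = 0 := pt_ext T fun u v => by
    show f (pt T u v) (x - y) = 0
    rw [Unit.eq_zero_symm C.hU]
    rw [Unit.sub_left C.hU, h, sub_self]
  exact LinearMap.congr_fun this z

/-- elements fixing `F^(n₁) ⊗ w^⊥` pointwise are top elements -/
theorem exists_isTop [Fintype F] {w : Fin n₂ → F} (hw0 : w ≠ 0) (hw : f₂ w w = 0) {z : GL ι F}
    (hz : z ∈ uiso f) (hfix : ∀ u v, f₂ v w = 0 → act z (pt T u v) = pt T u v) :
    ∃ S, IsTop T f₂ w z S := by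
  obtain ⟨w', hw', hw'w, hww'⟩ := exists_partner_top C hw0 hw
  let E : (Fin n₁ → F) →ₗ[F] (ι → F) := (act z - LinearMap.id) ∘ₗ ptL T w'
  refine ⟨proj T C.h₂ w' ∘ₗ E, fun u v => ?_⟩
  have hEu : E u = pt T (proj T C.h₂ w' (E u)) w := by
    refine eq_of_form C fun a b => ?_
    rw [form_right C, form_right C, proj_pt]
    have perp : ∀ a b, f₂ b w = 0 → f (E u) (pt T a b) = 0 := fun a b hb => by
      show f (act z (pt T u w') - pt T u w') (pt T a b) = 0
      rw [Unit.sub_left C.hU]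
      conv_lhs => arg 1; rw [← hfix a b hb, Unit.mem_uiso.1 hz]
      exact sub_self _
    have e1 := perp a (b - f₂ b w • w') (by
      rw [Unit.sub_left C.h₂, Unit.smul_left C.h₂, hw'w, mul_one, sub_self])
    rw [pt_sub_right, Unit.sub_right C.hU, pt_smul_right, Unit.smul_right C.hU, form_right C, form_right C,
      Unit.herm' C.h₂, sub_eq_zero] at e1
    rw [e1, Unit.smul_left C.h₁]; ring
  have hv : pt T u v = pt T u (v - f₂ v w • w') + f₂ v w • pt T u w' := by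
    rw [pt_sub_right, pt_smul_right]; abel
  rw [hv, map_add, map_smul, hfix u _ (by
    rw [Unit.sub_left C.h₂, Unit.smul_left C.h₂, hw'w, mul_one, sub_self])]
  show _ = _ + _ • pt T (proj T C.h₂ w' (E u)) w
  rw [← hEu]
  show _ = _ + f₂ v w • (act z (pt T u w') - pt T u w')
  rw [smul_sub]; abel

theorem isTop_apply {w : Fin n₂ → F} {z : GL ι F} {S : (Fin n₁ → F) →ₗ[F] (Fin n₁ → F)}
    (h : IsTop T f₂ w z S) (x : ι → F) : act z x = x + pt T (S (proj T C.h₂ w x)) w := by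
  have : act z = LinearMap.id + ptL T w ∘ₗ S ∘ₗ proj T C.h₂ w := pt_ext T fun u v => by
    rw [h u v]
    show _ = pt T u v + pt T (S (proj T C.h₂ w (pt T u v))) w
    rw [proj_pt, map_smul, pt_smul_left]
  rw [this]; rfl

theorem act_glSieg {w φ : Fin n₂ → F} (hw : f₂ w w = 0) (hφ : f₂ φ φ = 0) (hwφ : f₂ w φ = 0) (s : F)
    (x : ι → F) : act (gl T 1 (sieg C.h₂ w φ s)) x =
      x + s • pt T (proj T C.h₂ φ x) w - σ s • pt T (proj T C.h₂ w x) φ := by
  have : act (gl T 1 (sieg C.h₂ w φ s)) =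
      LinearMap.id + s • (ptL T w ∘ₗ proj T C.h₂ φ) - σ s • (ptL T φ ∘ₗ proj T C.h₂ w) :=
    pt_ext T fun u v => by
      show _ = pt T u v + s • pt T (proj T C.h₂ φ (pt T u v)) w - σ s • pt T (proj T C.h₂ w (pt T u v)) φ
      rw [act_gl_pt, act_one, Unit.act_sieg C.h₂ hw hφ hwφ, proj_pt, proj_pt, pt_sub_right, pt_add_right,
        pt_smul_right, pt_smul_right, pt_smul_left, pt_smul_left, smul_smul, smul_smul]
  rw [this]; rfl

theorem glSieg_mem {w φ : Fin n₂ → F} (hw : f₂ w w = 0) (hφ : f₂ φ φ = 0) (hwφ : f₂ w φ = 0) (s : F) :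
    gl T 1 (sieg C.h₂ w φ s) ∈ M :=
  gl_mem_M_of_sl C (one_mem _) ⟨Unit.sieg_mem C.h₂ hw hφ hwφ s, Unit.det_sieg C.h₂ hwφ s⟩

variable [Fintype F]

theorem exists_glHeis {w φ : Fin n₂ → F} (hw : f₂ w w = 0) (hwφ : f₂ w φ = 0) (s : F) :
    ∃ e : F, ∃ q ∈ M, ∀ x, act q x = x + s • pt T (proj T C.h₂ φ x) w - σ s • pt T (proj T C.h₂ w x) φ +
      e • pt T (proj T C.h₂ w x) w := by
  have hφw := Unit.eq_zero_symm C.h₂ hwφ
  have hN := Unit.herm' C.h₂ φ φ
  obtain ⟨e, he⟩ := Unit.exists_trace C.hU.involutive C.hU.ne_refl (-(s * σ s * f₂ φ φ)) (by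
    rw [map_neg, map_mul, map_mul, C.hU.involutive, hN]; ring)
  let L : (Fin n₂ → F) →ₗ[F] (Fin n₂ → F) :=
    LinearMap.id - (σ s • flinU C.h₂ w).smulRight φ + (s • flinU C.h₂ φ + e • flinU C.h₂ w).smulRight w
  have hL : ∀ v, L v = v - (σ s * f₂ v w) • φ + (s * f₂ v φ + e * f₂ v w) • w := fun v => by
    simp [L, Unit.flinU_apply]
  have hLiso : ∀ x y, f₂ (L x) (L y) = f₂ x y := by
    intro x y
    simp only [hL, Unit.sub_left C.h₂, Unit.sub_right C.h₂, Unit.add_left C.h₂, Unit.add_right C.h₂,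
      Unit.smul_left C.h₂, Unit.smul_right C.h₂, hw, hφw, hwφ, map_add, map_mul, Unit.herm' C.h₂,
      C.hU.involutive]
    linear_combination (f₂ x w * f₂ w y) * he
  have hLinj : Function.Injective L := fun x y hxy => by
    apply Unit.flinU_injective C.h₂
    apply LinearMap.ext; intro z
    show f₂ z x = f₂ z y
    rw [← hLiso z x, ← hLiso z y, hxy]
  obtain ⟨b, hb⟩ := exists_gl_of_injective L hLinj
  have hbU : b ∈ uiso f₂ := Unit.mem_uiso.2 fun x y => by rw [hb, hb, hLiso]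
  have hbdet : (b : Matrix (Fin n₂) (Fin n₂) F).det = 1 := by
    refine det_one_of_unipotent fun x => ?_
    simp only [hb, hL, Unit.sub_left C.h₂, Unit.add_left C.h₂, Unit.smul_left C.h₂, hw, hφw, hwφ]
    module
  refine ⟨e, gl T 1 b, gl_mem_M C (one_mem _) hbU (by rw [hbdet]; simp), fun x => ?_⟩
  have : act (gl T 1 b) = LinearMap.id + s • (ptL T w ∘ₗ proj T C.h₂ φ) - σ s • (ptL T φ ∘ₗ proj T C.h₂ w) +
      e • (ptL T w ∘ₗ proj T C.h₂ w) := pt_ext T fun u v => by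
    show _ = pt T u v + s • pt T (proj T C.h₂ φ (pt T u v)) w - σ s • pt T (proj T C.h₂ w (pt T u v)) φ +
      e • pt T (proj T C.h₂ w (pt T u v)) w
    rw [act_gl_pt, act_one, hb, hL, proj_pt, proj_pt, pt_add_right, pt_sub_right, pt_smul_right, pt_smul_right,
      pt_smul_left, pt_smul_left, pt_smul_left]
    module
  rw [this]; rfl

theorem span_orth {w w' : Fin n₂ → F} (hw : f₂ w w = 0) (hww' : f₂ w w' = 1)
    {W : Submodule F (Fin n₂ → F)} (hWw : w ∈ W)
    (hW : ∀ φ, f₂ φ w = 0 → f₂ φ w' = 0 → φ ∈ W) {v : Fin n₂ → F} (hv : f₂ v w = 0) : v ∈ W := by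
  rw [← sub_add_cancel v (f₂ v w' • w)]
  refine W.add_mem (hW _ ?_ ?_) (W.smul_mem _ hWw)
  · rw [Unit.sub_left C.h₂, Unit.smul_left C.h₂, hv, hw]; ring
  · rw [Unit.sub_left C.h₂, Unit.smul_left C.h₂, hww']; ring

/-- elements of `M` acting trivially on the layers are tensor products -/
theorem radical_tensor (hZ : TopScalar T f₂ M) {w w' : Fin n₂ → F} (hw0 : w ≠ 0) (hw : f₂ w w = 0)
    (hw' : f₂ w' w' = 0) (hw'w : f₂ w' w = 1) (hww' : f₂ w w' = 1) {ρ : GL ι F} (hρ : ρ ∈ M)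
    (hfix : ∀ u, act ρ (pt T u w) = pt T u w)
    (hlay : ∀ u v, f₂ v w = 0 → ∃ a, act ρ (pt T u v) = pt T u v + pt T a w) :
    ρ ∈ Cfsg.Geo.tensorProductSubgroup n₁ n₂ T.e T.P ∧
      ∃ d, f₂ d w = 0 ∧ ∀ u, act ρ (pt T u w') = pt T u (w' + d) := by
  classical
  have hρU := (C.le hρ).1
  have hproj : ∀ y, proj T C.h₂ w (act ρ y) = proj T C.h₂ w y := by
    intro y
    by_contra hne
    obtain ⟨x, hx⟩ := (C.h₁.nondegenerate _ (sub_ne_zero.2 hne)).2
    apply hx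
    have e : f (act ρ y) (pt T x w) = f y (pt T x w) := by
      conv_lhs => rw [← hfix x, Unit.mem_uiso.1 hρU]
    rw [form_right C, form_right C] at e
    rw [Unit.sub_left C.h₁, mul_left_cancel₀ C.c_ne e, sub_self]
  let R : (ι → F) →ₗ[F] (ι → F) := act ρ - LinearMap.id
  have hRK : ∀ x, proj T C.h₂ w x = 0 → R x = pt T (proj T C.h₂ w' (R x)) w := by
    let E : (ι → F) →ₗ[F] (ι → F) := LinearMap.id - ptL T w' ∘ₗ proj T C.h₂ w
    have : R ∘ₗ E = ptL T w ∘ₗ proj T C.h₂ w' ∘ₗ R ∘ₗ E := pt_ext T fun u v => by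
      have hE : E (pt T u v) = pt T u (v - f₂ v w • w') := by
        show pt T u v - pt T (proj T C.h₂ w (pt T u v)) w' = _
        rw [proj_pt, pt_sub_right, pt_smul_left, pt_smul_right]
      obtain ⟨a, ha⟩ := hlay u (v - f₂ v w • w') (by
        rw [Unit.sub_left C.h₂, Unit.smul_left C.h₂, hw'w, mul_one, sub_self])
      show R (E (pt T u v)) = pt T (proj T C.h₂ w' (R (E (pt T u v)))) w
      rw [hE]
      show act ρ _ - _ = pt T (proj T C.h₂ w' (act ρ _ - _)) w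
      simp only [LinearMap.id_apply, ha, add_sub_cancel_left, proj_pt, hww', one_smul]
    intro x hx
    have hEx : E x = x := by
      show x - pt T (proj T C.h₂ w x) w' = x
      rw [hx, pt_zero_left, sub_zero]
    have e := LinearMap.congr_fun this x
    simp only [LinearMap.comp_apply, hEx] at e
    exact e
  let Ψ : (Fin n₂ → F) → (Fin n₁ → F) →ₗ[F] (Fin n₁ → F) := fun φ => proj T C.h₂ w' ∘ₗ R ∘ₗ ptL T φ
  obtain ⟨a₀, ha₀⟩ := Unit.exists_moved C.hU.ne_refl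
  have hscal : ∀ φ, f₂ φ w = 0 → f₂ φ w' = 0 → ∃ l : F, ∀ u, Ψ φ u = l • u := by
    intro φ hφw hφw'
    have hwφ := Unit.eq_zero_symm C.h₂ hφw
    have hw'φ := Unit.eq_zero_symm C.h₂ hφw'
    have key : ∀ s : F, ∃ k : F, ∀ u,
        σ s • Ψ φ u + s • proj T C.h₂ φ (act ρ (pt T u w')) = k • u := by
      intro s
      obtain ⟨eq₀, q, hqM, hact⟩ := exists_glHeis C hw hwφ s
      have hqK : ∀ x, proj T C.h₂ w (act q x) = proj T C.h₂ w x := fun x => by
        rw [hact]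
        simp [proj_pt, hw, hφw]
      have hcom : ∀ x, proj T C.h₂ w x = 0 → act ρ (act q x) = act q (act ρ x) := by
        intro x hx
        have e1 : act ρ x = x + pt T (proj T C.h₂ w' (R x)) w := by
          rw [← hRK x hx]
          show _ = x + (act ρ x - x)
          abel
        rw [hact, hx, pt_zero_left, smul_zero, pt_zero_left, smul_zero, sub_zero, add_zero, map_add, map_smul, hfix, e1,
          map_add (act q), hact, hact, hx]
        simp [proj_pt, hwφ, hw, pt_zero_left]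
        abel
      have hz : ρ * q * ρ⁻¹ * q⁻¹ ∈ M :=
        M.mul_mem (M.mul_mem (M.mul_mem hρ hqM) (M.inv_mem hρ)) (M.inv_mem hqM)
      have hzK : ∀ u v, f₂ v w = 0 → act (ρ * q * ρ⁻¹ * q⁻¹) (pt T u v) = pt T u v := by
        intro u v hv
        have hx : proj T C.h₂ w (act ρ⁻¹ (act q⁻¹ (pt T u v))) = 0 := by
          rw [← hproj, act_act_inv, ← hqK, act_act_inv, proj_pt, hv, zero_smul]
        rw [act_mul, act_mul, act_mul, hcom _ hx, act_act_inv, act_act_inv]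
      obtain ⟨S, hS⟩ := exists_isTop C hw0 hw (C.le hz).1 hzK
      obtain ⟨k, hk⟩ := hZ w hw0 hw _ hz S hS
      refine ⟨-k, fun u => ?_⟩
      have e := isTop_apply C hS (act q (act ρ (pt T u w')))
      rw [hqK, hproj, proj_pt, hw'w, one_smul, hk] at e
      simp only [act_mul, act_inv_act] at e
      rw [hact (pt T u w'), hact (act ρ (pt T u w')), hproj,
        proj_pt, proj_pt, hw'φ, hw'w, one_smul, zero_smul, pt_zero_left, smul_zero, add_zero, map_add, map_sub,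
        map_smul, map_smul, hfix] at e
      have e' := congrArg (proj T C.h₂ w') e
      simp only [map_sub, map_add, map_smul, proj_pt, hww', hφw', one_smul, zero_smul, smul_zero] at e'
      have hΨ : Ψ φ u = proj T C.h₂ w' (act ρ (pt T u φ)) := by
        show proj T C.h₂ w' (act ρ (pt T u φ) - pt T u φ) = _
        rw [map_sub, proj_pt, hφw', zero_smul, sub_zero]
      rw [hΨ]
      linear_combination (norm := module) -e'
    obtain ⟨k₁, h1⟩ := key 1
    obtain ⟨k₂, h2⟩ := key a₀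
    refine ⟨(σ a₀ - a₀)⁻¹ * (k₂ - a₀ * k₁), fun u => ?_⟩
    rw [mul_smul, eq_inv_smul_iff₀ (sub_ne_zero.2 ha₀)]
    have e1 := h1 u
    have e2 := h2 u
    rw [map_one, one_smul, one_smul] at e1
    linear_combination (norm := module) e2 - a₀ • e1
  let W : Submodule F (Fin n₂ → F) :=
    { carrier := {φ | ∃ l : F, ∀ u, Ψ φ u = l • u}
      zero_mem' := ⟨0, fun u => by
        show proj T C.h₂ w' (R (pt T u 0)) = _
        rw [pt_zero_right, map_zero, map_zero, zero_smul]⟩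
      add_mem' := fun {φ φ'} h h' => by
        obtain ⟨l, hl⟩ := h; obtain ⟨l', hl'⟩ := h'
        refine ⟨l + l', fun u => ?_⟩
        show proj T C.h₂ w' (R (pt T u (φ + φ'))) = _
        rw [pt_add_right, map_add, map_add, add_smul, ← hl, ← hl']; rfl
      smul_mem' := fun k φ h => by
        obtain ⟨l, hl⟩ := h
        refine ⟨k * l, fun u => ?_⟩
        show proj T C.h₂ w' (R (pt T u (k • φ))) = _
        rw [pt_smul_right, map_smul, map_smul, mul_smul, ← hl]; rfl }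
  have hRw : ∀ u, R (pt T u w) = 0 := fun u => by
    show act ρ (pt T u w) - pt T u w = 0
    rw [hfix, sub_self]
  have hall : ∀ v, f₂ v w = 0 → ∃ l : F, ∀ u, Ψ v u = l • u := fun v hv =>
    span_orth C hw hww' (W := W)
      ⟨0, fun u => by show proj T C.h₂ w' (R (pt T u w)) = _; rw [hRw, map_zero, zero_smul]⟩ hscal hv
  obtain ⟨u₀, χ, hχ⟩ : ∃ u₀ : Fin n₁ → F, ∃ χ : (Fin n₁ → F) →ₗ[F] F, χ u₀ = 1 :=
    ⟨Pi.single ⟨0, n₁_pos C⟩ 1, LinearMap.proj ⟨0, n₁_pos C⟩, by simp⟩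
  obtain ⟨φ₀, hφ₀⟩ := Unit.exists_repr C.h₂ (χ ∘ₗ proj T C.h₂ w' ∘ₗ R ∘ₗ ptR T u₀)
  have hφ₀' : ∀ v, χ (Ψ v u₀) = f₂ v φ₀ := hφ₀
  have hφ₀w : f₂ φ₀ w = 0 := Unit.eq_zero_symm C.h₂ (by
    rw [← hφ₀']
    show χ (proj T C.h₂ w' (R (pt T u₀ w))) = 0
    rw [hRw, map_zero, map_zero])
  have hwφ₀ := Unit.eq_zero_symm C.h₂ hφ₀w
  obtain ⟨φ₁, hφ₁def⟩ : ∃ φ₁, φ₁ = φ₀ - f₂ φ₀ w' • w := ⟨_, rfl⟩
  have hφ₁w : f₂ φ₁ w = 0 := by rw [hφ₁def, Unit.sub_left C.h₂, Unit.smul_left C.h₂, hφ₀w, hw]; ring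
  have hφ₁w' : f₂ φ₁ w' = 0 := by rw [hφ₁def, Unit.sub_left C.h₂, Unit.smul_left C.h₂, hww']; ring
  have hwφ₁ := Unit.eq_zero_symm C.h₂ hφ₁w
  have hlayer : ∀ u v, f₂ v w = 0 → act ρ (pt T u v) = pt T u (v + f₂ v φ₁ • w) := by
    intro u v hv
    obtain ⟨l, hl⟩ := hall v hv
    have hlv : l = f₂ v φ₁ := by
      have := hφ₀' v
      rw [hl, map_smul, hχ, smul_eq_mul, mul_one] at this
      rw [this, hφ₁def, Unit.sub_right C.h₂, Unit.smul_right C.h₂, hv, mul_zero, sub_zero]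
    have e := hRK (pt T u v) (by rw [proj_pt, hv, zero_smul])
    rw [show proj T C.h₂ w' (R (pt T u v)) = l • u from hl u, pt_smul_left, ← pt_smul_right, hlv] at e
    rw [pt_add_right, ← e]
    show act ρ (pt T u v) = pt T u v + (act ρ (pt T u v) - pt T u v)
    abel
  obtain ⟨d₀, hd₀⟩ := Unit.exists_trace C.hU.involutive C.hU.ne_refl (f₂ φ₁ φ₁) (Unit.herm' C.h₂ _ _)
  obtain ⟨e₀, he₀⟩ : ∃ e₀, e₀ = d₀ - f₂ φ₁ φ₁ := ⟨_, rfl⟩
  let L : (Fin n₂ → F) →ₗ[F] (Fin n₂ → F) :=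
    LinearMap.id - (flinU C.h₂ w).smulRight φ₁ + (flinU C.h₂ φ₁ + e₀ • flinU C.h₂ w).smulRight w
  have hL : ∀ v, L v = v - f₂ v w • φ₁ + (f₂ v φ₁ + e₀ * f₂ v w) • w := fun v => by
    simp [L, Unit.flinU_apply]
  have hLiso : ∀ x y, f₂ (L x) (L y) = f₂ x y := by
    intro x y
    have hN := Unit.herm' C.h₂ φ₁ φ₁
    simp only [hL, Unit.sub_left C.h₂, Unit.sub_right C.h₂, Unit.add_left C.h₂, Unit.add_right C.h₂,
      Unit.smul_left C.h₂, Unit.smul_right C.h₂, hw, hφ₁w, hwφ₁, map_add, map_mul, Unit.herm' C.h₂,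
      he₀, map_sub, hN]
    linear_combination (f₂ x w * f₂ w y) * hd₀
  have hLinj : Function.Injective L := fun x y hxy => by
    apply Unit.flinU_injective C.h₂
    apply LinearMap.ext; intro z
    show f₂ z x = f₂ z y
    rw [← hLiso z x, ← hLiso z y, hxy]
  obtain ⟨b, hb⟩ := exists_gl_of_injective L hLinj
  have hbU : b ∈ uiso f₂ := Unit.mem_uiso.2 fun x y => by rw [hb, hb, hLiso]
  have hbdet : (b : Matrix (Fin n₂) (Fin n₂) F).det = 1 := by
    refine det_one_of_unipotent fun x => ?_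
    simp only [hb, hL, Unit.sub_left C.h₂, Unit.add_left C.h₂, Unit.smul_left C.h₂, hw, hφ₁w, hwφ₁]
    module
  set q₀ := gl T 1 b with hq₀
  have hq₀M : q₀ ∈ M := gl_mem_M C (one_mem _) hbU (by rw [hbdet]; simp)
  have hzM := M.mul_mem (M.inv_mem hq₀M) hρ
  have hzK : ∀ u v, f₂ v w = 0 → act (q₀⁻¹ * ρ) (pt T u v) = pt T u v := by
    intro u v hv
    apply act_injective q₀
    rw [act_mul, act_act_inv, hlayer u v hv, hq₀, act_gl_pt, act_one, hb, hL, hv, zero_smul, sub_zero,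
      mul_zero, add_zero]
  obtain ⟨S, hS⟩ := exists_isTop C hw0 hw (C.le hzM).1 hzK
  obtain ⟨k, hk⟩ := hZ w hw0 hw _ hzM S hS
  have hρeq : ρ = gl T 1 (b * utv C.h₂ w k) := gl_ext_pt T fun u v => by
    have e : act (q₀⁻¹ * ρ) (pt T u v) = pt T u (v + (k * f₂ v w) • w) := by
      rw [hS u v, hk, pt_smul_left, pt_add_right, pt_smul_right, smul_smul, mul_comm]
    rw [act_gl_pt, act_one, act_mul b, Unit.act_utv C.h₂ hw]
    have := congrArg (act q₀) e
    rw [act_mul, act_act_inv, hq₀, act_gl_pt, act_one] at this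
    exact this
  refine ⟨hρeq ▸ gl_mem T _ _, act b (w' + (k * f₂ w' w) • w) - w', ?_, fun u => ?_⟩
  · rw [hb, hL]
    simp only [Unit.sub_left C.h₂, Unit.add_left C.h₂, Unit.smul_left C.h₂, hw, hφ₁w, hw'w]
    ring
  · rw [hρeq, act_gl_pt, act_one, act_mul b, Unit.act_utv C.h₂ hw, add_sub_cancel]

/-- the centraliser of a root element -/
theorem centralizer_tensor (hZ : TopScalar T f₂ M) {w : Fin n₂ → F} (hw0 : w ≠ 0) (hw : f₂ w w = 0) {d : F}
    (hd0 : d ≠ 0) {g : GL ι F} (hg : g ∈ M)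
    (hcomm : g * root T C.h₂ w d = root T C.h₂ w d * g) :
    g ∈ Cfsg.Geo.tensorProductSubgroup n₁ n₂ T.e T.P := by
  classical
  obtain ⟨w', hw', hw'w, hww'⟩ := exists_partner_top C hw0 hw
  have hgU := (C.le hg).1
  have hgr : ∀ x, d • act g (pt T (proj T C.h₂ w x) w) = d • pt T (proj T C.h₂ w (act g x)) w := by
    intro x
    have e : act (g * root T C.h₂ w d) x = act (root T C.h₂ w d * g) x := by rw [hcomm]
    rw [act_mul, act_mul, act_root C.h₂ hw, act_root C.h₂ hw, map_add, map_smul] at e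
    exact add_left_cancel e
  have hgI : ∀ x, act g (pt T (proj T C.h₂ w x) w) = pt T (proj T C.h₂ w (act g x)) w :=
    fun x => smul_right_injective _ hd0 (hgr x)
  let A : (Fin n₁ → F) →ₗ[F] (Fin n₁ → F) := proj T C.h₂ w ∘ₗ act g ∘ₗ ptL T w'
  have hA : ∀ u, act g (pt T u w) = pt T (A u) w := fun u => by
    have := hgI (pt T u w')
    rwa [proj_pt, hw'w, one_smul] at this
  have hπ : ∀ x, proj T C.h₂ w (act g x) = A (proj T C.h₂ w x) := by
    intro x
    have h1 := (hgI x).symm.trans (hA _)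
    by_contra hne
    have h2 : pt T (proj T C.h₂ w (act g x) - A (proj T C.h₂ w x)) w = 0 := by
      rw [pt_sub_left, h1, sub_self]
    exact hne (sub_eq_zero.1 (((pt_eq_zero T).1 h2).resolve_right hw0))
  have hAinj : Function.Injective A := fun u u' h => by
    have h1 : pt T u w = pt T u' w := act_injective g (by rw [hA, hA, h])
    have h2 : pt T (u - u') w = 0 := by rw [pt_sub_left, h1, sub_self]
    exact sub_eq_zero.1 (((pt_eq_zero T).1 h2).resolve_right hw0)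
  obtain ⟨α, hα⟩ := exists_gl_of_injective A hAinj
  have hαU : α ∈ uiso f₁ := Unit.mem_uiso.2 fun x y => by
    rw [hα, hα]
    have e := Unit.mem_uiso.1 hgU (pt T x w') (pt T y w)
    rw [hA, form_right C, form_right C, hπ, proj_pt, hw'w, one_smul] at e
    exact mul_left_cancel₀ C.c_ne e
  have hgK : ∀ x, proj T C.h₂ w x = 0 → proj T C.h₂ w (act g⁻¹ x) = 0 := by
    intro x hx
    apply hAinj
    rw [← hπ, act_act_inv, hx, map_zero]
  -- the middle layer
  let W : Submodule F (Fin n₂ → F) :=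
    { carrier := {φ | ∃ φ', f₂ φ' w = 0 ∧ ∀ u, ∃ a, act g (pt T u φ) = pt T (A u) φ' + pt T a w}
      zero_mem' := ⟨0, Unit.zero_left C.h₂ _, fun u => ⟨0, by simp [pt_zero_right, pt_zero_left]⟩⟩
      add_mem' := fun {φ ψ} h h' => by
        obtain ⟨φ', h1, h2⟩ := h; obtain ⟨ψ', h1', h2'⟩ := h'
        refine ⟨φ' + ψ', by rw [Unit.add_left C.h₂, h1, h1', add_zero], fun u => ?_⟩
        obtain ⟨a, ha⟩ := h2 u; obtain ⟨a', ha'⟩ := h2' u
        exact ⟨a + a', by rw [pt_add_right, map_add, ha, ha', pt_add_right, pt_add_left]; abel⟩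
      smul_mem' := fun k φ h => by
        obtain ⟨φ', h1, h2⟩ := h
        refine ⟨k • φ', by rw [Unit.smul_left C.h₂, h1, mul_zero], fun u => ?_⟩
        obtain ⟨a, ha⟩ := h2 u
        exact ⟨k • a, by rw [pt_smul_right, map_smul, ha, smul_add, pt_smul_right, pt_smul_left]⟩ }
  have hmid : ∀ φ, f₂ φ w = 0 → f₂ φ w' = 0 → φ ∈ W := by
    intro φ hφw hφw'
    have hwφ := Unit.eq_zero_symm C.h₂ hφw
    obtain ⟨e₁, q, hqM, hact⟩ := exists_glHeis C hw hwφ 1
    have hq' : g * q * g⁻¹ ∈ M := M.mul_mem (M.mul_mem hg hqM) (M.inv_mem hg)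
    have hq'K : ∀ x, proj T C.h₂ w x = 0 → ∃ a, act (g * q * g⁻¹) x = x + pt T a w := by
      intro x hx
      refine ⟨A (proj T C.h₂ φ (act g⁻¹ x)), ?_⟩
      rw [act_mul, act_mul, hact, hgK x hx, pt_zero_left, smul_zero, pt_zero_left, smul_zero, sub_zero, add_zero, one_smul,
        map_add, act_act_inv, hA]
    have hq'I : ∀ u, act (g * q * g⁻¹) (pt T u w) = pt T u w := by
      intro u
      have : act g⁻¹ (pt T u w) = pt T (act α⁻¹ u) w := act_injective g (by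
        rw [act_act_inv, hA, ← hα, act_act_inv])
      rw [act_mul, act_mul, this, hact]
      simp only [proj_pt, hwφ, hw, zero_smul, pt_zero_left, smul_zero, add_zero, sub_zero]
      rw [hA, ← hα, act_act_inv]
    obtain ⟨-, d', hd'w, hd'⟩ := radical_tensor C hZ hw0 hw hw' hw'w hww' hq' hq'I
      (fun u v hv => hq'K _ (by rw [proj_pt, hv, zero_smul]))
    refine ⟨-d', by rw [← neg_one_smul F d', Unit.smul_left C.h₂, hd'w, mul_zero], fun u => ?_⟩
    have e : act g (act q (pt T u w')) = act (g * q * g⁻¹) (act g (pt T u w')) := by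
      rw [act_mul, act_mul, act_inv_act]
    have hk : proj T C.h₂ w (act g (pt T u w') - pt T (A u) w') = 0 := by
      rw [map_sub, hπ, proj_pt, proj_pt, hw'w, one_smul, one_smul, sub_self]
    obtain ⟨a, ha⟩ := hq'K _ hk
    rw [map_sub, hd', sub_eq_iff_eq_add] at ha
    rw [hact, proj_pt, proj_pt, hw'w, Unit.eq_zero_symm C.h₂ hφw', map_one, one_smul,
      one_smul, zero_smul, pt_zero_left, add_zero, one_smul, map_add, map_sub, map_smul, hA, ha, pt_add_right] at e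
    refine ⟨-a + e₁ • A u, ?_⟩
    rw [pt_neg_right, pt_add_left, pt_neg_left, pt_smul_left]
    linear_combination (norm := module) -e
  have hall : ∀ v, f₂ v w = 0 → v ∈ W := fun v hv =>
    span_orth C hw hww' (W := W)
      ⟨0, Unit.zero_left C.h₂ _, fun u => ⟨A u, by rw [hA, pt_zero_right, zero_add]⟩⟩ hmid hv
  obtain ⟨u₀, χ, hχ⟩ : ∃ u₀ : Fin n₁ → F, ∃ χ : (Fin n₁ → F) →ₗ[F] F, χ (A u₀) = 1 :=
    ⟨act α⁻¹ (Pi.single ⟨0, n₁_pos C⟩ 1), LinearMap.proj ⟨0, n₁_pos C⟩, by rw [← hα, act_act_inv]; simp⟩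
  let P₀ : (Fin n₂ → F) →ₗ[F] (Fin n₂ → F) :=
    LinearMap.id - (flinU C.h₂ w').smulRight w - (flinU C.h₂ w).smulRight w'
  have hP₀ : ∀ v, P₀ v = v - f₂ v w' • w - f₂ v w • w' := fun v => by simp [P₀, Unit.flinU_apply]
  let γ : (Fin n₂ → F) →ₗ[F] (Fin n₂ → F) := P₀ ∘ₗ cL T χ ∘ₗ act g ∘ₗ ptR T u₀
  have hγ : ∀ v, f₂ v w = 0 → ∀ u, ∃ a, act g (pt T u v) = pt T (A u) (γ v) + pt T a w := by
    intro v hv u
    obtain ⟨φ', hφ'w, hφ'⟩ := hall v hv
    obtain ⟨a₁, ha₁⟩ := hφ' u₀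
    have e : γ v = φ' - f₂ φ' w' • w := by
      show P₀ (cL T χ (act g (pt T u₀ v))) = _
      rw [ha₁, map_add, cL_pt, cL_pt, hχ, one_smul, map_add, map_smul, hP₀ φ', hP₀ w, hφ'w, hww', hw]
      simp
    obtain ⟨a, ha⟩ := hφ' u
    refine ⟨a + f₂ φ' w' • A u, ?_⟩
    rw [ha, e, pt_sub_right, pt_smul_right, pt_add_left, pt_smul_left]; abel
  have hγperp : ∀ v, f₂ (γ v) w = 0 ∧ f₂ (γ v) w' = 0 := by
    intro v
    show f₂ (P₀ _) w = 0 ∧ f₂ (P₀ _) w' = 0
    generalize cL T χ _ = y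
    rw [hP₀]
    simp only [Unit.sub_left C.h₂, Unit.smul_left C.h₂, hw, hw', hw'w, hww']
    constructor <;> ring
  have hP₀perp : ∀ x, f₂ (P₀ x) w = 0 ∧ f₂ (P₀ x) w' = 0 := by
    intro x
    rw [hP₀]
    simp only [Unit.sub_left C.h₂, Unit.smul_left C.h₂, hw, hw', hw'w, hww']
    constructor <;> ring
  have hγiso : ∀ x y, f₂ x w = 0 → f₂ x w' = 0 → f₂ y w = 0 → f₂ y w' = 0 → f₂ (γ x) (γ y) = f₂ x y := by
    intro x y hxw _ hyw _
    obtain ⟨u, u', hu⟩ := exists_ne_two C.h₁ (n₁_pos C)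
    obtain ⟨a, ha⟩ := hγ x hxw u
    obtain ⟨a', ha'⟩ := hγ y hyw u'
    have e := Unit.mem_uiso.1 hgU (pt T u x) (pt T u' y)
    rw [ha, ha'] at e
    simp only [Unit.add_left C.hU, Unit.add_right C.hU, C.form, (hγperp x).1, hw,
      Unit.eq_zero_symm C.h₂ (hγperp y).1, mul_zero, add_zero, ← hα, Unit.mem_uiso.1 hαU] at e
    exact mul_left_cancel₀ hu (mul_left_cancel₀ C.c_ne e)
  let L : (Fin n₂ → F) →ₗ[F] (Fin n₂ → F) :=
    γ ∘ₗ P₀ + (flinU C.h₂ w').smulRight w + (flinU C.h₂ w).smulRight w'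
  have hL : ∀ v, L v = γ (P₀ v) + f₂ v w' • w + f₂ v w • w' := fun v => by simp [L, Unit.flinU_apply]
  have hLiso : ∀ x y, f₂ (L x) (L y) = f₂ x y := by
    intro x y
    have e : f₂ (γ (P₀ x)) (γ (P₀ y)) =
        f₂ x y - f₂ x w' * f₂ w y - f₂ x w * f₂ w' y := by
      rw [hγiso _ _ (hP₀perp x).1 (hP₀perp x).2 (hP₀perp y).1 (hP₀perp y).2, hP₀, hP₀]
      simp only [Unit.sub_left C.h₂, Unit.sub_right C.h₂, Unit.smul_left C.h₂, Unit.smul_right C.h₂,
        Unit.herm' C.h₂, hw, hw', hw'w, hww']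
      ring
    simp only [hL, Unit.add_left C.h₂, Unit.add_right C.h₂, Unit.smul_left C.h₂, Unit.smul_right C.h₂,
      Unit.herm' C.h₂, hw, hw', hw'w, hww', (hγperp _).1, (hγperp _).2,
      Unit.eq_zero_symm C.h₂ (hγperp _).1, Unit.eq_zero_symm C.h₂ (hγperp _).2, e]
    ring
  have hLinj : Function.Injective L := fun x y hxy => by
    apply Unit.flinU_injective C.h₂
    apply LinearMap.ext; intro z
    show f₂ z x = f₂ z y
    rw [← hLiso z x, ← hLiso z y, hxy]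
  obtain ⟨b, hb⟩ := exists_gl_of_injective L hLinj
  have hbU : b ∈ uiso f₂ := Unit.mem_uiso.2 fun x y => by rw [hb, hb, hLiso]
  set h₀ := gl T α b with hh₀
  set ρ := h₀⁻¹ * g with hρ
  have hLw : L w = w := by
    rw [hL, hP₀, hw, hww']
    simp
  have hfix : ∀ u, act ρ (pt T u w) = pt T u w := by
    intro u
    apply act_injective h₀
    rw [hρ, act_mul, act_act_inv, hA, hh₀, act_gl_pt, hα, hb, hLw]
  have hlay : ∀ u v, f₂ v w = 0 → ∃ a, act ρ (pt T u v) = pt T u v + pt T a w := by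
    intro u v hv
    obtain ⟨a, ha⟩ := hγ (P₀ v) (hP₀perp v).1 u
    refine ⟨act α⁻¹ a, act_injective h₀ ?_⟩
    rw [hρ, act_mul, act_act_inv, map_add, hh₀, act_gl_pt, act_gl_pt, hα, act_act_inv, hb, hb, hLw,
      hL, hv, zero_smul, add_zero]
    have hv' : pt T u v = pt T u (P₀ v) + f₂ v w' • pt T u w := by
      rw [hP₀, hv, zero_smul, sub_zero, pt_sub_right, pt_smul_right]; abel
    rw [hv', map_add, map_smul, ha, hA, pt_add_right, pt_smul_right]; abel
  have hρπ : ∀ x, proj T C.h₂ w (act ρ x) = proj T C.h₂ w x := by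
    intro x
    have hhπ : ∀ y, proj T C.h₂ w (act h₀ y) = A (proj T C.h₂ w y) := fun y => by
      have : proj T C.h₂ w ∘ₗ act h₀ = A ∘ₗ proj T C.h₂ w := pt_ext T fun u v => by
        simp only [LinearMap.comp_apply, hh₀, act_gl_pt, proj_pt, map_smul, hα]
        congr 1
        conv_lhs => rw [← hLw, ← hb, Unit.mem_uiso.1 hbU]
      exact LinearMap.congr_fun this y
    apply hAinj
    rw [← hhπ, hρ, act_mul, act_act_inv, hπ]
  have hdetρ : (ρ : Matrix ι ι F).det = 1 := by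
    refine det_one_of_unipotent fun x => ?_
    let D : (ι → F) →ₗ[F] (ι → F) := act ρ - LinearMap.id
    let E : (ι → F) →ₗ[F] (ι → F) := LinearMap.id - ptL T w' ∘ₗ proj T C.h₂ w
    have hDD : D ∘ₗ D ∘ₗ E = 0 := pt_ext T fun u v => by
      have hE : E (pt T u v) = pt T u (v - f₂ v w • w') := by
        show pt T u v - pt T (proj T C.h₂ w (pt T u v)) w' = _
        rw [proj_pt, pt_sub_right, pt_smul_left, pt_smul_right]
      obtain ⟨a, ha⟩ := hlay u (v - f₂ v w • w') (by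
        rw [Unit.sub_left C.h₂, Unit.smul_left C.h₂, hw'w, mul_one, sub_self])
      show D (D (E (pt T u v))) = 0
      rw [hE]
      show act ρ (act ρ _ - _) - (act ρ _ - _) = 0
      simp only [LinearMap.id_apply, ha, add_sub_cancel_left, hfix, sub_self]
    have hD : proj T C.h₂ w (D x) = 0 := by
      show proj T C.h₂ w (act ρ x - x) = 0
      rw [map_sub, hρπ, sub_self]
    have e := LinearMap.congr_fun hDD (D x)
    have hEx : E (D x) = D x := by
      show D x - pt T (proj T C.h₂ w (D x)) w' = D x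
      rw [hD, pt_zero_left, sub_zero]
    simp only [LinearMap.comp_apply, hEx, LinearMap.zero_apply] at e
    change act ρ (act ρ (act ρ x - x) - (act ρ x - x)) - (act ρ (act ρ x - x) - (act ρ x - x)) = 0 at e
    simp only [map_sub] at e
    rw [← e]; module
  have hh₀M : h₀ ∈ M := by
    refine C.ge α b ⟨gl_mem_uiso C hαU hbU, MonoidHom.mem_ker.2 (Units.ext ?_)⟩
    have hg1 : (g : Matrix ι ι F).det = 1 := by
      have := congrArg Units.val (MonoidHom.mem_ker.1 (C.le hg).2)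
      rwa [Matrix.GeneralLinearGroup.val_det_apply] at this
    have : (g : Matrix ι ι F) = (h₀ : Matrix ι ι F) * (ρ : Matrix ι ι F) := by
      rw [← Units.val_mul, hρ, mul_inv_cancel_left]
    rw [this, Matrix.det_mul, hdetρ, mul_one] at hg1
    rw [Matrix.GeneralLinearGroup.val_det_apply]
    exact hg1
  have hρM : ρ ∈ M := M.mul_mem (M.inv_mem hh₀M) hg
  obtain ⟨hρT, -⟩ := radical_tensor C hZ hw0 hw hw' hw'w hww' hρM hfix hlay
  rw [show g = h₀ * ρ by rw [hρ, mul_inv_cancel_left]]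
  exact mul_mem (gl_mem T _ _) hρT

/-- `M` consists of tensor products when its top elements are scalar -/
theorem le_tensor_of_topScalar (h5 : 5 ≤ n₂ ∨ (n₁ = 3 ∧ n₂ = 4)) (hZ : TopScalar T f₂ M) :
    M ≤ Cfsg.Geo.tensorProductSubgroup n₁ n₂ T.e T.P :=
  h5.elim
    (fun h5 => le_tensor_of_centralizer C h5 fun _ hw0 hw _ _ hd0 _ hg hcomm =>
      centralizer_tensor C hZ hw0 hw hd0 hg hcomm)
    (fun h => le_tensor_of_centralizer_four C h.1 h.2 fun _ hw0 hw _ _ hd0 _ hg hcomm =>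
      centralizer_tensor C hZ hw0 hw hd0 hg hcomm)

end Cfsg.Agent.MaxCl.Tens
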