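/-
A non-scalar top element in an overgroup of a unitary tensor stabiliser gives every transvection, so the overgroup
is the whole special unitary group.
-/
import Mathlib
import Cfsg.Agent.Lib.MaxCl.UnitaryTensorCent
import Cfsg.Agent.Lib.MaxCl.HermForms

set_option autoImplicit false

namespace Cfsg.Agent.MaxCl.Tens

open scoped MatrixGroups Matrix
open Module (finrank)
open Unit (uiso flinU utv utvGroup uperp RootIn)

variable {ι : Type} [Fintype ι] [DecidableEq ι] {F : Type*} [Field F] [Fintype F] {n₁ n₂ : ℕ}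
variable {T : TSys ι F n₁ n₂} {σ : F ≃+* F} {f : (ι → F) → (ι → F) → F}
variable {f₁ : (Fin n₁ → F) → (Fin n₁ → F) → F} {f₂ : (Fin n₂ → F) → (Fin n₂ → F) → F} {c : F}
variable {M : Subgroup (GL ι F)}

/-- the hermitian forms of the top elements of `M` at `w` -/
def TopForms (T : TSys ι F n₁ n₂) (f₁ : (Fin n₁ → F) → (Fin n₁ → F) → F)
    (f₂ : (Fin n₂ → F) → (Fin n₂ → F) → F) (M : Subgroup (GL ι F)) (w : Fin n₂ → F) (θ : F) (β : (Fin n₁ → F) → (Fin n₁ → F) → F) : Prop :=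
  ∃ z ∈ M, ∃ S, IsTop T f₂ w z S ∧ β = fun x y => θ * f₁ (S x) y

variable (C : UCtx T σ f f₁ f₂ c M)
include C

theorem formSet {w : Fin n₂ → F} (hw0 : w ≠ 0) (hw : f₂ w w = 0) {θ : F} (hθ0 : θ ≠ 0) (hθ : θ + σ θ = 0) :
    Unit.FormSet σ f₁ (TopForms T f₁ f₂ M w θ) := by
  obtain ⟨w', hw', hw'w, hww'⟩ := exists_partner_top C hw0 hw
  have hσθ : σ θ = -θ := eq_neg_of_add_eq_zero_right hθ
  refine ⟨C.h₁, ?_, ?_, ?_, ?_, ?_⟩
  · rintro β ⟨z, hz, S, hS, rfl⟩
    have skew : ∀ x y, f₁ (S x) y + f₁ x (S y) = 0 := by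
      intro x y
      have e := Unit.mem_uiso.1 (C.le hz).1 (pt T x w') (pt T y w')
      rw [hS, hS, hw'w, one_smul, one_smul] at e
      simp only [Unit.add_left C.hU, Unit.add_right C.hU, C.form, hw, hw'w, hww', hw', mul_zero, mul_one,
        add_zero, zero_add] at e
      have : c * (f₁ (S x) y + f₁ x (S y)) = 0 := by linear_combination e
      exact (mul_eq_zero.1 this).resolve_left C.c_ne
    refine ⟨fun x y v => ?_, fun k x v => ?_, fun v u => ?_⟩
    · rw [map_add, Unit.add_left C.h₁, mul_add]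
    · rw [map_smul, Unit.smul_left C.h₁]; ring
    · rw [map_mul, hσθ, Unit.herm' C.h₁]
      linear_combination θ * skew v u
  · refine ⟨root T C.h₂ w θ⁻¹, root_mem C hw (by rw [map_inv₀, hσθ, inv_neg, add_neg_cancel]),
      θ⁻¹ • LinearMap.id, fun u v => ?_, ?_⟩
    · rw [act_root C.h₂ hw, proj_pt, LinearMap.smul_apply, LinearMap.id_apply, pt_smul_left, pt_smul_left,
        smul_comm]
    · funext x y
      rw [LinearMap.smul_apply, LinearMap.id_apply, Unit.smul_left C.h₁, mul_inv_cancel_left₀ hθ0]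
  · rintro β γ ⟨z, hz, S, hS, rfl⟩ ⟨z', hz', S', hS', rfl⟩
    refine ⟨z * z', M.mul_mem hz hz', S + S', fun u v => ?_, ?_⟩
    · rw [act_mul, hS', map_add, map_smul, hS, hS, hw, zero_smul, add_zero, LinearMap.add_apply, pt_add_left,
        smul_add]
      abel
    · funext x y
      rw [LinearMap.add_apply, Unit.add_left C.h₁, mul_add]
  · rintro k hk β ⟨z, hz, S, hS, rfl⟩
    rcases eq_or_ne k 0 with rfl | hk0
    · refine ⟨1, M.one_mem, 0, fun u v => ?_, ?_⟩
      · rw [act_one, LinearMap.zero_apply, pt_zero_left, smul_zero, add_zero]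
      · funext x y
        rw [LinearMap.zero_apply, Unit.zero_left C.h₁, mul_zero, zero_mul]
    obtain ⟨l, hl⟩ := Unit.exists_norm C.hU.involutive C.hU.ne_refl k hk
    have hl0 : l ≠ 0 := by rintro rfl; rw [zero_mul] at hl; exact hk0 hl.symm
    obtain ⟨b, hb, hbw⟩ := Unit.exists_move_exact_three C.h₂ (by simpa using C.three) hw0 (smul_ne_zero hl0 hw0) hw
      (y := l • w) (by rw [Unit.smul_left C.h₂, Unit.smul_right C.h₂, hw, mul_zero, mul_zero])
    have hbU := Unit.utvGroup_le_uiso C.h₂ hb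
    refine ⟨gl T 1 b * z * gl T 1 b⁻¹, M.mul_mem (M.mul_mem (gl_right_mem C hb) hz)
      (gl_right_mem C (inv_mem hb)), k • S, fun u v => ?_, ?_⟩
    · have e : f₂ (act b⁻¹ v) w = σ l * f₂ v w := by
        rw [← Unit.mem_uiso.1 hbU, act_act_inv, hbw, Unit.smul_right C.h₂]
      rw [act_mul, act_mul, act_gl_pt, act_one, hS, map_add, map_smul, act_gl_pt, act_gl_pt, act_one, act_one,
        act_act_inv, hbw, e, LinearMap.smul_apply, pt_smul_left, pt_smul_right, smul_smul, smul_smul]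
      congr 2
      rw [← hl]; ring
    · funext x y
      rw [LinearMap.smul_apply, Unit.smul_left C.h₁]; ring
  · rintro a ha β ⟨z, hz, S, hS, rfl⟩
    refine ⟨gl T a⁻¹ 1 * z * gl T a 1,
      M.mul_mem (M.mul_mem (gl_mem_M_of_sl C (inv_mem ha) (one_mem _)) hz) (gl_mem_M_of_sl C ha (one_mem _)),
      act a⁻¹ ∘ₗ S ∘ₗ act a, fun u v => ?_, ?_⟩
    · rw [act_mul, act_mul, act_gl_pt, act_one, hS, map_add, map_smul, act_gl_pt, act_gl_pt, act_one, act_one,
        act_inv_act]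
      rfl
    · funext x y
      show _ = θ * f₁ (act a⁻¹ (S (act a x))) y
      congr 1
      conv_rhs => rw [← Unit.mem_uiso.1 ha.1, act_act_inv]

/-- a non-scalar top element gives the root group of some `v ⊗ w`, both isotropic -/
theorem rootIn_of_top (hex : ¬ (n₁ = 2 ∧ ∀ x : F, σ x = x → x = 0 ∨ x = 1)) (h : ¬ TopScalar T f₂ M) :
    ∃ v w, v ≠ 0 ∧ w ≠ 0 ∧ f₁ v v = 0 ∧ f₂ w w = 0 ∧ RootIn C.hU M (pt T v w) := by
  simp only [TopScalar] at h
  push Not at h
  obtain ⟨w, hw0, hw, z, hz, S, hS, hns⟩ := h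
  obtain ⟨θ, hθ0, hθ⟩ := Unit.exists_skew C.hU.ne_refl C.hU.involutive
  have hσθ : σ θ = -θ := eq_neg_of_add_eq_zero_right hθ
  have Fs := formSet C hw0 hw hθ0 hθ
  obtain ⟨v, hv0, hv, hL⟩ := Unit.exists_rankForm Fs C.two_le hex (β := fun x y => θ * f₁ (S x) y)
    ⟨z, hz, S, hS, rfl⟩ fun k hk e => by
      obtain ⟨u, hu⟩ := hns (k / θ)
      obtain ⟨y, hy⟩ := (C.h₁.nondegenerate _ (sub_ne_zero.2 hu)).2
      apply hy
      have e' : θ * f₁ (S u) y = k * f₁ u y := congrFun (congrFun e u) y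
      rw [Unit.sub_left C.h₁, Unit.smul_left C.h₁]
      field_simp
      linear_combination e'
  have hiso : f (pt T v w) (pt T v w) = 0 := by rw [C.form, hv, zero_mul, mul_zero]
  refine ⟨v, w, hv0, hw0, hv, hw, hiso, fun d hd => ?_⟩
  have hk : σ (d * θ * c) = d * θ * c := by
    rw [map_mul, map_mul, c_fixed C, hσθ, eq_neg_of_add_eq_zero_right hd]; ring
  obtain ⟨z', hz', S', hS', e⟩ := Fs.smul _ hk _ hL
  suffices utv C.hU (pt T v w) d = z' from this ▸ hz'
  refine gl_ext_pt T fun x y => ?_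
  rw [Unit.act_utv C.hU hiso, hS' x y, C.form]
  congr 1
  have hS'x : S' x = (d * c * f₁ x v) • v := by
    by_contra hne
    obtain ⟨t, ht⟩ := (C.h₁.nondegenerate _ (sub_ne_zero.2 hne)).2
    apply ht
    have e' : (d * θ * c) * (f₁ x v * f₁ v t) = θ * f₁ (S' x) t := congrFun (congrFun e x) t
    have e'' : f₁ (S' x) t = d * c * f₁ x v * f₁ v t := by
      apply mul_left_cancel₀ hθ0
      linear_combination -e'
    rw [Unit.sub_left C.h₁, Unit.smul_left C.h₁, e'', sub_self]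
  rw [hS'x, pt_smul_left, smul_smul]
  congr 1; ring

theorem rootIn_gl {a : GL (Fin n₁) F} {b : GL (Fin n₂) F} (ha : a ∈ utvGroup C.h₁) (hb : b ∈ utvGroup C.h₂)
    {v : Fin n₁ → F} {w : Fin n₂ → F} (h : RootIn C.hU M (pt T v w)) :
    RootIn C.hU M (pt T (act a v) (act b w)) := by
  rw [← act_gl_pt]
  have hm : gl T a b ∈ M := gl_mem_M_of_sl C ⟨Unit.utvGroup_le_uiso C.h₁ ha, Unit.utvGroup_le_sl C.h₁ ha⟩
    ⟨Unit.utvGroup_le_uiso C.h₂ hb, Unit.utvGroup_le_sl C.h₂ hb⟩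
  exact Unit.rootIn_conj C.hU hm (C.le hm).1 h

theorem rootIn_iso {v₀ : Fin n₁ → F} {w₀ : Fin n₂ → F} (hv₀ : v₀ ≠ 0) (hw₀ : w₀ ≠ 0) (hv₀' : f₁ v₀ v₀ = 0)
    (hw₀' : f₂ w₀ w₀ = 0) (h : RootIn C.hU M (pt T v₀ w₀)) {v : Fin n₁ → F} {w : Fin n₂ → F}
    (hv : f₁ v v = 0) (hw : f₂ w w = 0) : RootIn C.hU M (pt T v w) := by
  rcases eq_or_ne v 0 with rfl | hv0
  · simpa [pt_zero_left] using Unit.rootIn_smul C.hU h 0
  rcases eq_or_ne w 0 with rfl | hw0
  · simpa [pt_zero_right] using Unit.rootIn_smul C.hU h 0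
  obtain ⟨a, ha, k, hk, hav⟩ := Unit.exists_move_line C.h₁ hv₀ hv0 hv₀' hv
  obtain ⟨b, hb, hbw⟩ := Unit.exists_move_exact_three C.h₂ (by simpa using C.three) hw₀ hw0 hw₀' hw
  have h1 := Unit.rootIn_smul C.hU (rootIn_gl C ha hb h) k⁻¹
  rwa [hav, hbw, pt_smul_left, inv_smul_smul₀ hk] at h1

theorem top_nondeg₁ : Cfsg.Geo.IsNondegenerateOn f₁ (⊤ : Submodule F (Fin n₁ → F)) := fun v _ hv => by
  obtain ⟨⟨a, ha⟩, ⟨b, hb⟩⟩ := C.h₁.nondegenerate v hv
  exact ⟨⟨a, trivial, ha⟩, ⟨b, trivial, hb⟩⟩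

/-- from isotropic ⊗ isotropic to anisotropic ⊗ isotropic -/
theorem rootIn_aniso (h4 : 4 ≤ n₂) (hall : ∀ v w, f₁ v v = 0 → f₂ w w = 0 → RootIn C.hU M (pt T v w))
    {e : Fin n₁ → F} (he : f₁ e e ≠ 0) {w₁ : Fin n₂ → F} (hw₁ : f₂ w₁ w₁ = 0) :
    RootIn C.hU M (pt T e w₁) := by
  classical
  rcases eq_or_ne w₁ 0 with rfl | hw₁0
  · simpa [pt_zero_right] using hall 0 0 (Unit.zero_left C.h₁ _) (Unit.zero_left C.h₂ _)
  obtain ⟨w', hw', hw'w, hww'⟩ := exists_partner_top C hw₁0 hw₁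
  obtain ⟨θ, hθ0, hθ⟩ := Unit.exists_skew C.hU.ne_refl C.hU.involutive
  have hσθ : σ θ = -θ := eq_neg_of_add_eq_zero_right hθ
  have hσc := c_fixed C
  have hc := C.c_ne
  -- `e = v + τ • x`
  obtain ⟨v₁, hv₁, hev⟩ : ∃ v, f₁ v v = 0 ∧ f₁ e v ≠ 0 := by
    by_contra hno; push Not at hno
    have hle : Submodule.span F {u | u ∈ (⊤ : Submodule F (Fin n₁ → F)) ∧ f₁ u u = 0} ≤
        uperp C.h₁ (F ∙ e) := by
      rw [Submodule.span_le]
      rintro u ⟨-, hu⟩ p hp
      obtain ⟨s, rfl⟩ := Submodule.mem_span_singleton.1 hp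
      rw [Unit.smul_right C.h₁, Unit.eq_zero_symm C.h₁ (hno u hu), mul_zero]
    exact he (hle (Unit.mem_span_iso C.h₁ (top_nondeg₁ C)
      (by rw [finrank_top, Module.finrank_fin_fun]; exact C.two_le) trivial) e
      (Submodule.mem_span_singleton_self e))
  obtain ⟨ε, hε⟩ := Unit.exists_trace C.hU.involutive C.hU.ne_refl (f₁ e e) (Unit.herm' C.h₁ e e)
  obtain ⟨m, hm⟩ : ∃ m, σ m = ε / f₁ e v₁ := ⟨σ (ε / f₁ e v₁), C.hU.involutive _⟩
  obtain ⟨v, hvdef⟩ : ∃ v, v = m • v₁ := ⟨_, rfl⟩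
  have hv : f₁ v v = 0 := by rw [hvdef, Unit.smul_left C.h₁, Unit.smul_right C.h₁, hv₁, mul_zero, mul_zero]
  have hevε : f₁ e v = ε := by rw [hvdef, Unit.smul_right C.h₁, hm, div_mul_cancel₀ _ hev]
  have hveε : f₁ v e = σ ε := by rw [← Unit.herm' C.h₁, hevε]
  have hε0 : ε ≠ 0 := by rintro rfl; rw [map_zero, add_zero] at hε; exact he hε.symm
  obtain ⟨x, hxdef⟩ : ∃ x, x = ε⁻¹ • (e - v) := ⟨_, rfl⟩
  have hx : f₁ x x = 0 := by
    rw [hxdef, Unit.smul_left C.h₁, Unit.smul_right C.h₁, Unit.sub_left C.h₁, Unit.sub_right C.h₁,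
      Unit.sub_right C.h₁, hevε, hveε, hv]
    have : f₁ e e - ε - (σ ε - 0) = 0 := by linear_combination -hε
    rw [this, mul_zero, mul_zero]
  have hvx : f₁ v x = 1 := by
    rw [hxdef, Unit.smul_right C.h₁, Unit.sub_right C.h₁, hv, hveε, sub_zero, map_inv₀,
      inv_mul_cancel₀ ((map_ne_zero σ).2 hε0)]
  have hxv : f₁ x v = 1 := by rw [← Unit.herm' C.h₁, hvx, map_one]
  have hedec : e = v + ε • x := by rw [hxdef, smul_inv_smul₀ hε0]; abel
  obtain ⟨α, hα⟩ : ∃ α, α = ε / (θ * c) := ⟨_, rfl⟩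
  have hθcα : θ * c * α = ε := by rw [hα, mul_div_cancel₀ _ (mul_ne_zero hθ0 hc)]
  have hwind : w' ∉ F ∙ w₁ := fun h => by
    obtain ⟨s, hs⟩ := Submodule.mem_span_singleton.1 h
    rw [← hs, Unit.smul_left C.h₂, hw₁, mul_zero] at hw'w
    exact zero_ne_one hw'w
  obtain ⟨φ, -, hφ, hφw, hφw'⟩ := Unit.exists_vec_two C.h₂ (top_nondeg C)
    (by rw [finrank_top, Module.finrank_fin_fun]; exact h4) (b := w₁) (b' := w') trivial trivial
    hw₁0 hwind 0 0 (-(α + σ α)) (by rw [map_neg, map_add, C.hU.involutive, add_comm])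
    (Or.inr (Or.inr (by rw [hww']; exact one_ne_zero)))
  have hwφ := Unit.eq_zero_symm C.h₂ hφw
  have hw'φ := Unit.eq_zero_symm C.h₂ hφw'
  have z1 := Unit.rootIn_add C.hU (hall x w' hx hw') (hall v w₁ hv hw₁)
    (c := -θ) (by rw [map_neg]; linear_combination -hθ)
  have hy2 : f₂ (α • w₁ + φ + w') (α • w₁ + φ + w') = 0 := by
    simp only [Unit.add_left C.h₂, Unit.add_right C.h₂, Unit.smul_left C.h₂, Unit.smul_right C.h₂, hw₁, hw',
      hw'w, hww', hφ, hφw, hφw', hwφ, hw'φ]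
    ring
  have z2 := Unit.rootIn_add C.hU (hall x _ hx hy2) z1 (c := θ) hθ
  have hz2 : RootIn C.hU M (pt T e w₁ + (θ * c) • pt T x φ) := by
    have e1 : f (pt T v w₁) (pt T x w') = c := by rw [C.form, hvx, hww', one_mul, mul_one]
    have e2 : f₂ w₁ (α • w₁ + φ + w') = 1 := by
      rw [Unit.add_right C.h₂, Unit.add_right C.h₂, Unit.smul_right C.h₂, hw₁, hwφ, hww']; ring
    have e3 : f (pt T v w₁) (pt T x (α • w₁ + φ + w')) = c := by rw [C.form, hvx, e2, one_mul, mul_one]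
    have e4 : f (pt T x w') (pt T x (α • w₁ + φ + w')) = 0 := by rw [C.form, hx, zero_mul, mul_zero]
    rw [Unit.add_left C.hU, Unit.smul_left C.hU, e1, e3, e4, mul_zero, add_zero] at z2
    convert z2 using 1
    rw [hedec, pt_add_left, pt_smul_left, ← hθcα, pt_add_right, pt_add_right, pt_smul_right]
    module
  obtain ⟨w₃, hw₃def⟩ : ∃ w₃, w₃ = θ • w' := ⟨_, rfl⟩
  have hw₃ : f₂ w₃ w₃ = 0 := by rw [hw₃def, Unit.smul_left C.h₂, Unit.smul_right C.h₂, hw', mul_zero, mul_zero]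
  have hw₃w : f₂ w₃ w₁ = θ := by rw [hw₃def, Unit.smul_left C.h₂, hw'w, mul_one]
  have hww₃ : f₂ w₁ w₃ = -θ := by rw [← Unit.herm' C.h₂, hw₃w, hσθ]
  have hu : f₂ (w₃ - w₁) (w₃ - w₁) = 0 := by
    rw [Unit.sub_left C.h₂, Unit.sub_right C.h₂, Unit.sub_right C.h₂, hw₁, hw₃, hw₃w, hww₃]; ring
  obtain ⟨k, hk, hke⟩ := Unit.exists_utv_move C.h₂ (x := w₃) (y := w₁) (hw₃.trans hw₁.symm) hu
    (by rw [Unit.sub_right C.h₂, hw₁, hww₃, sub_zero]; exact neg_ne_zero.2 hθ0)
  have hφu : f₂ φ (w₃ - w₁) = 0 := by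
    rw [Unit.sub_right C.h₂, hw₃def, Unit.smul_right C.h₂, hφw, hφw', mul_zero, sub_zero]
  set t := utv C.h₂ (w₃ - w₁) k with ht
  have htφ : act t φ = φ := by rw [ht, Unit.act_utv C.h₂ hu, hφu, mul_zero, zero_smul, add_zero]
  have htm : gl T 1 t ∈ M := gl_right_mem C (Unit.utv_mem_utvGroup C.h₂ hu hk)
  have hz3 := Unit.rootIn_conj C.hU htm (C.le htm).1 hz2
  rw [map_add, map_smul, act_gl_pt, act_gl_pt, act_one, act_one, hke, htφ] at hz3
  have hσN : σ (f₁ e e) = f₁ e e := Unit.herm' C.h₁ e e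
  have hfin := Unit.rootIn_add C.hU hz2 hz3 (c := -(c * f₁ e e * θ)⁻¹) (by
    rw [map_neg, map_inv₀, map_mul, map_mul, hσc, hσN, hσθ, mul_neg, inv_neg]; ring)
  have hval : f (pt T e w₃ + (θ * c) • pt T x φ) (pt T e w₁ + (θ * c) • pt T x φ) = c * f₁ e e * θ := by
    have hw₃φ : f₂ w₃ φ = 0 := by rw [hw₃def, Unit.smul_left C.h₂, hw'φ, mul_zero]
    simp only [Unit.add_left C.hU, Unit.add_right C.hU, Unit.smul_left C.hU, Unit.smul_right C.hU, C.form,
      hw₃w, hw₃φ, hφw, hx]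
    ring
  rw [hval, neg_mul, inv_mul_cancel₀ (mul_ne_zero (mul_ne_zero hc he) hθ0)] at hfin
  have h4 : RootIn C.hU M (pt T e (w₃ - w₁)) := by
    convert hfin using 1
    rw [pt_sub_right]; module
  have hne : w₃ - w₁ ≠ 0 := fun h0 => by
    rw [sub_eq_zero] at h0
    rw [h0, hw₁] at hw₃w
    exact hθ0 hw₃w.symm
  obtain ⟨b, hb, hbw⟩ := Unit.exists_move_exact_three C.h₂ (by simpa using C.three) hne hw₁0 hu hw₁
  have h5 := rootIn_gl C (one_mem _) hb h4
  rwa [act_one, hbw] at h5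

/-- all isotropic vectors -/
theorem rootIn_all (h4 : 4 ≤ n₂) (hall : ∀ v w, f₁ v v = 0 → f₂ w w = 0 → RootIn C.hU M (pt T v w))
    {x : ι → F} (hx : f x x = 0) : RootIn C.hU M x := by
  classical
  obtain ⟨e, -, he⟩ := Unit.exists_orthonormal_family C.h₁ n₁ ⊤ (top_nondeg₁ C)
    (by rw [finrank_top, Module.finrank_fin_fun])
  have hpure : ∀ v w, f₂ w w = 0 → RootIn C.hU M (pt T v w) := fun v w hw => by
    by_cases hv : f₁ v v = 0
    · exact hall v w hv hw
    · exact rootIn_aniso C h4 hall hv hw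
  let X : Fin n₁ → (Fin n₂ → F) := fun i => cL T (flinU C.h₁ (e i)) x
  have hdec : x = ∑ i, pt T (e i) (X i) := by
    have : LinearMap.id = ∑ i, ptR T (e i) ∘ₗ cL T (flinU C.h₁ (e i)) := pt_ext T fun u v => by
      rw [LinearMap.id_apply, LinearMap.sum_apply]
      simp only [LinearMap.comp_apply, cL_pt, Unit.flinU_apply, ptR_apply]
      conv_lhs => rw [Unit.onb_expand C.h₁ he u]
      rw [show pt T (∑ i, f₁ u (e i) • e i) v = ptL T v (∑ i, f₁ u (e i) • e i) from rfl, map_sum]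
      exact Finset.sum_congr rfl fun i _ => by rw [ptL_apply, pt_smul_comm]
    conv_lhs => rw [← LinearMap.id_apply (R := F) x, this, LinearMap.sum_apply]
    rfl
  set J := Finset.univ.filter fun i => X i ≠ 0 with hJ
  have hdecJ : x = ∑ i ∈ J, pt T (e i) (X i) := by
    rw [hJ, Finset.sum_filter_of_ne]
    · exact hdec
    · intro i _ h h0; exact h (by rw [h0, pt_zero_right])
  let ν : Fin n₁ → F := fun i => f₂ (X i) (X i)
  have hperp : ∀ (s : Finset (Fin n₁)) (Z : Fin n₁ → Fin n₂ → F) (i : Fin n₁) (y : Fin n₂ → F),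
      f (∑ j ∈ s, pt T (e j) (Z j)) (pt T (e i) y) = if i ∈ s then c * f₂ (Z i) y else 0 := by
    intro s Z i y
    rw [show f (∑ j ∈ s, pt T (e j) (Z j)) (pt T (e i) y) =
      flinU C.hU (pt T (e i) y) (∑ j ∈ s, pt T (e j) (Z j)) from rfl, map_sum]
    simp only [Unit.flinU_apply, C.form, he, ite_mul, one_mul, zero_mul, mul_ite, mul_zero]
    exact Finset.sum_ite_eq' s i _
  have hν : ∑ i ∈ J, ν i = 0 := by
    have h1 : f x x = σ (flinU C.hU x (∑ i ∈ J, pt T (e i) (X i))) := by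
      rw [← hdecJ]; exact (Unit.herm' C.hU x x).symm
    rw [map_sum, map_sum, hx] at h1
    have h2 : ∀ i ∈ J, σ (flinU C.hU x (pt T (e i) (X i))) = c * ν i := fun i hi => by
      rw [Unit.flinU_apply, Unit.herm' C.hU]
      conv_lhs => arg 1; rw [hdecJ]
      rw [hperp, if_pos hi]
    rw [Finset.sum_congr rfl h2, ← Finset.mul_sum, eq_comm, mul_eq_zero, or_iff_right C.c_ne] at h1
    exact h1
  rcases J.eq_empty_or_nonempty with hJe | ⟨j₀, hj₀⟩
  · rw [hdecJ, hJe, Finset.sum_empty]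
    simpa [pt_zero_left] using hall 0 0 (Unit.zero_left C.h₁ _) (Unit.zero_left C.h₂ _)
  -- a vector with the same norms and support
  obtain ⟨w, hw0, hw⟩ := exists_iso C
  obtain ⟨w', hw', hw'w, hww'⟩ := exists_partner_top C hw0 hw
  obtain ⟨θ, hθ0, hθ⟩ := Unit.exists_skew C.hU.ne_refl C.hU.involutive
  have hσθ : σ θ = -θ := eq_neg_of_add_eq_zero_right hθ
  have hσc := c_fixed C
  choose k₀ hk₀ using fun i => Unit.exists_trace C.hU.involutive C.hU.ne_refl (ν i) (Unit.herm' C.h₂ _ _)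
  let k : Fin n₁ → F := fun i => if i = j₀ then θ * c - ∑ l ∈ J.erase j₀, k₀ l else k₀ i
  have hksum : ∑ i ∈ J, k i = θ * c := by
    rw [← Finset.add_sum_erase _ _ hj₀,
      Finset.sum_congr rfl (fun i hi => show k i = k₀ i from if_neg (Finset.ne_of_mem_erase hi))]
    show (if j₀ = j₀ then _ else _) + _ = _
    rw [if_pos rfl]; ring
  have hktr : ∀ i, k i + σ (k i) = ν i := by
    intro i
    by_cases hi : i = j₀
    · subst hi
      show (if i = i then _ else _) + σ (if i = i then _ else _) = _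
      rw [if_pos rfl, map_sub, map_mul, map_sum, hσθ, hσc]
      rw [← Finset.add_sum_erase _ _ hj₀, ← Finset.sum_congr rfl (fun l _ => hk₀ l), Finset.sum_add_distrib] at hν
      linear_combination -hν
    · show (if i = j₀ then _ else _) + σ (if i = j₀ then _ else _) = _
      rw [if_neg hi]; exact hk₀ i
  let X' : Fin n₁ → Fin n₂ → F := fun i => w + k i • w'
  have hX'ν : ∀ i, f₂ (X' i) (X' i) = ν i := fun i => by
    simp only [X', Unit.add_left C.h₂, Unit.add_right C.h₂, Unit.smul_left C.h₂, Unit.smul_right C.h₂, hw, hw',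
      hw'w, hww']
    linear_combination hktr i
  have hX'0 : ∀ i, X' i ≠ 0 := fun i h0 => by
    have := congrArg (fun y => f₂ y w') h0
    simp only [X', Unit.add_left C.h₂, Unit.smul_left C.h₂, hw', hww', mul_zero, add_zero,
      Unit.zero_left C.h₂] at this
    exact one_ne_zero this
  have hstart : RootIn C.hU M (∑ i ∈ J, pt T (e i) (X' i)) := by
    obtain ⟨a, hadef⟩ : ∃ a, a = ∑ i ∈ J, e i := ⟨_, rfl⟩
    obtain ⟨a', ha'def⟩ : ∃ a', a' = ∑ i ∈ J, (k i / (θ * c)) • e i := ⟨_, rfl⟩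
    have hθc : θ * c ≠ 0 := mul_ne_zero hθ0 C.c_ne
    have haa : f₁ a' a = 1 := by
      have hh : ∀ j ∈ J, flinU C.h₁ a ((k j / (θ * c)) • e j) = k j / (θ * c) := fun j hj => by
        rw [map_smul, smul_eq_mul, Unit.flinU_apply, ← Unit.herm' C.h₁, hadef,
          show f₁ (∑ i ∈ J, e i) (e j) = flinU C.h₁ (e j) (∑ i ∈ J, e i) from rfl, map_sum]
        simp only [Unit.flinU_apply, he, Finset.sum_ite_eq', hj, if_true, map_one, mul_one]
      rw [show f₁ a' a = flinU C.h₁ a a' from rfl, ha'def, map_sum, Finset.sum_congr rfl hh, ← Finset.sum_div,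
        hksum, div_self hθc]
    have hall' := Unit.rootIn_add C.hU (hpure a' w' hw') (hpure a w hw) (c := θ) hθ
    rw [C.form, ← Unit.herm' C.h₁ a' a, haa, map_one, hww', one_mul, mul_one] at hall'
    convert hall' using 1
    simp only [hadef, ha'def, ← ptL_apply, map_sum, map_smul, Finset.smul_sum, ← Finset.sum_add_distrib]
    refine Finset.sum_congr rfl fun i _ => ?_
    rw [ptL_apply, ptL_apply, smul_smul, mul_div_cancel₀ _ hθc, pt_add_right, pt_smul_right]
    simp only [ptL_apply]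
  -- replace the components one at a time
  suffices ∀ S : Finset (Fin n₁), S ⊆ J →
      RootIn C.hU M (∑ i ∈ J, pt T (e i) (if i ∈ S then X i else X' i)) by
    have h := this J subset_rfl
    rw [Finset.sum_congr rfl (fun i hi => by rw [if_pos hi] :
      ∀ i ∈ J, pt T (e i) (if i ∈ J then X i else X' i) = pt T (e i) (X i)), ← hdecJ] at h
    exact h
  intro S
  induction S using Finset.induction with
  | empty => intro _; simpa using hstart
  | insert i S hiS ih =>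
    intro hsub
    have hiJ : i ∈ J := hsub (Finset.mem_insert_self i S)
    have h0 := ih fun j hj => hsub (Finset.mem_insert_of_mem hj)
    set Y := LinearMap.range (ptR T (e i)) with hY
    have hYd : 4 ≤ finrank F Y := by
      rw [hY, LinearMap.finrank_range_of_inj, Module.finrank_fin_fun]
      · exact h4
      refine (injective_iff_map_eq_zero _).2 fun y hy => ((pt_eq_zero T).1 hy).resolve_left fun h => ?_
      have := he i i
      rw [h, Unit.zero_left C.h₁, if_pos rfl] at this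
      exact zero_ne_one this
    have hYn : Cfsg.Geo.IsNondegenerateOn f Y := by
      rintro _ ⟨y, rfl⟩ hy0
      have hy : y ≠ 0 := fun h => hy0 (by rw [h, map_zero])
      obtain ⟨⟨p, hp⟩, ⟨r, hr⟩⟩ := C.h₂.nondegenerate y hy
      refine ⟨⟨_, ⟨p, rfl⟩, ?_⟩, ⟨_, ⟨r, rfl⟩, ?_⟩⟩
      · rw [ptR_apply, ptR_apply, C.form, he, if_pos rfl, one_mul]; exact mul_ne_zero C.c_ne hp
      · rw [ptR_apply, ptR_apply, C.form, he, if_pos rfl, one_mul]; exact mul_ne_zero C.c_ne hr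
    have hYM : ∀ u ∈ Y, f u u = 0 → RootIn C.hU M u := by
      rintro _ ⟨y, rfl⟩ hy
      rw [ptR_apply, C.form, he, if_pos rfl, one_mul, mul_eq_zero, or_iff_right C.c_ne] at hy
      exact hpure _ _ hy
    have hXi : X i ≠ 0 := (Finset.mem_filter.1 hiJ).2
    rw [← Finset.add_sum_erase _ _ hiJ, if_neg hiS, add_comm] at h0
    rw [← Finset.add_sum_erase _ _ hiJ, if_pos (Finset.mem_insert_self i S), add_comm,
      Finset.sum_congr rfl (fun j hj => by simp [Finset.ne_of_mem_erase hj] :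
        ∀ j ∈ J.erase i, pt T (e j) (if j ∈ insert i S then X j else X' j) =
          pt T (e j) (if j ∈ S then X j else X' j))]
    refine Unit.rootIn_move_five C.hU hYn hYd hYM ?_ ⟨X' i, rfl⟩ ?_ ⟨X i, rfl⟩ ?_ ?_ h0
    · rintro _ ⟨y, rfl⟩
      rw [ptR_apply, hperp, if_neg (Finset.notMem_erase i J)]
    · intro h
      rcases (pt_eq_zero T).1 h with h | h
      · have := he i i; rw [h, Unit.zero_left C.h₁, if_pos rfl] at this; exact zero_ne_one this
      · exact hX'0 i h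
    · intro h
      rcases (pt_eq_zero T).1 h with h | h
      · have := he i i; rw [h, Unit.zero_left C.h₁, if_pos rfl] at this; exact zero_ne_one this
      · exact hXi h
    · show f (pt T (e i) (X i)) (pt T (e i) (X i)) = f (pt T (e i) (X' i)) (pt T (e i) (X' i))
      rw [C.form, C.form, hX'ν]

/-- the dichotomy -/
theorem eq_or_le_tensor (h5 : 5 ≤ n₂ ∨ (n₁ = 3 ∧ n₂ = 4)) (hex : ¬ (n₁ = 2 ∧ ∀ x : F, σ x = x → x = 0 ∨ x = 1)) :
    M = suGroup f ∨ M ≤ Cfsg.Geo.tensorProductSubgroup n₁ n₂ T.e T.P := by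
  by_cases h : TopScalar T f₂ M
  · exact Or.inr (le_tensor_of_topScalar C h5 h)
  refine Or.inl (le_antisymm C.le ?_)
  obtain ⟨v₀, w₀, hv₀, hw₀, hv₀', hw₀', hR⟩ := rootIn_of_top C hex h
  refine Unit.su_le_of_utv C.hU (le_trans (by norm_num) C.big) M fun u d hu hd => ?_
  exact (rootIn_all C (h5.elim (fun h' => le_trans (by norm_num) h') fun h' => h'.2.ge) (fun v w hv hw => rootIn_iso C hv₀ hw₀ hv₀' hw₀' hR hv hw) hu).2 d hd

/-- the tensor stabiliser is proper -/
theorem not_le_tensor : ¬ suGroup f ≤ Cfsg.Geo.tensorProductSubgroup n₁ n₂ T.e T.P := by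
  intro hle
  obtain ⟨w, hw0, hw⟩ := exists_iso C
  obtain ⟨θ, hθ0, hθ⟩ := Unit.exists_skew C.hU.ne_refl C.hU.involutive
  obtain ⟨u, u', hu⟩ := exists_ne_two C.h₁ (n₁_pos C)
  have hu0 : u ≠ 0 := fun h => hu (by rw [h, Unit.zero_left C.h₁])
  have hiso : f (pt T u w) (pt T u w) = 0 := by rw [C.form, hw, mul_zero, mul_zero]
  obtain ⟨a, b, hab⟩ := exists_of_mem T (hle
    (show utv C.hU (pt T u w) θ ∈ suGroup f from
      ⟨Unit.utv_mem C.hU hiso hθ, Unit.det_ptv C.hU (by rw [Unit.smul_right C.hU, hiso, mul_zero])⟩))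
  have hD : ∀ x, act (gl T a b) x - x = (θ * f x (pt T u w)) • pt T u w := fun x => by
    rw [← hab, Unit.act_utv C.hU hiso, add_sub_cancel_left]
  have hone : ∀ {κ : Type _} [AddCommGroup κ] [Module F κ] [Module.Finite F κ] (L : κ →ₗ[F] (ι → F)),
      Function.Injective L → (∀ z, L z ∈ F ∙ pt T u w) → finrank F κ ≤ 1 := by
    intro κ _ _ _ L hL hr
    rw [← LinearMap.finrank_range_of_inj hL]
    refine (Submodule.finrank_mono (t := F ∙ pt T u w) ?_).trans ((finrank_span_le_card _).trans (by simp))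
    rintro _ ⟨z, rfl⟩
    exact hr z
  have hmem : ∀ x, act (gl T a b) x - x ∈ F ∙ pt T u w := fun x => by
    rw [hD]; exact Submodule.smul_mem _ _ (Submodule.mem_span_singleton_self _)
  obtain ⟨k, hk⟩ := exists_scalar_of_eigen (act a) fun p => by
    by_contra hp
    let L : (Fin n₂ → F) →ₗ[F] (ι → F) := ptR T (act a p) ∘ₗ act b - ptR T p
    have hL : Function.Injective L := by
      refine (injective_iff_map_eq_zero L).2 fun v hv => ?_
      by_contra hv0
      exact hp (mem_span_of_pt_eq' T (show pt T (act a p) (act b v) = pt T p v from sub_eq_zero.1 hv)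
        fun e0 => hv0 (act_injective b (by rw [e0, map_zero])))
    have := hone L hL fun v => by
      show pt T (act a p) (act b v) - pt T p v ∈ _
      rw [← act_gl_pt]; exact hmem _
    rw [Module.finrank_fin_fun] at this
    have := C.three
    omega
  obtain ⟨x₀, hx₀⟩ := (C.hU.nondegenerate (pt T u w) (by rw [Ne, pt_eq_zero]; tauto)).1
  obtain ⟨v, hv⟩ : ∃ v, k • act b v - v ≠ 0 := by
    by_contra hno; push Not at hno
    have : act (gl T a b) = LinearMap.id := pt_ext T fun p q => by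
      rw [act_gl_pt, hk, pt_smul_comm, sub_eq_zero.1 (hno q)]; rfl
    have e := hD x₀
    rw [this, LinearMap.id_apply, sub_self, eq_comm, smul_eq_zero] at e
    rcases e with e | e
    · exact mul_ne_zero hθ0 hx₀ e
    · rcases (pt_eq_zero T).1 e with e | e
      · exact hu0 e
      · exact hw0 e
  have h2 := hone (ptL T (k • act b v - v))
    ((injective_iff_map_eq_zero _).2 fun p hp => ((pt_eq_zero T).1 hp).resolve_right hv) fun p => by
      rw [ptL_apply, pt_sub_right, ← pt_smul_comm, ← hk, ← act_gl_pt]; exact hmem _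
  rw [Module.finrank_fin_fun] at h2
  have := C.two_le
  omega

end Cfsg.Agent.MaxCl.Tens
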