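/-
Small geometry of a non-degenerate symmetric bilinear form given as a function, over a field of odd characteristic:
prescribed values, reflections, Siegel elements, isotropic vectors.
-/
import Mathlib
import Cfsg.Agent.Lib.MaxCl.OrthBase
import Cfsg.Agent.Lib.MaxCl.SympSwap

set_option autoImplicit false
set_option linter.unusedSectionVars false

namespace Cfsg.Agent.MaxCl.Sy

open scoped MatrixGroups Matrix
open Module (finrank)

variable {κ : Type} [Fintype κ] [DecidableEq κ] {F : Type*} [Field F]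
variable {f : (κ → F) → (κ → F) → F}

/-- `x ↦ f(x, e) a + f(x, a) e` -/
def symOp (h : Cfsg.Geo.IsSymmetricForm f) (e a : κ → F) : (κ → F) →ₗ[F] (κ → F) :=
  (flin h.bilinear e).smulRight a + (flin h.bilinear a).smulRight e

/-- `x ↦ f(x, e) a - f(x, a) e` -/
def skewOp (h : Cfsg.Geo.IsSymmetricForm f) (e a : κ → F) : (κ → F) →ₗ[F] (κ → F) :=
  (flin h.bilinear e).smulRight a - (flin h.bilinear a).smulRight e

variable (h : Cfsg.Geo.IsSymmetricForm f)
include h

theorem add_left (x y v : κ → F) : f (x + y) v = f x v + f y v := h.bilinear.add_left x y v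
theorem add_right (v x y : κ → F) : f v (x + y) = f v x + f v y := h.bilinear.add_right v x y
theorem smul_left (c : F) (x v : κ → F) : f (c • x) v = c * f x v := h.bilinear.smul_left c x v
theorem smul_right (c : F) (v x : κ → F) : f v (c • x) = c * f v x := h.bilinear.smul_right c v x

theorem zero_left (v : κ → F) : f 0 v = 0 := by simpa using smul_left h 0 0 v
theorem zero_right (v : κ → F) : f v 0 = 0 := by simpa using smul_right h 0 v 0

theorem neg_left (x v : κ → F) : f (-x) v = -f x v := by simpa using smul_left h (-1) x v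
theorem neg_right (v x : κ → F) : f v (-x) = -f v x := by simpa using smul_right h (-1) v x

theorem sub_left (x y v : κ → F) : f (x - y) v = f x v - f y v := by
  rw [sub_eq_add_neg, add_left h, neg_left h, sub_eq_add_neg]

theorem sub_right (v x y : κ → F) : f v (x - y) = f v x - f v y := by
  rw [sub_eq_add_neg, add_right h, neg_right h, sub_eq_add_neg]

theorem symOp_apply (e a x : κ → F) : symOp h e a x = f x e • a + f x a • e := by
  simp [symOp, flin_apply]

theorem skewOp_apply (e a x : κ → F) : skewOp h e a x = f x e • a - f x a • e := by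
  simp [skewOp, flin_apply]

theorem nondegenerate : (toBil h.bilinear).Nondegenerate := by
  refine ⟨fun x hx => ?_, fun x hx => ?_⟩ <;> by_contra h0
  · obtain ⟨y, hy⟩ := (h.nondegenerate x h0).2; exact hy (hx y)
  · obtain ⟨y, hy⟩ := (h.nondegenerate x h0).1; exact hy (hx y)

theorem exists_one {v : κ → F} (hv : v ≠ 0) : ∃ x, f v x = 1 := by
  obtain ⟨x, hx⟩ := (h.nondegenerate v hv).2
  exact ⟨(f v x)⁻¹ • x, by rw [smul_right h, inv_mul_cancel₀ hx]⟩

theorem eq_zero {v : κ → F} (hv : ∀ x, f x v = 0) : v = 0 := by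
  by_contra h0
  obtain ⟨x, hx⟩ := (h.nondegenerate v h0).1
  exact hx (hv x)

theorem ext_right {v v' : κ → F} (hv : ∀ x, f x v = f x v') : v = v' :=
  sub_eq_zero.1 (eq_zero h fun x => by rw [sub_right h, hv, sub_self])

theorem exists_repr (φ : (κ → F) →ₗ[F] F) : ∃ w, ∀ x, φ x = f x w := by
  have inj : Function.Injective (toBil h.bilinear).flip := fun u v e =>
    ext_right h fun x => LinearMap.congr_fun e x
  have hsurj := (LinearMap.injective_iff_surjective_of_finrank_eq_finrank
    (by rw [Subspace.dual_finrank_eq])).1 inj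
  obtain ⟨w, hw⟩ := hsurj φ
  exact ⟨w, fun x => (LinearMap.congr_fun hw x).symm⟩

theorem exists_vec {W : Submodule F (κ → F)} {v : κ → F} (hv : v ∉ W) :
    ∃ x, (∀ w ∈ W, f w x = 0) ∧ f v x = 1 := by
  obtain ⟨φ, h0, h1⟩ := exists_dual W hv
  obtain ⟨x, hx⟩ := exists_repr h φ
  exact ⟨x, fun w hw => by rw [← hx]; exact h0 w hw, by rw [← hx]; exact h1⟩

theorem self_add (x y : κ → F) : f (x + y) (x + y) = f x x + f y y + 2 * f x y := by
  rw [add_left h, add_right h, add_right h, h.symm y x]; ring

theorem self_smul (k : F) (x : κ → F) : f (k • x) (k • x) = k * k * f x x := by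
  rw [smul_left h, smul_right h]; ring

/-- the orthogonal complement inside the space of a subspace -/
theorem finrank_ker_inf {k : ℕ} (D : Submodule F (κ → F)) (a : Fin k → (κ → F)) :
    finrank F D ≤ finrank F (D ⊓ ⨅ i, LinearMap.ker (flin h.bilinear (a i)) : Submodule F (κ → F)) + k := by
  let L : D →ₗ[F] (Fin k → F) := LinearMap.pi fun i => (flin h.bilinear (a i)).domRestrict D
  have h2 := LinearMap.finrank_range_add_finrank_ker L
  have h3 := Submodule.finrank_le (LinearMap.range L)
  rw [Module.finrank_fintype_fun_eq_card, Fintype.card_fin] at h3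
  have h4 : (LinearMap.ker L).map D.subtype ≤ D ⊓ ⨅ i, LinearMap.ker (flin h.bilinear (a i)) := by
    rintro _ ⟨y, hy, rfl⟩
    exact ⟨y.2, (Submodule.mem_iInf _).2 fun i => congrFun (LinearMap.mem_ker.1 hy) i⟩
  have h5 := Submodule.finrank_mono h4
  rw [Submodule.finrank_map_subtype_eq] at h5
  omega

/-- the isometry of the form given by a linear map -/
theorem exists_iso (L : (κ → F) →ₗ[F] (κ → F)) (hL : ∀ x y, f (L x) (L y) = f x y) :
    ∃ g ∈ isoGroup f, ∀ x, act g x = L x := by
  have hinj : Function.Injective L := (injective_iff_map_eq_zero L).2 fun x hx => eq_zero h fun y => by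
    rw [← hL y x, hx, zero_right h]
  obtain ⟨g, hg⟩ := exists_gl_of_injective L hinj
  exact ⟨g, mem_isoGroup.2 fun x y => by rw [hg, hg, hL], hg⟩

theorem exists_refl (e : κ → F) (he : f e e ≠ 0) :
    ∃ g ∈ isoGroup f, ∀ x, act g x = x - (2 * f x e / f e e) • e := by
  refine (exists_iso h (LinearMap.id - ((2 / f e e) • flin h.bilinear e).smulRight e) fun x y => ?_).imp
    fun g hg => ⟨hg.1, fun x => ?_⟩
  · simp only [LinearMap.sub_apply, LinearMap.id_apply, LinearMap.smulRight_apply, LinearMap.smul_apply,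
      flin_apply, smul_eq_mul, sub_left h, sub_right h, smul_left h, smul_right h, h.symm e y]
    field_simp
    ring
  · rw [hg.2]
    simp only [LinearMap.sub_apply, LinearMap.id_apply, LinearMap.smulRight_apply, LinearMap.smul_apply,
      flin_apply, smul_eq_mul]
    congr 2; ring

/-- the Siegel element of an isotropic `c` and an orthogonal `w` -/
theorem exists_siegel {c w : κ → F} (hc : f c c = 0) (hcw : f c w = 0) (h2 : (2 : F) ≠ 0) :
    ∃ g ∈ isoGroup f, ∀ x, act g x = x + f x c • w - (f x w + f x c * f w w / 2) • c := by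
  refine (exists_iso h (LinearMap.id + (flin h.bilinear c).smulRight w -
    (flin h.bilinear w + (f w w / 2) • flin h.bilinear c).smulRight c) fun x y => ?_).imp
    fun g hg => ⟨hg.1, fun x => ?_⟩
  · have hwc : f w c = 0 := by rw [h.symm, hcw]
    simp only [LinearMap.sub_apply, LinearMap.add_apply, LinearMap.id_apply, LinearMap.smulRight_apply,
      LinearMap.smul_apply, flin_apply, smul_eq_mul, sub_left h, sub_right h, add_left h, add_right h,
      smul_left h, smul_right h, hc, hcw, hwc, h.symm c y, h.symm w y]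
    field_simp
    ring
  · rw [hg.2]
    simp only [LinearMap.sub_apply, LinearMap.add_apply, LinearMap.id_apply, LinearMap.smulRight_apply,
      LinearMap.smul_apply, flin_apply, smul_eq_mul]
    congr 2; ring

/-- conjugation of a symmetric operator by an isometry -/
theorem conj_symOp {g : GL κ F} (hg : g ∈ isoGroup f) (e a : κ → F) :
    act g ∘ₗ symOp h e a ∘ₗ act g⁻¹ = symOp h (act g e) (act g a) := by
  apply LinearMap.ext; intro x
  have key : ∀ t, f (act g⁻¹ x) t = f x (act g t) := fun t => by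
    conv_lhs => rw [← mem_isoGroup.1 hg, act_act_inv]
  simp only [LinearMap.comp_apply, symOp_apply h, key, map_add, map_smul]

theorem exists_isotropic [Finite F] {D : Submodule F (κ → F)} (hD : 3 ≤ finrank F D) :
    ∃ x ∈ D, x ≠ 0 ∧ f x x = 0 := by
  obtain ⟨x, hx, hx0, hQ⟩ := Orth.exists_singular (toBil h.bilinear).toQuadraticMap hD
  exact ⟨x, hx, hx0, by simpa [toBil_apply] using hQ⟩

/-- the perpendicular space of two vectors -/
theorem exists_perp_two {a b : κ → F} {D : Submodule F (κ → F)} (hD : 3 ≤ finrank F D) :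
    ∃ x ∈ D, x ≠ 0 ∧ f x a = 0 ∧ f x b = 0 := by
  have := finrank_ker_inf h D ![a, b]
  obtain ⟨x, hx, hx0⟩ := Submodule.exists_mem_ne_zero_of_ne_bot (p := D ⊓ ⨅ i, LinearMap.ker
    (flin h.bilinear (![a, b] i))) (fun e => by rw [e, finrank_bot] at this; omega)
  exact ⟨x, hx.1, hx0, (Submodule.mem_iInf _).1 hx.2 0, (Submodule.mem_iInf _).1 hx.2 1⟩

/-- an anisotropic vector off two hyperplanes, at an isotropic vector -/
theorem exists_aniso (h2 : (2 : F) ≠ 0) {c c' : κ → F} (hc : f c c = 0) (hc0 : c ≠ 0) (hc' : c' ≠ 0)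
    (hcc : f c c' = 0) : ∃ x, f x x ≠ 0 ∧ f x c ≠ 0 ∧ f x c' ≠ 0 := by
  have hne : ∀ {v : κ → F}, v ≠ 0 → LinearMap.ker (flin h.bilinear v) ≠ ⊤ := fun {v} hv e => by
    obtain ⟨y, hy⟩ := (h.nondegenerate v hv).1
    exact hy (LinearMap.mem_ker.1 (e ▸ Submodule.mem_top : y ∈ LinearMap.ker (flin h.bilinear v)))
  obtain ⟨x, hx, hx'⟩ := exists_notMem_two _ _ (hne hc0) (hne hc')
  rw [LinearMap.mem_ker, flin_apply] at hx hx'
  by_cases h0 : f x x = 0
  · refine ⟨x + c, ?_, by rwa [add_left h, hc, add_zero], by rwa [add_left h, hcc, add_zero]⟩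
    rw [self_add h, h0, hc, zero_add, zero_add]
    exact mul_ne_zero h2 hx
  · exact ⟨x, h0, hx, hx'⟩

/-- isometries move an isotropic vector to every other -/
theorem exists_move (h2 : (2 : F) ≠ 0) {c c' : κ → F} (hc : f c c = 0) (hc0 : c ≠ 0) (hc' : f c' c' = 0)
    (hc'0 : c' ≠ 0) : ∃ g ∈ isoGroup f, act g c = c' := by
  have main : ∀ d d' : κ → F, f d d = 0 → f d' d' = 0 → f d d' ≠ 0 → ∃ g ∈ isoGroup f, act g d = d' := by
    intro d d' hd hd' hdd
    have hee : f (d - d') (d - d') = -2 * f d d' := by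
      rw [sub_left h, sub_right h, sub_right h, hd, hd', h.symm d' d]; ring
    have he0 : f (d - d') (d - d') ≠ 0 := by rw [hee]; exact mul_ne_zero (neg_ne_zero.2 h2) hdd
    obtain ⟨g, hg, hga⟩ := exists_refl h _ he0
    refine ⟨g, hg, ?_⟩
    have hcoef : 2 * f d (d - d') / f (d - d') (d - d') = 1 := by
      rw [hee, sub_right h, hd, zero_sub]; field_simp
    rw [hga, hcoef, one_smul, sub_sub_cancel]
  by_cases hcc : f c c' = 0
  · obtain ⟨x, hxx, hxc, hxc'⟩ := exists_aniso h h2 hc hc0 hc'0 hcc
    obtain ⟨g, hg, hga⟩ := exists_refl h x hxx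
    have hd : f (act g c) (act g c) = 0 := by rw [mem_isoGroup.1 hg, hc]
    obtain ⟨g', hg', hga'⟩ := main (act g c) c' hd hc' (by
      rw [hga, sub_left h, smul_left h, hcc, zero_sub, neg_ne_zero, h.symm c x]
      exact mul_ne_zero (div_ne_zero (mul_ne_zero h2 hxc) hxx) hxc')
    exact ⟨g' * g, mul_mem hg' hg, by rw [act_mul, hga']⟩
  · exact main c c' hc hc' hcc

/-- an anisotropic vector orthogonal to a hyperbolic pair -/
theorem exists_perp_aniso (h2 : (2 : F) ≠ 0) (h3 : 3 ≤ Fintype.card κ) {e z : κ → F} (hez : f e z ≠ 0)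
    (hz : f z z = 0) : ∃ p, f p p ≠ 0 ∧ f p e = 0 ∧ f p z = 0 := by
  obtain ⟨y, -, hy0, hye, hyz⟩ := exists_perp_two h (D := ⊤) (a := e) (b := z)
    (by rwa [finrank_top, Module.finrank_pi])
  by_cases hyy : f y y ≠ 0
  · exact ⟨y, hyy, hye, hyz⟩
  push Not at hyy
  obtain ⟨x, hx⟩ := exists_one h hy0
  obtain ⟨α, hα⟩ : ∃ α, α = f x z / f e z := ⟨_, rfl⟩
  obtain ⟨β, hβ⟩ : ∃ β, β = (f x e - α * f e e) / f e z := ⟨_, rfl⟩
  have hze : f z e = f e z := h.symm _ _
  have h1e : f (x - α • e - β • z) e = 0 := by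
    rw [sub_left h, sub_left h, smul_left h, smul_left h, hze, hβ]; field_simp; ring
  have h1z : f (x - α • e - β • z) z = 0 := by
    rw [sub_left h, sub_left h, smul_left h, smul_left h, hz, hα]; field_simp; ring
  have h1y : f y (x - α • e - β • z) = 1 := by
    rw [sub_right h, sub_right h, smul_right h, smul_right h, hye, hyz, hx, mul_zero, mul_zero, sub_zero,
      sub_zero]
  by_cases hxx : f (x - α • e - β • z) (x - α • e - β • z) = 0
  · refine ⟨y + (x - α • e - β • z), ?_, by rw [add_left h, hye, h1e, add_zero],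
      by rw [add_left h, hyz, h1z, add_zero]⟩
    rw [self_add h, hyy, hxx, h1y, add_zero, zero_add, mul_one]
    exact h2
  · exact ⟨_, hxx, h1e, h1z⟩

omit h in
variable (f) in
/-- a reflection, or the identity -/
noncomputable def yr (e : κ → F) : GL κ F := by
  classical
  exact if he : ∃ g ∈ isoGroup f, ∀ x, act g x = x - (2 * f x e / f e e) • e then he.choose else 1

theorem act_yr {e : κ → F} (he : f e e ≠ 0) (x : κ → F) :
    act (yr f e) x = x - (2 * f x e / f e e) • e := by
  have hex := exists_refl h e he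
  rw [yr, dif_pos hex]
  exact hex.choose_spec.2 x

theorem yr_mem {e : κ → F} (he : f e e ≠ 0) : yr f e ∈ isoGroup f := by
  have hex := exists_refl h e he
  rw [yr, dif_pos hex]
  exact hex.choose_spec.1

theorem yr_self {e : κ → F} (he : f e e ≠ 0) : act (yr f e) e = -e := by
  rw [act_yr h he, show 2 * f e e / f e e = (2 : F) by field_simp]
  module

theorem yr_fix {e x : κ → F} (he : f e e ≠ 0) (hx : f x e = 0) : act (yr f e) x = x := by
  rw [act_yr h he, hx, mul_zero, zero_div, zero_smul, sub_zero]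

theorem yr_sq {e : κ → F} (he : f e e ≠ 0) : yr f e * yr f e = 1 := by
  refine gl_ext fun x => ?_
  rw [act_mul, act_one]
  conv_lhs => arg 2; rw [act_yr h he]
  rw [map_sub, map_smul, yr_self h he, act_yr h he]
  module

theorem yr_inv {e : κ → F} (he : f e e ≠ 0) : (yr f e)⁻¹ = yr f e :=
  inv_eq_of_mul_eq_one_right (yr_sq h he)

end Cfsg.Agent.MaxCl.Sy
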