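/-
Maximality of the subspace, decomposition, quadratic-form and extension-field types in symplectic groups,
without the restriction to large dimension.
-/
import Cfsg.Agent.Lib.MaxCl.SympStab
import Cfsg.Agent.Lib.MaxCl.SympSwap
import Cfsg.Agent.Lib.MaxCl.SympExtField
import Cfsg.Agent.Lib.MaxCl.FieldSubalgebra

set_option autoImplicit false
set_option linter.style.haveILetI false
set_option synthInstance.maxHeartbeats 200000
set_option maxHeartbeats 800000

open Cfsg
open scoped Matrix

namespace Cfsg.Agent.MaxCl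

/-- The stabiliser of a non-zero totally singular subspace is maximal. -/
theorem sp_singular_maximal {F : Type*} [Field F] [Fintype F] (m : ℕ) (W : Submodule F (Fin m ⊕ Fin m → F)) (hW0 : W ≠ ⊥) (hW : Cfsg.Geo.IsTotallySingularFor (Cfsg.sympForm m F) W) : Cfsg.Geo.IsMaximalIn (Cfsg.spGL m F) (Cfsg.Geo.subspaceStabilizer W ⊓ Cfsg.spGL m F) := by
  have hf := sympForm_isSymplectic m F
  set f := Cfsg.sympForm m F
  have hWW : W ≤ perp hf W := fun x hx => (mem_perp hf).2 fun w hw => hW x hx w hw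
  -- a vector outside the perp
  obtain ⟨w₀, hw₀, hw₀0⟩ : ∃ a ∈ W, a ≠ 0 := Submodule.exists_mem_ne_zero_of_ne_bot hW0
  obtain ⟨z₀, hz₀⟩ := (hf.nondegenerate w₀ hw₀0).1
  refine ⟨lt_of_le_of_ne inf_le_right ?_, ?_⟩
  · intro heq
    have hmem := (inf_eq_right.1 heq) (stv_mem hf z₀ 1 : stv hf z₀ 1 ∈ Cfsg.spGL m F)
    have h1 := (mem_subspaceStabilizer.1 hmem w₀).1 hw₀
    rw [act_stv hf, W.add_mem_iff_right hw₀, one_mul, W.smul_mem_iff (f_ne_symm hf hz₀)] at h1
    exact hz₀ (hW z₀ h1 w₀ hw₀)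
  intro M hM1 hM2
  by_cases hsub : M ≤ Cfsg.Geo.subspaceStabilizer W
  · exact Or.inl (le_antisymm (le_inf hsub hM2) hM1)
  right
  obtain ⟨g, hgM, hg⟩ := SetLike.not_le_iff_exists.1 hsub
  have hgf : g ∈ isoGroup f := hM2 hgM
  have hWf : ∀ u, u ∈ perp hf W → Full hf M u := fun u hu c =>
    hM1 ⟨stv_mem_stabilizer hf (Or.inr hu) c, stv_mem hf u c⟩
  obtain ⟨v₀, hv₀, hv₀W⟩ : ∃ v, Full hf M v ∧ v ∉ perp hf W := by
    by_contra hno; push Not at hno
    apply hg
    have e : (perp hf W).map (act g) = perp hf W := by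
      refine Submodule.eq_of_le_of_finrank_eq ?_ (finrank_map_act _ _)
      rintro _ ⟨u, hu, rfl⟩
      exact hno _ (full_conj hf hgM hgf (hWf u hu))
    rw [map_perp hf hgf] at e
    have e' : W.map (act g) = W := by rw [← perp_perp hf (W.map (act g)), e, perp_perp hf]
    exact mem_subspaceStabilizer_of_le fun v hv => e' ▸ ⟨v, hv, rfl⟩
  -- everything not orthogonal to `a`
  have key : ∀ a ∈ W, f v₀ a ≠ 0 → ∀ x, f x a ≠ 0 → Full hf M x := by
    intro a ha h0 x hx
    set s := f v₀ a / f x a with hs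
    have hs0 : s ≠ 0 := div_ne_zero h0 hx
    suffices H : Full hf M (s • x) by
      have := full_smul hf H s⁻¹
      rwa [inv_smul_smul₀ hs0] at this
    obtain ⟨y, hydef⟩ : ∃ y, y = s • x - v₀ := ⟨_, rfl⟩
    have hy : f y a = 0 := by
      rw [hydef, f_sub_left hf, f_smul_left hf, hs, div_mul_cancel₀ _ hx, sub_self]
    obtain ⟨b, hbdef⟩ : ∃ b, b = (f v₀ a)⁻¹ • y := ⟨_, rfl⟩
    have hab : f a b = 0 := by
      rw [hbdef, f_smul_right hf, f_eq_zero_symm hf hy, mul_zero]
    have hba : f b a = 0 := f_eq_zero_symm hf hab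
    let Y := stv hf (a + b) 1 * stv hf a (-1) * stv hf b (-1)
    have hY : ∀ z, act Y z = z + f z a • b + f z b • a := by
      intro z
      simp only [Y, act_mul, act_stv hf, f_add_left hf, f_smul_left hf, f_add_right hf,
        f_self hf, hab, hba]
      match_scalars <;> ring
    have hYf : Y ∈ isoGroup f :=
      mul_mem (mul_mem (stv_mem hf _ _) (stv_mem hf _ _)) (stv_mem hf _ _)
    have hYW : Y ∈ Cfsg.Geo.subspaceStabilizer W := by
      refine mem_subspaceStabilizer_of_le fun z hz => ?_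
      rw [hY, hW z hz a ha, zero_smul, add_zero]
      exact W.add_mem hz (W.smul_mem _ ha)
    have h1 := full_conj hf (hM1 ⟨hYW, hYf⟩) hYf hv₀
    rw [hY] at h1
    have hne : f (v₀ + f v₀ a • b + f v₀ b • a) a ≠ 0 := by
      simpa [f_add_left hf, f_smul_left hf, hba, f_self hf] using h0
    have h2 := full_add hf (hWf a (hWW ha)) h1 hne (-f v₀ b)
    rw [neg_smul, add_neg_cancel_right, hbdef, smul_inv_smul₀ h0, hydef, add_sub_cancel] at h2
    exact h2
  refine le_antisymm hM2 (isoGroup_le_of_full hf M fun x => ?_)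
  by_cases hx : x ∈ perp hf W
  · exact hWf x hx
  simp only [mem_perp hf] at hx hv₀W
  push Not at hx hv₀W
  obtain ⟨a₁, ha₁, hxa⟩ := hx
  obtain ⟨a₂, ha₂, hva⟩ := hv₀W
  by_cases h : f v₀ a₁ = 0
  · by_cases h' : f x a₂ = 0
    · refine key (a₁ + a₂) (W.add_mem ha₁ ha₂) ?_ x ?_
      · rw [f_add_right hf, h, zero_add]; exact hva
      · rw [f_add_right hf, h', add_zero]; exact hxa
    · exact key a₂ ha₂ hva x h'
  · exact key a₁ ha₁ h x hxa

/-- The stabiliser of an orthogonal decomposition is maximal. -/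
theorem sp_decomposition_maximal {F : Type*} [Field F] [Fintype F] (m : ℕ) (hm : 2 ≤ m) {t : ℕ} (k : ℕ) (D : Fin t → Submodule F (Fin m ⊕ Fin m → F)) (hD : Cfsg.Geo.IsNondegenerateMDecomposition (Cfsg.sympForm m F) k D) (hex : ¬ (k = 2 ∧ Fintype.card F = 2)) : Cfsg.Geo.IsMaximalIn (Cfsg.spGL m F) (Cfsg.Geo.decompositionStabilizer D ⊓ Cfsg.spGL m F) := by
  classical
  have hf := sympForm_isSymplectic m F
  set f := Cfsg.sympForm m F
  have hdim := hD.decomp.finrank_eq
  have ht : 2 ≤ t := hD.decomp.two_le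
  have hk0 : 0 < k := hD.decomp.pos
  have hex0 : ∀ i, ∃ x ∈ D i, x ≠ 0 := fun i => Submodule.exists_mem_ne_zero_of_ne_bot (by
    intro h; have := hdim i; rw [h, finrank_bot] at this; omega)
  have hex1 : ∀ i, ∃ x ∈ D i, ∃ y ∈ D i, f x y ≠ 0 := by
    intro i
    obtain ⟨x, hx, hx0⟩ := hex0 i
    obtain ⟨y, hy, h⟩ := (hD.nondegenerate i x hx hx0).2
    exact ⟨x, hx, y, hy, h⟩
  have hex2 : ∀ i, ∃ x ∈ D i, ∃ y ∈ D i, x ≠ 0 ∧ y ≠ 0 ∧ x + y ≠ 0 ∧ f x y = 0 := by
    intro i
    obtain ⟨x, hx, hx0⟩ := hex0 i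
    by_cases hq : ∃ a : F, a ≠ 0 ∧ a ≠ -1
    · obtain ⟨a, ha, ha'⟩ := hq
      refine ⟨x, hx, a • x, (D i).smul_mem a hx, hx0, smul_ne_zero ha hx0, ?_, ?_⟩
      · rw [show x + a • x = (1 + a) • x by rw [add_smul, one_smul]]
        exact smul_ne_zero (fun h => ha' (eq_neg_of_add_eq_zero_right h)) hx0
      · rw [f_smul_right hf, f_self hf, mul_zero]
    · push Not at hq
      have hk2 : 3 ≤ k := by
        by_contra hk2
        obtain ⟨y, hy, hxy⟩ := (hD.nondegenerate i x hx hx0).2
        have hle : F ∙ x ≤ D i := (Submodule.span_singleton_le_iff_mem _ _).2 hx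
        rcases Nat.lt_or_ge k 2 with hk1 | hk1
        · have : F ∙ x = D i := Submodule.eq_of_le_of_finrank_eq hle (by
            rw [finrank_span_singleton hx0, hdim i]; omega)
          rw [← this] at hy
          obtain ⟨a, rfl⟩ := Submodule.mem_span_singleton.1 hy
          rw [f_smul_right hf, f_self hf, mul_zero] at hxy
          exact hxy rfl
        · have hc : (Finset.univ : Finset F) = {0, -1} := Finset.ext fun a => by
            simp only [Finset.mem_univ, Finset.mem_insert, Finset.mem_singleton, true_iff]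
            exact (em (a = 0)).imp_right (fun h => hq a h)
          have hc' : Fintype.card F ≤ 2 := by
            rw [← Finset.card_univ, hc]; exact Finset.card_le_two
          exact hex ⟨by omega, le_antisymm hc' Fintype.one_lt_card⟩
      obtain ⟨y, hy, hyx⟩ := SetLike.not_le_iff_exists.1 (show ¬ D i ⊓ LinearMap.ker (flin hf.bilinear x) ≤ F ∙ x by
        intro hle
        have h1 := Submodule.finrank_mono hle
        rw [finrank_span_singleton hx0] at h1
        have h2 := Submodule.finrank_sup_add_finrank_inf_eq (D i) (LinearMap.ker (flin hf.bilinear x))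
        have h3 := Submodule.finrank_le (D i ⊔ LinearMap.ker (flin hf.bilinear x))
        have h4 := LinearMap.finrank_range_add_finrank_ker (flin hf.bilinear x)
        have h5 : Module.finrank F (LinearMap.range (flin hf.bilinear x)) ≤ 1 := by
          simpa using Submodule.finrank_le (LinearMap.range (flin hf.bilinear x))
        have := hdim i
        omega)
      refine ⟨x, hx, y, hy.1, hx0, ?_, ?_, f_eq_zero_symm hf (LinearMap.mem_ker.1 hy.2)⟩
      · rintro rfl; exact hyx (Submodule.zero_mem _)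
      · intro h; apply hyx
        rw [eq_neg_of_add_eq_zero_right h]
        exact Submodule.neg_mem _ (Submodule.mem_span_singleton_self _)
  have hdisj : ∀ i j, i ≠ j → ∀ x, x ∈ D i → x ∈ D j → x = 0 := fun i j hij x hi hj => by
    by_contra h
    obtain ⟨y, hy, hxy⟩ := (hD.nondegenerate i x hi h).2
    exact hxy (f_eq_zero_symm hf (hD.orthogonal i j hij y hy x hj))
  have hrep : ∀ v, ∃ d : Fin t → (Fin m ⊕ Fin m → F), (∀ i, d i ∈ D i) ∧ ∑ i, d i = v := by
    intro v
    have hv : v ∈ ⨆ i, D i := by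
      rw [show (⨆ i, D i) = ⊤ from hD.decomp.iSup_eq_top]; trivial
    obtain ⟨d, hd⟩ := (Submodule.mem_iSup_iff_exists_finsupp D v).1 hv
    exact ⟨d, hd.1, by rw [← hd.2, Finsupp.sum_fintype _ _ (fun _ => rfl)]⟩
  have hsum : ∀ (s : Finset (Fin t)) (d : Fin t → (Fin m ⊕ Fin m → F)), (∀ i ∈ s, d i ∈ D i) →
      ∀ j, ∀ x ∈ D j, f (∑ i ∈ s, d i) x = if j ∈ s then f (d j) x else 0 := by
    intro s d hd j x hx
    rw [← flin_apply hf.bilinear, map_sum]
    simp only [flin_apply]
    rw [← Finset.sum_ite_eq' s j (fun i => f (d i) x)]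
    refine Finset.sum_congr rfl fun i hi => ?_
    split
    · rfl
    · exact hD.orthogonal i j (by assumption) _ (hd i hi) x hx
  have hmap : ∀ {g : GL (Fin m ⊕ Fin m) F} {i j : Fin t}, (∀ x ∈ D i, act g x ∈ D j) →
      (D i).map (act g) = D j := fun {g i j} h =>
    Submodule.eq_of_le_of_finrank_eq (Submodule.map_le_iff_le_comap.2 h)
      (by rw [finrank_map_act, hdim, hdim])
  have hmem : ∀ (g : GL (Fin m ⊕ Fin m) F) (σ : Equiv.Perm (Fin t)),
      (∀ i, ∀ x ∈ D i, act g x ∈ D (σ i)) → g ∈ Cfsg.Geo.decompositionStabilizer D :=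
    fun g σ h => ⟨σ, fun i => hmap (h i)⟩
  -- strictness
  refine ⟨lt_of_le_of_ne inf_le_right ?_, ?_⟩
  · intro heq
    let i : Fin t := ⟨0, by omega⟩
    let j : Fin t := ⟨1, by omega⟩
    have hij : i ≠ j := by simp [i, j, Fin.ext_iff]
    obtain ⟨x, hx, y, hy, hxy⟩ := hex1 i
    obtain ⟨b, hb, hb0⟩ := hex0 j
    obtain ⟨σ, hσ⟩ := (inf_eq_right.1 heq) (stv_mem hf (y + b) 1 : stv hf (y + b) 1 ∈ Cfsg.spGL m F)
    have h1 : act (stv hf (y + b) 1) x ∈ D (σ i) := by
      rw [← hσ i]; exact ⟨x, hx, rfl⟩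
    rw [act_stv hf, f_add_right hf, hD.orthogonal i j hij x hx b hb, add_zero, one_mul, smul_add] at h1
    rcases eq_or_ne (σ i) i with hsi | hsi
    · rw [hsi, ← add_assoc, (D i).add_mem_iff_right ((D i).add_mem hx ((D i).smul_mem _ hy))] at h1
      exact smul_ne_zero hxy hb0 (hdisj i j hij _ h1 ((D j).smul_mem _ hb))
    · -- pair against a vector of `D i`
      obtain ⟨z, hz, hz'⟩ := (hD.nondegenerate i (x + f x y • y) ((D i).add_mem hx ((D i).smul_mem _ hy)) (by
        intro h
        have := congrArg (flin hf.bilinear y) h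
        simp [flin_apply, f_self hf, f_zero_left hf, f_add_left hf, f_smul_left hf] at this
        exact hxy this)).2
      have := hD.orthogonal (σ i) i hsi _ h1 z hz
      rw [← add_assoc, f_add_left hf, f_smul_left hf (f x y) b, hD.orthogonal j i hij.symm b hb z hz,
        mul_zero, add_zero] at this
      exact hz' this
  intro M hM1 hM2
  by_cases hsub : M ≤ Cfsg.Geo.decompositionStabilizer D
  · exact Or.inl (le_antisymm (le_inf hsub hM2) hM1)
  right
  obtain ⟨g, hgM, hg⟩ := SetLike.not_le_iff_exists.1 hsub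
  have hgf : g ∈ isoGroup f := hM2 hgM
  have hDf : ∀ i, ∀ u ∈ D i, Full hf M u := by
    intro i u hu c
    refine hM1 ⟨hmem _ 1 fun j x hx => ?_, stv_mem hf u c⟩
    rw [act_stv hf, Equiv.Perm.one_apply]
    rcases eq_or_ne j i with rfl | hji
    · exact (D j).add_mem hx ((D j).smul_mem _ hu)
    · rw [hD.orthogonal j i hji x hx u hu]; simpa using hx
  -- changing components
  let S : Finset (Fin t) → Prop := fun s =>
    ∀ d : Fin t → (Fin m ⊕ Fin m → F), (∀ i ∈ s, d i ∈ D i ∧ d i ≠ 0) → Full hf M (∑ i ∈ s, d i)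
  have hS : ∀ (s : Finset (Fin t)) (d : Fin t → (Fin m ⊕ Fin m → F)),
      (∀ i ∈ s, d i ∈ D i ∧ d i ≠ 0) → Full hf M (∑ i ∈ s, d i) → S s := by
    intro s d hd hfull d' hd'
    suffices H : ∀ r : Finset (Fin t), r ⊆ s → Full hf M (∑ i ∈ s, if i ∈ r then d' i else d i) by
      have := H s subset_rfl
      rwa [Finset.sum_congr rfl (fun i hi => if_pos hi)] at this
    intro r
    induction r using Finset.induction_on with
    | empty => intro; simpa using hfull
    | insert a r har ih =>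
      intro hrs
      have has : a ∈ s := hrs (Finset.mem_insert_self a r)
      have h := ih (fun i hi => hrs (Finset.mem_insert_of_mem hi))
      rw [← Finset.add_sum_erase s _ has, if_neg har] at h
      rw [← Finset.add_sum_erase s _ has, if_pos (Finset.mem_insert_self a r)]
      have e : ∀ i ∈ s.erase a, (if i ∈ insert a r then d' i else d i) = if i ∈ r then d' i else d i := by
        intro i hi
        simp [Finset.ne_of_mem_erase hi]
      rw [Finset.sum_congr rfl e]
      refine full_move_in hf (hD.nondegenerate a) (hDf a) (hd a has).1 (hd a has).2 ?_ h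
        (hd' a has).1 (hd' a has).2
      intro w hw
      rw [hsum _ _ (fun i hi => ?_) a w hw, if_neg (Finset.notMem_erase a s)]
      split
      · exact (hd' i (Finset.mem_of_mem_erase hi)).1
      · exact (hd i (Finset.mem_of_mem_erase hi)).1
  -- a vector with at least two components
  obtain ⟨s₀, hs₀, hS₀⟩ : ∃ s : Finset (Fin t), 2 ≤ s.card ∧ S s := by
    by_contra hno
    apply hg
    have hin : ∀ i, ∀ x ∈ D i, ∃ j, act g x ∈ D j := by
      intro i x hx
      obtain ⟨d, hd, hdsum⟩ := hrep (act g x)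
      set s := Finset.univ.filter (fun i => d i ≠ 0) with hs
      have hsum' : ∑ i ∈ s, d i = act g x := by
        rw [hs, Finset.sum_filter_ne_zero, hdsum]
      have hc : s.card ≤ 1 := by
        by_contra hc
        exact hno ⟨s, by omega, hS s d (fun i hi => ⟨hd i, (Finset.mem_filter.1 hi).2⟩)
          (hsum' ▸ full_conj hf hgM hgf (hDf i x hx))⟩
      rcases Nat.le_one_iff_eq_zero_or_eq_one.1 hc with h0 | h1
      · refine ⟨i, ?_⟩
        rw [← hsum', Finset.card_eq_zero.1 h0, Finset.sum_empty]; exact Submodule.zero_mem _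
      · obtain ⟨j, hj⟩ := Finset.card_eq_one.1 h1
        exact ⟨j, by rw [← hsum', hj, Finset.sum_singleton]; exact hd j⟩
    have hto : ∀ i, ∃ j, ∀ x ∈ D i, act g x ∈ D j := by
      intro i
      obtain ⟨x, hx, hx0⟩ := hex0 i
      obtain ⟨j, hj⟩ := hin i x hx
      refine ⟨j, fun y hy => ?_⟩
      obtain ⟨l, hl⟩ := hin i y hy
      rcases eq_or_ne l j with rfl | hlj
      · exact hl
      obtain ⟨p, hp⟩ := hin i (x + y) ((D i).add_mem hx hy)
      rw [map_add] at hp
      rcases eq_or_ne p j with rfl | hpj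
      · exact ((D p).add_mem_iff_right hj).1 hp
      rcases eq_or_ne p l with rfl | hpl
      · have := hdisj p j hlj _ (((D p).add_mem_iff_left hl).1 hp) hj
        exact absurd (act_injective g (this.trans (map_zero _).symm)) hx0
      exfalso
      obtain ⟨z, hz, hz'⟩ := (hD.nondegenerate j (act g x) hj
        (fun h => hx0 (act_injective g (h.trans (map_zero _).symm)))).1
      apply hz'
      have e1 := hD.orthogonal j p hpj.symm z hz _ hp
      rwa [f_add_right hf, hD.orthogonal j l hlj.symm z hz _ hl, add_zero] at e1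
    choose σ hσ using hto
    have hinj : Function.Injective σ := by
      intro a b hab
      by_contra hne
      obtain ⟨x, hx, hx0⟩ := hex0 a
      have e1 := hmap (hσ a)
      have e2 := hmap (hσ b)
      have hgx : act g x ∈ (D b).map (act g) := by rw [e2, ← hab]; exact hσ a x hx
      obtain ⟨y, hy, hyx⟩ := hgx
      rw [act_injective g hyx] at hy
      exact hx0 (hdisj a b hne x hx hy)
    exact hmem g (Equiv.ofBijective σ (Finite.injective_iff_bijective.1 hinj)) hσ
  -- two components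
  obtain ⟨i₀, hi₀, j₀, hj₀, hij₀⟩ := Finset.one_lt_card.1 hs₀
  have hpair0 : S {i₀, j₀} := by
    obtain ⟨a, ha, a', ha', haa⟩ := hex1 i₀
    obtain ⟨b, hb, b', hb', hb0, hb'0, hbb, hbb'⟩ := hex2 j₀
    choose z hz hz0 using hex0
    let d : Fin t → (Fin m ⊕ Fin m → F) := fun i => if i = i₀ then a else if i = j₀ then b else z i
    let e : Fin t → (Fin m ⊕ Fin m → F) := fun i => if i = i₀ then a' else if i = j₀ then b' else -z i
    have ha0 : a ≠ 0 := fun h => haa (by rw [h, f_zero_left hf])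
    have ha'0 : a' ≠ 0 := fun h => haa (by rw [h, f_zero_right hf])
    have haa0 : a + a' ≠ 0 := by
      intro h
      rw [eq_neg_of_add_eq_zero_right h, ← neg_one_smul F a, f_smul_right hf, f_self hf, mul_zero] at haa
      exact haa rfl
    have hd : ∀ i ∈ s₀, d i ∈ D i ∧ d i ≠ 0 := by
      intro i _; simp only [d]; split
      · subst i; exact ⟨ha, ha0⟩
      · split
        · subst i; exact ⟨hb, hb0⟩
        · exact ⟨hz i, hz0 i⟩
    have he : ∀ i ∈ s₀, e i ∈ D i ∧ e i ≠ 0 := by
      intro i _; simp only [e]; split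
      · subst i; exact ⟨ha', ha'0⟩
      · split
        · subst i; exact ⟨hb', hb'0⟩
        · exact ⟨(D i).neg_mem (hz i), neg_ne_zero.2 (hz0 i)⟩
    have hde : f (∑ i ∈ s₀, d i) (∑ i ∈ s₀, e i) = f a a' := by
      rw [show f (∑ i ∈ s₀, d i) (∑ i ∈ s₀, e i) = ∑ i ∈ s₀, f (d i) (e i) from ?_]
      · rw [Finset.sum_eq_single i₀]
        · simp [d, e]
        · intro i _ hne
          simp only [d, e, if_neg hne]
          split
          · exact hbb'
          · rw [← neg_one_smul F (z i), f_smul_right hf, f_self hf, mul_zero]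
        · exact fun h => absurd hi₀ h
      rw [← toBil_apply hf.bilinear, map_sum]
      refine Finset.sum_congr rfl fun i hi => ?_
      rw [toBil_apply, hsum s₀ d (fun j hj => (hd j hj).1) i _ (he i hi).1, if_pos hi]
    have h2 := full_add hf (hS₀ e he) (hS₀ d hd) (by rw [hde]; exact haa) 1
    rw [one_smul, ← Finset.sum_add_distrib,
      ← Finset.sum_subset (s₁ := {i₀, j₀}) (by simp [Finset.insert_subset_iff, hi₀, hj₀])] at h2
    · refine hS _ _ (fun i hi => ?_) h2
      rcases Finset.mem_insert.1 hi with rfl | hi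
      · simpa [d, e] using ⟨(D i).add_mem ha ha', haa0⟩
      · rw [Finset.mem_singleton] at hi; subst hi
        simpa [d, e, hij₀.symm] using ⟨(D i).add_mem hb hb', hbb⟩
    · intro i _ hi
      simp only [Finset.mem_insert, Finset.mem_singleton, not_or] at hi
      simp [d, e, hi.1, hi.2]
  -- all pairs
  have hswap : ∀ a b c : Fin t, a ≠ b → S {a, b} → c ≠ b → S {c, b} := by
    intro a b c hab hSab hcb
    rcases eq_or_ne a c with rfl | hac
    · exact hSab
    obtain ⟨h, hhf, hh1, hh2, hh3⟩ := exists_swap hf k (D a) (D c) (hdim a) (hdim c)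
      (hD.nondegenerate a) (hD.nondegenerate c) (hD.orthogonal a c hac)
    have hfix : ∀ l, l ≠ a → l ≠ c → ∀ x ∈ D l, act h x = x := fun l hla hlc x hx =>
      hh3 x (fun u hu => hD.orthogonal l a hla x hx u hu) (fun u hu => hD.orthogonal l c hlc x hx u hu)
    have hhM : h ∈ M := by
      refine hM1 ⟨hmem h (Equiv.swap a c) fun l x hx => ?_, hhf⟩
      by_cases h1 : l = a
      · subst h1; rw [Equiv.swap_apply_left]; exact hh1 x hx
      by_cases h2 : l = c
      · subst h2; rw [Equiv.swap_apply_right]; exact hh2 x hx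
      rw [Equiv.swap_apply_of_ne_of_ne h1 h2, hfix l h1 h2 x hx]; exact hx
    choose z hz hz0 using hex0
    have := full_conj hf hhM hhf (hSab z (fun i _ => ⟨hz i, hz0 i⟩))
    rw [map_sum, Finset.sum_pair hab, hfix b hab.symm hcb.symm _ (hz b)] at this
    refine hS _ (fun i => if i = b then z b else act h (z a)) (fun i hi => ?_) ?_
    · rcases Finset.mem_insert.1 hi with rfl | hi
      · simp only [if_neg hcb]
        exact ⟨hh1 _ (hz a), fun e => hz0 a (act_injective h (e.trans (map_zero _).symm))⟩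
      · rw [Finset.mem_singleton] at hi; subst hi; simp [hz, hz0]
    · rw [Finset.sum_pair hcb]; simpa [hcb] using this
  have hpairs : ∀ a b, a ≠ b → S {a, b} := by
    intro a b hab
    rcases eq_or_ne a j₀ with rfl | haj
    · have h1 := hswap i₀ a b hij₀ hpair0 hab.symm
      rwa [Finset.pair_comm]
    · have h1 := hswap i₀ j₀ a hij₀ hpair0 haj
      rw [Finset.pair_comm] at h1
      have h2 := hswap j₀ a b haj.symm h1 hab.symm
      rwa [Finset.pair_comm]
  -- all supports
  have hall : ∀ s : Finset (Fin t), S s := by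
    intro s
    induction s using Finset.induction_on with
    | empty => intro d _; simpa using full_zero hf M
    | insert j s hjs ih =>
      rcases s.eq_empty_or_nonempty with rfl | ⟨l, hl⟩
      · intro d hd
        simp only [insert_empty_eq, Finset.sum_singleton]
        exact hDf j _ (hd j (by simp)).1
      choose z hz hz0 using hex0
      obtain ⟨x, hx, y, hy, hxy⟩ := hex1 l
      have hx0 : x ≠ 0 := fun h => hxy (by rw [h, f_zero_left hf])
      have hy0 : y ≠ 0 := fun h => hxy (by rw [h, f_zero_right hf])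
      have hxy0 : x + y ≠ 0 := by
        intro h
        rw [eq_neg_of_add_eq_zero_right h, ← neg_one_smul F x, f_smul_right hf, f_self hf, mul_zero] at hxy
        exact hxy rfl
      have hlj : l ≠ j := fun h => hjs (h ▸ hl)
      let d : Fin t → (Fin m ⊕ Fin m → F) := fun i => if i = l then x else z i
      have hd : ∀ i ∈ s, d i ∈ D i ∧ d i ≠ 0 := by
        intro i _; simp only [d]; split
        · subst i; exact ⟨hx, hx0⟩
        · exact ⟨hz i, hz0 i⟩
      have h1 := ih d hd
      have h2 := hpairs l j hlj (fun i => if i = l then y else z i) (fun i hi => by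
        split
        · subst i; exact ⟨hy, hy0⟩
        · exact ⟨hz i, hz0 i⟩)
      rw [Finset.sum_pair hlj] at h2
      simp only [if_true, if_neg hlj.symm] at h2
      have hne : f (∑ i ∈ s, d i) (y + z j) ≠ 0 := by
        rw [f_add_right hf, hsum s d (fun i hi => (hd i hi).1) l y hy, if_pos hl,
          hsum s d (fun i hi => (hd i hi).1) j (z j) (hz j), if_neg hjs, add_zero]
        simpa [d] using hxy
      have h3 := full_add hf h2 h1 hne 1
      refine hS _ (fun i => if i = l then x + y else z i) (fun i hi => ?_) ?_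
      · split
        · subst i; exact ⟨(D _).add_mem hx hy, hxy0⟩
        · exact ⟨hz i, hz0 i⟩
      · rw [Finset.sum_insert hjs, if_neg hlj.symm]
        have e : (fun i => if i = l then x + y else z i) = fun i => d i + if i = l then y else 0 := by
          funext i; simp only [d]; split <;> simp
        rw [e, Finset.sum_add_distrib, Finset.sum_ite_eq' s l (fun _ => y), if_pos hl]
        convert h3 using 1
        rw [one_smul]; abel
  refine le_antisymm hM2 (isoGroup_le_of_full hf M fun v => ?_)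
  obtain ⟨d, hd, rfl⟩ := hrep v
  rw [← Finset.sum_filter_ne_zero (s := Finset.univ)]
  exact hall _ d (fun i hi => ⟨hd i, (Finset.mem_filter.1 hi).2⟩)

/-- In characteristic two the orthogonal groups are maximal. -/
theorem sp_quadratic_maximal {F : Type*} [Field F] [Fintype F] (m : ℕ) (hm : 2 ≤ m) (heven : ¬ Odd (Fintype.card F)) (Q : (Fin m ⊕ Fin m → F) → F) (hQ : Cfsg.Geo.IsNondegenerateQuadraticForm Q) (hpol : ∀ u v, QuadraticMap.polar Q u v = Cfsg.sympForm m F u v) : Cfsg.Geo.IsMaximalIn (Cfsg.spGL m F) (Cfsg.Geo.quadSimilarityGroup Q ⊓ Cfsg.spGL m F) := by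
  have hf := sympForm_isSymplectic m F
  set f := Cfsg.sympForm m F
  have hchar : ringChar F = 2 := by
    by_contra h
    exact heven (Nat.odd_iff.2 (FiniteField.odd_card_of_char_ne_two h))
  haveI : CharP F 2 := hchar ▸ ringChar.charP F
  have hsq : ∀ a : F, ∃ s, a = s * s := FiniteField.isSquare_of_char_two hchar
  have hneg : ∀ a : F, -a = a := CharTwo.neg_eq
  have hQadd : ∀ x y, Q (x + y) = Q x + Q y + f x y := by
    intro x y; rw [← hpol]; simp [QuadraticMap.polar]
  have hQs : ∀ (a : F) x, Q (a • x) = a ^ 2 * Q x := hQ.smul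
  have hQ0 : Q 0 = 0 := by simpa using hQs 0 0
  let H := Cfsg.Geo.quadSimilarityGroup Q ⊓ Cfsg.spGL m F
  have hrefl : ∀ v, Q v ≠ 0 → stv hf v (1 / Q v) ∈ H := by
    intro v hv
    refine ⟨⟨1, fun x => ?_⟩, stv_mem hf _ _⟩
    simp only [← act_apply, act_stv hf, hQadd, hQs, f_smul_right hf, Units.val_one, one_mul]
    field_simp
    linear_combination (f x v) ^ 2 * CharTwo.two_eq_zero (R := F)
  have hne : ∃ x : Fin m ⊕ Fin m → F, x ≠ 0 := ⟨Pi.single (Sum.inl ⟨0, by omega⟩) 1, by simp⟩
  -- a non-zero singular vector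
  obtain ⟨w₀, hw₀, hw₀Q⟩ : ∃ w, w ≠ 0 ∧ Q w = 0 := by
    obtain ⟨x, hx⟩ := hne
    by_cases hxQ : Q x = 0
    · exact ⟨x, hx, hxQ⟩
    obtain ⟨y, hy, hyx⟩ : ∃ y, f y x = 0 ∧ y ∉ F ∙ x := by
      by_contra h; push Not at h
      have hle : LinearMap.ker (flin hf.bilinear x) ≤ F ∙ x := fun y hy =>
        h y (LinearMap.mem_ker.1 hy)
      have h1 := Submodule.finrank_mono hle
      rw [finrank_span_singleton hx] at h1
      have h2 := LinearMap.finrank_range_add_finrank_ker (flin hf.bilinear x)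
      have h3 : Module.finrank F (LinearMap.range (flin hf.bilinear x)) ≤ 1 := by
        simpa using Submodule.finrank_le (LinearMap.range (flin hf.bilinear x))
      simp only [Module.finrank_pi, Fintype.card_sum, Fintype.card_fin] at h2
      omega
    obtain ⟨a, ha⟩ := hsq (Q y / Q x)
    refine ⟨y + a • x, fun h => hyx ?_, ?_⟩
    · rw [eq_neg_of_add_eq_zero_left h]
      exact Submodule.neg_mem _ (Submodule.smul_mem _ _ (Submodule.mem_span_singleton_self _))
    · rw [hQadd, hQs, f_smul_right hf, hy, pow_two, ← ha, div_mul_cancel₀ _ hxQ, mul_zero, add_zero,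
        CharTwo.add_self_eq_zero]
  -- a singular vector not orthogonal to a given one
  have hsing : ∀ v, v ≠ 0 → ∃ u, Q u = 0 ∧ f v u ≠ 0 := by
    intro v hv
    by_cases hvw : f v w₀ = 0
    · obtain ⟨z, h1, h2⟩ := exists_f_ne_two hf hw₀ hv
      refine ⟨z + (-(Q z) / f z w₀) • w₀, ?_, ?_⟩
      · rw [hQadd, hQs, hw₀Q, f_smul_right hf, div_mul_cancel₀ _ h1]; ring
      · rw [f_add_right hf, f_smul_right hf, hvw, mul_zero, add_zero]; exact f_ne_symm hf h2
    · exact ⟨w₀, hw₀Q, hvw⟩
  have hnot_lt : ¬ Cfsg.spGL m F ≤ Cfsg.Geo.quadSimilarityGroup Q := by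
    intro hle
    obtain ⟨u, hu0, hu⟩ := hsing w₀ hw₀
    obtain ⟨c, hc⟩ := hle (stv_mem hf w₀ 1 : stv hf w₀ 1 ∈ Cfsg.spGL m F)
    have := hc u
    simp only [← act_apply, act_stv hf, hQadd, hQs, hw₀Q, f_smul_right hf, hu0, mul_zero,
      zero_add, one_mul] at this
    exact (mul_ne_zero (f_ne_symm hf hu) (f_ne_symm hf hu)) this
  refine ⟨lt_of_le_of_ne inf_le_right ?_, ?_⟩
  · intro heq; exact hnot_lt (inf_eq_right.1 heq)
  intro M hM1 hM2
  by_cases hsub : M ≤ Cfsg.Geo.quadSimilarityGroup Q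
  · exact Or.inl (le_antisymm (le_inf hsub hM2) hM1)
  right
  obtain ⟨g₀, hg₀M, hg₀⟩ := SetLike.not_le_iff_exists.1 hsub
  -- a transvection at a singular vector
  obtain ⟨w, c₀, hw, hwQ, hc₀, hwM⟩ : ∃ w c, w ≠ 0 ∧ Q w = 0 ∧ c ≠ 0 ∧ stv hf w c ∈ M := by
    obtain ⟨g, hgdef⟩ : ∃ g, g = g₀⁻¹ := ⟨_, rfl⟩
    have hgM : g ∈ M := hgdef ▸ M.inv_mem hg₀M
    have hgf : g ∈ isoGroup f := hM2 hgM
    by_cases hex : ∃ w, Q w = 0 ∧ Q (act g w) ≠ 0
    · obtain ⟨w, hwQ, hgw⟩ := hex
      refine ⟨w, 1 / Q (act g w), fun h => hgw (by rw [h, map_zero, hQ0]), hwQ, one_div_ne_zero hgw, ?_⟩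
      have := M.mul_mem (M.mul_mem (M.inv_mem hgM) (hM1 (hrefl _ hgw))) hgM
      have hc := conj_stv hf (inv_mem hgf) (act g w) (1 / Q (act g w))
      rw [inv_inv, act_inv_act] at hc
      rwa [hc] at this
    · push Not at hex
      exfalso
      apply hg₀
      rw [← inv_inv g₀]
      refine (Cfsg.Geo.quadSimilarityGroup Q).inv_mem ⟨1, fun v => ?_⟩
      rw [Units.val_one, one_mul, ← act_apply, ← hgdef]
      rcases eq_or_ne v 0 with rfl | hv
      · simp
      obtain ⟨u, huQ, hvu⟩ := hsing v hv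
      set a := Q v / f v u with ha
      have e : v = (v + a • u) + a • u := by
        rw [add_assoc, ← add_smul, CharTwo.add_self_eq_zero, zero_smul, add_zero]
      have e1 : Q (v + a • u) = 0 := by
        rw [hQadd, hQs, huQ, f_smul_right hf, ha, div_mul_cancel₀ _ hvu, mul_zero, add_zero,
          CharTwo.add_self_eq_zero]
      have e2 : Q (a • u) = 0 := by rw [hQs, huQ, mul_zero]
      conv_rhs => rw [e, hQadd, e1, e2]
      conv_lhs => rw [e, map_add, hQadd, hex _ e1, hex _ e2, mem_isoGroup.1 hgf]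
  -- all singular vectors
  have hfull_w : ∀ b, b ≠ 0 → Q b = 0 → Full hf M b := by
    have step : ∀ a b, f a b ≠ 0 → Q a = 0 → Q b = 0 → stv hf a c₀ ∈ M → stv hf b c₀ ∈ M := by
      intro a b hab haQ hbQ ha
      have hq : Q (a + b) = f a b := by rw [hQadd, haQ, hbQ]; ring
      have hmem := hrefl (a + b) (by rw [hq]; exact hab)
      have hmv : act (stv hf (a + b) (1 / Q (a + b))) a = b := by
        rw [act_stv hf, hq, f_add_right hf, f_self hf, zero_add, one_div_mul_cancel hab, one_smul]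
        ext i; simp only [Pi.add_apply]
        linear_combination a i * CharTwo.two_eq_zero (R := F)
      rw [← hmv, ← conj_stv hf (stv_mem hf _ _)]
      exact M.mul_mem (M.mul_mem (hM1 hmem) ha) (M.inv_mem (hM1 hmem))
    have all : ∀ b, b ≠ 0 → Q b = 0 → stv hf b c₀ ∈ M := by
      intro b hb hbQ
      obtain ⟨z, h1, h2⟩ := exists_f_ne_two hf hw hb
      set z' := z + (-(Q z) / f z w) • w with hz'
      have hzQ : Q z' = 0 := by
        rw [hz', hQadd, hQs, hwQ, f_smul_right hf, div_mul_cancel₀ _ h1]; ring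
      have hzw : f w z' ≠ 0 := by
        rw [hz', f_add_right hf, f_smul_right hf, f_self hf, mul_zero, add_zero]
        exact f_ne_symm hf h1
      by_cases hwb : f w b = 0
      · refine step z' b ?_ hzQ hbQ (step w z' hzw hwQ hzQ hwM)
        rw [hz', f_add_left hf, f_smul_left hf, hwb, mul_zero, add_zero]; exact h2
      · exact step w b hwb hwQ hbQ hwM
    intro b hb hbQ c
    obtain ⟨s, hs⟩ := hsq (c / c₀)
    rcases eq_or_ne c 0 with rfl | hc
    · rw [stv_zero]; exact M.one_mem
    have hs0 : s ≠ 0 := by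
      rintro rfl; exact div_ne_zero hc hc₀ (by simpa using hs)
    have := all (s • b) (smul_ne_zero hs0 hb) (by rw [hQs, hbQ, mul_zero])
    rwa [stv_smul, pow_two, ← hs, div_mul_cancel₀ _ hc₀] at this
  -- all vectors
  have hfull : ∀ v, Full hf M v := by
    intro v
    rcases eq_or_ne v 0 with rfl | hv
    · exact full_zero hf M
    intro c
    rcases eq_or_ne c 0 with rfl | hc
    · rw [stv_zero]; exact M.one_mem
    obtain ⟨u, huQ, hvu⟩ := hsing v hv
    set d := (1 / c - Q v) / f v u with hd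
    have hq : Q (v + d • u) = 1 / c := by
      rw [hQadd, hQs, huQ, f_smul_right hf, hd, div_mul_cancel₀ _ hvu]; ring
    have hmem := hM1 (hrefl (v + d • u) (by rw [hq]; exact one_div_ne_zero hc))
    rw [hq, one_div_one_div] at hmem
    have hu0 : u ≠ 0 := by rintro rfl; exact hvu (f_zero_right hf v)
    set h := stv hf u (-d / f v u) with hh
    have hmv : act h (v + d • u) = v := by
      rw [hh, act_stv hf, f_add_left hf, f_smul_left hf, f_self hf, mul_zero, add_zero,
        div_mul_cancel₀ _ hvu, neg_smul, add_neg_cancel_right]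
    rw [← hmv, hh, ← conj_stv hf (stv_mem hf _ _)]
    exact M.mul_mem (M.mul_mem (hfull_w u hu0 huQ _) hmem) (M.inv_mem (hfull_w u hu0 huQ _))
  exact le_antisymm hM2 (isoGroup_le_of_full hf M hfull)

/-- The normaliser of a field extension of prime degree is maximal, at least four scalars. -/
theorem sp_extField_maximal {F : Type*} [Field F] [Fintype F] (m : ℕ) (hm : 2 ≤ m) (hq : 3 ≤ Fintype.card F) (r : ℕ) (hr : r.Prime) (hrm : r = 2 ∨ 3 ≤ m) (K : Subalgebra F (Matrix (Fin m ⊕ Fin m) (Fin m ⊕ Fin m) F)) (hK : Cfsg.Geo.IsFieldSubalgebra r K) (hsa : Cfsg.Geo.IsSelfAdjointFor (Cfsg.sympForm m F) K) (halt : ∀ k ∈ K, ∀ v : (Fin m ⊕ Fin m → F), Cfsg.sympForm m F (Matrix.mulVec k v) v = 0) : Cfsg.Geo.IsMaximalIn (Cfsg.spGL m F) (Cfsg.Geo.subalgebraNormalizer K ⊓ Cfsg.spGL m F) := by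
  classical
  have hf := MaxCl.sympForm_isSymplectic m F
  set f := Cfsg.sympForm m F
  haveI : Nonempty (Fin m ⊕ Fin m) := ⟨Sum.inl ⟨0, by omega⟩⟩
  have hfield : IsField K :=
    { exists_pair_ne := ⟨0, 1, fun h => zero_ne_one (α := Matrix (Fin m ⊕ Fin m) (Fin m ⊕ Fin m) F)
        (congrArg Subtype.val h)⟩
      mul_comm := fun a b => Subtype.ext (hK.comm a.1 a.2 b.1 b.2)
      mul_inv_cancel := fun {a} ha => by
        obtain ⟨y, hy, hxy⟩ := hK.inv a.1 a.2 (fun h => ha (Subtype.ext h))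
        exact ⟨⟨y, hy⟩, Subtype.ext hxy⟩ }
  letI : Field K := hfield.toField
  letI : Module K (Fin m ⊕ Fin m → F) :=
    { smul := fun a v => (a : Matrix (Fin m ⊕ Fin m) (Fin m ⊕ Fin m) F) *ᵥ v
      one_smul := fun v => Matrix.one_mulVec v
      mul_smul := fun a b v => (Matrix.mulVec_mulVec v _ _).symm
      smul_zero := fun a => Matrix.mulVec_zero _
      smul_add := fun a v w => Matrix.mulVec_add _ v w
      add_smul := fun a b v => Matrix.add_mulVec _ _ v
      zero_smul := fun v => Matrix.zero_mulVec v }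
  have hsmul : ∀ (a : K) (v : Fin m ⊕ Fin m → F), a • v = (a : Matrix (Fin m ⊕ Fin m) (Fin m ⊕ Fin m) F) *ᵥ v :=
    fun a v => rfl
  haveI : IsScalarTower F K (Fin m ⊕ Fin m → F) := ⟨fun c a v => by
    rw [hsmul, hsmul]
    exact Matrix.smul_mulVec c _ v⟩
  haveI : Module.Finite F K := Module.finite_of_finrank_pos (hK.finrank_eq ▸ hr.pos)
  haveI : Finite K := Module.finite_of_finite F
  have hr' : (Module.finrank F K).Prime := hK.finrank_eq.symm ▸ hr
  have hdim := Module.finrank_mul_finrank F K (Fin m ⊕ Fin m → F)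
  rw [Module.finrank_fintype_fun_eq_card, hK.finrank_eq, Fintype.card_sum, Fintype.card_fin] at hdim
  obtain ⟨d, hd⟩ : ∃ d, d = Module.finrank K (Fin m ⊕ Fin m → F) := ⟨_, rfl⟩
  rw [← hd] at hdim
  have hm2 : 2 ≤ d := by
    by_contra h
    rcases Nat.eq_zero_or_pos d with h0 | h0
    · rw [h0, mul_zero] at hdim; omega
    · rw [show d = 1 by omega, mul_one] at hdim
      rcases hr.eq_one_or_self_of_dvd 2 ⟨m, by omega⟩ with h2 | h2 <;> omega
  have hbig : (∀ t : F, t = 0 ∨ t = 1) → Module.finrank F K = 2 →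
      3 ≤ Module.finrank K (Fin m ⊕ Fin m → F) := fun h _ => by
    exfalso
    have hle : (Finset.univ : Finset F) ⊆ {0, 1} := fun t _ => by rcases h t with rfl | rfl <;> simp
    have := (Finset.card_le_card hle).trans Finset.card_le_two
    rw [Finset.card_univ] at this
    omega
  obtain ⟨Φ, hΦ⟩ := MaxCl.SpExt.exists_kform (K := K) hf (fun k x y => hsa k.1 k.2 x y)
    fun k x => halt k.1 k.2 x
  have hsemi : ∀ g : GL (Fin m ⊕ Fin m) F, g ∈ Cfsg.Geo.subalgebraNormalizer K ↔ MaxCl.ExtF.IsSemi K g :=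
    fun g => MaxCl.ExtF.mem_normalizer_iff K g
  refine ⟨lt_of_le_of_ne inf_le_right fun heq => ?_, fun M hHM hMS => ?_⟩
  · obtain ⟨a, ha⟩ := exists_ne (0 : Fin m ⊕ Fin m → F)
    obtain ⟨k, hk⟩ := MaxCl.ExtF.exists_not_scalar (F := F) hr'.one_lt
    obtain ⟨x, hx, hxk⟩ : ∃ x, f x a = 0 ∧ f x (k • a) ≠ 0 := by
      obtain ⟨y₀, hy₀⟩ := (hf.nondegenerate a ha).1
      have hne : k • a - (f y₀ (k • a) / f y₀ a) • a ≠ 0 := by
        rw [← algebraMap_smul K (f y₀ (k • a) / f y₀ a) a, ← sub_smul, Ne, smul_eq_zero, sub_eq_zero]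
        exact fun h => h.elim (fun h => hk _ h.symm) ha
      obtain ⟨y, hy⟩ := (hf.nondegenerate _ hne).1
      refine ⟨y - (f y a / f y₀ a) • y₀, ?_, fun h => hy ?_⟩
      · rw [MaxCl.f_sub_left hf, MaxCl.f_smul_left hf, div_mul_cancel₀ _ hy₀, sub_self]
      · rw [MaxCl.f_sub_left hf, MaxCl.f_smul_left hf] at h
        rw [MaxCl.f_sub_right hf, MaxCl.f_smul_right hf, ← h]
        ring
    obtain ⟨k', hk'⟩ := (hsemi _).1 ((inf_eq_right.1 heq) (MaxCl.stv_mem hf a 1)) k
    have h1 := hk' x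
    rw [MaxCl.act_stv hf, MaxCl.act_stv hf, hx, mul_zero, zero_smul, add_zero, one_mul,
      MaxCl.SpExt.adjoint hΦ] at h1
    have hc : ∃ c : K, c • x = a := by
      refine ⟨(algebraMap F K (f x (k • a)))⁻¹ * (k' - k), ?_⟩
      rw [mul_smul, sub_smul, ← h1, add_sub_cancel_left, ← algebraMap_smul K (f x (k • a)) a,
        inv_smul_smul₀ ((map_ne_zero _).2 hxk)]
    obtain ⟨c, hc⟩ := hc
    refine hxk ?_
    rw [← hc, smul_smul, ← one_smul K x]
    simpa using MaxCl.SpExt.f_line hΦ x 1 (k * c)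
  · by_cases hsub : M ≤ Cfsg.Geo.subalgebraNormalizer K
    · exact Or.inl (le_antisymm (le_inf hsub hMS) hHM)
    obtain ⟨g, hgM, hg⟩ := SetLike.not_le_iff_exists.1 hsub
    refine Or.inr (le_antisymm hMS (MaxCl.SpExt.iso_le_of_scalars hΦ hf (fun u hu hul => hHM ⟨?_, hu⟩) hMS hr'
      (hd ▸ hm2) hbig hgM fun h => hg ((hsemi g).2 h)))
    exact (hsemi u).2 fun k => ⟨k, hul k⟩

end Cfsg.Agent.MaxCl
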