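/-
A symplectic space with tensor coordinates over a symplectic and an orthogonal factor: the groups of the two factors,
the root elements `t ⊗ 1`, and the criterion: an overgroup of the stabiliser containing the transvections of one
isotropic pure tensor is everything.
-/
import Mathlib
import Cfsg.Agent.Lib.MaxCl.TensorPt
import Cfsg.Agent.Lib.MaxCl.SympPairs
import Cfsg.Agent.Lib.MaxCl.SymGeom

set_option autoImplicit false
set_option linter.unusedSectionVars false

namespace Cfsg.Agent.MaxCl.TensSO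

open scoped MatrixGroups Matrix
open Module (finrank)
open Tens

variable {ι : Type} [Fintype ι] [DecidableEq ι] {F : Type*} [Field F] {n₁ n₂ : ℕ}
variable {T : TSys ι F n₁ n₂} {f : (ι → F) → (ι → F) → F}
variable {f₁ : (Fin n₁ → F) → (Fin n₁ → F) → F} {f₂ : (Fin n₂ → F) → (Fin n₂ → F) → F} {c : F}
variable {M : Subgroup (GL ι F)}

/-- an overgroup of the stabiliser of a tensor decomposition symplectic ⊗ orthogonal -/
structure OCtx (T : TSys ι F n₁ n₂) (f : (ι → F) → (ι → F) → F)
    (f₁ : (Fin n₁ → F) → (Fin n₁ → F) → F) (f₂ : (Fin n₂ → F) → (Fin n₂ → F) → F) (c : F)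
    (M : Subgroup (GL ι F)) : Prop where
  hf : Cfsg.Geo.IsSymplecticForm f
  h₁ : Cfsg.Geo.IsSymplecticForm f₁
  h₂ : Cfsg.Geo.IsSymmetricForm f₂
  c_ne : c ≠ 0
  form : ∀ u v u' v', f (pt T u v) (pt T u' v') = c * (f₁ u u' * f₂ v v')
  two : (2 : F) ≠ 0
  n₁_pos : 0 < n₁
  three : 3 ≤ n₂
  hex : n₂ = 3 → ∃ x : F, x ≠ 0 ∧ x ≠ 1 ∧ x ≠ -1
  le : M ≤ isoGroup f
  ge : ∀ a b, gl T a b ∈ isoGroup f → gl T a b ∈ M

/-- contraction against `v` -/
noncomputable def pj (T : TSys ι F n₁ n₂) (h₁ : Cfsg.Geo.IsSymplecticForm f₁) (v : Fin n₁ → F) :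
    (ι → F) →ₗ[F] (Fin n₂ → F) := cL T (flin h₁.bilinear v)

/-- the root element `(x ↦ x + d f₁(x, v) v) ⊗ 1` -/
noncomputable def rt (T : TSys ι F n₁ n₂) (h₁ : Cfsg.Geo.IsSymplecticForm f₁) (v : Fin n₁ → F) (d : F) :
    GL ι F := gl T (stv h₁ v d) 1

/-- the element `1 ⊗ (reflection)` -/
noncomputable def yy (T : TSys ι F n₁ n₂) (f₂ : (Fin n₂ → F) → (Fin n₂ → F) → F) (e : Fin n₂ → F) : GL ι F :=
  gl T 1 (Sy.yr f₂ e)

theorem pj_pt (h₁ : Cfsg.Geo.IsSymplecticForm f₁) (v u : Fin n₁ → F) (w : Fin n₂ → F) :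
    pj T h₁ v (pt T u w) = f₁ u v • w := cL_pt T _ u w

theorem act_rt (h₁ : Cfsg.Geo.IsSymplecticForm f₁) (v : Fin n₁ → F) (d : F) (x : ι → F) :
    act (rt T h₁ v d) x = x + d • pt T v (pj T h₁ v x) := by
  let R : (ι → F) →ₗ[F] (ι → F) := LinearMap.id + d • (ptR T v ∘ₗ pj T h₁ v)
  have : act (rt T h₁ v d) = R := by
    refine pt_ext T fun u w => ?_
    show act (gl T _ 1) (pt T u w) = pt T u w + d • pt T v (pj T h₁ v (pt T u w))
    rw [act_gl_pt, act_one, act_stv h₁, pt_add_left, pt_smul_left, pj_pt, pt_smul_right, smul_smul]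
  rw [this]; rfl

theorem rt_mul (h₁ : Cfsg.Geo.IsSymplecticForm f₁) (v : Fin n₁ → F) (d d' : F) :
    rt T h₁ v d * rt T h₁ v d' = rt T h₁ v (d + d') := by
  rw [rt, rt, gl_mul, one_mul, stv_add h₁, rt]

theorem rt_zero (h₁ : Cfsg.Geo.IsSymplecticForm f₁) (v : Fin n₁ → F) : rt T h₁ v 0 = 1 := by
  rw [rt, stv_zero h₁, gl_one]

theorem rt_inv (h₁ : Cfsg.Geo.IsSymplecticForm f₁) (v : Fin n₁ → F) (d : F) :
    (rt T h₁ v d)⁻¹ = rt T h₁ v (-d) :=
  inv_eq_of_mul_eq_one_right (by rw [rt_mul h₁, add_neg_cancel, rt_zero])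

theorem rt_pow (h₁ : Cfsg.Geo.IsSymplecticForm f₁) (v : Fin n₁ → F) (d : F) (n : ℕ) :
    rt T h₁ v d ^ n = rt T h₁ v (n * d) := by
  induction n with
  | zero => rw [pow_zero, Nat.cast_zero, zero_mul, rt_zero]
  | succ n ih => rw [pow_succ, ih, rt_mul h₁, Nat.cast_succ, add_mul, one_mul]

/-- a linear map with every vector an eigenvector is scalar -/
theorem exists_scalar_of_eigen {m : ℕ} (L : (Fin m → F) →ₗ[F] (Fin m → F)) (h : ∀ u, L u ∈ F ∙ u) :
    ∃ k : F, ∀ u, L u = k • u := by
  by_cases hm : ∀ u : Fin m → F, u = 0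
  · exact ⟨0, fun u => by rw [hm u, map_zero, smul_zero]⟩
  push Not at hm
  obtain ⟨u₀, hu₀⟩ := hm
  obtain ⟨k, hk⟩ := Submodule.mem_span_singleton.1 (h u₀)
  refine ⟨k, fun u => ?_⟩
  by_cases hu : u ∈ F ∙ u₀
  · obtain ⟨s, rfl⟩ := Submodule.mem_span_singleton.1 hu
    rw [map_smul, ← hk, smul_comm]
  obtain ⟨l, hl⟩ := Submodule.mem_span_singleton.1 (h u)
  obtain ⟨r, hr⟩ := Submodule.mem_span_singleton.1 (h (u + u₀))
  have e : (r - l) • u = (k - r) • u₀ := by
    rw [map_add, ← hl, ← hk, smul_add] at hr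
    linear_combination (norm := module) hr
  have hrl : r - l = 0 := by
    by_contra hne
    exact hu (Submodule.mem_span_singleton.2 ⟨(r - l)⁻¹ * (k - r), by rw [mul_smul, ← e, inv_smul_smul₀ hne]⟩)
  rw [hrl, zero_smul, eq_comm, smul_eq_zero, or_iff_left hu₀, sub_eq_zero] at e
  rw [← hl, e, sub_eq_zero.1 hrl]

/-- isometries of a symplectic space move every non-zero vector to every other -/
theorem exists_move₁ {m : ℕ} {h : (Fin m → F) → (Fin m → F) → F} (hh : Cfsg.Geo.IsSymplecticForm h)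
    {x y : Fin m → F} (hx : x ≠ 0) (hy : y ≠ 0) : ∃ g ∈ isoGroup h, act g x = y := by
  refine SP.trans_all hh (Φ := fun z => ∃ g ∈ isoGroup h, act g x = z) (fun v d a ha => ?_) hx
    ⟨1, one_mem _, act_one x⟩ hy
  obtain ⟨g, hg, rfl⟩ := ha
  exact ⟨_, mul_mem (stv_mem hh v d) hg, act_mul _ _ _⟩

variable (C : OCtx T f f₁ f₂ c M)
include C

theorem exists_ne_two : ∃ u u', f₁ u u' ≠ 0 := by
  have h0 : (Pi.single ⟨0, C.n₁_pos⟩ 1 : Fin n₁ → F) ≠ 0 := by simp
  obtain ⟨x, hx⟩ := (C.h₁.nondegenerate _ h0).2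
  exact ⟨_, x, hx⟩

theorem exists_vec₁ : ∃ u : Fin n₁ → F, u ≠ 0 := ⟨Pi.single ⟨0, C.n₁_pos⟩ 1, by simp⟩

theorem finrank₂ : 3 ≤ finrank F (⊤ : Submodule F (Fin n₂ → F)) := by
  rw [finrank_top, Module.finrank_fin_fun]; exact C.three

/-- an anisotropic vector -/
theorem exists_aniso₂ [Finite F] : ∃ e : Fin n₂ → F, f₂ e e ≠ 0 := by
  obtain ⟨a, -, ha0, ha⟩ := Sy.exists_isotropic C.h₂ (finrank₂ C)
  obtain ⟨e, he, -⟩ := Sy.exists_aniso C.h₂ C.two ha ha0 ha0 ha
  exact ⟨e, he⟩

/-- similitudes with inverse multipliers give isometries -/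
theorem gl_mem_iso {a : GL (Fin n₁) F} {b : GL (Fin n₂) F} {μ ν : F}
    (ha : ∀ x y, f₁ (act a x) (act a y) = μ * f₁ x y) (hb : ∀ x y, f₂ (act b x) (act b y) = ν * f₂ x y)
    (hμν : μ * ν = 1) : gl T a b ∈ isoGroup f := by
  refine mem_isoGroup.2 fun x y => ?_
  have h1 : ∀ x u v, f (act (gl T a b) x) (act (gl T a b) (pt T u v)) = f x (pt T u v) := by
    intro x u v
    have : (flin C.hf.bilinear (act (gl T a b) (pt T u v))) ∘ₗ act (gl T a b) =
        flin C.hf.bilinear (pt T u v) := pt_ext T fun u' v' => by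
      show f (act (gl T a b) (pt T u' v')) (act (gl T a b) (pt T u v)) = f (pt T u' v') (pt T u v)
      rw [act_gl_pt, act_gl_pt, C.form, C.form, ha, hb]
      linear_combination (c * f₁ u' u * f₂ v' v) * hμν
    exact LinearMap.congr_fun this x
  have : (toBil C.hf.bilinear (act (gl T a b) x)) ∘ₗ act (gl T a b) = toBil C.hf.bilinear x :=
    pt_ext T fun u v => h1 x u v
  exact LinearMap.congr_fun this y

theorem gl_mem {a : GL (Fin n₁) F} {b : GL (Fin n₂) F} (ha : a ∈ isoGroup f₁) (hb : b ∈ isoGroup f₂) :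
    gl T a b ∈ M :=
  C.ge a b (gl_mem_iso C (μ := 1) (ν := 1) (fun x y => by rw [mem_isoGroup.1 ha, one_mul])
    (fun x y => by rw [mem_isoGroup.1 hb, one_mul]) (one_mul 1))

theorem left_mem {a : GL (Fin n₁) F} (ha : a ∈ isoGroup f₁) : gl T a 1 ∈ M := gl_mem C ha (one_mem _)

theorem right_mem {b : GL (Fin n₂) F} (hb : b ∈ isoGroup f₂) : gl T 1 b ∈ M := gl_mem C (one_mem _) hb

theorem rt_mem (v : Fin n₁ → F) (d : F) : rt T C.h₁ v d ∈ M := left_mem C (stv_mem C.h₁ v d)

theorem yy_mem {e : Fin n₂ → F} (he : f₂ e e ≠ 0) : yy T f₂ e ∈ M := right_mem C (Sy.yr_mem C.h₂ he)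

theorem iso_of_mem {g : GL ι F} (hg : g ∈ M) : ∀ x y, f (act g x) (act g y) = f x y :=
  mem_isoGroup.1 (C.le hg)

theorem rt_fix_iff {v : Fin n₁ → F} (hv : v ≠ 0) {d : F} (hd : d ≠ 0) {x : ι → F} :
    act (rt T C.h₁ v d) x = x ↔ pj T C.h₁ v x = 0 := by
  rw [act_rt C.h₁, add_eq_left, smul_eq_zero, or_iff_right hd, pt_eq_zero, or_iff_right hv]

theorem form_left (v : Fin n₁ → F) (w : Fin n₂ → F) (x : ι → F) :
    f x (pt T v w) = c * f₂ (pj T C.h₁ v x) w := by
  have : flin C.hf.bilinear (pt T v w) = c • (flin C.h₂.bilinear w ∘ₗ pj T C.h₁ v) := pt_ext T fun a b => by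
    show f (pt T a b) (pt T v w) = c * f₂ (pj T C.h₁ v (pt T a b)) w
    rw [C.form, pj_pt, Sy.smul_left C.h₂]
  exact LinearMap.congr_fun this x

/-- one isotropic pure tensor with all its transvections gives everything -/
theorem iso_le_of_full [Finite F] {v : Fin n₁ → F} {z : Fin n₂ → F} (hv : v ≠ 0) (hz : f₂ z z = 0)
    (hz0 : z ≠ 0) (h : Full C.hf M (pt T v z)) : isoGroup f ≤ M := by
  classical
  -- all isotropic pure tensors
  have hiso : ∀ (u : Fin n₁ → F) (a : Fin n₂ → F), f₂ a a = 0 → Full C.hf M (pt T u a) := by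
    intro u a ha
    rcases eq_or_ne u 0 with rfl | hu
    · rw [pt_zero_left]; exact full_zero C.hf M
    rcases eq_or_ne a 0 with rfl | ha0
    · rw [pt_zero_right]; exact full_zero C.hf M
    obtain ⟨α, hα, rfl⟩ := exists_move₁ C.h₁ hv hu
    obtain ⟨β, hβ, rfl⟩ := Sy.exists_move C.h₂ C.two hz hz0 ha ha0
    rw [← act_gl_pt]
    exact full_conj C.hf (gl_mem C hα hβ) (C.le (gl_mem C hα hβ)) h
  -- every pure tensor
  have hpure : ∀ u w, Full C.hf M (pt T u w) := by
    intro u w
    by_cases hw : f₂ w w = 0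
    · exact hiso u w hw
    have hw0 : w ≠ 0 := fun e => hw (by rw [e, Sy.zero_left C.h₂])
    rcases eq_or_ne u 0 with rfl | hu
    · rw [pt_zero_left]; exact full_zero C.hf M
    -- an isotropic vector not orthogonal to `w` gives a hyperbolic plane
    obtain ⟨a, ha, haw⟩ : ∃ a, f₂ a a = 0 ∧ f₂ a w ≠ 0 := by
      obtain ⟨a, -, ha0, ha⟩ := Sy.exists_isotropic C.h₂ (finrank₂ C)
      by_cases h0 : f₂ a w = 0
      · obtain ⟨x, hxx, hxa, hxw⟩ := Sy.exists_aniso C.h₂ C.two ha ha0 hw0 h0
        obtain ⟨g, hg, hga⟩ := Sy.exists_refl C.h₂ x hxx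
        refine ⟨act g a, by rw [mem_isoGroup.1 hg, ha], ?_⟩
        rw [hga, Sy.sub_left C.h₂, Sy.smul_left C.h₂, h0, zero_sub, neg_ne_zero, C.h₂.symm a x]
        exact mul_ne_zero (div_ne_zero (mul_ne_zero C.two hxa) hxx) hxw
      · exact ⟨a, ha, h0⟩
    obtain ⟨s, hs⟩ : ∃ s, s = f₂ w w / (2 * f₂ a w) := ⟨_, rfl⟩
    have hs0 : s ≠ 0 := hs ▸ div_ne_zero hw (mul_ne_zero C.two haw)
    have hb : f₂ (w - s • a) (w - s • a) = 0 := by
      rw [Sy.sub_left C.h₂, Sy.sub_right C.h₂, Sy.sub_right C.h₂, Sy.smul_left C.h₂, Sy.smul_left C.h₂,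
        Sy.smul_right C.h₂, Sy.smul_right C.h₂, ha, C.h₂.symm w a, hs]
      have := C.two
      field_simp
      ring
    -- `u ⊗ w = u ⊗ b + u ⊗ s a`
    obtain ⟨t, ht⟩ := (C.h₁.nondegenerate u hu).1
    have hbase : ∀ u₁ u₂, f₁ u₁ u₂ ≠ 0 → Full C.hf M (pt T u₁ (w - s • a) + pt T u₂ (s • a)) := by
      intro u₁ u₂ h12
      have hfs : f₂ (w - s • a) (s • a) ≠ 0 := by
        rw [Sy.smul_right C.h₂, Sy.sub_left C.h₂, Sy.smul_left C.h₂, ha, mul_zero, sub_zero, C.h₂.symm w a]
        exact mul_ne_zero hs0 haw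
      have := full_add C.hf (hiso u₂ (s • a) (by rw [Sy.self_smul C.h₂, ha, mul_zero])) (hiso u₁ _ hb)
        (by rw [C.form]; exact mul_ne_zero C.c_ne (mul_ne_zero h12 hfs)) 1
      rwa [one_smul] at this
    have hrest : Full C.hf M (pt T (u + t) (w - s • a) + pt T u (s • a)) := hbase _ _ (by
      rw [f_add_left C.h₁, C.h₁.alternating, zero_add]; exact ht)
    have := full_add C.hf (hiso t _ hb) hrest (by
      have hfs : f₂ (s • a) (w - s • a) ≠ 0 := by
        rw [Sy.smul_left C.h₂, Sy.sub_right C.h₂, Sy.smul_right C.h₂, ha, mul_zero, sub_zero]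
        exact mul_ne_zero hs0 haw
      rw [f_add_left C.hf, C.form, C.form, hb, mul_zero, mul_zero, zero_add]
      exact mul_ne_zero C.c_ne (mul_ne_zero (f_ne_symm C.h₁ ht) hfs)) (-1)
    have e : pt T (u + t) (w - s • a) + pt T u (s • a) + (-1 : F) • pt T t (w - s • a) = pt T u w := by
      rw [pt_add_left, neg_one_smul, pt_sub_right, pt_sub_right]
      abel
    rwa [e] at this
  -- an orthogonal basis of the second factor
  have : Invertible (2 : F) := invertibleOfNonzero C.two
  obtain ⟨e, he⟩ := LinearMap.BilinForm.exists_orthogonal_basis (B := toBil C.h₂.bilinear)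
    ⟨fun x y => C.h₂.symm x y⟩
  have horth : ∀ i j, i ≠ j → f₂ (e i) (e j) = 0 := fun i j hij => he hij
  have hee : ∀ i, f₂ (e i) (e i) ≠ 0 := fun i h0 => e.ne_zero i (Sy.eq_zero C.h₂ fun x => by
    have : (flin C.h₂.bilinear (e i)) = 0 := e.ext fun j => by
      rcases eq_or_ne j i with rfl | hj
      · simpa [flin_apply] using h0
      · simpa [flin_apply] using horth j i hj
    simpa [flin_apply] using LinearMap.congr_fun this x)
  -- sums over the basis, by the size of the support
  suffices H : ∀ (k : ℕ) (u : _ → (Fin n₁ → F)), (Finset.univ.filter fun i => u i ≠ 0).card ≤ k →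
      Full C.hf M (∑ i, pt T (u i) (e i)) by
    refine isoGroup_le_of_full C.hf M fun x => ?_
    have hx : x = ∑ i, pt T (cR T (e.coord i) x) (e i) := by
      let L : (ι → F) →ₗ[F] (ι → F) := ∑ i, ptL T (e i) ∘ₗ cR T (e.coord i)
      have hL : L = LinearMap.id := pt_ext T fun a b => by
        simp only [L, LinearMap.sum_apply, LinearMap.comp_apply, cR_pt, ptL_apply, pt_smul_left,
          ← pt_smul_right]
        show ∑ i, pt T a (e.coord i b • e i) = pt T a b
        simp only [← ptR_apply, ← map_sum]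
        congr 1
        exact e.sum_repr b
      conv_lhs => rw [← LinearMap.id_apply (R := F) x, ← hL]
      simp [L, ptL_apply]
    rw [hx]
    exact H _ _ le_rfl
  intro k
  induction k with
  | zero =>
    intro u hu
    have : ∀ i, u i = 0 := fun i => by
      by_contra hi
      have : i ∈ Finset.univ.filter fun j => u j ≠ 0 := Finset.mem_filter.2 ⟨Finset.mem_univ i, hi⟩
      rw [Finset.card_eq_zero.1 (Nat.le_zero.1 hu)] at this
      simp at this
    simp only [this, pt_zero_left, Finset.sum_const_zero]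
    exact full_zero C.hf M
  | succ k ih =>
    -- a support with a non-orthogonal pair
    have caseA : ∀ (u : _ → (Fin n₁ → F)), (Finset.univ.filter fun i => u i ≠ 0).card ≤ k + 1 →
        ∀ i j, i ≠ j → f₁ (u j) (u i) ≠ 0 → Full C.hf M (∑ l, pt T (u l) (e l)) := by
      intro u hu i j hij hne
      have hui : u i ≠ 0 := fun h0 => hne (by rw [h0, f_zero_right C.h₁])
      have huj : u j ≠ 0 := fun h0 => hne (by rw [h0, f_zero_left C.h₁])
      -- subtract `u i ⊗ (e i + e j)`
      obtain ⟨p, hp⟩ : ∃ p, p = pt T (u i) (e i + e j) := ⟨_, rfl⟩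
      obtain ⟨u', hu'⟩ : ∃ u', u' = Function.update (Function.update u i 0) j (u j - u i) := ⟨_, rfl⟩
      have hsum : ∑ l, pt T (u l) (e l) = (∑ l, pt T (u' l) (e l)) + p := by
        have hd : ∀ l, pt T (u l) (e l) = pt T (u' l) (e l) +
            ((if l = i then pt T (u i) (e i) else 0) + if l = j then pt T (u i) (e j) else 0) := by
          intro l
          rcases eq_or_ne l i with rfl | hli
          · rw [hu', Function.update_of_ne hij, Function.update_self, pt_zero_left, if_pos rfl,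
              if_neg hij, add_zero, zero_add]
          rcases eq_or_ne l j with rfl | hlj
          · rw [hu', Function.update_self, if_neg hli, if_pos rfl, zero_add, pt_sub_left, sub_add_cancel]
          · rw [hu', Function.update_of_ne hlj, Function.update_of_ne hli, if_neg hli, if_neg hlj, add_zero,
              add_zero]
        rw [Finset.sum_congr rfl fun l _ => hd l, Finset.sum_add_distrib, Finset.sum_add_distrib,
          Finset.sum_ite_eq', Finset.sum_ite_eq', hp, pt_add_right]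
        simp
      have hsupp : (Finset.univ.filter fun l => u' l ≠ 0).card ≤ k := by
        have hsub : (Finset.univ.filter fun l => u' l ≠ 0) ⊆
            (Finset.univ.filter fun l => u l ≠ 0).erase i := fun l hl => by
          simp only [Finset.mem_filter, Finset.mem_erase, Finset.mem_univ, true_and] at hl ⊢
          rw [hu'] at hl
          rcases eq_or_ne l j with rfl | hlj
          · exact ⟨hij.symm, huj⟩
          rw [Function.update_of_ne hlj] at hl
          rcases eq_or_ne l i with rfl | hli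
          · simp at hl
          · rw [Function.update_of_ne hli] at hl; exact ⟨hli, hl⟩
        have := Finset.card_le_card hsub
        rw [Finset.card_erase_of_mem (by simp [hui])] at this
        omega
      have hfp : f (∑ l, pt T (u' l) (e l)) p ≠ 0 := by
        rw [← flin_apply C.hf.bilinear p, map_sum, Finset.sum_eq_single j]
        · rw [flin_apply, hp, C.form, Sy.add_right C.h₂, horth j i hij.symm, zero_add, hu', Function.update_self,
            f_sub_left C.h₁, C.h₁.alternating, sub_zero]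
          exact mul_ne_zero C.c_ne (mul_ne_zero hne (hee j))
        · intro l _ hl
          rw [flin_apply, hp, C.form, Sy.add_right C.h₂, horth l j hl, add_zero, hu', Function.update_of_ne hl]
          rcases eq_or_ne l i with rfl | hli
          · rw [Function.update_self, f_zero_left C.h₁, zero_mul, mul_zero]
          · rw [horth l i hli, mul_zero, mul_zero]
        · simp
      rw [hsum]
      have := full_add C.hf (hp ▸ hpure (u i) (e i + e j)) (ih u' hsupp) hfp 1
      rwa [one_smul] at this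
    intro u hu
    rcases Nat.lt_or_ge (Finset.univ.filter fun l => u l ≠ 0).card (k + 1) with hlt | hge
    · exact ih u (by omega)
    obtain ⟨i, hi⟩ := Finset.card_pos.1 (show 0 < (Finset.univ.filter fun l => u l ≠ 0).card by omega)
    have hui : u i ≠ 0 := (Finset.mem_filter.1 hi).2
    by_cases hone : ∀ l, l ≠ i → u l = 0
    · rw [Finset.sum_eq_single i (fun l _ hl => by rw [hone l hl, pt_zero_left]) (by simp)]
      exact hpure _ _
    push Not at hone
    obtain ⟨j, hji, huj⟩ := hone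
    by_cases hne : f₁ (u j) (u i) ≠ 0
    · exact caseA u hu i j hji.symm hne
    push Not at hne
    obtain ⟨t, hti, htj⟩ := exists_f_ne_two C.h₁ hui huj
    -- `u i` replaced by `u i - t`
    have hA : Full C.hf M (∑ l, pt T (Function.update u i (u i - t) l) (e l)) := by
      refine caseA _ ?_ i j hji.symm ?_
      · refine le_trans (Finset.card_le_card fun l hl => ?_) hu
        simp only [Finset.mem_filter, Finset.mem_univ, true_and] at hl ⊢
        rcases eq_or_ne l i with rfl | hli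
        · exact hui
        · rwa [Function.update_of_ne hli] at hl
      · rw [Function.update_of_ne hji, Function.update_self, f_sub_right C.h₁, hne, zero_sub, neg_ne_zero]
        exact f_ne_symm C.h₁ htj
    have hsum : ∑ l, pt T (u l) (e l) = (∑ l, pt T (Function.update u i (u i - t) l) (e l)) + pt T t (e i) := by
      rw [← Finset.add_sum_erase _ _ (Finset.mem_univ i), ← Finset.add_sum_erase _ _ (Finset.mem_univ i),
        Function.update_self, pt_sub_left]
      have hr : ∑ l ∈ Finset.univ.erase i, pt T (Function.update u i (u i - t) l) (e l) =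
          ∑ l ∈ Finset.univ.erase i, pt T (u l) (e l) :=
        Finset.sum_congr rfl fun l hl => by rw [Function.update_of_ne (Finset.ne_of_mem_erase hl)]
      rw [hr]
      abel
    rw [hsum]
    have hf' : f (∑ l, pt T (Function.update u i (u i - t) l) (e l)) (pt T t (e i)) ≠ 0 := by
      rw [← flin_apply C.hf.bilinear (pt T t (e i)), map_sum, Finset.sum_eq_single i]
      · rw [flin_apply, C.form, Function.update_self, f_sub_left C.h₁, C.h₁.alternating, sub_zero]
        exact mul_ne_zero C.c_ne (mul_ne_zero (f_ne_symm C.h₁ hti) (hee i))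
      · intro l _ hl
        rw [flin_apply, C.form, horth l i hl, mul_zero, mul_zero]
      · simp
    have := full_add C.hf (hpure t (e i)) hA hf' 1
    rwa [one_smul] at this

end Cfsg.Agent.MaxCl.TensSO
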