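/-
The elements of an overgroup of a symplectic ⊗ orthogonal tensor stabiliser that centralise a root group and lie in
the radical of its normaliser have scalar layers, unless the overgroup is everything.
-/
import Mathlib
import Cfsg.Agent.Lib.MaxCl.SympOrthTensorBase

set_option autoImplicit false
set_option linter.unusedSectionVars false

namespace Cfsg.Agent.MaxCl.TensSO

open scoped MatrixGroups Matrix
open Module (finrank)
open Tens

variable {ι : Type} [Fintype ι] [DecidableEq ι] {F : Type*} [Field F] {n₁ n₂ : ℕ}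
variable {T : TSys ι F n₁ n₂} {f : (ι → F) → (ι → F) → F}
variable {f₁ : (Fin n₁ → F) → (Fin n₁ → F) → F} {f₂ : (Fin n₂ → F) → (Fin n₂ → F) → F} {c : F}
variable {M : Subgroup (GL ι F)}

/-- endomorphisms of the second factor -/
abbrev End₂ (F : Type*) [Field F] (n₂ : ℕ) := (Fin n₂ → F) →ₗ[F] (Fin n₂ → F)

/-- `g` adds `f₁(u, v) v ⊗ R w` to `u ⊗ w` -/
def IsTop (T : TSys ι F n₁ n₂) (f₁ : (Fin n₁ → F) → (Fin n₁ → F) → F) (v : Fin n₁ → F) (g : GL ι F)
    (R : End₂ F n₂) : Prop :=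
  ∀ u w, act g (pt T u w) = pt T u w + f₁ u v • pt T v (R w)

/-- `g` is `1 + π_z v ⊗ S + π_v z ⊗ S' + π_v v ⊗ R` -/
def IsPure (T : TSys ι F n₁ n₂) (f₁ : (Fin n₁ → F) → (Fin n₁ → F) → F) (v z : Fin n₁ → F)
    (S S' R : End₂ F n₂) (g : GL ι F) : Prop :=
  ∀ u w, act g (pt T u w) = pt T u w + f₁ u z • pt T v (S w) + f₁ u v • pt T z (S' w) + f₁ u v • pt T v (R w)

/-- the conjugate of an endomorphism -/
def cj (β : GL (Fin n₂) F) (S : End₂ F n₂) : End₂ F n₂ := act β ∘ₗ S ∘ₗ act β⁻¹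

theorem cj_apply (β : GL (Fin n₂) F) (S : End₂ F n₂) (w : Fin n₂ → F) :
    cj β S w = act β (S (act β⁻¹ w)) := rfl

theorem cj_one (S : End₂ F n₂) : cj (1 : GL (Fin n₂) F) S = S := by
  ext w; simp [cj_apply, act_one]

/-- sums of two squares -/
theorem exists_two_sq [Finite F] (h2 : (2 : F) ≠ 0) (x : F) : ∃ a b : F, a * a + b * b = x := by
  haveI := Fintype.ofFinite F
  obtain ⟨a, b, hab⟩ := FiniteField.exists_root_sum_quadratic
    (f := (Polynomial.X : Polynomial F) ^ 2) (g := Polynomial.X ^ 2 - Polynomial.C x)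
    (Polynomial.degree_X_pow 2) (Polynomial.degree_X_pow_sub_C (by norm_num) x)
    (FiniteField.odd_card_of_char_ne_two fun hc => h2 (by
      haveI := ringChar.of_eq hc
      exact CharTwo.two_eq_zero))
  simp only [Polynomial.eval_pow, Polynomial.eval_X, Polynomial.eval_sub, Polynomial.eval_C] at hab
  exact ⟨a, b, by linear_combination hab⟩

variable (C : OCtx T f f₁ f₂ c M)
include C

theorem isPure_mul {v z : Fin n₁ → F} (hvz : f₁ v z = 0) {S₁ S₁' R₁ S₂ S₂' R₂ : End₂ F n₂} {g₁ g₂ : GL ι F}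
    (h₁ : IsPure T f₁ v z S₁ S₁' R₁ g₁) (h₂ : IsPure T f₁ v z S₂ S₂' R₂ g₂) :
    IsPure T f₁ v z (S₁ + S₂) (S₁' + S₂') (R₁ + R₂) (g₁ * g₂) := fun u w => by
  rw [act_mul, h₂]
  simp only [map_add, map_smul, h₁ _, C.h₁.alternating, hvz, f_eq_zero_symm C.h₁ hvz, zero_smul, add_zero,
    LinearMap.add_apply, pt_add_right, smul_add]
  abel

theorem isPure_inv {v z : Fin n₁ → F} (hvz : f₁ v z = 0) {S S' R : End₂ F n₂} {g : GL ι F}
    (h : IsPure T f₁ v z S S' R g) : IsPure T f₁ v z (-S) (-S') (-R) g⁻¹ := fun u w => by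
  apply act_injective g
  rw [act_act_inv]
  simp only [map_add, map_smul, h _, C.h₁.alternating, hvz, f_eq_zero_symm C.h₁ hvz, zero_smul, add_zero,
    LinearMap.neg_apply, pt_neg_right, map_neg]
  module

theorem isPure_of_isTop {v : Fin n₁ → F} {g : GL ι F} {R : End₂ F n₂} (h : IsTop T f₁ v g R) :
    IsPure T f₁ v v 0 0 R g := fun u w => by
  simp [h u w, pt_zero_right]

theorem isTop_mul {v : Fin n₁ → F} {g₁ g₂ : GL ι F} {R₁ R₂ : End₂ F n₂} (h₁ : IsTop T f₁ v g₁ R₁)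
    (h₂ : IsTop T f₁ v g₂ R₂) : IsTop T f₁ v (g₁ * g₂) (R₁ + R₂) := fun u w => by
  rw [act_mul, h₂]
  simp only [map_add, map_smul, h₁ _, C.h₁.alternating, zero_smul, add_zero, LinearMap.add_apply, pt_add_right,
    smul_add]
  abel

/-- conjugation by `α ⊗ β` for isometries -/
theorem isPure_conj {v z : Fin n₁ → F} {S S' R : End₂ F n₂} {g : GL ι F} (h : IsPure T f₁ v z S S' R g)
    {α : GL (Fin n₁) F} (hα : α ∈ isoGroup f₁) (β : GL (Fin n₂) F) :
    IsPure T f₁ (act α v) (act α z) (cj β S) (cj β S') (cj β R) (gl T α β * g * (gl T α β)⁻¹) := fun u w => by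
  have key : ∀ t, f₁ (act α⁻¹ u) t = f₁ u (act α t) := fun t => by
    conv_lhs => rw [← mem_isoGroup.1 hα, act_act_inv]
  rw [gl_inv, act_mul, act_mul, act_gl_pt, h]
  simp only [map_add, map_smul, act_gl_pt, act_act_inv, key, cj_apply]

/-- the top layer at `v` inside `M`, as a space of operators -/
theorem top_submodule [Finite F] {v : Fin n₁ → F} (hv : v ≠ 0) : ∃ A : Submodule F (End₂ F n₂),
    ∀ R, R ∈ A ↔ ∃ g ∈ M, IsTop T f₁ v g R := by
  have hadd : ∀ R R', (∃ g ∈ M, IsTop T f₁ v g R) → (∃ g ∈ M, IsTop T f₁ v g R') →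
      ∃ g ∈ M, IsTop T f₁ v g (R + R') := by
    rintro R R' ⟨g, hg, h⟩ ⟨g', hg', h'⟩
    exact ⟨g * g', M.mul_mem hg hg', isTop_mul C h h'⟩
  have hsq : ∀ (t : F) R, (∃ g ∈ M, IsTop T f₁ v g R) → ∃ g ∈ M, IsTop T f₁ v g ((t * t) • R) := by
    rintro t R ⟨g, hg, h⟩
    rcases eq_or_ne t 0 with rfl | ht
    · exact ⟨1, M.one_mem, fun u w => by simp [act_one, pt_zero_right]⟩
    obtain ⟨α, hα, hαv⟩ := exists_move₁ C.h₁ hv (smul_ne_zero ht hv)
    have hgl := left_mem C hα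
    refine ⟨_, M.mul_mem (M.mul_mem hgl hg) (M.inv_mem hgl), fun u w => ?_⟩
    rw [isPure_conj C (isPure_of_isTop C h) hα 1 u w, hαv, cj_one, cj_one]
    simp only [LinearMap.zero_apply, pt_zero_right, smul_zero, add_zero, f_smul_right C.h₁, pt_smul_left,
      LinearMap.smul_apply, pt_smul_right, smul_smul]
    congr 2
    ring
  refine ⟨{ carrier := {R | ∃ g ∈ M, IsTop T f₁ v g R}, add_mem' := fun h h' => hadd _ _ h h'
            zero_mem' := ⟨1, M.one_mem, fun u w => by simp [act_one, pt_zero_right]⟩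
            smul_mem' := fun k R h => ?_ }, fun R => Iff.rfl⟩
  obtain ⟨a, b, hab⟩ := exists_two_sq C.two k
  show ∃ g ∈ M, IsTop T f₁ v g (k • R)
  rw [← hab, add_smul]
  exact hadd _ _ (hsq a R h) (hsq b R h)

/-- an invariant space of operators containing one `sym(e, a)` contains all of `sym(e, ·)` -/
theorem sym_grow {A : Submodule F (End₂ F n₂)}
    (hA : ∀ β ∈ isoGroup f₂, ∀ R ∈ A, cj β R ∈ A) {e a x : Fin n₂ → F} (hea : f₂ e a = 0) (hex : f₂ e x = 0)
    (hx : f₂ x x ≠ 0) (hax : f₂ a x ≠ 0) (ha : Sy.symOp C.h₂ e a ∈ A) : Sy.symOp C.h₂ e x ∈ A := by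
  obtain ⟨g, hg, hga⟩ := Sy.exists_refl C.h₂ x hx
  have h := A.sub_mem ha (hA g hg _ ha)
  rw [cj, Sy.conj_symOp C.h₂ hg] at h
  have hge : act g e = e := by rw [hga, hex, mul_zero, zero_div, zero_smul, sub_zero]
  have e' : Sy.symOp C.h₂ e a - Sy.symOp C.h₂ (act g e) (act g a) =
      (2 * f₂ a x / f₂ x x) • Sy.symOp C.h₂ e x := by
    refine LinearMap.ext fun y => ?_
    simp only [hge, hga, LinearMap.sub_apply, LinearMap.smul_apply, Sy.symOp_apply C.h₂, Sy.sub_right C.h₂,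
      Sy.smul_right C.h₂]
    module
  rw [e'] at h
  exact (A.smul_mem_iff (div_ne_zero (mul_ne_zero C.two hax) hx)).1 h

variable [Finite F]

/-- top elements of `M` are scalar -/
theorem top_scalar (hM : ¬ isoGroup f ≤ M) {v : Fin n₁ → F} (hv : v ≠ 0) {g : GL ι F} (hg : g ∈ M)
    {R : End₂ F n₂} (h : IsTop T f₁ v g R) : ∃ k : F, ∀ w, R w = k • w := by
  have h2 := C.two
  -- self-adjointness
  obtain ⟨u, hu⟩ := (C.h₁.nondegenerate v hv).1
  have hadj : ∀ w w', f₂ (R w) w' = f₂ w (R w') := by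
    intro w w'
    have e := iso_of_mem C hg (pt T u w) (pt T u w')
    rw [h, h] at e
    simp only [f_add_left C.hf, f_add_right C.hf, f_smul_left C.hf, f_smul_right C.hf, C.form, C.h₁.alternating,
      C.h₁.skew v u] at e
    refine mul_left_cancel₀ (mul_ne_zero C.c_ne (mul_ne_zero hu hu)) ?_
    linear_combination -e
  obtain ⟨A, hAmem⟩ := top_submodule C hv
  have hA : ∀ β ∈ isoGroup f₂, ∀ R ∈ A, cj β R ∈ A := by
    intro β hβ R hR
    obtain ⟨x, hx, hR⟩ := (hAmem R).1 hR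
    have hgl := right_mem C hβ
    refine (hAmem _).2 ⟨_, M.mul_mem (M.mul_mem hgl hx) (M.inv_mem hgl), fun u w => ?_⟩
    rw [isPure_conj C (isPure_of_isTop C hR) (one_mem _) β u w, act_one]
    simp [cj_apply, pt_zero_right]
  -- no rank one element at an isotropic vector
  have fin1 : ∀ z : Fin n₂ → F, f₂ z z = 0 → z ≠ 0 → Sy.symOp C.h₂ z z ∉ A := by
    intro z hz hz0 hmem
    refine hM (iso_le_of_full C hv hz hz0 fun k => ?_)
    obtain ⟨x, hx, hact⟩ := (hAmem _).1 (A.smul_mem (k * c / 2) hmem)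
    convert hx using 1
    refine gl_ext_pt T fun p q => ?_
    rw [act_stv C.hf, C.form, hact, LinearMap.smul_apply, Sy.symOp_apply C.h₂]
    simp only [pt_smul_right, pt_add_right, smul_add]
    match_scalars <;> field_simp
    all_goals ring
  -- no `sym(e, z)` for isotropic `z`
  have fin2 : ∀ e z : Fin n₂ → F, f₂ e e ≠ 0 → f₂ z z = 0 → z ≠ 0 → f₂ e z = 0 →
      Sy.symOp C.h₂ e z ∉ A := by
    intro e z he hz hz0 hez hmem
    obtain ⟨s, hs, hsa⟩ := Sy.exists_siegel C.h₂ hz (show f₂ z e = 0 by rw [C.h₂.symm, hez]) h2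
    have hsub := A.sub_mem hmem (hA s hs _ hmem)
    rw [cj, Sy.conj_symOp C.h₂ hs, hsa, hsa, hz, hez, C.h₂.symm z e, hez] at hsub
    refine fin1 z hz hz0 ?_
    have e' : Sy.symOp C.h₂ e z - Sy.symOp C.h₂ (e + (0 : F) • e - (f₂ e e + 0 * f₂ e e / 2) • z)
        (z + (0 : F) • e - (0 + 0 * f₂ e e / 2) • z) = f₂ e e • Sy.symOp C.h₂ z z := by
      refine LinearMap.ext fun y => ?_
      simp only [zero_smul, add_zero, zero_mul, zero_div, sub_zero, LinearMap.sub_apply, LinearMap.smul_apply,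
        Sy.symOp_apply C.h₂, Sy.sub_right C.h₂, Sy.smul_right C.h₂]
      module
    rw [e'] at hsub
    exact (A.smul_mem_iff he).1 hsub
  -- `sym(e, a)` has no isotropic vector orthogonal to both
  have perpAniso : ∀ e a z : Fin n₂ → F, f₂ e e ≠ 0 → f₂ a a ≠ 0 → f₂ e a = 0 → Sy.symOp C.h₂ e a ∈ A →
      f₂ z e = 0 → f₂ z a = 0 → f₂ z z = 0 → z = 0 := by
    intro e a z he ha hea hmem hze hza hz
    by_contra hz0
    obtain ⟨s, hs, hsa⟩ := Sy.exists_siegel C.h₂ hz hza h2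
    have hsub := A.sub_mem hmem (hA s hs _ hmem)
    rw [cj, Sy.conj_symOp C.h₂ hs, hsa, hsa, C.h₂.symm e z, hze, C.h₂.symm a z, hza, hea] at hsub
    refine fin2 e z he hz hz0 (by rw [C.h₂.symm, hze]) ?_
    have e' : Sy.symOp C.h₂ e a - Sy.symOp C.h₂ (e + (0 : F) • a - (0 + 0 * f₂ a a / 2) • z)
        (a + (0 : F) • a - (f₂ a a + 0 * f₂ a a / 2) • z) = f₂ a a • Sy.symOp C.h₂ e z := by
      refine LinearMap.ext fun y => ?_
      simp only [zero_smul, add_zero, zero_mul, zero_div, sub_zero, LinearMap.sub_apply, LinearMap.smul_apply,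
        Sy.symOp_apply C.h₂, Sy.sub_right C.h₂, Sy.smul_right C.h₂]
      module
    rw [e'] at hsub
    exact (A.smul_mem_iff ha).1 hsub
  -- `sym(e, a)` gives every `sym(e, z)`
  have full : ∀ e a : Fin n₂ → F, f₂ e e ≠ 0 → f₂ a a ≠ 0 → f₂ e a = 0 → Sy.symOp C.h₂ e a ∈ A →
      ∀ z, f₂ e z = 0 → Sy.symOp C.h₂ e z ∈ A := by
    intro e a he ha hea hmem
    have hlin : ∀ (p : F) (z y : Fin n₂ → F), Sy.symOp C.h₂ e (p • z + y) =
        p • Sy.symOp C.h₂ e z + Sy.symOp C.h₂ e y := fun p z y => by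
      refine LinearMap.ext fun x => ?_
      simp only [LinearMap.add_apply, LinearMap.smul_apply, Sy.symOp_apply C.h₂, Sy.add_right C.h₂,
        Sy.smul_right C.h₂]
      module
    have hgrow : ∀ z, f₂ z e = 0 → f₂ z a = 0 → z ≠ 0 → ∀ s : F, s ≠ 0 → f₂ a a + s * s * f₂ z z ≠ 0 →
        Sy.symOp C.h₂ e z ∈ A := by
      intro z hze hza hz0 s hs hne
      have h1 := sym_grow C hA (x := s • z + a) hea
        (by rw [Sy.add_right C.h₂, Sy.smul_right C.h₂, C.h₂.symm e z, hze, hea, mul_zero, add_zero])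
        (by rwa [Sy.self_add C.h₂, Sy.self_smul C.h₂, Sy.smul_left C.h₂, hza, mul_zero, mul_zero, add_zero,
          add_comm])
        (by rwa [Sy.add_right C.h₂, Sy.smul_right C.h₂, C.h₂.symm a z, hza, mul_zero, zero_add]) hmem
      rw [hlin] at h1
      exact (A.smul_mem_iff hs).1 ((Submodule.add_mem_iff_left A hmem).1 h1)
    have hperp : ∀ z, f₂ z e = 0 → f₂ z a = 0 → Sy.symOp C.h₂ e z ∈ A := by
      intro z hze hza
      rcases eq_or_ne z 0 with rfl | hz0
      · have : Sy.symOp C.h₂ e (0 : Fin n₂ → F) = 0 := by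
          refine LinearMap.ext fun x => ?_; simp [Sy.symOp_apply C.h₂, Sy.zero_right C.h₂]
        rw [this]; exact A.zero_mem
      by_cases hne : f₂ a a + f₂ z z ≠ 0
      · exact hgrow z hze hza hz0 1 one_ne_zero (by simpa using hne)
      push Not at hne
      by_cases hex : ∃ x : F, x ≠ 0 ∧ x ≠ 1 ∧ x ≠ -1
      · obtain ⟨x, hx0, hx1, hx2⟩ := hex
        refine hgrow z hze hza hz0 x hx0 ?_
        rw [show f₂ a a + x * x * f₂ z z = (x - 1) * (x + 1) * f₂ z z by linear_combination hne]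
        have hzz : f₂ z z ≠ 0 := fun e0 => ha (by rw [e0, add_zero] at hne; exact hne)
        exact mul_ne_zero (mul_ne_zero (sub_ne_zero.2 hx1) (fun e0 => hx2 (eq_neg_of_add_eq_zero_left e0))) hzz
      -- three elements: a second vector of the same value
      push Not at hex
      have h4 : 4 ≤ n₂ := by
        rcases Nat.lt_or_ge n₂ 4 with hlt | hge
        · obtain ⟨x, h0, h1, h3⟩ := C.hex (by have := C.three; omega)
          exact absurd (hex x h0 h1) h3
        · exact hge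
      obtain ⟨y, hy0, hye, hya, hyz⟩ : ∃ y, y ≠ 0 ∧ f₂ y e = 0 ∧ f₂ y a = 0 ∧ f₂ y z = 0 := by
        have := Sy.finrank_ker_inf C.h₂ ⊤ ![e, a, z]
        rw [finrank_top, Module.finrank_fin_fun, top_inf_eq] at this
        obtain ⟨y, hy, hy0⟩ := Submodule.exists_mem_ne_zero_of_ne_bot (p := ⨅ i, LinearMap.ker
          (flin C.h₂.bilinear (![e, a, z] i))) (fun e0 => by rw [e0, finrank_bot] at this; omega)
        exact ⟨y, hy0, (Submodule.mem_iInf _).1 hy 0, (Submodule.mem_iInf _).1 hy 1, (Submodule.mem_iInf _).1 hy 2⟩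
      have hzy : f₂ z y = 0 := by rw [C.h₂.symm, hyz]
      have hyy : f₂ y y ≠ 0 := fun e0 => hy0 (perpAniso e a y he ha hea hmem hye hya e0)
      have hzz : f₂ z z ≠ 0 := fun e0 => hz0 (perpAniso e a z he ha hea hmem hze hza e0)
      have hsame : f₂ y y = f₂ z z := by
        have hsum : f₂ (z + y) (z + y) ≠ 0 := fun e0 => by
          have := perpAniso e a (z + y) he ha hea hmem (by rw [Sy.add_left C.h₂, hze, hye, add_zero])
            (by rw [Sy.add_left C.h₂, hza, hya, add_zero]) e0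
          rw [eq_neg_of_add_eq_zero_left this, Sy.neg_left C.h₂, neg_eq_zero] at hzy
          exact hyy hzy
        rw [Sy.self_add C.h₂, hzy, mul_zero, add_zero] at hsum
        obtain ⟨r, hr⟩ : ∃ r, f₂ y y = r * f₂ z z := ⟨f₂ y y / f₂ z z, by field_simp⟩
        rcases eq_or_ne r 0 with rfl | hr0
        · exact absurd (by rw [hr, zero_mul]) hyy
        rcases eq_or_ne r 1 with rfl | hr1
        · rw [hr, one_mul]
        · exfalso
          apply hsum
          rw [hr, hex r hr0 hr1]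
          ring
      have hz2 : f₂ a a + (1 * 1) * (2 * f₂ z z) ≠ 0 := by
        rw [show f₂ a a + (1 * 1) * (2 * f₂ z z) = f₂ z z by linear_combination hne]
        exact hzz
      have h3 : z + y ≠ 0 ∧ z - y ≠ 0 := by
        constructor <;> intro e0
        · rw [eq_neg_of_add_eq_zero_left e0, Sy.neg_left C.h₂, neg_eq_zero] at hzy; exact hyy hzy
        · rw [sub_eq_zero.1 e0] at hzy; exact hyy hzy
      have h1 := hgrow (z + y) (by rw [Sy.add_left C.h₂, hze, hye, add_zero])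
        (by rw [Sy.add_left C.h₂, hza, hya, add_zero]) h3.1 1 one_ne_zero
        (by rw [Sy.self_add C.h₂, hzy, hsame]; convert hz2 using 2; ring)
      have h2' := hgrow (z - y) (by rw [Sy.sub_left C.h₂, hze, hye, sub_zero])
        (by rw [Sy.sub_left C.h₂, hza, hya, sub_zero]) h3.2 1 one_ne_zero
        (by
          rw [Sy.sub_left C.h₂, Sy.sub_right C.h₂, Sy.sub_right C.h₂, hzy, hyz, hsame]
          convert hz2 using 2; ring)
      have h4' := A.smul_mem (1 / 2 : F) (A.add_mem h1 h2')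
      convert h4' using 1
      refine LinearMap.ext fun x => ?_
      simp only [LinearMap.add_apply, LinearMap.smul_apply, Sy.symOp_apply C.h₂, Sy.add_right C.h₂,
        Sy.sub_right C.h₂]
      match_scalars <;> field_simp
      all_goals ring
    intro z hez
    have hd : z = (f₂ z a / f₂ a a) • a + (z - (f₂ z a / f₂ a a) • a) := by abel
    rw [hd, hlin]
    refine A.add_mem (A.smul_mem _ hmem) (hperp _ ?_ ?_)
    · rw [Sy.sub_left C.h₂, Sy.smul_left C.h₂, C.h₂.symm z e, hez, C.h₂.symm a e, hea, mul_zero, sub_zero]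
    · rw [Sy.sub_left C.h₂, Sy.smul_left C.h₂, div_mul_cancel₀ _ ha, sub_self]
  -- an operator moving an anisotropic vector gives some `sym(e, a)`
  refine exists_scalar_of_eigen R fun x => ?_
  by_contra hx
  have hRA : R ∈ A := (hAmem R).2 ⟨g, hg, h⟩
  obtain ⟨e, he, hRe⟩ : ∃ e, f₂ e e ≠ 0 ∧ R e ∉ F ∙ e := by
    by_contra hno
    push Not at hno
    obtain ⟨a, -, ha0, ha⟩ := Sy.exists_isotropic C.h₂ (finrank₂ C)
    obtain ⟨e₀, he₀, -⟩ := Sy.exists_aniso C.h₂ h2 ha ha0 ha0 ha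
    by_cases hxx : f₂ x x ≠ 0
    · exact hx (hno x hxx)
    push Not at hxx
    have hx0 : x ≠ 0 := fun e0 => hx (by rw [e0, map_zero]; exact Submodule.zero_mem _)
    obtain ⟨e, he, hex, -⟩ := Sy.exists_aniso C.h₂ h2 hxx hx0 hx0 hxx
    obtain ⟨y, hyy, -, hyx⟩ := Sy.exists_perp_aniso C.h₂ h2 (by simpa using C.three) hex hxx
    obtain ⟨p, hp⟩ := Submodule.mem_span_singleton.1 (hno y hyy)
    obtain ⟨r, hr⟩ := Submodule.mem_span_singleton.1 (hno (y + x) (by
      rwa [Sy.self_add C.h₂, hxx, hyx, mul_zero, add_zero, add_zero]))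
    rw [map_add, ← hp] at hr
    have hRx : R x = (r - p) • y + r • x := by linear_combination (norm := module) -hr
    have h0 : (r - p) * f₂ y y = 0 := by
      have e1 := hadj x y
      rw [← hp, hRx, Sy.add_left C.h₂, Sy.smul_left C.h₂, Sy.smul_left C.h₂, Sy.smul_right C.h₂,
        C.h₂.symm x y, hyx] at e1
      linear_combination e1
    rw [(mul_eq_zero.1 h0).resolve_right hyy, zero_smul, zero_add] at hRx
    exact hx (Submodule.mem_span_singleton.2 ⟨r, hRx.symm⟩)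
  obtain ⟨g₀, hg₀, hga⟩ := Sy.exists_refl C.h₂ e he
  have hsub := A.sub_mem hRA (hA g₀ hg₀ R hRA)
  obtain ⟨a, ha⟩ : ∃ a, a = R e - (f₂ (R e) e / f₂ e e) • e := ⟨_, rfl⟩
  have hea : f₂ e a = 0 := by
    rw [ha, Sy.sub_right C.h₂, Sy.smul_right C.h₂, C.h₂.symm e (R e), div_mul_cancel₀ _ he, sub_self]
  have ha0 : a ≠ 0 := fun e0 => hRe (Submodule.mem_span_singleton.2 ⟨f₂ (R e) e / f₂ e e,
    (sub_eq_zero.1 (ha ▸ e0)).symm⟩)
  have hinv : g₀⁻¹ = g₀ := inv_eq_of_mul_eq_one_right (gl_ext fun y => by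
    rw [act_mul, act_one, hga (act g₀ y), hga y, Sy.sub_left C.h₂, Sy.smul_left C.h₂,
      div_mul_cancel₀ _ he]
    match_scalars <;> field_simp
    all_goals ring)
  have e' : R - cj g₀ R = (2 / f₂ e e) • Sy.symOp C.h₂ e a := by
    refine LinearMap.ext fun y => ?_
    rw [LinearMap.sub_apply, cj_apply, hinv, hga y, map_sub, map_smul, hga, Sy.sub_left C.h₂, Sy.smul_left C.h₂,
      LinearMap.smul_apply, Sy.symOp_apply C.h₂, ha, Sy.sub_right C.h₂, Sy.smul_right C.h₂, hadj y e,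
      C.h₂.symm (R e) e]
    match_scalars <;> field_simp
    all_goals ring
  rw [e'] at hsub
  have hmem := (A.smul_mem_iff (div_ne_zero h2 he)).1 hsub
  by_cases haa : f₂ a a = 0
  · exact fin2 e a he haa ha0 hea hmem
  obtain ⟨z, -, hz0, hz⟩ := Sy.exists_isotropic C.h₂ (finrank₂ C)
  by_cases hze : f₂ e z = 0
  · exact fin2 e z he hz hz0 hze (full e a he haa hea hmem z hze)
  obtain ⟨p, hp, hpe, hpz⟩ := Sy.exists_perp_aniso C.h₂ h2 (by simpa using C.three) hze hz
  have hmem' : Sy.symOp C.h₂ p e ∈ A := by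
    have := full e a he haa hea hmem p (by rw [C.h₂.symm, hpe])
    convert this using 1
    refine LinearMap.ext fun y => ?_; rw [Sy.symOp_apply C.h₂, Sy.symOp_apply C.h₂, add_comm]
  exact fin2 p z hp hz hz0 hpz (full p e hp he hpe hmem' z hpz)

end Cfsg.Agent.MaxCl.TensSO
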