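/-
Elements of an overgroup of a symplectic ⊗ orthogonal tensor stabiliser in the middle layer at a root group have
scalar operators.
-/
import Mathlib
import Cfsg.Agent.Lib.MaxCl.SympOrthTensorTop

set_option autoImplicit false
set_option linter.unusedSectionVars false
set_option linter.unusedSimpArgs false

namespace Cfsg.Agent.MaxCl.TensSO

open scoped MatrixGroups Matrix
open Module (finrank)
open Tens

variable {ι : Type} [Fintype ι] [DecidableEq ι] {F : Type*} [Field F] {n₁ n₂ : ℕ}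
variable {T : TSys ι F n₁ n₂} {f : (ι → F) → (ι → F) → F}
variable {f₁ : (Fin n₁ → F) → (Fin n₁ → F) → F} {f₂ : (Fin n₂ → F) → (Fin n₂ → F) → F} {c : F}
variable {M : Subgroup (GL ι F)}
variable (C : OCtx T f f₁ f₂ c M)
include C

/-- the short root element `r ⊗ 1` -/
theorem act_glRoot {v z : Fin n₁ → F} (hvz : f₁ v z = 0) (x : ι → F) :
    act (gl T (root C.h₁ v z) 1) x = x + pt T z (pj T C.h₁ v x) + pt T v (pj T C.h₁ z x) := by
  have : act (gl T (root C.h₁ v z) 1) =
      LinearMap.id + ptR T z ∘ₗ pj T C.h₁ v + ptR T v ∘ₗ pj T C.h₁ z := pt_ext T fun u w => by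
    show _ = pt T u w + pt T z (pj T C.h₁ v (pt T u w)) + pt T v (pj T C.h₁ z (pt T u w))
    rw [act_gl_pt, act_one, act_root C.h₁ hvz, pj_pt, pj_pt, pt_add_left, pt_add_left, pt_smul_left,
      pt_smul_left, pt_smul_right, pt_smul_right]
  rw [this]; rfl

/-- the two middle operators are adjoint -/
theorem pure_adjoint {v z : Fin n₁ → F} {S S' R : End₂ F n₂} {g : GL ι F} (hg : g ∈ M)
    (h : IsPure T f₁ v z S S' R g) (hv : v ≠ 0) (hz : z ∉ F ∙ v) (hvz : f₁ v z = 0) (w w' : Fin n₂ → F) :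
    f₂ (S w) w' = f₂ w (S' w') := by
  obtain ⟨x, hx0, hx1⟩ := SP.exists_zero_one C.h₁ hz
  obtain ⟨y, hy0, hy1⟩ := SP.exists_zero_one C.h₁ (a := z) (v := v) (fun e => hz (by
    obtain ⟨k, hk⟩ := Submodule.mem_span_singleton.1 e
    have hk0 : k ≠ 0 := by rintro rfl; exact hv (by rw [← hk, zero_smul])
    exact Submodule.mem_span_singleton.2 ⟨k⁻¹, by rw [← hk, inv_smul_smul₀ hk0]⟩))
  have e := iso_of_mem C hg (pt T x w) (pt T y w')
  rw [h, h] at e
  simp only [f_add_left C.hf, f_add_right C.hf, f_smul_left C.hf, f_smul_right C.hf, C.form, hy0, hy1,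
    C.h₁.skew x z, C.h₁.skew x v, C.h₁.skew y z, C.h₁.skew y v, hx0, hx1, hvz, C.h₁.alternating,
    f_eq_zero_symm C.h₁ hvz] at e
  refine mul_left_cancel₀ C.c_ne ?_
  linear_combination -e

variable [Finite F]

/-- middle elements of `M` have scalar operators -/
theorem pure_scalar (hM : ¬ isoGroup f ≤ M) {v z : Fin n₁ → F} (hv : v ≠ 0) (hz : z ∉ F ∙ v)
    (hvz : f₁ v z = 0) {S S' R : End₂ F n₂} {g : GL ι F} (hg : g ∈ M) (h : IsPure T f₁ v z S S' R g) :
    ∃ k : F, ∀ w, S w = k • w := by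
  have hadj := pure_adjoint C hg h hv hz hvz
  obtain ⟨x, hx0, hx1⟩ := SP.exists_zero_one C.h₁ hz
  have hx0' : f₁ x v = 0 := f_eq_zero_symm C.h₁ hx0
  have hx1' : f₁ x z = -1 := by rw [C.h₁.skew, hx1]
  -- moving `z` to `z + v` gives a top element
  have hr := root_mem C.h₁ v x
  have hrv : act (root C.h₁ v x) v = v := by
    rw [act_root C.h₁ hx0, C.h₁.alternating, hx0, zero_smul, zero_smul, add_zero, add_zero]
  have hrz : act (root C.h₁ v x) z = z + v := by
    rw [act_root C.h₁ hx0, f_eq_zero_symm C.h₁ hvz, hx1, zero_smul, add_zero, one_smul]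
  have h1 := isPure_conj C h hr (1 : GL (Fin n₂) F)
  rw [hrv, hrz, cj_one, cj_one, cj_one] at h1
  have hM1 := left_mem C hr
  obtain ⟨k, hk⟩ := top_scalar C hM hv
    (M.mul_mem (M.mul_mem (M.mul_mem hM1 hg) (M.inv_mem hM1)) (M.inv_mem hg))
    (R := S + S') (fun u w => by
      rw [act_mul, isPure_inv C hvz h u w]
      simp only [map_add, map_smul, h1 _, C.h₁.alternating, f_add_right C.h₁, hvz, f_eq_zero_symm C.h₁ hvz,
        zero_smul, add_zero, LinearMap.add_apply, LinearMap.neg_apply, pt_neg_right, map_neg, pt_add_left,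
        pt_add_right]
      module)
  -- remove the scalar part
  obtain ⟨t, ht⟩ : ∃ t, t = k / 2 := ⟨_, rfl⟩
  have hkt : k = 2 * t := by rw [ht]; field_simp [C.two]
  have hvtz : f₁ v ((-t) • z) = 0 := by rw [f_smul_right C.h₁, hvz, mul_zero]
  have hq : IsPure T f₁ v z ((-t) • LinearMap.id) ((-t) • LinearMap.id) 0
      (gl T (root C.h₁ v ((-t) • z)) 1) := fun u w => by
    rw [act_gl_pt, act_one, act_root C.h₁ hvtz, f_smul_right C.h₁]
    simp only [LinearMap.smul_apply, LinearMap.id_apply, LinearMap.zero_apply, pt_zero_right, pt_add_left,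
      pt_smul_left, pt_smul_right, smul_zero, add_zero]
    module
  have hg₁ : gl T (root C.h₁ v ((-t) • z)) 1 * g ∈ M := M.mul_mem (left_mem C (root_mem C.h₁ _ _)) hg
  have hp₁ := isPure_mul C hvz hq h
  obtain ⟨K, hK⟩ : ∃ K, K = (-t) • LinearMap.id + S := ⟨_, rfl⟩
  have hS' : (-t) • LinearMap.id + S' = -K := LinearMap.ext fun w => by
    have := hk w
    simp only [LinearMap.add_apply] at this
    simp only [hK, LinearMap.add_apply, LinearMap.smul_apply, LinearMap.id_apply, LinearMap.neg_apply]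
    linear_combination (norm := module) this + hkt • w
  rw [← hK, hS', zero_add] at hp₁
  have hskew : ∀ w w', f₂ (K w) w' = -f₂ w (K w') := fun w w' => by
    have e : S' w' = k • w' - S w' := by rw [← hk w', LinearMap.add_apply, add_sub_cancel_left]
    simp only [hK, LinearMap.add_apply, LinearMap.smul_apply, LinearMap.id_apply, Sy.add_left C.h₂,
      Sy.add_right C.h₂, Sy.smul_left C.h₂, Sy.smul_right C.h₂, hadj, e, Sy.sub_right C.h₂, hkt]
    ring
  suffices hK0 : K = 0 by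
    refine ⟨t, fun w => ?_⟩
    have := LinearMap.congr_fun (hK.symm.trans hK0) w
    simp only [LinearMap.add_apply, LinearMap.smul_apply, LinearMap.id_apply, LinearMap.zero_apply] at this
    linear_combination (norm := module) this
  by_contra hK0
  -- an anisotropic vector moved by `K`
  obtain ⟨e, he, hKe⟩ : ∃ e, f₂ e e ≠ 0 ∧ K e ≠ 0 := by
    by_contra hno
    push Not at hno
    refine hK0 (LinearMap.ext fun w => ?_)
    by_cases hw : f₂ w w ≠ 0
    · exact hno w hw
    push Not at hw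
    rcases eq_or_ne w 0 with rfl | hw0
    · rw [map_zero]; rfl
    obtain ⟨e, he, hew, -⟩ := Sy.exists_aniso C.h₂ C.two hw hw0 hw0 hw
    obtain ⟨p, hp, -, hpw⟩ := Sy.exists_perp_aniso C.h₂ C.two (by simpa using C.three) hew hw
    have := hno (p + w) (by rwa [Sy.self_add C.h₂, hw, hpw, mul_zero, add_zero, add_zero])
    rw [map_add, hno p hp, zero_add] at this
    exact this
  have hKee : f₂ (K e) e = 0 := by
    have := hskew e e
    rw [C.h₂.symm e (K e)] at this
    have h2 : 2 * f₂ (K e) e = 0 := by linear_combination this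
    exact (mul_eq_zero.1 h2).resolve_left C.two
  have heKe : f₂ e (K e) = 0 := by rw [C.h₂.symm]; exact hKee
  obtain ⟨y, hy, hya⟩ := Sy.exists_refl C.h₂ e he
  have hinv : y⁻¹ = y := inv_eq_of_mul_eq_one_right (gl_ext fun w => by
    rw [act_mul, act_one, hya (act y w), hya w, Sy.sub_left C.h₂, Sy.smul_left C.h₂, div_mul_cancel₀ _ he]
    match_scalars <;> field_simp
    all_goals ring)
  obtain ⟨K₁, hK₁⟩ : ∃ K₁, K₁ = (2 / f₂ e e) • Sy.skewOp C.h₂ e (K e) := ⟨_, rfl⟩
  have hcj : K - cj y K = K₁ := LinearMap.ext fun w => by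
    have e1 : f₂ (K w) e = -f₂ w (K e) := hskew w e
    rw [LinearMap.sub_apply, cj_apply, hinv, hya w, map_sub, map_smul, hya, Sy.sub_left C.h₂, Sy.smul_left C.h₂,
      e1, hKee, hK₁, LinearMap.smul_apply, Sy.skewOp_apply C.h₂]
    match_scalars <;> field_simp
    all_goals ring
  have hM2 := right_mem C hy
  have hconj := isPure_conj C hp₁ (one_mem (isoGroup f₁)) y
  rw [act_one, act_one] at hconj
  have hp₂ := isPure_mul C hvz hp₁ (isPure_inv C hvz hconj)
  obtain ⟨g₂, hg₂def⟩ : ∃ g₂, g₂ = gl T (root C.h₁ v ((-t) • z)) 1 * g *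
      (gl T 1 y * (gl T (root C.h₁ v ((-t) • z)) 1 * g) * (gl T 1 y)⁻¹)⁻¹ := ⟨_, rfl⟩
  rw [← hg₂def] at hp₂
  have hg₂ : g₂ ∈ M := hg₂def ▸ M.mul_mem hg₁ (M.inv_mem (M.mul_mem (M.mul_mem hM2 hg₁) (M.inv_mem hM2)))
  have e1 : -cj y (-K) = cj y K := by ext w; simp [cj_apply]
  rw [← sub_eq_add_neg K, hcj, e1, neg_add_eq_sub, ← neg_sub K, hcj] at hp₂
  generalize (R + -cj y R) = R₂ at hp₂
  -- a second point of the middle layer
  have hs := stv_mem C.h₁ x (-1)
  have hsv : act (stv C.h₁ x (-1)) v = v := by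
    rw [act_stv C.h₁, hx0, mul_zero, zero_smul, add_zero]
  have hsz : act (stv C.h₁ x (-1)) z = z - x := by
    rw [act_stv C.h₁, hx1, mul_one, neg_one_smul, sub_eq_add_neg]
  have hp₃ := isPure_conj C hp₂ hs (1 : GL (Fin n₂) F)
  rw [hsv, hsz, cj_one, cj_one, cj_one] at hp₃
  have hvzx : f₁ v (z - x) = 0 := by rw [f_sub_right C.h₁, hvz, hx0, sub_zero]
  obtain ⟨g₃, hg₃def⟩ : ∃ g₃, g₃ = gl T (stv C.h₁ x (-1)) 1 * g₂ * (gl T (stv C.h₁ x (-1)) 1)⁻¹ := ⟨_, rfl⟩
  rw [← hg₃def] at hp₃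
  have hM3 := left_mem C hs
  have hg₃ : g₃ ∈ M := hg₃def ▸ M.mul_mem (M.mul_mem hM3 hg₂) (M.inv_mem hM3)
  have e₂ := isPure_inv C hvz hp₂
  have e₃ := isPure_inv C hvzx hp₃
  obtain ⟨r, hr⟩ := top_scalar C hM hv (M.mul_mem (M.mul_mem (M.mul_mem hg₂ hg₃) (M.inv_mem hg₂)) (M.inv_mem hg₃))
    (R := -(K₁ ∘ₗ K₁) + -(K₁ ∘ₗ K₁)) (fun u w => by
      rw [act_mul, act_mul, act_mul, e₃ u w]
      simp only [map_add, map_smul, map_neg, hp₂ _, hp₃ _, e₂ _, C.h₁.alternating, hvz, hvzx,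
        f_eq_zero_symm C.h₁ hvz, f_eq_zero_symm C.h₁ hvzx, f_sub_left C.h₁, f_sub_right C.h₁, hx1, hx1', hx0,
        hx0', zero_smul, add_zero, zero_add, sub_zero, zero_sub, neg_zero, LinearMap.neg_apply, neg_neg,
        LinearMap.smul_apply, LinearMap.comp_apply, pt_neg_right, pt_sub_left, map_sub, pt_add_right,
        pt_smul_right, LinearMap.add_apply]
      module)
  -- such an operator is not scalar
  have hK₁app : ∀ w, K₁ w = (2 / f₂ e e) • (f₂ w e • K e - f₂ w (K e) • e) := fun w => by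
    rw [hK₁, LinearMap.smul_apply, Sy.skewOp_apply C.h₂]
  have hr0 : r = 0 := by
    obtain ⟨y', -, hy0, hye, hyK⟩ := Sy.exists_perp_two C.h₂ (finrank₂ C) (a := e) (b := K e)
    have := hr y'
    rw [LinearMap.add_apply, LinearMap.neg_apply, LinearMap.comp_apply, hK₁app y', hye, hyK, zero_smul, zero_smul,
      sub_zero, smul_zero, map_zero, neg_zero, add_zero, eq_comm, smul_eq_zero, or_iff_left hy0] at this
    exact this
  obtain ⟨w, hw0, hw1⟩ : ∃ w, f₂ w e = 0 ∧ f₂ w (K e) = 1 := by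
    obtain ⟨w, h0, h1⟩ := Sy.exists_vec C.h₂ (W := F ∙ e) (v := K e) (fun hmem => by
      obtain ⟨p, hp⟩ := Submodule.mem_span_singleton.1 hmem
      rw [← hp, Sy.smul_left C.h₂, mul_eq_zero, or_iff_left he] at hKee
      exact hKe (by rw [← hp, hKee, zero_smul]))
    exact ⟨w, by rw [C.h₂.symm]; exact h0 e (Submodule.mem_span_singleton_self e), by rw [C.h₂.symm, h1]⟩
  have := hr w
  rw [hr0, zero_smul, LinearMap.add_apply, LinearMap.neg_apply, LinearMap.comp_apply, hK₁app w, hw0, hw1, zero_smul, one_smul,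
    zero_sub, map_smul, map_neg, hK₁app e, heKe, zero_smul, sub_zero] at this
  have hne : (2 / f₂ e e) ≠ 0 := div_ne_zero C.two he
  rw [← two_smul F, smul_eq_zero, or_iff_right C.two, neg_eq_zero, smul_eq_zero, or_iff_right hne, neg_eq_zero,
    smul_eq_zero, or_iff_right hne, smul_eq_zero, or_iff_right he] at this
  exact hKe this

end Cfsg.Agent.MaxCl.TensSO
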