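/-
In a proper overgroup of a symplectic ⊗ orthogonal tensor stabiliser the normaliser of a root group consists of
tensor products.
-/
import Mathlib
import Cfsg.Agent.Lib.MaxCl.SympOrthTensorPure

set_option autoImplicit false
set_option linter.unusedSectionVars false

namespace Cfsg.Agent.MaxCl.TensSO

open scoped MatrixGroups Matrix
open Module (finrank)
open Tens

variable {ι : Type} [Fintype ι] [DecidableEq ι] {F : Type*} [Field F] {n₁ n₂ : ℕ}
variable {T : TSys ι F n₁ n₂} {f : (ι → F) → (ι → F) → F}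
variable {f₁ : (Fin n₁ → F) → (Fin n₁ → F) → F} {f₂ : (Fin n₂ → F) → (Fin n₂ → F) → F} {c : F}
variable {M : Subgroup (GL ι F)}

theorem cL_cR_comm (χ : (Fin n₁ → F) →ₗ[F] F) (ψ : (Fin n₂ → F) →ₗ[F] F) (T : TSys ι F n₁ n₂)
    (x : ι → F) : ψ (cL T χ x) = χ (cR T ψ x) := by
  have : ψ ∘ₗ cL T χ = χ ∘ₗ cR T ψ := pt_ext T fun u v => by
    simp only [LinearMap.comp_apply, cR_pt, cL_pt, map_smul, smul_eq_mul, mul_comm]
  exact LinearMap.congr_fun this x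

variable (C : OCtx T f f₁ f₂ c M)
include C

theorem eq_zero_of_f₂ {p : Fin n₂ → F} (h : ∀ w, f₂ p w = 0) : p = 0 :=
  Sy.eq_zero C.h₂ fun x => by rw [C.h₂.symm, h]

/-- vectors killed by all `π_φ`, `φ ⊥ ⟨v, v'⟩`, and by `π_v` lie in `v ⊗ W` -/
theorem layer_eq {v v' : Fin n₁ → F} (hvv' : f₁ v v' = 1) {y : ι → F} (hπ : pj T C.h₁ v y = 0)
    (hφ : ∀ φ, f₁ v φ = 0 → f₁ v' φ = 0 → pj T C.h₁ φ y = 0) : y = pt T v (pj T C.h₁ v' y) := by
  refine sub_eq_zero.1 (eq_zero_of_cR T fun ψ => ?_)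
  refine sub_eq_zero.1 ?_
  rw [sub_zero]
  by_contra h0
  obtain ⟨t, ht⟩ := (C.h₁.nondegenerate _ h0).1
  apply ht
  obtain ⟨φ, hφdef⟩ : ∃ φ, φ = t - f₁ t v' • v - f₁ v t • v' := ⟨_, rfl⟩
  have hv'v : f₁ v' v = -1 := by rw [C.h₁.skew, hvv']
  have h1 : f₁ v φ = 0 := by
    rw [hφdef]; simp only [f_sub_right C.h₁, f_smul_right C.h₁, C.h₁.alternating, hvv']; ring
  have h2 : f₁ v' φ = 0 := by
    rw [hφdef]; simp only [f_sub_right C.h₁, f_smul_right C.h₁, C.h₁.alternating, hv'v, C.h₁.skew v' t]; ring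
  have hdec : pj T C.h₁ t = pj T C.h₁ φ + f₁ t v' • pj T C.h₁ v + f₁ v t • pj T C.h₁ v' :=
    pt_ext T fun u w => by
      simp only [LinearMap.add_apply, LinearMap.smul_apply, pj_pt, hφdef, f_sub_right C.h₁, f_smul_right C.h₁]
      module
  have hd0 : pj T C.h₁ t (y - pt T v (pj T C.h₁ v' y)) = 0 := by
    simp only [hdec, LinearMap.add_apply, LinearMap.smul_apply, map_sub, hφ φ h1 h2, hπ, pj_pt, h1,
      C.h₁.alternating, hvv', one_smul, zero_smul, sub_self, smul_zero, sub_zero, add_zero]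
  rw [C.h₁.skew t, ← flin_apply C.h₁.bilinear t, ← cL_cR_comm (flin C.h₁.bilinear t) ψ T]
  show -ψ (pj T C.h₁ t (y - pt T v (pj T C.h₁ v' y))) = 0
  rw [hd0, map_zero, neg_zero]

/-- isometries fixing `v^⊥ ⊗ W` pointwise are top elements -/
theorem exists_isTop {v v' : Fin n₁ → F} (hvv' : f₁ v v' = 1) {g : GL ι F} (hg : g ∈ M)
    (hfix : ∀ u w, f₁ u v = 0 → act g (pt T u w) = pt T u w) : ∃ R, IsTop T f₁ v g R := by
  have hv'v : f₁ v' v = -1 := by rw [C.h₁.skew, hvv']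
  let E : (Fin n₂ → F) →ₗ[F] (ι → F) := -((act g - LinearMap.id) ∘ₗ ptR T v')
  refine ⟨pj T C.h₁ v' ∘ₗ E, fun u w => ?_⟩
  have hperp : ∀ φ, f₁ φ v = 0 → pj T C.h₁ φ (E w) = 0 := fun φ hφ => by
    refine eq_zero_of_f₂ C fun a => ?_
    refine mul_left_cancel₀ C.c_ne ?_
    rw [← form_left C, mul_zero]
    show f (-(act g (pt T v' w) - pt T v' w)) (pt T φ a) = 0
    rw [← neg_one_smul F, f_smul_left C.hf, f_sub_left C.hf]
    conv_lhs => arg 2; arg 1; rw [← hfix φ a hφ]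
    rw [iso_of_mem C hg, sub_self, mul_zero]
  have hE := layer_eq C hvv' (hperp v (C.h₁.alternating v)) fun φ h1 _ => hperp φ (f_eq_zero_symm C.h₁ h1)
  show _ = _ + f₁ u v • pt T v (pj T C.h₁ v' (E w))
  rw [← hE]
  have hu : pt T u w = pt T (u + f₁ u v • v') w - f₁ u v • pt T v' w := by
    rw [pt_add_left, pt_smul_left, add_sub_cancel_right]
  rw [hu, map_sub, map_smul, hfix _ w (by rw [f_add_left C.h₁, f_smul_left C.h₁, hv'v]; ring)]
  show _ = _ + f₁ u v • -(act g (pt T v' w) - pt T v' w)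
  module

variable [Finite F]

/-- elements of `M` fixing `v ⊗ W` act on `(z ⊗ W + v ⊗ W) / v ⊗ W` by scalars -/
theorem layer_scalar (hM : ¬ isoGroup f ≤ M) {v z : Fin n₁ → F} (hv : v ≠ 0) (hvz : f₁ v z = 0)
    {ρ : GL ι F} (hρ : ρ ∈ M) (hfix : ∀ w, act ρ (pt T v w) = pt T v w)
    {Ψ : End₂ F n₂} (hΨ : ∀ w, act ρ (pt T z w) = pt T z w + pt T v (Ψ w)) : ∃ k : F, ∀ w, Ψ w = k • w := by
  by_cases hz : z ∈ F ∙ v
  · obtain ⟨k, rfl⟩ := Submodule.mem_span_singleton.1 hz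
    refine ⟨0, fun w => ?_⟩
    have := hΨ w
    rw [pt_smul_left, map_smul, hfix, left_eq_add, pt_eq_zero, or_iff_right hv] at this
    rw [this, zero_smul]
  obtain ⟨v'', hv''⟩ := SP.exists_one C.h₁ hv
  have hv''v : f₁ v'' v = -1 := by rw [C.h₁.skew, hv'']
  let D : (ι → F) →ₗ[F] (Fin n₂ → F) := pj T C.h₁ z ∘ₗ act ρ⁻¹ - pj T C.h₁ z
  have hD0 : ∀ x, pj T C.h₁ v x = 0 → D x = 0 := fun x hx => by
    refine eq_zero_of_f₂ C fun w => mul_left_cancel₀ C.c_ne ?_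
    show c * f₂ (pj T C.h₁ z (act ρ⁻¹ x) - pj T C.h₁ z x) w = c * 0
    rw [Sy.sub_left C.h₂, mul_sub, ← form_left C, ← form_left C, ← iso_of_mem C hρ (act ρ⁻¹ x), act_act_inv, hΨ,
      f_add_right C.hf, add_sub_cancel_left, form_left C, hx, Sy.zero_left C.h₂]
  let S' : End₂ F n₂ := -(D ∘ₗ ptR T v'')
  have hD : ∀ x, pj T C.h₁ z (act ρ⁻¹ x) = pj T C.h₁ z x + S' (pj T C.h₁ v x) := fun x => by
    have h := hD0 (x + pt T v'' (pj T C.h₁ v x)) (by rw [map_add, pj_pt, hv''v, neg_one_smul, add_neg_cancel])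
    rw [map_add] at h
    show _ = pj T C.h₁ z x + -(D (pt T v'' (pj T C.h₁ v x)))
    rw [← eq_neg_of_add_eq_zero_left h]
    show _ = pj T C.h₁ z x + (pj T C.h₁ z (act ρ⁻¹ x) - pj T C.h₁ z x)
    abel
  have hpure : IsPure T f₁ v z Ψ S' (Ψ ∘ₗ S') ((rt T C.h₁ z 1)⁻¹ * (ρ * rt T C.h₁ z 1 * ρ⁻¹)) := by
    intro u w
    rw [act_mul]
    apply act_injective (rt T C.h₁ z 1)
    rw [act_act_inv, act_rt C.h₁, act_mul, act_mul, act_rt C.h₁, one_smul, one_smul, map_add, act_act_inv,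
      hD, hΨ, pj_pt, pj_pt]
    simp only [map_add, map_smul, pj_pt, LinearMap.comp_apply, hvz, C.h₁.alternating, zero_smul, smul_zero,
      add_zero, pt_add_right, pt_smul_right]
    module
  exact pure_scalar C hM hv hz hvz
    (M.mul_mem (M.inv_mem (rt_mem C z 1)) (M.mul_mem (M.mul_mem hρ (rt_mem C z 1)) (M.inv_mem hρ))) hpure

/-- the normaliser of a root group -/
theorem centralizer_tensor (hM : ¬ isoGroup f ≤ M) {v : Fin n₁ → F} (hv0 : v ≠ 0) {d d' : F}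
    (hd : d ≠ 0) (hd' : d' ≠ 0) {g : GL ι F} (hg : g ∈ M)
    (hcomm : g * rt T C.h₁ v d = rt T C.h₁ v d' * g) :
    g ∈ Cfsg.Geo.tensorProductSubgroup n₁ n₂ T.e T.P := by
  classical
  obtain ⟨v', hvv'⟩ := SP.exists_one C.h₁ hv0
  have hv'v : f₁ v' v = -1 := by rw [C.h₁.skew, hvv']
  obtain ⟨ν, hνdef⟩ : ∃ ν, ν = d / d' := ⟨_, rfl⟩
  have hν : ν ≠ 0 := hνdef ▸ div_ne_zero hd hd'
  have hgr : ∀ x, act g (pt T v (pj T C.h₁ v x)) = ν⁻¹ • pt T v (pj T C.h₁ v (act g x)) := by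
    intro x
    have e : act (g * rt T C.h₁ v d) x = act (rt T C.h₁ v d' * g) x := by rw [hcomm]
    rw [act_mul, act_mul, act_rt C.h₁, act_rt C.h₁, map_add, map_smul] at e
    have := add_left_cancel e
    apply smul_right_injective (ι → F) hd
    show d • _ = d • (ν⁻¹ • _)
    rw [this, smul_smul, hνdef, inv_div, mul_div_cancel₀ _ hd]
  let A : End₂ F n₂ := -ν⁻¹ • (pj T C.h₁ v ∘ₗ act g ∘ₗ ptR T v')
  have hA : ∀ w, act g (pt T v w) = pt T v (A w) := fun w => by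
    have h := hgr (pt T v' w)
    rw [pj_pt, hv'v, neg_one_smul, pt_neg_right, map_neg, neg_eq_iff_eq_neg] at h
    rw [h]
    show _ = pt T v (-ν⁻¹ • pj T C.h₁ v (act g (pt T v' w)))
    rw [pt_smul_right, neg_smul]
  have hπ : ∀ x, pj T C.h₁ v (act g x) = ν • A (pj T C.h₁ v x) := by
    intro x
    have h1 : pt T v (A (pj T C.h₁ v x)) = pt T v (ν⁻¹ • pj T C.h₁ v (act g x)) := by
      rw [← hA, hgr, pt_smul_right]
    have h2 : A (pj T C.h₁ v x) = ν⁻¹ • pj T C.h₁ v (act g x) := by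
      refine sub_eq_zero.1 (((pt_eq_zero T).1 ?_).resolve_left hv0)
      rw [pt_sub_right, h1, sub_self]
    rw [h2, smul_inv_smul₀ hν]
  have hAinj : Function.Injective A := fun w w' h => by
    have h1 : pt T v w = pt T v w' := act_injective g (by rw [hA, hA, h])
    have h2 : pt T v (w - w') = 0 := by rw [pt_sub_right, h1, sub_self]
    exact sub_eq_zero.1 (((pt_eq_zero T).1 h2).resolve_left hv0)
  obtain ⟨β, hβ⟩ := exists_gl_of_injective A hAinj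
  have hβmul : ∀ x y, f₂ (act β x) (act β y) = ν⁻¹ * f₂ x y := fun x y => by
    have e := iso_of_mem C hg (pt T v' x) (pt T v y)
    rw [hA, form_left C, form_left C, hπ, pj_pt, hv'v, neg_one_smul, map_neg, Sy.smul_left C.h₂,
      Sy.neg_left C.h₂, Sy.neg_left C.h₂] at e
    have e' := mul_left_cancel₀ C.c_ne e
    rw [hβ, hβ]
    field_simp
    linear_combination -e'
  have hgK : ∀ x, pj T C.h₁ v x = 0 → pj T C.h₁ v (act g x) = 0 := fun x hx => by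
    rw [hπ, hx, map_zero, smul_zero]
  -- the middle layer
  have hmid : ∀ φ u, f₁ v φ = 0 → f₁ u v = 0 → ∃ l : F, ∀ w, pj T C.h₁ φ (act g (pt T u w)) = l • A w := by
    intro φ u hφ hu
    set q := gl T (root C.h₁ v φ) 1 with hq
    have hρM : g⁻¹ * q * g ∈ M :=
      M.mul_mem (M.mul_mem (M.inv_mem hg) (left_mem C (root_mem C.h₁ v φ))) hg
    let Ψ : End₂ F n₂ := act β⁻¹ ∘ₗ pj T C.h₁ φ ∘ₗ act g ∘ₗ ptR T u
    obtain ⟨l, hl⟩ := layer_scalar C hM hv0 (z := u) (f_eq_zero_symm C.h₁ hu) hρM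
      (fun w => by
        rw [act_mul, act_mul, hA, hq, act_glRoot C hφ, pj_pt, pj_pt, C.h₁.alternating, hφ]
        simp only [zero_smul, pt_zero_right, add_zero]
        rw [← hA, act_inv_act])
      (Ψ := Ψ) (fun w => by
        rw [act_mul, act_mul, hq, act_glRoot C hφ, hgK _ (by rw [pj_pt, hu, zero_smul]), pt_zero_right,
          add_zero, map_add, act_inv_act]
        congr 1
        apply act_injective g
        rw [act_act_inv, hA]
        show _ = pt T v (A (act β⁻¹ (pj T C.h₁ φ (act g (pt T u w)))))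
        rw [← hβ, act_act_inv])
    refine ⟨l, fun w => ?_⟩
    rw [← hβ, ← map_smul, ← hl w]
    exact (act_act_inv β _).symm
  obtain ⟨w₀, χ, hχ⟩ : ∃ w₀ : Fin n₂ → F, ∃ χ : (Fin n₂ → F) →ₗ[F] F, χ (A w₀) = 1 :=
    ⟨act β⁻¹ (Pi.single ⟨0, by have := C.three; omega⟩ 1), LinearMap.proj ⟨0, by have := C.three; omega⟩,
      by rw [← hβ, act_act_inv]; simp⟩
  let P₀ : (Fin n₁ → F) →ₗ[F] (Fin n₁ → F) :=
    LinearMap.id - (flin C.h₁.bilinear v').smulRight v + (flin C.h₁.bilinear v).smulRight v'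
  have hP₀ : ∀ u, P₀ u = u - f₁ u v' • v - f₁ v u • v' := fun u => by
    simp [P₀, flin_apply, C.h₁.skew v u]
  have hP₀perp : ∀ x, f₁ (P₀ x) v = 0 ∧ f₁ (P₀ x) v' = 0 := by
    intro x
    rw [hP₀]
    simp only [f_sub_left C.h₁, f_smul_left C.h₁, C.h₁.alternating, hv'v, hvv', C.h₁.skew v x]
    constructor <;> ring
  let γ : (Fin n₁ → F) →ₗ[F] (Fin n₁ → F) := P₀ ∘ₗ cR T χ ∘ₗ act g ∘ₗ ptL T w₀
  have hγperp : ∀ u, f₁ (γ u) v = 0 ∧ f₁ (γ u) v' = 0 := fun u => hP₀perp _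
  have hγ : ∀ u, f₁ u v = 0 → ∀ w, ∃ a, act g (pt T u w) = pt T (γ u) (A w) + pt T v a := by
    intro u hu w
    refine ⟨pj T C.h₁ v' (act g (pt T u w) - pt T (γ u) (A w)), ?_⟩
    rw [← layer_eq C hvv' (by rw [map_sub, hgK _ (by rw [pj_pt, hu, zero_smul]), pj_pt, (hγperp u).1,
      zero_smul, sub_zero]) (fun φ h1 h2 => ?_)]
    · abel
    obtain ⟨l, hl⟩ := hmid φ u h1 hu
    have hlu : f₁ (γ u) φ = l := by
      show f₁ (P₀ (cR T χ (act g (pt T u w₀)))) φ = l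
      rw [hP₀, f_sub_left C.h₁, f_sub_left C.h₁, f_smul_left C.h₁, f_smul_left C.h₁, h1, h2, mul_zero, mul_zero,
        sub_zero, sub_zero, ← flin_apply C.h₁.bilinear φ, ← cL_cR_comm (flin C.h₁.bilinear φ) χ T]
      show χ (pj T C.h₁ φ (act g (pt T u w₀))) = l
      rw [hl, map_smul, hχ, smul_eq_mul, mul_one]
    rw [map_sub, hl, pj_pt, hlu, sub_self]
  have hγiso : ∀ x y, f₁ x v = 0 → f₁ y v = 0 → f₁ (γ x) (γ y) = ν * f₁ x y := by
    intro x y hxv hyv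
    obtain ⟨e₂, he₂⟩ := exists_aniso₂ C
    obtain ⟨a, ha⟩ := hγ x hxv e₂
    obtain ⟨a', ha'⟩ := hγ y hyv e₂
    have e := iso_of_mem C hg (pt T x e₂) (pt T y e₂)
    rw [ha, ha'] at e
    simp only [f_add_left C.hf, f_add_right C.hf, C.form, (hγperp x).1, C.h₁.alternating,
      f_eq_zero_symm C.h₁ (hγperp y).1, zero_mul, mul_zero, add_zero, ← hβ, hβmul] at e
    have := mul_left_cancel₀ C.c_ne e
    field_simp at this
    linear_combination this
  let L : (Fin n₁ → F) →ₗ[F] (Fin n₁ → F) :=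
    γ ∘ₗ P₀ + (flin C.h₁.bilinear v').smulRight v - ν • (flin C.h₁.bilinear v).smulRight v'
  have hL : ∀ u, L u = γ (P₀ u) + f₁ u v' • v + (ν * f₁ v u) • v' := fun u => by
    simp [L, flin_apply, C.h₁.skew v u, smul_smul, sub_eq_add_neg]
  have hLiso : ∀ x y, f₁ (L x) (L y) = ν * f₁ x y := by
    intro x y
    have e : f₁ (γ (P₀ x)) (γ (P₀ y)) =
        ν * (f₁ x y - f₁ x v' * f₁ v y + f₁ v x * f₁ y v') := by
      rw [hγiso _ _ (hP₀perp x).1 (hP₀perp y).1, hP₀, hP₀]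
      simp only [f_sub_left C.h₁, f_sub_right C.h₁, f_smul_left C.h₁, f_smul_right C.h₁,
        C.h₁.alternating, hvv', hv'v, C.h₁.skew x v, C.h₁.skew v' y]
      ring
    simp only [hL, f_add_left C.h₁, f_add_right C.h₁, f_smul_left C.h₁, f_smul_right C.h₁, C.h₁.alternating,
      hvv', hv'v, (hγperp _).1, (hγperp _).2, f_eq_zero_symm C.h₁ (hγperp _).1,
      f_eq_zero_symm C.h₁ (hγperp _).2, e]
    ring
  have hLinj : Function.Injective L := fun x y hxy => by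
    apply flin_injective C.h₁
    apply LinearMap.ext; intro z
    rw [flin_apply, flin_apply]
    refine mul_left_cancel₀ hν ?_
    rw [← hLiso, ← hLiso, hxy]
  obtain ⟨α, ha⟩ := exists_gl_of_injective L hLinj
  have hα : ∀ x y, f₁ (act α x) (act α y) = ν * f₁ x y := fun x y => by rw [ha, ha, hLiso]
  set h₀ := gl T α β with hh₀
  have hh₀M : h₀ ∈ M := C.ge α β (gl_mem_iso C hα hβmul (mul_inv_cancel₀ hν))
  set ρ := h₀⁻¹ * g with hρ
  have hρM : ρ ∈ M := M.mul_mem (M.inv_mem hh₀M) hg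
  have hLv : L v = v := by
    rw [hL, hP₀, C.h₁.alternating, hvv']
    simp
  have hfix : ∀ w, act ρ (pt T v w) = pt T v w := by
    intro w
    apply act_injective h₀
    rw [hρ, act_mul, act_act_inv, hA, hh₀, act_gl_pt, hβ, ha, hLv]
  let Ψ : (Fin n₁ → F) → End₂ F n₂ := fun u => pj T C.h₁ v' ∘ₗ (act ρ - LinearMap.id) ∘ₗ ptR T u
  have hlay : ∀ u w, f₁ u v = 0 → act ρ (pt T u w) = pt T u w + pt T v (Ψ u w) := by
    intro u w hu
    obtain ⟨a, ha'⟩ := hγ (P₀ u) (hP₀perp u).1 w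
    have hvu := f_eq_zero_symm C.h₁ hu
    have h1 : act ρ (pt T u w) = pt T u w + pt T v (act β⁻¹ a) := by
      refine act_injective h₀ ?_
      rw [hρ, act_mul, act_act_inv, map_add, hh₀, act_gl_pt, act_gl_pt, hβ, act_act_inv, ha, ha, hLv,
        hL, hvu, mul_zero, zero_smul, add_zero]
      have hu' : pt T u w = pt T (P₀ u) w + f₁ u v' • pt T v w := by
        rw [hP₀, hvu, zero_smul, sub_zero, pt_sub_left, pt_smul_left, sub_add_cancel]
      rw [hu', map_add, map_smul, ha', hA, pt_add_left, pt_smul_left]; abel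
    show _ = pt T u w + pt T v (pj T C.h₁ v' (act ρ (pt T u w) - pt T u w))
    rw [h1, add_sub_cancel_left, pj_pt, hvv', one_smul]
  have hsc : ∀ u, f₁ u v = 0 → ∃ l : F, ∀ w, Ψ u w = l • w := fun u hu =>
    layer_scalar C hM hv0 (f_eq_zero_symm C.h₁ hu) hρM hfix (fun w => hlay u w hu)
  obtain ⟨w₁, χ₁, hχ₁⟩ : ∃ w₁ : Fin n₂ → F, ∃ χ₁ : (Fin n₂ → F) →ₗ[F] F, χ₁ w₁ = 1 :=
    ⟨Pi.single ⟨0, by have := C.three; omega⟩ 1, LinearMap.proj ⟨0, by have := C.three; omega⟩, by simp⟩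
  obtain ⟨φ₀, hφ₀⟩ := exists_repr C.h₁ (χ₁ ∘ₗ pj T C.h₁ v' ∘ₗ (act ρ - LinearMap.id) ∘ₗ ptL T w₁)
  have hφ₀' : ∀ u, χ₁ (Ψ u w₁) = f₁ u φ₀ := hφ₀
  have hvφ₀ : f₁ v φ₀ = 0 := by
    rw [← hφ₀']
    show χ₁ (pj T C.h₁ v' (act ρ (pt T v w₁) - pt T v w₁)) = 0
    rw [hfix, sub_self, map_zero, map_zero]
  have hlayer : ∀ u w, f₁ u v = 0 → act ρ (pt T u w) = pt T u w + f₁ u φ₀ • pt T v w := by
    intro u w hu
    obtain ⟨l, hl⟩ := hsc u hu
    have hlu := hφ₀' u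
    rw [hl, map_smul, hχ₁, smul_eq_mul, mul_one] at hlu
    rw [hlay u w hu, hl, pt_smul_right, hlu]
  set q₀ := gl T (root C.h₁ v φ₀) 1 with hq₀
  have hq₀M : q₀ ∈ M := left_mem C (root_mem C.h₁ v φ₀)
  set t := q₀⁻¹ * ρ with ht
  have htM : t ∈ M := M.mul_mem (M.inv_mem hq₀M) hρM
  obtain ⟨R, hR⟩ := exists_isTop C hvv' htM fun u w hu => by
    apply act_injective q₀
    rw [ht, act_mul, act_act_inv, hlayer u w hu, hq₀, act_glRoot C hvφ₀, pj_pt, pj_pt, hu, zero_smul,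
      pt_zero_right, add_zero, pt_smul_right]
  obtain ⟨k, hk⟩ := top_scalar C hM hv0 htM hR
  have htt : t = gl T (stv C.h₁ v k) 1 := gl_ext_pt T fun u w => by
    rw [hR u w, hk, act_gl_pt, act_one, act_stv C.h₁, pt_smul_right, pt_add_left, pt_smul_left, smul_smul,
      mul_comm]
  rw [show g = h₀ * q₀ * t by rw [ht, hρ]; group, htt]
  exact Subgroup.mul_mem _ (Subgroup.mul_mem _ (Tens.gl_mem T _ _) (Tens.gl_mem T _ _)) (Tens.gl_mem T _ _)

end Cfsg.Agent.MaxCl.TensSO
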