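/-
Rigidity of the root elements `r ⊗ 1` in a proper overgroup of a symplectic ⊗ orthogonal tensor stabiliser: only
tensor products conjugate one into the stabiliser.
-/
import Mathlib
import Cfsg.Agent.Lib.MaxCl.SympOrthTensorCent

set_option autoImplicit false
set_option linter.unusedSectionVars false

namespace Cfsg.Agent.MaxCl.TensSO

open scoped MatrixGroups Matrix
open Module (finrank)
open Tens

variable {ι : Type} [Fintype ι] [DecidableEq ι] {F : Type*} [Field F] {n₁ n₂ : ℕ}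
variable {T : TSys ι F n₁ n₂} {f : (ι → F) → (ι → F) → F}
variable {f₁ : (Fin n₁ → F) → (Fin n₁ → F) → F} {f₂ : (Fin n₂ → F) → (Fin n₂ → F) → F} {c : F}
variable {M : Subgroup (GL ι F)}

/-- a square zero `a ⊗ b - 1` has a scalar factor -/
theorem shape (T : TSys ι F n₁ n₂) (h2 : (2 : F) ≠ 0) (a : GL (Fin n₁) F) (b : GL (Fin n₂) F)
    (h : ∀ q, act (gl T a b) (act (gl T a b) q - q) = act (gl T a b) q - q) :
    (∀ u, act a u ∈ F ∙ u) ∨ (∀ w, act b w ∈ F ∙ w) := by
  by_contra hno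
  push Not at hno
  obtain ⟨⟨u, hu⟩, w, hw⟩ := hno
  have hu0 : u ≠ 0 := fun e => hu (by rw [e, map_zero]; exact Submodule.zero_mem _)
  have hw0 : w ≠ 0 := fun e => hw (by rw [e, map_zero]; exact Submodule.zero_mem _)
  have hu' : u ∉ F ∙ act a u := fun e => by
    obtain ⟨k, hk⟩ := Submodule.mem_span_singleton.1 e
    have hk0 : k ≠ 0 := by rintro rfl; exact hu0 (by rw [← hk, zero_smul])
    exact hu (Submodule.mem_span_singleton.2 ⟨k⁻¹, eq_comm.1 ((eq_inv_smul_iff₀ hk0).2 hk)⟩)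
  have e := h (pt T u w)
  rw [act_gl_pt, map_sub, act_gl_pt, act_gl_pt] at e
  obtain ⟨χ, hχ0, hχ⟩ := exists_dual _ hu'
  obtain ⟨χ', hχ'0, hχ'⟩ := exists_dual _ hu
  have e1 := congrArg (cL T χ) e
  have e2 := congrArg (cL T χ') e
  simp only [map_sub, cL_pt, hχ, hχ0 _ (Submodule.mem_span_singleton_self _), hχ',
    hχ'0 _ (Submodule.mem_span_singleton_self _), zero_smul, one_smul, zero_sub, sub_zero] at e1 e2
  obtain ⟨p, hp⟩ : ∃ p, p = χ (act a (act a u)) := ⟨_, rfl⟩
  obtain ⟨q, hq⟩ : ∃ q, q = χ' (act a (act a u)) := ⟨_, rfl⟩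
  rw [← hp] at e1
  rw [← hq] at e2
  have hp0 : p ≠ 0 := fun e0 => hw0 (by
    rw [e0, zero_smul] at e1
    exact neg_eq_zero.1 e1.symm)
  refine hw (Submodule.mem_span_singleton.2 ⟨-(q / (2 * p)), ?_⟩)
  have h3 : (2 : F) • act b w + (q / p) • w = 0 := by
    have h4 : act b (act b w) = (-1 / p) • w := by
      apply smul_right_injective (Fin n₂ → F) hp0
      show p • _ = p • _
      rw [e1, smul_smul, mul_div_cancel₀ _ hp0, neg_one_smul]
    rw [h4] at e2
    linear_combination (norm := skip) (-1 : F) • e2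
    match_scalars <;> field_simp
    all_goals ring
  linear_combination (norm := skip) (-(1 / 2 : F)) • h3
  match_scalars <;> field_simp
  all_goals ring

/-- a subspace containing two independent `p_i ⊗ W` -/
theorem two_mul_le_left (T : TSys ι F n₁ n₂) {p₁ p₂ : Fin n₁ → F} (hp₁ : p₁ ≠ 0) (hp₂ : p₂ ∉ F ∙ p₁)
    (S : Submodule F (ι → F)) (h₁ : ∀ w, pt T p₁ w ∈ S) (h₂ : ∀ w, pt T p₂ w ∈ S) :
    2 * n₂ ≤ finrank F S := by
  obtain ⟨χ, hχ0, hχ⟩ := exists_dual _ hp₂
  obtain ⟨χ', -, hχ'⟩ := exists_dual (⊥ : Submodule F (Fin n₁ → F)) (v := p₁) (by simpa using hp₁)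
  let L : ((Fin n₂ → F) × (Fin n₂ → F)) →ₗ[F] (ι → F) := (ptR T p₁).coprod (ptR T p₂)
  have hL : Function.Injective L := (injective_iff_map_eq_zero L).2 fun w hw => by
    have e : pt T p₁ w.1 + pt T p₂ w.2 = 0 := hw
    have e2 := congrArg (cL T χ) e
    rw [map_add, cL_pt, cL_pt, hχ, hχ0 _ (Submodule.mem_span_singleton_self _), zero_smul, zero_add,
      one_smul, map_zero] at e2
    rw [e2, pt_zero_right, add_zero, pt_eq_zero, or_iff_right hp₁] at e
    exact Prod.ext e e2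
  have h := LinearMap.finrank_range_of_inj hL
  rw [Module.finrank_prod, Module.finrank_fin_fun] at h
  have hle : LinearMap.range L ≤ S := by rintro _ ⟨w, rfl⟩; exact S.add_mem (h₁ _) (h₂ _)
  have := Submodule.finrank_mono hle
  omega

/-- a subspace containing two independent `U ⊗ p_i` -/
theorem two_mul_le_right (T : TSys ι F n₁ n₂) {p₁ p₂ : Fin n₂ → F} (hp₁ : p₁ ≠ 0) (hp₂ : p₂ ∉ F ∙ p₁)
    (S : Submodule F (ι → F)) (h₁ : ∀ u, pt T u p₁ ∈ S) (h₂ : ∀ u, pt T u p₂ ∈ S) :
    2 * n₁ ≤ finrank F S := by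
  obtain ⟨ψ, hψ0, hψ⟩ := exists_dual _ hp₂
  let L : ((Fin n₁ → F) × (Fin n₁ → F)) →ₗ[F] (ι → F) := (ptL T p₁).coprod (ptL T p₂)
  have hL : Function.Injective L := (injective_iff_map_eq_zero L).2 fun u hu => by
    have e : pt T u.1 p₁ + pt T u.2 p₂ = 0 := hu
    have e2 := congrArg (cR T ψ) e
    rw [map_add, cR_pt, cR_pt, hψ, hψ0 _ (Submodule.mem_span_singleton_self _), zero_smul, zero_add,
      one_smul, map_zero] at e2
    rw [e2, pt_zero_left, add_zero, pt_eq_zero, or_iff_left hp₁] at e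
    exact Prod.ext e e2
  have h := LinearMap.finrank_range_of_inj hL
  rw [Module.finrank_prod, Module.finrank_fin_fun] at h
  have hle : LinearMap.range L ≤ S := by rintro _ ⟨u, rfl⟩; exact S.add_mem (h₁ _) (h₂ _)
  have := Submodule.finrank_mono hle
  omega

variable (C : OCtx T f f₁ f₂ c M)
include C

theorem form_right (u : Fin n₁ → F) (z : Fin n₂ → F) (x : ι → F) :
    f x (pt T u z) = c * f₁ (cR T (flin C.h₂.bilinear z) x) u := by
  have : flin C.hf.bilinear (pt T u z) = c • (flin C.h₁.bilinear u ∘ₗ cR T (flin C.h₂.bilinear z)) :=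
    pt_ext T fun a b => by
      show f (pt T a b) (pt T u z) = c * f₁ (cR T (flin C.h₂.bilinear z) (pt T a b)) u
      rw [C.form, cR_pt, flin_apply, f_smul_left C.h₁]
      ring
  exact LinearMap.congr_fun this x

/-- `a ⊗ 1` in `M` with `a - 1` of rank at most one is a root element -/
theorem root_of_left [Finite F] {a : GL (Fin n₁) F} (hy : gl T a 1 ∈ M) {v₁ : Fin n₁ → F} (hv₁ : v₁ ≠ 0)
    (h : ∀ u, act a u - u ∈ F ∙ v₁) : ∃ d, gl T a 1 = rt T C.h₁ v₁ d := by
  obtain ⟨e, he⟩ := exists_aniso₂ C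
  choose ψ hψ using fun u => Submodule.mem_span_singleton.1 (h u)
  have hau : ∀ u, act a u = u + ψ u • v₁ := fun u => by rw [hψ, add_sub_cancel]
  have hiso : ∀ u u', f₁ (act a u) (act a u') = f₁ u u' := by
    intro u u'
    have e1 := iso_of_mem C hy (pt T u e) (pt T u' e)
    rw [act_gl_pt, act_gl_pt, act_one, C.form, C.form] at e1
    exact mul_right_cancel₀ he (mul_left_cancel₀ C.c_ne e1)
  obtain ⟨x₀, hx₀⟩ := SP.exists_one C.h₁ hv₁
  refine ⟨-ψ x₀, gl_ext_pt T fun u w => ?_⟩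
  have key := hiso u x₀
  rw [hau, hau] at key
  simp only [f_add_left C.h₁, f_add_right C.h₁, f_smul_left C.h₁, f_smul_right C.h₁, C.h₁.alternating, hx₀] at key
  rw [act_rt C.h₁, pj_pt, act_gl_pt, act_one, hau, pt_add_left, pt_smul_left, pt_smul_right, smul_smul]
  congr 2
  linear_combination key

variable [Finite F]

/-- a conjugate of a root element lying among the tensor products -/
theorem rt_rigid (hM : ¬ isoGroup f ≤ M) (h4 : 4 ≤ n₁) {g : GL ι F} (hg : g ∈ M) {v : Fin n₁ → F} (hv : v ≠ 0)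
    {d : F} (hd : d ≠ 0) (h : g * rt T C.h₁ v d * g⁻¹ ∈ Cfsg.Geo.tensorProductSubgroup n₁ n₂ T.e T.P) :
    g ∈ Cfsg.Geo.tensorProductSubgroup n₁ n₂ T.e T.P := by
  classical
  obtain ⟨a, b, hab⟩ := exists_of_mem T h
  obtain ⟨v', hvv'⟩ := SP.exists_one C.h₁ hv
  have hv'v : f₁ v' v = -1 := by rw [C.h₁.skew, hvv']
  set x := g * rt T C.h₁ v d * g⁻¹ with hx
  have hxM : x ∈ M := M.mul_mem (M.mul_mem hg (rt_mem C v d)) (M.inv_mem hg)
  have hD : ∀ q, act x q - q = act g (d • pt T v (pj T C.h₁ v (act g⁻¹ q))) := by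
    intro q
    rw [hx, act_mul, act_mul, act_rt C.h₁, map_add, act_act_inv]; abel
  have hDD : ∀ q, act x (act x q - q) = act x q - q := by
    intro q
    rw [← sub_eq_zero, hD (act x q - q), hD q, act_inv_act, map_smul (pj T C.h₁ v), pj_pt, C.h₁.alternating,
      zero_smul, smul_zero, pt_zero_right, smul_zero, map_zero]
  set S : Submodule F (ι → F) := LinearMap.range (act g ∘ₗ ptR T v) with hS
  have hSdim : finrank F S ≤ n₂ := by
    refine (LinearMap.finrank_range_le _).trans_eq ?_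
    exact Module.finrank_fin_fun F
  have hSmem : ∀ q, act x q - q ∈ S := fun q => ⟨d • pj T C.h₁ v (act g⁻¹ q), by
    show act g (pt T v _) = _
    rw [hD, pt_smul_right]⟩
  have hshape := shape T C.two a b (by rw [← hab]; exact hDD)
  by_cases hb : ∀ w, act b w ∈ F ∙ w
  · -- the second factor is scalar
    obtain ⟨k, hk⟩ := exists_scalar_of_eigen (act b) hb
    have hk0 : k ≠ 0 := fun e => by
      obtain ⟨w, hw⟩ := exists_aniso₂ C
      have := act_injective b (show act b w = act b 0 by rw [hk, e, zero_smul, map_zero])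
      exact hw (by rw [this, Sy.zero_left C.h₂])
    obtain ⟨a', ha'⟩ := exists_gl_of_injective (k • act a) fun u u' e =>
      act_injective a (smul_right_injective (Fin n₁ → F) hk0 e)
    have hxa : x = gl T a' 1 := by
      rw [hab]
      refine gl_ext_pt T fun u w => ?_
      rw [act_gl_pt, act_gl_pt, act_one, hk, ha', LinearMap.smul_apply, pt_smul_comm]
    have hN : ∀ u w, act x (pt T u w) - pt T u w = pt T (act a' u - u) w := fun u w => by
      rw [hxa, act_gl_pt, act_one, pt_sub_left]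
    obtain ⟨u₀, hu₀⟩ : ∃ u, act a' u - u ≠ 0 := by
      by_contra hno
      push Not at hno
      obtain ⟨w, hw⟩ := exists_aniso₂ C
      have h0 : ∀ q, act x q - q = 0 := fun q => by
        rw [hxa, show gl T a' 1 = 1 from gl_ext_pt T fun u w => by
          rw [act_gl_pt, act_one, act_one, sub_eq_zero.1 (hno u)], act_one, sub_self]
      have := h0 (act g (pt T v' w))
      rw [hD, act_inv_act, pj_pt, hv'v, pt_smul_right, smul_smul, map_smul, smul_eq_zero,
        or_iff_right (mul_ne_zero hd (neg_ne_zero.2 one_ne_zero))] at this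
      have h5 := act_injective g (this.trans (map_zero _).symm)
      rw [pt_eq_zero, or_iff_right hv] at h5
      exact hw (by rw [h5, Sy.zero_left C.h₂])
    obtain ⟨v₁, hv₁⟩ : ∃ v₁, v₁ = act a' u₀ - u₀ := ⟨_, rfl⟩
    have hrk : ∀ u, act a' u - u ∈ F ∙ v₁ := by
      intro u
      by_contra hu
      have := two_mul_le_left T (hv₁ ▸ hu₀) hu S (fun w => hv₁ ▸ hN u₀ w ▸ hSmem _) (fun w => hN u w ▸ hSmem _)
      have := C.three
      omega
    obtain ⟨d', hd'⟩ := root_of_left C (hxa ▸ hxM) (hv₁ ▸ hu₀) hrk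
    have hd'0 : d' ≠ 0 := fun e => hu₀ (by
      obtain ⟨w, hw⟩ := exists_aniso₂ C
      have := hN u₀ w
      rw [hxa, hd', e, rt_zero, act_one, sub_self, eq_comm, pt_eq_zero] at this
      exact this.resolve_right fun h0 => hw (by rw [h0, Sy.zero_left C.h₂]))
    obtain ⟨α, hα, hαv⟩ := exists_move₁ C.h₁ (hv₁ ▸ hu₀) hv
    have hn : gl T α 1 * g * rt T C.h₁ v d = rt T C.h₁ v d' * (gl T α 1 * g) := by
      have hconj : gl T α 1 * rt T C.h₁ v₁ d' * (gl T α 1)⁻¹ = rt T C.h₁ v d' := by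
        rw [rt, rt, gl_inv, gl_mul, gl_mul, conj_stv C.h₁ hα, hαv, inv_one, mul_one, mul_one]
      rw [← hconj, ← hd', ← hxa, hx]; group
    have := centralizer_tensor C hM hv hd hd'0 (M.mul_mem (left_mem C hα) hg) hn
    rw [show g = (gl T α 1)⁻¹ * (gl T α 1 * g) by group]
    exact Subgroup.mul_mem _ (Subgroup.inv_mem _ (Tens.gl_mem T _ _)) this
  -- the first factor is scalar
  exfalso
  obtain ⟨k, hk⟩ := exists_scalar_of_eigen (act a) (hshape.resolve_right hb)
  have hk0 : k ≠ 0 := fun e => by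
    obtain ⟨u, hu⟩ := exists_vec₁ C
    exact hu (act_injective a (show act a u = act a 0 by rw [hk, e, zero_smul, map_zero]))
  obtain ⟨b', hb'⟩ := exists_gl_of_injective (k • act b) fun u u' e =>
    act_injective b (smul_right_injective (Fin n₂ → F) hk0 e)
  have hxb : x = gl T 1 b' := by
    rw [hab]
    refine gl_ext_pt T fun u w => ?_
    rw [act_gl_pt, act_gl_pt, act_one, hk, hb', LinearMap.smul_apply, pt_smul_comm]
  let N : End₂ F n₂ := act b' - LinearMap.id
  have hN : ∀ u w, act x (pt T u w) - pt T u w = pt T u (N w) := fun u w => by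
    rw [hxb, act_gl_pt, act_one, ← pt_sub_right]; rfl
  have hNS : ∀ u w, pt T u (N w) ∈ S := fun u w => hN u w ▸ hSmem _
  obtain ⟨u₁, u₁', hu₁⟩ := exists_ne_two C
  have hu₁0 : u₁ ≠ 0 := fun e => hu₁ (by rw [e, f_zero_left C.h₁])
  have hb'w : ∀ w, act b' w = w + N w := fun w => (add_sub_cancel _ _).symm
  have hNN : ∀ w, N (N w) = 0 := fun w => by
    have e := hDD (pt T u₁ w)
    rw [hN, ← sub_eq_zero, hN, pt_eq_zero, or_iff_right hu₁0] at e
    exact e
  have hskew : ∀ w w', f₂ (N w) (N w') = 0 ∧ f₂ (N w) w' + f₂ w (N w') = 0 := by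
    have e0 : ∀ w w', f₂ (N w) w' + f₂ w (N w') + f₂ (N w) (N w') = 0 := by
      intro w w'
      have e := iso_of_mem C hxM (pt T u₁ w) (pt T u₁' w')
      rw [hxb, act_gl_pt, act_gl_pt, act_one, act_one, C.form, C.form, hb'w, hb'w] at e
      have := mul_left_cancel₀ hu₁ (mul_left_cancel₀ C.c_ne e)
      simp only [Sy.add_left C.h₂, Sy.add_right C.h₂] at this
      linear_combination this
    intro w w'
    have h1 := e0 w (N w')
    rw [hNN, Sy.zero_right C.h₂, Sy.zero_right C.h₂, add_zero, add_zero] at h1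
    exact ⟨h1, by linear_combination e0 w w' - h1⟩
  -- two independent values of `N`
  obtain ⟨w₀, hw₀⟩ : ∃ w, N w ≠ 0 := by
    by_contra hno
    push Not at hno
    refine hb fun w => Submodule.mem_span_singleton.2 ⟨k⁻¹, ?_⟩
    have := hb'w w
    rw [hno, add_zero, hb', LinearMap.smul_apply] at this
    conv_lhs => rw [← this, inv_smul_smul₀ hk0]
  obtain ⟨w₁, hw₁⟩ : ∃ w, N w ∉ F ∙ N w₀ := by
    by_contra hno
    push Not at hno
    obtain ⟨φ, -, hφ⟩ := exists_dual (⊥ : Submodule F (Fin n₂ → F)) (v := N w₀) (by simpa using hw₀)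
    have hNw : ∀ w, N w = φ (N w) • N w₀ := fun w => by
      obtain ⟨p, hp⟩ := Submodule.mem_span_singleton.1 (hno w)
      rw [← hp, map_smul, hφ, smul_eq_mul, mul_one]
    obtain ⟨w, hw1, hw2⟩ := exists_notMem_two (LinearMap.ker (φ ∘ₗ N))
      (LinearMap.ker (flin C.h₂.bilinear (N w₀))) (fun e => one_ne_zero (α := F) (by
        rw [← hφ]; exact LinearMap.congr_fun (LinearMap.ker_eq_top.1 e) w₀))
      (fun e => hw₀ (Sy.eq_zero C.h₂ fun y => LinearMap.congr_fun (LinearMap.ker_eq_top.1 e) y))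
    rw [LinearMap.mem_ker, LinearMap.comp_apply] at hw1
    rw [LinearMap.mem_ker, flin_apply] at hw2
    have := (hskew w w).2
    rw [hNw w, Sy.smul_left C.h₂, Sy.smul_right C.h₂, C.h₂.symm (N w₀) w, ← two_mul] at this
    exact mul_ne_zero C.two (mul_ne_zero hw1 hw2) this
  have hl : 2 * n₁ ≤ n₂ :=
    (two_mul_le_right T hw₀ hw₁ S (fun u => hNS u w₀) (fun u => hNS u w₁)).trans hSdim
  -- Siegel elements of the image of `N`
  have hcore : ∀ (w w' : Fin n₂ → F), ∃ κ : F, Sy.skewOp C.h₂ (N w) (N w') = κ • N := by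
    intro w w'
    obtain ⟨s, hs, hsa⟩ := Sy.exists_siegel C.h₂ (hskew w w).1 (hskew w w').1 C.two
    have hsq : ∀ q, act (gl T 1 s) q - q =
        pt T (cR T (flin C.h₂.bilinear (N w)) q) (N w') - pt T (cR T (flin C.h₂.bilinear (N w')) q) (N w) := by
      intro q
      have : act (gl T 1 s) - LinearMap.id = ptL T (N w') ∘ₗ cR T (flin C.h₂.bilinear (N w)) -
          ptL T (N w) ∘ₗ cR T (flin C.h₂.bilinear (N w')) := pt_ext T fun u z => by
        simp only [LinearMap.sub_apply, LinearMap.comp_apply, LinearMap.id_apply, act_gl_pt, act_one, hsa,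
          (hskew w' w').1, mul_zero, zero_div, add_zero, cR_pt, flin_apply, ptL_apply, pt_add_right, pt_sub_right,
          pt_smul_right, pt_smul_left]
        abel
      exact LinearMap.congr_fun this q
    set y := g⁻¹ * gl T 1 s * g with hy
    have hyM : y ∈ M := M.mul_mem (M.mul_mem (M.inv_mem hg) (right_mem C hs)) hg
    have hperp : ∀ u z z', f₁ u v = 0 → cR T (flin C.h₂.bilinear (N z')) (act g (pt T u z)) = 0 := by
      intro u z z' hu
      by_contra h0
      obtain ⟨t, ht⟩ := (C.h₁.nondegenerate _ h0).2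
      apply ht
      refine mul_left_cancel₀ C.c_ne ?_
      rw [← form_right C, mul_zero]
      obtain ⟨m, hm⟩ := hNS t z'
      rw [← hm]
      show f (act g (pt T u z)) (act g (pt T v m)) = 0
      rw [iso_of_mem C hg, C.form, hu, zero_mul, mul_zero]
    have hfix : ∀ u z, f₁ u v = 0 → act y (pt T u z) = pt T u z := by
      intro u z hu
      apply act_injective g
      rw [hy, act_mul, act_mul, act_act_inv, ← sub_eq_zero, hsq, hperp u z w hu, hperp u z w' hu, pt_zero_left,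
        pt_zero_left, sub_zero]
    have hrange : ∀ q, ∃ m, act y q - q = pt T v m := by
      intro q
      have h1 : act (gl T 1 s) (act g q) - act g q ∈ S := by
        rw [hsq]; exact S.sub_mem (hNS _ _) (hNS _ _)
      obtain ⟨m, hm⟩ := h1
      refine ⟨m, act_injective g ?_⟩
      rw [map_sub, hy, act_mul, act_mul, act_act_inv]
      exact hm.symm
    let R : End₂ F n₂ := -(pj T C.h₁ v' ∘ₗ (act y - LinearMap.id) ∘ₗ ptR T v')
    have htop : IsTop T f₁ v y R := by
      intro u z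
      obtain ⟨m, hm⟩ := hrange (pt T v' z)
      have hR : R z = -m := by
        show -(pj T C.h₁ v' (act y (pt T v' z) - pt T v' z)) = -m
        rw [hm, pj_pt, hvv', one_smul]
      have hu : pt T u z = pt T (u + f₁ u v • v') z - f₁ u v • pt T v' z := by
        rw [pt_add_left, pt_smul_left, add_sub_cancel_right]
      rw [hR, pt_neg_right, hu, map_sub, map_smul, hfix _ _ (by rw [f_add_left C.h₁, f_smul_left C.h₁, hv'v]; ring),
        eq_add_of_sub_eq hm]
      module
    obtain ⟨r, hr⟩ := top_scalar C hM hv hyM htop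
    refine ⟨r / d, LinearMap.ext fun z => ?_⟩
    obtain ⟨u, hu⟩ := exists_vec₁ C
    have e1 : act (gl T 1 s) (pt T u z) - pt T u z = (r / d) • (act x (pt T u z) - pt T u z) := by
      have hyr : y = rt T C.h₁ v r := gl_ext_pt T fun p q => by
        rw [htop p q, hr, act_rt C.h₁, pj_pt, pt_smul_right, pt_smul_right, smul_smul, smul_smul, mul_comm]
      have hs' : gl T 1 s = g * rt T C.h₁ v r * g⁻¹ := by rw [← hyr, hy]; group
      rw [hD, hs', act_mul, act_mul, act_rt C.h₁, map_add, act_act_inv, add_sub_cancel_left, ← map_smul,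
        smul_smul, div_mul_cancel₀ _ hd]
    rw [hN, hsq, cR_pt, cR_pt, flin_apply, flin_apply, pt_smul_left, pt_smul_left, ← pt_smul_right,
      ← pt_smul_right, ← pt_sub_right, ← pt_smul_right, ← sub_eq_zero, ← pt_sub_right, pt_eq_zero,
      or_iff_right hu, sub_eq_zero] at e1
    rw [Sy.skewOp_apply C.h₂, LinearMap.smul_apply]
    exact e1
  obtain ⟨κ, hκ⟩ := hcore w₀ w₁
  obtain ⟨z₁, hz₁⟩ : ∃ z₁, z₁ = N w₀ := ⟨_, rfl⟩
  obtain ⟨z₂, hz₂⟩ : ∃ z₂, z₂ = N w₁ := ⟨_, rfl⟩
  rw [← hz₁, ← hz₂] at hκ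
  -- a third isotropic vector
  let q : QuadraticForm F (Fin n₂ → F) := (toBil C.h₂.bilinear).toQuadraticMap
  obtain ⟨z₃, ⟨hz₃1, hz₃2⟩, hz₃n, hz₃⟩ : ∃ z₃, (f₂ z₃ z₁ = 0 ∧ f₂ z₃ z₂ = 0) ∧
      z₃ ∉ Submodule.span F (Set.range ![z₁, z₂]) ∧ f₂ z₃ z₃ = 0 := by
    have h1 := Sy.finrank_ker_inf C.h₂ ⊤ ![z₁, z₂]
    rw [finrank_top, Module.finrank_fin_fun, top_inf_eq] at h1
    have h2 : finrank F (Submodule.span F (Set.range ![z₁, z₂])) ≤ 2 :=
      (finrank_range_le_card _).trans_eq (Fintype.card_fin 2)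
    obtain ⟨z, hz, hzn, hzz⟩ := Orth.exists_singular_notMem q
      (D := ⨅ i, LinearMap.ker (flin C.h₂.bilinear (![z₁, z₂] i)))
      (E := Submodule.span F (Set.range ![z₁, z₂])) (by omega)
    exact ⟨z, ⟨(Submodule.mem_iInf _).1 hz 0, (Submodule.mem_iInf _).1 hz 1⟩, hzn, by simpa [q, toBil_apply] using hzz⟩
  have hz₁z₁ : f₂ z₁ z₁ = 0 := hz₁ ▸ (hskew w₀ w₀).1
  have hz₁0 : z₁ ≠ 0 := hz₁ ▸ hw₀
  have hz₂1 : z₂ ∉ F ∙ z₁ := hz₁ ▸ hz₂ ▸ hw₁
  have hκ0 : κ ≠ 0 := fun e => by
    obtain ⟨t, ht, ht1⟩ := Sy.exists_vec C.h₂ (W := F ∙ z₁) (v := z₂) hz₂1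
    have := LinearMap.congr_fun hκ t
    rw [e, zero_smul, LinearMap.zero_apply, Sy.skewOp_apply C.h₂, C.h₂.symm t z₁,
      ht z₁ (Submodule.mem_span_singleton_self _), C.h₂.symm t z₂, ht1, zero_smul, one_smul, zero_sub,
      neg_eq_zero] at this
    exact hz₁0 this
  obtain ⟨s, hs, hsa⟩ := Sy.exists_siegel C.h₂ hz₁z₁ (show f₂ z₁ z₃ = 0 by rw [C.h₂.symm]; exact hz₃1) C.two
  have hsz : ∀ z, act s z = z + (f₂ z z₁ • z₃ - f₂ z z₃ • z₁) := fun z => by
    rw [hsa, hz₃, mul_zero, zero_div, add_zero]; abel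
  have hNz : ∀ z, N z = κ⁻¹ • (f₂ z z₁ • z₂ - f₂ z z₂ • z₁) := fun z => by
    have := LinearMap.congr_fun hκ z
    rw [Sy.skewOp_apply C.h₂, LinearMap.smul_apply] at this
    rw [this, inv_smul_smul₀ hκ0]
  set y := g⁻¹ * gl T 1 s * g with hy
  have hyM : y ∈ M := M.mul_mem (M.mul_mem (M.inv_mem hg) (right_mem C hs)) hg
  have hbs : b' * s = s * b' := gl_ext fun z => by
    have hz₂2 : f₂ z₂ z₂ = 0 := hz₂ ▸ (hskew w₁ w₁).1
    have hz₁2 : f₂ z₁ z₂ = 0 := hz₁ ▸ hz₂ ▸ (hskew w₀ w₁).1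
    simp only [act_mul, hb'w, hNz, hsz, Sy.add_left C.h₂, Sy.sub_left C.h₂, Sy.smul_left C.h₂, hz₁z₁, hz₃1,
      hz₃2, hz₁2, C.h₂.symm z₂ z₁, C.h₂.symm z₂ z₃, C.h₂.symm z₁ z₃, hz₂2, mul_zero, sub_zero, add_zero, zero_smul,
      smul_zero]
    module
  have hycomm : y * rt T C.h₁ v d = rt T C.h₁ v d * y := by
    have e : gl T 1 s * x = x * gl T 1 s := by rw [hxb, gl_mul, gl_mul, hbs]
    calc y * rt T C.h₁ v d = g⁻¹ * (gl T 1 s * x) * g := by rw [hy, hx]; group
      _ = g⁻¹ * (x * gl T 1 s) * g := by rw [e]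
      _ = rt T C.h₁ v d * y := by rw [hy, hx]; group
  obtain ⟨a₃, b₃, hy₃⟩ := exists_of_mem T (centralizer_tensor C hM hv hd hd hyM hycomm)
  have hyq : ∀ p, act y p - p = act g⁻¹ (act (gl T 1 s) (act g p) - act g p) := fun p => by
    rw [map_sub, act_inv_act, hy, act_mul, act_mul]
  have hy2 : ∀ p, act y (act y p - p) = act y p - p := by
    intro p
    rw [← sub_eq_zero, hyq (act y p - p), hyq p, act_act_inv]
    have : ∀ z, act (gl T 1 s) (act (gl T 1 s) z - z) - (act (gl T 1 s) z - z) = 0 := by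
      intro z
      have e : (act (gl T 1 s) - LinearMap.id) ∘ₗ (act (gl T 1 s) - LinearMap.id) = 0 := pt_ext T fun u t => by
        simp only [LinearMap.comp_apply, LinearMap.sub_apply, LinearMap.id_apply, LinearMap.zero_apply,
          act_gl_pt, act_one, hsz, pt_add_right, add_sub_cancel_left]
        simp only [Sy.sub_left C.h₂, Sy.smul_left C.h₂, hz₁z₁, hz₃1, hz₃, C.h₂.symm z₁ z₃, mul_zero, sub_zero,
          zero_smul, pt_add_right, pt_zero_right, add_zero, sub_self]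
      exact LinearMap.congr_fun e z
    rw [this, map_zero]
  -- the spans of `U ⊗ z_i`
  let W₃ : Submodule F (Fin n₂ → F) := Submodule.span F (Set.range ![z₁, z₂, z₃])
  let S₃ : Submodule F (ι → F) := Submodule.span F (Set.range fun i : Fin n₁ × Fin 3 =>
    act g⁻¹ (pt T (Pi.single i.1 1) (![z₁, z₂, z₃] i.2)))
  have hS₃ : finrank F S₃ ≤ 3 * n₁ := by
    refine (finrank_range_le_card _).trans_eq ?_
    rw [Fintype.card_prod, Fintype.card_fin, Fintype.card_fin, mul_comm]
  have hU : ∀ (u : Fin n₁ → F) (i : Fin 3), act g⁻¹ (pt T u (![z₁, z₂, z₃] i)) ∈ S₃ := by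
    intro u i
    have hu : u = ∑ j, u j • Pi.single j 1 := (pi_eq_sum_univ' u)
    rw [hu, ← ptL_apply, map_sum, map_sum]
    refine S₃.sum_mem fun j _ => ?_
    rw [map_smul, map_smul]
    exact S₃.smul_mem _ (Submodule.subset_span ⟨(j, i), rfl⟩)
  by_cases hb₃ : ∀ w, act b₃ w ∈ F ∙ w
  · obtain ⟨k₃, hk₃⟩ := exists_scalar_of_eigen (act b₃) hb₃
    have hk₃0 : k₃ ≠ 0 := fun e => hz₁0 (act_injective b₃ (show act b₃ z₁ = act b₃ 0 by
      rw [hk₃, e, zero_smul, map_zero]))
    obtain ⟨a', ha'⟩ := exists_gl_of_injective (k₃ • act a₃) fun u u' e =>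
      act_injective a₃ (smul_right_injective (Fin n₁ → F) hk₃0 e)
    have hya : y = gl T a' 1 := by
      rw [hy₃]
      refine gl_ext_pt T fun u w => ?_
      rw [act_gl_pt, act_gl_pt, act_one, hk₃, ha', LinearMap.smul_apply, pt_smul_comm]
    have hin : ∀ p, act y p - p ∈ S₃ := by
      intro p
      rw [hyq]
      have e : act (gl T 1 s) - LinearMap.id = ptL T z₃ ∘ₗ cR T (flin C.h₂.bilinear z₁) -
          ptL T z₁ ∘ₗ cR T (flin C.h₂.bilinear z₃) := pt_ext T fun u t => by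
        simp only [LinearMap.sub_apply, LinearMap.comp_apply, LinearMap.id_apply, act_gl_pt, act_one, hsz,
          cR_pt, flin_apply, ptL_apply, pt_add_right, pt_sub_right, pt_smul_right, pt_smul_left]
        abel
      have e' := LinearMap.congr_fun e (act g p)
      simp only [LinearMap.sub_apply, LinearMap.comp_apply, LinearMap.id_apply, ptL_apply] at e'
      rw [e', map_sub]
      exact S₃.sub_mem (hU _ 2) (hU _ 0)
    have hxin : ∀ p, act (rt T C.h₁ v d) p - p ∈ S₃ := by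
      intro p
      have e : act (rt T C.h₁ v d) p - p = act g⁻¹ (act x (act g p) - act g p) := by
        rw [map_sub, act_inv_act, hx, act_mul, act_mul, act_inv_act, act_inv_act]
      rw [e]
      have e2 : act x - LinearMap.id = κ⁻¹ • (ptL T z₂ ∘ₗ cR T (flin C.h₂.bilinear z₁) -
          ptL T z₁ ∘ₗ cR T (flin C.h₂.bilinear z₂)) := pt_ext T fun u t => by
        simp only [LinearMap.sub_apply, LinearMap.comp_apply, LinearMap.id_apply, LinearMap.smul_apply, hN, hNz,
          cR_pt, flin_apply, ptL_apply, pt_sub_right, pt_smul_right, pt_smul_left, smul_sub]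
      have e2' := LinearMap.congr_fun e2 (act g p)
      simp only [LinearMap.sub_apply, LinearMap.comp_apply, LinearMap.id_apply, LinearMap.smul_apply,
        ptL_apply] at e2'
      rw [e2', map_smul, map_sub]
      exact S₃.smul_mem _ (S₃.sub_mem (hU _ 1) (hU _ 0))
    have hN₃ : ∀ u w, pt T (act a' u - u) w ∈ S₃ := fun u w => by
      have := hin (pt T u w)
      rwa [hya, act_gl_pt, act_one, ← pt_sub_left] at this
    have hNv : ∀ w, pt T v w ∈ S₃ := fun w => by
      have := hxin (pt T ((-d⁻¹) • v') w)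
      rwa [act_rt C.h₁, add_sub_cancel_left, pj_pt, f_smul_left C.h₁, hv'v, pt_smul_right, smul_smul,
        show d * (-d⁻¹ * -1) = 1 by field_simp, one_smul] at this
    -- `a' - 1` has values in the line of `v`
    have hrk : ∀ u, act a' u - u ∈ F ∙ v := by
      intro u
      by_contra hu
      have := two_mul_le_left T hv hu S₃ hNv (hN₃ u)
      omega
    obtain ⟨d₃, hd₃⟩ := root_of_left C (hya ▸ hyM) hv hrk
    obtain ⟨u, hu⟩ := exists_vec₁ C
    obtain ⟨z, hz, hz2⟩ : ∃ z, f₂ z z₁ = 1 ∧ f₂ z z₂ = 0 := by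
      obtain ⟨z, h0, h1⟩ := Sy.exists_vec C.h₂ (W := F ∙ z₂) (v := z₁) (fun e => by
        obtain ⟨p, hp⟩ := Submodule.mem_span_singleton.1 e
        have hp0 : p ≠ 0 := fun e0 => hz₁0 (by rw [← hp, e0, zero_smul])
        exact hz₂1 (Submodule.mem_span_singleton.2 ⟨p⁻¹, by rw [← hp, inv_smul_smul₀ hp0]⟩))
      exact ⟨z, by rw [C.h₂.symm, h1], by rw [C.h₂.symm]; exact h0 z₂ (Submodule.mem_span_singleton_self _)⟩
    have e1 : act (gl T 1 s) (pt T u z) - pt T u z = (d₃ / d) • (act x (pt T u z) - pt T u z) := by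
      have hs' : gl T 1 s = g * rt T C.h₁ v d₃ * g⁻¹ := by rw [← hd₃, ← hya, hy]; group
      rw [hD, hs', act_mul, act_mul, act_rt C.h₁, map_add, act_act_inv, add_sub_cancel_left, ← map_smul,
        smul_smul, div_mul_cancel₀ _ hd]
    rw [hN, hNz, act_gl_pt, act_one, hsz, hz, hz2, one_smul, one_smul, zero_smul, sub_zero, pt_add_right,
      add_sub_cancel_left, ← pt_smul_right, ← sub_eq_zero, ← pt_sub_right, pt_eq_zero, or_iff_right hu,
      sub_eq_zero, smul_smul, sub_eq_iff_eq_add] at e1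
    refine hz₃n ?_
    rw [e1]
    exact Submodule.add_mem _ (Submodule.smul_mem _ _ (Submodule.subset_span ⟨1, rfl⟩))
      (Submodule.smul_mem _ _ (Submodule.subset_span ⟨0, rfl⟩))
  -- otherwise the product with the root element is not square zero
  obtain ⟨k₃, hk₃⟩ := exists_scalar_of_eigen (act a₃) ((shape T C.two a₃ b₃ (hy₃ ▸ hy2)).resolve_right hb₃)
  have hry : ∀ p, act (gl T (stv C.h₁ v d * a₃) b₃) (act (gl T (stv C.h₁ v d * a₃) b₃) p - p) =
      act (gl T (stv C.h₁ v d * a₃) b₃) p - p := by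
    intro p
    have e : gl T (stv C.h₁ v d * a₃) b₃ = g⁻¹ * gl T 1 (b' * s) * g := by
      calc gl T (stv C.h₁ v d * a₃) b₃ = rt T C.h₁ v d * y := by rw [hy₃, rt, gl_mul, one_mul]
        _ = g⁻¹ * (x * gl T 1 s) * g := by rw [hy, hx]; group
        _ = _ := by rw [hxb, gl_mul, one_mul]
    have hz₂2 : f₂ z₂ z₂ = 0 := hz₂ ▸ (hskew w₁ w₁).1
    have hz₁2 : f₂ z₁ z₂ = 0 := hz₁ ▸ hz₂ ▸ (hskew w₀ w₁).1
    have hsquare : ∀ z, act (gl T 1 (b' * s)) (act (gl T 1 (b' * s)) z - z) - (act (gl T 1 (b' * s)) z - z) = 0 := by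
      intro z
      have e0 : (act (gl T 1 (b' * s)) - LinearMap.id) ∘ₗ (act (gl T 1 (b' * s)) - LinearMap.id) = 0 :=
        pt_ext T fun u t => by
          simp only [LinearMap.comp_apply, LinearMap.sub_apply, LinearMap.id_apply, LinearMap.zero_apply,
            act_gl_pt, act_one]
          rw [← pt_sub_right, act_gl_pt, act_one, ← pt_sub_right, ← pt_zero_right T u]
          congr 1
          simp only [act_mul, hb'w, hNz, hsz, Sy.add_left C.h₂, Sy.sub_left C.h₂, Sy.smul_left C.h₂, hz₁z₁, hz₃1,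
            hz₃2, hz₁2, C.h₂.symm z₂ z₁, C.h₂.symm z₂ z₃, C.h₂.symm z₁ z₃, hz₂2, hz₃, mul_zero, sub_zero,
            add_zero, zero_add, sub_self, zero_smul, smul_zero]
          try module
      exact LinearMap.congr_fun e0 z
    have := sub_eq_zero.1 (hsquare (act g p))
    rw [e]
    have e' : ∀ z, act (g⁻¹ * gl T 1 (b' * s) * g) z - z =
        act g⁻¹ (act (gl T 1 (b' * s)) (act g z) - act g z) := fun z => by
      rw [map_sub, act_inv_act, act_mul, act_mul]
    rw [e', act_mul, act_mul, act_act_inv, this]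
  rcases shape T C.two _ _ hry with h' | h'
  · obtain ⟨r, hr⟩ := exists_scalar_of_eigen (act (stv C.h₁ v d * a₃)) h'
    have hk₃0 : k₃ ≠ 0 := fun e => hv (act_injective a₃ (show act a₃ v = act a₃ 0 by
      rw [hk₃, e, zero_smul, map_zero]))
    have e := hr v'
    rw [act_mul, hk₃, map_smul, act_stv C.h₁, hv'v, smul_add, smul_smul, ← eq_sub_iff_add_eq', ← sub_smul] at e
    have := congrArg (f₁ v) e
    rw [f_smul_right C.h₁, f_smul_right C.h₁, C.h₁.alternating, mul_zero, hvv', mul_one, eq_comm] at this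
    rw [this, zero_smul, smul_eq_zero, or_iff_left hv] at e
    exact mul_ne_zero hk₃0 (mul_ne_zero hd (neg_ne_zero.2 one_ne_zero)) e
  · exact hb₃ h'

end Cfsg.Agent.MaxCl.TensSO
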