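/-
In a proper overgroup of a symplectic ⊗ orthogonal tensor stabiliser two vectors fixed by root elements are in one
orbit only if they are in one orbit of tensor products; an element mapping all pure tensors to pure tensors is a
tensor product.
-/
import Mathlib
import Cfsg.Agent.Lib.MaxCl.SympOrthTensorRigid
import Cfsg.Agent.Lib.MaxCl.FixedRootCore

set_option autoImplicit false
set_option linter.unusedSectionVars false

namespace Cfsg.Agent.MaxCl.TensSO

open scoped MatrixGroups Matrix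
open Module (finrank)
open Tens

variable {ι : Type} [Fintype ι] [DecidableEq ι] {F : Type*} [Field F] {n₁ n₂ : ℕ}
variable {T : TSys ι F n₁ n₂} {f : (ι → F) → (ι → F) → F}
variable {f₁ : (Fin n₁ → F) → (Fin n₁ → F) → F} {f₂ : (Fin n₂ → F) → (Fin n₂ → F) → F} {c : F}
variable {M : Subgroup (GL ι F)}

/-- some root element fixes the vector -/
def RK (T : TSys ι F n₁ n₂) (h₁ : Cfsg.Geo.IsSymplecticForm f₁) (x : ι → F) : Prop :=
  ∃ t, t ≠ 0 ∧ pj T h₁ t x = 0

/-- the vector is a pure tensor -/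
def IsPure₀ (T : TSys ι F n₁ n₂) (x : ι → F) : Prop := ∃ u w, x = pt T u w

/-- the stabiliser of a vector -/
def fixSub (x : ι → F) : Subgroup (GL ι F) where
  carrier := {g | act g x = x}
  mul_mem' {a b} ha hb := by
    show act (a * b) x = x
    rw [act_mul, (show act b x = x from hb), (show act a x = x from ha)]
  one_mem' := act_one x
  inv_mem' {a} ha := by
    show act a⁻¹ x = x
    conv_lhs => rw [← (show act a x = x from ha)]
    exact act_inv_act a x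

variable (C : OCtx T f f₁ f₂ c M)
include C

theorem rk_pt (u : Fin n₁ → F) (w : Fin n₂ → F) : RK T C.h₁ (pt T u w) := by
  rcases eq_or_ne u 0 with rfl | hu
  · obtain ⟨t, ht⟩ := exists_vec₁ C
    exact ⟨t, ht, by rw [pt_zero_left, map_zero]⟩
  · exact ⟨u, hu, by rw [pj_pt, C.h₁.alternating, zero_smul]⟩

theorem rk_two (h : 3 ≤ n₁) (u u' : Fin n₁ → F) (w w' : Fin n₂ → F) :
    RK T C.h₁ (pt T u w + pt T u' w') := by
  obtain ⟨t, ht, ht0⟩ := SP.exists_perp_notMem C.h₁ ![u, u'] (![] : Fin 0 → _) (by simp; omega)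
  refine ⟨t, by simpa using ht0, ?_⟩
  rw [map_add, pj_pt, pj_pt, show f₁ u t = 0 from ht 0, show f₁ u' t = 0 from ht 1, zero_smul, zero_smul, add_zero]

variable [Finite F]

/-- the orbit lemma -/
theorem orbit (hM : ¬ isoGroup f ≤ M) (h4 : 4 ≤ n₁) {g : GL ι F} (hg : g ∈ M) {x : ι → F}
    (hx : RK T C.h₁ x) (hgx : RK T C.h₁ (act g x)) :
    ∃ a b, gl T a b ∈ M ∧ act g x = act (gl T a b) x := by
  haveI := Fintype.ofFinite F
  obtain ⟨p, hpC⟩ := CharP.exists F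
  haveI := hpC
  haveI : Fact p.Prime := ⟨CharP.char_is_prime F p⟩
  set H := M ⊓ Cfsg.Geo.tensorProductSubgroup n₁ n₂ T.e T.P with hH
  let X : Set (GL ι F) := {r | ∃ v d, v ≠ 0 ∧ d ≠ 0 ∧ r = rt T C.h₁ v d}
  have hXH : X ⊆ (H : Set (GL ι F)) := by
    rintro _ ⟨v, d, -, -, rfl⟩
    exact ⟨rt_mem C v d, Tens.gl_mem T _ _⟩
  have hXp : ∀ r ∈ X, ∃ k, r ^ p ^ k = 1 := by
    rintro _ ⟨v, d, -, -, rfl⟩
    exact ⟨1, by rw [pow_one, rt_pow C.h₁, CharP.cast_eq_zero, zero_mul, rt_zero]⟩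
  have rig : ∀ g ∈ M, ∀ r ∈ X, g * r * g⁻¹ ∈ H → g ∈ H := by
    rintro g hg _ ⟨v, d, hv, hd, rfl⟩ hgr
    exact ⟨hg, rt_rigid C hM h4 hg hv hd hgr.2⟩
  obtain ⟨t, ht, hx0⟩ := hx
  obtain ⟨t', ht', hgx0⟩ := hgx
  obtain ⟨h, hh, he⟩ := exists_mem_orbit_of_rigid (p := p) (inf_le_left : H ≤ M) X hXH hXp rig
    (fixSub x) hg ⟨t, 1, ht, one_ne_zero, rfl⟩ ⟨t', 1, ht', one_ne_zero, rfl⟩
    ((rt_fix_iff C ht one_ne_zero).2 hx0) (by
      show act _ x = x
      rw [act_mul, act_mul, (rt_fix_iff C ht' one_ne_zero).2 hgx0, act_inv_act])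
  obtain ⟨a, b, hab⟩ := exists_of_mem T hh.2
  refine ⟨a, b, hab ▸ hh.1, ?_⟩
  have : act (h⁻¹ * g) x = x := he
  rw [act_mul] at this
  rw [← hab]
  conv_rhs => rw [← this, act_act_inv]

/-- images of pure tensors fixed by root elements are pure -/
theorem pure_image (hM : ¬ isoGroup f ≤ M) (h4 : 4 ≤ n₁) {g : GL ι F} (hg : g ∈ M) (u : Fin n₁ → F)
    (w : Fin n₂ → F) (h : RK T C.h₁ (act g (pt T u w))) : IsPure₀ T (act g (pt T u w)) := by
  obtain ⟨a, b, -, e⟩ := orbit C hM h4 hg (rk_pt C u w) h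
  exact ⟨act a u, act b w, by rw [e, act_gl_pt]⟩

/-- the set of `w` with all `g (u ⊗ w)` pure is a subspace -/
theorem pure_submodule (hM : ¬ isoGroup f ≤ M) (h4 : 4 ≤ n₁) {g : GL ι F} (hg : g ∈ M) :
    ∃ B : Submodule F (Fin n₂ → F), ∀ w, w ∈ B ↔ ∀ u, IsPure₀ T (act g (pt T u w)) := by
  refine ⟨{ carrier := {w | ∀ u, IsPure₀ T (act g (pt T u w))}
            zero_mem' := fun u => ⟨0, 0, by rw [pt_zero_right, map_zero, pt_zero_right]⟩
            add_mem' := fun {w w'} hw hw' u => ?_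
            smul_mem' := fun k w hw u => ?_ }, fun w => Iff.rfl⟩
  · obtain ⟨a, b, e⟩ := hw u
    obtain ⟨a', b', e'⟩ := hw' u
    refine pure_image C hM h4 hg u _ ?_
    rw [pt_add_right, map_add, e, e']
    exact rk_two C (by omega) a a' b b'
  · obtain ⟨a, b, e⟩ := hw u
    exact ⟨a, k • b, by rw [pt_smul_right, map_smul, e, pt_smul_right]⟩

/-- an element mapping pure tensors to pure tensors is a tensor product -/
theorem gl_of_pure (hM : ¬ isoGroup f ≤ M) (h4 : 4 ≤ n₁) {g : GL ι F} (hg : g ∈ M)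
    (hp : ∀ u w, IsPure₀ T (act g (pt T u w))) : g ∈ Cfsg.Geo.tensorProductSubgroup n₁ n₂ T.e T.P := by
  classical
  have hne : ∀ {u w a b}, u ≠ 0 → w ≠ 0 → act g (pt T u w) = pt T a b → a ≠ 0 ∧ b ≠ 0 := by
    intro u w a b hu hw h
    have : pt T a b ≠ 0 := by
      rw [← h]; intro e
      rcases (pt_eq_zero T).1 (act_injective g (e.trans (map_zero _).symm)) with h' | h' <;> contradiction
    rwa [Ne, pt_eq_zero, not_or] at this
  obtain ⟨z, -, hz0, hz⟩ := Sy.exists_isotropic C.h₂ (finrank₂ C)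
  obtain ⟨e, he⟩ := exists_aniso₂ C
  have he0 : e ≠ 0 := fun h => he (by rw [h, Sy.zero_left C.h₂])
  -- isotropy of the second factor is preserved
  have hnorm : ∀ {u w a b}, u ≠ 0 → w ≠ 0 → act g (pt T u w) = pt T a b → (f₂ w w = 0 ↔ f₂ b b = 0) := by
    intro u w a b hu hw h
    obtain ⟨α, β, hαβ, hh⟩ := orbit C hM h4 hg (rk_pt C u w) (h ▸ rk_pt C a b)
    rw [act_gl_pt, h] at hh
    obtain ⟨ha, -⟩ := hne hu hw h
    obtain ⟨k, hk⟩ := Submodule.mem_span_singleton.1 (mem_span_of_pt_eq T hh ha)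
    obtain ⟨-, hb⟩ := hne hu hw h
    have hk0 : k ≠ 0 := fun e0 => hb (by rw [← hk, e0, zero_smul])
    obtain ⟨u', u'', hu'⟩ := exists_ne_two C
    obtain ⟨μ, hμ⟩ : ∃ μ, μ = f₁ (act α u') (act α u'') := ⟨_, rfl⟩
    have e1 := iso_of_mem C hαβ (pt T u' w) (pt T u'' w)
    rw [act_gl_pt, act_gl_pt, C.form, C.form, ← hμ] at e1
    have e2 := mul_left_cancel₀ C.c_ne e1
    have hμ0 : μ ≠ 0 := fun e0 => by
      have e3 := iso_of_mem C hαβ (pt T u' e) (pt T u'' e)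
      rw [act_gl_pt, act_gl_pt, C.form, C.form, ← hμ, e0, zero_mul, mul_zero, eq_comm] at e3
      exact mul_ne_zero C.c_ne (mul_ne_zero hu' he) e3
    rw [← hk, Sy.self_smul C.h₂]
    constructor <;> intro h0
    · rw [h0, mul_zero] at e2
      rw [(mul_eq_zero.1 e2).resolve_left hμ0, mul_zero]
    · rw [(mul_eq_zero.1 h0).resolve_left (mul_ne_zero hk0 hk0), mul_zero, eq_comm] at e2
      exact (mul_eq_zero.1 e2).resolve_left hu'
  -- a common first factor for fixed `u`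
  have hrow : ∀ u : Fin n₁ → F, u ≠ 0 → ∃ a, a ≠ 0 ∧ ∀ w, ∃ b, act g (pt T u w) = pt T a b := by
    intro u hu
    obtain ⟨a₁, b₁, e₁⟩ := hp u z
    obtain ⟨a₂, b₂, e₂⟩ := hp u e
    obtain ⟨ha₁, hb₁⟩ := hne hu hz0 e₁
    obtain ⟨ha₂, hb₂⟩ := hne hu he0 e₂
    have hb12 : b₂ ∉ F ∙ b₁ := fun h => by
      obtain ⟨k, rfl⟩ := Submodule.mem_span_singleton.1 h
      refine he ((hnorm hu he0 e₂).2 ?_)
      rw [Sy.self_smul C.h₂, (hnorm hu hz0 e₁).1 hz, mul_zero]
    have ha12 : a₂ ∈ F ∙ a₁ := by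
      by_contra h
      obtain ⟨a, b, e3⟩ := hp u (z + e)
      rw [pt_add_right, map_add, e₁, e₂] at e3
      exact hb12 (share T e3 hb₁ ha₁ h)
    refine ⟨a₁, ha₁, fun w => ?_⟩
    obtain ⟨a, b, ew⟩ := hp u w
    by_cases ha : a ∈ F ∙ a₁
    · obtain ⟨k, rfl⟩ := Submodule.mem_span_singleton.1 ha
      exact ⟨k • b, by rw [ew, pt_smul_comm]⟩
    by_contra hall
    obtain ⟨a', b', e'⟩ := hp u (z + w)
    rw [pt_add_right, map_add, e₁, ew] at e'
    obtain ⟨k, hk⟩ := Submodule.mem_span_singleton.1 (share T e' hb₁ ha₁ ha)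
    obtain ⟨a'', b'', e''⟩ := hp u (e + w)
    rw [pt_add_right, map_add, e₂, ew] at e''
    obtain ⟨r, hr⟩ := Submodule.mem_span_singleton.1 (share T e'' hb₂ ha₂ fun h =>
      ha ((Submodule.span_singleton_le_iff_mem _ _).2 ha12 h))
    have hw0 : w ≠ 0 := fun h => by
      rw [h, pt_zero_right, map_zero, eq_comm, pt_eq_zero] at ew
      rcases ew with h' | h'
      · exact ha (h' ▸ Submodule.zero_mem _)
      · exact hall (⟨0, by rw [h, pt_zero_right, map_zero, pt_zero_right]⟩)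
    obtain ⟨-, hb⟩ := hne hu hw0 ew
    have hr0 : r ≠ 0 := fun e0 => hb (by rw [← hr, e0, zero_smul])
    exact hb12 (Submodule.mem_span_singleton.2 ⟨r⁻¹ * k, by rw [mul_smul, hk, ← hr, inv_smul_smul₀ hr0]⟩)
  -- distinct lines have distinct first factors
  have hrow2 : ∀ {u u' a a' b b' w}, u ≠ 0 → u' ∉ F ∙ u → w ≠ 0 → act g (pt T u w) = pt T a b →
      act g (pt T u' w) = pt T a' b' → a' ∉ F ∙ a := by
    intro u u' a a' b b' w hu hu' hw e₁ e₂ hmem
    obtain ⟨a₀, ha₀, h₀⟩ := hrow u hu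
    obtain ⟨ha, hb⟩ := hne hu hw e₁
    obtain ⟨k, hk⟩ := Submodule.mem_span_singleton.1 hmem
    obtain ⟨b₀, hb₀⟩ := h₀ w
    obtain ⟨p, hp'⟩ := Submodule.mem_span_singleton.1 (mem_span_of_pt_eq' T (e₁.symm.trans hb₀) hb)
    -- every `a₀ ⊗ x` is an image of `u ⊗ W`
    obtain ⟨φ, -, hφ⟩ := exists_dual (⊥ : Submodule F (Fin n₁ → F)) (v := a₀) (by simpa using ha₀)
    let L : (Fin n₂ → F) →ₗ[F] (Fin n₂ → F) := cL T φ ∘ₗ act g ∘ₗ ptR T u
    have hL : ∀ y, act g (pt T u y) = pt T a₀ (L y) := fun y => by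
      obtain ⟨by', hy⟩ := h₀ y
      show _ = pt T a₀ (cL T φ (act g (pt T u y)))
      rw [hy, cL_pt, hφ, one_smul]
    have hLi : Function.Injective L := (injective_iff_map_eq_zero L).2 fun y hy => by
      have : pt T u y = 0 := act_injective g (by rw [hL, hy, pt_zero_right, map_zero])
      exact ((pt_eq_zero T).1 this).resolve_left hu
    obtain ⟨y, hy⟩ := LinearMap.surjective_of_injective hLi (k • p • b')
    have hgy : act g (pt T u y) = act g (pt T u' w) := by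
      rw [hL, hy, e₂, ← hk, ← hp', pt_smul_right, pt_smul_right, pt_smul_left, pt_smul_left]
    exact hu' (mem_span_of_pt_eq' T (act_injective g hgy).symm hw)
  have hcol : ∀ {u u' a a' b b' w}, u ≠ 0 → w ≠ 0 → act g (pt T u w) = pt T a b →
      act g (pt T u' w) = pt T a' b' → u' ∉ F ∙ u → b' ∈ F ∙ b := by
    intro u u' a a' b b' w hu hw e₁ e₂ hu'
    obtain ⟨ha, hb⟩ := hne hu hw e₁
    obtain ⟨x, y, e3⟩ := hp (u + u') w
    rw [pt_add_left, map_add, e₁, e₂] at e3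
    exact share T e3 hb ha (hrow2 hu hu' hw e₁ e₂)
  obtain ⟨u₀, hu₀⟩ := exists_vec₁ C
  obtain ⟨a₀, ha₀, hr₀⟩ := hrow u₀ hu₀
  obtain ⟨φ, -, hφ⟩ := exists_dual (⊥ : Submodule F (Fin n₁ → F)) (v := a₀) (by simpa using ha₀)
  let B : (Fin n₂ → F) →ₗ[F] (Fin n₂ → F) := cL T φ ∘ₗ act g ∘ₗ ptR T u₀
  have hB : ∀ w, act g (pt T u₀ w) = pt T a₀ (B w) := fun w => by
    obtain ⟨b, hb⟩ := hr₀ w
    show _ = pt T a₀ (cL T φ (act g (pt T u₀ w)))
    rw [hb, cL_pt, hφ, one_smul]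
  have hBinj : Function.Injective B := (injective_iff_map_eq_zero B).2 fun w hw => by
    have : pt T u₀ w = 0 := act_injective g (by rw [hB, hw, pt_zero_right, map_zero])
    exact ((pt_eq_zero T).1 this).resolve_left hu₀
  have hBe : B e ≠ 0 := fun h => he0 (hBinj (by rw [h, map_zero]))
  obtain ⟨ψ, -, hψ⟩ := exists_dual (⊥ : Submodule F (Fin n₂ → F)) (v := B e) (by simpa using hBe)
  let A : (Fin n₁ → F) →ₗ[F] (Fin n₁ → F) := cR T ψ ∘ₗ act g ∘ₗ ptL T e
  have hA : ∀ u, act g (pt T u e) = pt T (A u) (B e) := fun u => by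
    obtain ⟨a, b, hab⟩ := hp u e
    by_cases hu : u ∈ F ∙ u₀
    · obtain ⟨k, rfl⟩ := Submodule.mem_span_singleton.1 hu
      show _ = pt T (cR T ψ (act g (pt T (k • u₀) e))) (B e)
      rw [pt_smul_left, map_smul, hB, map_smul, cR_pt, hψ, one_smul, pt_smul_left]
    · obtain ⟨k, hk⟩ := Submodule.mem_span_singleton.1 (hcol hu₀ he0 (hB e) hab hu)
      show _ = pt T (cR T ψ (act g (pt T u e))) (B e)
      rw [hab, ← hk, cR_pt, map_smul, hψ, smul_eq_mul, mul_one, pt_smul_comm]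
  have hAinj : Function.Injective A := (injective_iff_map_eq_zero A).2 fun u hu => by
    have : pt T u e = 0 := act_injective g (by rw [hA, hu, pt_zero_left, map_zero])
    exact ((pt_eq_zero T).1 this).resolve_right he0
  obtain ⟨β, hβ⟩ := exists_gl_of_injective B hBinj
  obtain ⟨α, hα⟩ := exists_gl_of_injective A hAinj
  suffices main : ∀ u w, act g (pt T u w) = pt T (A u) (B w) by
    have : g = gl T α β := gl_ext_pt T fun u w => by rw [main, act_gl_pt, hα, hβ]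
    rw [this]; exact Tens.gl_mem T _ _
  intro u w
  rcases eq_or_ne u 0 with rfl | hu
  · simp [pt_zero_left]
  obtain ⟨a, ha, hr⟩ := hrow u hu
  have hAu : A u ≠ 0 := fun h => hu (hAinj (by rw [h, map_zero]))
  obtain ⟨χ, -, hχ⟩ := exists_dual (⊥ : Submodule F (Fin n₁ → F)) (v := A u) (by simpa using hAu)
  let Cu : (Fin n₂ → F) →ₗ[F] (Fin n₂ → F) := cL T χ ∘ₗ act g ∘ₗ ptR T u
  obtain ⟨be, hbe⟩ := hr e
  obtain ⟨p, hp'⟩ := Submodule.mem_span_singleton.1 (mem_span_of_pt_eq' T ((hA u).symm.trans hbe) hBe)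
  have hCu : ∀ y, act g (pt T u y) = pt T (A u) (Cu y) := fun y => by
    obtain ⟨b, hb⟩ := hr y
    show _ = pt T (A u) (cL T χ (act g (pt T u y)))
    rw [hb, cL_pt]
    have hp0 : p ≠ 0 := fun e0 => hAu (by rw [← hp', e0, zero_smul])
    have hχa : χ a = p⁻¹ := by
      have := congrArg χ hp'
      rw [map_smul, hχ, smul_eq_mul] at this
      exact eq_inv_of_mul_eq_one_right this
    rw [hχa, ← hp', pt_smul_left, pt_smul_right, smul_inv_smul₀ hp0]
  have hscal : ∀ y, act β⁻¹ (Cu y) ∈ F ∙ y := by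
    intro y
    rcases eq_or_ne y 0 with rfl | hy
    · rw [map_zero, map_zero]; exact Submodule.zero_mem _
    have : Cu y ∈ F ∙ B y := by
      by_cases hu' : u ∈ F ∙ u₀
      · obtain ⟨k, rfl⟩ := Submodule.mem_span_singleton.1 hu'
        refine Submodule.mem_span_singleton.2 ⟨χ (k • a₀), ?_⟩
        show χ (k • a₀) • B y = cL T χ (act g (pt T (k • u₀) y))
        rw [pt_smul_left, map_smul, map_smul, hB, map_smul (cL T χ), cL_pt, smul_assoc]
      · exact hcol hu₀ hy (hB y) (hCu y) hu'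
    obtain ⟨k, hk⟩ := Submodule.mem_span_singleton.1 this
    exact Submodule.mem_span_singleton.2 ⟨k, act_injective β (by rw [map_smul, hβ, hk, act_act_inv])⟩
  obtain ⟨k, hk⟩ := exists_scalar_of_eigen (act β⁻¹ ∘ₗ Cu) hscal
  have hCB : ∀ y, Cu y = k • B y := fun y => by
    have := congrArg (act β) (hk y)
    rw [LinearMap.comp_apply, act_act_inv, map_smul, hβ] at this
    exact this
  have hk1 : k = 1 := by
    have h0 : pt T (A u) ((k - 1) • B e) = 0 := by
      rw [sub_smul, one_smul, pt_sub_right, ← hCB, ← hCu, hA, sub_self]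
    have h1 := ((pt_eq_zero T).1 h0).resolve_left hAu
    exact sub_eq_zero.1 ((smul_eq_zero.1 h1).resolve_right hBe)
  rw [hCu, hCB, hk1, one_smul]

end Cfsg.Agent.MaxCl.TensSO
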