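/-
Involutions among the tensor products in a proper overgroup of a symplectic ⊗ orthogonal tensor stabiliser: normal
forms, and centralisers of involutions with both eigenvalues on the first factor.
-/
import Mathlib
import Cfsg.Agent.Lib.MaxCl.SympOrthTensorOrbit

set_option autoImplicit false
set_option linter.unusedSectionVars false

namespace Cfsg.Agent.MaxCl.TensSO

open scoped MatrixGroups Matrix
open Module (finrank)
open Tens

variable {ι : Type} [Fintype ι] [DecidableEq ι] {F : Type*} [Field F] {n₁ n₂ : ℕ}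
variable {T : TSys ι F n₁ n₂} {f : (ι → F) → (ι → F) → F}
variable {f₁ : (Fin n₁ → F) → (Fin n₁ → F) → F} {f₂ : (Fin n₂ → F) → (Fin n₂ → F) → F} {c : F}
variable {M : Subgroup (GL ι F)}

/-- elements moving along, and fixing, complementary eigenspaces commute -/
theorem comm_of_eig {κ : Type} [Fintype κ] [DecidableEq κ] (Z R r : GL κ F)
    (hR : ∀ y, act Z y = -y → act R y = y) (hR' : ∀ y, act Z (act R y - y) = act R y - y)
    (hr : ∀ y, act Z y = y → act r y = y) (hr' : ∀ y, act Z (act r y - y) = -(act r y - y)) :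
    Commute R r := by
  refine gl_ext fun x => ?_
  rw [act_mul, act_mul]
  conv_lhs => rw [show act r x = x + (act r x - x) by abel, map_add, hR _ (hr' x)]
  conv_rhs => rw [show act R x = x + (act R x - x) by abel, map_add, hr _ (hR' x)]
  abel

/-- a tensor product equal to `a' ⊗ 1` has scalar second factor -/
theorem scalar_of_gl_eq (T : TSys ι F n₁ n₂) {a a' : GL (Fin n₁) F} {b : GL (Fin n₂) F}
    (h : gl T a b = gl T a' 1) {u : Fin n₁ → F} (hu : u ≠ 0) (w : Fin n₂ → F) : act b w ∈ F ∙ w := by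
  have e := congrArg (fun g => act g (pt T u w)) h
  simp only [act_gl_pt, act_one] at e
  exact mem_span_of_pt_eq T e fun e0 => hu (act_injective a (by rw [e0, map_zero]))

/-- eigenvectors of an involution -/
theorem invol_cases {κ : Type} [Fintype κ] [DecidableEq κ] {a : GL κ F} (h : a * a = 1) :
    (∀ u, act a u = u) ∨ (∀ u, act a u = -u) ∨
      ((∃ v, v ≠ 0 ∧ act a v = v) ∧ ∃ v, v ≠ 0 ∧ act a v = -v) := by
  have haa : ∀ u, act a (act a u) = u := fun u => by rw [← act_mul, h, act_one]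
  by_cases h1 : ∀ u, act a u = u
  · exact Or.inl h1
  by_cases h2 : ∀ u, act a u = -u
  · exact Or.inr (Or.inl h2)
  push Not at h1 h2
  obtain ⟨u, hu⟩ := h2
  obtain ⟨u', hu'⟩ := h1
  refine Or.inr (Or.inr ⟨⟨act a u + u, fun e => hu (eq_neg_of_add_eq_zero_left e), ?_⟩,
    act a u' - u', sub_ne_zero.2 hu', ?_⟩)
  · rw [map_add, haa, add_comm]
  · rw [map_sub, haa, neg_sub]

variable (C : OCtx T f f₁ f₂ c M)
include C

theorem act_yy {e : Fin n₂ → F} (he : f₂ e e ≠ 0) (x : ι → F) :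
    act (yy T f₂ e) x = x - pt T ((2 / f₂ e e) • cR T (flin C.h₂.bilinear e) x) e := by
  let R : (ι → F) →ₗ[F] (ι → F) := LinearMap.id - (2 / f₂ e e) • (ptL T e ∘ₗ cR T (flin C.h₂.bilinear e))
  have : act (yy T f₂ e) = R := pt_ext T fun u w => by
    show act (gl T 1 _) (pt T u w) = pt T u w - (2 / f₂ e e) • pt T (cR T (flin C.h₂.bilinear e) (pt T u w)) e
    rw [act_gl_pt, act_one, Sy.act_yr C.h₂ he, cR_pt, flin_apply, pt_sub_right, pt_smul_right, pt_smul_left,
      smul_smul, mul_div_right_comm]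
  rw [this, pt_smul_left]; rfl

theorem yy_sq {e : Fin n₂ → F} (he : f₂ e e ≠ 0) : yy T f₂ e * yy T f₂ e = 1 := by
  rw [yy, gl_mul, one_mul, Sy.yr_sq C.h₂ he, gl_one]

theorem eq_pt_of_yy {e : Fin n₂ → F} (he : f₂ e e ≠ 0) {x : ι → F} (h : act (yy T f₂ e) x = -x) :
    x = pt T ((f₂ e e)⁻¹ • cR T (flin C.h₂.bilinear e) x) e := by
  rw [act_yy C he, sub_eq_iff_eq_add, eq_neg_add_iff_add_eq, pt_smul_left] at h
  rw [pt_smul_left]
  apply smul_right_injective (ι → F) C.two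
  show (2 : F) • x = (2 : F) • _
  rw [smul_smul, ← div_eq_mul_inv, two_smul, h]

theorem cR_of_yy {e : Fin n₂ → F} (he : f₂ e e ≠ 0) {x : ι → F} (h : act (yy T f₂ e) x = x) :
    cR T (flin C.h₂.bilinear e) x = 0 := by
  rw [act_yy C he, sub_eq_self, pt_eq_zero] at h
  have he0 : e ≠ 0 := fun e0 => he (by rw [e0, Sy.zero_left C.h₂])
  exact ((smul_eq_zero.1 (h.resolve_right he0)).resolve_left (div_ne_zero C.two he))

theorem yy_pt_self {e : Fin n₂ → F} (he : f₂ e e ≠ 0) (u : Fin n₁ → F) :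
    act (yy T f₂ e) (pt T u e) = -pt T u e := by
  rw [yy, act_gl_pt, act_one, Sy.yr_self C.h₂ he, pt_neg_right]

theorem yy_pt_fix {e w : Fin n₂ → F} (he : f₂ e e ≠ 0) (h : f₂ w e = 0) (u : Fin n₁ → F) :
    act (yy T f₂ e) (pt T u w) = pt T u w := by
  rw [yy, act_gl_pt, act_one, Sy.yr_fix C.h₂ he h]

/-- a tensor product commuting with a reflection has the axis as an eigenvector -/
theorem eig_of_comm {e : Fin n₂ → F} (he : f₂ e e ≠ 0) {a : GL (Fin n₁) F} {b : GL (Fin n₂) F}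
    (h : Commute (gl T a b) (yy T f₂ e)) : ∃ r : F, r ≠ 0 ∧ act b e = r • e := by
  have he0 : e ≠ 0 := fun e0 => he (by rw [e0, Sy.zero_left C.h₂])
  obtain ⟨u, hu⟩ := exists_vec₁ C
  have h1 : act (yy T f₂ e) (pt T (act a u) (act b e)) = -pt T (act a u) (act b e) := by
    rw [← act_gl_pt, ← act_mul, ← h.eq, act_mul, yy_pt_self C he, map_neg]
  have h2 := eq_pt_of_yy C he h1
  obtain ⟨r, hr⟩ := Submodule.mem_span_singleton.1
    (mem_span_of_pt_eq T h2 fun e0 => hu (act_injective a (by rw [e0, map_zero])))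
  exact ⟨r, fun e0 => he0 (act_injective b (by rw [← hr, e0, zero_smul, map_zero])), hr.symm⟩

/-- normal form of an involution of the stabiliser commuting with a reflection -/
theorem normal_form {φ : Fin n₂ → F} (hφ : f₂ φ φ ≠ 0) {z : GL ι F} (hz : z ∈ M)
    (hzH : z ∈ Cfsg.Geo.tensorProductSubgroup n₁ n₂ T.e T.P) (hzz : z * z = 1)
    (hcomm : Commute z (yy T f₂ φ)) :
    ∃ a b, z = gl T a b ∧ a ∈ isoGroup f₁ ∧ b ∈ isoGroup f₂ ∧ a * a = 1 ∧ b * b = 1 ∧ act b φ = φ := by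
  obtain ⟨a, b, rfl⟩ := exists_of_mem T hzH
  obtain ⟨r, hr0, hr⟩ := eig_of_comm C hφ hcomm
  obtain ⟨a', ha'⟩ := exists_gl_of_injective (r • act a) fun u u' e =>
    act_injective a (smul_right_injective (Fin n₁ → F) hr0 e)
  obtain ⟨b', hb'⟩ := exists_gl_of_injective (r⁻¹ • act b) fun u u' e =>
    act_injective b (smul_right_injective (Fin n₂ → F) (inv_ne_zero hr0) e)
  have heq : gl T a b = gl T a' b' := gl_ext_pt T fun u w => by
    rw [act_gl_pt, act_gl_pt, ha', hb', LinearMap.smul_apply, LinearMap.smul_apply, pt_smul_comm, smul_inv_smul₀ hr0]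
  have hbφ : act b' φ = φ := by rw [hb', LinearMap.smul_apply, hr, inv_smul_smul₀ hr0]
  have hφ0 : φ ≠ 0 := fun e0 => hφ (by rw [e0, Sy.zero_left C.h₂])
  rw [heq] at hz hzz ⊢
  have ha : a' ∈ isoGroup f₁ := mem_isoGroup.2 fun u u' => by
    have e := iso_of_mem C hz (pt T u φ) (pt T u' φ)
    rw [act_gl_pt, act_gl_pt, hbφ, C.form, C.form] at e
    exact mul_right_cancel₀ hφ (mul_left_cancel₀ C.c_ne e)
  obtain ⟨u₀, u₁, hu⟩ := exists_ne_two C
  have hu0 : u₀ ≠ 0 := fun e => hu (by rw [e, f_zero_left C.h₁])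
  have haa : a' * a' = 1 := gl_ext fun u => by
    have e := congrArg (fun g => act g (pt T u φ)) hzz
    simp only [gl_mul, act_gl_pt, act_one] at e
    rw [act_mul b', hbφ, hbφ, ← sub_eq_zero, ← pt_sub_left, pt_eq_zero, or_iff_left hφ0, sub_eq_zero] at e
    rw [e, act_one]
  refine ⟨a', b', rfl, ha, mem_isoGroup.2 fun w w' => ?_, haa, gl_ext fun w => ?_, hbφ⟩
  · have e := iso_of_mem C hz (pt T u₀ w) (pt T u₁ w')
    rw [act_gl_pt, act_gl_pt, C.form, C.form, mem_isoGroup.1 ha] at e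
    exact mul_left_cancel₀ hu (mul_left_cancel₀ C.c_ne e)
  · have e := congrArg (fun g => act g (pt T u₀ w)) hzz
    simp only [gl_mul, act_gl_pt, act_one, haa] at e
    rw [← sub_eq_zero, ← pt_sub_right, pt_eq_zero, or_iff_right hu0, sub_eq_zero] at e
    rw [e, act_one]

/-- contraction after a tensor product -/
theorem pj_gl {a : GL (Fin n₁) F} (ha : a ∈ isoGroup f₁) {t : Fin n₁ → F} {σ : F} (hσ : σ * σ = 1)
    (ht : act a t = σ • t) (b : GL (Fin n₂) F) (x : ι → F) :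
    pj T C.h₁ t (act (gl T a b) x) = σ • act b (pj T C.h₁ t x) := by
  have hat : act a (σ • t) = t := by rw [map_smul, ht, smul_smul, hσ, one_smul]
  have : pj T C.h₁ t ∘ₗ act (gl T a b) = σ • (act b ∘ₗ pj T C.h₁ t) := pt_ext T fun u w => by
    simp only [LinearMap.comp_apply, LinearMap.smul_apply, act_gl_pt, pj_pt, map_smul]
    conv_lhs => rw [← hat, mem_isoGroup.1 ha, f_smul_right C.h₁]
    rw [smul_smul]
  exact LinearMap.congr_fun this x

variable [Finite F]

/-- centralisers of involutions `a ⊗ 1` with both eigenvalues -/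
theorem good_left (hM : ¬ isoGroup f ≤ M) (h4 : 4 ≤ n₁) {a : GL (Fin n₁) F} (ha : a ∈ isoGroup f₁)
    {v v' : Fin n₁ → F} (hv : v ≠ 0) (hav : act a v = v) (hv' : v' ≠ 0) (hav' : act a v' = -v')
    {g : GL ι F} (hg : g ∈ M) (hc : Commute g (gl T a 1)) :
    g ∈ Cfsg.Geo.tensorProductSubgroup n₁ n₂ T.e T.P := by
  have hfix : ∀ {t : Fin n₁ → F} {σ : F}, σ * σ = 1 → act a t = σ • t → ∀ y,
      act (gl T a 1) y = -(σ • y) → act (rt T C.h₁ t 1) y = y := by
    intro t σ hσ ht y hy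
    have e := pj_gl C ha hσ ht 1 y
    rw [act_one, hy, map_neg, map_smul] at e
    have h2 : ((2 : F) * σ) • pj T C.h₁ t y = 0 := by linear_combination (norm := module) -e
    rw [act_rt C.h₁, (smul_eq_zero.1 h2).resolve_left (mul_ne_zero C.two fun e0 => by
      rw [e0, mul_zero] at hσ; exact zero_ne_one hσ), pt_zero_right, smul_zero, add_zero]
  have hr' : ∀ {t : Fin n₁ → F} {σ : F}, act a t = σ • t → ∀ y,
      act (gl T a 1) (act (rt T C.h₁ t 1) y - y) = σ • (act (rt T C.h₁ t 1) y - y) := by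
    intro t σ ht y
    rw [act_rt C.h₁, add_sub_cancel_left, one_smul, act_gl_pt, act_one, ht, pt_smul_left]
  have hg' : ∀ x, act (gl T a 1) (act g x) = act g (act (gl T a 1) x) := fun x => by
    rw [← act_mul, ← hc.eq, act_mul]
  set R := g * rt T C.h₁ v 1 * g⁻¹ with hR
  have hgi : ∀ x, act (gl T a 1) (act g⁻¹ x) = act g⁻¹ (act (gl T a 1) x) := fun x => by
    apply act_injective g
    rw [← hg', act_act_inv, act_act_inv]
  have hcom : Commute R (rt T C.h₁ v' 1) := by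
    refine comm_of_eig (gl T a 1) _ _ (fun y hy => ?_) (fun y => ?_) (fun y hy => ?_) (fun y => ?_)
    · rw [hR, act_mul, act_mul, hfix (t := v) (σ := 1) (one_mul 1) (by rw [hav, one_smul]) _ (by
        rw [hgi, hy, one_smul, map_neg]), act_act_inv]
    · have e := hr' (t := v) (σ := 1) (by rw [hav, one_smul]) (act g⁻¹ y)
      rw [one_smul] at e
      rw [hR, act_mul, act_mul]
      have : act g (act (rt T C.h₁ v 1) (act g⁻¹ y)) - y =
          act g (act (rt T C.h₁ v 1) (act g⁻¹ y) - act g⁻¹ y) := by rw [map_sub, act_act_inv]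
      rw [this, hg', e]
    · exact hfix (t := v') (σ := -1) (by ring) (by rw [hav', neg_one_smul]) y (by rw [hy, neg_one_smul, neg_neg])
    · rw [hr' (t := v') (σ := -1) (by rw [hav', neg_one_smul]), neg_one_smul]
  have hRM : R ∈ M := M.mul_mem (M.mul_mem hg (rt_mem C v 1)) (M.inv_mem hg)
  exact rt_rigid C hM h4 hg hv one_ne_zero
    (centralizer_tensor C hM hv' one_ne_zero one_ne_zero hRM hcom.eq)

/-- conjugates of `a₀ ⊗ 1` among the tensor products have scalar second factor -/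
theorem transfer (hM : ¬ isoGroup f ≤ M) (h4 : 4 ≤ n₁) {a₀ : GL (Fin n₁) F} (ha₀ : a₀ ∈ isoGroup f₁)
    {v v' : Fin n₁ → F} (hv : v ≠ 0) (hav : act a₀ v = v) (hv' : v' ≠ 0) (hav' : act a₀ v' = -v')
    {a : GL (Fin n₁) F} {b : GL (Fin n₂) F} (ha : a ∈ isoGroup f₁) {t : Fin n₁ → F} (ht : t ≠ 0) {σ : F}
    (hσ : σ * σ = 1) (hat : act a t = σ • t) {k : GL ι F} (hk : k ∈ M)
    (h : k * gl T a b * k⁻¹ = gl T a₀ 1) (w : Fin n₂ → F) : act b w ∈ F ∙ w := by
  have hx : Commute (rt T C.h₁ t 1) (gl T a b) := by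
    have e : a * stv C.h₁ t 1 * a⁻¹ = stv C.h₁ t 1 := by
      rw [conj_stv C.h₁ ha, hat, stv_smul C.h₁, sq, hσ, one_mul]
    have e' : a * stv C.h₁ t 1 = stv C.h₁ t 1 * a := by
      conv_rhs => rw [← e, inv_mul_cancel_right]
    show _ = _
    rw [rt, gl_mul, gl_mul, e', one_mul, mul_one]
  have hR : Commute (k * rt T C.h₁ t 1 * k⁻¹) (gl T a₀ 1) := by
    rw [← h]; exact hx.conj k
  have hkH := rt_rigid C hM h4 hk ht one_ne_zero
    (good_left C hM h4 ha₀ hv hav hv' hav' (M.mul_mem (M.mul_mem hk (rt_mem C t 1)) (M.inv_mem hk)) hR)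
  obtain ⟨α, β, rfl⟩ := exists_of_mem T hkH
  rw [gl_inv, gl_mul, gl_mul] at h
  have := scalar_of_gl_eq T h ht (act β w)
  obtain ⟨r, hr⟩ := Submodule.mem_span_singleton.1 this
  rw [act_mul, act_mul, act_inv_act, ← map_smul] at hr
  exact Submodule.mem_span_singleton.2 ⟨r, act_injective β hr⟩

/-- an involution `a ⊗ (minus a reflection)` with both eigenvalues on the first factor -/
theorem good_block (hM : ¬ isoGroup f ≤ M) (h4 : 4 ≤ n₁) {a : GL (Fin n₁) F} (ha : a ∈ isoGroup f₁)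
    (haa : a * a = 1) {v v' : Fin n₁ → F} (hv : v ≠ 0) (hav : act a v = v) (hv' : v' ≠ 0)
    (hav' : act a v' = -v') {φ : Fin n₂ → F} (hφ : f₂ φ φ ≠ 0) {b : GL (Fin n₂) F}
    (hb : ∀ w, act b w = -act (Sy.yr f₂ φ) w) {g : GL ι F} (hg : g ∈ M) (hc : Commute g (gl T a b)) :
    g ∈ Cfsg.Geo.tensorProductSubgroup n₁ n₂ T.e T.P := by
  have haa' : ∀ u, act a (act a u) = u := fun u => by rw [← act_mul, haa, act_one]
  -- eigenvectors have root elements
  have key : ∀ (σ : F) (t₀ : Fin n₁ → F), σ * σ = 1 → t₀ ≠ 0 → act a t₀ = σ • t₀ →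
      ∀ x, act (gl T a b) x = σ • x → RK T C.h₁ x := by
    intro σ t₀ hσ ht₀ hat₀ x hx
    obtain ⟨y, hy⟩ := SP.exists_one C.h₁ ht₀
    obtain ⟨t₁, ht₁def⟩ : ∃ t₁, t₁ = y + σ • act a y := ⟨_, rfl⟩
    have hat₁ : act a t₁ = σ • t₁ := by
      rw [ht₁def, map_add, map_smul, haa', smul_add, smul_smul, hσ, one_smul, add_comm]
    have h01 : f₁ t₀ t₁ = 2 := by
      have e : f₁ t₀ (act a y) = σ := by
        have := mem_isoGroup.1 ha (σ • t₀) y
        rw [map_smul, hat₀, smul_smul, hσ, one_smul, f_smul_left C.h₁, hy, mul_one] at this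
        exact this
      rw [ht₁def, f_add_right C.h₁, f_smul_right C.h₁, hy, e, hσ]; norm_num
    have hq : ∀ t, act a t = σ • t →
        pj T C.h₁ t x = (f₂ (pj T C.h₁ t x) φ / f₂ φ φ) • φ := by
      intro t ht
      have e := pj_gl C ha hσ ht b x
      rw [hx, map_smul] at e
      have hσ0 : σ ≠ 0 := fun e0 => by rw [e0, mul_zero] at hσ; exact zero_ne_one hσ
      have e' := smul_right_injective (Fin n₂ → F) hσ0 e
      rw [hb, Sy.act_yr C.h₂ hφ, neg_sub] at e'
      have e'' : (2 : F) • (pj T C.h₁ t x - (f₂ (pj T C.h₁ t x) φ / f₂ φ φ) • φ) = 0 := by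
        linear_combination (norm := module) e'
      exact sub_eq_zero.1 ((smul_eq_zero.1 e'').resolve_left C.two)
    obtain ⟨l₀, hl₀⟩ : ∃ l, pj T C.h₁ t₀ x = l • φ := ⟨_, hq t₀ hat₀⟩
    obtain ⟨l₁, hl₁⟩ : ∃ l, pj T C.h₁ t₁ x = l • φ := ⟨_, hq t₁ hat₁⟩
    by_cases h0 : l₀ = 0
    · exact ⟨t₀, ht₀, by rw [hl₀, h0, zero_smul]⟩
    refine ⟨l₁ • t₀ - l₀ • t₁, fun e => ?_, ?_⟩
    · have := congrArg (f₁ t₀) e
      rw [f_sub_right C.h₁, f_smul_right C.h₁, f_smul_right C.h₁, C.h₁.alternating, h01, f_zero_right C.h₁,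
        mul_zero, zero_sub, neg_eq_zero] at this
      exact mul_ne_zero h0 C.two this
    · have hlin : ∀ y, pj T C.h₁ (l₁ • t₀ - l₀ • t₁) y = l₁ • pj T C.h₁ t₀ y - l₀ • pj T C.h₁ t₁ y :=
        fun y => LinearMap.congr_fun (show pj T C.h₁ (l₁ • t₀ - l₀ • t₁) =
          l₁ • pj T C.h₁ t₀ - l₀ • pj T C.h₁ t₁ from pt_ext T fun u w => by
            simp only [LinearMap.sub_apply, LinearMap.smul_apply, pj_pt, f_sub_right C.h₁, f_smul_right C.h₁]
            module) y
      rw [hlin, hl₀, hl₁]; module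
  have heig : ∀ x, (act (gl T a b) x = x ∨ act (gl T a b) x = -x) → RK T C.h₁ x := by
    rintro x (h | h)
    · exact key 1 v (one_mul 1) hv (by rw [hav, one_smul]) x (by rw [h, one_smul])
    · exact key (-1) v' (by ring) hv' (by rw [hav', neg_one_smul]) x (by rw [h, neg_one_smul])
  have hg' : ∀ x, act (gl T a b) (act g x) = act g (act (gl T a b) x) := fun x => by
    rw [← act_mul, ← hc.eq, act_mul]
  have hpure : ∀ w, (act b w = w ∨ act b w = -w) → ∀ u, IsPure₀ T (act g (pt T u w)) := by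
    intro w hw u
    have hz : ∀ u, (act a u = u ∨ act a u = -u) → IsPure₀ T (act g (pt T u w)) := by
      intro u hu
      refine pure_image C hM h4 hg u w (heig _ ?_)
      rw [hg', act_gl_pt]
      rcases hu with hu | hu <;> rcases hw with hw | hw <;> rw [hu, hw]
      · exact Or.inl rfl
      · exact Or.inr (by rw [pt_neg_right, map_neg])
      · exact Or.inr (by rw [pt_neg_left, map_neg])
      · exact Or.inl (by rw [pt_neg_left, pt_neg_right, neg_neg])
    have h2 : u = (2 : F)⁻¹ • (u + act a u) + (2 : F)⁻¹ • (u - act a u) := by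
      have := C.two
      match_scalars <;> field_simp
      all_goals ring
    refine pure_image C hM h4 hg u w ?_
    obtain ⟨p, q, e⟩ := hz ((2 : F)⁻¹ • (u + act a u)) (Or.inl (by rw [map_smul, map_add, haa', add_comm]))
    obtain ⟨p', q', e'⟩ := hz ((2 : F)⁻¹ • (u - act a u))
      (Or.inr (by rw [map_smul, map_sub, haa', ← smul_neg, neg_sub]))
    rw [h2, pt_add_left, map_add, e, e']
    exact rk_two C (by omega) _ _ _ _
  obtain ⟨B, hB⟩ := pure_submodule C hM h4 hg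
  refine gl_of_pure C hM h4 hg fun u w => (hB w).1 ?_ u
  have h1 : φ ∈ B := (hB φ).2 (hpure φ (Or.inl (by rw [hb, Sy.yr_self C.h₂ hφ, neg_neg])))
  have h2 : w - (f₂ w φ / f₂ φ φ) • φ ∈ B := (hB _).2 (hpure _ (Or.inr (by
    rw [hb, Sy.yr_fix C.h₂ hφ (by
      rw [Sy.sub_left C.h₂, Sy.smul_left C.h₂, div_mul_cancel₀ _ hφ, sub_self])])))
  simpa using B.add_mem h2 (B.smul_mem (f₂ w φ / f₂ φ φ) h1)

end Cfsg.Agent.MaxCl.TensSO
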