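/-
The stabiliser of a tensor decomposition symplectic ⊗ orthogonal of a symplectic form is maximal, for a first factor
of dimension at least four: centralisers of families of reflections of the second factor lie in the stabiliser, by
induction from large families to the empty one.
-/
import Mathlib
import Cfsg.Agent.Lib.MaxCl.SympOrthTensorEigen

set_option autoImplicit false
set_option linter.unusedSectionVars false

namespace Cfsg.Agent.MaxCl.TensSO

open scoped MatrixGroups Matrix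
open Module (finrank)
open Tens

variable {ι : Type} [Fintype ι] [DecidableEq ι] {F : Type*} [Field F] {n₁ n₂ : ℕ}
variable {T : TSys ι F n₁ n₂} {f : (ι → F) → (ι → F) → F}
variable {f₁ : (Fin n₁ → F) → (Fin n₁ → F) → F} {f₂ : (Fin n₂ → F) → (Fin n₂ → F) → F} {c : F}
variable {M : Subgroup (GL ι F)}

/-- a family of orthogonal anisotropic vectors -/
def Fr (f₂ : (Fin n₂ → F) → (Fin n₂ → F) → F) (E : Set (Fin n₂ → F)) : Prop :=
  (∀ e ∈ E, f₂ e e ≠ 0) ∧ ∀ e ∈ E, ∀ e' ∈ E, e ≠ e' → f₂ e e' = 0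

/-- the elements of `M` commuting with the reflections in `E` -/
def Km (T : TSys ι F n₁ n₂) (f₂ : (Fin n₂ → F) → (Fin n₂ → F) → F) (M : Subgroup (GL ι F))
    (E : Set (Fin n₂ → F)) : Subgroup (GL ι F) where
  carrier := {g | g ∈ M ∧ ∀ e ∈ E, Commute g (yy T f₂ e)}
  mul_mem' {a b} ha hb := ⟨M.mul_mem ha.1 hb.1, fun e he => (ha.2 e he).mul_left (hb.2 e he)⟩
  one_mem' := ⟨M.one_mem, fun _ _ => Commute.one_left _⟩
  inv_mem' {a} ha := ⟨M.inv_mem ha.1, fun e he => (ha.2 e he).inv_left⟩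

/-- the vectors orthogonal to `E` -/
def pS (h₂ : Cfsg.Geo.IsSymmetricForm f₂) (E : Set (Fin n₂ → F)) : Submodule F (Fin n₂ → F) :=
  ⨅ e ∈ E, LinearMap.ker (flin h₂.bilinear e)

theorem mem_pS (h₂ : Cfsg.Geo.IsSymmetricForm f₂) {E : Set (Fin n₂ → F)} {x : Fin n₂ → F} :
    x ∈ pS h₂ E ↔ ∀ e ∈ E, f₂ x e = 0 := by
  simp [pS, Submodule.mem_iInf, LinearMap.mem_ker, flin_apply]

variable (C : OCtx T f f₁ f₂ c M)
include C

/-- the second factor is the sum of the span of `E` and its orthogonal space -/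
theorem decomp [Finite F] {E : Set (Fin n₂ → F)} (hE : Fr f₂ E) (B : Submodule F (Fin n₂ → F))
    (hB : E ⊆ B) (hB' : pS C.h₂ E ≤ B) : ∀ w, w ∈ B := by
  classical
  intro w
  obtain ⟨S, hS⟩ : ∃ S, S = ∑ e ∈ (Set.toFinite E).toFinset, (f₂ w e / f₂ e e) • e := ⟨_, rfl⟩
  have h1 : S ∈ B := hS ▸ B.sum_mem fun e he => B.smul_mem _ (hB ((Set.toFinite E).mem_toFinset.1 he))
  have h2 : w - S ∈ pS C.h₂ E := by
    rw [mem_pS]
    intro e₀ he₀
    rw [← flin_apply C.h₂.bilinear e₀, map_sub, hS, map_sum, Finset.sum_eq_single e₀, map_smul, flin_apply, flin_apply,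
      smul_eq_mul, div_mul_cancel₀ _ (hE.1 _ he₀), sub_self]
    · intro e he hne
      rw [map_smul, flin_apply, hE.2 e ((Set.toFinite E).mem_toFinset.1 he) e₀ he₀ hne, smul_zero]
    · intro h; exact absurd ((Set.toFinite E).mem_toFinset.2 he₀) h
  simpa using B.add_mem (hB' h2) h1

/-- a non-zero subspace cut out by `E`, and closed under the orthogonality to a given vector, is not totally
isotropic -/
theorem exists_aniso_pS [Finite F] {E : Set (Fin n₂ → F)} (hE : Fr f₂ E) {x : Fin n₂ → F}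
    (hx : x ∈ pS C.h₂ E) (hx0 : x ≠ 0) : ∃ φ ∈ pS C.h₂ E, f₂ φ φ ≠ 0 := by
  by_contra hno
  push Not at hno
  refine hx0 (Sy.eq_zero C.h₂ fun y => ?_)
  refine LinearMap.mem_ker.1 (decomp C hE (LinearMap.ker (flin C.h₂.bilinear x)) (fun e he => ?_)
    (fun y hy => ?_) y)
  · rw [SetLike.mem_coe, LinearMap.mem_ker, flin_apply, C.h₂.symm]; exact (mem_pS C.h₂).1 hx e he
  · have e := hno (x + y) ((pS C.h₂ E).add_mem hx hy)
    rw [Sy.self_add C.h₂, hno x hx, hno y hy, zero_add, zero_add, mul_eq_zero, or_iff_right C.two] at e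
    rwa [LinearMap.mem_ker, flin_apply, C.h₂.symm]

theorem fr_insert {E : Set (Fin n₂ → F)} (hE : Fr f₂ E) {φ : Fin n₂ → F} (hφ : φ ∈ pS C.h₂ E)
    (hφφ : f₂ φ φ ≠ 0) : Fr f₂ (insert φ E) := by
  refine ⟨fun e he => ?_, fun e he e' he' hne => ?_⟩
  · rcases he with rfl | he
    exacts [hφφ, hE.1 e he]
  · rcases he with rfl | he <;> rcases he' with rfl | he'
    exacts [absurd rfl hne, (mem_pS C.h₂).1 hφ e' he', by rw [C.h₂.symm]; exact (mem_pS C.h₂).1 hφ e he,
      hE.2 e he e' he' hne]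

/-- elements of the first factor commute with the reflections -/
theorem left_mem_Km {a : GL (Fin n₁) F} (ha : a ∈ isoGroup f₁) (E : Set (Fin n₂ → F)) :
    gl T a 1 ∈ Km T f₂ M E :=
  ⟨left_mem C ha, fun e _ => by show _ = _; rw [yy, gl_mul, gl_mul, one_mul, mul_one, one_mul, mul_one]⟩

theorem yy_comm {e e' : Fin n₂ → F} (he : f₂ e e ≠ 0) (he' : f₂ e' e' ≠ 0) (h : f₂ e e' = 0) :
    Commute (yy T f₂ e) (yy T f₂ e') := by
  refine gl_ext_pt T fun u w => ?_
  simp only [yy, gl_mul, act_gl_pt, one_mul]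
  congr 1
  rw [act_mul, act_mul]
  have h' : f₂ e' e = 0 := by rw [C.h₂.symm, h]
  conv_lhs => rw [Sy.act_yr C.h₂ he' w, map_sub, map_smul, Sy.yr_fix C.h₂ he h', Sy.act_yr C.h₂ he w]
  conv_rhs => rw [Sy.act_yr C.h₂ he w, map_sub, map_smul, Sy.yr_fix C.h₂ he' h, Sy.act_yr C.h₂ he' w]
  abel


omit C in
/-- products of two involutions -/
theorem dihedral_aux {G : Type*} [Group G] {s t : G} (hss : s * s = 1) (htt : t * t = 1) :
    (∀ i : ℕ, s * ((s * t) ^ i)⁻¹ = (s * t) ^ i * s) ∧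
      ∀ j, j + 1 = orderOf (s * t) → (s * t) ^ j * s = t := by
  have hdi : (s * t)⁻¹ = t * s := inv_eq_of_mul_eq_one_right (by
    rw [show s * t * (t * s) = s * (t * t) * s by group, htt, mul_one, hss])
  refine ⟨fun i => ?_, fun j hj => ?_⟩
  · have hconj : s * (s * t) * s⁻¹ = (s * t)⁻¹ := by
      rw [hdi, inv_eq_of_mul_eq_one_right hss, ← mul_assoc s s, hss, one_mul]
    have e : s * (s * t) ^ i * s⁻¹ = ((s * t) ^ i)⁻¹ := by rw [← conj_pow, hconj, inv_pow]
    rw [← e, inv_eq_of_mul_eq_one_right hss, ← mul_assoc, ← mul_assoc, hss, one_mul]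
  · have e : (s * t) ^ j = (s * t)⁻¹ := eq_inv_of_mul_eq_one_left (by rw [← pow_succ, hj, pow_orderOf_eq_one])
    rw [e, hdi, mul_assoc, hss, mul_one]

theorem yr_not_scalar [Finite F] {φ : Fin n₂ → F} (hφφ : f₂ φ φ ≠ 0) : ¬ ∀ w, act (Sy.yr f₂ φ) w ∈ F ∙ w := by
  intro h
  obtain ⟨r, hr⟩ := exists_scalar_of_eigen _ h
  obtain ⟨y, -, hy0, hyφ, -⟩ := Sy.exists_perp_two C.h₂ (a := φ) (b := φ) (finrank₂ C)
  have hφ0 : φ ≠ 0 := fun e0 => hφφ (by rw [e0, Sy.zero_left C.h₂])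
  have e1 := hr φ
  have e2 := hr y
  rw [Sy.yr_fix C.h₂ hφφ hyφ] at e2
  rw [Sy.yr_self C.h₂ hφφ] at e1
  have hr1 : r = 1 := by
    have : (r - 1) • y = 0 := by rw [sub_smul, one_smul, ← e2, sub_self]
    exact sub_eq_zero.1 ((smul_eq_zero.1 this).resolve_right hy0)
  rw [hr1, one_smul] at e1
  have : (2 : F) • φ = 0 := by linear_combination (norm := module) -e1
  exact hφ0 ((smul_eq_zero.1 this).resolve_left C.two)

/-- the involution with eigenvalue `-1` on a hyperbolic plane -/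
theorem exists_plane_invol {p m : Fin n₁ → F} (hpm : f₁ p m = 1) :
    ∃ a ∈ isoGroup f₁, ∀ x, act a x = x - (2 * f₁ x m) • p + (2 * f₁ x p) • m := by
  have hmp : f₁ m p = -1 := by rw [C.h₁.skew, hpm]
  let L : (Fin n₁ → F) →ₗ[F] (Fin n₁ → F) :=
    LinearMap.id - ((2 : F) • flin C.h₁.bilinear m).smulRight p + ((2 : F) • flin C.h₁.bilinear p).smulRight m
  have hL : ∀ x, L x = x - (2 * f₁ x m) • p + (2 * f₁ x p) • m := fun x => by simp [L, flin_apply]
  have hiso : ∀ x y, f₁ (L x) (L y) = f₁ x y := fun x y => by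
    simp only [hL, f_add_left C.h₁, f_add_right C.h₁, f_sub_left C.h₁, f_sub_right C.h₁, f_smul_left C.h₁,
      f_smul_right C.h₁, C.h₁.alternating, hpm, hmp, C.h₁.skew p y, C.h₁.skew m y]
    ring
  obtain ⟨a, ha⟩ := exists_gl_of_injective L fun x y hxy => flin_injective C.h₁ (LinearMap.ext fun z => by
    rw [flin_apply, flin_apply, ← hiso, hxy, hiso])
  exact ⟨a, mem_isoGroup.2 fun x y => by rw [ha, ha, hiso], fun x => by rw [ha, hL]⟩

/-- no element of order four inverted by a reflection maps a big `(-1)`-space into a small one -/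
theorem inject_false {φ : Fin n₂ → F} (hφφ : f₂ φ φ ≠ 0) {z D : GL ι F} (hzD : Commute z D) (hDD : D * D = z)
    (hzz : z * z = 1) (hsD : yy T f₂ φ * D = D⁻¹ * yy T f₂ φ) {a : GL (Fin n₁) F} {b : GL (Fin n₂) F}
    (hzab : z = gl T a b) (hbφ : act b φ = φ) {f' f'' : Fin n₂ → F} {v : Fin n₁ → F} (hf' : f₂ f' φ = 0)
    (hf'' : f₂ f'' φ = 0) (hf'0 : f' ≠ 0) (hind : f'' ∉ F ∙ f') (hv : v ≠ 0) (hbf' : act b f' = f')
    (hzv : act z (pt T v f'') = -pt T v f'') : False := by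
  obtain ⟨P, hP⟩ : ∃ P, P = LinearMap.ker (act a + LinearMap.id) := ⟨_, rfl⟩
  have hwit : ∀ x, act z x = -x → act (yy T f₂ φ) x = x →
      act z (act D x) = -act D x ∧ act (yy T f₂ φ) (act D x) = -act D x := by
    intro x hx hx'
    refine ⟨by rw [← act_mul, hzD.eq, act_mul, hx, map_neg], ?_⟩
    rw [← act_mul, hsD, act_mul, hx', inv_eq_of_mul_eq_one_right (show D * (D * z) = 1 by
      rw [← mul_assoc, hDD, hzz]), act_mul, hx, map_neg]
  let L₀ : (↥P × F) →ₗ[F] (ι → F) :=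
    (ptL T f' ∘ₗ P.subtype).coprod ((LinearMap.id (R := F) (M := F)).smulRight (pt T v f''))
  have hL₀ : ∀ y : ↥P × F, L₀ y = pt T (y.1 : Fin n₁ → F) f' + y.2 • pt T v f'' := fun y => rfl
  have hL₀z : ∀ y, act z (L₀ y) = -L₀ y ∧ act (yy T f₂ φ) (L₀ y) = L₀ y := by
    intro y
    have hu : act a (y.1 : Fin n₁ → F) = -(y.1 : Fin n₁ → F) := by
      have := y.1.2
      simp only [hP, LinearMap.mem_ker, LinearMap.add_apply, LinearMap.id_apply] at this
      exact eq_neg_of_add_eq_zero_left this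
    constructor
    · rw [hL₀, map_add, map_smul, hzv, hzab, act_gl_pt, hu, hbf', pt_neg_left, smul_neg, neg_add]
    · rw [hL₀, map_add, map_smul, yy_pt_fix C hφφ hf', yy_pt_fix C hφφ hf'']
  let L : (↥P × F) →ₗ[F] (Fin n₁ → F) :=
    cR T ((f₂ φ φ)⁻¹ • flin C.h₂.bilinear φ) ∘ₗ act D ∘ₗ L₀
  have hφ0 : φ ≠ 0 := fun e0 => hφφ (by rw [e0, Sy.zero_left C.h₂])
  have hLeq : ∀ y, act D (L₀ y) = pt T (L y) φ := by
    intro y
    have e := eq_pt_of_yy C hφφ (hwit _ (hL₀z y).1 (hL₀z y).2).2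
    have hsm : ∀ x, cR T ((f₂ φ φ)⁻¹ • flin C.h₂.bilinear φ) x =
        (f₂ φ φ)⁻¹ • cR T (flin C.h₂.bilinear φ) x := fun x => rfl
    simp only [L, LinearMap.comp_apply, hsm]; exact e
  have hLP : LinearMap.range L ≤ P := by
    rintro _ ⟨y, rfl⟩
    have e := (hwit _ (hL₀z y).1 (hL₀z y).2).1
    rw [hLeq, hzab, act_gl_pt, hbφ, ← pt_neg_left, ← sub_eq_zero, ← pt_sub_left, pt_eq_zero,
      or_iff_left hφ0, sub_neg_eq_add] at e
    exact hP.ge (LinearMap.mem_ker.2 e)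
  have hinj : Function.Injective L := (injective_iff_map_eq_zero L).2 fun y hy => by
    have e : L₀ y = 0 := act_injective D (by rw [hLeq, hy, pt_zero_left, map_zero])
    obtain ⟨ψ, hψ0, hψ⟩ := exists_dual _ hind
    have e1 := congrArg (cR T ψ) e
    rw [hL₀, map_add, map_smul, cR_pt, cR_pt, hψ, hψ0 _ (Submodule.mem_span_singleton_self _), zero_smul,
      zero_add, one_smul, map_zero, smul_eq_zero, or_iff_left hv] at e1
    rw [hL₀, e1, zero_smul, add_zero, pt_eq_zero, or_iff_left hf'0] at e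
    exact Prod.ext (Subtype.ext e) e1
  have h1 := LinearMap.finrank_range_of_inj hinj
  have h2 := Submodule.finrank_mono hLP
  rw [h1, Module.finrank_prod, Module.finrank_self] at h2
  omega

theorem sq_fix {φ e : Fin n₂ → F} (hφφ : f₂ φ φ ≠ 0) (hee : f₂ e e ≠ 0) (hφe : f₂ e φ = 0) {t : GL ι F}
    (htt : t * t = 1) (ht : Commute t (yy T f₂ e)) {x : ι → F} (hx : act (yy T f₂ e) x = -x) :
    act (yy T f₂ φ * t * (yy T f₂ φ * t)) x = x := by
  have hsx : ∀ y, act (yy T f₂ e) y = -y → act (yy T f₂ φ) y = y := fun y hy => by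
    rw [eq_pt_of_yy C hee hy, yy_pt_fix C hφφ hφe]
  have htx : ∀ y, act (yy T f₂ e) y = -y → act (yy T f₂ e) (act t y) = -act t y := fun y hy => by
    rw [← act_mul, ← ht.eq, act_mul, hy, map_neg]
  rw [act_mul, act_mul, act_mul, hsx _ (htx x hx), hsx _ (htx _ (htx x hx)), ← act_mul, htt, act_one]

theorem exists_minus [Finite F] {E : Set (Fin n₂ → F)} (hE : Fr f₂ E) {b : GL (Fin n₂) F} (hb : b ∈ isoGroup f₂)
    (hbb' : ∀ w, act b (act b w) = w) (hbW : ∀ y ∈ pS C.h₂ E, act b y ∈ pS C.h₂ E) {y : Fin n₂ → F}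
    (hy : y ∈ pS C.h₂ E) (hby : act b y ≠ y) : ∃ ψ ∈ pS C.h₂ E, act b ψ = -ψ ∧ f₂ ψ ψ ≠ 0 := by
  by_contra hno
  push Not at hno
  have hx : y - act b y ∈ pS C.h₂ E := (pS C.h₂ E).sub_mem hy (hbW y hy)
  have hbx : act b (y - act b y) = -(y - act b y) := by rw [map_sub, hbb', neg_sub]
  refine hby (sub_eq_zero.1 (Sy.eq_zero C.h₂ fun w => ?_)).symm
  refine LinearMap.mem_ker.1 (decomp C hE (LinearMap.ker (flin C.h₂.bilinear (y - act b y)))
    (fun e he => ?_) (fun r hr => ?_) w)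
  · rw [SetLike.mem_coe, LinearMap.mem_ker, flin_apply, C.h₂.symm]; exact (mem_pS C.h₂).1 hx e he
  · rw [LinearMap.mem_ker, flin_apply]
    obtain ⟨x, hxdef⟩ : ∃ x, x = y - act b y := ⟨_, rfl⟩
    rw [← hxdef] at hx hbx ⊢
    have hxx := hno x hx hbx
    have hrm : r - act b r ∈ pS C.h₂ E := (pS C.h₂ E).sub_mem hr (hbW r hr)
    have hbr : act b (r - act b r) = -(r - act b r) := by rw [map_sub, hbb', neg_sub]
    have e1 := hno _ ((pS C.h₂ E).add_mem hrm hx) (by rw [map_add, hbr, hbx, neg_add])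
    rw [Sy.self_add C.h₂, hno _ hrm hbr, hxx, zero_add, zero_add, mul_eq_zero, or_iff_right C.two,
      Sy.sub_left C.h₂, sub_eq_zero] at e1
    have e2 := mem_isoGroup.1 hb (act b r) x
    rw [hbb', hbx, Sy.neg_right C.h₂] at e2
    have e3 : (2 : F) * f₂ r x = 0 := by linear_combination e1 - e2
    exact (mul_eq_zero.1 e3).resolve_left C.two

/-- centralisers of involutions `1 ⊗ b` inside `Km` -/
theorem good_right [Finite F] (hM : ¬ isoGroup f ≤ M) (h4 : 4 ≤ n₁) {E : Set (Fin n₂ → F)}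
    {φ ψ : Fin n₂ → F} (hφφ : f₂ φ φ ≠ 0) (hψψ : f₂ ψ ψ ≠ 0) {s : GL ι F} (hsdef : s = yy T f₂ φ)
    (hs : s ∈ Km T f₂ M E)
    (hIHφ : ∀ g ∈ Km T f₂ M E, Commute g s → g ∈ Cfsg.Geo.tensorProductSubgroup n₁ n₂ T.e T.P)
    (hIHψ : ∀ g ∈ Km T f₂ M E, Commute g (yy T f₂ ψ) → g ∈ Cfsg.Geo.tensorProductSubgroup n₁ n₂ T.e T.P)
    {b : GL (Fin n₂) F} (hb : b ∈ isoGroup f₂) (hbφ : act b φ = φ) (hbψ : act b ψ = -ψ)
    {g : GL ι F} (hg : g ∈ Km T f₂ M E) (hgg : g * g = 1) (hcb : Commute g (gl T 1 b))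
    {q : Fin n₁ → F} (hq0 : q ≠ 0) : g ∈ Cfsg.Geo.tensorProductSubgroup n₁ n₂ T.e T.P := by
  have hti : g⁻¹ = g := inv_eq_of_mul_eq_one_right hgg
  obtain ⟨R, hR⟩ : ∃ R, R = g * s * g⁻¹ := ⟨_, rfl⟩
  have hRK : R ∈ Km T f₂ M E := hR ▸ mul_mem (mul_mem hg hs) (inv_mem hg)
  have hψφ : f₂ ψ φ = 0 := by
    have := mem_isoGroup.1 hb ψ φ
    rw [hbψ, hbφ, Sy.neg_left C.h₂] at this
    have h2 : (2 : F) * f₂ ψ φ = 0 := by linear_combination -this
    exact (mul_eq_zero.1 h2).resolve_left C.two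
  have hgB : ∀ x, act (gl T 1 b) (act g x) = act g (act (gl T 1 b) x) := fun x => by
    rw [← act_mul, ← hcb.eq, act_mul]
  have hbfix : ∀ {e : Fin n₂ → F} {σ : F}, σ * σ = 1 → act b e = σ • e → f₂ e e ≠ 0 → ∀ y,
      act (gl T 1 b) y = -(σ • y) → act (yy T f₂ e) y = y := by
    intro e σ hσ hbe hee y hy
    have e1 : cR T (flin C.h₂.bilinear e) (act (gl T 1 b) y) = σ • cR T (flin C.h₂.bilinear e) y :=
      LinearMap.congr_fun (pt_ext T (L := cR T (flin C.h₂.bilinear e) ∘ₗ act (gl T 1 b))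
        (L' := σ • cR T (flin C.h₂.bilinear e)) fun u w => by
          simp only [LinearMap.comp_apply, LinearMap.smul_apply, act_gl_pt, act_one, cR_pt, flin_apply]
          have hse : act b (σ • e) = e := by rw [map_smul, hbe, smul_smul, hσ, one_smul]
          conv_lhs => rw [← hse, mem_isoGroup.1 hb, Sy.smul_right C.h₂]
          rw [mul_smul]) y
    rw [hy, map_neg, map_smul] at e1
    have h2 : ((2 : F) * σ) • cR T (flin C.h₂.bilinear e) y = 0 := by
      linear_combination (norm := module) -e1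
    rw [act_yy C hee, (smul_eq_zero.1 h2).resolve_left (mul_ne_zero C.two fun e0 => by
      rw [e0, mul_zero] at hσ; exact zero_ne_one hσ), smul_zero, pt_zero_left, sub_zero]
  have hbmove : ∀ {e : Fin n₂ → F} {σ : F}, act b e = σ • e → f₂ e e ≠ 0 → ∀ y,
      act (gl T 1 b) (act (yy T f₂ e) y - y) = σ • (act (yy T f₂ e) y - y) := by
    intro e σ hbe hee y
    rw [act_yy C hee, sub_sub_cancel_left, map_neg, act_gl_pt, act_one, hbe, pt_smul_right, smul_neg]
  have hcom : Commute R (yy T f₂ ψ) := by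
    refine comm_of_eig (gl T 1 b) _ _ (fun y hy => ?_) (fun y => ?_) (fun y hy => ?_) (fun y => ?_)
    · rw [hR, hti, act_mul, act_mul, hsdef, hbfix (e := φ) (σ := 1) (one_mul 1) (by rw [hbφ, one_smul]) hφφ _ (by
        rw [hgB, hy, one_smul, map_neg]), ← act_mul, hgg, act_one]
    · have e := hbmove (e := φ) (σ := 1) (by rw [hbφ, one_smul]) hφφ (act g y)
      rw [one_smul] at e
      rw [hR, hti, act_mul, act_mul]
      have h : act g (act s (act g y)) - y = act g (act s (act g y) - act g y) := by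
        rw [map_sub, ← act_mul g g, hgg, act_one]
      rw [h, hgB, hsdef, e]
    · exact hbfix (e := ψ) (σ := -1) (by ring) (by rw [hbψ, neg_one_smul]) hψψ y
        (by rw [hy, neg_one_smul, neg_neg])
    · rw [hbmove (e := ψ) (σ := -1) (by rw [hbψ, neg_one_smul]) hψψ, neg_one_smul]
  obtain ⟨α, β, hαβ⟩ := exists_of_mem T (hIHψ R hRK hcom)
  -- `R` fixes `U ⊗ ψ`
  have hα : ∀ u, act α u ∈ F ∙ u := by
    intro u
    rcases eq_or_ne u 0 with rfl | hu
    · rw [map_zero]; exact Submodule.zero_mem _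
    have e : act R (pt T u ψ) = pt T u ψ := by
      rw [hR, hti, act_mul, act_mul, hsdef, hbfix (e := φ) (σ := 1) (one_mul 1) (by rw [hbφ, one_smul]) hφφ _ (by
        rw [hgB, act_gl_pt, act_one, hbψ, pt_neg_right, map_neg, one_smul]), ← act_mul, hgg, act_one]
    rw [hαβ, act_gl_pt] at e
    exact mem_span_of_pt_eq' T e fun e0 => hψψ (by
      rw [show ψ = 0 from act_injective β (by rw [e0, map_zero]), Sy.zero_left C.h₂])
  obtain ⟨r, hr⟩ := exists_scalar_of_eigen _ hα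
  have hrt : Commute R (rt T C.h₁ q 1) := by
    rw [hαβ, rt]
    refine gl_ext_pt T fun u w => ?_
    simp only [act_mul, act_gl_pt, act_one, hr, map_smul]
  have hcs : Commute (g⁻¹ * rt T C.h₁ q 1 * g⁻¹⁻¹) s := by
    have := hrt.symm.conj g⁻¹
    rwa [hR, show g⁻¹ * (g * s * g⁻¹) * g⁻¹⁻¹ = s by group] at this
  have hRq : g⁻¹ * rt T C.h₁ q 1 * g⁻¹⁻¹ ∈ Km T f₂ M E :=
    mul_mem (mul_mem (inv_mem hg) (left_mem_Km C (stv_mem C.h₁ q 1) E)) (inv_mem (inv_mem hg))
  exact hti ▸ rt_rigid C hM h4 (M.inv_mem hg.1) hq0 one_ne_zero (hIHφ _ hRq hcs)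

variable [Finite F]

/-- the induction -/
theorem Km_le (hM : ¬ isoGroup f ≤ M) (h4 : 4 ≤ n₁) :
    ∀ (k : ℕ) (E : Set (Fin n₂ → F)), Fr f₂ E → finrank F (pS C.h₂ E) ≤ k →
      ∀ g ∈ Km T f₂ M E, g ∈ Cfsg.Geo.tensorProductSubgroup n₁ n₂ T.e T.P := by
  classical
  intro k
  induction k using Nat.strong_induction_on with
  | _ k ih =>
  intro E hE hk
  by_cases hsmall : finrank F (pS C.h₂ E) < n₁
  · -- few dimensions are left
    intro g hg
    obtain ⟨B, hB⟩ := pure_submodule C hM h4 hg.1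
    refine gl_of_pure C hM h4 hg.1 fun u w => (hB w).1 (decomp C hE B (fun e he => (hB e).2 ?_)
      (fun w hw => (hB w).2 ?_) w) u
    · intro u
      have h := hg.2 e he
      exact ⟨_, _, eq_pt_of_yy C (hE.1 e he) (by
        rw [← act_mul, ← h.eq, act_mul, yy_pt_self C (hE.1 e he), map_neg])⟩
    · intro u
      refine pure_image C hM h4 hg.1 u w ?_
      set x := act g (pt T u w)
      let L : (Fin n₁ → F) →ₗ[F] (Fin n₂ → F) :=
        LinearMap.pi fun j => toBil C.h₁.bilinear fun i => crd T x (i, j)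
      have hLp : ∀ t, L t = pj T C.h₁ t x := fun t => rfl
      have hr : LinearMap.range L ≤ pS C.h₂ E := by
        rintro _ ⟨t, rfl⟩
        rw [mem_pS]
        intro e he
        have h := hg.2 e he
        have h0 : cR T (flin C.h₂.bilinear e) x = 0 := cR_of_yy C (hE.1 e he) (by
          rw [← act_mul, ← h.eq, act_mul, yy_pt_fix C (hE.1 e he) ((mem_pS C.h₂).1 hw e he)])
        rw [hLp, ← flin_apply C.h₂.bilinear e]
        show flin C.h₂.bilinear e (cL T (flin C.h₁.bilinear t) x) = 0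
        rw [cL_cR_comm, h0, map_zero]
      have h2 := LinearMap.finrank_range_add_finrank_ker L
      rw [Module.finrank_fin_fun] at h2
      have h3 := Submodule.finrank_mono hr
      obtain ⟨t, ht, ht0⟩ := Submodule.exists_mem_ne_zero_of_ne_bot (p := LinearMap.ker L) (fun e => by
        rw [e, finrank_bot] at h2; omega)
      exact ⟨t, ht0, (hLp t).symm.trans ht⟩
  push Not at hsmall
  -- extensions of the family
  have hIH : ∀ φ ∈ pS C.h₂ E, f₂ φ φ ≠ 0 → ∀ g ∈ Km T f₂ M E, Commute g (yy T f₂ φ) →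
      g ∈ Cfsg.Geo.tensorProductSubgroup n₁ n₂ T.e T.P := by
    intro φ hφ hφφ g hg hc
    have hle : pS C.h₂ (insert φ E) < pS C.h₂ E := by
      refine lt_of_le_of_ne (fun x hx => (mem_pS C.h₂).2 fun e he => (mem_pS C.h₂).1 hx e (Or.inr he))
        fun e => ?_
      rw [← e] at hφ
      exact hφφ ((mem_pS C.h₂).1 hφ φ (Or.inl rfl))
    have h := Submodule.finrank_lt_finrank_of_lt hle
    refine ih _ (lt_of_lt_of_le h hk) _ (fr_insert C hE hφ hφφ) le_rfl g ⟨hg.1, fun e he => ?_⟩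
    rcases he with rfl | he
    exacts [hc, hg.2 e he]
  obtain ⟨x₀, hx₀, hx₀0⟩ := Submodule.exists_mem_ne_zero_of_ne_bot (p := pS C.h₂ E) (fun e => by
    rw [e, finrank_bot] at hsmall; omega)
  obtain ⟨φ, hφ, hφφ⟩ := exists_aniso_pS C hE hx₀ hx₀0
  have hφ0 : φ ≠ 0 := fun e0 => hφφ (by rw [e0, Sy.zero_left C.h₂])
  obtain ⟨s, hsdef⟩ : ∃ s, s = yy T f₂ φ := ⟨_, rfl⟩
  have hs : s ∈ Km T f₂ M E := hsdef ▸ ⟨yy_mem C hφφ, fun e he => yy_comm C hφφ (hE.1 e he) ((mem_pS C.h₂).1 hφ e he)⟩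
  -- an involution of the first factor with a plane of eigenvalue `-1`
  obtain ⟨p, hp0⟩ := exists_vec₁ C
  obtain ⟨m, hpm⟩ := SP.exists_one C.h₁ hp0
  have hmp : f₁ m p = -1 := by rw [C.h₁.skew, hpm]
  obtain ⟨a₀, ha₀, ha₀x⟩ := exists_plane_invol C hpm
  have ha₀p : act a₀ p = -p := by rw [ha₀x, hpm, C.h₁.alternating]; module
  have ha₀f : ∀ x, f₁ p x = 0 → f₁ m x = 0 → act a₀ x = x := fun x h1 h2 => by
    rw [ha₀x, f_eq_zero_symm C.h₁ h1, f_eq_zero_symm C.h₁ h2]; module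
  obtain ⟨q, hq, hq0⟩ := SP.exists_perp_notMem C.h₁ ![p, m] (![] : Fin 0 → _) (by simp; omega)
  replace hq0 : q ≠ 0 := by simpa using hq0
  have hpq : f₁ p q = 0 := hq 0
  have ha₀q : act a₀ q = q := ha₀f q hpq (hq 1)
  have ha₀a₀ : a₀ * a₀ = 1 := gl_ext fun x => by
    rw [act_mul, act_one, ha₀x x, map_add, map_sub, map_smul, map_smul, ha₀p, ha₀x m, ha₀x x, C.h₁.alternating, hmp]
    module
  obtain ⟨t, htdef⟩ : ∃ t, t = gl T a₀ 1 := ⟨_, rfl⟩
  have htK : t ∈ Km T f₂ M E := htdef ▸ left_mem_Km C ha₀ E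
  have htt : t * t = 1 := by rw [htdef, gl_mul, ha₀a₀, one_mul, gl_one]
  -- conjugates of `a₀ ⊗ 1`
  have main : ∀ g ∈ Km T f₂ M E, g * t * g⁻¹ ∈ Cfsg.Geo.tensorProductSubgroup n₁ n₂ T.e T.P := by
    intro g hg
    obtain ⟨t', ht'def⟩ : ∃ t', t' = g * t * g⁻¹ := ⟨_, rfl⟩
    rw [← ht'def]
    have ht' : t' ∈ Km T f₂ M E := ht'def ▸ mul_mem (mul_mem hg htK) (inv_mem hg)
    have hss : s * s = 1 := hsdef ▸ yy_sq C hφφ
    have ht't' : t' * t' = 1 := by
      rw [ht'def, show g * t * g⁻¹ * (g * t * g⁻¹) = g * (t * t) * g⁻¹ by group, htt, mul_one, mul_inv_cancel]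
    obtain ⟨d, hd⟩ : ∃ d, d = s * t' := ⟨_, rfl⟩
    have hdK : d ∈ Km T f₂ M E := hd ▸ mul_mem hs ht'
    have hN : 0 < orderOf d := orderOf_pos d
    obtain ⟨hsd, ht'eq⟩ := dihedral_aux hss ht't'
    rw [← hd] at hsd ht'eq
    have hys := yr_not_scalar C hφφ
    have htrans : ∀ (a : GL (Fin n₁) F) (b : GL (Fin n₂) F), a ∈ isoGroup f₁ → a * a = 1 → ∀ h ∈ M,
        h * gl T a b * h⁻¹ = t' → ∀ w, act b w ∈ F ∙ w := by
      intro a b ha haa h hh e
      obtain ⟨v, hv, σ, hσ, hav⟩ : ∃ v, v ≠ 0 ∧ ∃ σ : F, σ * σ = 1 ∧ act a v = σ • v := by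
        rcases invol_cases haa with h1 | h1 | ⟨⟨v, hv, hav⟩, -⟩
        · exact ⟨p, hp0, 1, one_mul 1, by rw [h1, one_smul]⟩
        · exact ⟨p, hp0, -1, by ring, by rw [h1, neg_one_smul]⟩
        · exact ⟨v, hv, 1, one_mul 1, by rw [hav, one_smul]⟩
      refine transfer C hM h4 ha₀ hq0 ha₀q hp0 ha₀p ha hv hσ hav (k := g⁻¹ * h)
        (M.mul_mem (M.inv_mem hg.1) hh) ?_
      rw [show g⁻¹ * h * gl T a b * (g⁻¹ * h)⁻¹ = g⁻¹ * (h * gl T a b * h⁻¹) * g by group, e, ht'def, ← htdef]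
      group
    rcases Nat.even_or_odd (orderOf d) with ⟨l, hl⟩ | ⟨l, hl⟩
    swap
    · exfalso
      refine hys (htrans 1 (Sy.yr f₂ φ) (one_mem _) (one_mul 1) (d ^ l) (pow_mem hdK.1 l) ?_)
      rw [show gl T 1 (Sy.yr f₂ φ) = s from hsdef.symm]
      rw [mul_assoc, hsd, ← mul_assoc, ← pow_add, ht'eq _ (by omega)]
    -- the central involution
    obtain ⟨z, hz⟩ : ∃ z, z = d ^ l := ⟨_, rfl⟩
    have hzz : z * z = 1 := by rw [hz, ← pow_add, ← hl, pow_orderOf_eq_one]
    have hz1 : z ≠ 1 := by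
      intro e
      have := Nat.le_of_dvd (show 0 < l by omega) (orderOf_dvd_of_pow_eq_one (hz ▸ e))
      omega
    have hzi : z⁻¹ = z := inv_eq_of_mul_eq_one_right hzz
    have hzs : Commute z s := by
      have := hsd l
      rw [← hz, hzi] at this
      exact this.symm
    have hzt' : Commute t' z := by
      rw [show t' = s * d by rw [hd, ← mul_assoc, hss, one_mul]]
      exact hzs.symm.mul_left (hz ▸ (Commute.refl d).pow_right l)
    have hzK : z ∈ Km T f₂ M E := hz ▸ pow_mem hdK l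
    obtain ⟨a, b, hzab, ha, hb, haa, hbb, hbφ⟩ :=
      normal_form C hφφ hzK.1 (hIH φ hφ hφφ z hzK (hsdef ▸ hzs)) hzz (hsdef ▸ hzs)
    have hbE : ∀ e ∈ E, act b e = e ∨ act b e = -e := by
      intro e he
      obtain ⟨r, hr0, hr⟩ := eig_of_comm C (hE.1 e he) (hzab ▸ hzK.2 e he)
      have h2 : r * r = 1 := by
        have := mem_isoGroup.1 hb e e
        rw [hr, Sy.self_smul C.h₂] at this
        exact (mul_eq_right₀ (hE.1 e he)).1 this
      rcases mul_self_eq_one_iff.1 h2 with rfl | rfl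
      · exact Or.inl (by rw [hr, one_smul])
      · exact Or.inr (by rw [hr, neg_one_smul])
    have hzs' : z * s = gl T a (b * Sy.yr f₂ φ) := by rw [hzab, hsdef, yy, gl_mul, mul_one]
    -- odd half
    have hodd : Odd l → ∀ w, act b w = -act (Sy.yr f₂ φ) w := by
      rintro ⟨i, hi⟩
      have e : d ^ i * gl T a (b * Sy.yr f₂ φ) * (d ^ i)⁻¹ = t' := by
        rw [← hzs', hz, mul_assoc, mul_assoc (d ^ l), hsd, ← mul_assoc, ← mul_assoc, ← pow_add, ← pow_add,
          ht'eq _ (by omega)]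
      obtain ⟨r, hr⟩ := exists_scalar_of_eigen _ (htrans a _ ha haa _ (pow_mem hdK.1 i) e)
      have e1 := hr φ
      rw [act_mul, Sy.yr_self C.h₂ hφφ, map_neg, hbφ] at e1
      have hr1 : r = -1 := by
        have : (r + 1) • φ = 0 := by rw [add_smul, one_smul, ← e1, neg_add_cancel]
        exact eq_neg_of_add_eq_zero_left ((smul_eq_zero.1 this).resolve_right hφ0)
      intro w
      have e2 := hr (act (Sy.yr f₂ φ) w)
      rw [← act_mul, mul_assoc, Sy.yr_sq C.h₂ hφφ, mul_one, hr1, neg_one_smul] at e2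
      exact e2
    -- even half
    have heven : Even l → (∀ e ∈ E, ∀ u, act z (pt T u e) = pt T u e) ∧
        ∀ (f' f'' : Fin n₂ → F) (v : Fin n₁ → F), f₂ f' φ = 0 → f₂ f'' φ = 0 → f' ≠ 0 → f'' ∉ F ∙ f' →
          v ≠ 0 → act b f' = f' → act z (pt T v f'') = -pt T v f'' → False := by
      rintro ⟨i, hi⟩
      refine ⟨fun e he u => ?_, fun f' f'' v hf' hf'' hf'0 hind hv hbf' hzv => ?_⟩
      · -- `d` squared is trivial on `U ⊗ e`
        have hee := hE.1 e he
        have hd2 : ∀ x, act (yy T f₂ e) x = -x → act (d * d) x = x := fun x hx => by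
          rw [hd, hsdef]
          exact sq_fix C hφφ hee (by rw [C.h₂.symm]; exact (mem_pS C.h₂).1 hφ e he) ht't' (ht'.2 e he) hx
        rw [hz, hi, ← two_mul, pow_mul, sq]
        have hfix : ∀ j, act ((d * d) ^ j) (pt T u e) = pt T u e := by
          intro j
          induction j with
          | zero => rw [pow_zero, act_one]
          | succ j ihj => rw [pow_succ', act_mul, ihj, hd2 _ (yy_pt_self C hee u)]
        exact hfix i
      · have hD : d ^ i * d ^ i = z := by rw [hz, hi, pow_add]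
        refine inject_false C hφφ (z := z) (D := d ^ i) (hz ▸ (Commute.refl d).pow_pow l i) hD hzz ?_ hzab hbφ hf' hf'' hf'0 hind hv
          hbf' hzv
        rw [← hsdef, eq_inv_mul_iff_mul_eq, ← mul_assoc, ← hsd i, mul_assoc s, inv_mul_cancel, mul_one]
    have hpar : Even l ∨ Odd l := Nat.even_or_odd l
    have hscalar : ((∀ u, act a u = u) ∨ ∀ u, act a u = -u) →
        t' ∈ Cfsg.Geo.tensorProductSubgroup n₁ n₂ T.e T.P := by
      intro hac
      obtain ⟨σ, hσ, haσ⟩ : ∃ σ : F, σ ≠ 0 ∧ ∀ u, act a u = σ • u := by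
        rcases hac with h | h
        · exact ⟨1, one_ne_zero, fun u => by rw [h, one_smul]⟩
        · exact ⟨-1, neg_ne_zero.2 one_ne_zero, fun u => by rw [h, neg_one_smul]⟩
      -- `b` preserves the orthogonal space of `E`
      have hbW : ∀ y ∈ pS C.h₂ E, act b y ∈ pS C.h₂ E := fun y hy => (mem_pS C.h₂).2 fun e he => by
        have e1 := mem_isoGroup.1 hb y e
        have e0 := (mem_pS C.h₂).1 hy e he
        rcases hbE e he with h | h <;> rw [h] at e1
        · rw [e1, e0]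
        · rw [Sy.neg_right C.h₂, e0, neg_eq_zero] at e1; exact e1
      by_cases hW : ∃ y ∈ pS C.h₂ E, act b y ≠ y
      · obtain ⟨y, hy, hby⟩ := hW
        have hbb' : ∀ w, act b (act b w) = w := fun w => by rw [← act_mul, hbb, act_one]
        obtain ⟨ψ, hψ, hbψ, hψψ⟩ := exists_minus C hE hb hbb' hbW hy hby
        -- the centraliser of `1 ⊗ b`
        have hcb : Commute t' (gl T 1 b) := by
          refine gl_ext_pt T fun u w => ?_
          have e := congrArg (fun g => act g (pt T u w)) hzt'.eq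
          simp only [hzab, act_mul, act_gl_pt, haσ, pt_smul_left, map_smul] at e ⊢
          rw [act_one]
          have hzσ : act (gl T a b) (act t' (pt T u w)) = σ • act (gl T 1 b) (act t' (pt T u w)) :=
            LinearMap.congr_fun (pt_ext T (L := act (gl T a b)) (L' := σ • act (gl T 1 b)) fun u w => by
              rw [LinearMap.smul_apply, act_gl_pt, act_gl_pt, haσ, act_one, pt_smul_left]) _
          rw [hzσ] at e
          exact smul_right_injective (ι → F) hσ e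
        exact good_right C hM h4 hφφ hψψ hsdef hs (fun g hg hc => hIH φ hφ hφφ g hg (hsdef ▸ hc)) (hIH ψ hψ hψψ) hb hbφ hbψ ht' ht't' hcb hq0
      -- `b` fixes the orthogonal space of `E`
      push Not at hW
      exfalso
      have hWφ : ∀ k ≤ 2, ∃ S : Submodule F (Fin n₂ → F), S ≤ pS C.h₂ E ∧ (∀ w ∈ S, f₂ w φ = 0) ∧
          k ≤ finrank F S := by
        intro k hk2
        refine ⟨pS C.h₂ E ⊓ LinearMap.ker (flin C.h₂.bilinear φ), inf_le_left, fun w hw => hw.2, ?_⟩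
        have := Sy.finrank_ker_inf C.h₂ (pS C.h₂ E) ![φ]
        rw [iInf_unique] at this
        change finrank F (pS C.h₂ E) ≤ finrank F (pS C.h₂ E ⊓ LinearMap.ker (flin C.h₂.bilinear φ) :
          Submodule F (Fin n₂ → F)) + 1 at this
        omega
      obtain ⟨S, hSle, hSφ, hS2⟩ := hWφ 2 le_rfl
      obtain ⟨f', hf'S, hf'0⟩ := Submodule.exists_mem_ne_zero_of_ne_bot (p := S) (fun e => by
        rw [e, finrank_bot] at hS2; omega)
      rcases hpar with hl' | hl'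
      swap
      · have e := hodd hl' f'
        rw [hW f' (hSle hf'S), Sy.yr_fix C.h₂ hφφ (hSφ f' hf'S)] at e
        have h2 : (2 : F) • f' = 0 := by linear_combination (norm := module) e
        exact hf'0 ((smul_eq_zero.1 h2).resolve_left C.two)
      obtain ⟨h1, h2⟩ := heven hl'
      rcases hac with h | h
      · -- `z` is trivial
        refine hz1 ?_
        rw [hzab]
        have hb1 : ∀ w, act b w = w := fun w => by
          refine decomp C hE (LinearMap.ker (act b - LinearMap.id)) (fun e he => ?_) (fun y hy => ?_) w |>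
            fun h => sub_eq_zero.1 (LinearMap.mem_ker.1 h)
          · have e1 := h1 e he p
            rw [hzab, act_gl_pt, h, ← sub_eq_zero, ← pt_sub_right, pt_eq_zero, or_iff_right hp0] at e1
            exact LinearMap.mem_ker.2 e1
          · exact LinearMap.mem_ker.2 (sub_eq_zero.2 (hW y hy))
        exact gl_ext_pt T fun u w => by rw [act_gl_pt, h, hb1, act_one]
      · obtain ⟨f'', hf''S, hind⟩ := SetLike.not_le_iff_exists.1 (show ¬ S ≤ F ∙ f' from fun hle => by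
          have := Submodule.finrank_mono hle
          rw [finrank_span_singleton hf'0] at this
          omega)
        refine h2 f' f'' p (hSφ _ hf'S) (hSφ _ hf''S) hf'0 hind hp0 (hW _ (hSle hf'S)) ?_
        rw [hzab, act_gl_pt, h, hW _ (hSle hf''S), pt_neg_left]
    rcases invol_cases haa with h | h | ⟨⟨v, hv, hav⟩, v', hv', hav'⟩
    · exact hscalar (Or.inl h)
    · exact hscalar (Or.inr h)
    by_cases hb1 : ∀ w, act b w = w
    · have : b = 1 := gl_ext fun w => by rw [hb1, act_one]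
      exact good_left C hM h4 ha hv hav hv' hav' ht'.1 (this ▸ hzab ▸ hzt')
    have hblock : (∀ w, act b w = -act (Sy.yr f₂ φ) w) → t' ∈ Cfsg.Geo.tensorProductSubgroup n₁ n₂ T.e T.P :=
      fun h => good_block C hM h4 ha haa hv hav hv' hav' hφφ h ht'.1 (hzab ▸ hzt')
    rcases hpar with hl' | hl'
    swap
    · exact hblock (hodd hl')
    obtain ⟨-, h2⟩ := heven hl'
    have hbb' : ∀ w, act b (act b w) = w := fun w => by rw [← act_mul, hbb, act_one]
    by_cases hy : ∀ y, f₂ y φ = 0 → act b y = -y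
    · refine hblock fun w => ?_
      have e : w = (w - (f₂ w φ / f₂ φ φ) • φ) + (f₂ w φ / f₂ φ φ) • φ := by rw [sub_add_cancel]
      have hperp : f₂ (w - (f₂ w φ / f₂ φ φ) • φ) φ = 0 := by
        rw [Sy.sub_left C.h₂, Sy.smul_left C.h₂, div_mul_cancel₀ _ hφφ, sub_self]
      conv_lhs => rw [e, map_add, map_smul, hy _ hperp, hbφ]
      conv_rhs => rw [e, map_add, map_smul, Sy.yr_fix C.h₂ hφφ hperp, Sy.yr_self C.h₂ hφφ]
      module
    exfalso
    push Not at hy hb1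
    obtain ⟨y, hyφ, hby⟩ := hy
    obtain ⟨w, hw⟩ := hb1
    have hbperp : ∀ y, f₂ y φ = 0 → f₂ (act b y) φ = 0 := fun y hy => by
      have := mem_isoGroup.1 hb y φ
      rwa [hbφ, hy] at this
    have hw' : act b (w - act b w) = -(w - act b w) := by rw [map_sub, hbb', neg_sub]
    refine h2 (y + act b y) (w - act b w) v (by rw [Sy.add_left C.h₂, hyφ, hbperp y hyφ, add_zero]) ?_
      (fun e => hby (eq_neg_of_add_eq_zero_right e)) (fun hmem => ?_) hv (by rw [map_add, hbb', add_comm])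
      (by rw [hzab, act_gl_pt, hav, hw', pt_neg_right])
    · have := mem_isoGroup.1 hb w φ
      rw [hbφ] at this
      rw [Sy.sub_left C.h₂, this, sub_self]
    · obtain ⟨r, hr⟩ := Submodule.mem_span_singleton.1 hmem
      have e := congrArg (act b) hr
      rw [map_smul, map_add, hbb', hw', ← add_comm y, hr] at e
      have h0 : (2 : F) • (w - act b w) = 0 := by linear_combination (norm := module) e
      exact hw (sub_eq_zero.1 ((smul_eq_zero.1 h0).resolve_left C.two)).symm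
  -- all of `Km`
  intro g hg
  let Φ : GL (Fin n₁) F → Prop := fun α => α ∈ isoGroup f₁ ∧
    ∀ g ∈ Km T f₂ M E, g * gl T α 1 * g⁻¹ ∈ Cfsg.Geo.tensorProductSubgroup n₁ n₂ T.e T.P
  have hmul : ∀ {α β}, Φ α → Φ β → Φ (α * β) := fun {α β} ha hb => ⟨mul_mem ha.1 hb.1, fun g hg => by
    have := Subgroup.mul_mem _ (ha.2 g hg) (hb.2 g hg)
    rwa [show g * gl T α 1 * g⁻¹ * (g * gl T β 1 * g⁻¹) = g * (gl T α 1 * gl T β 1) * g⁻¹ by group, gl_mul,
      one_mul] at this⟩
  have hinv : ∀ {α}, Φ α → Φ α⁻¹ := fun {α} ha => ⟨inv_mem ha.1, fun g hg => by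
    have := Subgroup.inv_mem _ (ha.2 g hg)
    rwa [show (g * gl T α 1 * g⁻¹)⁻¹ = g * (gl T α 1)⁻¹ * g⁻¹ by group, gl_inv, inv_one] at this⟩
  have hcj : ∀ {α β}, Φ α → β ∈ isoGroup f₁ → Φ (β * α * β⁻¹) := fun {α β} ha hb =>
    ⟨mul_mem (mul_mem hb ha.1) (inv_mem hb), fun g hg => by
      have := ha.2 (g * gl T β 1) (mul_mem hg (left_mem_Km C hb E))
      rwa [show g * gl T β 1 * gl T α 1 * (g * gl T β 1)⁻¹ = g * (gl T β 1 * gl T α 1 * (gl T β 1)⁻¹) * g⁻¹ by
        group, gl_inv, gl_mul, gl_mul, inv_one, one_mul, one_mul] at this⟩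
  have hroot : Φ (root C.h₁ p q) := by
    have h0 : Φ a₀ := ⟨ha₀, fun g hg => htdef ▸ main g hg⟩
    have h1 := hmul h0 (hcj h0 (stv_mem C.h₁ (p + q) (-(2 : F)⁻¹)))
    suffices e : a₀ * (stv C.h₁ (p + q) (-(2 : F)⁻¹) * a₀ * (stv C.h₁ (p + q) (-(2 : F)⁻¹))⁻¹) =
        root C.h₁ p q by rwa [e] at h1
    have hi : (stv C.h₁ (p + q) (-(2 : F)⁻¹))⁻¹ = stv C.h₁ (p + q) (2 : F)⁻¹ :=
      inv_eq_of_mul_eq_one_right (by rw [stv_add C.h₁, neg_add_cancel, stv_zero C.h₁])
    have hc := conj_stv C.h₁ ha₀ (p + q) (-(2 : F)⁻¹)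
    rw [map_add, ha₀p, ha₀q, inv_eq_of_mul_eq_one_right ha₀a₀] at hc
    rw [← mul_assoc, ← mul_assoc, hc, hi]
    refine gl_ext fun x => ?_
    rw [act_mul, act_stv C.h₁, act_stv C.h₁, act_root C.h₁ hpq]
    simp only [f_add_left C.h₁, f_add_right C.h₁, f_smul_left C.h₁, C.h₁.alternating, hpq]
    have hneg : ∀ x y, f₁ x (-y) = -f₁ x y := fun x y => by
      rw [← neg_one_smul F y, f_smul_right C.h₁, neg_one_mul]
    simp only [hneg, C.h₁.alternating, f_eq_zero_symm C.h₁ hpq]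
    have := C.two
    match_scalars <;> field_simp
    all_goals ring
  have hqp : q ∉ F ∙ p := fun h => by
    obtain ⟨r, rfl⟩ := Submodule.mem_span_singleton.1 h
    have := hq 1
    change f₁ m (r • p) = 0 at this
    rw [f_smul_right C.h₁, hmp, mul_neg, mul_one, neg_eq_zero] at this
    exact hq0 (by rw [this, zero_smul])
  obtain ⟨c', hpc, hqc⟩ := SP.exists_zero_one C.h₁ hqp
  have hR := root_mem C.h₁ p c'
  have hroot' : Φ (root C.h₁ p (q + p)) := by
    have := hcj hroot hR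
    rwa [conj_root C.h₁ hR, act_root C.h₁ hpc, act_root C.h₁ hpc, C.h₁.alternating, hpc,
      f_eq_zero_symm C.h₁ hpq, hqc, zero_smul, zero_smul, one_smul, add_zero, add_zero, add_zero] at this
  have hst : Φ (stv C.h₁ p 2) := by
    have := hmul hroot' (hinv hroot)
    suffices e : root C.h₁ p (q + p) * (root C.h₁ p q)⁻¹ = stv C.h₁ p 2 by rwa [e] at this
    rw [mul_inv_eq_iff_eq_mul]
    refine gl_ext fun x => ?_
    rw [act_root C.h₁ (by rw [f_add_right C.h₁, hpq, C.h₁.alternating, add_zero]), act_mul, act_stv C.h₁,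
      act_root C.h₁ hpq]
    simp only [f_add_left C.h₁, f_add_right C.h₁, f_smul_left C.h₁, C.h₁.alternating, f_eq_zero_symm C.h₁ hpq]
    module
  exact rt_rigid C hM h4 hg.1 hp0 C.two (hst.2 g hg)

/-- a proper overgroup is the stabiliser -/
theorem eq_or_le_tensor (h4 : 4 ≤ n₁) :
    M = isoGroup f ∨ M ≤ Cfsg.Geo.tensorProductSubgroup n₁ n₂ T.e T.P := by
  by_cases hM : isoGroup f ≤ M
  · exact Or.inl (le_antisymm C.le hM)
  · exact Or.inr fun g hg => Km_le C hM h4 _ ∅ ⟨fun _ h => h.elim, fun _ h => h.elim⟩ le_rfl g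
      ⟨hg, fun _ h => h.elim⟩

/-- the stabiliser is proper -/
theorem not_le_tensor : ¬ isoGroup f ≤ Cfsg.Geo.tensorProductSubgroup n₁ n₂ T.e T.P := by
  intro h
  obtain ⟨e, he⟩ := exists_aniso₂ C
  obtain ⟨p, m, hpm⟩ := exists_ne_two C
  obtain ⟨y, -, hy0, hye, -⟩ := Sy.exists_perp_two C.h₂ (a := e) (b := e) (finrank₂ C)
  obtain ⟨a, b, hab⟩ := exists_of_mem T (h (stv_mem C.hf (pt T p e) 1))
  have hm0 : m ≠ 0 := fun e0 => hpm (by rw [e0, f_zero_right C.h₁])
  have he0 : e ≠ 0 := fun e0 => he (by rw [e0, Sy.zero_left C.h₂])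
  have e1 := congrArg (fun g => act g (pt T m y)) hab
  have e2 := congrArg (fun g => act g (pt T m e)) hab
  simp only [act_stv C.hf, act_gl_pt, C.form, hye, mul_zero, zero_smul, add_zero, one_mul] at e1 e2
  obtain ⟨r, hr⟩ := Submodule.mem_span_singleton.1 (mem_span_of_pt_eq' T e1.symm fun e0 =>
    hy0 (act_injective b (by rw [e0, map_zero])))
  rw [← pt_smul_left, ← pt_add_left, ← hr] at e2
  obtain ⟨s, hs⟩ := Submodule.mem_span_singleton.1 (mem_span_of_pt_eq' T e2 he0)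
  have h1 := congrArg (f₁ m) hs
  rw [f_smul_right C.h₁, f_smul_right C.h₁, f_add_right C.h₁, f_smul_right C.h₁, C.h₁.alternating, mul_zero,
    mul_zero, zero_add, eq_comm] at h1
  exact mul_ne_zero (mul_ne_zero C.c_ne (mul_ne_zero (f_ne_symm C.h₁ hpm) he)) (f_ne_symm C.h₁ hpm) h1

end Cfsg.Agent.MaxCl.TensSO
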