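/-
The stabiliser of a tensor decomposition `Sp(n₁) ⊗ O(n₂)` is maximal in the symplectic group for `n₁ ≥ 4` and
`n₂ ≥ 3`, odd number of scalars, other than three scalars with `n₂ = 3`.
-/
import Mathlib
import Cfsg.Prelude.Def_ClassicalGeometry
import Cfsg.Agent.Lib.MaxCl.SympOrthTensorMax
import Cfsg.Agent.Lib.MaxCl.OrthTensor

set_option autoImplicit false

namespace Cfsg.Agent.MaxCl

open scoped MatrixGroups Matrix

/-- `Sp(n₁) ⊗ O(n₂)` is maximal in `Sp(2m)` -/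
theorem sp_tensor_orth_maximal {F : Type*} [Field F] [Fintype F] {m n₁ n₂ : ℕ} (h4 : 4 ≤ n₁) (h3 : 3 ≤ n₂)
    (hex : ¬ (Fintype.card F = 3 ∧ n₂ = 3)) (hodd : Odd (Fintype.card F))
    (e : (Fin m ⊕ Fin m) ≃ Fin n₁ × Fin n₂) (P : GL (Fin m ⊕ Fin m) F)
    (f₁ : (Fin n₁ → F) → (Fin n₁ → F) → F) (f₂ : (Fin n₂ → F) → (Fin n₂ → F) → F)
    (h₁ : Cfsg.Geo.IsSymplecticForm f₁) (h₂ : Cfsg.Geo.IsSymmetricForm f₂)
    (hT : Cfsg.Geo.IsTensorFormStructure id (Cfsg.sympForm m F) f₁ f₂ e P) :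
    Cfsg.Geo.IsMaximalIn (Cfsg.spGL m F) (Cfsg.Geo.tensorProductSubgroup n₁ n₂ e P ⊓ Cfsg.spGL m F) := by
  classical
  obtain ⟨c, hc, hform⟩ := hT
  let T : Tens.TSys (Fin m ⊕ Fin m) F n₁ n₂ := ⟨e, P⟩
  have h2 : (2 : F) ≠ 0 := by
    intro h
    have hF2 : ringChar F = 2 := ringChar.eq_iff.2 (CharTwo.of_one_ne_zero_of_two_eq_zero one_ne_zero h)
    have := FiniteField.even_card_of_char_two hF2
    have := Nat.odd_iff.1 hodd
    omega
  have hpt : ∀ u v u' v', Cfsg.sympForm m F (Tens.pt T u v) (Tens.pt T u' v') = c * (f₁ u u' * f₂ v v') := by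
    intro u v u' v'
    refine (hform (fun p => u p.1 * v p.2) (fun p => u' p.1 * v' p.2)).trans ?_
    congr 1
    exact Orth.formOfGram_pure2 h₁.bilinear h₂.bilinear u u' v v'
  have hex' : n₂ = 3 → ∃ x : F, x ≠ 0 ∧ x ≠ 1 ∧ x ≠ -1 := by
    intro hn
    by_contra hno
    push Not at hno
    refine hex ⟨le_antisymm ?_ ?_, hn⟩
    · refine (Finset.card_le_card (s := (Finset.univ : Finset F)) (t := {0, 1, -1}) fun x _ => ?_).trans
        Finset.card_le_three
      simp only [Finset.mem_insert, Finset.mem_singleton]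
      have := hno x
      tauto
    · have := Fintype.one_lt_card (α := F)
      have := Nat.odd_iff.1 hodd
      omega
  have mkC : ∀ M : Subgroup (GL (Fin m ⊕ Fin m) F), M ≤ Cfsg.spGL m F →
      Cfsg.Geo.tensorProductSubgroup n₁ n₂ e P ⊓ Cfsg.spGL m F ≤ M →
      TensSO.OCtx T (Cfsg.sympForm m F) f₁ f₂ c M := fun M hle hge =>
    { hf := sympForm_isSymplectic m F, h₁ := h₁, h₂ := h₂, c_ne := hc, form := hpt, two := h2
      n₁_pos := by omega, three := h3, hex := hex', le := hle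
      ge := fun a b hab => hge ⟨Tens.gl_mem T a b, hab⟩ }
  refine ⟨lt_of_le_not_ge inf_le_right fun h =>
    TensSO.not_le_tensor (mkC _ le_rfl inf_le_right) (h.trans inf_le_left), fun M hge hle => ?_⟩
  rcases TensSO.eq_or_le_tensor (mkC M hle hge) h4 with h | h
  · exact Or.inr h
  · exact Or.inl (le_antisymm (le_inf h hle) hge)

end Cfsg.Agent.MaxCl
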