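/-
An overgroup of the stabiliser of two totally isotropic planes of a four dimensional symplectic space contains a
transvection centred in one of the planes, as soon as some torus element has square different from one.
-/
import Cfsg.Agent.Lib.MaxCl.SympRoot
import Cfsg.Agent.Lib.MaxCl.SympSwap

set_option autoImplicit false

namespace Cfsg.Agent.MaxCl

open scoped MatrixGroups Matrix
open Module (finrank)

variable {ι : Type} [Fintype ι] [DecidableEq ι] {F : Type*} [Field F] {f : (ι → F) → (ι → F) → F}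

/-- The torus element of a hyperbolic pair. -/
theorem exists_pair_torus (hf : Cfsg.Geo.IsSymplecticForm f) {u v : ι → F} (huv : f u v = 1) {l : F} (hl : l ≠ 0) :
    ∃ t ∈ isoGroup f, ∀ z, act t z = z + ((l - 1) * f z v) • u + ((l⁻¹ - 1) * f u z) • v := by
  have hmk : ∀ l : F, ∀ z : ι → F, ((LinearMap.id : (ι → F) →ₗ[F] (ι → F)) + ((l - 1) • flin hf.bilinear v).smulRight u +
      ((l⁻¹ - 1) • toBil hf.bilinear u).smulRight v) z =
      z + ((l - 1) * f z v) • u + ((l⁻¹ - 1) * f u z) • v := fun l z => by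
    simp [flin_apply, toBil_apply]
  obtain ⟨t, ht⟩ := exists_gl_of_injective (LinearMap.id + ((l - 1) • flin hf.bilinear v).smulRight u +
      ((l⁻¹ - 1) • toBil hf.bilinear u).smulRight v) (by
    refine Function.LeftInverse.injective (g := ⇑((LinearMap.id : (ι → F) →ₗ[F] (ι → F)) +
      ((l⁻¹ - 1) • flin hf.bilinear v).smulRight u + ((l⁻¹⁻¹ - 1) • toBil hf.bilinear u).smulRight v)) fun z => ?_
    rw [hmk, hmk]
    simp only [f_add_left hf, f_add_right hf, f_smul_left hf, f_smul_right hf, f_self hf, huv, f_skew hf v u,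
      inv_inv]
    match_scalars <;> field_simp <;> ring)
  have ht' : ∀ z, act t z = z + ((l - 1) * f z v) • u + ((l⁻¹ - 1) * f u z) • v := fun z => (ht z).trans (hmk l z)
  refine ⟨t, mem_isoGroup.2 fun x y => ?_, ht'⟩
  rw [ht', ht']
  simp only [f_add_left hf, f_add_right hf, f_smul_left hf, f_smul_right hf, f_self hf, huv, f_skew hf v u,
    f_skew hf y v, f_skew hf x u, f_skew hf y u]
  field_simp
  ring

theorem exists_stv_pair {F : Type*} [Field F] [Fintype F] {m : ℕ}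
    {f : (Fin m ⊕ Fin m → F) → (Fin m ⊕ Fin m → F) → F} (hf : Cfsg.Geo.IsSymplecticForm f) (h2 : (2 : F) ≠ 0)
    {D : Fin 2 → Submodule F (Fin m ⊕ Fin m → F)} (hD : Cfsg.Geo.IsMDecomposition m D)
    (hts : ∀ i, Cfsg.Geo.IsTotallySingularFor f (D i)) (hm2 : m = 2) (h5 : 5 ≤ Fintype.card F)
    {M : Subgroup (GL (Fin m ⊕ Fin m) F)}
    (hM1 : Cfsg.Geo.decompositionStabilizer D ⊓ isoGroup f ≤ M) (hM2 : M ≤ isoGroup f)
    (hsub : ¬ M ≤ Cfsg.Geo.decompositionStabilizer D)
    (key : ∀ (i j : Fin 2), j ≠ i → ∀ y ∈ D i, y ≠ 0 → ∀ x, x ∉ D j → f x y = 0 → root hf x y ∈ M →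
      ∃ c, c ≠ 0 ∧ stv hf y c ∈ M) :
    ∃ (i : Fin 2) (y : Fin m ⊕ Fin m → F) (c : F), y ∈ D i ∧ y ≠ 0 ∧ c ≠ 0 ∧ stv hf y c ∈ M := by
  classical
  have hdim : ∀ i, finrank F (D i) = 2 := fun i => (hD.finrank_eq i).trans hm2
  have hc : IsCompl (D 0) (D 1) := by
    refine ⟨hD.indep.pairwiseDisjoint (by decide : (0 : Fin 2) ≠ 1), codisjoint_iff.2 ?_⟩
    rw [eq_top_iff, ← hD.iSup_eq_top, iSup_le_iff]
    intro i; fin_cases i
    · exact le_sup_left
    · exact le_sup_right
  have hsplit : ∀ i j : Fin 2, j ≠ i → IsCompl (D i) (D j) := by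
    intro i j hij
    fin_cases i <;> fin_cases j <;> first | exact absurd rfl hij | exact hc | exact hc.symm
  have hrep : ∀ (i j : Fin 2), j ≠ i → ∀ v, ∃ p ∈ D i, ∃ q ∈ D j, p + q = v := by
    intro i j hij v
    refine Submodule.mem_sup.1 ?_
    rw [(hsplit i j hij).sup_eq_top]; trivial
  have hother : ∀ i : Fin 2, ∃ j, j ≠ i ∧ ∀ l, l = i ∨ l = j := by decide
  -- the torus
  have htorus : ∀ (i j : Fin 2), j ≠ i → ∀ u ∈ D i, ∀ v ∈ D j, f u v = 1 → ∀ l : F, l ≠ 0 →
      ∃ t ∈ M, ∀ z, act t z = z + ((l - 1) * f z v) • u + ((l⁻¹ - 1) * f u z) • v := by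
    intro i j hij u hu v hv huv l hl
    obtain ⟨t, htf, ht⟩ := exists_pair_torus hf huv hl
    refine ⟨t, hM1 ⟨⟨1, fun k => ?_⟩, htf⟩, ht⟩
    refine Submodule.eq_of_le_of_finrank_eq (Submodule.map_le_iff_le_comap.2 fun z hz => ?_)
      (by rw [toLin'_eq_act, finrank_map_act]; rfl)
    show act t z ∈ D k
    rw [ht]
    rcases (show k = i ∨ k = j by omega) with rfl | rfl
    · rw [hts k u hu z hz, mul_zero, zero_smul, add_zero]; exact (D k).add_mem hz ((D k).smul_mem _ hu)
    · rw [hts k z hz v hv, mul_zero, zero_smul, add_zero]; exact (D k).add_mem hz ((D k).smul_mem _ hv)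
  obtain ⟨l, hl0, hl1⟩ : ∃ l : F, l ≠ 0 ∧ l * l ≠ 1 := by
    by_contra hno; push Not at hno
    have : (Finset.univ : Finset F) ⊆ {0, 1, -1} := fun x _ => by
      rcases eq_or_ne x 0 with rfl | hx
      · simp
      · rcases mul_self_eq_one_iff.1 (hno x hx) with rfl | rfl <;> simp
    have := Finset.card_le_card this
    rw [Finset.card_univ] at this
    have := Finset.card_le_three (a := (0 : F)) (b := 1) (c := -1)
    omega
  -- a vector of one plane mapped into a plane
  have case1 : ∀ g ∈ M, ∀ i j : Fin 2, ∀ a ∈ D i, a ≠ 0 → act g a ∈ D j → (∃ z ∈ D i, act g z ∉ D j) →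
      ∃ (i : Fin 2) (y : Fin m ⊕ Fin m → F) (c : F), y ∈ D i ∧ y ≠ 0 ∧ c ≠ 0 ∧ stv hf y c ∈ M := by
    rintro g hgM i j a ha ha0 hga ⟨z₀, hz₀, hz₀'⟩
    have hgf := mem_isoGroup.1 (hM2 hgM)
    obtain ⟨i', hi', -⟩ := hother i
    obtain ⟨j', hj', -⟩ := hother j
    obtain ⟨b, hb, hb0, hab⟩ : ∃ b ∈ D i', b ≠ 0 ∧ f a b = 0 := by
      obtain ⟨b, hb, hb0⟩ := Submodule.exists_mem_ne_zero_of_ne_bot
        (LinearMap.ker_ne_bot_of_finrank_lt (f := (toBil hf.bilinear a).comp (D i').subtype)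
          (by rw [Module.finrank_self, hdim]; omega))
      exact ⟨b, b.2, fun e => hb0 (Subtype.ext e), LinearMap.mem_ker.1 hb⟩
    have hx0 : act g a ≠ 0 := fun e => ha0 (act_injective g (e.trans (map_zero _).symm))
    have hy0 : act g b ≠ 0 := fun e => hb0 (act_injective g (e.trans (map_zero _).symm))
    have hxy : f (act g a) (act g b) = 0 := by rw [hgf, hab]
    by_cases hy : act g b ∈ D j'
    swap
    · have hroot : root hf a b ∈ M := by
        refine hM1 ⟨⟨1, fun k => ?_⟩, root_mem hf a b⟩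
        refine Submodule.eq_of_le_of_finrank_eq (Submodule.map_le_iff_le_comap.2 fun z hz => ?_)
          (by rw [toLin'_eq_act, finrank_map_act]; rfl)
        show act (root hf a b) z ∈ D k
        rw [act_root hf hab]
        rcases (show k = i ∨ k = i' by omega) with rfl | rfl
        · rw [hts k z hz a ha, zero_smul, add_zero]; exact (D k).add_mem hz ((D k).smul_mem _ ha)
        · rw [hts k z hz b hb, zero_smul, add_zero]; exact (D k).add_mem hz ((D k).smul_mem _ hb)
      have hR := M.mul_mem (M.mul_mem hgM hroot) (M.inv_mem hgM)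
      rw [conj_root hf (hM2 hgM), root_comm hf hxy] at hR
      obtain ⟨c, hc0, hcM⟩ := key j j' hj' _ hga hx0 _ hy (f_eq_zero_symm hf hxy) hR
      exact ⟨j, _, c, hga, hx0, hc0, hcM⟩
    obtain ⟨u, hu, huy⟩ : ∃ u ∈ D j, f u (act g b) = 1 := by
      obtain ⟨w, hw⟩ := (hf.nondegenerate _ hy0).1
      obtain ⟨p, hp, q, hq, rfl⟩ := hrep j j' hj' w
      rw [f_add_left hf, hts j' q hq _ hy, add_zero] at hw
      exact ⟨(f p (act g b))⁻¹ • p, (D j).smul_mem _ hp, by rw [f_smul_left hf, inv_mul_cancel₀ hw]⟩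
    obtain ⟨p, hp, q, hq, hpq⟩ := hrep i i' hi' (act g⁻¹ u)
    have hub : f (act g⁻¹ u) b = 1 := by rw [← hgf, act_act_inv, huy]
    have hua : f (act g⁻¹ u) a = 0 := by rw [← hgf, act_act_inv]; exact hts j u hu _ hga
    have hpb : f p b = 1 := by
      rw [← hpq, f_add_left hf, hts i' q hq b hb, add_zero] at hub; exact hub
    have hqa : f q a = 0 := by
      rw [← hpq, f_add_left hf, hts i p hp a ha, zero_add] at hua; exact hua
    obtain ⟨c, rfl⟩ : ∃ c : F, c • b = q := by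
      by_contra hno
      have hq' : q ∉ F ∙ b := fun h => hno (Submodule.mem_span_singleton.1 h)
      have hle : F ∙ b ⊔ F ∙ q ≤ D i' := sup_le ((Submodule.span_singleton_le_iff_mem _ _).2 hb)
        ((Submodule.span_singleton_le_iff_mem _ _).2 hq)
      have e := Submodule.eq_of_le_of_finrank_le hle (by
        rw [Submodule.finrank_sup_span_singleton hq', finrank_span_singleton hb0, hdim])
      obtain ⟨w, hw⟩ := (hf.nondegenerate a ha0).1
      obtain ⟨w₁, hw₁, w₂, hw₂, rfl⟩ := hrep i i' hi' w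
      rw [← e] at hw₂
      obtain ⟨_, hs, _, ht, rfl⟩ := Submodule.mem_sup.1 hw₂
      obtain ⟨s, rfl⟩ := Submodule.mem_span_singleton.1 hs
      obtain ⟨t, rfl⟩ := Submodule.mem_span_singleton.1 ht
      rw [f_add_left hf, hts i w₁ hw₁ a ha, f_add_left hf, f_smul_left hf, f_smul_left hf,
        f_eq_zero_symm hf hab, hqa] at hw
      exact hw (by ring)
    have hc0 : c ≠ 0 := by
      rintro rfl
      rw [zero_smul, add_zero] at hpq
      have hpa : p ∉ F ∙ a := fun h => by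
        obtain ⟨s, rfl⟩ := Submodule.mem_span_singleton.1 h
        rw [f_smul_left hf, hab, mul_zero] at hpb
        exact zero_ne_one hpb
      have hle : F ∙ a ⊔ F ∙ p ≤ D i := sup_le ((Submodule.span_singleton_le_iff_mem _ _).2 ha)
        ((Submodule.span_singleton_le_iff_mem _ _).2 hp)
      have e := Submodule.eq_of_le_of_finrank_le hle (by
        rw [Submodule.finrank_sup_span_singleton hpa, finrank_span_singleton ha0, hdim])
      rw [← e] at hz₀
      obtain ⟨_, hs, _, ht, rfl⟩ := Submodule.mem_sup.1 hz₀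
      obtain ⟨s, rfl⟩ := Submodule.mem_span_singleton.1 hs
      obtain ⟨t, rfl⟩ := Submodule.mem_span_singleton.1 ht
      rw [map_add, map_smul, map_smul, hpq, act_act_inv] at hz₀'
      exact hz₀' ((D j).add_mem ((D j).smul_mem _ hga) ((D j).smul_mem _ hu))
    obtain ⟨t₁, ht₁M, ht₁⟩ := htorus j j' hj' u hu _ hy huy l hl0
    obtain ⟨t₂, ht₂M, ht₂⟩ := htorus i i' hi' p hp b hb hpb l⁻¹ (inv_ne_zero hl0)
    have hk := M.mul_mem (M.mul_mem (M.mul_mem (M.inv_mem hgM) ht₁M) hgM) ht₂M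
    refine ⟨i', b, c * (1 - l⁻¹ * l⁻¹), hb, hb0, mul_ne_zero hc0 ?_, ?_⟩
    · intro h
      apply hl1
      field_simp at h
      linear_combination h
    convert hk using 1
    apply gl_ext; intro z
    rw [act_stv hf, act_mul, act_mul, act_mul, ht₁, hgf, map_add, map_add, map_smul, map_smul, act_inv_act,
      act_inv_act, show f u (act g (act t₂ z)) = f (act g⁻¹ u) (act t₂ z) by
        rw [← hgf (act g⁻¹ u), act_act_inv], ← hpq, ht₂]
    simp only [inv_inv, f_add_left hf, f_add_right hf, f_smul_left hf, f_smul_right hf, f_self hf, hpb,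
      f_skew hf b p, f_skew hf b z]
    match_scalars <;> field_simp <;> ring
  by_cases H : ∃ g ∈ M, ∃ i j : Fin 2, ∃ a ∈ D i, a ≠ 0 ∧ act g a ∈ D j ∧ ∃ z ∈ D i, act g z ∉ D j
  · obtain ⟨g, hg, i, j, a, ha, ha0, hga, hz⟩ := H
    exact case1 g hg i j a ha ha0 hga hz
  push Not at H
  exfalso
  obtain ⟨g, hgM, hg⟩ := SetLike.not_le_iff_exists.1 hsub
  have hgf := mem_isoGroup.1 (hM2 hgM)
  obtain ⟨i, hi⟩ : ∃ i, ∀ j, ∀ a ∈ D i, a ≠ 0 → act g a ∉ D j := by
    by_contra hno; push Not at hno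
    have hσ : ∀ i, ∃ j, ∀ z ∈ D i, act g z ∈ D j := fun i => by
      obtain ⟨j, a, ha, ha0, hga⟩ := hno i
      exact ⟨j, H g hgM i j a ha ha0 hga⟩
    choose σ hσ using hσ
    have hmap : ∀ i, (D i).map (act g) = D (σ i) := fun i =>
      Submodule.eq_of_le_of_finrank_eq (Submodule.map_le_iff_le_comap.2 (hσ i))
        (by rw [finrank_map_act, hdim, hdim])
    have hinj : Function.Injective σ := by
      intro a b hab
      by_contra hne
      obtain ⟨u, hu, hu0⟩ := Submodule.exists_mem_ne_zero_of_ne_bot (p := D a) (fun h => by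
        have := hdim a; rw [h, finrank_bot] at this; omega)
      have hgu : act g u ∈ (D b).map (act g) := by rw [hmap b, ← hab]; exact hσ a u hu
      obtain ⟨w, hw, hwu⟩ := hgu
      rw [act_injective g hwu] at hw
      exact hu0 (Submodule.disjoint_def.1 (hsplit a b (Ne.symm hne)).disjoint u hu hw)
    exact hg ⟨Equiv.ofBijective σ (Finite.injective_iff_bijective.1 hinj), fun i => hmap i⟩
  have hc01 : IsCompl (D 0) (D 1) := hc
  let G : D i →ₗ[F] (Fin m ⊕ Fin m → F) := (act g).comp (D i).subtype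
  let P : D i →ₗ[F] D 0 := (Submodule.linearProjOfIsCompl _ _ hc01).comp G
  let R : D i →ₗ[F] D 1 := (Submodule.linearProjOfIsCompl _ _ hc01.symm).comp G
  have hsum : ∀ z : D i, act g (z : Fin m ⊕ Fin m → F) = (P z : Fin m ⊕ Fin m → F) + R z := by
    intro z
    obtain ⟨p, hp, q, hq, e⟩ := hrep 0 1 (by decide) (act g (z : Fin m ⊕ Fin m → F))
    have e1 : P z = ⟨p, hp⟩ := by
      show Submodule.linearProjOfIsCompl _ _ hc01 (act g (z : Fin m ⊕ Fin m → F)) = _
      have e0 : Submodule.linearProjOfIsCompl _ _ hc01 q = 0 := Submodule.linearProjOfIsCompl_apply_right' hc01 hq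
      rw [← e, map_add, e0, add_zero]
      exact Submodule.linearProjOfIsCompl_apply_left hc01 ⟨p, hp⟩
    have e2 : R z = ⟨q, hq⟩ := by
      show Submodule.linearProjOfIsCompl _ _ hc01.symm (act g (z : Fin m ⊕ Fin m → F)) = _
      have e0 : Submodule.linearProjOfIsCompl _ _ hc01.symm p = 0 :=
        Submodule.linearProjOfIsCompl_apply_right' hc01.symm hp
      rw [← e, map_add, e0, zero_add]
      exact Submodule.linearProjOfIsCompl_apply_left hc01.symm ⟨q, hq⟩
    rw [e1, e2, e]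
  have hP : ∀ z : D i, (P z : Fin m ⊕ Fin m → F) = 0 → z = 0 := fun z hz => by
    by_contra hz0
    refine hi 1 z z.2 (fun e => hz0 (Subtype.ext e)) ?_
    rw [hsum, hz, zero_add]; exact (R z).2
  have hR : Function.Injective R := LinearMap.ker_eq_bot.1 ((Submodule.eq_bot_iff _).2 fun z hz => by
    by_contra hz0
    refine hi 0 z z.2 (fun e => hz0 (Subtype.ext e)) ?_
    rw [hsum, LinearMap.mem_ker.1 hz, Submodule.coe_zero, add_zero]; exact (P z).2)
  have hsym : ∀ a b : D i, f (P a : Fin m ⊕ Fin m → F) (R b) = f (P b : Fin m ⊕ Fin m → F) (R a) := by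
    intro a b
    have h := hgf (a : Fin m ⊕ Fin m → F) b
    rw [hsum, hsum, hts i a a.2 b b.2, f_add_left hf, f_add_right hf, f_add_right hf, hts 0 _ (P a).2 _ (P b).2,
      hts 1 _ (R a).2 _ (R b).2, f_skew hf (R a : Fin m ⊕ Fin m → F)] at h
    linear_combination h
  obtain ⟨w, hw⟩ : ∃ w : D i, f (P w : Fin m ⊕ Fin m → F) (R w) ≠ 0 := by
    by_contra hno; push Not at hno
    have hall : ∀ a b : D i, f (P a : Fin m ⊕ Fin m → F) (R b) = 0 := fun a b => by
      have h := hno (a + b)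
      rw [map_add, map_add, Submodule.coe_add, Submodule.coe_add, f_add_left hf, f_add_right hf, f_add_right hf,
        hno a, hno b, ← hsym a b] at h
      exact (mul_eq_zero.1 (show (2 : F) * f (P a : Fin m ⊕ Fin m → F) (R b) = 0 by
        linear_combination h)).resolve_left h2
    have hsurj : Function.Surjective R :=
      (LinearMap.injective_iff_surjective_of_finrank_eq_finrank (by rw [hdim, hdim])).1 hR
    obtain ⟨a, ha, ha0⟩ := Submodule.exists_mem_ne_zero_of_ne_bot (p := D i) (fun h => by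
      have := hdim i; rw [h, finrank_bot] at this; omega)
    have hPa : (P ⟨a, ha⟩ : Fin m ⊕ Fin m → F) = 0 := by
      by_contra hne
      obtain ⟨y, hy⟩ := (hf.nondegenerate _ hne).2
      obtain ⟨y₀, hy₀, y₁, hy₁, rfl⟩ := hrep 0 1 (by decide) y
      obtain ⟨b, hb⟩ := hsurj ⟨y₁, hy₁⟩
      rw [f_add_right hf, hts 0 _ (P ⟨a, ha⟩).2 y₀ hy₀, zero_add] at hy
      exact hy (by rw [show y₁ = (R b : Fin m ⊕ Fin m → F) by rw [hb]]; exact hall _ _)
    exact ha0 (congrArg Subtype.val (hP _ hPa))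
  obtain ⟨k, hk⟩ : ∃ k, k = f (P w : Fin m ⊕ Fin m → F) (R w) := ⟨_, rfl⟩
  rw [← hk] at hw
  obtain ⟨τ, hτM, hτ⟩ := htorus 0 1 (by decide) (P w : Fin m ⊕ Fin m → F) (P w).2 (k⁻¹ • (R w : Fin m ⊕ Fin m → F))
    ((D 1).smul_mem _ (R w).2) (by rw [f_smul_right hf, ← hk, inv_mul_cancel₀ hw]) l hl0
  obtain ⟨w', hw', hw'0⟩ := Submodule.exists_mem_ne_zero_of_ne_bot
    (LinearMap.ker_ne_bot_of_finrank_lt (f := (toBil hf.bilinear (P w : Fin m ⊕ Fin m → F)).comp
      ((D 1).subtype.comp R)) (by rw [Module.finrank_self, hdim]; omega))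
  have hw'R : f (P w : Fin m ⊕ Fin m → F) (R w') = 0 := LinearMap.mem_ker.1 hw'
  have hfix : act τ (act g (w' : Fin m ⊕ Fin m → F)) = act g (w' : Fin m ⊕ Fin m → F) := by
    rw [hτ, hsum, f_add_left hf, f_smul_right hf, f_smul_right hf, hts 1 _ (R w').2 _ (R w).2, hsym w' w, hw'R,
      f_add_right hf, hts 0 _ (P w).2 _ (P w').2, hw'R]
    simp
  have hkM : g⁻¹ * τ * g ∈ M := M.mul_mem (M.mul_mem (M.inv_mem hgM) hτM) hgM
  have hin := H _ hkM i i (w' : Fin m ⊕ Fin m → F) w'.2 (fun e => hw'0 (Subtype.ext e))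
    (by rw [act_mul, act_mul, hfix, act_inv_act]; exact w'.2) (w : Fin m ⊕ Fin m → F) w.2
  obtain ⟨v, hv⟩ : ∃ v : D i, (v : Fin m ⊕ Fin m → F) = act (g⁻¹ * τ * g) (w : Fin m ⊕ Fin m → F) :=
    ⟨⟨_, hin⟩, rfl⟩
  have hgv : act g (v : Fin m ⊕ Fin m → F) = act g (w : Fin m ⊕ Fin m → F) + (l - 1) • (P w : Fin m ⊕ Fin m → F)
      + (l⁻¹ - 1) • (R w : Fin m ⊕ Fin m → F) := by
    rw [hv, act_mul, act_mul, act_act_inv, hτ, hsum, f_add_left hf, f_smul_right hf, f_smul_right hf,
      hts 1 _ (R w).2 _ (R w).2, ← hk, f_add_right hf, f_self hf, ← hk]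
    match_scalars <;> field_simp <;> ring
  have hl : l - l⁻¹ ≠ 0 := fun h => hl1 (by field_simp at h; linear_combination h)
  refine hi 0 ((v : Fin m ⊕ Fin m → F) - l⁻¹ • (w : Fin m ⊕ Fin m → F)) ((D i).sub_mem v.2 ((D i).smul_mem _ w.2))
    ?_ ?_
  · intro e
    rw [sub_eq_zero] at e
    have h' := hgv
    rw [e, map_smul, hsum] at h'
    have hz : (l - l⁻¹) • (P w : Fin m ⊕ Fin m → F) = 0 := by linear_combination (norm := module) -h'
    have := hP w ((smul_eq_zero.1 hz).resolve_left hl)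
    exact hw (by rw [hk, this, map_zero, Submodule.coe_zero, f_zero_left hf])
  · rw [map_sub, map_smul, hgv, hsum]
    have e : (P w : Fin m ⊕ Fin m → F) + R w + (l - 1) • (P w : Fin m ⊕ Fin m → F) + (l⁻¹ - 1) • (R w : Fin m ⊕ Fin m → F)
        - l⁻¹ • ((P w : Fin m ⊕ Fin m → F) + R w) = (l - l⁻¹) • (P w : Fin m ⊕ Fin m → F) := by module
    rw [e]
    exact (D 0).smul_mem _ (P w).2

end Cfsg.Agent.MaxCl
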