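/-
In characteristic two the isometries of a symplectic form preserving a form over a subfield of prime index
form a maximal subgroup, in every dimension at least four.

The elements of the subgroup acting trivially outside a totally singular line are given by symmetric
matrices.  Conjugates of a transvection at an irrational point give such a matrix with an irrational entry,
shears turn it into a pair of commuting transvections with one irrational coefficient, and the coefficients
of these pairs are closed under `(c, d) ↦ c d²`.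
-/
import Cfsg.Agent.Lib.MaxCl.SympSubfield

set_option autoImplicit false
set_option linter.style.haveILetI false

namespace Cfsg.Agent.MaxCl

open scoped MatrixGroups Matrix

variable {ι : Type} [Fintype ι] [DecidableEq ι] {F : Type*} [Field F]
variable {f : (ι → F) → (ι → F) → F}

/-- an element of `M` acting by the symmetric matrix `(p, q, r)` on the line of `a`, `b` -/
def SymMem (f : (ι → F) → (ι → F) → F) (M : Subgroup (GL ι F)) (a b : ι → F) (p q r : F) : Prop :=
  ∃ h ∈ M, ∀ x, act h x = x + (p * f x a + q * f x b) • a + (q * f x a + r * f x b) • b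

variable {M : Subgroup (GL ι F)} {a b : ι → F} {p q r p' q' r' : F}

theorem SymMem.congr (h : SymMem f M a b p q r) (hp : p = p') (hq : q = q') (hr : r = r') :
    SymMem f M a b p' q' r' := hp ▸ hq ▸ hr ▸ h

theorem SymMem.of_stv_left (hf : Cfsg.Geo.IsSymplecticForm f) (h : stv hf a p ∈ M) :
    SymMem f M a b p 0 0 := ⟨_, h, fun x => by rw [act_stv hf]; simp⟩

theorem SymMem.stv_right (hf : Cfsg.Geo.IsSymplecticForm f) (h : SymMem f M a b 0 0 r) :
    stv hf b r ∈ M := by
  obtain ⟨g, hg, hgx⟩ := h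
  have : stv hf b r = g := gl_ext fun x => by rw [act_stv hf, hgx]; simp
  rwa [this]

theorem SymMem.add (hf : Cfsg.Geo.IsSymplecticForm f) (hab : f a b = 0) (h : SymMem f M a b p q r)
    (h' : SymMem f M a b p' q' r') : SymMem f M a b (p + p') (q + q') (r + r') := by
  obtain ⟨u, hu, hux⟩ := h
  obtain ⟨v, hv, hvx⟩ := h'
  refine ⟨u * v, M.mul_mem hu hv, fun x => ?_⟩
  rw [act_mul, hux, hvx]
  simp only [f_add_left hf, f_smul_left hf, f_self hf, hab, f_eq_zero_symm hf hab]
  match_scalars <;> ring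

theorem SymMem.conj (h : SymMem f M a b p q r) {u : GL ι F} (hu : u ∈ M) (huf : u ∈ isoGroup f)
    {a' b' : ι → F} (ha : act u a = a') (hb : act u b = b') : SymMem f M a' b' p q r := by
  obtain ⟨g, hg, hgx⟩ := h
  refine ⟨u * g * u⁻¹, M.mul_mem (M.mul_mem hu hg) (M.inv_mem hu), fun x => ?_⟩
  have e : ∀ z, f (act u⁻¹ x) z = f x (act u z) := fun z => by
    rw [← mem_isoGroup.1 huf, act_act_inv]
  rw [act_mul, act_mul, hgx, e, e, ha, hb]
  simp only [map_add, map_smul, act_act_inv, ha, hb]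

theorem SymMem.shear_left (hf : Cfsg.Geo.IsSymplecticForm f) {d : F}
    (h : SymMem f M (a + d • b) b p q r) :
    SymMem f M a b p (q + d * p) (r + d * q + d * q + d * d * p) := by
  obtain ⟨g, hg, hgx⟩ := h
  refine ⟨g, hg, fun x => ?_⟩
  rw [hgx]
  simp only [f_add_right hf, f_smul_right hf]
  match_scalars <;> ring

theorem SymMem.shear_right (hf : Cfsg.Geo.IsSymplecticForm f) {d : F}
    (h : SymMem f M a (b + d • a) p q r) :
    SymMem f M a b (p + d * q + d * q + d * d * r) (q + d * r) r := by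
  obtain ⟨g, hg, hgx⟩ := h
  refine ⟨g, hg, fun x => ?_⟩
  rw [hgx]
  simp only [f_add_right hf, f_smul_right hf]
  match_scalars <;> ring

/-- The core statement, for a form which is `F₀`-valued on rational vectors. -/
theorem subfield_maximal_two [Fintype F] [CharP F 2] (hf : Cfsg.Geo.IsSymplecticForm f)
    (hn : 4 ≤ Fintype.card ι) (F₀ : Subfield F) (r : ℕ) (hr : r.Prime)
    (hcard : Fintype.card F = Nat.card F₀ ^ r) (P : GL ι F)
    (hP : ∀ x ∈ ratVec F₀ P, ∀ y ∈ ratVec F₀ P, f x y ∈ F₀) :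
    Cfsg.Geo.IsMaximalIn (isoGroup f) (Cfsg.Geo.subfieldSubgroup F₀ P ⊓ isoGroup f) := by
  classical
  haveI : Fintype F₀ := Fintype.ofFinite _
  have hrank : Module.finrank F₀ F = r := by
    have e := Module.natCard_eq_pow_finrank (K := F₀) (V := F)
    rw [Nat.card_eq_fintype_card (α := F), hcard] at e
    exact (Nat.pow_right_injective (Finite.one_lt_card (α := F₀)) e).symm
  set L := ratVec F₀ P with hL
  let f₀ : (ι → F₀) → (ι → F₀) → F₀ := fun u v =>
    ⟨f (act P fun i => (u i : F)) (act P fun i => (v i : F)),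
      hP _ ⟨_, fun i => (u i).2, rfl⟩ _ ⟨_, fun i => (v i).2, rfl⟩⟩
  let emb : (ι → F₀) → (ι → F) := fun u => act P fun i => (u i : F)
  have hembL : ∀ u, emb u ∈ L := fun u => ⟨_, fun i => (u i).2, rfl⟩
  have hLemb : ∀ x ∈ L, ∃ u, emb u = x := by
    rintro _ ⟨u, hu, rfl⟩; exact ⟨fun i => ⟨u i, hu i⟩, rfl⟩
  have hembadd : ∀ u v, emb (u + v) = emb u + emb v := fun u v => by
    simp only [emb, ← map_add]; rfl
  have hembsmul : ∀ (c : F₀) u, emb (c • u) = (c : F) • emb u := fun c u => by
    simp only [emb, ← map_smul]; rfl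
  have hf₀ : Cfsg.Geo.IsSymplecticForm f₀ := by
    refine ⟨⟨fun x y v => ?_, fun c x v => ?_, fun v x y => ?_, fun c v x => ?_⟩, fun v w => ?_,
      fun v => ?_, ?_⟩
    · apply Subtype.ext; change f (emb (x + y)) (emb v) = f (emb x) (emb v) + f (emb y) (emb v)
      rw [hembadd, f_add_left hf]
    · apply Subtype.ext; change f (emb (c • x)) (emb v) = (c : F) * f (emb x) (emb v)
      rw [hembsmul, f_smul_left hf]
    · apply Subtype.ext; change f (emb v) (emb (x + y)) = f (emb v) (emb x) + f (emb v) (emb y)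
      rw [hembadd, f_add_right hf]
    · apply Subtype.ext; change f (emb v) (emb (c • x)) = (c : F) * f (emb v) (emb x)
      rw [hembsmul, f_smul_right hf]
    · apply Subtype.ext; exact f_skew hf (emb v) (emb w)
    · apply Subtype.ext; exact f_self hf (emb v)
    · intro v hv
      have hv' : emb v ≠ 0 := by
        intro h; apply hv
        have h' := act_injective P (h.trans (map_zero _).symm)
        funext i; exact Subtype.ext (congrFun h' i)
      have key : ∃ x, f₀ x v ≠ 0 := by
        by_contra hno; push Not at hno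
        obtain ⟨x, hx⟩ := (hf.nondegenerate _ hv').1
        have e : flin hf.bilinear (emb v) = 0 := ext_of_ratVec F₀ P fun y hy => by
          obtain ⟨u, rfl⟩ := hLemb y hy
          simpa [flin_apply, f₀, emb] using congrArg Subtype.val (hno u)
        exact hx (by rw [← flin_apply hf.bilinear, e]; rfl)
      obtain ⟨x, hx⟩ := key
      refine ⟨⟨x, hx⟩, ⟨x, fun h => hx ?_⟩⟩
      apply Subtype.ext
      have : f (emb v) (emb x) = 0 := congrArg Subtype.val h
      exact f_eq_zero_symm hf this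
  -- prescribed products with rational vectors
  have hdual : ∀ (a : ι → F) (s : Finset (ι → F)), a ∈ L → (∀ x ∈ s, x ∈ L) →
      a ∉ Submodule.span F₀ (s : Set (ι → F)) →
      ∃ c ∈ L, f a c = 1 ∧ ∀ x ∈ s, f x c = 0 := by
    intro a s ha hs hnot
    obtain ⟨a₀, rfl⟩ := hLemb a ha
    let E : (ι → F₀) →ₗ[F₀] (ι → F) :=
      { toFun := emb, map_add' := hembadd, map_smul' := fun c u => hembsmul c u }
    obtain ⟨φ, h0, h1⟩ := exists_dual (W := (Submodule.span F₀ (s : Set (ι → F))).comap E) (v := a₀) hnot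
    obtain ⟨w, hw⟩ := exists_repr hf₀ φ
    refine ⟨emb w, hembL w, ?_, fun x hx => ?_⟩
    · have := (hw a₀).symm.trans h1
      exact congrArg Subtype.val this
    · obtain ⟨x₀, rfl⟩ := hLemb x (hs x hx)
      have := (hw x₀).symm.trans (h0 x₀ (Submodule.subset_span hx))
      exact congrArg Subtype.val this
  have hrat : ∀ x, (∀ y ∈ L, f y x ∈ F₀) → x ∈ L := by
    intro x hx
    let φ : (ι → F₀) →ₗ[F₀] F₀ :=
      { toFun := fun u => ⟨f (emb u) x, hx _ (hembL u)⟩
        map_add' := fun u v => Subtype.ext (by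
          change f (emb (u + v)) x = f (emb u) x + f (emb v) x
          rw [hembadd, f_add_left hf])
        map_smul' := fun c u => Subtype.ext (by
          change f (emb (c • u)) x = (c : F) * f (emb u) x
          rw [hembsmul, f_smul_left hf]) }
    obtain ⟨w, hw⟩ := exists_repr hf₀ φ
    have e : x = emb w := flin_injective hf (ext_of_ratVec F₀ P fun y hy => by
      obtain ⟨u, rfl⟩ := hLemb y hy
      exact congrArg Subtype.val (hw u))
    rw [e]; exact hembL w
  have hLdim : ∀ s : Finset (ι → F), (∀ y ∈ s, y ∈ L) → s.card < Fintype.card ι →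
      ∃ x ∈ L, (∀ y ∈ s, f y x = 0) ∧ x ≠ 0 := by
    intro s hsL hs
    let Φ₁ : (ι → F₀) →ₗ[F₀] (s → F₀) :=
      { toFun := fun u y => ⟨f (emb u) y, hP _ (hembL u) _ (hsL _ y.2)⟩
        map_add' := fun u v => funext fun y => Subtype.ext (by
          change f (emb (u + v)) y = f (emb u) y + f (emb v) y
          rw [hembadd, f_add_left hf])
        map_smul' := fun c u => funext fun y => Subtype.ext (by
          change f (emb (c • u)) y = (c : F) * f (emb u) y
          rw [hembsmul, f_smul_left hf]) }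
    have hker : LinearMap.ker Φ₁ ≠ ⊥ := by
      apply LinearMap.ker_ne_bot_of_finrank_lt
      simpa [Module.finrank_pi] using hs
    obtain ⟨u, hu, hu0⟩ := Submodule.exists_mem_ne_zero_of_ne_bot hker
    refine ⟨emb u, hembL u, fun y hy => ?_, fun h => hu0 ?_⟩
    · exact f_eq_zero_symm hf (congrArg Subtype.val (congrFun (LinearMap.mem_ker.1 hu) ⟨y, hy⟩))
    · have h' := act_injective P (h.trans (map_zero _).symm)
      funext i; exact Subtype.ext (congrFun h' i)
  have hone : (1 : F) ∈ F₀ := F₀.one_mem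
  have hdual1 : ∀ a ∈ L, a ≠ 0 → ∃ c ∈ L, f a c = 1 := by
    intro a ha ha0
    obtain ⟨c, hc, h1, -⟩ := hdual a ∅ ha (by simp) (by simpa using ha0)
    exact ⟨c, hc, h1⟩
  -- independent rational vectors: duals
  have hdual2 : ∀ a ∈ L, ∀ b ∈ L, a ≠ 0 → (∀ e ∈ F₀, b ≠ e • a) →
      ∃ c ∈ L, f b c = 1 ∧ f a c = 0 := by
    intro a ha b hb ha0 hab
    obtain ⟨c, hc, h1, h2⟩ := hdual b {a} hb (by simpa using ha) (by
      simp only [Finset.coe_singleton, Submodule.mem_span_singleton, not_exists]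
      exact fun e he => hab (e : F) e.2 he.symm)
    exact ⟨c, hc, h1, h2 a (Finset.mem_singleton_self a)⟩
  have hscal : ∀ x ∈ L, x ≠ 0 → ∀ s : F, s • x ∈ L → s ∈ F₀ := by
    intro x hx hx0 s hs
    obtain ⟨c, hc, h1⟩ := hdual1 x hx hx0
    have := hP _ hs c hc
    rwa [f_smul_left hf, h1, mul_one] at this
  -- elements of the subgroup
  have hH : ∀ g, g ∈ isoGroup f → (∀ x ∈ L, act g x ∈ L) →
      g ∈ Cfsg.Geo.subfieldSubgroup F₀ P ⊓ isoGroup f := fun g hg h =>
    ⟨mem_subfieldSubgroup F₀ P one_ne_zero (fun x hx => by simpa using h x hx), hg⟩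
  have hstvH : ∀ l ∈ L, ∀ c ∈ F₀, stv hf l c ∈ Cfsg.Geo.subfieldSubgroup F₀ P ⊓ isoGroup f := by
    intro l hl c hc
    refine hH _ (stv_mem hf l c) fun x hx => ?_
    rw [act_stv hf]
    exact L.add_mem hx (ratVec_smul (F₀.mul_mem hc (hP x hx l hl)) hl)
  have hrootH : ∀ a ∈ L, ∀ b ∈ L, f a b = 0 → root hf a b ∈ Cfsg.Geo.subfieldSubgroup F₀ P ⊓ isoGroup f := by
    intro a ha b hb hab
    refine hH _ (root_mem hf a b) fun x hx => ?_
    rw [act_root hf hab]
    exact L.add_mem (L.add_mem hx (ratVec_smul (hP x hx a ha) hb)) (ratVec_smul (hP x hx b hb) ha)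
  obtain ⟨l₀, hl₀, -, hl₀0⟩ := hLdim ∅ (by simp) (by simp only [Finset.card_empty]; omega)
  -- strictness
  have hlt : Cfsg.Geo.subfieldSubgroup F₀ P ⊓ isoGroup f < isoGroup f := by
    refine lt_of_le_of_ne inf_le_right fun heq => ?_
    obtain ⟨c, hc⟩ : ∃ c : F, c ∉ F₀ := by
      by_contra h; push Not at h
      have e : Nat.card F₀ = Nat.card F :=
        Nat.card_congr (Equiv.subtypeUnivEquiv h)
      rw [Nat.card_eq_fintype_card (α := F), hcard] at e
      have h1 := hr.two_le
      have h2 : Nat.card F₀ ^ 1 < Nat.card F₀ ^ r := Nat.pow_lt_pow_right Finite.one_lt_card (by omega)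
      rw [pow_one] at h2
      omega
    obtain ⟨γ, hγ⟩ := exists_of_mem_subfieldSubgroup F₀ P ((inf_eq_right.1 heq) (stv_mem hf l₀ c))
    obtain ⟨y, hy, e⟩ := hγ l₀ hl₀
    rw [act_stv hf, f_self hf, mul_zero, zero_smul, add_zero] at e
    have hγ0 : γ ≠ 0 := by rintro rfl; exact hl₀0 (by rw [e, zero_smul])
    have hγF : γ ∈ F₀ := by
      have := hscal l₀ hl₀ hl₀0 γ⁻¹ (by rw [e, inv_smul_smul₀ hγ0]; exact hy)
      simpa using F₀.inv_mem this
    obtain ⟨x, hx, hx1⟩ := hdual1 l₀ hl₀ hl₀0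
    obtain ⟨y', hy', e'⟩ := hγ x hx
    rw [act_stv hf, f_skew hf x l₀, hx1] at e'
    apply hc
    have h3 : (c * -1) • l₀ ∈ L := by
      rw [show (c * -1) • l₀ = γ • y' - x by rw [← e']; abel]
      exact L.sub_mem (ratVec_smul hγF hy') hx
    simpa using F₀.neg_mem (hscal l₀ hl₀ hl₀0 _ h3)
  refine ⟨hlt, ?_⟩
  intro M hM1 hM2
  by_cases hsub : M ≤ Cfsg.Geo.subfieldSubgroup F₀ P
  · exact Or.inl (le_antisymm (le_inf hsub hM2) hM1)
  right
  obtain ⟨g, hgM, hg⟩ := SetLike.not_le_iff_exists.1 hsub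
  have hgf : g ∈ isoGroup f := hM2 hgM
  have hstvM : ∀ l ∈ L, ∀ c ∈ F₀, stv hf l c ∈ M := fun l hl c hc => hM1 (hstvH l hl c hc)
  have hrootM : ∀ a ∈ L, ∀ b ∈ L, f a b = 0 → root hf a b ∈ M := fun a ha b hb h => hM1 (hrootH a ha b hb h)
  have hconj : ∀ {h u : GL ι F}, h ∈ M → u ∈ M → h * u * h⁻¹ ∈ M := fun hh hu =>
    M.mul_mem (M.mul_mem hh hu) (M.inv_mem hh)
  -- transvections at rational points
  have htrans : ∀ l₁ ∈ L, l₁ ≠ 0 → ∀ c, stv hf l₁ c ∈ M → ∀ x ∈ L, stv hf x c ∈ M := by
    intro l₁ hl₁ hl₁0 c hc x hx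
    rcases eq_or_ne x 0 with rfl | hx0
    · have : stv hf (0 : ι → F) c = 1 := by
        apply gl_ext; intro y; rw [act_stv hf, act_one]; simp
      rw [this]; exact M.one_mem
    have step : ∀ a ∈ L, ∀ b ∈ L, f a b ≠ 0 → stv hf a c ∈ M → stv hf b c ∈ M := by
      intro a ha b hb hab h
      have := hconj (hstvM (b - a) (L.sub_mem hb ha) (1 / f a b) (F₀.div_mem hone (hP a ha b hb))) h
      rwa [conj_stv hf (stv_mem hf _ _), act_stv hf, f_sub_right hf, f_self hf, sub_zero,
        one_div_mul_cancel hab, one_smul, add_sub_cancel] at this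
    obtain ⟨z, hz, hz1, hz2⟩ : ∃ z ∈ L, f l₁ z ≠ 0 ∧ f z x ≠ 0 := by
      by_cases hdep : ∃ e ∈ F₀, x = e • l₁
      · obtain ⟨e, he, rfl⟩ := hdep
        obtain ⟨z, hz, hz1⟩ := hdual1 l₁ hl₁ hl₁0
        have he0 : e ≠ 0 := by rintro rfl; simp at hx0
        refine ⟨z, hz, by rw [hz1]; exact one_ne_zero, ?_⟩
        rw [f_smul_right hf, f_skew hf z, hz1]; simpa using he0
      · push Not at hdep
        obtain ⟨z₁, hz₁, u1, u2⟩ := hdual2 l₁ hl₁ x hx hl₁0 hdep
        have hdep' : ∀ e ∈ F₀, l₁ ≠ e • x := by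
          intro e he h
          have he0 : e ≠ 0 := by rintro rfl; exact hl₁0 (by rw [h, zero_smul])
          exact hdep e⁻¹ (F₀.inv_mem he) (by rw [h, inv_smul_smul₀ he0])
        obtain ⟨z₂, hz₂, w1, w2⟩ := hdual2 x hx l₁ hl₁ hx0 hdep'
        refine ⟨z₁ + z₂, L.add_mem hz₁ hz₂, ?_, ?_⟩
        · rw [f_add_right hf, u2, w1, zero_add]; exact one_ne_zero
        · apply f_ne_symm hf; rw [f_add_right hf, u1, w2, add_zero]; exact one_ne_zero
    exact step z hz x hx hz2 (step l₁ hl₁ z hz hz1 hc)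
  have h2 : (2 : F) = 0 := CharTwo.two_eq_zero
  -- a rational pair spanning a totally singular line, with duals
  have hline : ∀ a ∈ L, a ≠ 0 → ∃ a' ∈ L, ∃ b ∈ L, ∃ b' ∈ L, f a a' = 1 ∧ f b b' = 1 ∧ f a b = 0 ∧
      f a b' = 0 ∧ f a' b = 0 ∧ f a' b' = 0 := by
    intro a ha ha0
    obtain ⟨a', ha', haa'⟩ := hdual1 a ha ha0
    obtain ⟨b, hb, hbo, hb0⟩ := hLdim {a, a'} (by simp [ha, ha']) (by
      refine lt_of_le_of_lt Finset.card_le_two ?_; omega)
    obtain ⟨b₀, hb₀, hbb⟩ := hdual1 b hb hb0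
    have hab : f a b = 0 := hbo a (by simp)
    have ha'b : f a' b = 0 := hbo a' (by simp)
    refine ⟨a', ha', b, hb, b₀ - f a b₀ • a' + f a' b₀ • a,
      L.add_mem (L.sub_mem hb₀ (ratVec_smul (hP a ha b₀ hb₀) ha')) (ratVec_smul (hP a' ha' b₀ hb₀) ha),
      haa', ?_, hab, ?_, ha'b, ?_⟩
    · simp only [f_add_right hf, f_sub_right hf, f_smul_right hf, f_eq_zero_symm hf hab,
        f_eq_zero_symm hf ha'b, hbb]
      ring
    · simp only [f_add_right hf, f_sub_right hf, f_smul_right hf, f_self hf, haa']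
      ring
    · simp only [f_add_right hf, f_sub_right hf, f_smul_right hf, f_self hf, f_skew hf a' a, haa']
      ring
  -- moves of the line of `a`, `b`
  have hmoveL : ∀ a ∈ L, ∀ a' ∈ L, ∀ b ∈ L, f a a' = 1 → f a b = 0 → f a' b = 0 → ∀ d ∈ F₀,
      ∃ u ∈ M, u ∈ isoGroup f ∧ act u a = a + d • b ∧ act u b = b := by
    intro a ha a' ha' b hb haa' hab ha'b d hd
    have hk : f a' (d • b) = 0 := by rw [f_smul_right hf, ha'b, mul_zero]
    refine ⟨_, hrootM a' ha' (d • b) (ratVec_smul hd hb) hk, root_mem hf _ _, ?_, ?_⟩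
    · rw [act_root hf hk, haa', f_smul_right hf, hab]; simp
    · rw [act_root hf hk, f_eq_zero_symm hf ha'b, f_smul_right hf, f_self hf]; simp
  have hmoveR : ∀ a ∈ L, ∀ b ∈ L, ∀ b' ∈ L, f b b' = 1 → f a b = 0 → f a b' = 0 → ∀ d ∈ F₀,
      ∃ u ∈ M, u ∈ isoGroup f ∧ act u a = a ∧ act u b = b + d • a := by
    intro a ha b hb b' hb' hbb' hab hab' d hd
    obtain ⟨u, hu, hui, h1, h2⟩ := hmoveL b hb b' hb' a ha hbb' (f_eq_zero_symm hf hab)
      (f_eq_zero_symm hf hab') d hd
    exact ⟨u, hu, hui, h2, h1⟩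
  -- an irrational coefficient of a pair of transvections
  obtain ⟨a, a', b, b', c₁, ha, ha', hb, hb', haa', hbb', hab, hab', ha'b, hc₁, hpair⟩ :
      ∃ a a' b b' c, a ∈ L ∧ a' ∈ L ∧ b ∈ L ∧ b' ∈ L ∧ f a a' = 1 ∧ f b b' = 1 ∧ f a b = 0 ∧
        f a b' = 0 ∧ f a' b = 0 ∧ c ∉ F₀ ∧ SymMem f M a b c 0 c := by
    by_cases hpts : ∀ x ∈ L, ∃ (s : F) (y : ι → F), y ∈ L ∧ act g x = s • y
    · choose! s y hy hgxy using hpts
      have hne : ∀ x ∈ L, x ≠ 0 → s x ≠ 0 ∧ y x ≠ 0 := by
        intro x hx hx0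
        have h1 : act g x ≠ 0 := fun h => hx0 (act_injective g (h.trans (map_zero _).symm))
        rw [hgxy x hx] at h1
        exact smul_ne_zero_iff.1 h1
      by_cases hsq : ∃ x ∈ L, x ≠ 0 ∧ s x ^ 2 ∉ F₀
      · obtain ⟨x, hx, hx0, hx2⟩ := hsq
        obtain ⟨a', ha', b, hb, b', hb', haa', hbb', hab, hab', ha'b, -⟩ := hline _ (hy x hx) (hne x hx hx0).2
        have hxM : stv hf (y x) (s x ^ 2) ∈ M := by
          have := hconj hgM (hstvM x hx 1 hone)
          rwa [conj_stv hf hgf, hgxy x hx, stv_smul, mul_one] at this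
        have hbM := htrans _ (hy x hx) (hne x hx hx0).2 _ hxM b hb
        refine ⟨y x, a', b, b', s x ^ 2, hy x hx, ha', hb, hb', haa', hbb', hab, hab', ha'b, hx2,
          _, M.mul_mem hxM hbM, fun z => ?_⟩
        rw [act_mul, act_stv hf, act_stv hf]
        simp only [f_add_left hf, f_smul_left hf, f_eq_zero_symm hf hab]
        match_scalars <;> ring
      exfalso; apply hg
      obtain ⟨hs1, hy1⟩ := hne l₀ hl₀ hl₀0
      refine mem_subfieldSubgroup F₀ P hs1 fun x hx => ?_
      suffices h : ∃ e ∈ F₀, ∃ z ∈ L, act g x = (s l₀ * e) • z by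
        obtain ⟨e, he, z, hz, h⟩ := h
        rw [h, smul_smul, ← mul_assoc, inv_mul_cancel₀ hs1, one_mul]
        exact ratVec_smul he hz
      by_cases hdep : ∃ e ∈ F₀, x = e • l₀
      · obtain ⟨e, he, rfl⟩ := hdep
        exact ⟨e, he, y l₀, hy l₀ hl₀, by rw [map_smul, hgxy l₀ hl₀, smul_smul, mul_comm]⟩
      push Not at hdep
      have hx0 : x ≠ 0 := fun h => hdep 0 F₀.zero_mem (by rw [h, zero_smul])
      have hind : ∀ e ∈ F₀, y x ≠ e • y l₀ := by
        intro e he h
        have h1 : x = (s x * e / s l₀) • l₀ := by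
          apply act_injective g
          rw [map_smul, hgxy l₀ hl₀, hgxy x hx, h, smul_smul, smul_smul]
          congr 1; field_simp
        exact hdep _ (hscal l₀ hl₀ hl₀0 _ (h1 ▸ hx)) h1
      have hind' : ∀ e ∈ F₀, y l₀ ≠ e • y x := by
        intro e he h
        have he0 : e ≠ 0 := by rintro rfl; exact hy1 (by rw [h, zero_smul])
        exact hind e⁻¹ (F₀.inv_mem he) (by rw [h, inv_smul_smul₀ he0])
      obtain ⟨c, hc, c1, c0⟩ := hdual2 _ (hy l₀ hl₀) _ (hy x hx) hy1 hind
      obtain ⟨c', hc', c1', c0'⟩ := hdual2 _ (hy x hx) _ (hy l₀ hl₀) (hne x hx hx0).2 hind'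
      have hsum : x + l₀ ∈ L := L.add_mem hx hl₀
      have h3 := hgxy _ hsum
      rw [map_add, hgxy x hx, hgxy l₀ hl₀] at h3
      have k1 : s x = s (x + l₀) * f (y (x + l₀)) c := by
        have := congrArg (flin hf.bilinear c) h3
        simpa [flin_apply, f_add_left hf, f_smul_left hf, c1, c0] using this
      have k2 : s l₀ = s (x + l₀) * f (y (x + l₀)) c' := by
        have := congrArg (flin hf.bilinear c') h3
        simpa [flin_apply, f_add_left hf, f_smul_left hf, c1', c0'] using this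
      refine ⟨s x / s l₀, ?_, y x, hy x hx, by rw [mul_div_cancel₀ _ hs1, hgxy x hx]⟩
      have h0 : s (x + l₀) ≠ 0 := fun h => hs1 (by rw [k2, h, zero_mul])
      rw [k1, k2, mul_div_mul_left _ _ h0]
      exact F₀.div_mem (hP _ (hy _ hsum) _ hc) (hP _ (hy _ hsum) _ hc')
    push Not at hpts
    obtain ⟨x, hx, hxirr⟩ := hpts
    obtain ⟨v, hvdef⟩ : ∃ v, v = act g x := ⟨_, rfl⟩
    have hvM : stv hf v 1 ∈ M := by
      have := hconj hgM (hstvM x hx 1 hone)
      rwa [conj_stv hf hgf, ← hvdef] at this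
    have hvirr : ∀ s : F, s ≠ 0 → s • v ∉ L := fun s hs h =>
      hxirr s⁻¹ _ h (by rw [hvdef, inv_smul_smul₀ hs])
    have hsame : ∀ {u w : ι → F}, f u w = f w u := fun {u w} => by
      rw [f_skew hf, CharTwo.neg_eq]
    obtain ⟨a, ha, hA⟩ : ∃ a ∈ L, f v a ∉ F₀ := by
      by_contra h; push Not at h
      exact hvirr 1 one_ne_zero (by rw [one_smul]; exact hrat v fun y hy => hsame ▸ h y hy)
    have ha0 : a ≠ 0 := fun h => hA (by rw [h, f_zero_right hf]; exact F₀.zero_mem)
    obtain ⟨a', ha', b, hb, b', hb', haa', hbb', hab, hab', ha'b, -⟩ := hline a ha ha0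
    obtain ⟨A, hAdef⟩ : ∃ A, A = f v a := ⟨_, rfl⟩
    obtain ⟨B, hBdef⟩ : ∃ B, B = f v b := ⟨_, rfl⟩
    have h3 : stv hf (v + A • a) 1 ∈ M := by
      have := hconj (hstvM a ha 1 hone) hvM
      rwa [conj_stv hf (stv_mem hf _ _), act_stv hf, one_mul, ← hAdef] at this
    have h4 : stv hf (v + (A • b + B • a)) 1 ∈ M := by
      have := hconj (hrootM a ha b hb hab) hvM
      rwa [conj_stv hf (root_mem hf a b), act_root hf hab, ← hAdef, ← hBdef, add_assoc] at this
    have h5 : stv hf (v + A • a + (A • b + B • a)) 1 ∈ M := by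
      have := hconj (hrootM a ha b hb hab) h3
      rwa [conj_stv hf (root_mem hf a b), act_root hf hab, f_add_left hf, f_smul_left hf, f_self hf,
        mul_zero, add_zero, f_add_left hf, f_smul_left hf, hab, mul_zero, add_zero, ← hAdef, ← hBdef,
        add_assoc] at this
    -- a symmetric matrix with an irrational entry
    have hE : SymMem f M a b (A * A * (B * B)) (A * A + A * A * (A * B)) (A * A * (A * A)) := by
      refine ⟨_, M.mul_mem (M.mul_mem hvM h4) (M.mul_mem h3 h5), fun x => ?_⟩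
      rw [act_mul, act_mul, act_mul, act_stv hf, act_stv hf, act_stv hf, act_stv hf]
      simp only [f_add_left hf, f_add_right hf, f_smul_left hf, f_smul_right hf, f_self hf, hab,
        f_eq_zero_symm hf hab, ← hAdef, ← hBdef, hsame (u := a) (w := v), hsame (u := b) (w := v)]
      have hev : ∀ (n : ℕ) [n.AtLeastTwo], 2 ∣ n → (OfNat.ofNat n : F) = 0 := fun n _ hn => by
        rw [← Nat.cast_ofNat (R := F) (n := n)]; exact (CharP.cast_eq_zero_iff F 2 _).2 hn
      match_scalars <;> refine sub_eq_zero.1 ?_ <;> ring_nf <;>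
        simp (disch := decide) [hev]
    obtain ⟨c, hcdef⟩ : ∃ c, c = A * A * (A * A) := ⟨_, rfl⟩
    rw [← hcdef] at hE
    refine ⟨a, a', b, b', c, ha, ha', hb, hb', haa', hbb', hab, hab', ha'b, fun hmem => ?_, ?_⟩
    · have hsqrt : ∀ t : F, t * t ∈ F₀ → t ∈ F₀ := by
        intro t ht
        obtain ⟨y, hy⟩ := FiniteField.isSquare_of_char_two (F := F₀)
          (ringChar.eq_iff.2 (CharTwo.of_one_ne_zero_of_two_eq_zero one_ne_zero
            (Subtype.ext (h2 : (2 : F) = 0)))) ⟨t * t, ht⟩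
        have e : t * t = (y : F) * (y : F) := congrArg Subtype.val hy
        have : (t - (y : F)) * (t - (y : F)) = 0 := by
          linear_combination e + ((y : F) * (y : F) - t * (y : F)) * h2
        rw [sub_eq_zero.1 (mul_self_eq_zero.1 this)]; exact y.2
      exact hA (hAdef ▸ hsqrt A (hsqrt _ (hcdef ▸ hmem)))
    · obtain ⟨u, hu, hui, hua, hub⟩ := hmoveR a ha b hb b' hb' hbb' hab hab' 1 hone
      have hD : SymMem f M a b c c 0 := by
        refine ((hE.conj hu hui hua hub).shear_right hf |>.add hf hab hE).congr ?_ ?_ ?_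
        · linear_combination (A * A + A * A * (A * B) + A * A * (B * B)) * h2
        · linear_combination (A * A + A * A * (A * B)) * h2
        · exact CharTwo.add_self_eq_zero _
      obtain ⟨u', hu', hui', hua', hub'⟩ := hmoveL a ha a' ha' b hb haa' hab ha'b 1 hone
      refine ((hD.conj hu' hui' hua' hub').shear_left hf).congr rfl ?_ ?_
      · linear_combination c * h2
      · linear_combination c * h2
  -- the coefficients form a field
  let C : Set F := {c | SymMem f M a b c 0 c}
  have hb0 : b ≠ 0 := fun h => one_ne_zero (α := F) (by rw [← hbb', h, f_zero_left hf])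
  have hC₀ : ∀ e ∈ F₀, e ∈ C := fun e he =>
    ⟨stv hf a e * stv hf b e, M.mul_mem (hstvM a ha e he) (hstvM b hb e he), fun x => by
      rw [act_mul, act_stv hf, act_stv hf]
      simp only [f_add_left hf, f_smul_left hf, f_eq_zero_symm hf hab]
      match_scalars <;> ring⟩
  have hCadd : ∀ s t, s ∈ C → t ∈ C → s + t ∈ C := fun s t hs ht =>
    (SymMem.add hf hab hs ht).congr rfl (add_zero 0) rfl
  -- shears of the pairs
  obtain ⟨uR, huR, huRi, huRa, huRb⟩ := hmoveR a ha b hb b' hb' hbb' hab hab' 1 hone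
  obtain ⟨uL, huL, huLi, huLa, huLb⟩ := hmoveL a ha a' ha' b hb haa' hab ha'b 1 hone
  have hleft : ∀ t ∈ C, SymMem f M a b t t 0 := fun t ht =>
    ((SymMem.conj ht huL huLi huLa huLb).shear_left hf).congr rfl (by ring)
      (by linear_combination t * h2)
  have hright : ∀ t ∈ C, SymMem f M a b 0 t t := fun t ht =>
    ((SymMem.conj ht huR huRi huRa huRb).shear_right hf).congr (by linear_combination t * h2)
      (by ring) rfl
  have hdiag : ∀ q t, SymMem f M a b 0 q t → t ∈ C := by
    intro q t h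
    have h1 : SymMem f M a b t t 0 :=
      (((h.conj huR huRi huRa huRb).shear_right hf).add hf hab h).congr
        (by linear_combination q * h2) (by linear_combination q * h2) (CharTwo.add_self_eq_zero t)
    exact ((h1.conj huL huLi huLa huLb).shear_left hf).congr rfl (by linear_combination t * h2)
      (by linear_combination t * h2)
  have hswap : ∀ t ∈ C, SymMem f M a' b 0 t t := by
    intro t ht
    have hm : stv hf (a + a') 1 ∈ M := hstvM _ (L.add_mem ha ha') 1 hone
    refine (hright t ht).conj hm (stv_mem hf _ _) ?_ ?_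
    · rw [act_stv hf, f_add_right hf, f_self hf, haa', zero_add, one_mul, one_smul, ← add_assoc]
      ext i; simp only [Pi.add_apply]; linear_combination a i * h2
    · rw [act_stv hf, f_add_right hf, f_eq_zero_symm hf hab, f_eq_zero_symm hf ha'b]; simp
  -- the product of the pairs
  have hprod : ∀ s ∈ C, ∀ d ∈ C, SymMem f M a b 0 (s * d) (s * (d * d)) := by
    intro s hs d hd
    obtain ⟨g', hg', hg'x⟩ := hswap d hd
    have hgi : g' ∈ isoGroup f := hM2 hg'
    have e1 : act g' a = a + d • b := by rw [hg'x, hab, haa']; simp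
    have e2 : act g' b = b := by rw [hg'x, f_eq_zero_symm hf ha'b, f_self hf]; simp
    have h1 := ((hleft s hs).conj hg' hgi e1 e2).shear_left hf
    exact (h1.add hf hab (hleft s hs)).congr (CharTwo.add_self_eq_zero s)
      (by linear_combination s * h2) (by linear_combination s * d * h2)
  have hCmul : ∀ s t, s ∈ C → t ∈ C → s * t ∈ C := by
    intro s t hs ht
    let sq : C → C := fun c => ⟨(c : F) * c, by
      have := hdiag _ _ (hprod 1 (hC₀ 1 hone) c c.2)
      rwa [one_mul] at this⟩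
    have hinj : Function.Injective sq := by
      rintro ⟨x, hx⟩ ⟨y, hy⟩ h
      have e : x * x = y * y := congrArg Subtype.val h
      apply Subtype.ext
      exact sub_eq_zero.1 (mul_self_eq_zero.1 (by linear_combination e + (y * y - x * y) * h2))
    obtain ⟨⟨t', ht'⟩, et⟩ := (Finite.injective_iff_surjective.1 hinj) ⟨t, ht⟩
    have et' : t' * t' = t := congrArg Subtype.val et
    rw [← et']
    exact hdiag _ _ (hprod s hs t' ht')
  have hCall : ∀ c : F, c ∈ C := by
    let S : Subalgebra F₀ F :=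
      { carrier := C
        mul_mem' := fun {x y} => hCmul x y
        one_mem' := hC₀ 1 hone
        add_mem' := fun {x y} => hCadd x y
        zero_mem' := hC₀ 0 F₀.zero_mem
        algebraMap_mem' := fun e => hC₀ (e : F) e.2 }
    haveI := Subalgebra.isSimpleOrder_of_finrank_prime F₀ F (hrank ▸ hr)
    rcases IsSimpleOrder.eq_bot_or_eq_top S with h | h
    · exfalso
      have : c₁ ∈ S := hpair
      rw [h, Algebra.mem_bot] at this
      obtain ⟨e, he⟩ := this
      exact hc₁ (he ▸ e.2)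
    · intro c
      have : c ∈ S := h ▸ trivial
      exact this
  -- every transvection at `b`
  have hball : ∀ c, stv hf b c ∈ M := by
    intro c
    have hd : c₁ ≠ 0 ∧ c₁ + 1 ≠ 0 := by
      refine ⟨fun h => hc₁ (h ▸ F₀.zero_mem), fun h => hc₁ ?_⟩
      rw [eq_neg_of_add_eq_zero_left h]; exact F₀.neg_mem hone
    obtain ⟨s, hs⟩ : ∃ s, s = c / (c₁ * (c₁ + 1)) := ⟨_, rfl⟩
    have hsum : s * (c₁ * c₁) + s * c₁ = c := by
      rw [hs]; field_simp [hd.1, hd.2]
    refine SymMem.stv_right hf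
      (((hprod s (hCall s) c₁ (hCall c₁)).add hf hab (hright _ (hCall (s * c₁)))).congr
        (add_zero 0) (CharTwo.add_self_eq_zero _) hsum)
  have hLfull : ∀ x ∈ L, ∀ s : F, Full hf M (s • x) := fun x hx s =>
    full_smul hf (fun c => htrans b hb hb0 c (hball c) x hx) s
  have hshift : ∀ u, Full hf M u → ∀ l ∈ L, ∀ α : F, Full hf M (u + α • l) := by
    intro u hu l hl α
    by_cases h0 : f u l = 0
    swap
    · exact full_add hf (by simpa using hLfull l hl 1) hu h0 α
    by_cases hFL : ∃ s : F, ∃ x ∈ L, u + α • l = s • x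
    · obtain ⟨s, x, hx, e⟩ := hFL
      rw [e]; exact hLfull x hx s
    rcases eq_or_ne α 0 with rfl | hα
    · simpa using hu
    rcases eq_or_ne l 0 with rfl | hl0
    · simpa using hu
    obtain ⟨y, hy, y1, y2, y3⟩ : ∃ y ∈ L, f u y ≠ 0 ∧ f y l ≠ 0 ∧ f u y + α * f l y ≠ 0 := by
      by_contra hno; push Not at hno
      apply hFL
      obtain ⟨y₀, hy₀, hy₁⟩ := hdual1 l hl hl0
      have main : ∀ y ∈ L, f l y ≠ 0 → f y u / α ∈ F₀ := by
        intro y hy hly
        rw [f_skew hf y u]
        by_cases h : f u y = 0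
        · rw [h, neg_zero, zero_div]; exact F₀.zero_mem
        · rw [eq_neg_of_add_eq_zero_left (hno y hy h (f_ne_symm hf hly)), neg_neg,
            mul_div_cancel_left₀ _ hα]
          exact hP l hl y hy
      have hall : ∀ y ∈ L, f y u / α ∈ F₀ := by
        intro y hy
        by_cases hly : f l y = 0
        · have k1 := main (y + y₀) (L.add_mem hy hy₀) (by
            rw [f_add_right hf, hly, hy₁, zero_add]; exact one_ne_zero)
          have k2 := main y₀ hy₀ (by rw [hy₁]; exact one_ne_zero)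
          have := F₀.sub_mem k1 k2
          rwa [f_add_left hf, add_div, add_sub_cancel_right] at this
        · exact main y hy hly
      have hw : α⁻¹ • u ∈ L := hrat _ fun y hy => by
        rw [f_smul_right hf, inv_mul_eq_div]; exact hall y hy
      exact ⟨α, α⁻¹ • u + l, L.add_mem hw hl, by rw [smul_add, smul_inv_smul₀ hα]⟩
    have hyf : Full hf M y := by simpa using hLfull y hy 1
    have hlf : Full hf M l := by simpa using hLfull l hl 1
    have s1 := full_add hf hyf hu y1 1
    have s2 := full_add hf hlf s1 (by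
      rw [f_add_left hf, f_smul_left hf, h0, zero_add, one_mul]; exact y2) α
    have s3 := full_add hf hyf s2 (by
      simp only [f_add_left hf, f_smul_left hf, f_self hf, mul_zero, add_zero]; exact y3) (-1)
    convert s3 using 1
    module
  refine le_antisymm hM2 (isoGroup_le_of_full hf M fun v => ?_)
  have key : ∀ s : Finset ι, Full hf M (∑ i ∈ s, (act P⁻¹ v) i • act P (Pi.single i 1)) := by
    intro s
    induction s using Finset.induction_on with
    | empty => simpa using full_zero hf M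
    | insert i s his ih =>
      rw [Finset.sum_insert his, add_comm]
      exact hshift _ ih _ (ratVec_basis F₀ P i) _
  have e : v = ∑ i, (act P⁻¹ v) i • act P (Pi.single i 1) := by
    conv_lhs => rw [← act_act_inv P v, pi_eq_sum_univ' (act P⁻¹ v), map_sum]
    exact Finset.sum_congr rfl fun i _ => by rw [map_smul]
  rw [e]; exact key _

end Cfsg.Agent.MaxCl
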