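/-
An orthogonal space with tensor coordinates over two symplectic factors: the root elements `1 ⊗ t`, and the rigidity
consequence: if every element of an overgroup `M` of the stabiliser normalising a root group is a tensor product,
every element of `M` is.
-/
import Mathlib
import Cfsg.Agent.Lib.MaxCl.TensorPreserve
import Cfsg.Agent.Lib.MaxCl.FixedRootCore
import Cfsg.Agent.Lib.MaxCl.OrthTensorPairing

set_option autoImplicit false

namespace Cfsg.Agent.MaxCl.TensSp

open scoped MatrixGroups Matrix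
open Module (finrank)
open Tens

variable {ι : Type} [Fintype ι] [DecidableEq ι] {F : Type*} [Field F] {n₁ n₂ : ℕ}
variable {T : TSys ι F n₁ n₂} {Q : QuadraticForm F (ι → F)}
variable {f₁ : (Fin n₁ → F) → (Fin n₁ → F) → F} {f₂ : (Fin n₂ → F) → (Fin n₂ → F) → F} {c : F}
variable {M : Subgroup (GL ι F)}

set_option quotPrecheck false in
local notation "B" => QuadraticMap.polar (⇑Q)

/-- an overgroup of the stabiliser of a tensor decomposition into two symplectic spaces -/
structure SCtx (T : TSys ι F n₁ n₂) (Q : QuadraticForm F (ι → F))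
    (f₁ : (Fin n₁ → F) → (Fin n₁ → F) → F) (f₂ : (Fin n₂ → F) → (Fin n₂ → F) → F) (c : F)
    (M : Subgroup (GL ι F)) : Prop where
  hQ : (QuadraticMap.polarBilin Q).Nondegenerate
  five : 5 ≤ Fintype.card ι
  h₁ : Cfsg.Geo.IsSymplecticForm f₁
  h₂ : Cfsg.Geo.IsSymplecticForm f₂
  c_ne : c ≠ 0
  sing : ∀ u v, Q (pt T u v) = 0
  form : ∀ u v u' v', QuadraticMap.polar (⇑Q) (pt T u v) (pt T u' v') = c * (f₁ u u' * f₂ v v')
  two_le : 2 ≤ n₁
  four_le : n₁ ≠ 2 → 4 ≤ n₁
  lt : n₁ < n₂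
  six : 6 ≤ n₂
  hex : ¬ (n₁ = 2 ∧ ∀ x : F, x = 0 ∨ x = 1)
  le : M ≤ Cfsg.Geo.omegaGL Q
  ge : ∀ a b, gl T a b ∈ Cfsg.Geo.omegaGL Q → gl T a b ∈ M

/-- contraction against `w` -/
noncomputable def proj (T : TSys ι F n₁ n₂) (h₂ : Cfsg.Geo.IsSymplecticForm f₂) (w : Fin n₂ → F) :
    (ι → F) →ₗ[F] (Fin n₁ → F) := cR T (flin h₂.bilinear w)

/-- the root element `1 ⊗ (x ↦ x + d f₂(x, w) w)` -/
noncomputable def rt (T : TSys ι F n₁ n₂) (h₂ : Cfsg.Geo.IsSymplecticForm f₂) (w : Fin n₂ → F) (d : F) :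
    GL ι F := gl T 1 (stv h₂ w d)

theorem proj_pt (h₂ : Cfsg.Geo.IsSymplecticForm f₂) (w : Fin n₂ → F) (u : Fin n₁ → F) (v : Fin n₂ → F) :
    proj T h₂ w (pt T u v) = f₂ v w • u := cR_pt T _ u v

theorem act_rt (h₂ : Cfsg.Geo.IsSymplecticForm f₂) (w : Fin n₂ → F) (d : F) (x : ι → F) :
    act (rt T h₂ w d) x = x + d • pt T (proj T h₂ w x) w := by
  let R : (ι → F) →ₗ[F] (ι → F) := LinearMap.id + d • (ptL T w ∘ₗ proj T h₂ w)
  have : act (rt T h₂ w d) = R := by
    refine pt_ext T fun u v => ?_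
    show act (gl T 1 _) (pt T u v) = pt T u v + d • pt T (proj T h₂ w (pt T u v)) w
    rw [act_gl_pt, act_one, act_stv h₂, pt_add_right, pt_smul_right, proj_pt, pt_smul_left, smul_smul]
  rw [this]; rfl

theorem rt_mul (h₂ : Cfsg.Geo.IsSymplecticForm f₂) (w : Fin n₂ → F) (d d' : F) :
    rt T h₂ w d * rt T h₂ w d' = rt T h₂ w (d + d') := by
  rw [rt, rt, gl_mul, one_mul, stv_add h₂, rt]

theorem rt_zero (h₂ : Cfsg.Geo.IsSymplecticForm f₂) (w : Fin n₂ → F) : rt T h₂ w 0 = 1 := by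
  rw [rt, stv_zero h₂, gl_one]

theorem rt_pow (h₂ : Cfsg.Geo.IsSymplecticForm f₂) (w : Fin n₂ → F) (d : F) (n : ℕ) :
    rt T h₂ w d ^ n = rt T h₂ w (n * d) := by
  induction n with
  | zero => rw [pow_zero, Nat.cast_zero, zero_mul, rt_zero]
  | succ n ih => rw [pow_succ, ih, rt_mul h₂, Nat.cast_succ, add_mul, one_mul]

/-- a linear map with every vector an eigenvector is scalar -/
theorem exists_scalar_of_eigen {m : ℕ} (L : (Fin m → F) →ₗ[F] (Fin m → F)) (h : ∀ u, L u ∈ F ∙ u) :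
    ∃ k : F, ∀ u, L u = k • u := by
  by_cases hm : ∀ u : Fin m → F, u = 0
  · exact ⟨0, fun u => by rw [hm u, map_zero, smul_zero]⟩
  push Not at hm
  obtain ⟨u₀, hu₀⟩ := hm
  obtain ⟨k, hk⟩ := Submodule.mem_span_singleton.1 (h u₀)
  refine ⟨k, fun u => ?_⟩
  by_cases hu : u ∈ F ∙ u₀
  · obtain ⟨s, rfl⟩ := Submodule.mem_span_singleton.1 hu
    rw [map_smul, ← hk, smul_comm]
  obtain ⟨l, hl⟩ := Submodule.mem_span_singleton.1 (h u)
  obtain ⟨r, hr⟩ := Submodule.mem_span_singleton.1 (h (u + u₀))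
  have e : (r - l) • u = (k - r) • u₀ := by
    rw [map_add, ← hl, ← hk, smul_add] at hr
    linear_combination (norm := module) hr
  have hrl : r - l = 0 := by
    by_contra hne
    exact hu (Submodule.mem_span_singleton.2 ⟨(r - l)⁻¹ * (k - r), by rw [mul_smul, ← e, inv_smul_smul₀ hne]⟩)
  rw [hrl, zero_smul, eq_comm, smul_eq_zero, or_iff_left hu₀, sub_eq_zero] at e
  rw [← hl, e, sub_eq_zero.1 hrl]

/-- the stabiliser of a vector -/
def stabVec (x : ι → F) : Subgroup (GL ι F) where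
  carrier := {g | act g x = x}
  mul_mem' {a b} ha hb := by
    show act (a * b) x = x
    rw [act_mul, (show act b x = x from hb), (show act a x = x from ha)]
  one_mem' := act_one x
  inv_mem' {a} ha := by
    show act a⁻¹ x = x
    conv_lhs => rw [← (show act a x = x from ha)]
    exact act_inv_act a x

/-- isometries of a symplectic space move every non-zero vector to every other -/
theorem exists_move {m : ℕ} {h : (Fin m → F) → (Fin m → F) → F} (hh : Cfsg.Geo.IsSymplecticForm h)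
    {x y : Fin m → F} (hx : x ≠ 0) (hy : y ≠ 0) : ∃ g ∈ isoGroup h, act g x = y := by
  refine SP.trans_all hh (Φ := fun z => ∃ g ∈ isoGroup h, act g x = z) (fun v d a ha => ?_) hx
    ⟨1, one_mem _, act_one x⟩ hy
  obtain ⟨g, hg, rfl⟩ := ha
  exact ⟨_, mul_mem (stv_mem hh v d) hg, act_mul _ _ _⟩

variable (C : SCtx T Q f₁ f₂ c M)
include C

theorem n₁_pos : 0 < n₁ := lt_of_lt_of_le two_pos C.two_le

theorem exists_ne_two : ∃ u u', f₁ u u' ≠ 0 := by
  have h0 : (Pi.single ⟨0, n₁_pos C⟩ 1 : Fin n₁ → F) ≠ 0 := by simp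
  obtain ⟨x, hx⟩ := (C.h₁.nondegenerate _ h0).2
  exact ⟨_, x, hx⟩

/-- the pairing `(u, v) ↦ u ⊗ v` -/
theorem pairing : OPair.Pairing Q f₁ f₂ c
    (LinearMap.mk₂ F (pt T) (pt_add_left T) (pt_smul_left T) (pt_add_right T) (fun k u v => pt_smul_right T k u v)) where
  hQ := C.hQ
  five := C.five
  h₁ := C.h₁
  h₂ := C.h₂
  c_ne := C.c_ne
  sing := C.sing
  form := C.form
  ext L hL := pt_ext T fun u v => by simpa using hL u v

theorem form_right (x : ι → F) (u : Fin n₁ → F) (w : Fin n₂ → F) :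
    B x (pt T u w) = c * f₁ (proj T C.h₂ w x) u := by
  let L : (ι → F) →ₗ[F] F := c • (flin C.h₁.bilinear u ∘ₗ proj T C.h₂ w)
  have : (QuadraticMap.polarBilin Q).flip (pt T u w) = L := by
    refine pt_ext T fun a b => ?_
    show B (pt T a b) (pt T u w) = c * f₁ (proj T C.h₂ w (pt T a b)) u
    rw [C.form, proj_pt, f_smul_left C.h₁]; ring
  exact LinearMap.congr_fun this x

theorem eq_zero_of_f₁ {p : Fin n₁ → F} (h : ∀ u, f₁ p u = 0) : p = 0 := by
  by_contra hp
  obtain ⟨u, hu⟩ := (C.h₁.nondegenerate p hp).2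
  exact hu (h u)

/-- similitudes with inverse multipliers give isometries -/
theorem gl_mem_iso {a : GL (Fin n₁) F} {b : GL (Fin n₂) F} {μ ν : F}
    (ha : ∀ x y, f₁ (act a x) (act a y) = μ * f₁ x y) (hb : ∀ x y, f₂ (act b x) (act b y) = ν * f₂ x y)
    (hμν : μ * ν = 1) : gl T a b ∈ isometryGroup F Q := by
  set g := gl T a b with hg
  have hB : ∀ x y, B (act g x) (act g y) = B x y := by
    have h1 : ∀ y u v, B (act g y) (act g (pt T u v)) = B y (pt T u v) := by
      intro y u v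
      let L : (ι → F) →ₗ[F] F := (QuadraticMap.polarBilin Q).flip (act g (pt T u v)) ∘ₗ act g
      have : L = (QuadraticMap.polarBilin Q).flip (pt T u v) := pt_ext T fun u' v' => by
        show B (act g (pt T u' v')) (act g (pt T u v)) = B (pt T u' v') (pt T u v)
        rw [hg, act_gl_pt, act_gl_pt, C.form, C.form, ha, hb]
        linear_combination (c * f₁ u' u * f₂ v' v) * hμν
      exact LinearMap.congr_fun this y
    intro x y
    let L : (ι → F) →ₗ[F] F := QuadraticMap.polarBilin Q (act g x) ∘ₗ act g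
    have : L = QuadraticMap.polarBilin Q x := pt_ext T fun u v => h1 x u v
    exact LinearMap.congr_fun this y
  refine (Orth.mem_iso Q).2 fun x => ?_
  let S : Submodule F (ι → F) :=
    { carrier := {x | Q (act g x) = Q x}
      add_mem' := fun {x y} hx hy => by
        show Q (act g (x + y)) = Q (x + y)
        rw [map_add, Orth.Q_add Q, Orth.Q_add Q, hB, (show Q (act g x) = Q x from hx),
          (show Q (act g y) = Q y from hy)]
      zero_mem' := by show Q (act g 0) = Q 0; rw [map_zero]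
      smul_mem' := fun k x hx => by
        show Q (act g (k • x)) = Q (k • x)
        rw [map_smul, Orth.Q_smul Q, Orth.Q_smul Q, (show Q (act g x) = Q x from hx)] }
  show x ∈ S
  rw [sum_pt T x]
  refine S.sum_mem fun i _ => S.sum_mem fun j _ => S.smul_mem _ ?_
  show Q (act g (pt T _ _)) = Q (pt T _ _)
  rw [hg, act_gl_pt, C.sing, C.sing]

theorem mem_iso_of_mem {g : GL ι F} (hg : g ∈ M) : g ∈ isometryGroup F Q := Orth.omega_le_iso (C.le hg)

variable [Finite F]

theorem gl_left_mem {a : GL (Fin n₁) F} (ha : a ∈ isoGroup f₁) : gl T a 1 ∈ M := by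
  refine C.ge a 1 ?_
  let S : Subgroup (GL (Fin n₁) F) :=
    { carrier := {a | gl T a 1 ∈ Cfsg.Geo.omegaGL Q}
      mul_mem' := fun {x y} hx hy => by
        show gl T (x * y) 1 ∈ Cfsg.Geo.omegaGL (⇑Q)
        rw [← one_mul (1 : GL (Fin n₂) F), ← gl_mul]; exact mul_mem hx hy
      one_mem' := by show gl T 1 1 ∈ Cfsg.Geo.omegaGL (⇑Q); rw [gl_one]; exact one_mem _
      inv_mem' := fun {x} hx => by
        show gl T x⁻¹ 1 ∈ Cfsg.Geo.omegaGL (⇑Q)
        rw [← inv_one, ← gl_inv]; exact inv_mem hx }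
  refine (isoGroup_le_of_full C.h₁ S fun v d => ?_) ha
  obtain ⟨g, hg, hact⟩ := OPair.transvection_mem_omega (pairing C) v d
  show gl T (stv C.h₁ v d) 1 ∈ Cfsg.Geo.omegaGL (⇑Q)
  convert hg using 1
  refine gl_ext_pt T fun u w => ?_
  rw [act_gl_pt, act_one, act_stv C.h₁, pt_add_left, pt_smul_left]
  exact (hact u w).symm

theorem gl_right_mem {b : GL (Fin n₂) F} (hb : b ∈ isoGroup f₂) : gl T 1 b ∈ M := by
  refine C.ge 1 b ?_
  let S : Subgroup (GL (Fin n₂) F) :=
    { carrier := {b | gl T 1 b ∈ Cfsg.Geo.omegaGL Q}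
      mul_mem' := fun {x y} hx hy => by
        show gl T 1 (x * y) ∈ Cfsg.Geo.omegaGL (⇑Q)
        rw [← one_mul (1 : GL (Fin n₁) F), ← gl_mul]; exact mul_mem hx hy
      one_mem' := by show gl T 1 1 ∈ Cfsg.Geo.omegaGL (⇑Q); rw [gl_one]; exact one_mem _
      inv_mem' := fun {x} hx => by
        show gl T 1 x⁻¹ ∈ Cfsg.Geo.omegaGL (⇑Q)
        rw [← inv_one, ← gl_inv]; exact inv_mem hx }
  refine (isoGroup_le_of_full C.h₂ S fun v d => ?_) hb
  obtain ⟨g, hg, hact⟩ := OPair.transvection_mem_omega (pairing C).flip v d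
  show gl T 1 (stv C.h₂ v d) ∈ Cfsg.Geo.omegaGL (⇑Q)
  convert hg using 1
  refine gl_ext_pt T fun u w => ?_
  rw [act_gl_pt, act_one, act_stv C.h₂, pt_add_right, pt_smul_right]
  exact (hact w u).symm

theorem rt_mem (w : Fin n₂ → F) (d : F) : rt T C.h₂ w d ∈ M := gl_right_mem C (stv_mem C.h₂ w d)

omit [Finite F] in
theorem rt_fix_iff {w : Fin n₂ → F} (hw0 : w ≠ 0) {d : F} (hd : d ≠ 0) {x : ι → F} :
    act (rt T C.h₂ w d) x = x ↔ proj T C.h₂ w x = 0 := by
  rw [act_rt C.h₂, add_eq_left, smul_eq_zero, or_iff_right hd, pt_eq_zero, or_iff_left hw0]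

/-- a tensor product conjugate to a root element is a root element -/
theorem rt_of_conj {g : GL ι F} (hg : g ∈ M) {w : Fin n₂ → F} (hw0 : w ≠ 0) {d : F} (hd0 : d ≠ 0)
    {a : GL (Fin n₁) F} {b : GL (Fin n₂) F} (h : g * rt T C.h₂ w d * g⁻¹ = gl T a b) :
    ∃ w' d', w' ≠ 0 ∧ d' ≠ 0 ∧ gl T a b = rt T C.h₂ w' d' := by
  have hy : gl T a b ∈ M := h ▸ M.mul_mem (M.mul_mem hg (rt_mem C w d)) (M.inv_mem hg)
  let D : (ι → F) →ₗ[F] (ι → F) := act (gl T a b) - LinearMap.id
  have hD : ∀ x, D x = act g (d • pt T (proj T C.h₂ w (act g⁻¹ x)) w) := by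
    intro x
    show act (gl T a b) x - x = _
    rw [← h, act_mul, act_mul, act_rt C.h₂, map_add, act_act_inv]; abel
  have hDD : ∀ x, D (D x) = 0 := by
    intro x
    rw [hD (D x), hD x, act_inv_act, map_smul (proj T C.h₂ w), proj_pt, C.h₂.alternating, zero_smul, smul_zero,
      pt_zero_left, smul_zero, map_zero]
  have hrank : finrank F (LinearMap.range D) ≤ n₁ := by
    have h1 : LinearMap.range D ≤ LinearMap.range (act g ∘ₗ ptL T w) := by
      rintro _ ⟨x, rfl⟩
      exact ⟨d • proj T C.h₂ w (act g⁻¹ x), by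
        show act g (pt T (d • proj T C.h₂ w (act g⁻¹ x)) w) = D x
        rw [hD, pt_smul_left]⟩
    refine (Submodule.finrank_mono h1).trans ((LinearMap.finrank_range_le _).trans_eq ?_)
    exact Module.finrank_fin_fun F
  have hsmall : ∀ {κ : Type _} [AddCommGroup κ] [Module F κ] [Module.Finite F κ] (L : κ →ₗ[F] (ι → F)),
      Function.Injective L → (∀ z, ∃ x, D x = L z) → finrank F κ ≤ n₁ := by
    intro κ _ _ _ L hL hr
    rw [← LinearMap.finrank_range_of_inj hL]
    refine (Submodule.finrank_mono ?_).trans hrank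
    rintro _ ⟨z, rfl⟩
    exact LinearMap.mem_range.2 (hr z)
  have hlt := C.lt
  -- the first factor is scalar
  obtain ⟨k, hk⟩ := exists_scalar_of_eigen (act a) fun u => by
    by_contra hu
    let L : (Fin n₂ → F) →ₗ[F] (ι → F) := ptR T (act a u) ∘ₗ act b - ptR T u
    have hL : Function.Injective L := by
      refine (injective_iff_map_eq_zero L).2 fun v hv => ?_
      by_contra hv0
      have e : pt T (act a u) (act b v) = pt T u v := sub_eq_zero.1 hv
      exact hu (mem_span_of_pt_eq' T e fun e0 => hv0 (act_injective b (by rw [e0, map_zero])))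
    have := hsmall L hL fun v => ⟨pt T u v, by
      show act (gl T a b) (pt T u v) - pt T u v = L v
      rw [act_gl_pt]; rfl⟩
    rw [Module.finrank_fin_fun] at this
    omega
  have h0 : (Pi.single ⟨0, n₁_pos C⟩ 1 : Fin n₁ → F) ≠ 0 := by simp
  let N : (Fin n₂ → F) →ₗ[F] (Fin n₂ → F) := k • act b - LinearMap.id
  have hN : ∀ u v, D (pt T u v) = pt T u (N v) := fun u v => by
    show act (gl T a b) (pt T u v) - pt T u v = pt T u (k • act b v - v)
    rw [act_gl_pt, hk, pt_smul_comm, pt_sub_right]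
  obtain ⟨v₀, hv₀⟩ : ∃ v, N v ≠ 0 := by
    by_contra hno; push Not at hno
    have hD0 : D = 0 := pt_ext T fun u v => by rw [hN, hno, pt_zero_right]; rfl
    obtain ⟨w', hw'⟩ := SP.exists_one C.h₂ hw0
    have := hD (act g (pt T (Pi.single ⟨0, n₁_pos C⟩ 1) w'))
    rw [hD0, LinearMap.zero_apply, act_inv_act, proj_pt, pt_smul_left, smul_smul, map_smul, eq_comm,
      smul_eq_zero, or_iff_right (mul_ne_zero hd0 (f_ne_symm C.h₂ (by rw [hw']; exact one_ne_zero)))] at this
    exact (not_or.2 ⟨h0, hw0⟩) ((pt_eq_zero T).1 (act_injective g (this.trans (map_zero _).symm)))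
  obtain ⟨w', hw'def⟩ : ∃ w', w' = N v₀ := ⟨_, rfl⟩
  rw [← hw'def] at hv₀
  -- the second is a transvection
  have hrk : ∀ v, N v ∈ F ∙ w' := by
    intro v
    by_contra hv
    obtain ⟨φ, hφ0, hφ1⟩ := exists_dual _ hv
    obtain ⟨ψ, -, hψ1⟩ := exists_dual (⊥ : Submodule F (Fin n₂ → F)) (v := w') (by simpa using hv₀)
    let L : ((Fin n₁ → F) × (Fin n₁ → F)) →ₗ[F] (ι → F) :=
      ptL T (N v) ∘ₗ LinearMap.fst F _ _ + ptL T w' ∘ₗ LinearMap.snd F _ _
    have hL : Function.Injective L := by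
      refine (injective_iff_map_eq_zero L).2 fun p hp => ?_
      obtain ⟨u, u'⟩ := p
      have e : pt T u (N v) + pt T u' w' = 0 := hp
      have e1 := congrArg (cR T φ) e
      simp only [map_add, cR_pt, hφ1, hφ0 w' (Submodule.mem_span_singleton_self w'), one_smul, zero_smul,
        add_zero, map_zero] at e1
      subst e1
      have e2 := congrArg (cR T ψ) e
      simp only [pt_zero_left, zero_add, cR_pt, hψ1, one_smul, map_zero] at e2
      subst e2
      rfl
    have := hsmall L hL fun p => ⟨pt T p.1 v + pt T p.2 v₀, by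
      rw [map_add, hN, hN, ← hw'def]; rfl⟩
    rw [Module.finrank_prod, Module.finrank_fin_fun] at this
    have := n₁_pos C
    omega
  have hNw : N w' = 0 := by
    have := hDD (pt T (Pi.single ⟨0, n₁_pos C⟩ 1) v₀)
    rw [hN, hN, ← hw'def] at this
    exact ((pt_eq_zero T).1 this).resolve_left h0
  have hiso : ∀ v v', f₂ (v + N v) (v' + N v') = f₂ v v' := by
    intro v v'
    obtain ⟨u, u', hu⟩ := exists_ne_two C
    have e := Orth.B_act (mem_iso_of_mem C hy) (pt T u v) (pt T u' v')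
    have hb' : ∀ u v, act (gl T a b) (pt T u v) = pt T u (v + N v) := fun u v => by
      rw [pt_add_right, ← hN]
      show act (gl T a b) (pt T u v) = pt T u v + (act (gl T a b) (pt T u v) - pt T u v)
      abel
    rw [hb', hb', C.form, C.form] at e
    exact mul_left_cancel₀ hu (mul_left_cancel₀ C.c_ne e)
  choose ψ hψ using fun v => Submodule.mem_span_singleton.1 (hrk v)
  have hψ₀ : ψ v₀ = 1 := by
    have := hψ v₀
    rw [← hw'def] at this
    exact smul_left_injective F hv₀ (this.trans (one_smul F w').symm)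
  have key : ∀ v v', ψ v * f₂ w' v' + ψ v' * f₂ v w' = 0 := by
    intro v v'
    have := hiso v v'
    rw [← hψ v, ← hψ v'] at this
    simp only [f_add_left C.h₂, f_add_right C.h₂, f_smul_left C.h₂, f_smul_right C.h₂,
      C.h₂.alternating] at this
    linear_combination this
  obtain ⟨x₀, hx₀⟩ := SP.exists_one C.h₂ hv₀
  set d' := -ψ x₀ with hd'
  have hψd : ∀ v, ψ v = d' * f₂ v w' := fun v => by
    have := key v x₀
    rw [hx₀] at this
    rw [hd']
    linear_combination this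
  have hd'0 : d' ≠ 0 := fun e => by simpa [hψd v₀, e] using hψ₀.symm
  refine ⟨w', d', hv₀, hd'0, gl_ext_pt T fun u v => ?_⟩
  rw [act_rt C.h₂, proj_pt, act_gl_pt, hk, pt_smul_comm, pt_smul_left, smul_smul, ← hψd,
    ← pt_smul_right, hψ, ← pt_add_right]
  congr 1
  show k • act b v = v + (k • act b v - v)
  abel

/-- if the normalisers of root groups in `M` consist of tensor products, so does `M` -/
theorem le_tensor_of_centralizer
    (hC : ∀ w : Fin n₂ → F, w ≠ 0 → ∀ d d' : F, d ≠ 0 → d' ≠ 0 → ∀ g ∈ M,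
      g * rt T C.h₂ w d = rt T C.h₂ w d' * g → g ∈ Cfsg.Geo.tensorProductSubgroup n₁ n₂ T.e T.P) :
    M ≤ Cfsg.Geo.tensorProductSubgroup n₁ n₂ T.e T.P := by
  haveI := Fintype.ofFinite F
  obtain ⟨p, hpC⟩ := CharP.exists F
  haveI := hpC
  haveI : Fact p.Prime := ⟨CharP.char_is_prime F p⟩
  set H := M ⊓ Cfsg.Geo.tensorProductSubgroup n₁ n₂ T.e T.P with hH
  let X : Set (GL ι F) := {r | ∃ w d, w ≠ 0 ∧ d ≠ 0 ∧ r = rt T C.h₂ w d}
  have hXH : X ⊆ (H : Set (GL ι F)) := by
    rintro _ ⟨w, d, -, -, rfl⟩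
    exact ⟨rt_mem C w d, gl_mem T _ _⟩
  have hXp : ∀ r ∈ X, ∃ k, r ^ p ^ k = 1 := by
    rintro _ ⟨w, d, -, -, rfl⟩
    exact ⟨1, by rw [pow_one, rt_pow C.h₂, CharP.cast_eq_zero, zero_mul, rt_zero]⟩
  have rig : ∀ g ∈ M, ∀ r ∈ X, g * r * g⁻¹ ∈ H → g ∈ H := by
    rintro g hg _ ⟨w, d, hw0, hd0, rfl⟩ hgr
    obtain ⟨a, b, hab⟩ := exists_of_mem T hgr.2
    obtain ⟨w', d', hw'0, hd'0, e⟩ := rt_of_conj C hg hw0 hd0 hab
    obtain ⟨b', hb', hbw⟩ := exists_move C.h₂ hw'0 hw0
    set h := gl T 1 b' with hh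
    have hhM : h ∈ M := gl_right_mem C hb'
    have hconj : h * rt T C.h₂ w' d' * h⁻¹ = rt T C.h₂ w d' := by
      rw [hh, rt, rt, gl_inv, gl_mul, gl_mul, conj_stv C.h₂ hb', hbw, inv_one, one_mul, one_mul]
    have hn : h * g * rt T C.h₂ w d = rt T C.h₂ w d' * (h * g) := by
      rw [← hconj, ← e, ← hab]; group
    have := hC w hw0 d d' hd0 hd'0 _ (M.mul_mem hhM hg) hn
    refine ⟨hg, ?_⟩
    rw [show g = h⁻¹ * (h * g) by group]
    exact Subgroup.mul_mem _ (Subgroup.inv_mem _ (gl_mem T _ _)) this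
  intro g hg
  let K : PreCtx T {w : Fin n₂ → F // w ≠ 0} g :=
    { ξ := fun w => flin C.h₂.bilinear w.1
      lt := C.lt
      cover := fun v₁ v₂ v₃ => by
        obtain ⟨w, hw, hw0⟩ := SP.exists_perp_notMem C.h₂ ![v₁, v₂, v₃] (![] : Fin 0 → _)
          (by simp; have := C.six; omega)
        exact ⟨⟨w, by simpa using hw0⟩, hw 0, hw 1, hw 2⟩
      sep := fun v hv => by
        obtain ⟨w, hw⟩ := SP.exists_one C.h₂ hv
        refine ⟨⟨w, fun e => ?_⟩, by rw [flin_apply, hw]; exact one_ne_zero⟩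
        rw [e, f_zero_right C.h₂] at hw
        exact zero_ne_one hw
      rig := fun u₁ u₂ u₃ v₁ v₂ v₃ w' hk => by
        set x := pt T u₁ v₁ + pt T u₂ v₂ + pt T u₃ v₃ with hx
        obtain ⟨w, hw, hw0'⟩ := SP.exists_perp_notMem C.h₂ ![v₁, v₂, v₃] (![] : Fin 0 → _)
          (by simp; have := C.six; omega)
        have hw0 : w ≠ 0 := by simpa using hw0'
        have hr : rt T C.h₂ w 1 ∈ stabVec x := (rt_fix_iff C hw0 one_ne_zero).2 (by
          simp [hx, proj_pt, show f₂ v₁ w = 0 from hw 0, show f₂ v₂ w = 0 from hw 1, show f₂ v₃ w = 0 from hw 2])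
        have hr' : g⁻¹ * rt T C.h₂ w'.1 1 * g ∈ stabVec x := by
          show act _ x = x
          rw [act_mul, act_mul, (rt_fix_iff C w'.2 one_ne_zero).2 hk, act_inv_act]
        obtain ⟨h', hh', he⟩ := exists_mem_orbit_of_rigid (p := p) (inf_le_left : H ≤ M) X hXH hXp rig
          (stabVec x) hg ⟨w, 1, hw0, one_ne_zero, rfl⟩ ⟨w'.1, 1, w'.2, one_ne_zero, rfl⟩ hr hr'
        obtain ⟨a, b, hab⟩ := exists_of_mem T hh'.2
        refine ⟨a, b, ?_⟩
        have : act (h'⁻¹ * g) x = x := he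
        rw [act_mul] at this
        rw [← hab]
        conv_rhs => rw [← this, act_act_inv] }
  obtain ⟨a, b, rfl⟩ := exists_gl K (n₁_pos C) (by have := C.six; omega)
  exact gl_mem T a b

end Cfsg.Agent.MaxCl.TensSp
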