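/-
Elements of the shape `1 + S π_z ⊗ w + S' π_w ⊗ z + R π_w ⊗ w` in an overgroup of a tensor stabiliser: unless the
overgroup contains the derived orthogonal group, `S` is scalar.
-/
import Mathlib
import Cfsg.Agent.Lib.MaxCl.SympTensorRoots

set_option autoImplicit false

namespace Cfsg.Agent.MaxCl.TensSp

open scoped MatrixGroups Matrix
open Module (finrank)
open Tens

variable {ι : Type} [Fintype ι] [DecidableEq ι] {F : Type*} [Field F] {n₁ n₂ : ℕ}
variable {T : TSys ι F n₁ n₂} {Q : QuadraticForm F (ι → F)}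
variable {f₁ : (Fin n₁ → F) → (Fin n₁ → F) → F} {f₂ : (Fin n₂ → F) → (Fin n₂ → F) → F} {c : F}
variable {M : Subgroup (GL ι F)}

set_option quotPrecheck false in
local notation "B" => QuadraticMap.polar (⇑Q)

/-- endomorphisms of the first factor -/
abbrev End₁ (F : Type*) [Field F] (n₁ : ℕ) := (Fin n₁ → F) →ₗ[F] (Fin n₁ → F)

/-- `g` adds `f₂(v, w) R u ⊗ w` to `u ⊗ v` -/
def IsTop (T : TSys ι F n₁ n₂) (f₂ : (Fin n₂ → F) → (Fin n₂ → F) → F) (w : Fin n₂ → F) (g : GL ι F)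
    (R : End₁ F n₁) : Prop :=
  ∀ u v, act g (pt T u v) = pt T u v + f₂ v w • pt T (R u) w

/-- `g` is `1 + S π_z ⊗ w + S' π_w ⊗ z + R π_w ⊗ w` -/
def IsPure (T : TSys ι F n₁ n₂) (f₂ : (Fin n₂ → F) → (Fin n₂ → F) → F) (w z : Fin n₂ → F)
    (S S' R : End₁ F n₁) (g : GL ι F) : Prop :=
  ∀ u v, act g (pt T u v) = pt T u v + f₂ v z • pt T (S u) w + f₂ v w • pt T (S' u) z + f₂ v w • pt T (R u) w

/-- the conjugate of an endomorphism -/
def cj (α : GL (Fin n₁) F) (S : End₁ F n₁) : End₁ F n₁ := act α ∘ₗ S ∘ₗ act α⁻¹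

theorem cj_apply (α : GL (Fin n₁) F) (S : End₁ F n₁) (u : Fin n₁ → F) :
    cj α S u = act α (S (act α⁻¹ u)) := rfl

/-- `u ↦ f₁(u, a) b + f₁(u, b) a` -/
def sym (h : Cfsg.Geo.IsSymplecticForm f₁) (a b : Fin n₁ → F) : End₁ F n₁ :=
  (flin h.bilinear a).smulRight b + (flin h.bilinear b).smulRight a

theorem sym_apply (h : Cfsg.Geo.IsSymplecticForm f₁) (a b u : Fin n₁ → F) :
    sym h a b u = f₁ u a • b + f₁ u b • a := by simp [sym, flin_apply]

theorem sym_sq (h : Cfsg.Geo.IsSymplecticForm f₁) {a b : Fin n₁ → F} (hab : f₁ a b = 0) (u : Fin n₁ → F) :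
    sym h a b (sym h a b u) = 0 := by
  simp only [sym_apply, f_add_left h, f_smul_left h, f_eq_zero_symm h hab, hab, h.alternating]
  simp

theorem cj_stv_sub (h : Cfsg.Geo.IsSymplecticForm f₁) (S : End₁ F n₁) (v : Fin n₁ → F) (d : F)
    (u : Fin n₁ → F) : cj (stv h v d) S u - S u =
      d • (f₁ (S u) v • v - f₁ u v • S v) - (d * d * f₁ (S v) v * f₁ u v) • v := by
  have hinv : (stv h v d)⁻¹ = stv h v (-d) :=
    inv_eq_of_mul_eq_one_right (by rw [stv_add h, add_neg_cancel, stv_zero h])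
  rw [cj_apply, hinv]
  simp only [act_stv h, map_add, map_smul, f_add_left h, f_smul_left h]
  module

theorem act_cj_stv {m : ℕ} {h' : (Fin m → F) → (Fin m → F) → F} (h : Cfsg.Geo.IsSymplecticForm h') (y : Fin m → F)
    (d : F) (u x : Fin m → F) :
    h' (act (stv h y d)⁻¹ u) x = h' u (act (stv h y d) x) := by
  conv_lhs => rw [← mem_isoGroup.1 (stv_mem h y d), act_act_inv]

/-- all multiples of `(S, S')` occur at `(w, s)` -/
def Fam (T : TSys ι F n₁ n₂) (f₂ : (Fin n₂ → F) → (Fin n₂ → F) → F) (M : Subgroup (GL ι F))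
    (w s : Fin n₂ → F) (S S' : End₁ F n₁) : Prop :=
  ∀ d : F, ∃ g ∈ M, IsPure T f₂ w s (d • S) (d • S') 0 g

variable (C : SCtx T Q f₁ f₂ c M)
include C

theorem isPure_mul_act {w z₁ z₂ : Fin n₂ → F} {S₁ S₁' R₁ S₂ S₂' R₂ : End₁ F n₁} {g₁ g₂ : GL ι F}
    (h1 : IsPure T f₂ w z₁ S₁ S₁' R₁ g₁) (h2 : IsPure T f₂ w z₂ S₂ S₂' R₂ g₂) (hw1 : f₂ w z₁ = 0)
    (hw2 : f₂ w z₂ = 0) (u : Fin n₁ → F) (v : Fin n₂ → F) :
    act (g₁ * g₂) (pt T u v) = pt T u v + f₂ v z₁ • pt T (S₁ u) w + f₂ v z₂ • pt T (S₂ u) w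
      + f₂ v w • pt T (S₁' u) z₁ + f₂ v w • pt T (S₂' u) z₂ + f₂ v w • pt T (R₁ u) w + f₂ v w • pt T (R₂ u) w
      + (f₂ v w * f₂ z₂ z₁) • pt T (S₁ (S₂' u)) w := by
  rw [act_mul, h2]
  simp only [map_add, map_smul]
  rw [h1 u v, h1 (S₂ u) w, h1 (S₂' u) z₂, h1 (R₂ u) w, hw1, C.h₂.alternating w, f_eq_zero_symm C.h₂ hw2]
  simp only [zero_smul, add_zero, smul_add, smul_smul]
  abel

theorem isPure_mul {w z : Fin n₂ → F} {S₁ S₁' R₁ S₂ S₂' R₂ : End₁ F n₁} {g₁ g₂ : GL ι F}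
    (h1 : IsPure T f₂ w z S₁ S₁' R₁ g₁) (h2 : IsPure T f₂ w z S₂ S₂' R₂ g₂) (hwz : f₂ w z = 0) :
    IsPure T f₂ w z (S₁ + S₂) (S₁' + S₂') (R₁ + R₂) (g₁ * g₂) := fun u v => by
  rw [isPure_mul_act C h1 h2 hwz hwz, C.h₂.alternating z]
  simp only [LinearMap.add_apply, pt_add_left, smul_add, mul_zero, zero_smul, add_zero]
  abel

theorem isPure_inv {w z : Fin n₂ → F} {S S' R : End₁ F n₁} {g : GL ι F}
    (h : IsPure T f₂ w z S S' R g) (hwz : f₂ w z = 0) : IsPure T f₂ w z (-S) (-S') (-R) g⁻¹ := by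
  intro u v
  apply act_injective g
  rw [act_act_inv]
  simp only [map_add, map_smul, LinearMap.neg_apply, pt_neg_left, map_neg]
  rw [h u v, h (S u) w, h (S' u) z, h (R u) w, hwz, C.h₂.alternating w, C.h₂.alternating z,
    f_eq_zero_symm C.h₂ hwz]
  simp only [zero_smul, add_zero]
  module

theorem isPure_conj {w z : Fin n₂ → F} {S S' R : End₁ F n₁} {g : GL ι F} (h : IsPure T f₂ w z S S' R g)
    (α : GL (Fin n₁) F) {β : GL (Fin n₂) F} {ν : F} (hν : ν ≠ 0)
    (hβ : ∀ x y, f₂ (act β x) (act β y) = ν * f₂ x y) :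
    IsPure T f₂ (act β w) (act β z) (ν⁻¹ • cj α S) (ν⁻¹ • cj α S') (ν⁻¹ • cj α R)
      (gl T α β * g * (gl T α β)⁻¹) := by
  intro u v
  have e : ∀ t, f₂ (act β⁻¹ v) t = ν⁻¹ * f₂ v (act β t) := fun t => by
    have := hβ (act β⁻¹ v) t
    rw [act_act_inv] at this
    rw [this, inv_mul_cancel_left₀ hν]
  rw [gl_inv, act_mul, act_mul, act_gl_pt, h]
  simp only [map_add, map_smul, act_gl_pt, act_act_inv, e, cj_apply, LinearMap.smul_apply, pt_smul_left]
  module

theorem isPure_conj_iso {w z : Fin n₂ → F} {S S' R : End₁ F n₁} {g : GL ι F} (h : IsPure T f₂ w z S S' R g)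
    (α : GL (Fin n₁) F) {β : GL (Fin n₂) F} (hβ : β ∈ isoGroup f₂) :
    IsPure T f₂ (act β w) (act β z) (cj α S) (cj α S') (cj α R) (gl T α β * g * (gl T α β)⁻¹) := by
  have := isPure_conj C h α one_ne_zero (β := β) (fun x y => by rw [mem_isoGroup.1 hβ, one_mul])
  rwa [inv_one, one_smul, one_smul, one_smul] at this

theorem cj_one (S : End₁ F n₁) : cj (1 : GL (Fin n₁) F) S = S := by
  apply LinearMap.ext; intro u; rw [cj_apply, inv_one, act_one, act_one]

theorem isPure_of_isTop {w : Fin n₂ → F} {g : GL ι F} {R : End₁ F n₁} (h : IsTop T f₂ w g R) :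
    IsPure T f₂ w w 0 0 R g := fun u v => by simp [h u v, pt_zero_left]

theorem isTop_of_isPure {w z : Fin n₂ → F} {g : GL ι F} {R : End₁ F n₁} (h : IsPure T f₂ w z 0 0 R g) :
    IsTop T f₂ w g R := fun u v => by simpa [pt_zero_left] using h u v

theorem top_adjoint {w : Fin n₂ → F} (hw0 : w ≠ 0) {g : GL ι F} (hg : g ∈ isometryGroup F Q) {R : End₁ F n₁}
    (h : IsTop T f₂ w g R) : (∀ u u', f₁ (R u) u' = f₁ u (R u')) ∧ ∀ u, f₁ u (R u) = 0 := by
  obtain ⟨w', hw'⟩ := SP.exists_one C.h₂ hw0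
  have hw'w : f₂ w' w = -1 := by rw [C.h₂.skew, hw']
  refine ⟨fun u u' => ?_, fun u => ?_⟩
  · have e := Orth.B_act hg (pt T u w') (pt T u' w')
    rw [h, h, hw'w] at e
    simp only [Orth.B_add_left Q, Orth.B_add_right Q, Orth.B_smul_left Q, Orth.B_smul_right Q, C.form, hw', hw'w,
      C.h₂.alternating, mul_zero, zero_add, add_zero, mul_one] at e
    refine mul_left_cancel₀ C.c_ne ?_
    linear_combination -e
  · have e := Orth.Q_act hg (pt T u w')
    rw [h, hw'w, Orth.Q_add Q, Orth.Q_smul Q, C.sing, C.sing, Orth.B_smul_right Q, C.form, hw'w] at e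
    refine mul_left_cancel₀ C.c_ne ?_
    linear_combination e

theorem alternating_two (h2 : n₁ = 2) {S : End₁ F n₁} (h : ∀ u, f₁ u (S u) = 0) (u : Fin n₁ → F) :
    S u ∈ F ∙ u := by
  by_contra hno
  rcases eq_or_ne u 0 with rfl | hu
  · exact hno (by rw [map_zero]; exact Submodule.zero_mem _)
  obtain ⟨x, hx0, hx1⟩ := SP.exists_zero_one C.h₁ (a := S u) (v := u) (fun h' => by
    obtain ⟨k, hk⟩ := Submodule.mem_span_singleton.1 h'
    have hk0 : k ≠ 0 := by rintro rfl; exact hu (by rw [← hk, zero_smul])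
    exact hno (Submodule.mem_span_singleton.2 ⟨k⁻¹, (congrArg (k⁻¹ • ·) hk.symm).trans (inv_smul_smul₀ hk0 (S u))⟩))
  have hd : finrank F (Submodule.span F ({u, S u} : Set (Fin n₁ → F))) = 2 := by
    have hli : LinearIndependent F ![u, S u] := by
      rw [LinearIndependent.pair_iff' hu]
      exact fun k hk => hno (Submodule.mem_span_singleton.2 ⟨k, hk⟩)
    have := finrank_span_eq_card hli
    rwa [Matrix.range_cons, Matrix.range_cons, Matrix.range_empty, Set.union_empty,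
      Set.singleton_union, Fintype.card_fin] at this
  have htop : Submodule.span F ({u, S u} : Set (Fin n₁ → F)) = ⊤ :=
    Submodule.eq_top_of_finrank_eq (by rw [hd, Module.finrank_fin_fun, h2])
  obtain ⟨p, r, hpr⟩ := Submodule.mem_span_pair.1 (htop.ge (Submodule.mem_top (x := x)))
  rw [← hpr, f_add_right C.h₁, f_smul_right C.h₁, f_smul_right C.h₁, C.h₁.alternating, h] at hx1
  simp at hx1

variable [Finite F]

theorem lineA_false (hM : ¬ Cfsg.Geo.omegaGL Q ≤ M) {a b : Fin n₁ → F} {w : Fin n₂ → F} (ha : a ≠ 0)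
    (hb : b ∉ F ∙ a) (hab : f₁ a b = 0) (hw : w ≠ 0)
    (h : ∀ e : F, Orth.sg Q (pt T a w) (e • pt T b w) ∈ M) : False := by
  have conjW : ∀ (y : Fin n₂ → F) (d : F) x z, (∀ e : F, Orth.sg Q (pt T x w) (e • pt T z w) ∈ M) →
      ∀ e : F, Orth.sg Q (pt T x (act (stv C.h₂ y d) w)) (e • pt T z (act (stv C.h₂ y d) w)) ∈ M := by
    intro y d x z hxz e
    have hg := gl_right_mem C (stv_mem C.h₂ y d)
    have := M.mul_mem (M.mul_mem hg (hxz e)) (M.inv_mem hg)
    rwa [Orth.conj_sg Q (mem_iso_of_mem C hg), map_smul, act_gl_pt, act_gl_pt, act_one, act_one] at this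
  have hall : ∀ w', w' ≠ 0 → ∀ e : F, Orth.sg Q (pt T a w') (e • pt T b w') ∈ M := by
    intro w' hw'
    refine SP.trans_all C.h₂ (Φ := fun w' => ∀ e : F, Orth.sg Q (pt T a w') (e • pt T b w') ∈ M)
      (fun y d x hx e => ?_) hw h hw'
    have hg := gl_right_mem C (stv_mem C.h₂ y d)
    have := M.mul_mem (M.mul_mem hg (hx e)) (M.inv_mem hg)
    rwa [Orth.conj_sg Q (mem_iso_of_mem C hg), map_smul, act_gl_pt, act_gl_pt, act_one, act_one] at this
  have hall' : ∀ w', ∀ e : F, Orth.sg Q (pt T a w') (e • pt T b w') ∈ M := fun w' e => by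
    rcases eq_or_ne w' 0 with rfl | hw'
    · rw [pt_zero_right, pt_zero_right, smul_zero, Orth.sg_zero Q]; exact M.one_mem
    · exact hall w' hw' e
  have hP := SP.pair_all C.h₁ (fun x y => ∀ w', ∀ e : F, Orth.sg Q (pt T x w') (e • pt T y w') ∈ M)
    (fun x y y' hy hy' h1 h2 w' e => by
      rw [pt_add_right' T x y y' w', smul_add, ← Orth.sg_add Q (C.sing x w')
        (by rw [Orth.B_smul_right Q, C.form, hy, zero_mul, mul_zero, mul_zero])
        (by rw [Orth.B_smul_right Q, C.form, hy', zero_mul, mul_zero, mul_zero])]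
      exact M.mul_mem (h1 w' e) (h2 w' e))
    (fun x y k _ h1 w' e => by rw [pt_smul_left, smul_smul]; exact h1 w' _)
    (fun y w' e => by
      have : Orth.sg Q (pt T 0 w') (e • pt T y w') = 1 := by
        rw [pt_zero_left]
        refine gl_ext fun x => ?_
        rw [Orth.act_sg Q (map_zero Q) (Orth.B_zero_left Q _), act_one, Orth.B_zero_left Q, Orth.B_smul_left Q,
          mul_zero, add_zero, zero_smul, add_zero, smul_zero, sub_zero]
      rw [this]; exact M.one_mem)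
    (fun y d x z _ h1 w' e => by
      have hg := gl_left_mem C (stv_mem C.h₁ y d)
      have := M.mul_mem (M.mul_mem hg (h1 w' e)) (M.inv_mem hg)
      rwa [Orth.conj_sg Q (mem_iso_of_mem C hg), map_smul, act_gl_pt, act_gl_pt, act_one] at this)
    ha hb hab hall'
  have h4 : 4 ≤ n₁ := C.four_le fun h2 => by
    obtain ⟨x, hx0, hx1⟩ := SP.exists_zero_one C.h₁ (a := a) (v := b) hb
    have hli : LinearIndependent F ![a, b] := by
      rw [LinearIndependent.pair_iff' ha]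
      exact fun k hk => hb (Submodule.mem_span_singleton.2 ⟨k, hk⟩)
    have hd := finrank_span_eq_card hli
    rw [Fintype.card_fin] at hd
    have htop : Submodule.span F (Set.range ![a, b]) = ⊤ :=
      Submodule.eq_top_of_finrank_eq (by rw [hd, Module.finrank_fin_fun, h2])
    have hmem := htop.ge (Submodule.mem_top (x := x))
    rw [Matrix.range_cons, Matrix.range_cons, Matrix.range_empty, Set.union_empty,
      Set.singleton_union, Submodule.mem_span_pair] at hmem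
    obtain ⟨p, r, rfl⟩ := hmem
    rw [f_add_right C.h₁, f_smul_right C.h₁, f_smul_right C.h₁, f_eq_zero_symm C.h₁ hab, C.h₁.alternating] at hx1
    simp at hx1
  have := C.six
  exact hM (OPair.omega_le_of_lines (pairing C) h4 (by omega) (Or.inr (by omega)) fun u u' w' hu e => by
    simpa using hP u u' hu w' e)
where
  pt_add_right' (T : TSys ι F n₁ n₂) (x y y' : Fin n₁ → F) (w' : Fin n₂ → F) :
      pt T (y + y') w' = pt T y w' + pt T y' w' := pt_add_left T y y' w'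

theorem lineB_false (hM : ¬ Cfsg.Geo.omegaGL Q ≤ M) {v : Fin n₁ → F} {w z : Fin n₂ → F} (hv : v ≠ 0)
    (hw : w ≠ 0) (hz : z ∉ F ∙ w) (hwz : f₂ w z = 0)
    (h : ∀ e : F, Orth.sg Q (pt T v w) (e • pt T v z) ∈ M) : False := by
  have hall : ∀ v', ∀ e : F, Orth.sg Q (pt T v' w) (e • pt T v' z) ∈ M := by
    intro v'
    rcases eq_or_ne v' 0 with rfl | hv'
    · intro e; rw [pt_zero_left, pt_zero_left, smul_zero, Orth.sg_zero Q]; exact M.one_mem
    refine SP.trans_all C.h₁ (Φ := fun v' => ∀ e : F, Orth.sg Q (pt T v' w) (e • pt T v' z) ∈ M)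
      (fun y d x hx e => ?_) hv h hv'
    have hg := gl_left_mem C (stv_mem C.h₁ y d)
    have := M.mul_mem (M.mul_mem hg (hx e)) (M.inv_mem hg)
    rwa [Orth.conj_sg Q (mem_iso_of_mem C hg), map_smul, act_gl_pt, act_gl_pt, act_one, act_one] at this
  have hP := SP.pair_all C.h₂ (fun x y => ∀ v', ∀ e : F, Orth.sg Q (pt T v' x) (e • pt T v' y) ∈ M)
    (fun x y y' hy hy' h1 h2 v' e => by
      rw [pt_add_right, smul_add, ← Orth.sg_add Q (C.sing v' x)
        (by rw [Orth.B_smul_right Q, C.form, hy, mul_zero, mul_zero, mul_zero])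
        (by rw [Orth.B_smul_right Q, C.form, hy', mul_zero, mul_zero, mul_zero])]
      exact M.mul_mem (h1 v' e) (h2 v' e))
    (fun x y k _ h1 v' e => by rw [pt_smul_right, smul_smul]; exact h1 v' _)
    (fun y v' e => by
      have : Orth.sg Q (pt T v' 0) (e • pt T v' y) = 1 := by
        rw [pt_zero_right]
        refine gl_ext fun x => ?_
        rw [Orth.act_sg Q (map_zero Q) (Orth.B_zero_left Q _), act_one, Orth.B_zero_left Q, Orth.B_smul_left Q,
          mul_zero, add_zero, zero_smul, add_zero, smul_zero, sub_zero]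
      rw [this]; exact M.one_mem)
    (fun y d x t _ h1 v' e => by
      have hg := gl_right_mem C (stv_mem C.h₂ y d)
      have := M.mul_mem (M.mul_mem hg (h1 v' e)) (M.inv_mem hg)
      rwa [Orth.conj_sg Q (mem_iso_of_mem C hg), map_smul, act_gl_pt, act_gl_pt, act_one] at this)
    hw hz hwz hall
  have := C.six
  exact hM (OPair.omega_le_of_lines (pairing C).flip (by omega) (n₁_pos C) (Or.inl (by omega))
    fun x y v' hxy e => by simpa using hP x y hxy v' e)

/-- top elements of `M` are scalar -/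
theorem top_scalar (hM : ¬ Cfsg.Geo.omegaGL Q ≤ M) {w : Fin n₂ → F} (hw0 : w ≠ 0) {g : GL ι F} (hg : g ∈ M)
    {R : End₁ F n₁} (h : IsTop T f₂ w g R) : ∃ k : F, ∀ u, R u = k • u := by
  obtain ⟨hadj, halt⟩ := top_adjoint C hw0 (mem_iso_of_mem C hg) h
  refine exists_scalar_of_eigen R fun v => ?_
  by_contra hv
  have hv0 : v ≠ 0 := fun e => hv (by rw [e, map_zero]; exact Submodule.zero_mem _)
  have hRv : f₁ (R v) v = 0 := f_eq_zero_symm C.h₁ (halt v)
  refine lineA_false C hM hv0 hv (halt v) hw0 fun e => ?_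
  have hz : ∀ d, ∃ z ∈ M, IsTop T f₂ w z (cj (stv C.h₁ v d) R - R) := fun d => by
    have hα := gl_left_mem C (stv_mem C.h₁ v d)
    refine ⟨_, M.mul_mem (M.mul_mem (M.mul_mem hα hg) (M.inv_mem hα)) (M.inv_mem hg),
      isTop_of_isPure C (z := w) ?_⟩
    have h1 := isPure_conj_iso C (isPure_of_isTop C h) (stv C.h₁ v d) (β := 1) (one_mem _)
    rw [act_one, show cj (stv C.h₁ v d) (0 : End₁ F n₁) = 0 by ext u; simp [cj_apply]] at h1
    have h2 := isPure_mul C h1 (isPure_inv C (isPure_of_isTop C h) (C.h₂.alternating w)) (C.h₂.alternating w)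
    rwa [neg_zero, add_zero, ← sub_eq_add_neg] at h2
  obtain ⟨z, hzM, hz⟩ := hz (-(e * c))
  convert hzM using 1
  refine gl_ext_pt T fun u x => ?_
  rw [OPair.act_line (pairing C) (C.sing _ _) (C.sing _ _) (by rw [C.form, halt, zero_mul, mul_zero]), C.form,
    C.form, hz, LinearMap.sub_apply, cj_stv_sub, hRv, hadj u v]
  simp only [pt_smul_left, pt_sub_left, C.h₁.skew v u, C.h₁.skew (R v) u, C.h₂.skew w x, mul_zero, zero_mul,
    zero_smul, sub_zero]
  module

omit [Finite F] in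
theorem pure_adjoint {w z : Fin n₂ → F} {S S' R : End₁ F n₁} {g : GL ι F} (hg : g ∈ isometryGroup F Q)
    (h : IsPure T f₂ w z S S' R g) (hw : w ≠ 0) (hz : z ∉ F ∙ w) (hwz : f₂ w z = 0) (u u' : Fin n₁ → F) :
    f₁ (S u) u' = f₁ u (S' u') := by
  obtain ⟨x, hx0, hx1⟩ := SP.exists_zero_one C.h₂ hz
  obtain ⟨y, hy0, hy1⟩ := SP.exists_zero_one C.h₂ (a := z) (v := w) (fun e => hz (by
    obtain ⟨k, hk⟩ := Submodule.mem_span_singleton.1 e
    have hk0 : k ≠ 0 := by rintro rfl; exact hw (by rw [← hk, zero_smul])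
    exact Submodule.mem_span_singleton.2 ⟨k⁻¹, by rw [← hk, inv_smul_smul₀ hk0]⟩))
  have e := Orth.B_act hg (pt T u x) (pt T u' y)
  rw [h, h] at e
  simp only [Orth.B_add_left Q, Orth.B_add_right Q, Orth.B_smul_left Q, Orth.B_smul_right Q, C.form, hy0, hy1,
    C.h₂.skew x z, C.h₂.skew x w, C.h₂.skew y z, C.h₂.skew y w, hx0, hx1, hwz, C.h₂.alternating,
    f_eq_zero_symm C.h₂ hwz] at e
  refine mul_left_cancel₀ C.c_ne ?_
  linear_combination -e

/-- changing `z` to an orthogonal `z + s` -/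
theorem pure_move {w z s : Fin n₂ → F} {S S' R : End₁ F n₁} {g : GL ι F} (hg : g ∈ M)
    (h : IsPure T f₂ w z S S' R g) (hwz : f₂ w z = 0) (hws : f₂ w s = 0) (hzs : f₂ z s = 0)
    (hz : z ∉ Submodule.span F ({w, s} : Set (Fin n₂ → F))) :
    ∃ g' ∈ M, IsPure T f₂ w s S S' 0 g' := by
  obtain ⟨y, hwy, hsy, hzy⟩ := SP.exists_zero_zero_one C.h₂ hz
  set β := stv C.h₂ (s - y) (-1) * stv C.h₂ y 1 with hβ
  have hβI : β ∈ isoGroup f₂ := mul_mem (stv_mem C.h₂ _ _) (stv_mem C.h₂ _ _)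
  have hβw : act β w = w := by
    rw [hβ, act_mul, act_stv C.h₂, act_stv C.h₂, hwy]
    simp [f_sub_right C.h₂, hws, hwy]
  have hβz : act β z = z + s := by
    rw [hβ, act_mul, act_stv C.h₂, act_stv C.h₂, hzy, f_sub_right C.h₂, f_add_left C.h₂, f_add_left C.h₂,
      f_smul_left C.h₂, f_smul_left C.h₂, hzs, hzy, C.h₂.alternating, f_eq_zero_symm C.h₂ hsy]
    module
  have hb := gl_right_mem C hβI
  have h1 := isPure_conj_iso C h (1 : GL (Fin n₁) F) hβI
  rw [hβw, hβz, cj_one C, cj_one C, cj_one C] at h1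
  refine ⟨_, M.mul_mem (M.mul_mem (M.mul_mem hb hg) (M.inv_mem hb)) (M.inv_mem hg), fun u v => ?_⟩
  rw [isPure_mul_act C h1 (isPure_inv C h hwz) (by rw [f_add_right C.h₂, hwz, hws, add_zero]) hwz,
    f_add_right C.h₂ z, C.h₂.alternating, hzs]
  simp only [LinearMap.neg_apply, LinearMap.zero_apply, pt_neg_left, pt_zero_left, pt_add_right,
    f_add_right C.h₂, smul_zero, add_zero, zero_add, mul_zero, zero_smul]
  module

theorem fam_sub {w s : Fin n₂ → F} (hws : f₂ w s = 0) {S₁ S₁' S₂ S₂' : End₁ F n₁}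
    (h1 : Fam T f₂ M w s S₁ S₁') (h2 : Fam T f₂ M w s S₂ S₂') : Fam T f₂ M w s (S₁ - S₂) (S₁' - S₂') := by
  intro d
  obtain ⟨g₁, hg₁, e₁⟩ := h1 d
  obtain ⟨g₂, hg₂, e₂⟩ := h2 d
  refine ⟨g₁ * g₂⁻¹, M.mul_mem hg₁ (M.inv_mem hg₂), ?_⟩
  have := isPure_mul C e₁ (isPure_inv C e₂ hws) hws
  rw [← sub_eq_add_neg, ← sub_eq_add_neg, neg_zero, add_zero] at this
  convert this using 1 <;> (ext u; simp [smul_sub, mul_sub])

omit [Finite F] in
theorem fam_smul {w s : Fin n₂ → F} {S S' : End₁ F n₁} (h : Fam T f₂ M w s S S') (k : F) :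
    Fam T f₂ M w s (k • S) (k • S') := fun d => by rw [smul_smul, smul_smul]; exact h _

theorem fam_cj {w s : Fin n₂ → F} {S S' : End₁ F n₁} (h : Fam T f₂ M w s S S') {α : GL (Fin n₁) F}
    (hα : α ∈ isoGroup f₁) : Fam T f₂ M w s (cj α S) (cj α S') := by
  intro d
  obtain ⟨g, hg, e⟩ := h d
  have hM := gl_left_mem C hα
  refine ⟨_, M.mul_mem (M.mul_mem hM hg) (M.inv_mem hM), ?_⟩
  have := isPure_conj_iso C e α (β := 1) (one_mem _)
  simp only [act_one] at this
  convert this using 1 <;> (ext u; simp [cj_apply])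

theorem fam_one {w s : Fin n₂ → F} (hws : f₂ w s = 0) : Fam T f₂ M w s LinearMap.id LinearMap.id := by
  intro d
  refine ⟨gl T 1 (root C.h₂ w (d • s)), gl_right_mem C (root_mem C.h₂ _ _), fun u v => ?_⟩
  rw [act_gl_pt, act_one, act_root C.h₂ (by rw [f_smul_right C.h₂, hws, mul_zero]), f_smul_right C.h₂]
  simp only [LinearMap.smul_apply, LinearMap.id_apply, LinearMap.zero_apply, pt_zero_left, smul_zero, add_zero,
    pt_add_right, pt_smul_right, pt_smul_left]
  module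

/-- the commutator of two short root shapes is a long root element -/
theorem sym_commutator {w w' z z' : Fin n₂ → F} (hww' : f₂ w w' = 1) (hwz : f₂ w z = 0) (hwz' : f₂ w z' = 0)
    (hw'z : f₂ w' z = 0) (hw'z' : f₂ w' z' = 0) (hzz' : f₂ z z' = 0) {a b r : Fin n₁ → F}
    (hab : f₁ a b = 0) (hrb : f₁ r b = 0) (har : f₁ a r = 1) {e : F} {y₁ y₂ : GL ι F}
    (h1 : IsPure T f₂ w z ((e * c) • sym C.h₁ a b) (-((e * c) • sym C.h₁ a b)) 0 y₁)
    (h2 : IsPure T f₂ w' z' (sym C.h₁ r b) (-sym C.h₁ r b) 0 y₂) :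
    y₁ * y₂ * y₁⁻¹ * y₂⁻¹ = Orth.sg Q (pt T b z) (e • pt T b z') := by
  obtain ⟨S, hS⟩ : ∃ S, S = (e * c) • sym C.h₁ a b := ⟨_, rfl⟩
  obtain ⟨S', hS'⟩ : ∃ S', S' = sym C.h₁ r b := ⟨_, rfl⟩
  rw [← hS] at h1
  rw [← hS'] at h2
  let A : (Fin n₂ → F) →ₗ[F] (Fin n₂ → F) :=
    (flin C.h₂.bilinear z).smulRight w - (flin C.h₂.bilinear w).smulRight z
  let A' : (Fin n₂ → F) →ₗ[F] (Fin n₂ → F) :=
    (flin C.h₂.bilinear z').smulRight w' - (flin C.h₂.bilinear w').smulRight z'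
  have hA : ∀ v, A v = f₂ v z • w - f₂ v w • z := fun v => by simp [A, flin_apply]
  have hA' : ∀ v, A' v = f₂ v z' • w' - f₂ v w' • z' := fun v => by simp [A', flin_apply]
  have i1 := isPure_inv C h1 hwz
  have i2 := isPure_inv C h2 hw'z'
  have a1 : ∀ u v, act y₁ (pt T u v) = pt T u v + pt T (S u) (A v) := fun u v => by
    rw [h1, hA]
    simp only [LinearMap.neg_apply, LinearMap.zero_apply, pt_neg_left, pt_zero_left, pt_sub_right, pt_smul_right]
    module
  have b1 : ∀ u v, act y₁⁻¹ (pt T u v) = pt T u v - pt T (S u) (A v) := fun u v => by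
    rw [i1, hA]
    simp only [LinearMap.neg_apply, LinearMap.zero_apply, pt_neg_left, pt_zero_left, pt_sub_right, pt_smul_right]
    module
  have a2 : ∀ u v, act y₂ (pt T u v) = pt T u v + pt T (S' u) (A' v) := fun u v => by
    rw [h2, hA']
    simp only [LinearMap.neg_apply, LinearMap.zero_apply, pt_neg_left, pt_zero_left, pt_sub_right, pt_smul_right]
    module
  have b2 : ∀ u v, act y₂⁻¹ (pt T u v) = pt T u v - pt T (S' u) (A' v) := fun u v => by
    rw [i2, hA']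
    simp only [LinearMap.neg_apply, LinearMap.zero_apply, pt_neg_left, pt_zero_left, pt_sub_right, pt_smul_right]
    module
  have hbr := f_eq_zero_symm C.h₁ hrb
  have hba := f_eq_zero_symm C.h₁ hab
  have hra : f₁ r a = -1 := by rw [C.h₁.skew, har]
  have hS2 : ∀ u, S' (S' u) = 0 := fun u => by rw [hS']; exact sym_sq C.h₁ hrb u
  have hSS' : ∀ u, S (S' u) = -((e * c * f₁ u b) • b) := fun u => by
    rw [hS, hS', LinearMap.smul_apply]
    simp only [sym_apply, f_add_left C.h₁, f_smul_left C.h₁, hba, C.h₁.alternating, hra, hrb]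
    module
  have hS'S : ∀ u, S' (S u) = (e * c * f₁ u b) • b := fun u => by
    rw [hS, hS', LinearMap.smul_apply, map_smul]
    simp only [sym_apply, f_add_left C.h₁, f_smul_left C.h₁, hbr, C.h₁.alternating, har, hab]
    module
  have hSb : S b = 0 := by rw [hS, LinearMap.smul_apply, sym_apply, hba, C.h₁.alternating]; module
  have hS'b : S' b = 0 := by rw [hS', sym_apply, hbr, C.h₁.alternating]; module
  refine gl_ext_pt T fun u v => ?_
  simp only [act_mul, b2, b1, a2, a1, map_sub, map_add, hSS', hS'S, hS2, hSb, hS'b, map_neg, map_smul,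
    pt_zero_left, pt_neg_left, pt_smul_left, smul_zero, neg_zero, map_zero, add_zero, sub_zero]
  rw [OPair.act_line (pairing C) (C.sing _ _) (C.sing _ _) (by rw [C.form, C.h₁.alternating, zero_mul, mul_zero]),
    C.form, C.form]
  simp only [hA, hA', f_sub_left C.h₂, f_smul_left C.h₂, C.h₂.alternating, hww', hwz', hw'z, hzz',
    f_eq_zero_symm C.h₂ hzz', f_eq_zero_symm C.h₂ hwz', f_eq_zero_symm C.h₂ hw'z, f_eq_zero_symm C.h₂ hwz,
    f_eq_zero_symm C.h₂ hw'z', hwz, hw'z', C.h₂.skew w' w, C.h₁.skew b u, C.h₂.skew z v, C.h₂.skew z' v,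
    pt_sub_right, pt_add_right, pt_smul_right, pt_neg_right]
  module

theorem fam_sym_false (hM : ¬ Cfsg.Geo.omegaGL Q ≤ M) {w s : Fin n₂ → F} (hw : w ≠ 0) (hs : s ∉ F ∙ w)
    (hws : f₂ w s = 0) {a b : Fin n₁ → F} (ha : a ≠ 0) (hb : b ∉ F ∙ a) (hab : f₁ a b = 0)
    (h : Fam T f₂ M w s (sym C.h₁ a b) (-sym C.h₁ a b)) : False := by
  classical
  have hsym : ∀ {α : GL (Fin n₁) F}, α ∈ isoGroup f₁ → ∀ x y,
      cj α (sym C.h₁ x y) = sym C.h₁ (act α x) (act α y) := fun {α} hα x y => LinearMap.ext fun u => by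
    have e : ∀ t, f₁ (act α⁻¹ u) t = f₁ u (act α t) := fun t => by
      conv_lhs => rw [← mem_isoGroup.1 hα, act_act_inv]
    rw [cj_apply, sym_apply, sym_apply, map_add, map_smul, map_smul, e, e]
  have hU := SP.pair_all C.h₁ (fun x y => Fam T f₂ M w s (sym C.h₁ x y) (-sym C.h₁ x y))
    (fun x y y' _ _ h1 h2 => by
      have hn : sym C.h₁ x (y + y') = sym C.h₁ x y + sym C.h₁ x y' := by
        ext u; simp [sym_apply, f_add_right C.h₁]; ring
      intro d
      obtain ⟨g₁, hg₁, e₁⟩ := h1 d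
      obtain ⟨g₂, hg₂, e₂⟩ := h2 d
      refine ⟨_, M.mul_mem hg₁ hg₂, ?_⟩
      have := isPure_mul C e₁ e₂ hws
      rw [add_zero, smul_neg, smul_neg, ← neg_add, ← smul_add, ← hn, ← smul_neg] at this
      exact this)
    (fun x y k _ h1 => by
      have hn : sym C.h₁ x (k • y) = k • sym C.h₁ x y := by
        ext u; simp [sym_apply, f_smul_right C.h₁]; ring
      rw [hn, show -(k • sym C.h₁ x y) = k • -sym C.h₁ x y by ext u; simp]
      exact fam_smul C h1 k)
    (fun y d => ⟨1, M.one_mem, fun u v => by simp [act_one, sym_apply, f_zero_right C.h₁, pt_zero_left]⟩)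
    (fun y d x z _ h1 => by
      have := fam_cj C h1 (stv_mem C.h₁ y d)
      rwa [show cj (stv C.h₁ y d) (-sym C.h₁ x z) = -cj (stv C.h₁ y d) (sym C.h₁ x z) by ext u; simp [cj_apply],
        hsym (stv_mem C.h₁ y d)] at this)
    ha hb hab h
  have hW := fun x y (hxy : f₁ x y = 0) =>
    SP.pair_all C.h₂ (fun p q => Fam T f₂ M p q (sym C.h₁ x y) (-sym C.h₁ x y))
      (fun p q q' hq hq' h1 h2 d => by
        obtain ⟨g₁, hg₁, e₁⟩ := h1 d
        obtain ⟨g₂, hg₂, e₂⟩ := h2 d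
        refine ⟨_, M.mul_mem hg₁ hg₂, fun u v => ?_⟩
        rw [isPure_mul_act C e₁ e₂ hq hq']
        simp only [LinearMap.smul_apply, LinearMap.neg_apply, map_smul, map_neg, sym_sq C.h₁ hxy,
          smul_zero, neg_zero, pt_zero_left, LinearMap.zero_apply, pt_add_right, f_add_right C.h₂, add_zero,
          add_smul, smul_add]
        abel)
      (fun p q k _ h1 d => by
        obtain ⟨g, hg, e⟩ := h1 (d * k)
        refine ⟨g, hg, fun u v => ?_⟩
        rw [e]
        simp only [LinearMap.smul_apply, LinearMap.neg_apply, LinearMap.zero_apply, pt_smul_left,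
          pt_smul_right, f_smul_right C.h₂, pt_zero_left]
        module)
      (fun q d => ⟨1, M.one_mem, fun u v => by simp [act_one, f_zero_right C.h₂, pt_zero_right]⟩)
      (fun y' d' p q _ h1 d => by
        obtain ⟨g, hg, e⟩ := h1 d
        have hg' := gl_right_mem C (stv_mem C.h₂ y' d')
        refine ⟨_, M.mul_mem (M.mul_mem hg' hg) (M.inv_mem hg'), ?_⟩
        have := isPure_conj_iso C e (1 : GL (Fin n₁) F) (stv_mem C.h₂ y' d')
        rwa [cj_one C, cj_one C, cj_one C] at this)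
      hw hs hws (hU x y hxy)
  obtain ⟨r, hr0, hr1⟩ := SP.exists_zero_one C.h₁ (a := b) (v := a) (fun e => hb (by
    obtain ⟨k, hk⟩ := Submodule.mem_span_singleton.1 e
    have hk0 : k ≠ 0 := by rintro rfl; exact ha (by rw [← hk, zero_smul])
    exact Submodule.mem_span_singleton.2 ⟨k⁻¹, by rw [← hk, inv_smul_smul₀ hk0]⟩))
  obtain ⟨w', hww'⟩ := SP.exists_one C.h₂ hw
  have h6 := C.six
  obtain ⟨z, hz, hz0⟩ := SP.exists_perp_notMem C.h₂ ![w, w'] (![] : Fin 0 → _) (by simp; omega)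
  have hzne : z ≠ 0 := by simpa using hz0
  obtain ⟨z', hz', hz'n⟩ := SP.exists_perp_notMem C.h₂ ![w, w', z] ![z] (by simp; omega)
  have hz'n' : z' ∉ F ∙ z := by simpa [Matrix.range_cons, Matrix.range_empty] using hz'n
  refine lineB_false C hM (v := b) (fun e => hb (e ▸ Submodule.zero_mem _)) hzne hz'n' (hz' 2) fun e => ?_
  obtain ⟨y₁, hy₁, e₁⟩ := hW a b hab w z (hz 0) (e * c)
  obtain ⟨y₂, hy₂, e₂⟩ := hW r b (f_eq_zero_symm C.h₁ hr0) w' z' (hz' 1) 1
  rw [smul_neg] at e₁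
  rw [one_smul, one_smul] at e₂
  rw [← sym_commutator C hww' (hz 0) (hz' 0) (hz 1) (hz' 1) (hz' 2) hab (f_eq_zero_symm C.h₁ hr0) hr1 e₁ e₂]
  exact M.mul_mem (M.mul_mem (M.mul_mem hy₁ hy₂) (M.inv_mem hy₁)) (M.inv_mem hy₂)

theorem fam_long_false (hM : ¬ Cfsg.Geo.omegaGL Q ≤ M) {w s : Fin n₂ → F} (hw : w ≠ 0) (hs : s ∉ F ∙ w)
    (hws : f₂ w s = 0) {v : Fin n₁ → F} (hv : v ≠ 0) {μ : F} (hμ : μ ≠ 0) {S : End₁ F n₁}
    (hS : ∀ u, S u = (μ * f₁ u v) • v) (h : Fam T f₂ M w s S (-S)) : False := by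
  refine lineB_false C hM hv hw hs hws fun e => ?_
  obtain ⟨g, hg, hact⟩ := h (-(e * c) / μ)
  convert hg using 1
  refine gl_ext_pt T fun u x => ?_
  rw [OPair.act_line (pairing C) (C.sing _ _) (C.sing _ _) (by rw [C.form, C.h₁.alternating, zero_mul, mul_zero]),
    C.form, C.form, hact]
  simp only [LinearMap.smul_apply, LinearMap.neg_apply, LinearMap.zero_apply, hS, pt_smul_left, pt_neg_left,
    pt_zero_left, C.h₁.skew v u, C.h₂.skew w x, C.h₂.skew s x]
  match_scalars <;> field_simp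
  all_goals ring

theorem fam_scalar (hM : ¬ Cfsg.Geo.omegaGL Q ≤ M) {w s : Fin n₂ → F} (hw : w ≠ 0) (hs : s ∉ F ∙ w)
    (hws : f₂ w s = 0) {S S' : End₁ F n₁} (hF : Fam T f₂ M w s S S') {k : F}
    (hk : ∀ u, S' u = k • u - S u) (hadj : ∀ u u', f₁ (S u) u' = f₁ u (S' u')) :
    ∀ u, S u ∈ F ∙ u := by
  classical
  have e0 : ∀ v u, f₁ (S u) v = k * f₁ u v - f₁ u (S v) := fun v u => by
    rw [hadj, hk, f_sub_right C.h₁, f_smul_right C.h₁]
  have hD : ∀ (v : Fin n₁ → F) (d : F), Fam T f₂ M w s (cj (stv C.h₁ v d) S - S) (-(cj (stv C.h₁ v d) S - S)) := by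
    intro v d
    have h1 := fam_sub C hws (fam_cj C hF (stv_mem C.h₁ v d)) hF
    have e : cj (stv C.h₁ v d) S' - S' = -(cj (stv C.h₁ v d) S - S) := LinearMap.ext fun u => by
      simp only [LinearMap.sub_apply, LinearMap.neg_apply, cj_apply, hk, map_sub, map_smul, act_act_inv]
      abel
    rwa [e] at h1
  -- a singular non-eigenvector
  have hA : ∀ v, f₁ (S v) v = 0 → S v ∈ F ∙ v := by
    intro v hv0
    by_contra hv
    obtain ⟨x, hx0, hx1⟩ := SP.exists_zero_one C.h₁ (a := v) (v := S v) hv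
    obtain ⟨S₂, hS₂⟩ : ∃ S₂, S₂ = cj (stv C.h₁ v 1) S - S := ⟨_, rfl⟩
    have h2 := hD v 1
    rw [← hS₂] at h2
    have hS₂u : ∀ u, S₂ u = (k * f₁ u v - f₁ u (S v)) • v - f₁ u v • S v := fun u => by
      rw [hS₂, LinearMap.sub_apply, cj_stv_sub, hv0, e0]; module
    have hxv : f₁ x v = 0 := f_eq_zero_symm C.h₁ hx0
    have hxS : f₁ x (S v) = -1 := by rw [C.h₁.skew, hx1]
    have hS₂x : S₂ x = v := by rw [hS₂u, hxv, hxS]; module
    have hvS : f₁ v (S v) = 0 := f_eq_zero_symm C.h₁ hv0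
    have hadj2 : ∀ u, f₁ (S₂ u) x = -f₁ u v := fun u => by
      rw [hS₂u, f_sub_left C.h₁, f_smul_left C.h₁, f_smul_left C.h₁, hx0, hx1]; ring
    have h3 : Fam T f₂ M w s (cj (stv C.h₁ x 1) S₂ - S₂) (-(cj (stv C.h₁ x 1) S₂ - S₂)) := by
      have h := fam_sub C hws (fam_cj C h2 (stv_mem C.h₁ x 1)) h2
      have e : cj (stv C.h₁ x 1) (-S₂) - -S₂ = -(cj (stv C.h₁ x 1) S₂ - S₂) := LinearMap.ext fun u => by
        simp only [LinearMap.sub_apply, LinearMap.neg_apply, cj_apply, map_neg]; abel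
      rwa [e] at h
    have hS₃ : cj (stv C.h₁ x 1) S₂ - S₂ = -sym C.h₁ x v := LinearMap.ext fun u => by
      rw [LinearMap.sub_apply, cj_stv_sub, hadj2, hS₂x, hx0, LinearMap.neg_apply, sym_apply]
      module
    rw [hS₃] at h3
    have h4 := fam_smul C h3 (-1)
    rw [show (-1 : F) • -sym C.h₁ x v = sym C.h₁ x v by ext u; simp,
      show (-1 : F) • - -sym C.h₁ x v = -sym C.h₁ x v by ext u; simp] at h4
    refine fam_sym_false C hM hw hs hws (fun e => ?_) (fun e => ?_) hxv h4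
    · rw [e, f_zero_right C.h₁] at hx1; exact zero_ne_one hx1
    · obtain ⟨l, hl⟩ := Submodule.mem_span_singleton.1 e
      have hvS' : f₁ (l • x) (S v) = 0 := by rw [hl]; exact hvS
      rw [f_smul_left C.h₁, hxS, mul_neg, mul_one, neg_eq_zero] at hvS'
      rw [hvS', zero_smul] at hl
      exact hv (by rw [← hl, map_zero]; exact Submodule.zero_mem _)
  by_cases h1 : (∃ t : F, t ≠ 0 ∧ t ≠ 1) ∧ ∃ v, f₁ (S v) v ≠ 0
  · obtain ⟨⟨t, ht0, ht1⟩, v, hγ⟩ := h1
    have h := fam_sub C hws (hD v 1) (fam_smul C (hD v t) t⁻¹)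
    have hv : v ≠ 0 := fun e => hγ (by rw [e, f_zero_right C.h₁])
    have e : -(cj (stv C.h₁ v 1) S - S) - t⁻¹ • -(cj (stv C.h₁ v t) S - S) =
        -((cj (stv C.h₁ v 1) S - S) - t⁻¹ • (cj (stv C.h₁ v t) S - S)) := by rw [smul_neg]; abel
    rw [e] at h
    refine (fam_long_false C hM hw hs hws hv (μ := (t - 1) * f₁ (S v) v)
      (mul_ne_zero (sub_ne_zero.2 ht1) hγ) (fun u => ?_) h).elim
    rw [LinearMap.sub_apply, LinearMap.smul_apply, LinearMap.sub_apply, LinearMap.sub_apply, cj_stv_sub,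
      cj_stv_sub]
    match_scalars <;> field_simp
    all_goals ring
  by_cases hγ0 : ∀ v, f₁ (S v) v = 0
  · exact fun u => hA u (hγ0 u)
  push Not at hγ0
  obtain ⟨u₀, hu₀⟩ := hγ0
  have two : ∀ x : F, x = 0 ∨ x = 1 := fun x => by
    by_contra hx
    push Not at hx
    exact h1 ⟨⟨x, hx.1, hx.2⟩, u₀, hu₀⟩
  have h2 : (2 : F) = 0 := by
    rcases two 2 with h | h
    · exact h
    · exact absurd (by linear_combination h : (1 : F) = 0) one_ne_zero
  have one : ∀ {x : F}, x ≠ 0 → x = 1 := fun hx => (two _).resolve_left hx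
  -- a singular eigenvector gives a root element when `k ≠ 0`
  have hpol : ∀ u u', f₁ (S (u + u')) (u + u') = f₁ (S u) u + f₁ (S u') u' + k * f₁ u u' := by
    intro u u'
    have e : f₁ (S u') u = k * f₁ u' u + f₁ (S u) u' := by
      rw [e0, C.h₁.skew u' (S u)]; ring
    rw [map_add, f_add_left C.h₁, f_add_right C.h₁, f_add_right C.h₁, e, C.h₁.skew u' u]
    linear_combination (f₁ (S u) u' - k * f₁ u u') * h2
  rcases ne_or_eq k 0 with hk0 | hk0
  · exfalso
    obtain ⟨v, hv0, hv⟩ : ∃ v, f₁ (S v) v = 0 ∧ v ≠ 0 := by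
      have h4 : 4 ≤ n₁ := C.four_le fun h => C.hex ⟨h, two⟩
      have hp : u₀ ≠ 0 := fun e => hu₀ (by rw [e, f_zero_right C.h₁])
      obtain ⟨q, hq, hqn⟩ := SP.exists_perp_notMem C.h₁ ![u₀] ![u₀] (by simp; omega)
      have hqn' : q ∉ F ∙ u₀ := by simpa [Matrix.range_cons, Matrix.range_empty] using hqn
      by_cases hq0 : f₁ (S q) q = 0
      · exact ⟨q, hq0, fun e => hqn' (e ▸ Submodule.zero_mem _)⟩
      refine ⟨u₀ + q, ?_, fun e => hqn' ?_⟩
      · rw [hpol, one hu₀, one hq0, show f₁ u₀ q = 0 from hq 0]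
        linear_combination h2
      · rw [eq_neg_of_add_eq_zero_right e]
        exact Submodule.neg_mem _ (Submodule.mem_span_singleton_self u₀)
    obtain ⟨l, hl⟩ := Submodule.mem_span_singleton.1 (hA v hv0)
    refine fam_long_false C hM hw hs hws hv (μ := k - 2 * l) (by rw [h2, zero_mul, sub_zero]; exact hk0)
      (fun u => ?_) (hD v 1)
    rw [LinearMap.sub_apply, cj_stv_sub, e0, hv0, ← hl, f_smul_right C.h₁]
    module
  intro u₁
  by_contra hu₁
  -- now `v ↦ f₁(S v, v)` is linear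
  let γ : (Fin n₁ → F) →ₗ[F] F :=
    { toFun := fun v => f₁ (S v) v
      map_add' := fun u u' => by rw [hpol, hk0, zero_mul, add_zero]
      map_smul' := fun r u => by
        rcases two r with rfl | rfl <;> simp [f_zero_right C.h₁] }
  obtain ⟨a, ha⟩ := exists_repr C.h₁ γ
  have ha0 : a ≠ 0 := fun e => hu₀ (by
    show γ u₀ = 0
    rw [ha, e, f_zero_right C.h₁])
  obtain ⟨l, hl⟩ := Submodule.mem_span_singleton.1 (hA a (by show γ a = 0; rw [ha, C.h₁.alternating]))
  have hH : ∀ u, f₁ u a = 0 → S u = l • u := by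
    intro u hu
    by_cases hua : u ∈ F ∙ a
    · obtain ⟨r, rfl⟩ := Submodule.mem_span_singleton.1 hua
      rw [map_smul, ← hl, smul_comm]
    obtain ⟨m, hm⟩ := Submodule.mem_span_singleton.1 (hA u (by show γ u = 0; rw [ha, hu]))
    obtain ⟨m', hm'⟩ := Submodule.mem_span_singleton.1 (hA (u + a) (by
      show γ (u + a) = 0
      rw [ha, f_add_left C.h₁, hu, C.h₁.alternating, add_zero]))
    rw [map_add, ← hm, ← hl, smul_add] at hm'
    have e : (m' - m) • u = (l - m') • a := by linear_combination (norm := module) hm'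
    have hmm : m' - m = 0 := by
      by_contra hne
      exact hua (Submodule.mem_span_singleton.2 ⟨(m' - m)⁻¹ * (l - m'), by rw [mul_smul, ← e, inv_smul_smul₀ hne]⟩)
    rw [hmm, zero_smul, eq_comm, smul_eq_zero, or_iff_left ha0, sub_eq_zero] at e
    rw [← hm, e, sub_eq_zero.1 hmm]
  obtain ⟨p, hap⟩ := SP.exists_one C.h₁ ha0
  have hpa : f₁ p a = -1 := by rw [C.h₁.skew, hap]
  obtain ⟨y, hy⟩ : ∃ y, y = -(S p - l • p) := ⟨_, rfl⟩
  have hSu : ∀ u, S u - l • u = f₁ u a • y := fun u => by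
    have := hH (u + f₁ u a • p) (by rw [f_add_left C.h₁, f_smul_left C.h₁, hpa]; ring)
    rw [map_add, map_smul] at this
    rw [hy]
    linear_combination (norm := module) this
  have hyspan : y ∈ F ∙ a := by
    by_contra hya
    obtain ⟨x, hx0, hx1⟩ := SP.exists_zero_one C.h₁ hya
    have h3 : f₁ (S p - l • p) x = f₁ p (S' x + l • x) + (- l - l) * f₁ p x := by
      rw [f_sub_left C.h₁, f_smul_left C.h₁, hadj, f_add_right C.h₁, f_smul_right C.h₁]; ring
    have h5 : S' x + l • x = 0 := by rw [hk, hk0, hH x (f_eq_zero_symm C.h₁ hx0)]; module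
    rw [h5, f_zero_right C.h₁, hSu, f_smul_left C.h₁, hpa, hx1] at h3
    refine one_ne_zero (α := F) ?_
    linear_combination -h3 + l * f₁ p x * h2
  obtain ⟨μ, hμ⟩ := Submodule.mem_span_singleton.1 hyspan
  have hμ0 : μ ≠ 0 := fun e => hu₁ (Submodule.mem_span_singleton.2 ⟨l, by
    have := hSu u₁
    rw [← hμ, e, zero_smul, smul_zero, sub_eq_zero] at this
    exact this.symm⟩)
  have hF' := fam_sub C hws hF (fam_smul C (fam_one C hws) l)
  have e : S' - l • LinearMap.id = -(S - l • LinearMap.id) := LinearMap.ext fun u => by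
    simp only [LinearMap.sub_apply, LinearMap.neg_apply, LinearMap.smul_apply, LinearMap.id_apply, hk, hk0]
    linear_combination (norm := module) -(h2 • (l • u))
  rw [e] at hF'
  refine fam_long_false C hM hw hs hws ha0 hμ0 (fun u => ?_) hF'
  rw [LinearMap.sub_apply, LinearMap.smul_apply, LinearMap.id_apply, hSu, ← hμ, smul_smul, mul_comm]

/-- pure elements of `M` have scalar `S` -/
theorem pure_scalar (hM : ¬ Cfsg.Geo.omegaGL Q ≤ M) {w z : Fin n₂ → F} (hw : w ≠ 0) (hz : z ∉ F ∙ w)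
    (hwz : f₂ w z = 0) {S S' R : End₁ F n₁} {g : GL ι F} (hg : g ∈ M) (h : IsPure T f₂ w z S S' R g) :
    ∃ k : F, ∀ u, S u = k • u := by
  have hadj := pure_adjoint C (mem_iso_of_mem C hg) h hw hz hwz
  obtain ⟨g', hg', h'⟩ := pure_move C hg h hwz (C.h₂.alternating w) (f_eq_zero_symm C.h₂ hwz)
    (s := w) (by rwa [Set.pair_eq_singleton])
  obtain ⟨k, hk⟩ := top_scalar C hM hw hg' (R := S + S') (fun u v => by
    rw [h', LinearMap.zero_apply, pt_zero_left, smul_zero, add_zero, LinearMap.add_apply, pt_add_left, smul_add]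
    abel)
  have h6 := C.six
  obtain ⟨s, hs, hsn⟩ := SP.exists_perp_notMem C.h₂ ![w, z] ![w, z] (by simp; omega)
  have hws : f₂ w s = 0 := hs 0
  have hzs : f₂ z s = 0 := hs 1
  have hsn' : s ∉ Submodule.span F ({w, z} : Set (Fin n₂ → F)) := by
    simpa [Matrix.range_cons, Matrix.range_empty, Set.pair_comm] using hsn
  have hs' : s ∉ F ∙ w := fun e => hsn' (Submodule.span_mono (by simp) e)
  refine exists_scalar_of_eigen S (fam_scalar C hM hw hs' hws (S' := S') (k := k) (fun d => ?_) (fun u => ?_) hadj)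
  · obtain ⟨g₁, hg₁, h₁⟩ := pure_move C hg h hwz (s := d • s) (by rw [f_smul_right C.h₂, hws, mul_zero])
      (by rw [f_smul_right C.h₂, hzs, mul_zero]) (fun e => by
        obtain ⟨p, q, hpq⟩ := Submodule.mem_span_pair.1 e
        rw [smul_smul] at hpq
        rcases eq_or_ne (q * d) 0 with h0 | h0
        · rw [h0, zero_smul, add_zero] at hpq
          exact hz (Submodule.mem_span_singleton.2 ⟨p, hpq⟩)
        · refine hsn' (Submodule.mem_span_pair.2 ⟨-((q * d)⁻¹ * p), (q * d)⁻¹, ?_⟩)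
          rw [← hpq, smul_add, smul_smul, smul_smul, inv_mul_cancel₀ h0, one_smul]
          module)
    refine ⟨g₁, hg₁, fun u v => ?_⟩
    rw [h₁]
    simp only [LinearMap.smul_apply, pt_smul_left, pt_smul_right, f_smul_right C.h₂]
    module
  · rw [← hk u, LinearMap.add_apply, add_sub_cancel_left]

end Cfsg.Agent.MaxCl.TensSp
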