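/-
The normaliser of a root group in a proper overgroup of a symplectic tensor stabiliser consists of tensor products,
so the stabiliser is maximal in the derived orthogonal group.
-/
import Mathlib
import Cfsg.Agent.Lib.MaxCl.SympTensorPure

set_option autoImplicit false

namespace Cfsg.Agent.MaxCl.TensSp

open scoped MatrixGroups Matrix
open Module (finrank)
open Tens

variable {ι : Type} [Fintype ι] [DecidableEq ι] {F : Type*} [Field F] {n₁ n₂ : ℕ}
variable {T : TSys ι F n₁ n₂} {Q : QuadraticForm F (ι → F)}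
variable {f₁ : (Fin n₁ → F) → (Fin n₁ → F) → F} {f₂ : (Fin n₂ → F) → (Fin n₂ → F) → F} {c : F}
variable {M : Subgroup (GL ι F)}

set_option quotPrecheck false in
local notation "B" => QuadraticMap.polar (⇑Q)

omit [Field F] in
theorem cR_cL_comm [Field F] (χ : (Fin n₁ → F) →ₗ[F] F) (ψ : (Fin n₂ → F) →ₗ[F] F) (T : TSys ι F n₁ n₂)
    (x : ι → F) : χ (cR T ψ x) = ψ (cL T χ x) := by
  have : χ ∘ₗ cR T ψ = ψ ∘ₗ cL T χ := pt_ext T fun u v => by
    simp only [LinearMap.comp_apply, cR_pt, cL_pt, map_smul, smul_eq_mul, mul_comm]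
  exact LinearMap.congr_fun this x

variable (C : SCtx T Q f₁ f₂ c M)
include C

/-- the short root element `1 ⊗ r` -/
theorem act_glRoot {w φ : Fin n₂ → F} (hwφ : f₂ w φ = 0) (x : ι → F) :
    act (gl T 1 (root C.h₂ w φ)) x = x + pt T (proj T C.h₂ w x) φ + pt T (proj T C.h₂ φ x) w := by
  have : act (gl T 1 (root C.h₂ w φ)) =
      LinearMap.id + ptL T φ ∘ₗ proj T C.h₂ w + ptL T w ∘ₗ proj T C.h₂ φ := pt_ext T fun u v => by
    show _ = pt T u v + pt T (proj T C.h₂ w (pt T u v)) φ + pt T (proj T C.h₂ φ (pt T u v)) w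
    rw [act_gl_pt, act_one, act_root C.h₂ hwφ, proj_pt, proj_pt, pt_add_right, pt_add_right, pt_smul_right,
      pt_smul_right, pt_smul_left, pt_smul_left]
  rw [this]; rfl

/-- vectors killed by all `π_φ`, `φ ⊥ ⟨w, w'⟩`, and by `π_w` lie in `U ⊗ w` -/
theorem layer_eq {w w' : Fin n₂ → F} (hww' : f₂ w w' = 1) {y : ι → F} (hπ : proj T C.h₂ w y = 0)
    (hφ : ∀ φ, f₂ w φ = 0 → f₂ w' φ = 0 → proj T C.h₂ φ y = 0) : y = pt T (proj T C.h₂ w' y) w := by
  refine sub_eq_zero.1 (eq_zero_of_cR T fun ψ => ?_)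
  obtain ⟨t, ht⟩ := exists_repr C.h₂ ψ
  obtain ⟨φ, hφdef⟩ : ∃ φ, φ = t - f₂ t w' • w - f₂ w t • w' := ⟨_, rfl⟩
  have hw'w : f₂ w' w = -1 := by rw [C.h₂.skew, hww']
  have hdec : cR T ψ = proj T C.h₂ φ + f₂ t w' • proj T C.h₂ w + f₂ w t • proj T C.h₂ w' := pt_ext T fun u v => by
    simp only [LinearMap.add_apply, LinearMap.smul_apply, cR_pt, proj_pt, ht, hφdef, f_sub_right C.h₂,
      f_smul_right C.h₂]
    module
  have h1 : f₂ w φ = 0 := by
    rw [hφdef]; simp only [f_sub_right C.h₂, f_smul_right C.h₂, C.h₂.alternating, hww']; ring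
  have h2 : f₂ w' φ = 0 := by
    rw [hφdef]; simp only [f_sub_right C.h₂, f_smul_right C.h₂, C.h₂.alternating, hw'w, C.h₂.skew w' t]; ring
  simp only [hdec, LinearMap.add_apply, LinearMap.smul_apply, map_sub, hφ φ h1 h2, hπ, proj_pt, h1,
    C.h₂.alternating, hww', one_smul, zero_smul, sub_self, smul_zero, sub_zero, add_zero]

/-- isometries fixing `U ⊗ w^⊥` pointwise are top elements -/
theorem exists_isTop {w w' : Fin n₂ → F} (hww' : f₂ w w' = 1) {g : GL ι F} (hg : g ∈ isometryGroup F Q)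
    (hfix : ∀ u v, f₂ v w = 0 → act g (pt T u v) = pt T u v) : ∃ R, IsTop T f₂ w g R := by
  have hw'w : f₂ w' w = -1 := by rw [C.h₂.skew, hww']
  let E : (Fin n₁ → F) →ₗ[F] (ι → F) := -((act g - LinearMap.id) ∘ₗ ptL T w')
  refine ⟨proj T C.h₂ w' ∘ₗ E, fun u v => ?_⟩
  have hperp : ∀ φ, f₂ φ w = 0 → proj T C.h₂ φ (E u) = 0 := fun φ hφ => by
    refine eq_zero_of_f₁ C fun a => ?_
    refine mul_left_cancel₀ C.c_ne ?_
    rw [← form_right C, mul_zero]
    show B (-(act g (pt T u w') - pt T u w')) (pt T a φ) = 0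
    rw [Orth.B_neg_left Q, Orth.B_sub_left Q, neg_eq_zero, sub_eq_zero]
    conv_lhs => arg 3; rw [← hfix a φ hφ]
    exact Orth.B_act hg _ _
  have hE := layer_eq C hww' (hperp w (C.h₂.alternating w)) fun φ h1 _ => hperp φ (f_eq_zero_symm C.h₂ h1)
  show _ = _ + f₂ v w • pt T (proj T C.h₂ w' (E u)) w
  rw [← hE]
  have hv : pt T u v = pt T u (v + f₂ v w • w') - f₂ v w • pt T u w' := by
    rw [pt_add_right, pt_smul_right, add_sub_cancel_right]
  rw [hv, map_sub, map_smul, hfix u _ (by rw [f_add_left C.h₂, f_smul_left C.h₂, hw'w]; ring)]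
  show _ = _ + f₂ v w • -(act g (pt T u w') - pt T u w')
  module

variable [Finite F]

/-- isometries fixing `U ⊗ w` act on `(U ⊗ z + U ⊗ w) / U ⊗ w` by scalars -/
theorem layer_scalar (hM : ¬ Cfsg.Geo.omegaGL Q ≤ M) {w z : Fin n₂ → F} (hw : w ≠ 0) (hwz : f₂ w z = 0)
    {ρ : GL ι F} (hρ : ρ ∈ isometryGroup F Q) (hfix : ∀ u, act ρ (pt T u w) = pt T u w)
    {Ψ : End₁ F n₁} (hΨ : ∀ u, act ρ (pt T u z) = pt T u z + pt T (Ψ u) w)
    (α : GL (Fin n₁) F) {β : GL (Fin n₂) F} {ν : F} (hν : ν ≠ 0)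
    (hβ : ∀ x y, f₂ (act β x) (act β y) = ν * f₂ x y)
    (hmem : gl T α β * (ρ * rt T C.h₂ z 1 * ρ⁻¹) * (gl T α β)⁻¹ ∈ M) : ∃ k : F, ∀ u, Ψ u = k • u := by
  by_cases hz : z ∈ F ∙ w
  · obtain ⟨k, rfl⟩ := Submodule.mem_span_singleton.1 hz
    refine ⟨0, fun u => ?_⟩
    have := hΨ u
    rw [pt_smul_right, map_smul, hfix, left_eq_add, pt_eq_zero, or_iff_left hw] at this
    rw [this, zero_smul]
  obtain ⟨w'', hw''⟩ := SP.exists_one C.h₂ hw
  have hw''w : f₂ w'' w = -1 := by rw [C.h₂.skew, hw'']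
  let D : (ι → F) →ₗ[F] (Fin n₁ → F) := proj T C.h₂ z ∘ₗ act ρ⁻¹ - proj T C.h₂ z
  have hD0 : ∀ x, proj T C.h₂ w x = 0 → D x = 0 := fun x hx => by
    refine eq_zero_of_f₁ C fun u => mul_left_cancel₀ C.c_ne ?_
    show c * f₁ (proj T C.h₂ z (act ρ⁻¹ x) - proj T C.h₂ z x) u = c * 0
    rw [f_sub_left C.h₁, mul_sub, ← form_right C, ← form_right C, ← Orth.B_act hρ (act ρ⁻¹ x), act_act_inv, hΨ,
      Orth.B_add_right Q, add_sub_cancel_left, form_right C, hx, f_zero_left C.h₁]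
  let S' : End₁ F n₁ := -(D ∘ₗ ptL T w'')
  have hD : ∀ x, proj T C.h₂ z (act ρ⁻¹ x) = proj T C.h₂ z x + S' (proj T C.h₂ w x) := fun x => by
    have h := hD0 (x + pt T (proj T C.h₂ w x) w'') (by rw [map_add, proj_pt, hw''w, neg_one_smul, add_neg_cancel])
    rw [map_add] at h
    show _ = proj T C.h₂ z x + -(D (pt T (proj T C.h₂ w x) w''))
    rw [← eq_neg_of_add_eq_zero_left h]
    show _ = proj T C.h₂ z x + (proj T C.h₂ z (act ρ⁻¹ x) - proj T C.h₂ z x)
    abel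
  have hwz' := f_eq_zero_symm C.h₂ hwz
  have hpure : IsPure T f₂ w z Ψ S' (Ψ ∘ₗ S') ((rt T C.h₂ z 1)⁻¹ * (ρ * rt T C.h₂ z 1 * ρ⁻¹)) := by
    intro u v
    rw [act_mul]
    apply act_injective (rt T C.h₂ z 1)
    rw [act_act_inv, act_rt C.h₂, act_mul, act_mul, act_rt C.h₂, one_smul, one_smul, map_add, act_act_inv,
      hD, hΨ, proj_pt, proj_pt]
    simp only [map_add, map_smul, proj_pt, LinearMap.comp_apply, hwz, C.h₂.alternating, zero_smul, smul_zero,
      add_zero, pt_add_left, pt_smul_left]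
    module
  have hconj : gl T α β * rt T C.h₂ z 1 * (gl T α β)⁻¹ = rt T C.h₂ (act β z) ν⁻¹ := gl_ext_pt T fun u v => by
    have e : f₂ (act β⁻¹ v) z = ν⁻¹ * f₂ v (act β z) := by
      have := hβ (act β⁻¹ v) z
      rw [act_act_inv] at this
      rw [this, inv_mul_cancel_left₀ hν]
    rw [gl_inv, rt, rt, gl_mul, gl_mul, act_gl_pt, act_gl_pt, mul_one, mul_inv_cancel, act_mul, act_mul,
      act_stv C.h₂, act_stv C.h₂, map_add, map_smul, act_act_inv, one_mul, e]
  have hP := isPure_conj C hpure α hν hβ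
  obtain ⟨k, hk⟩ := pure_scalar C hM (fun e => hw (act_injective β (by rw [e, map_zero])))
    (fun e => hz (by
      obtain ⟨k, hk⟩ := Submodule.mem_span_singleton.1 e
      exact Submodule.mem_span_singleton.2 ⟨k, act_injective β (by rw [map_smul, hk])⟩))
    (by rw [hβ, hwz, mul_zero]) (by
      have h1 : gl T α β * ((rt T C.h₂ z 1)⁻¹ * (ρ * rt T C.h₂ z 1 * ρ⁻¹)) * (gl T α β)⁻¹ =
          (gl T α β * rt T C.h₂ z 1 * (gl T α β)⁻¹)⁻¹ *
            (gl T α β * (ρ * rt T C.h₂ z 1 * ρ⁻¹) * (gl T α β)⁻¹) := by group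
      rw [h1, hconj]
      exact M.mul_mem (M.inv_mem (rt_mem C _ _)) hmem) hP
  refine ⟨ν * k, fun u => ?_⟩
  have := hk (act α u)
  rw [LinearMap.smul_apply, cj_apply, act_inv_act, inv_smul_eq_iff₀ hν, smul_smul, ← map_smul] at this
  exact act_injective α this

/-- the normaliser of a root group -/
theorem centralizer_tensor (hM : ¬ Cfsg.Geo.omegaGL Q ≤ M) {w : Fin n₂ → F} (hw0 : w ≠ 0) {d d' : F}
    (hd : d ≠ 0) (hd' : d' ≠ 0) {g : GL ι F} (hg : g ∈ M)
    (hcomm : g * rt T C.h₂ w d = rt T C.h₂ w d' * g) :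
    g ∈ Cfsg.Geo.tensorProductSubgroup n₁ n₂ T.e T.P := by
  classical
  obtain ⟨w', hww'⟩ := SP.exists_one C.h₂ hw0
  have hw'w : f₂ w' w = -1 := by rw [C.h₂.skew, hww']
  have hgI := mem_iso_of_mem C hg
  obtain ⟨ν, hνdef⟩ : ∃ ν, ν = d / d' := ⟨_, rfl⟩
  have hν : ν ≠ 0 := hνdef ▸ div_ne_zero hd hd'
  have hgr : ∀ x, act g (pt T (proj T C.h₂ w x) w) = ν⁻¹ • pt T (proj T C.h₂ w (act g x)) w := by
    intro x
    have e : act (g * rt T C.h₂ w d) x = act (rt T C.h₂ w d' * g) x := by rw [hcomm]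
    rw [act_mul, act_mul, act_rt C.h₂, act_rt C.h₂, map_add, map_smul] at e
    have := add_left_cancel e
    apply smul_right_injective (ι → F) hd
    show d • _ = d • (ν⁻¹ • _)
    rw [this, smul_smul, hνdef, inv_div, mul_div_cancel₀ _ hd]
  let A : End₁ F n₁ := -ν⁻¹ • (proj T C.h₂ w ∘ₗ act g ∘ₗ ptL T w')
  have hA : ∀ u, act g (pt T u w) = pt T (A u) w := fun u => by
    have h := hgr (pt T u w')
    rw [proj_pt, hw'w, neg_one_smul, pt_neg_left, map_neg, neg_eq_iff_eq_neg] at h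
    rw [h]
    show _ = pt T (-ν⁻¹ • proj T C.h₂ w (act g (pt T u w'))) w
    rw [pt_smul_left, neg_smul]
  have hπ : ∀ x, proj T C.h₂ w (act g x) = ν • A (proj T C.h₂ w x) := by
    intro x
    have h1 : pt T (A (proj T C.h₂ w x)) w = pt T (ν⁻¹ • proj T C.h₂ w (act g x)) w := by
      rw [← hA, hgr, pt_smul_left]
    have h2 : A (proj T C.h₂ w x) = ν⁻¹ • proj T C.h₂ w (act g x) := by
      refine sub_eq_zero.1 (((pt_eq_zero T).1 ?_).resolve_right hw0)
      rw [pt_sub_left, h1, sub_self]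
    rw [h2, smul_inv_smul₀ hν]
  have hAinj : Function.Injective A := fun u u' h => by
    have h1 : pt T u w = pt T u' w := act_injective g (by rw [hA, hA, h])
    have h2 : pt T (u - u') w = 0 := by rw [pt_sub_left, h1, sub_self]
    exact sub_eq_zero.1 (((pt_eq_zero T).1 h2).resolve_right hw0)
  obtain ⟨α, hα⟩ := exists_gl_of_injective A hAinj
  have hαmul : ∀ x y, f₁ (act α x) (act α y) = ν⁻¹ * f₁ x y := fun x y => by
    have e := Orth.B_act hgI (pt T x w') (pt T y w)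
    rw [hA, form_right C, form_right C, hπ, proj_pt, hw'w, neg_one_smul, map_neg, f_smul_left C.h₁,
      ← neg_one_smul F (A x), f_smul_left C.h₁, ← neg_one_smul F x, f_smul_left C.h₁] at e
    have e' := mul_left_cancel₀ C.c_ne e
    rw [hα, hα]
    field_simp
    linear_combination -e'
  have hgK : ∀ x, proj T C.h₂ w x = 0 → proj T C.h₂ w (act g x) = 0 := fun x hx => by
    rw [hπ, hx, map_zero, smul_zero]
  -- the middle layer
  have hmid : ∀ φ v, f₂ w φ = 0 → f₂ v w = 0 → ∃ l : F, ∀ u, proj T C.h₂ φ (act g (pt T u v)) = l • A u := by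
    intro φ v hφ hv
    set q := gl T 1 (root C.h₂ w φ) with hq
    have hρM : g⁻¹ * q * g ∈ M :=
      M.mul_mem (M.mul_mem (M.inv_mem hg) (gl_right_mem C (root_mem C.h₂ w φ))) hg
    let Ψ : End₁ F n₁ := act α⁻¹ ∘ₗ proj T C.h₂ φ ∘ₗ act g ∘ₗ ptL T v
    obtain ⟨l, hl⟩ := layer_scalar C hM hw0 (z := v) (f_eq_zero_symm C.h₂ hv) (mem_iso_of_mem C hρM)
      (fun u => by
        rw [act_mul, act_mul, hA, hq, act_glRoot C hφ, proj_pt, proj_pt, C.h₂.alternating, hφ]
        simp only [zero_smul, pt_zero_left, add_zero]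
        rw [← hA, act_inv_act])
      (Ψ := Ψ) (fun u => by
        rw [act_mul, act_mul, hq, act_glRoot C hφ, hgK _ (by rw [proj_pt, hv, zero_smul]), pt_zero_left,
          add_zero, map_add, act_inv_act]
        congr 1
        apply act_injective g
        rw [act_act_inv, hA]
        show _ = pt T (A (act α⁻¹ (proj T C.h₂ φ (act g (pt T u v))))) w
        rw [← hα, act_act_inv])
      1 one_ne_zero (β := 1) (fun x y => by rw [act_one, act_one, one_mul])
      (by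
        rw [gl_one, one_mul, inv_one, mul_one]
        exact M.mul_mem (M.mul_mem hρM (rt_mem C v 1)) (M.inv_mem hρM))
    refine ⟨l, fun u => ?_⟩
    rw [← hα, ← map_smul, ← hl u]
    exact (act_act_inv α _).symm
  obtain ⟨u₀, χ, hχ⟩ : ∃ u₀ : Fin n₁ → F, ∃ χ : (Fin n₁ → F) →ₗ[F] F, χ (A u₀) = 1 :=
    ⟨act α⁻¹ (Pi.single ⟨0, n₁_pos C⟩ 1), LinearMap.proj ⟨0, n₁_pos C⟩, by rw [← hα, act_act_inv]; simp⟩
  let P₀ : (Fin n₂ → F) →ₗ[F] (Fin n₂ → F) :=
    LinearMap.id - (flin C.h₂.bilinear w').smulRight w + (flin C.h₂.bilinear w).smulRight w'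
  have hP₀ : ∀ v, P₀ v = v - f₂ v w' • w - f₂ w v • w' := fun v => by
    simp [P₀, flin_apply, C.h₂.skew w v]
  have hP₀perp : ∀ x, f₂ (P₀ x) w = 0 ∧ f₂ (P₀ x) w' = 0 := by
    intro x
    rw [hP₀]
    simp only [f_sub_left C.h₂, f_smul_left C.h₂, C.h₂.alternating, hw'w, hww', C.h₂.skew w x]
    constructor <;> ring
  let γ : (Fin n₂ → F) →ₗ[F] (Fin n₂ → F) := P₀ ∘ₗ cL T χ ∘ₗ act g ∘ₗ ptR T u₀
  have hγperp : ∀ v, f₂ (γ v) w = 0 ∧ f₂ (γ v) w' = 0 := fun v => hP₀perp _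
  have hγ : ∀ v, f₂ v w = 0 → ∀ u, ∃ a, act g (pt T u v) = pt T (A u) (γ v) + pt T a w := by
    intro v hv u
    refine ⟨proj T C.h₂ w' (act g (pt T u v) - pt T (A u) (γ v)), ?_⟩
    rw [← layer_eq C hww' (by rw [map_sub, hgK _ (by rw [proj_pt, hv, zero_smul]), proj_pt, (hγperp v).1,
      zero_smul, sub_zero]) (fun φ h1 h2 => ?_)]
    · abel
    obtain ⟨l, hl⟩ := hmid φ v h1 hv
    have hlv : f₂ (γ v) φ = l := by
      show f₂ (P₀ (cL T χ (act g (pt T u₀ v)))) φ = l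
      rw [hP₀, f_sub_left C.h₂, f_sub_left C.h₂, f_smul_left C.h₂, f_smul_left C.h₂, h1, h2, mul_zero, mul_zero,
        sub_zero, sub_zero, ← flin_apply C.h₂.bilinear φ, ← cR_cL_comm χ (flin C.h₂.bilinear φ) T]
      show χ (proj T C.h₂ φ (act g (pt T u₀ v))) = l
      rw [hl, map_smul, hχ, smul_eq_mul, mul_one]
    rw [map_sub, hl, proj_pt, hlv, sub_self]
  have hγiso : ∀ x y, f₂ x w = 0 → f₂ y w = 0 → f₂ (γ x) (γ y) = ν * f₂ x y := by
    intro x y hxw hyw
    obtain ⟨u, u', hu⟩ := exists_ne_two C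
    obtain ⟨a, ha⟩ := hγ x hxw u
    obtain ⟨a', ha'⟩ := hγ y hyw u'
    have e := Orth.B_act hgI (pt T u x) (pt T u' y)
    rw [ha, ha'] at e
    simp only [Orth.B_add_left Q, Orth.B_add_right Q, C.form, (hγperp x).1, C.h₂.alternating,
      f_eq_zero_symm C.h₂ (hγperp y).1, mul_zero, add_zero, ← hα, hαmul] at e
    refine mul_left_cancel₀ hu ?_
    have := mul_left_cancel₀ C.c_ne e
    field_simp at this
    linear_combination f₁ u u' * this
  let L : (Fin n₂ → F) →ₗ[F] (Fin n₂ → F) :=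
    γ ∘ₗ P₀ + (flin C.h₂.bilinear w').smulRight w - ν • (flin C.h₂.bilinear w).smulRight w'
  have hL : ∀ v, L v = γ (P₀ v) + f₂ v w' • w + (ν * f₂ w v) • w' := fun v => by
    simp [L, flin_apply, C.h₂.skew w v, smul_smul, sub_eq_add_neg]
  have hLiso : ∀ x y, f₂ (L x) (L y) = ν * f₂ x y := by
    intro x y
    have e : f₂ (γ (P₀ x)) (γ (P₀ y)) =
        ν * (f₂ x y - f₂ x w' * f₂ w y + f₂ w x * f₂ y w') := by
      rw [hγiso _ _ (hP₀perp x).1 (hP₀perp y).1, hP₀, hP₀]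
      simp only [f_sub_left C.h₂, f_sub_right C.h₂, f_smul_left C.h₂, f_smul_right C.h₂,
        C.h₂.alternating, hww', hw'w, C.h₂.skew x w, C.h₂.skew w' y]
      ring
    simp only [hL, f_add_left C.h₂, f_add_right C.h₂, f_smul_left C.h₂, f_smul_right C.h₂, C.h₂.alternating,
      hww', hw'w, (hγperp _).1, (hγperp _).2, f_eq_zero_symm C.h₂ (hγperp _).1,
      f_eq_zero_symm C.h₂ (hγperp _).2, e]
    ring
  have hLinj : Function.Injective L := fun x y hxy => by
    apply flin_injective C.h₂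
    apply LinearMap.ext; intro z
    rw [flin_apply, flin_apply]
    refine mul_left_cancel₀ hν ?_
    rw [← hLiso, ← hLiso, hxy]
  obtain ⟨β, hb⟩ := exists_gl_of_injective L hLinj
  have hβ : ∀ x y, f₂ (act β x) (act β y) = ν * f₂ x y := fun x y => by rw [hb, hb, hLiso]
  set h₀ := gl T α β with hh₀
  have hh₀I : h₀ ∈ isometryGroup F Q := gl_mem_iso C hαmul hβ (inv_mul_cancel₀ hν)
  set ρ := h₀⁻¹ * g with hρ
  have hρI : ρ ∈ isometryGroup F Q := Subgroup.mul_mem _ (Subgroup.inv_mem _ hh₀I) hgI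
  have hLw : L w = w := by
    rw [hL, hP₀, C.h₂.alternating, hww']
    simp
  have hfix : ∀ u, act ρ (pt T u w) = pt T u w := by
    intro u
    apply act_injective h₀
    rw [hρ, act_mul, act_act_inv, hA, hh₀, act_gl_pt, hα, hb, hLw]
  let Ψ : (Fin n₂ → F) → End₁ F n₁ := fun v => proj T C.h₂ w' ∘ₗ (act ρ - LinearMap.id) ∘ₗ ptL T v
  have hlay : ∀ u v, f₂ v w = 0 → act ρ (pt T u v) = pt T u v + pt T (Ψ v u) w := by
    intro u v hv
    obtain ⟨a, ha⟩ := hγ (P₀ v) (hP₀perp v).1 u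
    have hwv := f_eq_zero_symm C.h₂ hv
    have h1 : act ρ (pt T u v) = pt T u v + pt T (act α⁻¹ a) w := by
      refine act_injective h₀ ?_
      rw [hρ, act_mul, act_act_inv, map_add, hh₀, act_gl_pt, act_gl_pt, hα, act_act_inv, hb, hb, hLw,
        hL, hwv, mul_zero, zero_smul, add_zero]
      have hv' : pt T u v = pt T u (P₀ v) + f₂ v w' • pt T u w := by
        rw [hP₀, hwv, zero_smul, sub_zero, pt_sub_right, pt_smul_right, sub_add_cancel]
      rw [hv', map_add, map_smul, ha, hA, pt_add_right, pt_smul_right]; abel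
    show _ = pt T u v + pt T (proj T C.h₂ w' (act ρ (pt T u v) - pt T u v)) w
    rw [h1, add_sub_cancel_left, proj_pt, hww', one_smul]
  have hsc : ∀ v, f₂ v w = 0 → ∃ l : F, ∀ u, Ψ v u = l • u := fun v hv =>
    layer_scalar C hM hw0 (f_eq_zero_symm C.h₂ hv) hρI hfix (fun u => hlay u v hv) α hν hβ (by
      rw [← hh₀, show h₀ * (ρ * rt T C.h₂ v 1 * ρ⁻¹) * h₀⁻¹ = g * rt T C.h₂ v 1 * g⁻¹ by rw [hρ]; group]
      exact M.mul_mem (M.mul_mem hg (rt_mem C v 1)) (M.inv_mem hg))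
  obtain ⟨u₁, χ₁, hχ₁⟩ : ∃ u₁ : Fin n₁ → F, ∃ χ₁ : (Fin n₁ → F) →ₗ[F] F, χ₁ u₁ = 1 :=
    ⟨Pi.single ⟨0, n₁_pos C⟩ 1, LinearMap.proj ⟨0, n₁_pos C⟩, by simp⟩
  obtain ⟨φ₀, hφ₀⟩ := exists_repr C.h₂ (χ₁ ∘ₗ proj T C.h₂ w' ∘ₗ (act ρ - LinearMap.id) ∘ₗ ptR T u₁)
  have hφ₀' : ∀ v, χ₁ (Ψ v u₁) = f₂ v φ₀ := hφ₀
  have hwφ₀ : f₂ w φ₀ = 0 := by
    rw [← hφ₀']
    show χ₁ (proj T C.h₂ w' (act ρ (pt T u₁ w) - pt T u₁ w)) = 0
    rw [hfix, sub_self, map_zero, map_zero]
  have hlayer : ∀ u v, f₂ v w = 0 → act ρ (pt T u v) = pt T u v + f₂ v φ₀ • pt T u w := by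
    intro u v hv
    obtain ⟨l, hl⟩ := hsc v hv
    have hlv := hφ₀' v
    rw [hl, map_smul, hχ₁, smul_eq_mul, mul_one] at hlv
    rw [hlay u v hv, hl, pt_smul_left, hlv]
  set q₀ := gl T 1 (root C.h₂ w φ₀) with hq₀
  have hq₀I : q₀ ∈ isometryGroup F Q := mem_iso_of_mem C (gl_right_mem C (root_mem C.h₂ w φ₀))
  set t := q₀⁻¹ * ρ with ht
  have htI : t ∈ isometryGroup F Q := Subgroup.mul_mem _ (Subgroup.inv_mem _ hq₀I) hρI
  obtain ⟨R, hR⟩ := exists_isTop C hww' htI fun u v hv => by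
    apply act_injective q₀
    rw [ht, act_mul, act_act_inv, hlayer u v hv, hq₀, act_glRoot C hwφ₀, proj_pt, proj_pt, hv, zero_smul,
      pt_zero_left, add_zero, pt_smul_left]
  obtain ⟨hRadj, hRalt⟩ := top_adjoint C hw0 htI hR
  obtain ⟨k, hk⟩ : ∃ k : F, ∀ u, R u = k • u := by
    refine exists_scalar_of_eigen R fun v => ?_
    by_cases h2 : n₁ = 2
    · exact alternating_two C h2 hRalt v
    have h4 := C.four_le h2
    by_contra hv
    obtain ⟨δ, hδ⟩ : ∃ δ, δ = R - cj (stv C.h₁ v 1) R := ⟨_, rfl⟩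
    set β' := β * root C.h₂ w φ₀ with hβ'
    have hβ'mul : ∀ x y, f₂ (act β' x) (act β' y) = ν * f₂ x y := fun x y => by
      rw [hβ', act_mul, act_mul, hβ, mem_isoGroup.1 (root_mem C.h₂ w φ₀)]
    have hβ'w : act β' w = w := by
      rw [hβ', act_mul, act_root C.h₂ hwφ₀, C.h₂.alternating, hwφ₀, zero_smul, zero_smul, add_zero, add_zero,
        hb, hLw]
    have hsplit : g = gl T α β' * t := by
      rw [ht, hρ, show gl T α β' = h₀ * q₀ by rw [hh₀, hq₀, gl_mul, mul_one, hβ']]; group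
    set ga := gl T (stv C.h₁ v 1) (1 : GL (Fin n₂) F) with hga
    have hga' : gl T α β' * ga * (gl T α β')⁻¹ ∈ M := by
      rw [hga, gl_inv, gl_mul, gl_mul, mul_one, mul_inv_cancel]
      refine gl_left_mem C (mem_isoGroup.2 fun x y => ?_)
      have e : f₁ (act α⁻¹ x) (act α⁻¹ y) = ν * f₁ x y := by
        have := hαmul (act α⁻¹ x) (act α⁻¹ y)
        rw [act_act_inv, act_act_inv] at this
        rw [this, mul_inv_cancel_left₀ hν]
      rw [act_mul, act_mul, act_mul, act_mul, hαmul, mem_isoGroup.1 (stv_mem C.h₁ v 1), e,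
        inv_mul_cancel_left₀ hν]
    have hinner : IsTop T f₂ w (t * (ga * t⁻¹ * ga⁻¹)) δ := by
      have h1 := isPure_conj_iso C (isPure_inv C (isPure_of_isTop C hR) (C.h₂.alternating w))
        (stv C.h₁ v 1) (β := 1) (one_mem _)
      rw [act_one, ← hga] at h1
      have h2 := isPure_mul C (isPure_of_isTop C hR) h1 (C.h₂.alternating w)
      refine isTop_of_isPure C (z := w) ?_
      convert h2 using 1 <;> (ext u; simp [hδ, cj_apply, sub_eq_add_neg])
    have hmem : gl T α β' * (t * (ga * t⁻¹ * ga⁻¹)) * (gl T α β')⁻¹ ∈ M := by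
      have e : gl T α β' * (t * (ga * t⁻¹ * ga⁻¹)) * (gl T α β')⁻¹ =
          g * ga * g⁻¹ * (gl T α β' * ga * (gl T α β')⁻¹)⁻¹ := by rw [hsplit]; group
      rw [e]
      exact M.mul_mem (M.mul_mem (M.mul_mem hg (gl_left_mem C (stv_mem C.h₁ v 1))) (M.inv_mem hg))
        (M.inv_mem hga')
    have hconj := isPure_conj C (isPure_of_isTop C hinner) α hν hβ'mul
    rw [hβ'w] at hconj
    obtain ⟨k, hk⟩ := top_scalar C hM hw0 hmem (isTop_of_isPure C (z := w) (R := ν⁻¹ • cj α δ) (by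
      convert hconj using 1 <;> (ext u; simp [cj_apply])))
    have hδk : ∀ u, δ u = (ν * k) • u := fun u => by
      have := hk (act α u)
      rw [LinearMap.smul_apply, cj_apply, act_inv_act, inv_smul_eq_iff₀ hν, smul_smul, ← map_smul] at this
      exact act_injective α this
    have hRv : f₁ (R v) v = 0 := f_eq_zero_symm C.h₁ (hRalt v)
    have hδu : ∀ u, δ u = f₁ u v • R v - f₁ u (R v) • v := fun u => by
      have := cj_stv_sub C.h₁ R v 1 u
      rw [hRv, hRadj u v] at this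
      rw [hδ, LinearMap.sub_apply, ← neg_sub, this]
      module
    obtain ⟨u, hu, hu0'⟩ := SP.exists_perp_notMem C.h₁ ![v, R v] (![] : Fin 0 → _) (by simp; omega)
    have hu0 : u ≠ 0 := by simpa using hu0'
    have hk0 : ν * k = 0 := by
      have e := hδk u
      rw [hδu, f_eq_zero_symm C.h₁ (show f₁ v u = 0 from hu 0),
        f_eq_zero_symm C.h₁ (show f₁ (R v) u = 0 from hu 1), zero_smul, zero_smul, sub_zero, eq_comm,
        smul_eq_zero, or_iff_left hu0] at e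
      exact e
    have hv0 : v ≠ 0 := fun e => hv (by rw [e, map_zero]; exact Submodule.zero_mem _)
    obtain ⟨p, hp⟩ := SP.exists_one C.h₁ hv0
    have e := hδk p
    rw [hk0, zero_smul, hδu, sub_eq_zero, C.h₁.skew p v, hp, neg_one_smul, neg_eq_iff_eq_neg] at e
    exact hv (Submodule.mem_span_singleton.2 ⟨-f₁ p (R v), by rw [neg_smul]; exact e.symm⟩)
  have htt : t = gl T 1 (stv C.h₂ w k) := gl_ext_pt T fun u v => by
    rw [hR u v, hk, act_gl_pt, act_one, act_stv C.h₂, pt_smul_left, pt_add_right, pt_smul_right, smul_smul,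
      mul_comm]
  rw [show g = h₀ * q₀ * t by rw [ht, hρ]; group, htt]
  exact Subgroup.mul_mem _ (Subgroup.mul_mem _ (gl_mem T _ _) (gl_mem T _ _)) (gl_mem T _ _)

/-- the dichotomy -/
theorem eq_or_le_tensor : M = Cfsg.Geo.omegaGL Q ∨ M ≤ Cfsg.Geo.tensorProductSubgroup n₁ n₂ T.e T.P := by
  by_cases hM : Cfsg.Geo.omegaGL Q ≤ M
  · exact Or.inl (le_antisymm C.le hM)
  · exact Or.inr (le_tensor_of_centralizer C fun _ hw0 _ _ hd hd' _ hg hcomm =>
      centralizer_tensor C hM hw0 hd hd' hg hcomm)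

/-- the tensor stabiliser is proper -/
theorem not_le_tensor : ¬ Cfsg.Geo.omegaGL Q ≤ Cfsg.Geo.tensorProductSubgroup n₁ n₂ T.e T.P := by
  classical
  intro hle
  have h6 := C.six
  obtain ⟨w, hw, hw0'⟩ := SP.exists_perp_notMem C.h₂ (![] : Fin 0 → _) (![] : Fin 0 → _) (by simp; omega)
  have hw0 : w ≠ 0 := by simpa using hw0'
  obtain ⟨z, hz, hzn'⟩ := SP.exists_perp_notMem C.h₂ ![w] ![w] (by simp; omega)
  have hwz : f₂ w z = 0 := hz 0
  have hzn : z ∉ F ∙ w := by simpa [Matrix.range_cons, Matrix.range_empty] using hzn'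
  obtain ⟨u, u', hu⟩ := exists_ne_two C
  have hu0 : u ≠ 0 := fun h => hu (by rw [h, f_zero_left C.h₁])
  have hu' : u' ∉ F ∙ u := fun h => by
    obtain ⟨k, rfl⟩ := Submodule.mem_span_singleton.1 h
    exact hu (by rw [f_smul_right C.h₁, C.h₁.alternating, mul_zero])
  obtain ⟨a, b, hab⟩ := exists_of_mem T (hle (Orth.sg_mem_omega C.hQ C.five (pt T u w) ((1 : F) • pt T u z)))
  let W₂ : Submodule F (ι → F) := Submodule.span F ({pt T u w, pt T u z} : Set (ι → F))
  have hact : ∀ x, act (gl T a b) x = x + B (pt T u w) x • pt T u z - B (pt T u z) x • pt T u w := fun x => by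
    rw [← hab, OPair.act_line (pairing C) (C.sing _ _) (C.sing _ _)
      (by rw [C.form, hwz, mul_zero, mul_zero]), one_mul, one_mul]
  have hmem : ∀ x, act (gl T a b) x - x ∈ W₂ := fun x => by
    rw [hact, add_sub_assoc, add_sub_cancel_left]
    exact W₂.sub_mem (W₂.smul_mem _ (Submodule.subset_span (Set.mem_insert_of_mem _ rfl)))
      (W₂.smul_mem _ (Submodule.subset_span (Set.mem_insert _ _)))
  obtain ⟨k, hk⟩ := exists_scalar_of_eigen (act a) fun p => by
    by_contra hp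
    let L : (Fin n₂ → F) →ₗ[F] (ι → F) := ptR T (act a p) ∘ₗ act b - ptR T p
    have hL : Function.Injective L := by
      refine (injective_iff_map_eq_zero L).2 fun v hv => ?_
      by_contra hv0
      exact hp (mem_span_of_pt_eq' T (show pt T (act a p) (act b v) = pt T p v from sub_eq_zero.1 hv)
        fun e0 => hv0 (act_injective b (by rw [e0, map_zero])))
    have h1 : finrank F (LinearMap.range L) ≤ finrank F W₂ := Submodule.finrank_mono (by
      rintro _ ⟨v, rfl⟩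
      show pt T (act a p) (act b v) - pt T p v ∈ W₂
      rw [← act_gl_pt]; exact hmem _)
    have h2 : finrank F W₂ ≤ 2 := by
      refine (finrank_span_le_card ({pt T u w, pt T u z} : Set (ι → F))).trans ?_
      simp only [Set.toFinset_insert, Set.toFinset_singleton]
      exact Finset.card_le_two
    rw [LinearMap.finrank_range_of_inj hL, Module.finrank_fin_fun] at h1
    omega
  obtain ⟨x₀, hx0, hx1⟩ := SP.exists_zero_one C.h₂ hzn
  obtain ⟨v, hv⟩ : ∃ v, k • act b v - v ≠ 0 := by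
    by_contra hno; push Not at hno
    have : act (gl T a b) = LinearMap.id := pt_ext T fun p q => by
      rw [act_gl_pt, hk, pt_smul_comm, sub_eq_zero.1 (hno q)]; rfl
    have e := hact (pt T u' x₀)
    rw [this, LinearMap.id_apply, C.form, C.form, hx0, hx1, mul_zero, mul_zero, zero_smul, add_zero, mul_one,
      eq_comm, sub_eq_self, smul_eq_zero, or_iff_right (mul_ne_zero C.c_ne hu), pt_eq_zero] at e
    rcases e with e | e
    · exact hu0 e
    · exact hw0 e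
  have hrange : W₂ ≤ LinearMap.range (ptR T u) := Submodule.span_le.2 (by
    rintro _ (rfl | rfl)
    · exact ⟨w, rfl⟩
    · exact ⟨z, rfl⟩)
  obtain ⟨y, hy⟩ := hrange (show pt T u' (k • act b v - v) ∈ W₂ by
    rw [pt_sub_right, ← pt_smul_comm, ← hk, ← act_gl_pt]; exact hmem _)
  exact hu' (mem_span_of_pt_eq' T hy.symm hv)

end Cfsg.Agent.MaxCl.TensSp
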