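/-
A symplectic space written as two Lagrangian copies `P W`, `Q W` of an orthogonal space `W`: the elements
`SL₂ ⊗ O(W)`, products of plane involutions, and transvections from them.
-/
import Cfsg.Agent.Lib.MaxCl.SympStab
import Cfsg.Agent.Lib.MaxCl.SympSwap
import Cfsg.Agent.Lib.MaxCl.OrthBase

set_option autoImplicit false

namespace Cfsg.Agent.MaxCl.SpO

open scoped MatrixGroups Matrix
open Module (finrank)

/-! ### Symmetric forms in odd characteristic -/

section Sym

variable {n : ℕ} {F : Type*} [Field F] {β : (Fin n → F) → (Fin n → F) → F}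

/-- the linear functional `x ↦ β x y` -/
noncomputable def bl (hb : Cfsg.Geo.IsSymmetricForm β) (y : Fin n → F) : (Fin n → F) →ₗ[F] F :=
  flin hb.bilinear y

theorem bl_apply (hb : Cfsg.Geo.IsSymmetricForm β) (y x : Fin n → F) : bl hb y x = β x y := rfl

variable (hb : Cfsg.Geo.IsSymmetricForm β)
include hb

theorem b_add_left (x y v : Fin n → F) : β (x + y) v = β x v + β y v := hb.bilinear.add_left x y v
theorem b_add_right (v x y : Fin n → F) : β v (x + y) = β v x + β v y := hb.bilinear.add_right v x y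
theorem b_smul_left (c : F) (x v : Fin n → F) : β (c • x) v = c * β x v := hb.bilinear.smul_left c x v
theorem b_smul_right (c : F) (v x : Fin n → F) : β v (c • x) = c * β v x := hb.bilinear.smul_right c v x
theorem b_comm (x y : Fin n → F) : β x y = β y x := hb.symm x y
theorem b_zero_left (v : Fin n → F) : β 0 v = 0 := by simpa using b_smul_left hb 0 0 v
theorem b_zero_right (v : Fin n → F) : β v 0 = 0 := by rw [b_comm hb, b_zero_left hb]
theorem b_sub_left (x y v : Fin n → F) : β (x - y) v = β x v - β y v := by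
  rw [← bl_apply hb, map_sub, bl_apply, bl_apply]
theorem b_sub_right (v x y : Fin n → F) : β v (x - y) = β v x - β v y := by
  rw [b_comm hb, b_sub_left hb, b_comm hb x, b_comm hb y]

theorem exists_b_ne {x : Fin n → F} (hx : x ≠ 0) : ∃ y, β x y ≠ 0 := (hb.nondegenerate x hx).2

/-- the quadratic form `x ↦ β x x` -/
noncomputable def qb (hb : Cfsg.Geo.IsSymmetricForm β) : QuadraticForm F (Fin n → F) :=
  LinearMap.BilinMap.toQuadraticMap (toBil hb.bilinear)

theorem qb_apply (x : Fin n → F) : qb hb x = β x x := rfl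

/-- an isotropic vector of a three-dimensional subspace -/
theorem exists_iso [Finite F] {X : Submodule F (Fin n → F)} (h : 3 ≤ finrank F X) :
    ∃ w ∈ X, w ≠ 0 ∧ β w w = 0 :=
  Orth.exists_singular (qb hb) h

/-- one anisotropic vector makes the anisotropic vectors span -/
theorem le_of_aniso (h2 : (2 : F) ≠ 0) {X S : Submodule F (Fin n → F)}
    (hS : ∀ v ∈ X, β v v ≠ 0 → v ∈ S) (hne : ¬ ∀ x ∈ X, ∀ y ∈ X, β x y = 0) : X ≤ S := by
  obtain ⟨a, haX, ha⟩ : ∃ a ∈ X, β a a ≠ 0 := by
    by_contra h; push Not at h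
    refine hne fun x hx y hy => ?_
    have e := h (x + y) (X.add_mem hx hy)
    rw [b_add_left hb, b_add_right hb, b_add_right hb, h x hx, h y hy, b_comm hb y x] at e
    exact (mul_eq_zero.1 (by linear_combination e : (2 : F) * β x y = 0)).resolve_left h2
  intro y hy
  by_cases hyy : β y y = 0
  swap
  · exact hS y hy hyy
  have haS := hS a haX ha
  have key : β (a + y) (a + y) ≠ 0 ∨ β (a - y) (a - y) ≠ 0 := by
    by_contra h; push Not at h
    obtain ⟨h1, h3⟩ := h
    simp only [b_add_left hb, b_add_right hb, b_sub_left hb, b_sub_right hb, hyy] at h1 h3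
    exact ha ((mul_eq_zero.1 (by linear_combination h1 + h3 : (2 : F) * β a a = 0)).resolve_left h2)
  rcases key with h | h
  · have := S.sub_mem (hS _ (X.add_mem haX hy) h) haS
    rwa [add_sub_cancel_left] at this
  · have := S.sub_mem haS (hS _ (X.sub_mem haX hy) h)
    rwa [sub_sub_cancel] at this

/-- a non-degenerate subspace contains an anisotropic vector -/
theorem exists_aniso (h2 : (2 : F) ≠ 0) {X : Submodule F (Fin n → F)} (hX : X ≠ ⊥)
    (hnd : ∀ r ∈ X, (∀ w ∈ X, β r w = 0) → r = 0) : ∃ a ∈ X, β a a ≠ 0 := by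
  by_contra h; push Not at h
  obtain ⟨x, hx, hx0⟩ := Submodule.exists_mem_ne_zero_of_ne_bot hX
  refine hx0 (hnd x hx fun w hw => ?_)
  have e := h (x + w) (X.add_mem hx hw)
  rw [b_add_left hb, b_add_right hb, b_add_right hb, h x hx, h w hw, b_comm hb w x] at e
  exact (mul_eq_zero.1 (by linear_combination e : (2 : F) * β x w = 0)).resolve_left h2

/-- the orthogonal complement of a list of vectors -/
noncomputable def bperp (hb : Cfsg.Geo.IsSymmetricForm β) {k : ℕ} (l : Fin k → (Fin n → F)) :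
    Submodule F (Fin n → F) :=
  LinearMap.ker (LinearMap.pi fun i => bl hb (l i))

theorem mem_bperp {k : ℕ} {l : Fin k → (Fin n → F)} {x : Fin n → F} :
    x ∈ bperp hb l ↔ ∀ i, β x (l i) = 0 := by
  rw [bperp, LinearMap.mem_ker]
  exact ⟨fun h i => congrFun h i, fun h => funext h⟩

theorem finrank_bperp_ge {k : ℕ} (l : Fin k → (Fin n → F)) : n ≤ finrank F (bperp hb l) + k := by
  have h1 := LinearMap.finrank_range_add_finrank_ker (LinearMap.pi fun i => bl hb (l i))
  have h3 := Submodule.finrank_le (LinearMap.range (LinearMap.pi fun i => bl hb (l i)))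
  simp only [Module.finrank_fin_fun] at h1 h3
  rw [bperp]; omega

/-- the complement of one anisotropic vector has no radical -/
theorem bperp_one_nondeg {a : Fin n → F} (ha : β a a ≠ 0) :
    ∀ r ∈ bperp hb ![a], (∀ w ∈ bperp hb ![a], β r w = 0) → r = 0 := by
  intro r hr h
  have hra : β r a = 0 := (mem_bperp hb).1 hr 0
  by_contra hr0
  obtain ⟨y, hy⟩ := exists_b_ne hb hr0
  refine hy ?_
  have := h (y - (β y a / β a a) • a) ((mem_bperp hb).2 fun i => by
    fin_cases i
    simp [b_sub_left hb, b_smul_left hb, div_mul_cancel₀ _ ha])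
  rwa [b_sub_right hb, b_smul_right hb, hra, mul_zero, sub_zero] at this

/-- the complement of an orthogonal anisotropic pair has no radical -/
theorem bperp_two_nondeg {a d : Fin n → F} (ha : β a a ≠ 0) (hd : β d d ≠ 0) (had : β a d = 0) :
    ∀ r ∈ bperp hb ![a, d], (∀ w ∈ bperp hb ![a, d], β r w = 0) → r = 0 := by
  intro r hr h
  have hra : β r a = 0 := (mem_bperp hb).1 hr 0
  have hrd : β r d = 0 := (mem_bperp hb).1 hr 1
  by_contra hr0
  obtain ⟨y, hy⟩ := exists_b_ne hb hr0
  refine hy ?_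
  have hda : β d a = 0 := by rw [b_comm hb, had]
  have := h (y - (β y a / β a a) • a - (β y d / β d d) • d) ((mem_bperp hb).2 fun i => by
    fin_cases i <;>
      simp [b_sub_left hb, b_smul_left hb, div_mul_cancel₀ _ ha, div_mul_cancel₀ _ hd, had, hda])
  rwa [b_sub_right hb, b_sub_right hb, b_smul_right hb, b_smul_right hb, hra, hrd, mul_zero, mul_zero, sub_zero,
    sub_zero] at this

/-- an isotropic vector not orthogonal to a given one -/
theorem exists_iso_ne [Finite F] (h2 : (2 : F) ≠ 0) (hn : 3 ≤ n) {x : Fin n → F} (hx : x ≠ 0) :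
    ∃ w, β w w = 0 ∧ β x w ≠ 0 := by
  obtain ⟨e, -, he0, he⟩ := exists_iso hb (X := ⊤) (by rw [finrank_top, Module.finrank_fin_fun]; exact hn)
  obtain ⟨y, hy⟩ := exists_b_ne hb he0
  by_contra hno; push Not at hno
  have hpol : ∀ v, β e v ≠ 0 → β x v = 0 := by
    intro v hev
    obtain ⟨t, ht⟩ : ∃ t, t = β v v / (2 * β e v) := ⟨_, rfl⟩
    have ht' : t * (2 * β e v) = β v v := by rw [ht, div_mul_cancel₀ _ (mul_ne_zero h2 hev)]
    have h := hno (v - t • e) (by
      simp only [b_sub_left hb, b_sub_right hb, b_smul_left hb, b_smul_right hb, he, b_comm hb v e]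
      linear_combination -ht')
    rwa [b_sub_right hb, b_smul_right hb, hno e he, mul_zero, sub_zero] at h
  obtain ⟨z, hz⟩ := exists_b_ne hb hx
  by_cases hez : β e z = 0
  · have h3 := hpol (z + y) (by rw [b_add_right hb, hez, zero_add]; exact hy)
    rw [b_add_right hb, hpol y hy, add_zero] at h3
    exact hz h3
  · exact hz (hpol z hez)

/-- the anisotropic vectors off a hyperplane span -/
theorem aniso_span [Fintype F] (h2 : (2 : F) ≠ 0) {X S : Submodule F (Fin n → F)}
    (hnd : ∀ r ∈ X, (∀ w ∈ X, β r w = 0) → r = 0) (hsize : 5 ≤ Fintype.card F ∨ 3 ≤ finrank F X)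
    {φ : (Fin n → F) →ₗ[F] F} (hφ : ∃ v ∈ X, φ v ≠ 0)
    (hS : ∀ v ∈ X, β v v ≠ 0 → φ v ≠ 0 → v ∈ S) : X ≤ S := by
  classical
  obtain ⟨x₀, hx₀, hφx₀⟩ := hφ
  obtain ⟨v₁, hv₁X, hv₁, hφv₁⟩ : ∃ v ∈ X, β v v ≠ 0 ∧ φ v ≠ 0 := by
    by_contra hno; push Not at hno
    exact hφx₀ (LinearMap.mem_ker.1 (le_of_aniso hb h2 (S := LinearMap.ker φ)
      (fun v hv h => LinearMap.mem_ker.2 (hno v hv h)) (fun h => hφx₀ (by
        rw [show x₀ = 0 from hnd x₀ hx₀ fun w hw => h x₀ hx₀ w hw, map_zero])) hx₀))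
  refine le_of_aniso hb h2 (fun v hvX hv => ?_) (fun h => hv₁ (h _ hv₁X _ hv₁X))
  by_cases hφv : φ v ≠ 0
  · exact hS v hvX hv hφv
  push Not at hφv
  have hv₁S := hS v₁ hv₁X hv₁ hφv₁
  -- one step
  have step : ∀ u ∈ X, u ∈ S → φ u ≠ 0 → β (v + u) (v + u) ≠ 0 → v ∈ S := by
    intro u huX huS hu h
    have := S.sub_mem (hS _ (X.add_mem hvX huX) h (by rw [map_add, hφv, zero_add]; exact hu)) huS
    rwa [add_sub_cancel_right] at this
  have hq : ∀ k : F, β (v + k • v₁) (v + k • v₁) = β v v + 2 * k * β v v₁ + k * k * β v₁ v₁ := fun k => by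
    simp only [b_add_left hb, b_add_right hb, b_smul_left hb, b_smul_right hb, b_comm hb v₁ v]; ring
  by_cases hk : ∃ k : F, k ≠ 0 ∧ β (v + k • v₁) (v + k • v₁) ≠ 0
  · obtain ⟨k, hk0, hk⟩ := hk
    exact step (k • v₁) (X.smul_mem _ hv₁X) (S.smul_mem _ hv₁S)
      (by rw [map_smul]; exact smul_ne_zero hk0 hφv₁) hk
  push Not at hk
  have e1 := hk 1 one_ne_zero
  have e2 := hk (-1) (neg_ne_zero.2 one_ne_zero)
  rw [hq] at e1 e2
  have horth : β v v₁ = 0 :=
    (mul_eq_zero.1 (by linear_combination e1 - e2 : ((2 : F) * 2) * β v v₁ = 0)).resolve_left (mul_ne_zero h2 h2)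
  have hopp : β v₁ v₁ = -β v v := by rw [horth] at e1; linear_combination e1
  have hsq : ∀ k : F, k ≠ 0 → k * k = 1 := by
    intro k hk0
    have e := hk k hk0
    rw [hq, horth, hopp] at e
    exact mul_right_cancel₀ hv (by linear_combination -e)
  have hval : ∀ k : F, k = 0 ∨ k = 1 ∨ k = -1 := fun k => by
    rcases eq_or_ne k 0 with h | h
    · exact Or.inl h
    · exact Or.inr (mul_self_eq_one_iff.1 (hsq k h))
  have hcard : Fintype.card F ≤ 3 := by
    have : (Finset.univ : Finset F) ⊆ {0, 1, -1} := fun k _ => by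
      rcases hval k with rfl | rfl | rfl <;> simp
    exact (Finset.card_le_card this).trans Finset.card_le_three
  have hX3 : 3 ≤ finrank F X := hsize.resolve_left (by omega)
  obtain ⟨t, ⟨htX, htp⟩, ht⟩ : ∃ t ∈ X ⊓ bperp hb ![v, v₁], β t t ≠ 0 := by
    refine exists_aniso hb h2 (fun e => ?_) (fun r hr h => ?_)
    · have h1 := Submodule.finrank_sup_add_finrank_inf_eq X (bperp hb ![v, v₁])
      have h4 := Submodule.finrank_le (X ⊔ bperp hb ![v, v₁])
      have h5 := finrank_bperp_ge hb ![v, v₁]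
      rw [e, finrank_bot] at h1
      rw [Module.finrank_fin_fun] at h4
      omega
    · refine hnd r hr.1 fun w hw => ?_
      have h6 := (mem_bperp hb).1 hr.2
      have hrv : β r v = 0 := h6 0
      have hrv₁ : β r v₁ = 0 := h6 1
      have := h (w - (β w v / β v v) • v - (β w v₁ / β v₁ v₁) • v₁)
        ⟨X.sub_mem (X.sub_mem hw (X.smul_mem _ hvX)) (X.smul_mem _ hv₁X), (mem_bperp hb).2 fun i => by
          fin_cases i <;> simp [b_sub_left hb, b_smul_left hb, horth, b_comm hb v₁ v,
            div_mul_cancel₀ _ hv, div_mul_cancel₀ _ hv₁]⟩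
      rwa [b_sub_right hb, b_sub_right hb, b_smul_right hb, b_smul_right hb, hrv, hrv₁, mul_zero, mul_zero,
        sub_zero, sub_zero] at this
  have htv : β t v = 0 := (mem_bperp hb).1 htp 0
  have htv₁ : β t v₁ = 0 := (mem_bperp hb).1 htp 1
  rcases (hval (β t t / β v v)).resolve_left (div_ne_zero ht hv) with h | h <;> rw [div_eq_iff hv] at h
  · rw [one_mul] at h
    by_cases hφt : φ t = 0
    · have hboth : ∀ s : F, s * s = 1 → v + v₁ + s • t ∈ S := fun s hs => by
        refine hS _ (X.add_mem (X.add_mem hvX hv₁X) (X.smul_mem _ htX)) ?_ (by simp [hφv, hφt, hφv₁])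
        simp only [b_add_left hb, b_add_right hb, b_smul_left hb, b_smul_right hb, horth, b_comm hb v₁ v,
          b_comm hb v t, b_comm hb v₁ t, htv, htv₁, hopp, h]
        intro e
        exact hv (by linear_combination e - β v v * hs)
      have h7 := S.add_mem (hboth 1 (one_mul 1)) (hboth (-1) (by ring))
      rw [show v + v₁ + (1 : F) • t + (v + v₁ + (-1 : F) • t) = (2 : F) • (v + v₁) by module,
        S.smul_mem_iff h2] at h7
      simpa using S.sub_mem h7 hv₁S
    · refine step t htX (hS t htX ht hφt) hφt ?_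
      simp only [b_add_left hb, b_add_right hb, b_comm hb v t, htv, h]
      intro e
      exact hv ((mul_eq_zero.1 (by linear_combination e : (2 : F) * β v v = 0)).resolve_left h2)
  · rw [neg_one_mul] at h
    obtain ⟨s, hs, hφs⟩ : ∃ s : F, s * s = 1 ∧ φ (v₁ + s • t) ≠ 0 := by
      by_contra hno; push Not at hno
      have a1 := hno 1 (one_mul 1)
      have a2 := hno (-1) (by ring)
      rw [map_add, map_smul, smul_eq_mul] at a1 a2
      exact hφv₁ ((mul_eq_zero.1 (by linear_combination a1 + a2 : (2 : F) * φ v₁ = 0)).resolve_left h2)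
    have hu : v₁ + s • t ∈ S := hS _ (X.add_mem hv₁X (X.smul_mem _ htX)) (by
      simp only [b_add_left hb, b_add_right hb, b_smul_left hb, b_smul_right hb, b_comm hb v₁ t, htv₁, hopp, h]
      intro e
      exact hv ((mul_eq_zero.1 (by linear_combination -e - β v v * hs : (2 : F) * β v v = 0)).resolve_left h2)) hφs
    refine step _ (X.add_mem hv₁X (X.smul_mem _ htX)) hu hφs ?_
    simp only [b_add_left hb, b_add_right hb, b_smul_left hb, b_smul_right hb, horth, b_comm hb v₁ v,
      b_comm hb v t, b_comm hb v₁ t, htv, htv₁, hopp, h]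
    intro e
    exact hv (by linear_combination -e - β v v * hs)

/-- the reflection in an anisotropic vector -/
noncomputable def rho (hb : Cfsg.Geo.IsSymmetricForm β) (v : Fin n → F) : (Fin n → F) →ₗ[F] (Fin n → F) :=
  LinearMap.id - (2 / β v v) • (bl hb v).smulRight v

theorem rho_apply (v x : Fin n → F) : rho hb v x = x - (2 / β v v * β x v) • v := by
  simp [rho, bl_apply, smul_smul]

theorem rho_iso {v : Fin n → F} (hv : β v v ≠ 0) (x y : Fin n → F) : β (rho hb v x) (rho hb v y) = β x y := by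
  simp only [rho_apply hb, b_sub_left hb, b_sub_right hb, b_smul_left hb, b_smul_right hb, b_comm hb v y]
  field_simp; ring

theorem rho_fix {v x : Fin n → F} (h : β x v = 0) : rho hb v x = x := by rw [rho_apply, h]; simp

theorem rho_self {v : Fin n → F} (hv : β v v ≠ 0) : rho hb v v = -v := by
  rw [rho_apply, div_mul_cancel₀ _ hv]; module

theorem rho_rho {v : Fin n → F} (hv : β v v ≠ 0) (x : Fin n → F) : rho hb v (rho hb v x) = x := by
  simp only [rho_apply hb, b_sub_left hb, b_smul_left hb]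
  match_scalars <;> field_simp <;> ring

end Sym

/-! ### The coordinates -/

variable {ι : Type} [Fintype ι] [DecidableEq ι] {F : Type*} [Field F] {n : ℕ}
variable {f : (ι → F) → (ι → F) → F} {β : (Fin n → F) → (Fin n → F) → F} {M : Subgroup (GL ι F)}

/-- two Lagrangian copies of `W` on which `M` contains `SL₂ ⊗ O(W)` -/
structure Two (f : (ι → F) → (ι → F) → F) (β : (Fin n → F) → (Fin n → F) → F) (M : Subgroup (GL ι F)) where
  /-- the first copy -/
  P : (Fin n → F) →ₗ[F] (ι → F)
  /-- the second copy -/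
  Q : (Fin n → F) →ₗ[F] (ι → F)
  /-- the first coordinate -/
  A : (ι → F) →ₗ[F] (Fin n → F)
  /-- the second coordinate -/
  B : (ι → F) →ₗ[F] (Fin n → F)
  AP : ∀ a, A (P a) = a
  AQ : ∀ b, A (Q b) = 0
  BP : ∀ a, B (P a) = 0
  BQ : ∀ b, B (Q b) = b
  dec : ∀ x, P (A x) + Q (B x) = x
  hf : Cfsg.Geo.IsSymplecticForm f
  hb : Cfsg.Geo.IsSymmetricForm β
  two : (2 : F) ≠ 0
  fPP : ∀ a b, f (P a) (P b) = 0
  fQQ : ∀ a b, f (Q a) (Q b) = 0
  fPQ : ∀ a b, f (P a) (Q b) = β a b
  le : M ≤ isoGroup f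
  ge : ∀ (p q r s : F) (h : (Fin n → F) →ₗ[F] (Fin n → F)), p * s - q * r = 1 →
    (∀ a b, β (h a) (h b) = β a b) →
    ∃ g ∈ M, (∀ a, act g (P a) = P (p • h a) + Q (r • h a)) ∧ ∀ b, act g (Q b) = P (q • h b) + Q (s • h b)

namespace Two

variable (C : Two f β M)

theorem fQP (a b : Fin n → F) : f (C.Q b) (C.P a) = -β a b := by rw [f_skew C.hf, C.fPQ]

theorem f_eq (x y : ι → F) : f x y = β (C.A x) (C.B y) - β (C.B x) (C.A y) := by
  conv_lhs => rw [← C.dec x, ← C.dec y]
  simp only [f_add_left C.hf, f_add_right C.hf, C.fPP, C.fQQ, C.fPQ, C.fQP, b_comm C.hb (C.A y)]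
  ring

theorem f_P_right (x : ι → F) (a : Fin n → F) : f x (C.P a) = -β (C.B x) a := by
  rw [C.f_eq, C.BP, C.AP, b_zero_right C.hb]; ring

theorem f_Q_right (x : ι → F) (b : Fin n → F) : f x (C.Q b) = β (C.A x) b := by
  rw [C.f_eq, C.BQ, C.AQ, b_zero_right C.hb]; ring

theorem f_P_left (x : ι → F) (a : Fin n → F) : f (C.P a) x = β a (C.B x) := by
  rw [C.f_eq, C.AP, C.BP, b_zero_left C.hb, sub_zero]

theorem f_Q_left (x : ι → F) (b : Fin n → F) : f (C.Q b) x = -β b (C.A x) := by
  rw [C.f_eq, C.AQ, C.BQ, b_zero_left C.hb, zero_sub]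

theorem ext_AB {x y : ι → F} (h1 : C.A x = C.A y) (h2 : C.B x = C.B y) : x = y := by
  rw [← C.dec x, ← C.dec y, h1, h2]

/-- changing the basis of the symplectic plane -/
noncomputable def rot (C : Two f β M) (p q r s : F) (h : p * s - q * r = 1) : Two f β M where
  P := p • C.P + r • C.Q
  Q := q • C.P + s • C.Q
  A := s • C.A - q • C.B
  B := p • C.B - r • C.A
  AP a := by
    simp only [LinearMap.sub_apply, LinearMap.smul_apply, LinearMap.add_apply, map_add, map_smul, C.AP, C.AQ, C.BP,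
      C.BQ]
    match_scalars <;> linear_combination h
  AQ a := by
    simp only [LinearMap.sub_apply, LinearMap.smul_apply, LinearMap.add_apply, map_add, map_smul, C.AP, C.AQ, C.BP,
      C.BQ]
    match_scalars <;> ring
  BP a := by
    simp only [LinearMap.sub_apply, LinearMap.smul_apply, LinearMap.add_apply, map_add, map_smul, C.AP, C.AQ, C.BP,
      C.BQ]
    match_scalars <;> ring
  BQ a := by
    simp only [LinearMap.sub_apply, LinearMap.smul_apply, LinearMap.add_apply, map_add, map_smul, C.AP, C.AQ, C.BP,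
      C.BQ]
    match_scalars <;> linear_combination h
  dec x := by
    simp only [LinearMap.sub_apply, LinearMap.smul_apply, LinearMap.add_apply, map_sub, map_smul]
    conv_rhs => rw [← C.dec x]
    match_scalars <;> first | linear_combination h | ring
  hf := C.hf
  hb := C.hb
  two := C.two
  fPP a b := by
    simp only [LinearMap.smul_apply, LinearMap.add_apply, f_add_left C.hf, f_add_right C.hf, f_smul_left C.hf,
      f_smul_right C.hf, C.fPP, C.fQQ, C.fPQ, C.fQP, b_comm C.hb b a]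
    ring
  fQQ a b := by
    simp only [LinearMap.smul_apply, LinearMap.add_apply, f_add_left C.hf, f_add_right C.hf, f_smul_left C.hf,
      f_smul_right C.hf, C.fPP, C.fQQ, C.fPQ, C.fQP, b_comm C.hb b a]
    ring
  fPQ a b := by
    simp only [LinearMap.smul_apply, LinearMap.add_apply, f_add_left C.hf, f_add_right C.hf, f_smul_left C.hf,
      f_smul_right C.hf, C.fPP, C.fQQ, C.fPQ, C.fQP, b_comm C.hb b a]
    linear_combination β a b * h
  le := C.le
  ge p' q' r' s' t ht hiso := by
    obtain ⟨g, hg, gP, gQ⟩ := C.ge ((p * p' + q * r') * s - (p * q' + q * s') * r)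
      ((p * q' + q * s') * p - (p * p' + q * r') * q) ((r * p' + s * r') * s - (r * q' + s * s') * r)
      ((r * q' + s * s') * p - (r * p' + s * r') * q) t (by
        linear_combination (p * s - q * r) * (p * s - q * r) * ht + (p * s - q * r + 1) * h) hiso
    refine ⟨g, hg, fun a => ?_, fun b => ?_⟩ <;>
      (simp only [LinearMap.smul_apply, LinearMap.add_apply, map_add, map_smul, gP, gQ]
       match_scalars <;> first
        | linear_combination (p * p' + q * r') * h
        | linear_combination (r * p' + s * r') * h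
        | linear_combination (p * q' + q * s') * h
        | linear_combination (r * q' + s * s') * h)

theorem id_iso : ∀ a b : Fin n → F, β ((LinearMap.id : (Fin n → F) →ₗ[F] _) a) ((LinearMap.id : (Fin n → F) →ₗ[F] _) b) = β a b :=
  fun _ _ => rfl

/-- an element of the orthogonal group acting on both copies -/
theorem exists_right {h : (Fin n → F) →ₗ[F] (Fin n → F)} (hh : ∀ a b, β (h a) (h b) = β a b) :
    ∃ g ∈ M, (∀ a, act g (C.P a) = C.P (h a)) ∧ ∀ b, act g (C.Q b) = C.Q (h b) := by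
  obtain ⟨g, hg, h1, h2⟩ := C.ge 1 0 0 1 h (by ring) hh
  exact ⟨g, hg, fun a => by rw [h1]; simp, fun b => by rw [h2]; simp⟩

/-- the plane involution of `(h₁, h₂)` -/
def IsInv (f : (ι → F) → (ι → F) → F) (s : GL ι F) (h₁ h₂ : ι → F) : Prop :=
  ∀ x, act s x = x - (2 : F) • (f x h₂ • h₁ - f x h₁ • h₂)

theorem isInv_conj {g s : GL ι F} (hg : g ∈ isoGroup f) {h₁ h₂ : ι → F} (h : IsInv f s h₁ h₂) :
    IsInv f (g * s * g⁻¹) (act g h₁) (act g h₂) := by
  intro x
  have e : ∀ y, f (act g⁻¹ x) y = f x (act g y) := fun y => by rw [← mem_isoGroup.1 hg, act_act_inv]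
  rw [act_mul, act_mul, h]
  simp only [map_sub, map_smul, act_act_inv, e]

theorem exists_inv_one {v : Fin n → F} (hv : β v v ≠ 0) :
    ∃ s ∈ M, IsInv f s (C.P ((β v v)⁻¹ • v)) (C.Q v) := by
  obtain ⟨g, hg, hP, hQ⟩ := C.exists_right (rho_iso C.hb hv)
  refine ⟨g, hg, fun x => C.ext_AB ?_ ?_⟩
  all_goals
    conv_lhs => rw [← C.dec x, map_add, hP, hQ]
    simp only [map_add, map_sub, map_smul, C.AP, C.AQ, C.BP, C.BQ, C.f_Q_right, C.f_P_right, f_smul_right C.hf,
      rho_apply C.hb, smul_zero, sub_zero, zero_sub, add_zero, zero_add]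
    match_scalars <;> field_simp

/-- root elements of a hyperbolic form -/
def IsCross (f : (ι → F) → (ι → F) → F) (g : GL ι F) (q₁ q₂ : ι → F) (s : F) : Prop :=
  ∀ x, act g x = x + s • (f x q₁ • q₂ + f x q₂ • q₁)

include C in
/-- two plane involutions with a common vector -/
theorem inv_mul_inv {s s' : GL ι F} {h₁ h₂ z : ι → F} (h12 : f h₁ h₂ = 1) (hz1 : f h₁ z = 0) (hz2 : f h₂ z = 0)
    (hs : IsInv f s h₁ h₂) (hs' : IsInv f s' h₁ (h₂ + z)) : IsCross f (s' * s) h₁ z (-2) := by
  intro x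
  rw [act_mul, hs, hs']
  simp only [f_sub_left C.hf, f_add_right C.hf, f_smul_left C.hf, f_self C.hf, h12, hz1, hz2, f_skew C.hf h₂ h₁]
  module

/-- the element `x ↦ x + P (S (B x))` lies in `M` -/
def InPhi (C : Two f β M) (S : (Fin n → F) →ₗ[F] (Fin n → F)) : Prop :=
  ∃ g ∈ M, ∀ x, act g x = x + C.P (S (C.B x))

theorem inPhi_one : InPhi C LinearMap.id := by
  obtain ⟨g, hg, hP, hQ⟩ := C.ge 1 1 0 1 LinearMap.id (by ring) id_iso
  refine ⟨g, hg, fun x => ?_⟩
  conv_lhs => rw [← C.dec x, map_add, hP, hQ]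
  conv_rhs => arg 1; rw [← C.dec x]
  simp only [LinearMap.id_apply, one_smul, zero_smul, map_zero, add_zero]
  abel

variable {C} in
theorem inPhi_add {S S' : (Fin n → F) →ₗ[F] (Fin n → F)} (h : InPhi C S) (h' : InPhi C S') :
    InPhi C (S + S') := by
  obtain ⟨g, hg, hx⟩ := h
  obtain ⟨g', hg', hx'⟩ := h'
  refine ⟨g * g', M.mul_mem hg hg', fun x => ?_⟩
  rw [act_mul, hx', hx, map_add C.B, C.BP, add_zero, LinearMap.add_apply, map_add]
  abel

variable {C} in
theorem inPhi_neg {S : (Fin n → F) →ₗ[F] (Fin n → F)} (h : InPhi C S) : InPhi C (-S) := by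
  obtain ⟨g, hg, hx⟩ := h
  refine ⟨g⁻¹, M.inv_mem hg, fun x => act_injective g ?_⟩
  rw [act_act_inv, hx, map_add C.B, C.BP, add_zero, LinearMap.neg_apply, map_neg]
  abel

variable {C} in
theorem inPhi_sub {S S' : (Fin n → F) →ₗ[F] (Fin n → F)} (h : InPhi C S) (h' : InPhi C S') :
    InPhi C (S - S') := by rw [sub_eq_add_neg]; exact inPhi_add h (inPhi_neg h')

variable {C} in
theorem inPhi_sq_smul {S : (Fin n → F) →ₗ[F] (Fin n → F)} (h : InPhi C S) {t : F} (ht : t ≠ 0) :
    InPhi C ((t * t) • S) := by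
  obtain ⟨g, hg, hx⟩ := h
  obtain ⟨k, hk, kP, kQ⟩ := C.ge t 0 0 t⁻¹ LinearMap.id (by field_simp; ring) id_iso
  refine ⟨k * g * k⁻¹, M.mul_mem (M.mul_mem hk hg) (M.inv_mem hk), fun x => ?_⟩
  have e : C.B (act k⁻¹ x) = t • C.B x := by
    have : x = act k (act k⁻¹ x) := (act_act_inv _ _).symm
    conv_rhs => rw [this, ← C.dec (act k⁻¹ x)]
    simp only [map_add, kP, kQ, C.BP, C.BQ, LinearMap.id_apply, zero_smul, zero_add, map_zero, smul_zero, smul_smul,
      mul_inv_cancel₀ ht, one_smul]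
  rw [act_mul, act_mul, hx, map_add, act_act_inv, kP, e]
  simp only [LinearMap.id_apply, map_smul, LinearMap.smul_apply, zero_smul, add_zero, smul_smul]
  module

variable {C} in
theorem inPhi_smul [Fintype F] {S : (Fin n → F) →ₗ[F] (Fin n → F)} (h : InPhi C S) (c : F) :
    InPhi C (c • S) := by
  obtain ⟨a, b, hab⟩ : ∃ a b : F, a * a + b * b = c := by
    have hodd : Fintype.card F % 2 = 1 := FiniteField.odd_card_of_char_ne_two fun h =>
      C.two (by have := (ringChar.eq_iff.1 h); exact CharTwo.two_eq_zero)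
    obtain ⟨a, b, h⟩ := FiniteField.exists_root_sum_quadratic (f := (Polynomial.X : Polynomial F) ^ 2)
      (g := Polynomial.X ^ 2 - Polynomial.C c) (Polynomial.degree_X_pow 2)
      (Polynomial.degree_X_pow_sub_C (by norm_num) _) hodd
    refine ⟨a, b, ?_⟩
    simp only [Polynomial.eval_pow, Polynomial.eval_X, Polynomial.eval_sub, Polynomial.eval_C] at h
    linear_combination h
  have h0 : InPhi C ((0 : F) • S) := by
    rw [zero_smul, show (0 : (Fin n → F) →ₗ[F] (Fin n → F)) = S - S by rw [sub_self]]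
    exact inPhi_sub h h
  have hsq : ∀ t : F, InPhi C ((t * t) • S) := fun t => by
    rcases eq_or_ne t 0 with rfl | ht
    · rwa [mul_zero]
    · exact inPhi_sq_smul h ht
  rw [← hab, add_smul]
  exact inPhi_add (hsq a) (hsq b)

variable {C} in
theorem inPhi_conj {S : (Fin n → F) →ₗ[F] (Fin n → F)} (h : InPhi C S) {t t' : (Fin n → F) →ₗ[F] (Fin n → F)}
    (ht : ∀ a b, β (t a) (t b) = β a b) (htt : ∀ a, t (t' a) = a) : InPhi C (t ∘ₗ S ∘ₗ t') := by
  obtain ⟨g, hg, hx⟩ := h
  obtain ⟨k, hk, kP, kQ⟩ := C.exists_right ht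
  refine ⟨k * g * k⁻¹, M.mul_mem (M.mul_mem hk hg) (M.inv_mem hk), fun x => ?_⟩
  have e : C.B (act k⁻¹ x) = t' (C.B x) := by
    have inj : Function.Injective t := fun a b hab => by
      by_contra hne
      obtain ⟨y, hy⟩ := exists_b_ne C.hb (sub_ne_zero.2 hne)
      refine hy ?_
      rw [← ht, map_sub, hab, sub_self, b_zero_left C.hb]
    apply inj
    rw [htt]
    conv_rhs => rw [← act_act_inv k x, ← C.dec (act k⁻¹ x)]
    simp only [map_add, kP, kQ, C.BP, C.BQ, zero_add]
  rw [act_mul, act_mul, hx, map_add, act_act_inv, kP, e]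
  rfl

/-- the symmetric endomorphism of two vectors -/
noncomputable def pair (hb : Cfsg.Geo.IsSymmetricForm β) (a b : Fin n → F) : (Fin n → F) →ₗ[F] (Fin n → F) :=
  (bl hb a).smulRight b + (bl hb b).smulRight a

theorem pair_apply (hb : Cfsg.Geo.IsSymmetricForm β) (a b x : Fin n → F) :
    pair hb a b x = β x a • b + β x b • a := by simp [pair, bl_apply]

theorem pair_comm (hb : Cfsg.Geo.IsSymmetricForm β) (a b : Fin n → F) : pair hb a b = pair hb b a :=
  add_comm _ _

variable {C} in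
theorem inPhi_pair_rho {a b : Fin n → F} (h : InPhi C (pair C.hb a b)) {v : Fin n → F} (hv : β v v ≠ 0) :
    InPhi C (pair C.hb (rho C.hb v a) (rho C.hb v b)) := by
  convert inPhi_conj h (rho_iso C.hb hv) (t' := rho C.hb v) (rho_rho C.hb hv) using 1
  apply LinearMap.ext; intro x
  simp only [pair_apply, LinearMap.comp_apply, map_add, map_smul]
  rw [← rho_iso C.hb hv (rho C.hb v x) a, ← rho_iso C.hb hv (rho C.hb v x) b, rho_rho C.hb hv]

end Two

end Cfsg.Agent.MaxCl.SpO
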