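/-
Two Lagrangian copies of an orthogonal space: plane involutions of an overgroup of `SL₂ ⊗ O(W)` yield a transvection
unless their planes are tensor lines.
-/
import Cfsg.Agent.Lib.MaxCl.SympTensorTwoBase

set_option autoImplicit false

namespace Cfsg.Agent.MaxCl.SpO.Two

open scoped MatrixGroups Matrix
open Module (finrank)

variable {ι : Type} [Fintype ι] [DecidableEq ι] {F : Type*} [Field F] [Fintype F] {n : ℕ}
variable {f : (ι → F) → (ι → F) → F} {β : (Fin n → F) → (Fin n → F) → F} {M : Subgroup (GL ι F)}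

/-- the whole root group of an isotropic pure vector lies in `M` -/
def HasPure (C : Two f β M) : Prop :=
  ∃ (p r : F) (w : Fin n → F), ¬ (p = 0 ∧ r = 0) ∧ w ≠ 0 ∧ β w w = 0 ∧ Full C.hf M (p • C.P w + r • C.Q w)

omit [Fintype F] in
theorem hasPure_rot {C : Two f β M} {p q r s : F} {h : p * s - q * r = 1} (H : HasPure (C.rot p q r s h)) :
    HasPure C := by
  obtain ⟨a, b, w, hab, hw, hw', hF⟩ := H
  refine ⟨a * p + b * q, a * r + b * s, w, fun e => hab ⟨?_, ?_⟩, hw, hw', ?_⟩
  · linear_combination s * e.1 - q * e.2 - a * h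
  · linear_combination p * e.2 - r * e.1 - b * h
  · convert hF using 1
    simp only [rot, LinearMap.smul_apply, LinearMap.add_apply]
    module

variable (C : Two f β M)

/-- a one-dimensional form on the second coordinate gives a root group -/
theorem full_of_inPhi {w : Fin n → F} {k : F} (hk : k ≠ 0) (h : InPhi C (k • (bl C.hb w).smulRight w)) :
    Full C.hf M (C.P w) := by
  intro c
  obtain ⟨g, hg, hx⟩ := inPhi_smul h (-c / k)
  convert hg using 1
  apply gl_ext; intro x
  rw [act_stv C.hf, hx, C.f_P_right]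
  simp only [LinearMap.smul_apply, LinearMap.smulRight_apply, bl_apply, map_smul, smul_smul]
  match_scalars <;> field_simp

/-- a hyperbolic form with an anisotropic axis gives a root group -/
theorem hasPure_of_pair (hn : 3 ≤ n) (big : 5 ≤ Fintype.card F ∨ 5 ≤ n) {a d : Fin n → F} (ha : β a a ≠ 0)
    (hd : d ≠ 0) (had : β a d = 0) (h : InPhi C (pair C.hb a d)) : HasPure C := by
  have h2 := C.two
  have hb := C.hb
  have h4 : (4 : F) ≠ 0 := by
    intro e
    exact mul_ne_zero h2 h2 (by linear_combination e)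
  have sweep : ∀ {a d : Fin n → F}, β a a ≠ 0 → d ≠ 0 → β a d = 0 → InPhi C (pair hb a d) →
      ∀ v, β v a = 0 → InPhi C (pair hb a v) := by
    intro a d ha hd had h v hv
    let S : Submodule F (Fin n → F) :=
      { carrier := {y | InPhi C (pair hb a y)}
        zero_mem' := by
          show InPhi C (pair hb a 0)
          convert inPhi_sub h h using 1
          apply LinearMap.ext; intro x; simp [pair_apply, b_zero_right hb]
        add_mem' := fun {y z} hy hz => by
          show InPhi C (pair hb a (y + z))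
          convert inPhi_add (show InPhi C (pair hb a y) from hy) (show InPhi C (pair hb a z) from hz) using 1
          apply LinearMap.ext; intro x
          simp only [pair_apply, LinearMap.add_apply, b_add_right hb]; module
        smul_mem' := fun k y hy => by
          show InPhi C (pair hb a (k • y))
          convert inPhi_smul (show InPhi C (pair hb a y) from hy) k using 1
          apply LinearMap.ext; intro x
          simp only [pair_apply, LinearMap.smul_apply, b_smul_right hb]; module }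
    have hdS : d ∈ S := h
    have hda : β d a = 0 := by rw [b_comm hb, had]
    refine (aniso_span hb h2 (bperp_one_nondeg hb ha) ?_ (φ := bl hb d) ?_ (S := S) fun u hu hu0 hud => ?_)
      ((mem_bperp hb).2 fun i => by fin_cases i; simpa using hv)
    · rcases big with h | h
      · exact Or.inl h
      · right; have := finrank_bperp_ge hb ![a]; omega
    · by_contra hno; push Not at hno
      exact hd (bperp_one_nondeg hb ha d ((mem_bperp hb).2 fun i => by fin_cases i; simpa using hda) fun w hw => by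
        rw [b_comm hb]; exact hno w hw)
    · have hua : β u a = 0 := (mem_bperp hb).1 hu 0
      have e : rho hb u d ∈ S := by
        have := inPhi_pair_rho h hu0
        rwa [rho_fix hb (x := a) (by rw [b_comm hb]; exact hua)] at this
      have e2 := S.sub_mem hdS e
      rw [rho_apply, sub_sub_cancel] at e2
      refine (S.smul_mem_iff ?_).1 e2
      rw [bl_apply] at hud
      exact mul_ne_zero (div_ne_zero h2 hu0) (by rwa [b_comm hb])
  obtain ⟨w, hw, haw⟩ := exists_iso_ne hb h2 hn (x := a) (fun e => ha (by rw [e, b_zero_left hb]))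
  have hw0 : w ≠ 0 := fun e => haw (by rw [e, b_zero_right hb])
  obtain ⟨v, hvX, hv⟩ := exists_aniso hb h2 (X := bperp hb ![a, w]) (fun e => by
      have := finrank_bperp_ge hb ![a, w]
      rw [e, finrank_bot] at this
      omega) (fun r hr h => by
    have hra : β r a = 0 := (mem_bperp hb).1 hr 0
    have hrw : β r w = 0 := (mem_bperp hb).1 hr 1
    by_contra hr0
    obtain ⟨y, hy⟩ := exists_b_ne hb hr0
    refine hy ?_
    obtain ⟨k₁, hk₁⟩ : ∃ k, k = β y w / β a w := ⟨_, rfl⟩
    obtain ⟨k₂, hk₂⟩ : ∃ k, k = (β y a - k₁ * β a a) / β a w := ⟨_, rfl⟩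
    have e₁ : k₁ * β a w = β y w := by rw [hk₁, div_mul_cancel₀ _ haw]
    have e₂ : k₂ * β a w = β y a - k₁ * β a a := by rw [hk₂, div_mul_cancel₀ _ haw]
    have := h (y - k₁ • a - k₂ • w) ((mem_bperp hb).2 fun i => by
      fin_cases i <;> simp [b_sub_left hb, b_smul_left hb, b_comm hb w a, hw, e₁, e₂])
    rwa [b_sub_right hb, b_sub_right hb, b_smul_right hb, b_smul_right hb, hra, hrw, mul_zero, mul_zero, sub_zero,
      sub_zero] at this)
  have hva : β v a = 0 := (mem_bperp hb).1 hvX 0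
  have hvw : β v w = 0 := (mem_bperp hb).1 hvX 1
  have ha0 : a ≠ 0 := fun e => ha (by rw [e, b_zero_left hb])
  have h1 : InPhi C (pair hb v a) := pair_comm hb a v ▸ sweep ha hd had h v hva
  have hvw' := sweep hv ha0 hva h1 w (by rw [b_comm hb, hvw])
  have hv' : β (v + w) (v + w) ≠ 0 := by
    simpa [b_add_left hb, b_add_right hb, hw, hvw, b_comm hb w v] using hv
  have hmoved := inPhi_pair_rho (inPhi_pair_rho hvw' hv) hv'
  have ev : rho hb (v + w) (rho hb v v) = v + (2 : F) • w := by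
    rw [rho_self hb hv, map_neg, rho_apply]
    simp only [b_add_left hb, b_add_right hb, hw, hvw, b_comm hb w v, add_zero]
    rw [div_mul_cancel₀ _ hv]
    module
  have ew : rho hb (v + w) (rho hb v w) = w := by
    rw [rho_fix hb (v := v) (x := w) (by rw [b_comm hb, hvw]),
      rho_fix hb (by rw [b_add_right hb, b_comm hb w v, hvw, hw, add_zero])]
  rw [ev, ew] at hmoved
  refine ⟨1, 0, w, fun e => one_ne_zero e.1, hw0, hw, ?_⟩
  rw [one_smul, zero_smul, add_zero]
  refine full_of_inPhi C h4 ?_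
  convert inPhi_sub hmoved hvw' using 1
  apply LinearMap.ext; intro x
  simp only [pair_apply, LinearMap.sub_apply, LinearMap.smul_apply, LinearMap.smulRight_apply, bl_apply,
    b_add_right hb, b_smul_right hb]
  module

/-- a plane through a pure vector which is not a tensor line -/
theorem hasPure_of_plane (hn : 3 ≤ n) (big : 5 ≤ Fintype.card F ∨ 5 ≤ n) {a : Fin n → F} (ha : β a a ≠ 0)
    {s : GL ι F} (hs : s ∈ M) {z : ι → F} (hz : z ≠ 0) (hza : β a (C.A z) = 0) (hzb : β a (C.B z) = 0)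
    (hinv : IsInv f s (C.P ((β a a)⁻¹ • a)) (C.Q a + z)) : HasPure C := by
  have hb := C.hb
  have hf := C.hf
  obtain ⟨lam, hlam⟩ : ∃ l, l = (β a a)⁻¹ := ⟨_, rfl⟩
  rw [← hlam] at hinv
  have hl : lam ≠ 0 := hlam ▸ inv_ne_zero ha
  obtain ⟨h₁, hh₁⟩ : ∃ v, v = C.P (lam • a) := ⟨_, rfl⟩
  rw [← hh₁] at hinv
  obtain ⟨r, hr, hrinv⟩ := C.exists_inv_one ha
  rw [← hlam, ← hh₁] at hrinv
  have h12 : f h₁ (C.Q a) = 1 := by rw [hh₁, C.fPQ, b_smul_left hb, hlam, inv_mul_cancel₀ ha]
  have hz1 : f h₁ z = 0 := by rw [hh₁, C.f_P_left, b_smul_left hb, hzb, mul_zero]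
  have hz2 : f (C.Q a) z = 0 := by rw [C.f_Q_left, hza, neg_zero]
  have hk := C.inv_mul_inv h12 hz1 hz2 hrinv hinv
  have hkM : s * r ∈ M := M.mul_mem hs hr
  have hx1 : ∀ x, f x h₁ = -(lam * β (C.B x) a) := fun x => by rw [hh₁, C.f_P_right, b_smul_right hb]
  by_cases hBz : C.B z = 0
  · have hzP : z = C.P (C.A z) := by
      conv_lhs => rw [← C.dec z, hBz, map_zero, add_zero]
    have hd : C.A z ≠ 0 := fun e => hz (by rw [hzP, e, map_zero])
    refine hasPure_of_pair C hn big ha hd hza ?_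
    have h1 : InPhi C ((2 * lam) • pair hb a (C.A z)) := by
      refine ⟨s * r, hkM, fun x => ?_⟩
      have hxz : f x z = -β (C.B x) (C.A z) := by
        conv_lhs => rw [hzP]
        rw [C.f_P_right]
      rw [hk x, hx1, hxz]
      conv_lhs => rw [hh₁]; arg 2; arg 2; arg 1; rw [hzP]
      simp only [pair_apply, LinearMap.smul_apply, map_add, map_smul]
      module
    have := inPhi_smul h1 (2 * lam)⁻¹
    rwa [smul_smul, inv_mul_cancel₀ (mul_ne_zero C.two hl), one_smul] at this
  obtain ⟨d, hd⟩ : ∃ d, d = C.B z := ⟨_, rfl⟩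
  rw [← hd] at hBz hzb
  obtain ⟨g, hg, hgx⟩ := inPhi_one C
  simp only [LinearMap.id_apply] at hgx
  have hgi := C.le hg
  have hk' : IsCross f (g * (s * r) * g⁻¹) h₁ (z + C.P d) (-2) := by
    intro x
    have e : ∀ y, f (act g⁻¹ x) y = f x (act g y) := fun y => by rw [← mem_isoGroup.1 hgi, act_act_inv]
    have e1 : act g h₁ = h₁ := by rw [hgx, hh₁, C.BP, map_zero, add_zero]
    have e2 : act g z = z + C.P d := by rw [hgx, hd]
    rw [act_mul, act_mul, hk]
    simp only [map_add, map_smul, act_act_inv, e, e1, e2]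
  have hPd1 : f h₁ (C.P d) = 0 := by rw [hh₁, C.fPP]
  have hPdz : f z (C.P d) = -β d d := by rw [C.f_P_right, hd]
  have hinv' : ∀ x, act (s * r)⁻¹ x = x + (2 : F) • (f x h₁ • z + f x z • h₁) := by
    intro x
    apply act_injective (s * r)
    rw [act_act_inv, hk]
    simp only [f_add_left hf, f_smul_left hf, f_self hf, hz1, f_eq_zero_symm hf hz1]
    module
  have h1 : InPhi C ((2 * lam) • pair hb a d - (2 * lam * lam * β d d) • pair hb a a) := by
    refine ⟨g * (s * r) * g⁻¹ * (s * r)⁻¹,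
      M.mul_mem (M.mul_mem (M.mul_mem hg hkM) (M.inv_mem hg)) (M.inv_mem hkM), fun x => ?_⟩
    rw [act_mul, hk', hinv']
    simp only [f_add_left hf, f_add_right hf, f_smul_left hf, f_self hf, hz1, f_eq_zero_symm hf hz1, hPd1, hPdz,
      hx1 x, C.f_P_right x]
    simp only [hh₁, pair_apply, LinearMap.sub_apply, LinearMap.smul_apply, map_sub, map_add, map_smul]
    module
  have h2 := inPhi_conj h1 (rho_iso hb ha) (t' := rho hb a) (rho_rho hb ha)
  refine hasPure_of_pair C hn big ha hBz hzb ?_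
  have h3 := inPhi_smul (inPhi_sub h1 h2) (2 * (2 * lam))⁻¹
  convert h3 using 1
  have hra : rho hb a a = -a := rho_self hb ha
  have hrd : rho hb a d = d := rho_fix hb (by rw [b_comm hb]; exact hzb)
  apply LinearMap.ext; intro x
  simp only [LinearMap.smul_apply, LinearMap.sub_apply, LinearMap.comp_apply, pair_apply, map_add, map_sub,
    map_smul, hra, hrd]
  have ea : β (rho hb a x) a = -β x a := by
    have e := rho_iso hb ha x a
    rw [hra, ← neg_one_smul F a, b_smul_right hb] at e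
    linear_combination -e
  have ed : β (rho hb a x) d = β x d := by
    conv_lhs => rw [← hrd, rho_iso hb ha]
  rw [ea, ed]
  match_scalars <;> field_simp [C.two] <;> ring

/-- an involution fixing a pure anisotropic vector without normalising its line -/
theorem hasPure_of_fix (hn : 3 ≤ n) (big : 5 ≤ Fintype.card F ∨ 5 ≤ n) {s : GL ι F} (hs : s ∈ M) {h₁ h₂ : ι → F}
    (h12 : f h₁ h₂ = 1) (hinv : IsInv f s h₁ h₂) {a : Fin n → F} (ha : β a a ≠ 0)
    (h1 : β a (C.B h₁) = 0) (h2 : β a (C.B h₂) = 0) (h3 : ¬ (β a (C.A h₁) = 0 ∧ β a (C.A h₂) = 0)) :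
    HasPure C := by
  obtain ⟨r, hr, hrinv⟩ := C.exists_inv_one ha
  have hPa : ∀ k : F, act s (C.P (k • a)) = C.P (k • a) := fun k => by
    rw [hinv, C.f_P_left, C.f_P_left, b_smul_left C.hb, b_smul_left C.hb, h1, h2]
    simp
  obtain ⟨z, hz⟩ : ∃ z, z = -((2 : F) • (f (C.Q a) h₂ • h₁ - f (C.Q a) h₁ • h₂)) := ⟨_, rfl⟩
  have hQa : act s (C.Q a) = C.Q a + z := by rw [hinv, hz]; abel
  have hconj := isInv_conj (C.le hs) hrinv
  rw [hPa, hQa] at hconj
  refine hasPure_of_plane C hn big ha (M.mul_mem (M.mul_mem hs hr) (M.inv_mem hs)) (z := z) ?_ ?_ ?_ hconj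
  · intro e
    rw [hz, neg_eq_zero, smul_eq_zero, or_iff_right C.two] at e
    apply h3
    have e1 := congrArg (fun v => f v h₂) e
    have e2 := congrArg (fun v => f v h₁) e
    simp only [f_sub_left C.hf, f_smul_left C.hf, f_self C.hf, f_zero_left C.hf, f_skew C.hf h₂ h₁, h12,
      C.f_Q_left, mul_zero, mul_one, sub_zero, zero_sub, mul_neg, neg_neg, neg_eq_zero] at e1 e2
    exact ⟨e2, e1⟩
  · rw [← neg_eq_zero, ← C.f_Q_left, hz, ← neg_one_smul F, f_smul_right C.hf, f_smul_right C.hf, f_sub_right C.hf,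
      f_smul_right C.hf, f_smul_right C.hf]
    ring
  · rw [hz, map_neg, map_smul, map_sub, map_smul, map_smul, ← neg_one_smul F, b_smul_right C.hb, b_smul_right C.hb,
      b_sub_right C.hb, b_smul_right C.hb, b_smul_right C.hb, h1, h2]
    ring

omit [Fintype F] in
include C in
/-- changing the basis of the plane of an involution -/
theorem isInv_basis {s : GL ι F} {h₁ h₂ : ι → F} (hinv : IsInv f s h₁ h₂) {p q r t : F}
    (h : p * t - q * r = 1) : IsInv f s (p • h₁ + q • h₂) (r • h₁ + t • h₂) := by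
  intro x
  rw [hinv x, f_add_right C.hf, f_add_right C.hf, f_smul_right C.hf, f_smul_right C.hf, f_smul_right C.hf,
    f_smul_right C.hf]
  match_scalars <;> first
    | linear_combination (-2 : F) * (f x h₂) * h
    | linear_combination (2 : F) * (f x h₂) * h
    | linear_combination (-2 : F) * (f x h₁) * h
    | linear_combination (2 : F) * (f x h₁) * h
    | ring

/-- a degenerate plane of second coordinates -/
theorem hasPure_of_heis {s : GL ι F} (hs : s ∈ M) {h₁ h₂ : ι → F} (h12 : f h₁ h₂ = 1) (hinv : IsInv f s h₁ h₂)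
    (hz : C.B h₁ ≠ 0) (hz1 : β (C.B h₁) (C.B h₁) = 0) (hz2 : β (C.B h₁) (C.B h₂) = 0)
    (hg : β (C.B h₂) (C.B h₂) ≠ 0) : HasPure C := by
  have hf := C.hf
  obtain ⟨W₁, hW₁⟩ : ∃ v, v = C.P (C.B h₁) := ⟨_, rfl⟩
  obtain ⟨W₂, hW₂⟩ : ∃ v, v = C.P (C.B h₂) := ⟨_, rfl⟩
  obtain ⟨γ, hγ⟩ : ∃ c, c = β (C.B h₂) (C.B h₂) := ⟨_, rfl⟩
  have e12 : f W₁ W₂ = 0 := by rw [hW₁, hW₂, C.fPP]
  have a1 : f h₁ W₁ = 0 := by rw [hW₁, C.f_P_right, hz1, neg_zero]
  have a2 : f h₂ W₁ = 0 := by rw [hW₁, C.f_P_right, b_comm C.hb, hz2, neg_zero]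
  have a3 : f h₁ W₂ = 0 := by rw [hW₂, C.f_P_right, hz2, neg_zero]
  have a4 : f h₂ W₂ = -γ := by rw [hW₂, C.f_P_right, hγ]
  have hk : ∀ c : F, ∃ k ∈ M, ∀ x, act k x = x - (2 : F) • (f x h₂ • h₁ - f x h₁ • h₂)
      - (2 : F) • ((-f x h₂ + c * (f x W₂ - 2 * γ * f x h₁)) • (h₁ + c • W₁)
        - (-f x h₁ + c * f x W₁) • (h₂ + c • W₂)) := by
    intro c
    obtain ⟨g, hgM, hgx⟩ := inPhi_smul (inPhi_one C) c
    simp only [LinearMap.smul_apply, LinearMap.id_apply, map_smul] at hgx
    have hconj := isInv_conj (C.le hgM) hinv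
    rw [hgx h₁, hgx h₂, ← hW₁, ← hW₂] at hconj
    refine ⟨g * s * g⁻¹ * s, M.mul_mem (M.mul_mem (M.mul_mem hgM hs) (M.inv_mem hgM)) hs, fun x => ?_⟩
    rw [act_mul, hinv x, hconj]
    simp only [f_sub_left hf, f_smul_left hf, f_add_right hf, f_smul_right hf, f_self hf, h12,
      f_skew hf h₂ h₁, a1, a2, a3, a4]
    module
  obtain ⟨ka, ha, ea⟩ := hk 1
  obtain ⟨kb, hb, eb⟩ := hk (-1)
  have hcomm : ka * kb = stv hf W₁ (16 * γ) * (kb * ka) := by
    apply gl_ext; intro x
    simp only [act_mul, act_stv hf, ea, eb, f_add_left hf, f_sub_left hf, f_smul_left hf, f_self hf, h12,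
      f_skew hf h₂ h₁, a1, a2, a3, a4, e12, f_eq_zero_symm hf a1, f_eq_zero_symm hf a2, f_eq_zero_symm hf a3,
      f_eq_zero_symm hf e12, f_skew hf W₂ h₂]
    module
  have hmem : stv hf W₁ (16 * γ) ∈ M := by
    have := M.mul_mem (M.mul_mem ha hb) (M.inv_mem (M.mul_mem hb ha))
    rwa [hcomm, mul_inv_cancel_right] at this
  refine ⟨1, 0, C.B h₁, fun e => one_ne_zero e.1, hz, hz1, ?_⟩
  rw [one_smul, zero_smul, add_zero]
  have h16 : (16 : F) * γ ≠ 0 := by
    refine mul_ne_zero ?_ (hγ ▸ hg)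
    intro e
    exact mul_ne_zero (mul_ne_zero C.two C.two) (mul_ne_zero C.two C.two) (by linear_combination e)
  refine full_of_inPhi C (neg_ne_zero.2 h16) ⟨_, hmem, fun x => ?_⟩
  rw [act_stv hf, hW₁, C.f_P_right]
  simp only [LinearMap.smul_apply, LinearMap.smulRight_apply, bl_apply, map_smul]
  module

omit [Fintype F] in
theorem qb_nondeg : (QuadraticMap.polarBilin (qb C.hb)).Nondegenerate := by
  have key : ∀ x, (∀ y, QuadraticMap.polar (qb C.hb) x y = 0) → x = 0 := by
    intro x h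
    by_contra hx
    obtain ⟨y, hy⟩ := exists_b_ne C.hb hx
    have e := h y
    simp only [QuadraticMap.polar, qb_apply, b_add_left C.hb, b_add_right C.hb, b_comm C.hb y x] at e
    exact hy ((mul_eq_zero.1 (by linear_combination e : (2 : F) * β x y = 0)).resolve_left C.two)
  exact ⟨fun x hx => key x hx, fun x hx => key x fun y => by rw [QuadraticMap.polar_comm]; exact hx y⟩

omit [Fintype F] in
/-- a vector orthogonal to the complement of a list is in its span -/
theorem mem_span_of_bperp {k : ℕ} {l : Fin k → (Fin n → F)} {y : Fin n → F}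
    (h : ∀ x ∈ bperp C.hb l, β x y = 0) : y ∈ Submodule.span F (Set.range l) := by
  have h1 : bl C.hb y ∈ Submodule.span F (Set.range fun i => bl C.hb (l i)) := by
    refine mem_span_of_iInf_ker_le_ker fun x hx => ?_
    rw [Submodule.mem_iInf] at hx
    exact h x ((mem_bperp C.hb).2 fun i => hx i)
  rw [Submodule.mem_span_range_iff_exists_fun] at h1 ⊢
  obtain ⟨c, hc⟩ := h1
  refine ⟨c, ?_⟩
  by_contra hne
  obtain ⟨z, hz⟩ := exists_b_ne C.hb (sub_ne_zero.2 hne)
  refine hz ?_
  rw [b_comm C.hb, ← bl_apply C.hb]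
  have e := LinearMap.congr_fun hc z
  simp only [LinearMap.sum_apply, LinearMap.smul_apply, bl_apply, smul_eq_mul] at e
  rw [bl_apply, b_sub_right C.hb, ← e, show β z (∑ i, c i • l i) = ∑ i, c i * β z (l i) from ?_, sub_self]
  rw [b_comm C.hb, ← bl_apply C.hb, map_sum]
  simp [bl_apply, b_comm C.hb z]

/-- the first coordinates of the plane lie in the span of the second ones -/
theorem step_span (hn : n = 3 ∨ 5 ≤ n) (big : 5 ≤ Fintype.card F ∨ 5 ≤ n) {s : GL ι F} (hs : s ∈ M) {h₁ h₂ : ι → F}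
    (h12 : f h₁ h₂ = 1) (hinv : IsInv f s h₁ h₂) :
    HasPure C ∨ (C.A h₁ ∈ Submodule.span F (Set.range ![C.B h₁, C.B h₂]) ∧
      C.A h₂ ∈ Submodule.span F (Set.range ![C.B h₁, C.B h₂])) := by
  classical
  rw [or_iff_not_imp_left]
  intro hno
  have hb := C.hb
  have hDo : ∀ a ∈ bperp hb ![C.B h₁, C.B h₂], β a a ≠ 0 → β a (C.A h₁) = 0 ∧ β a (C.A h₂) = 0 := by
    intro a ha ha0
    by_contra h
    exact hno (hasPure_of_fix C (by omega) big hs h12 hinv ha0 ((mem_bperp hb).1 ha 0) ((mem_bperp hb).1 ha 1) h)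
  by_cases htot : ∀ x ∈ bperp hb ![C.B h₁, C.B h₂], ∀ y ∈ bperp hb ![C.B h₁, C.B h₂], β x y = 0
  swap
  · constructor
    · refine mem_span_of_bperp C fun x hx => ?_
      exact LinearMap.mem_ker.1 (le_of_aniso hb C.two (S := LinearMap.ker (bl hb (C.A h₁)))
        (fun v hv hv0 => LinearMap.mem_ker.2 (hDo v hv hv0).1) htot hx)
    · refine mem_span_of_bperp C fun x hx => ?_
      exact LinearMap.mem_ker.1 (le_of_aniso hb C.two (S := LinearMap.ker (bl hb (C.A h₂)))
        (fun v hv hv0 => LinearMap.mem_ker.2 (hDo v hv hv0).2) htot hx)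
  exfalso
  have hle := Orth.two_mul_finrank_le_of_singular (qb_nondeg C) (D := bperp hb ![C.B h₁, C.B h₂])
    fun x hx => htot x hx x hx
  have hge := finrank_bperp_ge hb ![C.B h₁, C.B h₂]
  rw [Fintype.card_fin] at hle
  have hn3 : n = 3 := by omega
  obtain ⟨z, hz, hz0⟩ := Submodule.exists_mem_ne_zero_of_ne_bot (p := bperp hb ![C.B h₁, C.B h₂]) (fun e => by
    rw [e, finrank_bot] at hge; omega)
  have hzspan := mem_span_of_bperp C (y := z) fun x hx => htot x hx z hz
  rw [Submodule.mem_span_range_iff_exists_fun] at hzspan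
  obtain ⟨c, hc⟩ := hzspan
  simp only [Fin.sum_univ_two, Matrix.cons_val_zero, Matrix.cons_val_one] at hc
  have e1 : β z (C.B h₁) = 0 := (mem_bperp hb).1 hz 0
  have e2 : β z (C.B h₂) = 0 := (mem_bperp hb).1 hz 1
  obtain ⟨q, t, hqt⟩ : ∃ q t : F, c 0 * t - c 1 * q = 1 := by
    by_cases h0 : c 0 = 0
    · have h1 : c 1 ≠ 0 := fun h => hz0 (by rw [← hc, h0, h, zero_smul, zero_smul, add_zero])
      exact ⟨-(c 1)⁻¹, 0, by rw [h0]; field_simp; ring⟩
    · exact ⟨0, (c 0)⁻¹, by rw [mul_inv_cancel₀ h0]; ring⟩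
  have hinv' := isInv_basis C hinv hqt
  have h12' : f (c 0 • h₁ + c 1 • h₂) (q • h₁ + t • h₂) = 1 := by
    simp only [f_add_left C.hf, f_add_right C.hf, f_smul_left C.hf, f_smul_right C.hf, f_self C.hf, h12,
      f_skew C.hf h₂ h₁]
    linear_combination hqt
  have hB1 : C.B (c 0 • h₁ + c 1 • h₂) = z := by rw [map_add, map_smul, map_smul, hc]
  refine hno (hasPure_of_heis C hs h12' hinv' (by rw [hB1]; exact hz0) (by rw [hB1]; exact htot z hz z hz)
    (by rw [hB1, map_add, map_smul, map_smul, b_add_right hb, b_smul_right hb, b_smul_right hb, e1, e2]; ring) ?_)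
  intro hg2
  obtain ⟨w, hw⟩ : ∃ w, w = C.B (q • h₁ + t • h₂) := ⟨_, rfl⟩
  rw [← hw] at hg2
  have hzw : β z w = 0 := by
    rw [hw, map_add, map_smul, map_smul, b_add_right hb, b_smul_right hb, b_smul_right hb, e1, e2]; ring
  have hsing : ∀ x ∈ Submodule.span F (Set.range ![z, w]), qb hb x = 0 := by
    intro x hx
    rw [Submodule.mem_span_range_iff_exists_fun] at hx
    obtain ⟨d, rfl⟩ := hx
    simp only [qb_apply, Fin.sum_univ_two, Matrix.cons_val_zero, Matrix.cons_val_one, b_add_left hb,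
      b_add_right hb, b_smul_left hb, b_smul_right hb, htot z hz z hz, hzw, b_comm hb w z, hg2]
    ring
  have h6 := Orth.two_mul_finrank_le_of_singular (qb_nondeg C) hsing
  by_cases hli : LinearIndependent F ![z, w]
  · rw [finrank_span_eq_card hli, Fintype.card_fin, Fintype.card_fin] at h6
    omega
  rw [LinearIndependent.pair_iff' hz0] at hli
  push Not at hli
  obtain ⟨k, hk⟩ := hli
  -- then all second coordinates of the plane lie on one line
  have hline : ∀ x, β x z = 0 → x ∈ bperp hb ![C.B h₁, C.B h₂] := by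
    intro x hx
    refine (mem_bperp hb).2 fun i => ?_
    have ez : β x (c 0 • C.B h₁ + c 1 • C.B h₂) = 0 := by rw [hc, hx]
    have ew : β x (q • C.B h₁ + t • C.B h₂) = 0 := by
      rw [show q • C.B h₁ + t • C.B h₂ = w by rw [hw, map_add, map_smul, map_smul], ← hk, b_smul_right hb, hx,
        mul_zero]
    simp only [b_add_right hb, b_smul_right hb] at ez ew
    fin_cases i
    · show β x (C.B h₁) = 0
      linear_combination t * ez - c 1 * ew - (β x (C.B h₁)) * hqt
    · show β x (C.B h₂) = 0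
      linear_combination c 0 * ew - q * ez - (β x (C.B h₂)) * hqt
  have h7 := Submodule.finrank_mono (s := bperp hb ![z]) (t := bperp hb ![C.B h₁, C.B h₂])
    fun x hx => hline x ((mem_bperp hb).1 hx 0)
  have h8 := finrank_bperp_ge hb ![z]
  omega

end Cfsg.Agent.MaxCl.SpO.Two
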