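/-
Two Lagrangian copies of an orthogonal space: the plane of a plane involution in an overgroup of `SL₂ ⊗ O(W)`
is a tensor line unless there is a transvection.
-/
import Cfsg.Agent.Lib.MaxCl.SympTensorTwoSteps

set_option autoImplicit false
set_option maxHeartbeats 800000

namespace Cfsg.Agent.MaxCl.SpO.Two

open scoped MatrixGroups Matrix
open Module (finrank)

variable {ι : Type} [Fintype ι] [DecidableEq ι] {F : Type*} [Field F] [Fintype F] {n : ℕ}
variable {f : (ι → F) → (ι → F) → F} {β : (Fin n → F) → (Fin n → F) → F} {M : Subgroup (GL ι F)}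

/-- a plane which is the graph of a map without eigenvalues -/
theorem hasPure_of_graph (C : Two f β M) (hn : n = 3 ∨ 5 ≤ n) (big : 5 ≤ Fintype.card F ∨ 5 ≤ n) {s : GL ι F}
    (hs : s ∈ M) {hd ht : ι → F} {d τ γ : Fin n → F} {p q r D E G N : F}
    (hD : β d d = D) (hE : β τ τ = E) (hG : β γ γ = G) (hdt : β d τ = 0) (hdg : β d γ = 0) (htg : β τ γ = 0)
    (hD0 : D ≠ 0) (hE0 : E ≠ 0) (hγ : γ ≠ 0) (hEG : E + G ≠ 0) (hEG' : E ≠ G) (hG0 : 5 ≤ Fintype.card F ∨ G = 0)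
    (hBd : C.B hd = d) (hBt : C.B ht = τ) (hAd : C.A hd = p • d + q • τ) (hAt : C.A ht = r • d - p • τ)
    (hN : N = q * E - r * D) (hN0 : N ≠ 0) (hnsq : ∀ σ : F, σ * σ ≠ p * p + q * r)
    (hinv : IsInv f s (N⁻¹ • hd) ht) : HasPure C := by
  classical
  have hb := C.hb
  have h2 := C.two
  have htd : β τ d = 0 := by rw [b_comm hb, hdt]
  have hgd : β γ d = 0 := by rw [b_comm hb, hdg]
  have hgt : β γ τ = 0 := by rw [b_comm hb, htg]
  have hq : q ≠ 0 := fun e => hnsq p (by rw [e]; ring)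
  obtain ⟨κ, hκ⟩ : ∃ k, k = 2 * q * E / (E + G) := ⟨_, rfl⟩
  have hκ0 : κ ≠ 0 := hκ ▸ div_ne_zero (mul_ne_zero (mul_ne_zero h2 hq) hE0) hEG
  have hκ' : κ * (E + G) = 2 * q * E := by rw [hκ, div_mul_cancel₀ _ hEG]
  obtain ⟨Ω, hΩ⟩ : ∃ o, o = 2 * κ * E - N := ⟨_, rfl⟩
  obtain ⟨c, hc, hgc⟩ : ∃ c : F, c ≠ 0 ∧
      2 * (p * p + q * r) * Ω - p * Ω * c - (q * E + r * D) * (c * c) ≠ 0 := by
    by_contra hno; push Not at hno
    have e1 := hno 1 one_ne_zero
    have e2 := hno (-1) (neg_ne_zero.2 one_ne_zero)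
    have hpΩ : p * Ω = 0 :=
      (mul_eq_zero.1 (by linear_combination e2 - e1 : (2 : F) * (p * Ω) = 0)).resolve_left h2
    have hS : q * E + r * D = 2 * (p * p + q * r) * Ω := by linear_combination -e1 - hpΩ
    have hΩ0 : Ω ≠ 0 := by
      intro hz
      rw [hz, mul_zero] at hS
      have hN2 : N = 2 * q * E := by linear_combination hN - hS
      have h3 : 2 * κ * E = 2 * q * E := by linear_combination hz - hΩ + hN2
      have h4 : κ = q := mul_right_cancel₀ hE0 (mul_left_cancel₀ h2 (by linear_combination h3))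
      rw [h4] at hκ'
      exact hEG' (mul_left_cancel₀ hq (by linear_combination -hκ'))
    have hp0 : p = 0 := (mul_eq_zero.1 hpΩ).resolve_right hΩ0
    have hqr : q * r ≠ 0 := fun e => hnsq 0 (by rw [hp0, e]; ring)
    have hsq : ∀ k : F, k ≠ 0 → k * k = 1 := by
      intro k hk
      have e := hno k hk
      rw [hp0] at e hS
      exact mul_left_cancel₀ (mul_ne_zero (mul_ne_zero h2 hqr) hΩ0) (by linear_combination -e - k * k * hS)
    have hcard : Fintype.card F ≤ 3 := by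
      have hval : ∀ k : F, k = 0 ∨ k = 1 ∨ k = -1 := fun k => by
        rcases eq_or_ne k 0 with h | h
        · exact Or.inl h
        · exact Or.inr (mul_self_eq_one_iff.1 (hsq k h))
      have : (Finset.univ : Finset F) ⊆ {0, 1, -1} := fun k _ => by
        rcases hval k with rfl | rfl | rfl <;> simp
      exact (Finset.card_le_card this).trans Finset.card_le_three
    have hG' : G = 0 := hG0.resolve_left (by omega)
    have h3 : (3 : F) = 0 := by
      have h22 := hsq 2 h2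
      linear_combination h22
    have hqr1 : q * r = -1 := (mul_self_eq_one_iff.1 (hsq _ hqr)).resolve_left fun e => hnsq 1 (by rw [hp0, e]; ring)
    rw [hG'] at hκ'
    have hκ2 : κ = 2 * q := mul_right_cancel₀ hE0 (by linear_combination hκ')
    have hr : r = -q := by
      have := hsq q hq
      linear_combination q * hqr1 - r * this
    rw [hp0, hΩ, hκ2, hN, hr] at hS
    have hqq := hsq q hq
    exact mul_ne_zero hq hE0 (by
      linear_combination hS - (2 * q * E - q * D) * h3 - 2 * (3 * q * E - q * D) * hqq)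
  obtain ⟨Δ, hΔ⟩ : ∃ z, z = c * c - (p * p + q * r) := ⟨_, rfl⟩
  have hΔ0 : Δ ≠ 0 := hΔ ▸ sub_ne_zero.2 (hnsq c)
  -- the elements
  obtain ⟨w, hw⟩ : ∃ w, w = τ + γ := ⟨_, rfl⟩
  have hww : β w w = E + G := by rw [hw]; simp only [b_add_left hb, b_add_right hb, hE, hG, htg, hgt]; ring
  have hw0 : β w w ≠ 0 := hww ▸ hEG
  obtain ⟨g, hg, hgx⟩ := inPhi_smul (inPhi_one C) c
  simp only [LinearMap.smul_apply, LinearMap.id_apply] at hgx
  obtain ⟨k, hk, hkP, hkQ⟩ := C.exists_right (rho_iso hb hw0)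
  have hact : ∀ z, C.A (act (k * g) z) = rho hb w (C.A z + c • C.B z) ∧ C.B (act (k * g) z) = rho hb w (C.B z) := by
    intro z
    have e : act (k * g) z = C.P (rho hb w (C.A z + c • C.B z)) + C.Q (rho hb w (C.B z)) := by
      rw [act_mul, hgx]
      conv_lhs => arg 2; arg 1; rw [← C.dec z]
      simp only [map_add, hkP, hkQ, map_smul]
      abel
    rw [e]
    simp [C.AP, C.AQ, C.BP, C.BQ]
  obtain ⟨z₁, hz₁⟩ : ∃ z, z = act (k * g) hd := ⟨_, rfl⟩
  obtain ⟨h2', hh2⟩ : ∃ z, z = Δ⁻¹ • ((c - p) • hd - q • ht) := ⟨_, rfl⟩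
  obtain ⟨z₂, hz₂⟩ : ∃ z, z = act (k * g) h2' := ⟨_, rfl⟩
  have hrd : rho hb w d = d := rho_fix hb (by rw [hw, b_add_right hb, hdt, hdg, add_zero])
  have hrt : rho hb w τ = τ - (2 * E / (E + G)) • w := by
    rw [rho_apply, hww, hw, b_add_right hb, hE, htg, add_zero]
    match_scalars <;> field_simp
  have hA1 : C.A z₁ = (p + c) • d + q • τ - κ • w := by
    rw [hz₁, (hact hd).1, hAd, hBd]
    simp only [map_add, map_smul, hrd, hrt, hκ]
    match_scalars <;> field_simp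
  have hB1 : C.B z₁ = d := by rw [hz₁, (hact hd).2, hBd, hrd]
  have hA2 : C.A z₂ = d := by
    rw [hz₂, (hact h2').1, hh2]
    simp only [map_add, map_sub, map_smul, hAd, hAt, hBd, hBt, hrd, hrt]
    match_scalars <;> field_simp <;> (try rw [hΔ]) <;> ring
  have hB2 : C.B z₂ = Δ⁻¹ • ((c - p) • d - q • τ + κ • w) := by
    rw [hz₂, (hact h2').2, hh2]
    simp only [map_sub, map_smul, hBd, hBt, hrd, hrt, hκ]
    match_scalars <;> field_simp
  obtain ⟨y₁, hy₁⟩ : ∃ z, z = act s z₁ := ⟨_, rfl⟩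
  obtain ⟨y₂, hy₂⟩ : ∃ z, z = act s z₂ := ⟨_, rfl⟩
  have hsx : ∀ x, act s x = x - (2 / N) • ((β (C.A x) τ - β (C.B x) (r • d - p • τ)) • hd
      - (β (C.A x) d - β (C.B x) (p • d + q • τ)) • ht) := by
    intro x
    rw [hinv, f_smul_right C.hf, C.f_eq x ht, C.f_eq x hd, hAd, hAt, hBd, hBt]
    match_scalars <;> field_simp
  have hwd : β w d = 0 := by rw [hw, b_add_left hb, htd, hgd, add_zero]
  have hwt : β w τ = E := by rw [hw, b_add_left hb, hE, hgt, add_zero]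
  have v1 : C.B y₁ = (Ω / N) • d + (2 * c * D / N) • τ := by
    rw [hy₁, hsx]
    simp only [map_sub, map_smul, hA1, hB1, hBd, hBt, b_sub_left hb, b_add_left hb, b_smul_left hb, b_sub_right hb,
      b_add_right hb, b_smul_right hb, hD, hE, hdt, htd, hwd, hwt, hΩ]
    match_scalars <;> field_simp <;> (try rw [hN]) <;> ring
  have v2 : C.A y₂ = (((q * E + r * D) * Δ + 2 * (p * p + q * r) * q * E - 2 * (p * p + q * r) * κ * E) / (N * Δ)) • d
      + (2 * c * D * ((p * p + q * r) - p * c) / (N * Δ)) • τ := by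
    rw [hy₂, hsx]
    simp only [map_sub, map_smul, hA2, hB2, hAd, hAt, b_sub_left hb, b_add_left hb, b_smul_left hb, b_sub_right hb,
      b_add_right hb, b_smul_right hb, hD, hE, hdt, htd, hwd, hwt]
    match_scalars <;> field_simp <;> (try rw [hΔ]) <;> (try rw [hN]) <;> ring
  obtain ⟨x₁, x₂, v3⟩ : ∃ x₁ x₂ : F, C.A y₁ = x₁ • d + x₂ • τ - κ • γ := by
    obtain ⟨α, hα⟩ : ∃ z, z = 2 / N * (β (C.A z₁) τ - β (C.B z₁) (r • d - p • τ)) := ⟨_, rfl⟩
    obtain ⟨α', hα'⟩ : ∃ z, z = 2 / N * (β (C.A z₁) d - β (C.B z₁) (p • d + q • τ)) := ⟨_, rfl⟩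
    refine ⟨p + c - α * p + α' * r, q - κ - α * q - α' * p, ?_⟩
    rw [hy₁, hsx, smul_sub, smul_smul, smul_smul, ← hα, ← hα', map_sub, map_sub, map_smul, map_smul, hA1, hAd,
      hAt, hw]
    module
  -- the plane of the conjugate involution
  have hkg : k * g ∈ M := M.mul_mem hk hg
  have hb' : IsInv f s (N⁻¹ • hd) ((-(c - p) * N / q) • (N⁻¹ • hd) + (1 : F) • ht) := by
    have := isInv_basis C hinv (p := 1) (q := 0) (r := -(c - p) * N / q) (t := 1) (by ring)
    simpa using this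
  have hconj := isInv_conj (C.le hs) (isInv_conj (C.le hkg) hb')
  rw [map_smul, map_smul, ← hz₁, ← hy₁] at hconj
  have e2 : act s (act (k * g) ((-(c - p) * N / q) • (N⁻¹ • hd) + (1 : F) • ht)) = (-Δ / q) • y₂ := by
    rw [hy₂, hz₂, ← map_smul, ← map_smul, hh2]
    congr 2
    match_scalars <;> field_simp
  rw [e2] at hconj
  have h12 : f (N⁻¹ • y₁) ((-Δ / q) • y₂) = 1 := by
    rw [hy₁, hy₂, ← map_smul, ← map_smul, mem_isoGroup.1 (C.le hs), hz₁, hz₂, ← map_smul, ← map_smul,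
      mem_isoGroup.1 (C.le hkg), hh2]
    simp only [f_smul_left C.hf, f_smul_right C.hf, f_sub_right C.hf, C.f_eq hd ht, f_self C.hf, hAd, hAt, hBd,
      hBt, b_add_left hb, b_sub_right hb, b_smul_left hb, b_smul_right hb, hdt, hD, hE]
    field_simp
    rw [hN]
    ring
  rcases step_span C hn big (M.mul_mem (M.mul_mem hs (M.mul_mem (M.mul_mem hkg hs) (M.inv_mem hkg)))
    (M.inv_mem hs)) h12 hconj with h | ⟨h1, h2A⟩
  · exact h
  exfalso
  rw [Submodule.mem_span_range_iff_exists_fun] at h1 h2A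
  obtain ⟨a, ha⟩ := h1
  obtain ⟨b, hb2⟩ := h2A
  simp only [Fin.sum_univ_two, Matrix.cons_val_zero, Matrix.cons_val_one, map_smul, smul_smul] at ha hb2
  obtain ⟨a₁, ha₁⟩ : ∃ z, z = Ω / N := ⟨_, rfl⟩
  obtain ⟨b₁, hb₁⟩ : ∃ z, z = 2 * c * D / N := ⟨_, rfl⟩
  obtain ⟨a₂, ha₂⟩ : ∃ z, z =
      ((q * E + r * D) * Δ + 2 * (p * p + q * r) * q * E - 2 * (p * p + q * r) * κ * E) / (N * Δ) := ⟨_, rfl⟩
  obtain ⟨b₂, hb₂⟩ : ∃ z, z = 2 * c * D * ((p * p + q * r) - p * c) / (N * Δ) := ⟨_, rfl⟩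
  have hdet : a₁ * b₂ - b₁ * a₂ ≠ 0 := by
    rw [ha₁, hb₁, ha₂, hb₂]
    intro e
    apply hgc
    field_simp at e
    have key : (2 * c * D) * (2 * (p * p + q * r) * Ω - p * Ω * c - (q * E + r * D) * (c * c)) = 0 := by
      linear_combination e + (2 * c * D) * (q * E + r * D) * hΔ +
        (2 * c * D) * (p * p + q * r) * (hΩ - hN)
    exact (mul_eq_zero.1 key).resolve_left (mul_ne_zero (mul_ne_zero h2 hc) hD0)
  rw [v1, v2, ← ha₁, ← hb₁, ← ha₂, ← hb₂] at hb2
  rw [v1, v3, ← ha₁, ← hb₁] at ha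
  generalize C.B y₂ = u at ha hb2
  obtain ⟨k₀, hk₀⟩ : ∃ z, z = b 1 * (-Δ / q) := ⟨_, rfl⟩
  obtain ⟨k₁, hk₁⟩ : ∃ z, z = b 0 * N⁻¹ := ⟨_, rfl⟩
  obtain ⟨l₀, hl₀⟩ : ∃ z, z = a 1 * (-Δ / q) := ⟨_, rfl⟩
  obtain ⟨l₁, hl₁⟩ : ∃ z, z = a 0 * N⁻¹ := ⟨_, rfl⟩
  rw [← hk₀, ← hk₁] at hb2
  rw [← hl₀, ← hl₁] at ha
  have hcoord : ∀ {x y : F}, x • d + y • τ = 0 → x = 0 ∧ y = 0 := by
    intro x y h
    have e1 := congrArg (fun v => β v d) h
    have e2 := congrArg (fun v => β v τ) h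
    simp only [b_add_left hb, b_smul_left hb, b_zero_left hb, hD, hE, hdt, htd, mul_zero, add_zero, zero_add] at e1 e2
    exact ⟨(mul_eq_zero.1 e1).resolve_right hD0, (mul_eq_zero.1 e2).resolve_right hE0⟩
  have hQ0 : (-Δ / q) ≠ 0 := div_ne_zero (neg_ne_zero.2 hΔ0) hq
  have hk₀0 : k₀ ≠ 0 := by
    intro h
    rw [h, zero_smul, add_zero] at hb2
    obtain ⟨e1, e2⟩ := hcoord (x := k₁ * a₁ - -Δ / q * a₂) (y := k₁ * b₁ - -Δ / q * b₂)
      (by linear_combination (norm := module) hb2)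
    exact (mul_ne_zero hQ0 hdet) (by linear_combination b₁ * e1 - a₁ * e2)
  obtain ⟨x₃, x₄, hu⟩ : ∃ x₃ x₄ : F, u = x₃ • d + x₄ • τ := by
    refine ⟨(-Δ / q * a₂ - k₁ * a₁) / k₀, (-Δ / q * b₂ - k₁ * b₁) / k₀, ?_⟩
    apply smul_right_injective (Fin n → F) hk₀0
    show k₀ • u = k₀ • _
    rw [smul_add, smul_smul, smul_smul, mul_div_cancel₀ _ hk₀0, mul_div_cancel₀ _ hk₀0]
    linear_combination (norm := module) hb2
  rw [hu] at ha
  have hmem : (N⁻¹ * κ) • γ = (N⁻¹ * x₁ - l₁ * a₁ - l₀ * x₃) • d + (N⁻¹ * x₂ - l₁ * b₁ - l₀ * x₄) • τ := by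
    linear_combination (norm := module) ha
  generalize N⁻¹ * x₁ - l₁ * a₁ - l₀ * x₃ = e₁ at hmem
  generalize N⁻¹ * x₂ - l₁ * b₁ - l₀ * x₄ = e₂ at hmem
  have e1 := congrArg (fun v => β v d) hmem
  have e2 := congrArg (fun v => β v τ) hmem
  simp only [b_add_left hb, b_smul_left hb, hD, hE, hdt, htd, hgd, hgt, mul_zero, add_zero, zero_add] at e1 e2
  rw [(mul_eq_zero.1 e1.symm).resolve_right hD0, (mul_eq_zero.1 e2.symm).resolve_right hE0, zero_smul, zero_smul,
    add_zero] at hmem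
  exact (smul_eq_zero.1 hmem).elim (mul_ne_zero (inv_ne_zero hN0) hκ0) hγ

/-- the coordinates of the plane of an involution lie on one line, or there is a transvection -/
theorem plane_cases (C : Two f β M) (hn : n = 3 ∨ 5 ≤ n) (big : 5 ≤ Fintype.card F ∨ 5 ≤ n) {s : GL ι F}
    (hs : s ∈ M) {h₁ h₂ : ι → F} (h12 : f h₁ h₂ = 1) (hinv : IsInv f s h₁ h₂) :
    HasPure C ∨ ∃ v, C.A h₁ ∈ F ∙ v ∧ C.A h₂ ∈ F ∙ v ∧ C.B h₁ ∈ F ∙ v ∧ C.B h₂ ∈ F ∙ v := by
  classical
  rw [or_iff_not_imp_left]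
  intro hno
  have hb := C.hb
  obtain ⟨hA1, hA2⟩ := (step_span C hn big hs h12 hinv).resolve_left hno
  obtain ⟨hB1, hB2⟩ : C.B h₁ ∈ Submodule.span F (Set.range ![C.A h₁, C.A h₂]) ∧
      C.B h₂ ∈ Submodule.span F (Set.range ![C.A h₁, C.A h₂]) := by
    have h01 : (0 : F) * 0 - 1 * -1 = 1 := by ring
    have := (step_span (C.rot 0 1 (-1) 0 h01) hn big hs h12 hinv).resolve_left fun h => hno (hasPure_rot h)
    simpa [rot] using this
  by_cases hli : LinearIndependent F ![C.B h₁, C.B h₂]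
  swap
  · obtain ⟨v, hv1, hv2⟩ : ∃ v, C.B h₁ ∈ F ∙ v ∧ C.B h₂ ∈ F ∙ v := by
      by_cases h0 : C.B h₁ = 0
      · exact ⟨C.B h₂, by rw [h0]; exact zero_mem _, Submodule.mem_span_singleton_self _⟩
      · rw [LinearIndependent.pair_iff' h0] at hli
        push Not at hli
        obtain ⟨a, ha⟩ := hli
        exact ⟨C.B h₁, Submodule.mem_span_singleton_self _, ha ▸ Submodule.smul_mem _ _ (Submodule.mem_span_singleton_self _)⟩
    have hle : Submodule.span F (Set.range ![C.B h₁, C.B h₂]) ≤ F ∙ v := by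
      rw [Submodule.span_le]; rintro _ ⟨i, rfl⟩; fin_cases i <;> assumption
    exact ⟨v, hle hA1, hle hA2, hv1, hv2⟩
  exfalso
  have hfin2 : finrank F (Submodule.span F (Set.range ![C.B h₁, C.B h₂])) = 2 := by
    rw [finrank_span_eq_card hli, Fintype.card_fin]
  have hTle : Submodule.span F (Set.range ![C.B h₁, C.B h₂]) ≤ Submodule.span F (Set.range ![C.A h₁, C.A h₂]) := by
    rw [Submodule.span_le]; rintro _ ⟨i, rfl⟩; fin_cases i <;> assumption
  have hone : ∀ x y : Fin n → F, ∀ a b : F, ¬ (a = 0 ∧ b = 0) → a • x + b • y = 0 →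
      finrank F (Submodule.span F (Set.range ![x, y])) ≤ 1 := by
    intro x y a b hab h
    have hdep : ¬ LinearIndependent F ![x, y] := fun hl => hab (LinearIndependent.pair_iff.1 hl a b h)
    have h1 := finrank_range_le_card (R := F) ![x, y]
    rw [Fintype.card_fin] at h1
    rw [linearIndependent_iff_card_eq_finrank_span, Fintype.card_fin] at hdep
    rw [Set.finrank] at hdep h1
    omega
  have hnoeig : ∀ lam a b : F, ¬ (a = 0 ∧ b = 0) →
      a • C.A h₁ + b • C.A h₂ ≠ lam • (a • C.B h₁ + b • C.B h₂) := by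
    intro lam a b hab h
    rcases eq_or_ne lam 0 with rfl | hl
    · rw [zero_smul] at h
      have := (Submodule.finrank_mono hTle).trans (hone _ _ a b hab h)
      omega
    · have h1 : (1 : F) * 1 - 0 * lam⁻¹ = 1 := by ring
      obtain ⟨e1, e2⟩ := (step_span (C.rot 1 0 lam⁻¹ 1 h1) hn big hs h12 hinv).resolve_left
        fun h => hno (hasPure_rot h)
      simp only [rot, one_smul, zero_smul, sub_zero, LinearMap.sub_apply, LinearMap.smul_apply] at e1 e2
      have hle : Submodule.span F (Set.range ![C.A h₁, C.A h₂]) ≤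
          Submodule.span F (Set.range ![C.B h₁ - lam⁻¹ • C.A h₁, C.B h₂ - lam⁻¹ • C.A h₂]) := by
        rw [Submodule.span_le]; rintro _ ⟨i, rfl⟩; fin_cases i <;> assumption
      have hz : a • (C.B h₁ - lam⁻¹ • C.A h₁) + b • (C.B h₂ - lam⁻¹ • C.A h₂) = 0 := by
        have e : a • C.B h₁ + b • C.B h₂ = lam⁻¹ • (a • C.A h₁ + b • C.A h₂) := by
          rw [h, inv_smul_smul₀ hl]
        linear_combination (norm := module) e
      have := ((Submodule.finrank_mono hTle).trans (Submodule.finrank_mono hle)).trans (hone _ _ a b hab hz)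
      omega
  rw [Submodule.mem_span_range_iff_exists_fun] at hA1 hA2
  obtain ⟨u, hu⟩ := hA1
  obtain ⟨v, hv⟩ := hA2
  simp only [Fin.sum_univ_two, Matrix.cons_val_zero, Matrix.cons_val_one] at hu hv
  have hind : ∀ {a b : F}, a • C.B h₁ + b • C.B h₂ = 0 → a = 0 ∧ b = 0 := fun h => LinearIndependent.pair_iff.1 hli _ _ h
  -- the form on the plane of second coordinates
  have hsing : ¬ (β (C.B h₁) (C.B h₁) = 0 ∧ β (C.B h₁) (C.B h₂) = 0 ∧ β (C.B h₂) (C.B h₂) = 0) := by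
    rintro ⟨e11, e12, e22⟩
    rw [C.f_eq, ← hu, ← hv] at h12
    simp [b_add_left hb, b_add_right hb, b_smul_left hb, b_smul_right hb, e11, e12, e22, b_comm hb (C.B h₂) (C.B h₁)]
      at h12
  have hnd : ∀ a b : F, β (a • C.B h₁ + b • C.B h₂) (C.B h₁) = 0 → β (a • C.B h₁ + b • C.B h₂) (C.B h₂) = 0 →
      a = 0 ∧ b = 0 := by
    intro a b e1 e2
    by_contra hab
    obtain ⟨q, t, hqt⟩ : ∃ q t : F, a * t - b * q = 1 := by
      by_cases h0 : a = 0
      · exact ⟨-b⁻¹, 0, by rw [h0, mul_neg, sub_neg_eq_add, mul_inv_cancel₀ fun h => hab ⟨h0, h⟩]; ring⟩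
      · exact ⟨0, a⁻¹, by rw [mul_inv_cancel₀ h0]; ring⟩
    have h12' : f (a • h₁ + b • h₂) (q • h₁ + t • h₂) = 1 := by
      simp only [f_add_left C.hf, f_add_right C.hf, f_smul_left C.hf, f_smul_right C.hf, f_self C.hf, h12,
        f_skew C.hf h₂ h₁]
      linear_combination hqt
    refine hno (hasPure_of_heis C hs h12' (isInv_basis C hinv hqt) ?_ ?_ ?_ ?_) <;>
      simp only [map_add, map_smul]
    · exact fun h => hab (hind h)
    · rw [b_add_right hb, b_smul_right hb, b_smul_right hb, e1, e2]; ring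
    · rw [b_add_right hb, b_smul_right hb, b_smul_right hb, e1, e2]; ring
    · intro e3
      apply hsing
      simp only [b_add_left hb, b_add_right hb, b_smul_left hb, b_smul_right hb, b_comm hb (C.B h₂) (C.B h₁)]
        at e1 e2 e3
      obtain ⟨b11, hb11⟩ : ∃ z, z = β (C.B h₁) (C.B h₁) := ⟨_, rfl⟩
      obtain ⟨b12, hb12⟩ : ∃ z, z = β (C.B h₁) (C.B h₂) := ⟨_, rfl⟩
      obtain ⟨b22, hb22⟩ : ∃ z, z = β (C.B h₂) (C.B h₂) := ⟨_, rfl⟩
      rw [← hb11, ← hb12] at e1 e3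
      rw [← hb12, ← hb22] at e2
      rw [← hb22] at e3
      rw [← hb11, ← hb12, ← hb22]
      obtain ⟨g1, hg1⟩ : ∃ z, z = q * b11 + t * b12 := ⟨_, rfl⟩
      obtain ⟨g2, hg2⟩ : ∃ z, z = q * b12 + t * b22 := ⟨_, rfl⟩
      have k1 : b * g2 + a * g1 = 0 := by rw [hg1, hg2]; linear_combination q * e1 + t * e2
      have k2 : q * g1 + t * g2 = 0 := by rw [hg1, hg2]; linear_combination e3
      have z1 : g1 = 0 := by linear_combination t * k1 - b * k2 - g1 * hqt
      have z2 : g2 = 0 := by linear_combination a * k2 - q * k1 - g2 * hqt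
      refine ⟨?_, ?_, ?_⟩
      · linear_combination t * e1 - b * (hg1.symm.trans z1) - b11 * hqt
      · linear_combination t * e2 - b * (hg2.symm.trans z2) - b12 * hqt
      · linear_combination a * (hg2.symm.trans z2) - q * e2 - b22 * hqt
  obtain ⟨T, hT⟩ : ∃ T, T = Submodule.span F (Set.range ![C.B h₁, C.B h₂]) := ⟨_, rfl⟩
  have hTnd : ∀ z ∈ T, (∀ x ∈ T, β z x = 0) → z = 0 := by
    intro z hz h
    rw [hT, Submodule.mem_span_range_iff_exists_fun] at hz
    obtain ⟨k, rfl⟩ := hz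
    simp only [Fin.sum_univ_two, Matrix.cons_val_zero, Matrix.cons_val_one] at h ⊢
    obtain ⟨ea, eb⟩ := hnd (k 0) (k 1) (h _ (hT ▸ Submodule.subset_span ⟨0, rfl⟩))
      (h _ (hT ▸ Submodule.subset_span ⟨1, rfl⟩))
    rw [ea, eb, zero_smul, zero_smul, add_zero]
  -- a vector orthogonal to the plane
  obtain ⟨γ, hγ, hγ0, hγG⟩ : ∃ γ ∈ bperp hb ![C.B h₁, C.B h₂], γ ≠ 0 ∧ (5 ≤ Fintype.card F ∨ β γ γ = 0) := by
    by_cases h5 : 5 ≤ n
    · obtain ⟨γ, hγ, hγ0, hγ1⟩ := exists_iso hb (X := bperp hb ![C.B h₁, C.B h₂])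
        (by have := finrank_bperp_ge hb ![C.B h₁, C.B h₂]; omega)
      exact ⟨γ, hγ, hγ0, Or.inr hγ1⟩
    · obtain ⟨γ, hγ, hγ0⟩ := Submodule.exists_mem_ne_zero_of_ne_bot (p := bperp hb ![C.B h₁, C.B h₂]) (fun e => by
        have := finrank_bperp_ge hb ![C.B h₁, C.B h₂]
        rw [e, finrank_bot] at this
        omega)
      exact ⟨γ, hγ, hγ0, Or.inl (big.resolve_right h5)⟩
  have hγT : ∀ x ∈ T, β x γ = 0 := by
    intro x hx
    rw [hT, Submodule.mem_span_range_iff_exists_fun] at hx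
    obtain ⟨k, rfl⟩ := hx
    have e1 : β γ (C.B h₁) = 0 := (mem_bperp hb).1 hγ 0
    have e2 : β γ (C.B h₂) = 0 := (mem_bperp hb).1 hγ 1
    simp [Fin.sum_univ_two, b_add_left hb, b_smul_left hb, b_comm hb _ γ, e1, e2]
  -- the value
  obtain ⟨E, hE0, hEG, hEG'⟩ : ∃ E : F, E ≠ 0 ∧ E + β γ γ ≠ 0 ∧ E ≠ β γ γ := by
    rcases hγG with h | h
    · obtain ⟨E, -, hE⟩ := Finset.exists_mem_notMem_of_card_lt_card (s := ({0, β γ γ, -β γ γ} : Finset F))
        (t := Finset.univ) (by rw [Finset.card_univ]; exact Finset.card_le_three.trans_lt (by omega))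
      simp only [Finset.mem_insert, Finset.mem_singleton, not_or] at hE
      exact ⟨E, hE.1, fun e => hE.2.2 (eq_neg_of_add_eq_zero_left e), hE.2.1⟩
    · exact ⟨1, one_ne_zero, by rw [h, add_zero]; exact one_ne_zero, by rw [h]; exact one_ne_zero⟩
  obtain ⟨τ, hτT, hτ⟩ : ∃ τ ∈ T, β τ τ = E := by
    obtain ⟨u₁, hu₁, hu₁0⟩ := exists_aniso hb C.two (X := T) (fun e => by
      rw [← hT, e, finrank_bot] at hfin2; omega) hTnd
    obtain ⟨u₂, hu₂, hu₂0, h12'⟩ : ∃ u₂ ∈ T, u₂ ≠ 0 ∧ β u₂ u₁ = 0 := by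
      have h1 := Submodule.finrank_sup_add_finrank_inf_eq T (bperp hb ![u₁])
      have h4 := Submodule.finrank_le (T ⊔ bperp hb ![u₁])
      have h5 := finrank_bperp_ge hb ![u₁]
      rw [Module.finrank_fin_fun] at h4
      rw [← hT] at hfin2
      obtain ⟨u₂, hu₂, hu₂0⟩ := Submodule.exists_mem_ne_zero_of_ne_bot (p := T ⊓ bperp hb ![u₁]) (fun e => by
        rw [e, finrank_bot] at h1; omega)
      exact ⟨u₂, hu₂.1, hu₂0, (mem_bperp hb).1 hu₂.2 0⟩
    have hu₂aniso : β u₂ u₂ ≠ 0 := by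
      intro e
      refine hu₂0 (hTnd u₂ hu₂ fun x hx => ?_)
      have hli2 : LinearIndependent F ![u₁, u₂] := LinearIndependent.pair_iff.2 fun a b hab => by
        have h1 := congrArg (fun z => β z u₁) hab
        simp only [b_add_left hb, b_smul_left hb, b_zero_left hb, h12', mul_zero, add_zero] at h1
        have ha : a = 0 := (mul_eq_zero.1 h1).resolve_right hu₁0
        rw [ha, zero_smul, zero_add] at hab
        exact ⟨ha, (smul_eq_zero.1 hab).resolve_right hu₂0⟩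
      have hle : Submodule.span F (Set.range ![u₁, u₂]) ≤ T := by
        rw [Submodule.span_le]; rintro _ ⟨i, rfl⟩; fin_cases i <;> assumption
      have e' := Submodule.eq_of_le_of_finrank_le hle (by
        rw [finrank_span_eq_card hli2, Fintype.card_fin, hT, hfin2])
      rw [← e', Submodule.mem_span_range_iff_exists_fun] at hx
      obtain ⟨k, rfl⟩ := hx
      simp [Fin.sum_univ_two, b_add_right hb, b_smul_right hb, h12', e]
    have hodd : Fintype.card F % 2 = 1 := FiniteField.odd_card_of_char_ne_two fun h =>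
      C.two (by have := (ringChar.eq_iff.1 h); exact CharTwo.two_eq_zero)
    obtain ⟨x, y, hxy⟩ := FiniteField.exists_root_sum_quadratic
      (f := Polynomial.C (β u₁ u₁) * (Polynomial.X : Polynomial F) ^ 2)
      (g := Polynomial.C (β u₂ u₂) * Polynomial.X ^ 2 - Polynomial.C E) (Polynomial.degree_C_mul_X_pow 2 hu₁0)
      (by
        rw [Polynomial.degree_sub_eq_left_of_degree_lt]
        · exact Polynomial.degree_C_mul_X_pow 2 hu₂aniso
        · rw [Polynomial.degree_C_mul_X_pow 2 hu₂aniso]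
          exact lt_of_le_of_lt Polynomial.degree_C_le (by norm_num)) hodd
    refine ⟨x • u₁ + y • u₂, T.add_mem (T.smul_mem _ hu₁) (T.smul_mem _ hu₂), ?_⟩
    simp only [b_add_left hb, b_add_right hb, b_smul_left hb, b_smul_right hb, b_comm hb u₁ u₂, h12']
    simp only [Polynomial.eval_mul, Polynomial.eval_C, Polynomial.eval_pow, Polynomial.eval_X, Polynomial.eval_sub]
      at hxy
    linear_combination hxy
  obtain ⟨d, hdT, hd0, hdτ⟩ : ∃ d ∈ T, d ≠ 0 ∧ β d τ = 0 := by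
    have h1 := Submodule.finrank_sup_add_finrank_inf_eq T (bperp hb ![τ])
    have h4 := Submodule.finrank_le (T ⊔ bperp hb ![τ])
    have h5 := finrank_bperp_ge hb ![τ]
    rw [Module.finrank_fin_fun] at h4
    rw [← hT] at hfin2
    obtain ⟨d, hd, hd0⟩ := Submodule.exists_mem_ne_zero_of_ne_bot (p := T ⊓ bperp hb ![τ]) (fun e => by
      rw [e, finrank_bot] at h1; omega)
    exact ⟨d, hd.1, hd0, (mem_bperp hb).1 hd.2 0⟩
  have hli2 : LinearIndependent F ![d, τ] := LinearIndependent.pair_iff.2 fun a b hab => by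
    have h1 := congrArg (fun z => β z τ) hab
    simp only [b_add_left hb, b_smul_left hb, b_zero_left hb, hdτ, hτ, mul_zero, zero_add] at h1
    have hb0 : b = 0 := (mul_eq_zero.1 h1).resolve_right hE0
    rw [hb0, zero_smul, add_zero] at hab
    exact ⟨(smul_eq_zero.1 hab).resolve_right hd0, hb0⟩
  have hspan : T ≤ Submodule.span F (Set.range ![d, τ]) :=
    (Submodule.eq_of_le_of_finrank_le (by rw [Submodule.span_le]; rintro _ ⟨i, rfl⟩; fin_cases i <;> assumption)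
      (by rw [finrank_span_eq_card hli2, Fintype.card_fin, hT, hfin2])).ge
  have hdd : β d d ≠ 0 := by
    intro e
    refine hd0 (hTnd d hdT fun x hx => ?_)
    obtain ⟨k, rfl⟩ := (Submodule.mem_span_range_iff_exists_fun F).1 (hspan hx)
    simp [Fin.sum_univ_two, b_add_right hb, b_smul_right hb, e, hdτ]
  -- the graph
  have hcoef : ∀ x ∈ T, ∃ a b : F, a • C.B h₁ + b • C.B h₂ = x := by
    intro x hx
    rw [hT, Submodule.mem_span_range_iff_exists_fun] at hx
    obtain ⟨k, hk⟩ := hx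
    exact ⟨k 0, k 1, by simpa [Fin.sum_univ_two] using hk⟩
  have hcoef' : ∀ x ∈ T, ∃ a b : F, a • d + b • τ = x := by
    intro x hx
    obtain ⟨k, hk⟩ := (Submodule.mem_span_range_iff_exists_fun F).1 (hspan hx)
    exact ⟨k 0, k 1, by simpa [Fin.sum_univ_two] using hk⟩
  obtain ⟨a₁, a₂, hd'⟩ := hcoef d hdT
  obtain ⟨b₁, b₂, hτ'⟩ := hcoef τ hτT
  obtain ⟨hd1, hhd⟩ : ∃ x, x = a₁ • h₁ + a₂ • h₂ := ⟨_, rfl⟩
  obtain ⟨ht1, hht⟩ : ∃ x, x = b₁ • h₁ + b₂ • h₂ := ⟨_, rfl⟩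
  have hBd : C.B hd1 = d := by rw [hhd, map_add, map_smul, map_smul, hd']
  have hBt : C.B ht1 = τ := by rw [hht, map_add, map_smul, map_smul, hτ']
  have hAmem : ∀ a b : F, C.A (a • h₁ + b • h₂) ∈ T := fun a b => by
    rw [map_add, map_smul, map_smul, ← hu, ← hv, hT]
    refine Submodule.add_mem _ (Submodule.smul_mem _ _ ?_) (Submodule.smul_mem _ _ ?_) <;>
      exact Submodule.add_mem _ (Submodule.smul_mem _ _ (Submodule.subset_span ⟨0, rfl⟩))
        (Submodule.smul_mem _ _ (Submodule.subset_span ⟨1, rfl⟩))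
  obtain ⟨p₁, q, hAd⟩ := hcoef' _ (hhd ▸ hAmem a₁ a₂ : C.A hd1 ∈ T)
  obtain ⟨r, p₂, hAt⟩ := hcoef' _ (hht ▸ hAmem b₁ b₂ : C.A ht1 ∈ T)
  obtain ⟨N, hN⟩ : ∃ N, N = f hd1 ht1 := ⟨_, rfl⟩
  have hN' : N = a₁ * b₂ - a₂ * b₁ := by
    rw [hN, hhd, hht]
    simp only [f_add_left C.hf, f_add_right C.hf, f_smul_left C.hf, f_smul_right C.hf, f_self C.hf, h12,
      f_skew C.hf h₂ h₁]
    ring
  have hN0 : N ≠ 0 := by
    intro e
    rw [hN'] at e
    have h1 : b₂ • d - a₂ • τ = 0 := by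
      rw [← hd', ← hτ']
      linear_combination (norm := module) congrArg (fun z => z • C.B h₁) e
    rw [sub_eq_add_neg, ← neg_smul] at h1
    obtain ⟨hb20, ha20⟩ := LinearIndependent.pair_iff.1 hli2 _ _ h1
    have h2' : b₁ • d - a₁ • τ = 0 := by
      rw [← hd', ← hτ']
      linear_combination (norm := module) -congrArg (fun z => z • C.B h₂) e
    rw [sub_eq_add_neg, ← neg_smul] at h2'
    obtain ⟨hb10, ha10⟩ := LinearIndependent.pair_iff.1 hli2 _ _ h2'
    rw [hb10, hb20, zero_smul, zero_smul, add_zero] at hτ'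
    exact hE0 (by rw [← hτ, ← hτ', b_zero_left hb])
  obtain ⟨s₀, hs₀⟩ : ∃ z, z = (p₁ + p₂) / 2 := ⟨_, rfl⟩
  have hs₀2 : s₀ * 2 = p₁ + p₂ := by rw [hs₀, div_mul_cancel₀ _ C.two]
  have h10 : (1 : F) * 1 - s₀ * 0 = 1 := by ring
  obtain ⟨p, hp⟩ : ∃ z, z = p₁ - s₀ := ⟨_, rfl⟩
  have hp2 : p₂ - s₀ = -p := by rw [hp]; linear_combination -hs₀2
  have hA' : ∀ x, (C.rot 1 s₀ 0 1 h10).A x = C.A x - s₀ • C.B x := fun x => by simp [rot]
  have hB' : ∀ x, (C.rot 1 s₀ 0 1 h10).B x = C.B x := fun x => by simp [rot]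
  refine hno (hasPure_rot (h := h10) (hasPure_of_graph (C.rot 1 s₀ 0 1 h10) hn big hs (hd := hd1) (ht := ht1)
    (d := d) (τ := τ) (γ := γ) (p := p) (q := q) (r := r) (D := β d d) (E := E) (G := β γ γ) (N := N)
    rfl hτ rfl hdτ (hγT d hdT) (hγT τ hτT) hdd hE0 hγ0 hEG hEG' hγG ?_ ?_ ?_ ?_ ?_ hN0 ?_ ?_))
  · rw [hB', hBd]
  · rw [hB', hBt]
  · rw [hA', hBd, ← hAd, hp]; module
  · rw [hA', hBt, ← hAt]
    linear_combination (norm := module) congrArg (fun z => z • τ) hp2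
  · rw [hN, C.f_eq, ← hAd, ← hAt, hBd, hBt]
    simp only [b_add_left hb, b_add_right hb, b_smul_left hb, b_smul_right hb, hτ, hdτ, b_comm hb τ d]
    ring
  · intro σ hσ
    obtain ⟨x, y, hxy, hx1, hx2⟩ : ∃ x y : F, ¬ (x = 0 ∧ y = 0) ∧ x * (p - σ) + y * r = 0 ∧
        x * q + y * (-p - σ) = 0 := by
      by_cases hr : r = 0 ∧ σ - p = 0
      · by_cases hq : q = 0 ∧ σ + p = 0
        · exact ⟨1, 0, fun h => one_ne_zero h.1, by linear_combination -hr.2, by rw [hq.1]; ring⟩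
        · exact ⟨σ + p, q, fun h => hq ⟨h.2, h.1⟩, by rw [hr.1]; linear_combination -(σ + p) * hr.2, by ring⟩
      · exact ⟨r, σ - p, fun h => hr h, by ring, by linear_combination -hσ⟩
    refine hnoeig (s₀ + σ) (x * a₁ + y * b₁) (x * a₂ + y * b₂) (fun h => ?_) ?_
    · apply hxy
      have e : x • d + y • τ = 0 := by
        rw [← hd', ← hτ']
        linear_combination (norm := module) congrArg (fun z => z • C.B h₁) h.1 + congrArg (fun z => z • C.B h₂) h.2
      exact LinearIndependent.pair_iff.1 hli2 _ _ e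
    · have e1 : C.A hd1 = (p + s₀) • d + q • τ := by rw [← hAd, hp, sub_add_cancel]
      have e2 : C.A ht1 = r • d + (s₀ - p) • τ := by
        rw [← hAt, show p₂ = s₀ - p by linear_combination hp2]
      have hL : (x * a₁ + y * b₁) • C.A h₁ + (x * a₂ + y * b₂) • C.A h₂ = x • C.A hd1 + y • C.A ht1 := by
        rw [hhd, hht, map_add, map_add, map_smul, map_smul, map_smul, map_smul]; module
      have hR : (x * a₁ + y * b₁) • C.B h₁ + (x * a₂ + y * b₂) • C.B h₂ = x • d + y • τ := by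
        rw [← hd', ← hτ']; module
      rw [hL, hR, e1, e2]
      match_scalars
      · linear_combination hx1
      · linear_combination hx2
  · have hh := isInv_basis C hinv (p := N⁻¹ * a₁) (q := N⁻¹ * a₂) (r := b₁) (t := b₂) (by
      field_simp; rw [hN'])
    rw [hhd, hht]
    convert hh using 1
    · module

end Cfsg.Agent.MaxCl.SpO.Two
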