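/-
The stabiliser of a tensor decomposition `Sp₂ ⊗ O_n` of a symplectic form is maximal in the symplectic group for
`n = 3` with at least five scalars and for `n ≥ 5`, any odd number of scalars.
-/
import Cfsg.Agent.Lib.MaxCl.SympTensorTwoPlanes
import Cfsg.Agent.Lib.MaxCl.SympPairs
import Cfsg.Agent.Lib.MaxCl.TensorPt
import Cfsg.Agent.Lib.MaxCl.OrthTensor

set_option autoImplicit false

namespace Cfsg.Agent.MaxCl.SpO.Two

open scoped MatrixGroups Matrix
open Module (finrank)

variable {ι : Type} [Fintype ι] [DecidableEq ι] {F : Type*} [Field F] [Fintype F] {n : ℕ}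
variable {f : (ι → F) → (ι → F) → F} {β : (Fin n → F) → (Fin n → F) → F} {M : Subgroup (GL ι F)}

omit [Fintype F] in
/-- the orbit of a pure vector under the symplectic plane -/
theorem full_orbit (C : Two f β M) {y : Fin n → F} {p r : F} (hpr : ¬ (p = 0 ∧ r = 0))
    (h : Full C.hf M (p • C.P y + r • C.Q y)) (p' r' : F) : Full C.hf M (p' • C.P y + r' • C.Q y) := by
  by_cases h0 : p' = 0 ∧ r' = 0
  · rw [h0.1, h0.2, zero_smul, zero_smul, add_zero]; exact full_zero C.hf M
  have hone : ∀ a b : F, ¬ (a = 0 ∧ b = 0) → ∃ g ∈ M, act g (C.P y) = a • C.P y + b • C.Q y := by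
    intro a b hab
    obtain ⟨q, s, hqs⟩ : ∃ q s : F, a * s - q * b = 1 := by
      by_cases ha : a = 0
      · exact ⟨-b⁻¹, 0, by rw [ha, neg_mul, inv_mul_cancel₀ fun hb => hab ⟨ha, hb⟩]; ring⟩
      · exact ⟨0, a⁻¹, by rw [mul_inv_cancel₀ ha]; ring⟩
    obtain ⟨g, hg, gP, -⟩ := C.ge a q b s LinearMap.id hqs id_iso
    exact ⟨g, hg, by rw [gP]; simp⟩
  obtain ⟨g, hg, hgy⟩ := hone p r hpr
  obtain ⟨k, hk, hky⟩ := hone p' r' h0
  have h1 := full_conj C.hf (M.inv_mem hg) (C.le (M.inv_mem hg)) h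
  rw [← hgy, act_inv_act] at h1
  have h2 := full_conj C.hf hk (C.le hk) h1
  rwa [hky] at h2

/-- a root group on an isotropic pure vector gives everything -/
theorem iso_le_of_hasPure (C : Two f β M) (hn : 3 ≤ n) (H : HasPure C) : isoGroup f ≤ M := by
  obtain ⟨p, r, w, hpr, hw, hw', hF⟩ := H
  have hb := C.hb
  have h2 := C.two
  have all : ∀ {y : Fin n → F}, Full C.hf M (C.P y) → ∀ a b : F, Full C.hf M (a • C.P y + b • C.Q y) :=
    fun {y} h => full_orbit C (p := 1) (r := 0) (fun e => one_ne_zero e.1) (by simpa using h)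
  have hPw : Full C.hf M (C.P w) := by simpa using full_orbit C hpr hF 1 0
  -- moving along non-orthogonal isotropic vectors
  have step : ∀ {x y : Fin n → F}, β x x = 0 → β y y = 0 → β x y ≠ 0 → Full C.hf M (C.P x) →
      Full C.hf M (C.P y) := by
    intro x y hx hy hxy h
    have hd : β (x - y) (x - y) = -(2 * β x y) := by
      simp only [b_sub_left hb, b_sub_right hb, hx, hy, b_comm hb y x]; ring
    have hd0 : β (x - y) (x - y) ≠ 0 := hd ▸ neg_ne_zero.2 (mul_ne_zero h2 hxy)
    obtain ⟨g, hg, gP, -⟩ := C.exists_right (rho_iso hb hd0)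
    have := full_conj C.hf hg (C.le hg) h
    rw [gP, rho_apply, hd, b_sub_right hb, hx, zero_sub] at this
    convert this using 2
    match_scalars <;> field_simp <;> ring
  have hiso : ∀ x, β x x = 0 → Full C.hf M (C.P x) := by
    intro x hx
    rcases eq_or_ne x 0 with rfl | hx0
    · rw [map_zero]; exact full_zero C.hf M
    by_cases hwx : β w x ≠ 0
    · exact step hw' hx hwx hPw
    push Not at hwx
    obtain ⟨u₁, hu₁, hwu₁⟩ := exists_iso_ne hb h2 hn hw
    by_cases hxu₁ : β x u₁ ≠ 0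
    · exact step hu₁ hx (by rwa [b_comm hb]) (step hw' hu₁ hwu₁ hPw)
    obtain ⟨u₂, hu₂, hxu₂⟩ := exists_iso_ne hb h2 hn hx0
    by_cases hwu₂ : β w u₂ ≠ 0
    · exact step hu₂ hx (by rwa [b_comm hb]) (step hw' hu₂ hwu₂ hPw)
    push Not at hxu₁ hwu₂
    by_cases hu : β u₁ u₂ ≠ 0
    · exact step hu₂ hx (by rwa [b_comm hb]) (step hu₁ hu₂ hu (step hw' hu₁ hwu₁ hPw))
    push Not at hu
    have hs : β (u₁ + u₂) (u₁ + u₂) = 0 := by
      simp only [b_add_left hb, b_add_right hb, hu₁, hu₂, hu, b_comm hb u₂ u₁, add_zero]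
    refine step hs hx ?_ (step hw' hs ?_ hPw)
    · rw [b_comm hb, b_add_right hb, hxu₁, zero_add]; exact hxu₂
    · rw [b_add_right hb, hwu₂, add_zero]; exact hwu₁
  -- all pure vectors
  have hpure : ∀ (y : Fin n → F) (a b : F), Full C.hf M (a • C.P y + b • C.Q y) := by
    intro y
    by_cases hy : β y y = 0
    · exact all (hiso y hy)
    have hy0 : y ≠ 0 := fun e => hy (by rw [e, b_zero_left hb])
    obtain ⟨e, he, hye⟩ := exists_iso_ne hb h2 hn hy0
    obtain ⟨t, ht⟩ : ∃ t, t = β y y / (2 * β y e) := ⟨_, rfl⟩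
    have ht' : t * (2 * β y e) = β y y := by rw [ht, div_mul_cancel₀ _ (mul_ne_zero h2 hye)]
    obtain ⟨d, hd⟩ : ∃ d, d = y - t • e := ⟨_, rfl⟩
    have hdd : β d d = 0 := by
      simp only [hd, b_sub_left hb, b_sub_right hb, b_smul_left hb, b_smul_right hb, he, b_comm hb e y]
      linear_combination -ht'
    have hed : β e d = β y e := by
      rw [hd, b_sub_right hb, b_smul_right hb, he, b_comm hb e y]; ring
    have hv : Full C.hf M (C.P e + (1 : F) • C.Q d) :=
      full_add C.hf (by simpa using all (hiso d hdd) 0 1) (hiso e he) (by rw [C.fPQ, hed]; exact hye) 1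
    have hu : Full C.hf M ((-1 : F) • C.P e + t • C.Q e) := all (hiso e he) (-1) t
    have h3 := full_add C.hf hu hv (by
      simp only [f_add_left C.hf, f_add_right C.hf, f_smul_left C.hf, f_smul_right C.hf, C.fPP, C.fQQ, C.fPQ,
        C.fQP, he, b_comm hb d e, hed]
      simpa using hye) 1
    refine full_orbit C (p := 0) (r := 1) (fun h => one_ne_zero h.2) ?_
    convert h3 using 1
    simp only [hd, map_sub, map_smul]
    module
  refine isoGroup_le_of_full C.hf M fun x => ?_
  rw [← C.dec x]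
  by_cases ha : C.A x = 0
  · simpa [ha] using hpure (C.B x) 0 1
  have hP : ∀ y, Full C.hf M (C.P y) := fun y => by simpa using hpure y 1 0
  have hQ : ∀ y, Full C.hf M (C.Q y) := fun y => by simpa using hpure y 0 1
  have hPQ : ∀ a c, β a c ≠ 0 → Full C.hf M (C.P a + C.Q c) := fun a c hac => by
    simpa using full_add C.hf (hQ c) (hP a) (by rw [C.fPQ]; exact hac) 1
  by_cases hab : β (C.A x) (C.B x) = 0
  swap
  · exact hPQ _ _ hab
  obtain ⟨c, hc⟩ := exists_b_ne hb ha
  have := full_add C.hf (hQ (C.B x - c)) (hPQ _ c hc) (by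
    rw [f_add_left C.hf, C.fPQ, C.fQQ, b_sub_right hb, hab, add_zero, zero_sub]
    exact neg_ne_zero.2 hc) 1
  convert this using 1
  rw [one_smul, map_sub]
  abel

/-- without a root group every element of the overgroup is a tensor -/
theorem exists_tensor (C : Two f β M) (hn : n = 3 ∨ 5 ≤ n) (big : 5 ≤ Fintype.card F ∨ 5 ≤ n)
    (hno : ¬ HasPure C) {g : GL ι F} (hg : g ∈ M) :
    ∃ (a b c d : F) (L : (Fin n → F) →ₗ[F] (Fin n → F)), a * d - b * c ≠ 0 ∧ Function.Injective L ∧
      ∀ y, act g (C.P y) = C.P (a • L y) + C.Q (c • L y) ∧ act g (C.Q y) = C.P (b • L y) + C.Q (d • L y) := by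
  have hb := C.hb
  have hf := C.hf
  have h2 := C.two
  have hgi := C.le hg
  have lines : ∀ v, β v v ≠ 0 → ∃ (a b c d : F) (v' : Fin n → F),
      act g (C.P v) = C.P (a • v') + C.Q (c • v') ∧ act g (C.Q v) = C.P (b • v') + C.Q (d • v') := by
    intro v hv
    obtain ⟨s, hs, hinv⟩ := C.exists_inv_one hv
    have h12 : f (act g (C.P ((β v v)⁻¹ • v))) (act g (C.Q v)) = 1 := by
      rw [mem_isoGroup.1 hgi, C.fPQ, b_smul_left hb, inv_mul_cancel₀ hv]
    obtain ⟨v', hA1, hA2, hB1, hB2⟩ := (plane_cases C hn big (M.mul_mem (M.mul_mem hg hs) (M.inv_mem hg)) h12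
      (isInv_conj hgi hinv)).resolve_left hno
    rw [map_smul, map_smul, map_smul, Submodule.smul_mem_iff _ (inv_ne_zero hv)] at hA1 hB1
    obtain ⟨a, ha⟩ := Submodule.mem_span_singleton.1 hA1
    obtain ⟨b, hb'⟩ := Submodule.mem_span_singleton.1 hA2
    obtain ⟨c, hc⟩ := Submodule.mem_span_singleton.1 hB1
    obtain ⟨d, hd⟩ := Submodule.mem_span_singleton.1 hB2
    exact ⟨a, b, c, d, v', by rw [ha, hc, C.dec], by rw [hb', hd, C.dec]⟩
  obtain ⟨v₀, -, hv₀⟩ := exists_aniso hb h2 (X := (⊤ : Submodule F (Fin n → F))) (fun e => by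
      have := congrArg (fun S : Submodule F (Fin n → F) => finrank F S) e
      simp only [finrank_top, Module.finrank_fin_fun, finrank_bot] at this
      omega) (fun r _ h => by
      by_contra hr
      obtain ⟨y, hy⟩ := exists_b_ne hb hr
      exact hy (h y trivial))
  obtain ⟨a, b, c, d, u₀, hP₀, hQ₀⟩ := lines v₀ hv₀
  let Good : (Fin n → F) → Prop := fun v => ∃ v', act g (C.P v) = C.P (a • v') + C.Q (c • v') ∧
    act g (C.Q v) = C.P (b • v') + C.Q (d • v')
  have hD : a * d - b * c ≠ 0 := by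
    intro e
    have := mem_isoGroup.1 hgi (C.P v₀) (C.Q v₀)
    rw [hP₀, hQ₀] at this
    simp only [f_add_left hf, f_add_right hf, C.fPP, C.fQQ, C.fPQ, C.fQP, b_smul_left hb, b_smul_right hb] at this
    exact hv₀ (by linear_combination -this + β u₀ u₀ * e)
  -- propagation
  have step : ∀ v w, Good v → β w w ≠ 0 → β v w ≠ 0 → Good w := by
    rintro v w ⟨v', hPv, hQv⟩ hw hvw
    obtain ⟨a', b', c', d', w', hPw, hQw⟩ := lines w hw
    have e1 := mem_isoGroup.1 hgi (C.P v) (C.P w)
    have e2 := mem_isoGroup.1 hgi (C.Q v) (C.Q w)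
    have e3 := mem_isoGroup.1 hgi (C.P v) (C.Q w)
    have e4 := mem_isoGroup.1 hgi (C.Q v) (C.P w)
    rw [hPv, hPw] at e1
    rw [hQv, hQw] at e2
    rw [hPv, hQw] at e3
    rw [hQv, hPw] at e4
    simp only [f_add_left hf, f_add_right hf, C.fPP, C.fQQ, C.fPQ, C.fQP, b_smul_left hb, b_smul_right hb,
      b_comm hb w' v', b_comm hb w v] at e1 e2 e3 e4
    have hv'w' : β v' w' ≠ 0 := fun e => hvw (by linear_combination -e3 + (a * d' - c * b') * e)
    have r1 : a * c' = c * a' := mul_right_cancel₀ hv'w' (by linear_combination e1)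
    have r2 : b * d' = d * b' := mul_right_cancel₀ hv'w' (by linear_combination e2)
    have r3 : a * d' + b * c' = d * a' + c * b' := mul_right_cancel₀ hv'w' (by linear_combination e3 + e4)
    obtain ⟨k, hk⟩ : ∃ k, k = (a * d' - c * b') / (a * d - b * c) := ⟨_, rfl⟩
    have hk' : k * (a * d - b * c) = a * d' - c * b' := by rw [hk, div_mul_cancel₀ _ hD]
    have ea : a' = k * a := mul_right_cancel₀ hD (by linear_combination -a * hk' + b * r1 - a * r3)
    have ec : c' = k * c := mul_right_cancel₀ hD (by linear_combination -c * hk' + d * r1 - c * r3)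
    have eb : b' = k * b := mul_right_cancel₀ hD (by linear_combination -b * hk' - a * r2)
    have ed : d' = k * d := mul_right_cancel₀ hD (by linear_combination -d * hk' - c * r2)
    exact ⟨k • w', by rw [hPw, ea, ec, smul_smul, smul_smul, mul_comm k a, mul_comm k c],
      by rw [hQw, eb, ed, smul_smul, smul_smul, mul_comm k b, mul_comm k d]⟩
  have good₀ : Good v₀ := ⟨u₀, hP₀, hQ₀⟩
  have good : ∀ v, β v v ≠ 0 → Good v := by
    intro v hv
    by_cases h0 : β v₀ v ≠ 0
    · exact step v₀ v good₀ hv h0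
    push Not at h0
    obtain ⟨u, huu, hu0, huv⟩ : ∃ u, β u u ≠ 0 ∧ β v₀ u ≠ 0 ∧ β u v ≠ 0 := by
      by_cases hs : β (v₀ + v) (v₀ + v) ≠ 0
      · exact ⟨v₀ + v, hs, by rw [b_add_right hb, h0, add_zero]; exact hv₀,
          by rw [b_add_left hb, h0, zero_add]; exact hv⟩
      push Not at hs
      obtain ⟨t, htm, ht⟩ := exists_aniso hb h2 (X := bperp hb ![v₀, v]) (fun e => by
        have := finrank_bperp_ge hb ![v₀, v]
        rw [e, finrank_bot] at this
        omega) (bperp_two_nondeg hb hv₀ hv h0)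
      have ht0 : β t v₀ = 0 := (mem_bperp hb).1 htm 0
      have htv : β t v = 0 := (mem_bperp hb).1 htm 1
      have hst : β (v₀ + v) t = 0 := by rw [b_comm hb, b_add_right hb, ht0, htv, add_zero]
      refine ⟨v₀ + v + t, ?_, ?_, ?_⟩
      · rw [b_add_left hb, b_add_right hb (v₀ + v), b_add_right hb t (v₀ + v), hs, hst, b_comm hb t (v₀ + v), hst,
          zero_add, zero_add, zero_add]
        exact ht
      · rw [b_add_right hb, b_add_right hb, h0, b_comm hb v₀ t, ht0, add_zero, add_zero]; exact hv₀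
      · rw [b_add_left hb, b_add_left hb, h0, htv, zero_add, add_zero]; exact hv
    exact step u v (step v₀ u good₀ huu hu0) hv huv
  obtain ⟨L, hL⟩ : ∃ L : (Fin n → F) →ₗ[F] (Fin n → F),
      L = (a * d - b * c)⁻¹ • (d • (C.A ∘ₗ act g ∘ₗ C.P) - c • (C.A ∘ₗ act g ∘ₗ C.Q)) := ⟨_, rfl⟩
  have hS : ∀ y, act g (C.P y) = C.P (a • L y) + C.Q (c • L y) ∧ act g (C.Q y) = C.P (b • L y) + C.Q (d • L y) := by
    intro y
    have hmem := le_of_aniso hb h2 (X := (⊤ : Submodule F (Fin n → F)))
      (S := LinearMap.ker (act g ∘ₗ C.P - (a • (C.P ∘ₗ L) + c • (C.Q ∘ₗ L))) ⊓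
        LinearMap.ker (act g ∘ₗ C.Q - (b • (C.P ∘ₗ L) + d • (C.Q ∘ₗ L))))
      (fun v _ hv => by
        obtain ⟨v', hP, hQ⟩ := good v hv
        have eL : L v = v' := by
          rw [hL]
          simp only [LinearMap.smul_apply, LinearMap.sub_apply, LinearMap.comp_apply, hP, hQ, map_add, C.AP, C.AQ,
            add_zero, smul_smul, ← sub_smul]
          rw [mul_comm d a, mul_comm c b, inv_mul_cancel₀ hD, one_smul]
        simp only [Submodule.mem_inf, LinearMap.mem_ker, LinearMap.sub_apply, LinearMap.comp_apply,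
          LinearMap.add_apply, LinearMap.smul_apply, eL, hP, hQ, map_smul, sub_self, and_self])
      (fun h => hv₀ (h v₀ trivial v₀ trivial)) (Submodule.mem_top (x := y))
    simpa only [Submodule.mem_inf, LinearMap.mem_ker, LinearMap.sub_apply, LinearMap.comp_apply,
      LinearMap.add_apply, LinearMap.smul_apply, sub_eq_zero, map_smul] using hmem
  refine ⟨a, b, c, d, L, hD, ?_, hS⟩
  rw [← LinearMap.ker_eq_bot, Submodule.eq_bot_iff]
  intro y hy
  rw [LinearMap.mem_ker] at hy
  have h : act g (C.P y) = act g 0 := by rw [(hS y).1, hy, map_zero]; simp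
  rw [← C.AP y, act_injective g h, map_zero]

end Cfsg.Agent.MaxCl.SpO.Two

namespace Cfsg.Agent.MaxCl

open scoped MatrixGroups Matrix Kronecker
open Module (finrank)

/-- The stabiliser of a tensor decomposition into a symplectic plane and an orthogonal space is maximal. -/
theorem sp_tensor_two_maximal {F : Type*} [Field F] [Fintype F] (m n : ℕ) (hn : n = 3 ∨ 5 ≤ n)
    (big : 5 ≤ Fintype.card F ∨ 5 ≤ n) (hodd : Odd (Fintype.card F))
    (e : (Fin m ⊕ Fin m) ≃ Fin 2 × Fin n) (P : GL (Fin m ⊕ Fin m) F)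
    (f₁ : (Fin 2 → F) → (Fin 2 → F) → F) (f₂ : (Fin n → F) → (Fin n → F) → F)
    (h₁ : Cfsg.Geo.IsSymplecticForm f₁) (h₂ : Cfsg.Geo.IsSymmetricForm f₂)
    (hP : Cfsg.Geo.IsTensorFormStructure id (Cfsg.sympForm m F) f₁ f₂ e P) :
    Cfsg.Geo.IsMaximalIn (Cfsg.spGL m F) (Cfsg.Geo.tensorProductSubgroup 2 n e P ⊓ Cfsg.spGL m F) := by
  classical
  have hf := sympForm_isSymplectic m F
  have h2 : (2 : F) ≠ 0 := by
    intro h
    have hF2 : ringChar F = 2 := ringChar.eq_iff.2 (CharTwo.of_one_ne_zero_of_two_eq_zero one_ne_zero h)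
    have := FiniteField.even_card_of_char_two hF2
    have := Nat.odd_iff.1 hodd
    omega
  obtain ⟨κ, hκ, hform⟩ := hP
  let T : Tens.TSys (Fin m ⊕ Fin m) F 2 n := ⟨e, P⟩
  let β : (Fin n → F) → (Fin n → F) → F := fun y y' => κ * f₂ y y'
  have hfp : ∀ x x' y y', Cfsg.sympForm m F (Tens.pt T x y) (Tens.pt T x' y') = f₁ x x' * β y y' := by
    intro x x' y y'
    have h := hform (Orth.pure2 x y) (Orth.pure2 x' y')
    rw [Orth.formOfGram_pure2 h₁.bilinear h₂.bilinear, ← act_apply, ← act_apply] at h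
    exact h.trans (mul_left_comm _ _ _)
  have hβ : Cfsg.Geo.IsSymmetricForm β := by
    refine ⟨⟨fun x y v => ?_, fun k x v => ?_, fun v x y => ?_, fun k v x => ?_⟩, fun x y => ?_, fun v hv => ?_⟩
    · simp only [β, h₂.bilinear.add_left, mul_add]
    · simp only [β, h₂.bilinear.smul_left]; ring
    · simp only [β, h₂.bilinear.add_right, mul_add]
    · simp only [β, h₂.bilinear.smul_right]; ring
    · simp only [β, h₂.symm x y]
    · obtain ⟨⟨x, hx⟩, ⟨y, hy⟩⟩ := h₂.nondegenerate v hv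
      exact ⟨⟨x, mul_ne_zero hκ hx⟩, ⟨y, mul_ne_zero hκ hy⟩⟩
  obtain ⟨u, hu0⟩ : ∃ u : Fin 2 → F, u ≠ 0 := ⟨1, one_ne_zero⟩
  obtain ⟨u', huu'⟩ := SP.exists_one h₁ hu0
  have hu'u : f₁ u' u = -1 := by rw [f_skew h₁, huu']
  have huu : f₁ u u = 0 := f_self h₁ u
  have hu'u' : f₁ u' u' = 0 := f_self h₁ u'
  let φ : (Fin 2 → F) →ₗ[F] F := flin h₁.bilinear u'
  let ψ : (Fin 2 → F) →ₗ[F] F := -flin h₁.bilinear u
  have φu : φ u = 1 := huu'
  have φu' : φ u' = 0 := hu'u'
  have ψu : ψ u = 0 := by simp [ψ, flin_apply, huu]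
  have ψu' : ψ u' = 1 := by simp [ψ, flin_apply, hu'u]
  have hli : LinearIndependent F ![u, u'] := LinearIndependent.pair_iff.2 fun a b hab => by
    have e1 := congrArg φ hab
    have e2 := congrArg ψ hab
    simp only [map_add, map_smul, map_zero, φu, φu', ψu, ψu', smul_eq_mul, mul_one, mul_zero, add_zero,
      zero_add] at e1 e2
    exact ⟨e1, e2⟩
  have hdec : ∀ x, φ x • u + ψ x • u' = x := by
    intro x
    have htop : Submodule.span F (Set.range ![u, u']) = ⊤ :=
      Submodule.eq_top_of_finrank_eq (by rw [finrank_span_eq_card hli, Fintype.card_fin, Module.finrank_fin_fun])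
    obtain ⟨k, rfl⟩ := (Submodule.mem_span_range_iff_exists_fun F).1 (htop.ge (Submodule.mem_top (x := x)))
    simp [Fin.sum_univ_two, φu, φu', ψu, ψu']
  have hdecT : ∀ x, Tens.pt T u (Tens.cL T φ x) + Tens.pt T u' (Tens.cL T ψ x) = x := by
    intro x
    refine LinearMap.congr_fun (Tens.pt_ext T (L := Tens.ptR T u ∘ₗ Tens.cL T φ + Tens.ptR T u' ∘ₗ Tens.cL T ψ)
      (L' := LinearMap.id) fun a y => ?_) x
    simp only [LinearMap.add_apply, LinearMap.comp_apply, Tens.ptR_apply, Tens.cL_pt, LinearMap.id_apply,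
      Tens.pt_smul_right, ← Tens.pt_smul_left, ← Tens.pt_add_left, hdec]
  -- elements of the stabiliser
  have hgl : ∀ (a b c d : F) (L : (Fin n → F) →ₗ[F] (Fin n → F)), a * d - b * c ≠ 0 → Function.Injective L →
      ∃ g ∈ Cfsg.Geo.tensorProductSubgroup 2 n e P,
        (∀ y, act g (Tens.pt T u y) = Tens.pt T u (a • L y) + Tens.pt T u' (c • L y)) ∧
        ∀ y, act g (Tens.pt T u' y) = Tens.pt T u (b • L y) + Tens.pt T u' (d • L y) := by
    intro a b c d L hD hL
    let A : (Fin 2 → F) →ₗ[F] (Fin 2 → F) :=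
      φ.smulRight (a • u + c • u') + ψ.smulRight (b • u + d • u')
    obtain ⟨α, hα⟩ := exists_gl_of_injective A (by
      rw [← LinearMap.ker_eq_bot, Submodule.eq_bot_iff]
      intro x hx
      rw [LinearMap.mem_ker] at hx
      have e1 := congrArg φ hx
      have e2 := congrArg ψ hx
      simp only [A, LinearMap.add_apply, LinearMap.smulRight_apply, map_add, map_smul, map_zero, φu, φu', ψu, ψu',
        smul_eq_mul, mul_one, mul_zero, add_zero, zero_add] at e1 e2
      rw [← hdec x, (mul_eq_zero.1 (by linear_combination d * e1 - b * e2 : φ x * (a * d - b * c) = 0)).resolve_right hD,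
        (mul_eq_zero.1 (by linear_combination a * e2 - c * e1 : ψ x * (a * d - b * c) = 0)).resolve_right hD]
      simp)
    obtain ⟨η, hη⟩ := exists_gl_of_injective L hL
    refine ⟨Tens.gl T α η, Tens.gl_mem T α η, fun y => ?_, fun y => ?_⟩
    · rw [Tens.act_gl_pt, hα, hη]
      simp [A, φu, ψu, Tens.pt_add_left, Tens.pt_smul_left, Tens.pt_smul_right]
    · rw [Tens.act_gl_pt, hα, hη]
      simp [A, φu', ψu', Tens.pt_add_left, Tens.pt_smul_left, Tens.pt_smul_right]
  -- strictness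
  have hlt : Cfsg.Geo.tensorProductSubgroup 2 n e P ⊓ Cfsg.spGL m F < Cfsg.spGL m F := by
    refine lt_of_le_of_ne inf_le_right fun heq => ?_
    obtain ⟨v, -, hv⟩ := SpO.exists_aniso hβ h2 (X := (⊤ : Submodule F (Fin n → F))) (fun e => by
        have := congrArg (fun S : Submodule F (Fin n → F) => finrank F S) e
        simp only [finrank_top, Module.finrank_fin_fun, finrank_bot] at this
        omega) (fun r _ h => by
        by_contra hr
        obtain ⟨y, hy⟩ := SpO.exists_b_ne hβ hr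
        exact hy (h y trivial))
    obtain ⟨t, htm, ht0⟩ := Submodule.exists_mem_ne_zero_of_ne_bot (p := SpO.bperp hβ ![v]) (fun e => by
      have := SpO.finrank_bperp_ge hβ ![v]
      rw [e, finrank_bot] at this
      omega)
    have htv : β t v = 0 := (SpO.mem_bperp hβ).1 htm 0
    have hmem : stv hf (Tens.pt T u v) 1 ∈ Cfsg.Geo.tensorProductSubgroup 2 n e P :=
      (Subgroup.mem_inf.1 (heq.ge (stv_mem hf (Tens.pt T u v) 1))).1
    obtain ⟨α, η, hαη⟩ := Tens.exists_of_mem T hmem
    have hx := congrArg (fun g => act g (Tens.pt T u' (v + t))) hαη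
    simp only [act_stv hf, Tens.act_gl_pt, hfp, hu'u, one_mul] at hx
    rw [← Tens.pt_smul_left] at hx
    have hk : -1 * β (v + t) v ≠ 0 := by
      rw [SpO.b_add_left hβ, htv, add_zero]; exact mul_ne_zero (neg_ne_zero.2 one_ne_zero) hv
    have hv' := Tens.share T hx (fun e => hk (by rw [e, SpO.b_zero_left hβ, mul_zero]))
      (fun e => one_ne_zero (α := F) (by rw [← ψu', e, map_zero])) ?_
    · obtain ⟨l, hl⟩ := Submodule.mem_span_singleton.1 hv'
      have e1 := congrArg (fun z => β z v) hl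
      simp only [SpO.b_smul_left hβ, SpO.b_add_left hβ, htv, add_zero] at e1
      have hl1 : l = 1 := mul_right_cancel₀ hv (by rw [e1, one_mul])
      rw [hl1, one_smul, add_eq_left] at hl
      exact ht0 hl
    · intro hmem'
      rw [Submodule.smul_mem_iff _ hk] at hmem'
      obtain ⟨l, hl⟩ := Submodule.mem_span_singleton.1 hmem'
      have := congrArg φ hl
      rw [map_smul, φu, φu', smul_zero] at this
      exact zero_ne_one this
  refine ⟨hlt, fun M hHM hM => ?_⟩
  -- the coordinates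
  let C : SpO.Two (Cfsg.sympForm m F) β M :=
    { P := Tens.ptR T u
      Q := Tens.ptR T u'
      A := Tens.cL T φ
      B := Tens.cL T ψ
      AP := fun a => by rw [Tens.ptR_apply, Tens.cL_pt, φu, one_smul]
      AQ := fun a => by rw [Tens.ptR_apply, Tens.cL_pt, φu', zero_smul]
      BP := fun a => by rw [Tens.ptR_apply, Tens.cL_pt, ψu, zero_smul]
      BQ := fun a => by rw [Tens.ptR_apply, Tens.cL_pt, ψu', one_smul]
      dec := hdecT
      hf := hf
      hb := hβ
      two := h2
      fPP := fun a b => by rw [Tens.ptR_apply, Tens.ptR_apply, hfp, huu, zero_mul]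
      fQQ := fun a b => by rw [Tens.ptR_apply, Tens.ptR_apply, hfp, hu'u', zero_mul]
      fPQ := fun a b => by rw [Tens.ptR_apply, Tens.ptR_apply, hfp, huu', one_mul]
      le := hM
      ge := fun p q r s h hdet hiso => by
        have hinj : Function.Injective h := fun x y hxy => by
          by_contra hne
          obtain ⟨z, hz⟩ := SpO.exists_b_ne hβ (sub_ne_zero.2 hne)
          exact hz (by rw [← hiso, map_sub, hxy, sub_self, SpO.b_zero_left hβ])
        obtain ⟨g, hg, gP, gQ⟩ := hgl p q r s h (by rw [hdet]; exact one_ne_zero) hinj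
        refine ⟨g, hHM (Subgroup.mem_inf.2 ⟨hg, mem_isoGroup.2 fun x y => ?_⟩), gP, gQ⟩
        conv_lhs => rw [← hdecT x, ← hdecT y]
        conv_rhs => rw [← hdecT x, ← hdecT y]
        simp only [map_add, gP, gQ, f_add_left hf, f_add_right hf, hfp, huu, hu'u', huu', hu'u,
          SpO.b_smul_left hβ, SpO.b_smul_right hβ, hiso]
        linear_combination (β (Tens.cL T φ x) (Tens.cL T ψ y) - β (Tens.cL T ψ x) (Tens.cL T φ y)) * hdet }
  by_cases hpure : SpO.Two.HasPure C
  · exact Or.inr (le_antisymm hM (SpO.Two.iso_le_of_hasPure C (by omega) hpure))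
  refine Or.inl (le_antisymm (fun g hg => Subgroup.mem_inf.2 ⟨?_, hM hg⟩) hHM)
  obtain ⟨a, b, c, d, L, hD, hL, hgL⟩ := SpO.Two.exists_tensor C hn big hpure hg
  obtain ⟨g', hg', gP, gQ⟩ := hgl a b c d L hD hL
  have : g = g' := gl_ext fun x => by
    rw [← hdecT x, map_add, map_add, gP, gQ]
    exact congrArg₂ (· + ·) (hgL _).1 (hgL _).2
  rw [this]; exact hg'

end Cfsg.Agent.MaxCl
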