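/-
A quadratic extension field acting on a symplectic space by anti-self-adjoint generators (a unitary structure):
unitary root elements, and a symplectic transvection in an overgroup spreads to the whole symplectic group.
-/
import Cfsg.Agent.Lib.MaxCl.OrthUnitary
import Cfsg.Agent.Lib.MaxCl.SympStab
import Cfsg.Agent.Lib.MaxCl.SympSwap

set_option autoImplicit false

namespace Cfsg.Agent.MaxCl.SpU

open scoped MatrixGroups Matrix
open Module (finrank)

variable {ι : Type} [Fintype ι] [DecidableEq ι] {F : Type*} [Field F]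
variable {f : (ι → F) → (ι → F) → F} {J : (ι → F) →ₗ[F] (ι → F)} {δ : F}

/-- an anti-self-adjoint map whose square is a non-square scalar -/
structure IsAntiStr (f : (ι → F) → (ι → F) → F) (J : (ι → F) →ₗ[F] (ι → F)) (δ : F) : Prop where
  adj : ∀ x y, f (J x) y = -f x (J y)
  sq : ∀ x, J (J x) = δ • x
  nsq : ∀ a : F, a * a ≠ δ
  two : (2 : F) ≠ 0

/-- the quadratic form `x ↦ f (J x) x` -/
noncomputable def hq (hf : Cfsg.Geo.IsSymplecticForm f) (J : (ι → F) →ₗ[F] (ι → F)) :
    QuadraticForm F (ι → F) :=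
  LinearMap.BilinMap.toQuadraticMap (LinearMap.comp (toBil hf.bilinear) J)

/-- the line of a vector -/
def jl (J : (ι → F) →ₗ[F] (ι → F)) (u : ι → F) : Submodule F (ι → F) :=
  Submodule.span F (Set.range ![u, J u])

theorem mem_jl {u x : ι → F} : x ∈ jl J u ↔ ∃ a b : F, a • u + b • J u = x := Orth.mem_span_pair_iff_range

theorem self_mem_jl (u : ι → F) : u ∈ jl J u := Submodule.subset_span ⟨0, rfl⟩

theorem map_mem_jl (u : ι → F) : J u ∈ jl J u := Submodule.subset_span ⟨1, rfl⟩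

theorem finrank_jl_le (u : ι → F) : finrank F (jl J u) ≤ 2 := (finrank_range_le_card _).trans_eq (Fintype.card_fin 2)

theorem jl_le {W : Submodule F (ι → F)} (hW : ∀ x ∈ W, J x ∈ W) {u : ι → F} (hu : u ∈ W) : jl J u ≤ W := by
  intro x hx
  obtain ⟨a, b, rfl⟩ := mem_jl.1 hx
  exact W.add_mem (W.smul_mem _ hu) (W.smul_mem _ (hW u hu))

variable (hf : Cfsg.Geo.IsSymplecticForm f) (hJ : IsAntiStr f J δ)
include hf

theorem f_neg_left (x y : ι → F) : f (-x) y = -f x y := by
  rw [← neg_one_smul F x, f_smul_left hf, neg_one_mul]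

theorem f_neg_right (x y : ι → F) : f x (-y) = -f x y := by
  rw [← neg_one_smul F y, f_smul_right hf, neg_one_mul]

theorem hq_apply (x : ι → F) : hq hf J x = f (J x) x := by
  rw [hq, LinearMap.BilinMap.toQuadraticMap_apply]; rfl

include hJ

omit hf in
theorem delta_ne : δ ≠ 0 := fun e => hJ.nsq 0 (by rw [e, mul_zero])

theorem f_map_comm (x y : ι → F) : f (J x) y = f (J y) x := by
  rw [hJ.adj, f_skew hf, neg_neg]

theorem f_map_map (x y : ι → F) : f (J x) (J y) = -δ * f x y := by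
  rw [hJ.adj, hJ.sq, f_smul_right hf, neg_mul]

theorem f_map_right (x : ι → F) : f x (J x) = -f (J x) x := f_skew hf _ _

theorem polar_hq (x y : ι → F) : QuadraticMap.polar (⇑(hq hf J)) x y = 2 * f (J x) y := by
  rw [hq, LinearMap.BilinMap.polar_toQuadraticMap]
  show f (J x) y + f (J y) x = _
  rw [f_map_comm hf hJ y x]; ring

theorem polar_eq_zero {x y : ι → F} : QuadraticMap.polar (⇑(hq hf J)) x y = 0 ↔ f (J x) y = 0 := by
  rw [polar_hq hf hJ, mul_eq_zero, or_iff_right hJ.two]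

theorem nondeg_hq : (QuadraticMap.polarBilin (hq hf J)).Nondegenerate := by
  have key : ∀ x, (∀ y, f (J x) y = 0) → x = 0 := by
    intro x h
    by_contra hx
    have hJx : J x ≠ 0 := fun e => hx (by
      have := hJ.sq x
      rw [e, map_zero] at this
      exact (smul_eq_zero.1 this.symm).resolve_left (delta_ne hJ))
    obtain ⟨y, hy⟩ := (hf.nondegenerate _ hJx).2
    exact hy (h y)
  refine ⟨fun x hx => key x fun y => (polar_eq_zero hf hJ).1 (hx y), fun x hx => key x fun y => ?_⟩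
  rw [f_map_comm hf hJ]
  exact (polar_eq_zero hf hJ).1 (hx y)

theorem hq_map (x : ι → F) : hq hf J (J x) = -δ * hq hf J x := by
  rw [hq_apply, hq_apply, hJ.sq, f_smul_left hf, f_map_right hf hJ]; ring

theorem hq_comb (x : ι → F) (a b : F) : hq hf J (a • x + b • J x) = (a * a - δ * (b * b)) * hq hf J x := by
  simp only [hq_apply hf, map_add, map_smul, hJ.sq, f_add_left hf, f_add_right hf, f_smul_left hf, f_smul_right hf,
    f_self hf, f_map_right hf hJ]
  ring

omit hf in
theorem norm_ne {a b : F} (h : ¬ (a = 0 ∧ b = 0)) : a * a - δ * (b * b) ≠ 0 := by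
  intro e
  rcases eq_or_ne b 0 with rfl | hb
  · exact h ⟨mul_self_eq_zero.1 (by linear_combination e), rfl⟩
  · exact hJ.nsq (a / b) (by field_simp; linear_combination e)

omit hf in
theorem mem_of_comb {W : Submodule F (ι → F)} (hW : ∀ x ∈ W, J x ∈ W) {y : ι → F} {a b : F}
    (h : a • y + b • J y ∈ W) (hab : ¬ (a = 0 ∧ b = 0)) : y ∈ W := by
  have h1 := W.sub_mem (W.smul_mem a h) (W.smul_mem b (hW _ h))
  rw [show a • (a • y + b • J y) - b • J (a • y + b • J y) = (a * a - δ * (b * b)) • y by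
    rw [map_add, map_smul, map_smul, hJ.sq]; module] at h1
  exact (W.smul_mem_iff (norm_ne hJ hab)).1 h1

omit hf in
theorem comb_eq_zero {y : ι → F} {a b : F} (h : a • y + b • J y = 0) (hy : y ≠ 0) : a = 0 ∧ b = 0 := by
  by_contra hab
  exact hy ((Submodule.mem_bot F).1 (mem_of_comb hJ (W := ⊥) (fun x hx => by
    rw [(Submodule.mem_bot F).1 hx, map_zero]; exact zero_mem _) (by rw [h]; exact zero_mem _) hab))

omit hf in
theorem jl_stable (u : ι → F) : ∀ x ∈ jl J u, J x ∈ jl J u := by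
  intro x hx
  obtain ⟨a, b, rfl⟩ := mem_jl.1 hx
  rw [map_add, map_smul, map_smul, hJ.sq]
  exact (jl J u).add_mem ((jl J u).smul_mem _ (map_mem_jl u))
    ((jl J u).smul_mem _ ((jl J u).smul_mem _ (self_mem_jl u)))

omit hf hJ in
theorem sup_stable {A B : Submodule F (ι → F)} (hA : ∀ x ∈ A, J x ∈ A) (hB : ∀ x ∈ B, J x ∈ B) :
    ∀ x ∈ A ⊔ B, J x ∈ A ⊔ B := by
  intro x hx
  obtain ⟨a, ha, b, hb, rfl⟩ := Submodule.mem_sup.1 hx
  rw [map_add]
  exact Submodule.add_mem_sup (hA a ha) (hB b hb)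

omit hf hJ in
theorem inf_stable {A B : Submodule F (ι → F)} (hA : ∀ x ∈ A, J x ∈ A) (hB : ∀ x ∈ B, J x ∈ B) :
    ∀ x ∈ A ⊓ B, J x ∈ A ⊓ B := fun x hx => ⟨hA x hx.1, hB x hx.2⟩

theorem perp_stable {W : Submodule F (ι → F)} (hW : ∀ x ∈ W, J x ∈ W) :
    ∀ x ∈ MaxCl.perp hf W, J x ∈ MaxCl.perp hf W := by
  intro x hx
  rw [MaxCl.mem_perp hf] at hx ⊢
  intro w hw
  rw [hJ.adj, hx _ (hW w hw), neg_zero]

/-- for a stable subspace the two kinds of orthogonality agree -/
theorem mem_qperp_iff {W : Submodule F (ι → F)} (hW : ∀ x ∈ W, J x ∈ W) {x : ι → F} :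
    x ∈ Orth.perp (hq hf J) W ↔ x ∈ MaxCl.perp hf W := by
  rw [Orth.mem_perp, MaxCl.mem_perp hf]
  constructor
  · intro h w hw
    have := (polar_eq_zero hf hJ).1 (h (J w) (hW w hw))
    rw [hJ.sq, f_smul_left hf, mul_eq_zero, or_iff_right (delta_ne hJ)] at this
    exact f_eq_zero_symm hf this
  · intro h w hw
    rw [polar_eq_zero hf hJ]
    exact f_eq_zero_symm hf (h _ (hW w hw))

omit hf in
/-- a stable subspace has even dimension -/
theorem even_finrank {W : Submodule F (ι → F)} (hW : ∀ x ∈ W, J x ∈ W) : Even (finrank F W) := by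
  rcases Nat.even_or_odd (finrank F W) with h | ⟨k, hk⟩
  · exact h
  exfalso
  have e : (J.restrict hW).comp (J.restrict hW) = δ • (LinearMap.id : W →ₗ[F] W) := by
    apply LinearMap.ext; intro x; apply Subtype.ext
    simpa using hJ.sq x
  have h1 := congrArg LinearMap.det e
  rw [LinearMap.det_comp, LinearMap.det_smul, LinearMap.det_id, mul_one, hk] at h1
  apply hJ.nsq (LinearMap.det (J.restrict hW) / δ ^ k)
  have := delta_ne hJ
  field_simp
  linear_combination h1

theorem f_eq_zero_on_line {u : ι → F} (hu : hq hf J u = 0) {x y : ι → F} (hx : x ∈ jl J u) (hy : y ∈ jl J u) :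
    f x y = 0 := by
  obtain ⟨a, b, rfl⟩ := mem_jl.1 hx
  obtain ⟨c, d, rfl⟩ := mem_jl.1 hy
  rw [hq_apply] at hu
  simp only [f_add_left hf, f_add_right hf, f_smul_left hf, f_smul_right hf, f_self hf, f_map_right hf hJ u, hu,
    mul_zero, neg_zero, add_zero]

/-! ### Root elements -/

omit hJ in
/-- `x ↦ c (δ f(x,a) a - f(x,Ja) Ja)` -/
noncomputable def yN (hf : Cfsg.Geo.IsSymplecticForm f) (J : (ι → F) →ₗ[F] (ι → F)) (δ : F) (a : ι → F) (c : F) :
    (ι → F) →ₗ[F] (ι → F) :=
  (δ * c) • (flin hf.bilinear a).smulRight a - c • (flin hf.bilinear (J a)).smulRight (J a)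

omit hJ in
theorem yN_apply (a : ι → F) (c : F) (x : ι → F) :
    yN hf J δ a c x = (δ * c * f x a) • a - (c * f x (J a)) • J a := by
  simp [yN, flin_apply, smul_smul]

omit hJ in
/-- the unitary root element -/
noncomputable def yv (hf : Cfsg.Geo.IsSymplecticForm f) (J : (ι → F) →ₗ[F] (ι → F)) (δ : F) (a : ι → F) (c : F) :
    GL ι F :=
  stv hf a (δ * c) * stv hf (J a) (-c)

omit hJ in
theorem yv_mem_iso (a : ι → F) (c : F) : yv hf J δ a c ∈ isoGroup f :=
  mul_mem (stv_mem hf _ _) (stv_mem hf _ _)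

omit hJ in
theorem act_yv {a : ι → F} (ha : hq hf J a = 0) (c : F) (x : ι → F) :
    act (yv hf J δ a c) x = x + yN hf J δ a c x := by
  rw [hq_apply] at ha
  rw [yN_apply, yv, act_mul, act_stv hf, act_stv hf, f_add_left hf, f_smul_left hf, ha]
  module

theorem yN_comm (a : ι → F) (c : F) (x : ι → F) : yN hf J δ a c (J x) = J (yN hf J δ a c x) := by
  rw [yN_apply, yN_apply, map_sub, map_smul, map_smul, hJ.sq, f_map_map hf hJ, hJ.adj]
  module

theorem yN_adj (a : ι → F) (c : F) (x y : ι → F) : f (yN hf J δ a c x) y = -f x (yN hf J δ a c y) := by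
  simp only [yN_apply hf, f_sub_left hf, f_sub_right hf, f_smul_left hf, f_smul_right hf, f_skew hf a y,
    f_skew hf (J a) y]
  ring

omit hJ in
theorem yN_mem (a : ι → F) (c : F) (x : ι → F) : yN hf J δ a c x ∈ jl J a := by
  rw [yN_apply]
  exact Submodule.sub_mem _ (Submodule.smul_mem _ _ (self_mem_jl a)) (Submodule.smul_mem _ _ (map_mem_jl a))

theorem yN_eq_zero_iff {a : ι → F} (ha : a ≠ 0) {c : F} (hc : c ≠ 0) {x : ι → F} :
    yN hf J δ a c x = 0 ↔ f x a = 0 ∧ f x (J a) = 0 := by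
  constructor
  · intro h
    rw [yN_apply, sub_eq_add_neg, ← neg_smul] at h
    obtain ⟨h1, h2⟩ := comb_eq_zero hJ h ha
    exact ⟨(mul_eq_zero.1 h1).resolve_left (mul_ne_zero (delta_ne hJ) hc),
      (mul_eq_zero.1 (neg_eq_zero.1 h2)).resolve_left hc⟩
  · rintro ⟨h1, h2⟩; rw [yN_apply, h1, h2]; simp

theorem map_yv {a : ι → F} (ha : hq hf J a = 0) (c : F) (x : ι → F) :
    act (yv hf J δ a c) (J x) = J (act (yv hf J δ a c) x) := by
  rw [act_yv hf ha, act_yv hf ha, map_add, yN_comm hf hJ]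

/-- the cross root element of two orthogonal isotropic vectors -/
theorem exists_cross {M : Subgroup (GL ι F)} (hY : ∀ a c, hq hf J a = 0 → yv hf J δ a c ∈ M) {e b : ι → F}
    (he : hq hf J e = 0) (hb : hq hf J b = 0) (heb : f e b = 0) (hJeb : f (J e) b = 0) (c : F) :
    ∃ U ∈ M, U ∈ isoGroup f ∧ ∀ x, act U x = x + c • ((δ * f x e) • b + (δ * f x b) • e
      - f x (J e) • J b - f x (J b) • J e) := by
  have h1 : f (J e) e = 0 := by rw [← hq_apply hf]; exact he
  have h2 : f (J b) b = 0 := by rw [← hq_apply hf]; exact hb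
  have h3 : f (J b) e = 0 := by rw [f_map_comm hf hJ]; exact hJeb
  have h4 : f (J e) (J b) = 0 := by rw [f_map_map hf hJ, heb, mul_zero]
  have h5 : f b e = 0 := f_eq_zero_symm hf heb
  have h6 : f (J b) (J e) = 0 := f_eq_zero_symm hf h4
  have h7 : f e (J e) = 0 := f_eq_zero_symm hf h1
  have h8 : f b (J b) = 0 := f_eq_zero_symm hf h2
  have h9 : f e (J b) = 0 := f_eq_zero_symm hf h3
  have h10 : f b (J e) = 0 := f_eq_zero_symm hf hJeb
  have heb' : hq hf J (e + b) = 0 := by
    rw [hq_apply, map_add, f_add_left hf, f_add_right hf, f_add_right hf, h1, h2, h3, hJeb]; ring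
  refine ⟨yv hf J δ (e + b) c * yv hf J δ e (-c) * yv hf J δ b (-c),
    M.mul_mem (M.mul_mem (hY _ _ heb') (hY _ _ he)) (hY _ _ hb),
    mul_mem (mul_mem (yv_mem_iso hf _ _) (yv_mem_iso hf _ _)) (yv_mem_iso hf _ _), fun x => ?_⟩
  rw [act_mul, act_mul, act_yv hf heb', act_yv hf he, act_yv hf hb]
  simp only [yN_apply hf, map_add, f_add_left hf, f_add_right hf, f_sub_left hf, f_smul_left hf, f_self hf, h1, h2,
    h3, h4, h5, h6, h7, h8, h9, h10, heb, hJeb, mul_zero, add_zero, zero_add, sub_zero]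
  module

/-- isotropic vectors with prescribed products on a small stable subspace -/
theorem exists_iso_presc [Finite F] {P : Submodule F (ι → F)} (hP : ∀ x ∈ P, J x ∈ P)
    (hdim : finrank F P + finrank F P + 3 ≤ Fintype.card ι) (m₀ : ι → F) :
    ∃ m, hq hf J m = 0 ∧ ∀ p ∈ P, f p m = f p m₀ := by
  have hle : finrank F ↥(P ⊓ Orth.perp (hq hf J) P) ≤ finrank F P := Submodule.finrank_mono inf_le_left
  obtain ⟨m, hm, hmP⟩ := Orth.exists_singular_prescribed (nondeg_hq hf hJ) (P := P) (by omega) m₀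
  refine ⟨m, hm, fun p hp => ?_⟩
  have h := hmP (J p) (hP p hp)
  rw [polar_hq hf hJ, polar_hq hf hJ, hJ.sq, f_smul_left hf, f_smul_left hf] at h
  exact mul_left_cancel₀ (delta_ne hJ) (mul_left_cancel₀ hJ.two h)

/-- every vector not in a stable subspace has a functional vanishing there and at its image -/
theorem exists_dual_line {W : Submodule F (ι → F)} (hW : ∀ x ∈ W, J x ∈ W) {u : ι → F} (hu : u ∉ W) :
    ∃ φ : (ι → F) →ₗ[F] F, (∀ w ∈ W, φ w = 0) ∧ φ u = 1 ∧ φ (J u) = 0 := by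
  obtain ⟨φ, h0, h1⟩ := exists_dual (W ⊔ F ∙ J u) (v := u) (fun h => by
    obtain ⟨w, hw, y, hy, e⟩ := Submodule.mem_sup.1 h
    obtain ⟨r, rfl⟩ := Submodule.mem_span_singleton.1 hy
    refine hu (mem_of_comb hJ hW (a := 1) (b := -r) ?_ fun h' => one_ne_zero h'.1)
    rw [one_smul, neg_smul, ← sub_eq_add_neg, sub_eq_iff_eq_add.2 e.symm]; exact hw)
  exact ⟨φ, fun w hw => h0 w (Submodule.mem_sup_left hw), h1,
    h0 _ (Submodule.mem_sup_right (Submodule.mem_span_singleton_self _))⟩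

/-- a vector as a sum of two isotropic vectors which are not orthogonal -/
theorem exists_split [Finite F] (hn : 14 ≤ Fintype.card ι) {x : ι → F} (hx : x ≠ 0) :
    ∃ a, hq hf J a = 0 ∧ hq hf J (x - a) = 0 ∧ f x a = 1 := by
  obtain ⟨φ, -, h1, h2⟩ := exists_dual_line hf hJ (W := ⊥) (u := x)
    (fun y hy => by rw [(Submodule.mem_bot F).1 hy, map_zero]; exact zero_mem _) (by simpa using hx)
  obtain ⟨ψ, -, h3, h4⟩ := exists_dual_line hf hJ (W := ⊥) (u := J x)
    (fun y hy => by rw [(Submodule.mem_bot F).1 hy, map_zero]; exact zero_mem _) (by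
      simp only [Submodule.mem_bot]
      intro e
      have := hJ.sq x
      rw [e, map_zero] at this
      exact hx ((smul_eq_zero.1 this.symm).resolve_left (delta_ne hJ)))
  rw [hJ.sq, map_smul, smul_eq_mul, mul_eq_zero, or_iff_right (delta_ne hJ)] at h4
  obtain ⟨m₀, hm₀⟩ := exists_repr hf (φ + (hq hf J x / 2) • ψ)
  obtain ⟨a, ha, hap⟩ := exists_iso_presc hf hJ (P := jl J x) (jl_stable hJ x) (by
    have := finrank_jl_le (J := J) x
    omega) m₀
  have e1 : f x a = 1 := by rw [hap x (self_mem_jl x), ← hm₀]; simp [h1, h4]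
  have e2 : f (J x) a = hq hf J x / 2 := by rw [hap _ (map_mem_jl x), ← hm₀]; simp [h2, h3]
  refine ⟨a, ha, ?_, e1⟩
  rw [hq_apply] at ha e2 ⊢
  have h2 := hJ.two
  rw [map_sub, f_sub_left hf, f_sub_right hf, f_sub_right hf, ha, f_map_comm hf hJ a x, e2]
  field_simp; ring

/-- one transvection on an isotropic vector gives everything -/
theorem full_of_one [Finite F] (hn : 14 ≤ Fintype.card ι) {M : Subgroup (GL ι F)}
    (hY : ∀ a c, hq hf J a = 0 → yv hf J δ a c ∈ M)
    (hS : ∀ α β : F, α * α - δ * (β * β) = 1 → ∃ S ∈ M, S ∈ isoGroup f ∧ ∀ x, act S x = α • x + β • J x)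
    {e : ι → F} (he0 : e ≠ 0) (he : hq hf J e = 0) (hFe : Full hf M e) : ∀ v, Full hf M v := by
  have hδ := delta_ne hJ
  have step : ∀ u b, Full hf M u → hq hf J b = 0 → f u (J b) = 0 → f u b ≠ 0 → Full hf M b := by
    intro u b hu hb h1 h2
    have h := full_conj hf (hY b 1 hb) (yv_mem_iso hf b 1) hu
    rw [act_yv hf hb, yN_apply, h1, mul_zero, zero_smul, sub_zero, mul_one] at h
    have h3 := full_add hf hu h (a := -1) (by
      rw [f_add_left hf, f_smul_left hf, f_self hf, zero_add]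
      exact mul_ne_zero (mul_ne_zero hδ h2) (f_ne_symm hf h2))
    rw [neg_smul, one_smul, add_neg_cancel_comm] at h3
    have h4 := full_smul hf h3 (δ * f u b)⁻¹
    rwa [inv_smul_smul₀ (mul_ne_zero hδ h2)] at h4
  have line : ∀ u v b, Full hf M u → Full hf M v → f v u ≠ 0 → hq hf J b = 0 →
      f v (J b) * f u b - f u (J b) * f v b ≠ 0 → Full hf M b := by
    intro u v b hu hv hvu hb hdet
    refine step (f v (J b) • u + (-f u (J b)) • v) b ?_ hb ?_ ?_
    · rcases eq_or_ne (f u (J b)) 0 with h0 | h0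
      · rw [h0, neg_zero, zero_smul, add_zero]; exact full_smul hf hu _
      · rw [add_comm]
        exact full_add hf hu (full_smul hf hv _)
          (by rw [f_smul_left hf]; exact mul_ne_zero (neg_ne_zero.2 h0) hvu) _
    · rw [f_add_left hf, f_smul_left hf, f_smul_left hf]; ring
    · rw [f_add_left hf, f_smul_left hf, f_smul_left hf]
      convert hdet using 1; ring
  have he' : f (J e) e = 0 := by rw [← hq_apply hf]; exact he
  -- a partner
  obtain ⟨d, hd, hed, hJed⟩ : ∃ d, hq hf J d = 0 ∧ f e d = 1 ∧ f (J e) d = 0 := by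
    obtain ⟨φ, -, h1, h2⟩ := exists_dual_line hf hJ (W := ⊥) (u := e)
      (fun y hy => by rw [(Submodule.mem_bot F).1 hy, map_zero]; exact zero_mem _) (by simpa using he0)
    obtain ⟨m₀, hm₀⟩ := exists_repr hf φ
    obtain ⟨d, hd, hdp⟩ := exists_iso_presc hf hJ (P := jl J e) (jl_stable hJ e) (by
      have := finrank_jl_le (J := J) e; omega) m₀
    exact ⟨d, hd, by rw [hdp e (self_mem_jl e), ← hm₀, h1], by rw [hdp _ (map_mem_jl e), ← hm₀, h2]⟩
  have hd' : f (J d) d = 0 := by rw [← hq_apply hf]; exact hd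
  have hde : f d e = -1 := by rw [f_skew hf, hed]
  have heJd : f e (J d) = 0 := by rw [f_skew hf, f_map_comm hf hJ, hJed, neg_zero]
  have hFd : Full hf M d := step e d hFe hd heJd (by rw [hed]; exact one_ne_zero)
  -- a full anisotropic vector
  obtain ⟨b, hb, b1, b2, b3, b4⟩ : ∃ b, hq hf J b = 0 ∧ f e b = 1 ∧ f (J e) b = 1 ∧ f d b = 0 ∧ f (J d) b = -1 := by
    obtain ⟨b, hb, hbp⟩ := exists_iso_presc hf hJ (P := jl J e ⊔ jl J d)
      (sup_stable (jl_stable hJ e) (jl_stable hJ d)) (by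
        have := Submodule.finrank_add_le_finrank_add_finrank (jl J e) (jl J d)
        have := finrank_jl_le (J := J) e
        have := finrank_jl_le (J := J) d
        omega) (d - δ⁻¹ • J d - δ⁻¹ • J e)
    refine ⟨b, hb, ?_, ?_, ?_, ?_⟩
    all_goals rw [hbp _ (by
      first
        | exact Submodule.mem_sup_left (self_mem_jl e)
        | exact Submodule.mem_sup_left (map_mem_jl e)
        | exact Submodule.mem_sup_right (self_mem_jl d)
        | exact Submodule.mem_sup_right (map_mem_jl d))]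
    all_goals simp only [f_sub_right hf, f_smul_right hf, f_map_map hf hJ, f_self hf, f_map_right hf hJ, hed, hde,
      hJed, heJd, he', hd']
    · ring
    · field_simp; ring
    · rw [show f d (J e) = 0 from by rw [f_skew hf, hJed, neg_zero]]; ring
    · field_simp; ring
  have hFb : Full hf M b := line e d b hFe hFd (by rw [hde]; exact neg_ne_zero.2 one_ne_zero) hb (by
    rw [show f d (J b) = 1 by rw [← neg_neg (f d (J b)), ← hJ.adj, b4, neg_neg],
      show f e (J b) = -1 by rw [← neg_neg (f e (J b)), ← hJ.adj, b2], b1, b3]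
    norm_num)
  obtain ⟨u₀, hu₀⟩ : ∃ u, u = e + b := ⟨_, rfl⟩
  have hFu : Full hf M u₀ := by
    have := full_add hf hFb hFe (by rw [b1]; exact one_ne_zero) 1
    rw [one_smul] at this
    exact hu₀ ▸ this
  have hqu : hq hf J u₀ ≠ 0 := by
    rw [hq_apply] at hb
    rw [hu₀, hq_apply, map_add, f_add_left hf, f_add_right hf, f_add_right hf, he', hb, f_map_comm hf hJ b e, b2,
      zero_add, add_zero, one_add_one_eq_two]
    exact hJ.two
  -- its image by a scalar of norm one
  have hd1 : δ - 1 ≠ 0 := sub_ne_zero.2 fun e => hJ.nsq 1 (by rw [one_mul, e])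
  obtain ⟨α, β, hαβ, hβ⟩ : ∃ α β : F, α * α - δ * (β * β) = 1 ∧ β ≠ 0 :=
    ⟨1 + 2 / (δ - 1), 2 / (δ - 1), by field_simp; ring, div_ne_zero hJ.two hd1⟩
  obtain ⟨S, hSM, hSf, hSx⟩ := hS α β hαβ
  have hFv := full_conj hf hSM hSf hFu
  rw [hSx] at hFv
  have hiso : ∀ b, hq hf J b = 0 → Full hf M b := by
    intro b hb
    rcases eq_or_ne b 0 with rfl | hb0
    · exact full_zero hf M
    have hu₀0 : u₀ ≠ 0 := fun e => hqu (by rw [e, hq_apply, f_zero_right hf])
    have hub : u₀ ∉ jl J b := by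
      intro h
      apply hqu
      obtain ⟨p, r, rfl⟩ := mem_jl.1 h
      rw [hq_comb hf hJ, hb, mul_zero]
    have hbu : b ∉ jl J u₀ := by
      intro h
      obtain ⟨p, r, e⟩ := mem_jl.1 h
      refine hub (mem_of_comb hJ (jl_stable hJ b) (a := p) (b := r) (by rw [e]; exact self_mem_jl b)
        fun h' => hb0 (by rw [← e, h'.1, h'.2, zero_smul, zero_smul, add_zero]))
    obtain ⟨φ, hφ0, hφ1, hφ2⟩ := exists_dual_line hf hJ (jl_stable hJ u₀) hbu
    obtain ⟨ψ, hψ0, hψ1, hψ2⟩ := exists_dual_line hf hJ (jl_stable hJ b) hub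
    obtain ⟨m₀, hm₀⟩ := exists_repr hf (ψ - φ)
    obtain ⟨c, hc, hcp⟩ := exists_iso_presc hf hJ (P := jl J b ⊔ jl J u₀)
      (sup_stable (jl_stable hJ b) (jl_stable hJ u₀)) (by
        have := Submodule.finrank_add_le_finrank_add_finrank (jl J b) (jl J u₀)
        have := finrank_jl_le (J := J) b
        have := finrank_jl_le (J := J) u₀
        omega) m₀
    have c1 : f b c = -1 := by
      rw [hcp b (Submodule.mem_sup_left (self_mem_jl b)), ← hm₀]
      simp [hφ1, hψ0 b (self_mem_jl b)]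
    have c2 : f (J b) c = 0 := by
      rw [hcp _ (Submodule.mem_sup_left (map_mem_jl b)), ← hm₀]
      simp [hφ2, hψ0 _ (map_mem_jl b)]
    have c3 : f u₀ c = 1 := by
      rw [hcp u₀ (Submodule.mem_sup_right (self_mem_jl u₀)), ← hm₀]
      simp [hψ1, hφ0 u₀ (self_mem_jl u₀)]
    have c4 : f u₀ (J c) = 0 := by
      rw [← neg_neg (f u₀ (J c)), ← hJ.adj, hcp _ (Submodule.mem_sup_right (map_mem_jl u₀)), ← hm₀]
      simp [hψ2, hφ0 _ (map_mem_jl u₀)]
    have hqu' : f (J u₀) u₀ ≠ 0 := by rwa [hq_apply] at hqu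
    have hFc : Full hf M c := by
      refine line u₀ _ c hFu hFv ?_ hc ?_
      · rw [f_add_left hf, f_smul_left hf, f_smul_left hf, f_self hf, mul_zero, zero_add]
        exact mul_ne_zero hβ hqu'
      · rw [f_add_left hf, f_smul_left hf, f_smul_left hf, f_map_map hf hJ, c3, c4]
        simp only [mul_one, mul_zero, zero_mul, sub_zero, zero_add]
        exact mul_ne_zero hβ (neg_ne_zero.2 hδ)
    refine step c b hFc hb ?_ (f_ne_symm hf (by rw [c1]; exact neg_ne_zero.2 one_ne_zero))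
    exact f_eq_zero_symm hf c2
  intro v
  rcases eq_or_ne v 0 with rfl | hv
  · exact full_zero hf M
  obtain ⟨a, ha, hva, h1⟩ := exists_split hf hJ hn hv
  have := full_add hf (hiso a ha) (hiso _ hva) (by
    rw [f_sub_left hf, h1, f_self hf, sub_zero]; exact one_ne_zero) 1
  rwa [one_smul, sub_add_cancel] at this

end Cfsg.Agent.MaxCl.SpU
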