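/-
Overgroups of a unitary structure on a symplectic space, in every dimension at least six: if a group contains the
unitary root elements and some element sends an isotropic line of the structure to a plane which is not a line of
the structure, then it contains a symplectic transvection; otherwise it normalises the structure.
-/
import Cfsg.Agent.Lib.MaxCl.SympUnitary

set_option autoImplicit false

namespace Cfsg.Agent.MaxCl.SpU

open scoped MatrixGroups Matrix
open Module (finrank)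

variable {ι : Type} [Fintype ι] [DecidableEq ι] {F : Type*} [Field F]
variable {f : (ι → F) → (ι → F) → F} {J : (ι → F) →ₗ[F] (ι → F)} {δ : F}
variable (hf : Cfsg.Geo.IsSymplecticForm f) (hJ : IsAntiStr f J δ)
include hf hJ

omit hf in
theorem map_ne {x : ι → F} (hx : x ≠ 0) : J x ≠ 0 := fun e => hx (by
  have := hJ.sq x
  rw [e, map_zero] at this
  exact (smul_eq_zero.1 this.symm).resolve_left (delta_ne hJ))

/-- isotropic vectors of a non-degenerate stable subspace detect its dual -/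
theorem exists_iso_pairing_on [Finite F] {W : Submodule F (ι → F)} (hW : ∀ x ∈ W, J x ∈ W)
    (hd : 3 ≤ finrank F W) (hnd : ∀ r ∈ W, (∀ w ∈ W, f r w = 0) → r = 0) {x : ι → F}
    (hx : ∃ w ∈ W, f x w ≠ 0) : ∃ b ∈ W, hq hf J b = 0 ∧ f x b ≠ 0 := by
  obtain ⟨e, heW, he0, he⟩ := Orth.exists_singular (hq hf J) hd
  obtain ⟨y, hyW, hy⟩ : ∃ y ∈ W, f (J e) y ≠ 0 := by
    by_contra h; push Not at h
    exact map_ne hJ he0 (hnd _ (hW e heW) h)
  by_contra hno; push Not at hno
  have hpol : ∀ v ∈ W, f (J e) v ≠ 0 → f x v = 0 := by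
    intro v hv hev
    obtain ⟨t, ht⟩ : ∃ t, t = hq hf J v / (2 * f (J e) v) := ⟨_, rfl⟩
    have ht' : t * (2 * f (J e) v) = hq hf J v := by
      rw [ht, div_mul_cancel₀ _ (mul_ne_zero hJ.two hev)]
    have h := hno (v - t • e) (W.sub_mem hv (W.smul_mem _ heW)) (by
      rw [hq_apply] at he ht' ⊢
      rw [map_sub, map_smul, f_sub_left hf, f_sub_right hf, f_sub_right hf, f_smul_left hf, f_smul_left hf,
        f_smul_right hf, f_smul_right hf, he, f_map_comm hf hJ v e]
      linear_combination -ht')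
    rwa [f_sub_right hf, f_smul_right hf, hno e heW he, mul_zero, sub_zero] at h
  obtain ⟨w, hw, hxw⟩ := hx
  by_cases hew : f (J e) w = 0
  · have h2 := hpol (w + y) (W.add_mem hw hyW) (by rw [f_add_right hf, hew, zero_add]; exact hy)
    rw [f_add_right hf, hpol y hyW hy, add_zero] at h2
    exact hxw h2
  · exact hxw (hpol w hw hew)

/-- every non-zero vector is moved by an isotropic vector -/
theorem exists_iso_pairing [Finite F] (hn : 3 ≤ Fintype.card ι) {x : ι → F} (hx : x ≠ 0) :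
    ∃ b, hq hf J b = 0 ∧ f x b ≠ 0 := by
  obtain ⟨y, hy⟩ := (hf.nondegenerate x hx).2
  obtain ⟨b, -, hb⟩ := exists_iso_pairing_on hf hJ (W := ⊤) (fun _ _ => trivial)
    (by rw [finrank_top, Module.finrank_pi]; omega)
    (fun r _ h => by
      by_contra hr
      obtain ⟨z, hz⟩ := (hf.nondegenerate r hr).2
      exact hz (h z trivial)) ⟨y, trivial, hy⟩
  exact ⟨b, hb⟩

/-- the line of an anisotropic vector has no radical -/
theorem jl_radical {p : ι → F} (hp : hq hf J p ≠ 0) {r : ι → F} (hr : r ∈ jl J p)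
    (h : ∀ w ∈ jl J p, f r w = 0) : r = 0 := by
  obtain ⟨a, b, rfl⟩ := mem_jl.1 hr
  rw [hq_apply] at hp
  have h1 := h p (self_mem_jl p)
  have h2 := h (J p) (map_mem_jl p)
  rw [f_add_left hf, f_smul_left hf, f_smul_left hf, f_self hf, mul_zero, zero_add] at h1
  rw [f_add_left hf, f_smul_left hf, f_smul_left hf, f_self hf, mul_zero, add_zero, f_map_right hf hJ] at h2
  rw [(mul_eq_zero.1 h1).resolve_right hp, (mul_eq_zero.1 h2).resolve_right (neg_ne_zero.2 hp), zero_smul,
    zero_smul, add_zero]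

/-- an isotropic vector orthogonal to the line of `p` but not to the line of `p'` -/
theorem exists_iso_sep [Finite F] (hn : 6 ≤ Fintype.card ι) {p p' : ι → F} (hp0 : p ≠ 0) (hp' : p' ∉ jl J p)
    (hpp : f p p' = 0) :
    (hq hf J p ≠ 0 → ∃ b, hq hf J b = 0 ∧ f p b = 0 ∧ f p (J b) = 0 ∧ ¬ (f p' b = 0 ∧ f p' (J b) = 0) ∧
      p ∉ jl J b) ∧
    (hq hf J p = 0 → hq hf J p' = 0 → f (J p) p' = 0 → ∃ b, hq hf J b = 0 ∧ f p b = 0 ∧ f p (J b) = 0 ∧
      ¬ (f p' b = 0 ∧ f p' (J b) = 0) ∧ p ∉ jl J b) := by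
  have hδ := delta_ne hJ
  refine ⟨fun hp => ?_, fun hp hq' hJpp => ?_⟩
  · have hW := perp_stable hf hJ (jl_stable hJ p)
    obtain ⟨b, hbW, hb, hbp⟩ := exists_iso_pairing_on hf hJ (W := MaxCl.perp hf (jl J p)) hW
      (by have := MaxCl.finrank_perp hf (jl J p); have := finrank_jl_le (J := J) p; omega)
      (fun r hr h => jl_radical hf hJ hp (by
        have := (MaxCl.mem_perp hf (W := MaxCl.perp hf (jl J p))).2 h
        rwa [MaxCl.perp_perp hf] at this) (fun w hw => (MaxCl.mem_perp hf).1 hr w hw))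
      (x := p') (by
        by_contra h; push Not at h
        exact hp' (by
          have := (MaxCl.mem_perp hf (W := MaxCl.perp hf (jl J p))).2 h
          rwa [MaxCl.perp_perp hf] at this))
    rw [MaxCl.mem_perp hf] at hbW
    have h1 : f p b = 0 := f_eq_zero_symm hf (hbW p (self_mem_jl p))
    have h2 : f p (J b) = 0 := by
      rw [← neg_neg (f p (J b)), ← hJ.adj, f_eq_zero_symm hf (hbW _ (map_mem_jl p)), neg_zero]
    refine ⟨b, hb, h1, h2, fun h => hbp h.1, fun h => hp ?_⟩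
    obtain ⟨a, c, rfl⟩ := mem_jl.1 h
    rw [hq_comb hf hJ, hb, mul_zero]
  · obtain ⟨φ, h0, h1, h2⟩ := exists_dual_line hf hJ (jl_stable hJ p) hp'
    obtain ⟨m₀, hm₀⟩ := exists_repr hf φ
    obtain ⟨t, ht⟩ : ∃ t, t = -(hq hf J m₀) / (2 * δ) := ⟨_, rfl⟩
    have ht' : t * (2 * δ) = -(hq hf J m₀) := by rw [ht, div_mul_cancel₀ _ (mul_ne_zero hJ.two hδ)]
    rw [hq_apply] at hp hq' ht'
    have h3 : f p' (J p) = 0 := f_eq_zero_symm hf hJpp
    have h4 : f p (J p') = 0 := by rw [← neg_neg (f p (J p')), ← hJ.adj, hJpp, neg_zero]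
    have hp'J : f p' (J p') = 0 := by rw [f_map_right hf hJ, hq', neg_zero]
    have hm1 : f p' m₀ = 1 := by rw [← hm₀, h1]
    have hm2 : f (J p') m₀ = 0 := by rw [← hm₀, h2]
    have hm3 : f p m₀ = 0 := by rw [← hm₀, h0 p (self_mem_jl p)]
    have hm4 : f (J p) m₀ = 0 := by rw [← hm₀, h0 _ (map_mem_jl p)]
    have hb1 : f p (m₀ + t • J p') = 0 := by
      rw [f_add_right hf, f_smul_right hf, hm3, h4, mul_zero, add_zero]
    have hb2 : f p' (m₀ + t • J p') = 1 := by
      rw [f_add_right hf, f_smul_right hf, hm1, hp'J, mul_zero, add_zero]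
    have hb3 : f (J p) (m₀ + t • J p') = 0 := by
      rw [f_add_right hf, f_smul_right hf, hm4, f_map_map hf hJ, hpp, mul_zero, mul_zero, add_zero]
    refine ⟨m₀ + t • J p', ?_, hb1, ?_, fun h => one_ne_zero (α := F) (by rw [← hb2, h.1]), fun h => ?_⟩
    · have e1 : f (J m₀) (J p') = δ := by
        rw [f_map_map hf hJ, f_skew hf m₀ p', hm1]; ring
      rw [hq_apply, map_add, map_smul, hJ.sq, f_add_left hf, f_add_right hf, f_add_right hf, f_smul_left hf,
        f_smul_left hf, f_smul_right hf, f_smul_right hf, f_smul_left hf, f_smul_left hf, e1, hm1, hp'J]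
      linear_combination ht'
    · rw [← neg_neg (f p (J _)), ← hJ.adj, hb3, neg_zero]
    · obtain ⟨a, c, e'⟩ := mem_jl.1 h
      have hbm : m₀ + t • J p' ∈ jl J p := mem_of_comb hJ (jl_stable hJ p) (a := a) (b := c)
        (by rw [e']; exact self_mem_jl p) (fun hh => hp0 (by rw [← e', hh.1, hh.2, zero_smul, zero_smul, add_zero]))
      have hz : f p' (m₀ + t • J p') = 0 := by
        obtain ⟨r, s, e''⟩ := mem_jl.1 hbm
        rw [← e'', f_add_right hf, f_smul_right hf, f_smul_right hf, h3, f_eq_zero_symm hf hpp]; ring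
      exact one_ne_zero (α := F) (hb2.symm.trans hz)

/-- a full vector gives an isotropic full vector -/
theorem exists_iso_full [Finite F] (hn : 3 ≤ Fintype.card ι) {M : Subgroup (GL ι F)}
    (hY : ∀ a c, hq hf J a = 0 → yv hf J δ a c ∈ M) {u : ι → F} (hu0 : u ≠ 0) (hu : Full hf M u) :
    ∃ e, e ≠ 0 ∧ hq hf J e = 0 ∧ Full hf M e := by
  obtain ⟨b, hb, hub⟩ := exists_iso_pairing hf hJ hn hu0
  have hb0 : b ≠ 0 := fun e => hub (by rw [e, f_zero_right hf])
  obtain ⟨v, hv⟩ : ∃ v, v = yN hf J δ b 1 u := ⟨_, rfl⟩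
  have hv0 : v ≠ 0 := fun e => hub ((yN_eq_zero_iff hf hJ hb0 one_ne_zero).1 (hv ▸ e)).1
  have hvq : hq hf J v = 0 := by
    obtain ⟨p, r, e⟩ := mem_jl.1 (hv ▸ yN_mem hf b 1 u : v ∈ jl J b)
    rw [← e, hq_comb hf hJ, hb, mul_zero]
  have h := full_conj hf (hY b 1 hb) (yv_mem_iso hf b 1) hu
  rw [act_yv hf hb, ← hv] at h
  have huv : f u v ≠ 0 := by
    rw [hv, yN_apply, f_sub_right hf, f_smul_right hf, f_smul_right hf]
    intro e
    refine norm_ne hJ (a := f u (J b)) (b := f u b) (fun h => hub h.2) ?_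
    linear_combination -e
  have h3 := full_add hf hu h (a := -1) (by
    rw [f_add_left hf, f_self hf, zero_add]; exact f_ne_symm hf huv)
  rw [neg_smul, one_smul, add_neg_cancel_comm] at h3
  exact ⟨v, hv0, hvq, h3⟩

/-- root elements of a hyperbolic form on an isotropic plane give a transvection -/
theorem exists_full_of_cross [Finite F] (hn : 6 ≤ Fintype.card ι) {M : Subgroup (GL ι F)}
    (hM : M ≤ isoGroup f) (hY : ∀ a c, hq hf J a = 0 → yv hf J δ a c ∈ M) {q₁ q₂ : ι → F} (hq₁ : q₁ ≠ 0)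
    (h12 : f q₁ q₂ = 0) (hind : q₂ ∉ jl J q₁)
    (hC : ∀ s : F, ∃ h ∈ M, ∀ x, act h x = x + s • (f x q₁ • q₂ + f x q₂ • q₁)) :
    ∃ u, u ≠ 0 ∧ Full hf M u := by
  have hq₂ : q₂ ≠ 0 := fun e => hind (e ▸ zero_mem _)
  have hind' : q₁ ∉ jl J q₂ := fun h => by
    obtain ⟨a, c, e⟩ := mem_jl.1 h
    exact hind (mem_of_comb hJ (jl_stable hJ q₁) (a := a) (b := c) (by rw [e]; exact self_mem_jl q₁)
      (fun hh => hq₁ (by rw [← e, hh.1, hh.2, zero_smul, zero_smul, add_zero])))
  suffices key : ∀ u v : ι → F, u ≠ 0 → f u v = 0 →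
      (∀ s : F, ∃ h ∈ M, ∀ x, act h x = x + s • (f x u • v + f x v • u)) →
      (∃ d, hq hf J d = 0 ∧ f u d = 0 ∧ f u (J d) = 0 ∧ ¬ (f v d = 0 ∧ f v (J d) = 0)) →
      ∃ u, u ≠ 0 ∧ Full hf M u by
    have hC' : ∀ s : F, ∃ h ∈ M, ∀ x, act h x = x + s • (f x q₂ • q₁ + f x q₁ • q₂) := fun s => by
      obtain ⟨h, hh, e⟩ := hC s
      exact ⟨h, hh, fun x => by rw [e]; module⟩
    by_cases e1 : hq hf J q₁ ≠ 0
    · obtain ⟨d, d1, d2, d3, d4, -⟩ := (exists_iso_sep hf hJ hn hq₁ hind h12).1 e1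
      exact key _ _ hq₁ h12 hC ⟨d, d1, d2, d3, d4⟩
    by_cases e2 : hq hf J q₂ ≠ 0
    · obtain ⟨d, d1, d2, d3, d4, -⟩ := (exists_iso_sep hf hJ hn hq₂ hind' (f_eq_zero_symm hf h12)).1 e2
      exact key _ _ hq₂ (f_eq_zero_symm hf h12) hC' ⟨d, d1, d2, d3, d4⟩
    rw [not_not] at e1 e2
    refine key _ _ hq₁ h12 hC ?_
    by_cases e3 : f (J q₁) q₂ = 0
    · obtain ⟨d, d1, d2, d3, d4, -⟩ := (exists_iso_sep hf hJ hn hq₁ hind h12).2 e1 e2 e3
      exact ⟨d, d1, d2, d3, d4⟩
    · refine ⟨q₁, e1, f_self hf q₁, ?_, fun h => e3 (f_eq_zero_symm hf h.2)⟩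
      rw [hq_apply] at e1
      rw [f_map_right hf hJ, e1, neg_zero]
  rintro u v hu0 huv hC ⟨d, hd, hud, huJd, hvd⟩
  obtain ⟨z, hz⟩ : ∃ z, z = yv hf J δ d 1 := ⟨_, rfl⟩
  have hzi : z ∈ isoGroup f := hz ▸ yv_mem_iso hf d 1
  have hzM : z ∈ M := hz ▸ hY d 1 hd
  have hzu : act z u = u := by
    rw [hz, act_yv hf hd, yN_apply, hud, huJd, mul_zero, mul_zero, zero_smul, zero_smul, sub_zero, add_zero]
  obtain ⟨w, hw⟩ : ∃ w, w = act z v := ⟨_, rfl⟩
  have huw : f u w = 0 := by rw [hw, ← hzu, mem_isoGroup.1 hzi, huv]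
  have hvw : f v w ≠ 0 := by
    rw [hw, hz, act_yv hf hd, yN_apply, f_add_right hf, f_sub_right hf, f_smul_right hf, f_smul_right hf,
      f_self hf, zero_add]
    intro e
    refine norm_ne hJ (a := f v (J d)) (b := f v d) (fun h => hvd ⟨h.2, h.1⟩) ?_
    linear_combination -e
  have hC' : ∀ s : F, ∃ h ∈ M, ∀ x, act h x = x + s • (f x u • w + f x w • u) := fun s => by
    obtain ⟨h, hh, e⟩ := hC s
    refine ⟨z * h * z⁻¹, M.mul_mem (M.mul_mem hzM hh) (M.inv_mem hzM), fun x => ?_⟩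
    have hinv : ∀ y, f (act z⁻¹ x) y = f x (act z y) := fun y => by
      rw [← mem_isoGroup.1 hzi, act_act_inv]
    rw [act_mul, act_mul, e, map_add, map_smul, map_add, map_smul, map_smul, act_act_inv, hzu, ← hw, hinv, hinv,
      hzu, ← hw]
  refine ⟨u, hu0, fun c => ?_⟩
  obtain ⟨s, hs⟩ : ∃ s, s = -c / (2 * f v w) := ⟨_, rfl⟩
  have hs' : s * (2 * f v w) = -c := by rw [hs, div_mul_cancel₀ _ (mul_ne_zero hJ.two hvw)]
  obtain ⟨h₁, m₁, a₁⟩ := hC s
  obtain ⟨h₂, m₂, a₂⟩ := hC' 1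
  obtain ⟨h₃, m₃, a₃⟩ := hC (-s)
  obtain ⟨h₄, m₄, a₄⟩ := hC' (-1)
  have e : stv hf u c = h₁ * h₂ * h₃ * h₄ := by
    apply gl_ext; intro x
    rw [act_stv hf]
    simp only [act_mul, a₁, a₂, a₃, a₄, f_add_left hf, f_smul_left hf, f_self hf, huv, huw,
      f_eq_zero_symm hf huv, f_eq_zero_symm hf huw, f_skew hf w v]
    match_scalars <;> first
      | linear_combination (f x u) * hs'
      | linear_combination (-(f x u)) * hs'
      | ring
  rw [e]
  exact M.mul_mem (M.mul_mem (M.mul_mem m₁ m₂) m₃) m₄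

/-- an element moving an isotropic line of the structure to another kind of plane gives a transvection -/
theorem exists_full_of_plane [Finite F] (hn : 6 ≤ Fintype.card ι) {M : Subgroup (GL ι F)}
    (hM : M ≤ isoGroup f) (hY : ∀ a c, hq hf J a = 0 → yv hf J δ a c ∈ M) {g : GL ι F} (hg : g ∈ M)
    {a : ι → F} (ha : hq hf J a = 0) (hga : act g (J a) ∉ jl J (act g a)) :
    ∃ u, u ≠ 0 ∧ Full hf M u := by
  have hδ := delta_ne hJ
  have hgf := hM hg
  have ha0 : a ≠ 0 := fun e => hga (by simp [e])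
  -- choice of the first vector in the image
  obtain ⟨p₀, hp₀⟩ : ∃ a', a' ∈ jl J a ∧ a' ≠ 0 ∧ (hq hf J (act g a') ≠ 0 ∨
      ∀ x ∈ jl J a, hq hf J (act g x) = 0) := by
    by_cases h : ∃ x ∈ jl J a, hq hf J (act g x) ≠ 0
    · obtain ⟨x, hx, hx'⟩ := h
      exact ⟨x, hx, fun e => hx' (by rw [e, map_zero, hq_apply, map_zero, f_zero_right hf]), Or.inl hx'⟩
    · push Not at h
      exact ⟨a, self_mem_jl a, ha0, Or.inr h⟩
  obtain ⟨hp₀a, hp₀0, hp₀c⟩ := hp₀
  obtain ⟨α, β, hαβ⟩ := mem_jl.1 hp₀a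
  have hab : ¬ (α = 0 ∧ β = 0) := fun h => hp₀0 (by rw [← hαβ, h.1, h.2, zero_smul, zero_smul, add_zero])
  have hq₀ : hq hf J p₀ = 0 := by rw [← hαβ, hq_comb hf hJ, ha, mul_zero]
  obtain ⟨p, hp⟩ : ∃ v, v = act g p₀ := ⟨_, rfl⟩
  obtain ⟨p', hp'⟩ : ∃ v, v = act g (J p₀) := ⟨_, rfl⟩
  have hpp : f p p' = 0 := by
    rw [hp, hp', mem_isoGroup.1 hgf, f_map_right hf hJ, ← hq_apply hf, hq₀, neg_zero]
  have hp0 : p ≠ 0 := fun e => hp₀0 (act_injective g (by rw [map_zero, ← hp, e]))
  have hind : p' ∉ jl J p := by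
    intro h
    have haj : a ∈ jl J p₀ := mem_of_comb hJ (jl_stable hJ p₀) (hαβ.symm ▸ self_mem_jl p₀) hab
    have hJaj : J a ∈ jl J p₀ := jl_stable hJ p₀ a haj
    have himg : ∀ x ∈ jl J p₀, act g x ∈ jl J p := fun x hx => by
      obtain ⟨r, s, rfl⟩ := mem_jl.1 hx
      rw [map_add, map_smul, map_smul, ← hp, ← hp']
      exact Submodule.add_mem _ (Submodule.smul_mem _ _ (self_mem_jl p)) (Submodule.smul_mem _ _ h)
    obtain ⟨r, s, e⟩ := mem_jl.1 (himg a haj)
    have hpa : p ∈ jl J (act g a) := mem_of_comb hJ (jl_stable hJ _) (a := r) (b := s)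
      (by rw [e]; exact self_mem_jl _)
      (fun hh => ha0 (act_injective g (by rw [map_zero, ← e, hh.1, hh.2, zero_smul, zero_smul, add_zero])))
    exact hga (jl_le (jl_stable hJ _) hpa (himg _ hJaj))
  -- the separating line
  obtain ⟨b, hb, hpb, hpJb, hp'b, hpnb⟩ : ∃ b, hq hf J b = 0 ∧ f p b = 0 ∧ f p (J b) = 0 ∧
      ¬ (f p' b = 0 ∧ f p' (J b) = 0) ∧ p ∉ jl J b := by
    rcases hp₀c with h | h
    · exact (exists_iso_sep hf hJ hn hp0 hind hpp).1 (by rw [hp]; exact h)
    · have h1 : hq hf J p = 0 := hp ▸ h p₀ hp₀a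
      have h2 : hq hf J p' = 0 := hp' ▸ h _ (jl_stable hJ a p₀ hp₀a)
      have h3 := h (p₀ + J p₀) (Submodule.add_mem _ hp₀a (jl_stable hJ a p₀ hp₀a))
      rw [map_add, ← hp, ← hp', hq_apply, map_add, f_add_left hf, f_add_right hf, f_add_right hf,
        f_map_comm hf hJ p' p] at h3
      have h1' := h1; have h2' := h2
      rw [hq_apply] at h1' h2'
      exact (exists_iso_sep hf hJ hn hp0 hind hpp).2 h1 h2
        ((mul_eq_zero.1 (by linear_combination h3 - h1' - h2' : (2 : F) * f (J p) p' = 0)).resolve_left hJ.two)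
  obtain ⟨l', hl'⟩ : ∃ v, v = f p' (J b) • b + (-f p' b) • J b := ⟨_, rfl⟩
  obtain ⟨l, hl⟩ : ∃ v, v = J l' := ⟨_, rfl⟩
  have hl'b : l' ∈ jl J b := mem_jl.2 ⟨_, _, hl'.symm⟩
  have hlb : l ∈ jl J b := hl ▸ jl_stable hJ b l' hl'b
  have hl'q : hq hf J l' = 0 := by rw [hl', hq_comb hf hJ, hb, mul_zero]
  have hpj : ∀ x ∈ jl J b, f p x = 0 := fun x hx => by
    obtain ⟨r, s, rfl⟩ := mem_jl.1 hx
    rw [f_add_right hf, f_smul_right hf, f_smul_right hf, hpb, hpJb, mul_zero, mul_zero, add_zero]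
  have e_pl : f p l = 0 := hpj l hlb
  have e_pl' : f p l' = 0 := hpj l' hl'b
  have e_p'l' : f p' l' = 0 := by rw [hl', f_add_right hf, f_smul_right hf, f_smul_right hf]; ring
  have e_ll' : f l l' = 0 := f_eq_zero_on_line hf hJ hb hlb hl'b
  have e_p'l : f p' l ≠ 0 := by
    rw [hl, hl', map_add, map_smul, map_smul, hJ.sq, f_add_right hf, f_smul_right hf, f_smul_right hf,
      f_smul_right hf]
    intro e
    refine norm_ne hJ (a := f p' (J b)) (b := f p' b) (fun h => hp'b ⟨h.2, h.1⟩) ?_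
    linear_combination e
  have e_lp' : f l p' ≠ 0 := f_ne_symm hf e_p'l
  have hX : ∀ c : F, stv hf p (δ * c) * stv hf p' (-c) ∈ M := fun c => by
    have e : g * yv hf J δ p₀ c * g⁻¹ = stv hf p (δ * c) * stv hf p' (-c) := by
      rw [hp, hp', ← conj_stv hf hgf p₀, ← conj_stv hf hgf (J p₀), yv]; group
    exact e ▸ M.mul_mem (M.mul_mem hg (hY p₀ c hq₀)) (M.inv_mem hg)
  have hL : ∀ c : F, stv hf l' (δ * c) * stv hf l (-c) ∈ M := fun c => hl ▸ hY l' c hl'q
  have hXf : ∀ c : F, stv hf p (δ * c) * stv hf p' (-c) ∈ isoGroup f := fun c =>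
    mul_mem (stv_mem hf _ _) (stv_mem hf _ _)
  -- an element fixing `p` and sending `p'` to `l`
  obtain ⟨k, hk⟩ : ∃ k, k = (stv hf p (δ * (1 / f l p')) * stv hf p' (-(1 / f l p'))) *
      (stv hf l' (δ * (-(1 / f p' l))) * stv hf l (-(-(1 / f p' l)))) := ⟨_, rfl⟩
  have hkM : k ∈ M := hk ▸ M.mul_mem (hX _) (hL _)
  have hki : k ∈ isoGroup f := hk ▸ mul_mem (hXf _) (mul_mem (stv_mem hf _ _) (stv_mem hf _ _))
  have hkp : act k p = p := by
    rw [hk]
    simp only [act_mul, act_stv hf, e_pl, e_pl', hpp, f_self hf, mul_zero, zero_smul, add_zero]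
  have hkp' : act k p' = l := by
    rw [hk]
    simp only [act_mul, act_stv hf, f_add_left hf, f_smul_left hf, f_self hf, e_p'l', e_pl, f_eq_zero_symm hf hpp,
      f_eq_zero_symm hf e_pl, e_ll', mul_zero, zero_smul, add_zero, neg_neg, zero_add]
    match_scalars <;> field_simp <;> ring
  -- a hyperbolic form
  have hT : ∀ c : F, stv hf p (δ * c) * stv hf l' (-(δ * c)) ∈ M := by
    intro c
    have h1 := M.mul_mem (M.mul_mem (M.mul_mem hkM (hX c)) (M.inv_mem hkM)) (hL (-c))
    have e : k * (stv hf p (δ * c) * stv hf p' (-c)) * k⁻¹ = stv hf p (δ * c) * stv hf l (-c) := by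
      rw [show k * (stv hf p (δ * c) * stv hf p' (-c)) * k⁻¹ =
        (k * stv hf p (δ * c) * k⁻¹) * (k * stv hf p' (-c) * k⁻¹) by group, conj_stv hf hki, conj_stv hf hki,
        hkp, hkp']
    rw [e] at h1
    convert h1 using 1
    apply gl_ext; intro x
    simp only [act_mul, act_stv hf, f_add_left hf, f_smul_left hf, f_self hf, e_pl, e_pl', e_ll',
      f_eq_zero_symm hf e_pl, f_eq_zero_symm hf e_pl', f_eq_zero_symm hf e_ll', mul_zero, zero_smul, add_zero]
    match_scalars <;> ring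
  obtain ⟨q₁, hq₁⟩ : ∃ v, v = p + l' := ⟨_, rfl⟩
  obtain ⟨q₂, hq₂⟩ : ∃ v, v = p - l' := ⟨_, rfl⟩
  refine exists_full_of_cross hf hJ hn hM hY (q₁ := q₁) (q₂ := q₂) (fun e => hpnb ?_) ?_ ?_ fun s => ?_
  · rw [hq₁] at e
    rw [eq_neg_of_add_eq_zero_left e]
    exact Submodule.neg_mem _ hl'b
  · rw [hq₁, hq₂, f_add_left hf, f_sub_right hf, f_sub_right hf, f_self hf, f_self hf, e_pl',
      f_eq_zero_symm hf e_pl']
    ring
  · intro h
    obtain ⟨r, t, e⟩ := mem_jl.1 h
    refine hpnb (mem_of_comb hJ (jl_stable hJ b) (a := 1 - r) (b := -t) ?_ ?_)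
    · have e' : (1 - r) • p + (-t) • J p = (1 + r) • l' + t • J l' := by
        rw [hq₁, hq₂, map_add] at e
        linear_combination (norm := module) -e
      rw [e']
      exact Submodule.add_mem _ (Submodule.smul_mem _ _ hl'b) (Submodule.smul_mem _ _ (jl_stable hJ b _ hl'b))
    · rintro ⟨hr, ht⟩
      rw [neg_eq_zero] at ht
      rw [ht, zero_smul, add_zero, ← sub_eq_zero.1 hr, one_smul, hq₁, hq₂] at e
      have : (2 : F) • l' = 0 := by linear_combination (norm := module) e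
      exact hp'b (comb_eq_zero hJ (a := f p' (J b)) (b := -f p' b) (y := b)
        (hl' ▸ (smul_eq_zero.1 this).resolve_left hJ.two) (fun hb0 => hp'b ⟨by rw [hb0, f_zero_right hf],
          by rw [hb0, map_zero, f_zero_right hf]⟩) |> fun hh => ⟨neg_eq_zero.1 hh.2, hh.1⟩)
  · refine ⟨_, hT (s * 2 / δ), fun x => ?_⟩
    simp only [act_mul, act_stv hf, f_add_left hf, f_smul_left hf, e_pl', f_eq_zero_symm hf e_pl', mul_zero,
      zero_smul, add_zero, hq₁, hq₂, f_add_right hf, f_sub_right hf]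
    match_scalars <;> field_simp <;> ring

/-- in dimension four an element moving an isotropic line of the structure gives a transvection -/
theorem exists_full_of_plane_four [Finite F] (hn : Fintype.card ι = 4) (hl : ∃ l : F, l ≠ 0 ∧ l * l ≠ 1)
    {M : Subgroup (GL ι F)} (hM : M ≤ isoGroup f) (hY : ∀ a c, hq hf J a = 0 → yv hf J δ a c ∈ M)
    (hU : ∀ t ∈ isoGroup f, (∀ x, act t (J x) = J (act t x)) → t ∈ M) {g : GL ι F} (hg : g ∈ M) {a₀ : ι → F}
    (ha₀ : hq hf J a₀ = 0) (hga : act g (J a₀) ∉ jl J (act g a₀)) : ∃ u, u ≠ 0 ∧ Full hf M u := by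
  classical
  have hδ := delta_ne hJ
  have hgf := mem_isoGroup.1 (hM hg)
  have ha₀0 : a₀ ≠ 0 := fun e => hga (by simp [e])
  have hjl2 : ∀ u : ι → F, u ≠ 0 → finrank F (jl J u) = 2 := fun u hu => by
    have hli : LinearIndependent F ![u, J u] := LinearIndependent.pair_iff.2 fun s t hst => comb_eq_zero hJ hst hu
    rw [jl, finrank_span_eq_card hli, Fintype.card_fin]
  obtain ⟨P, hP⟩ : ∃ P, P = (jl J a₀).map (act g) := ⟨_, rfl⟩
  have hPd : finrank F P = 2 := by rw [hP, finrank_map_act, hjl2 _ ha₀0]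
  have hPg : ∀ x ∈ jl J a₀, act g x ∈ P := fun x hx => hP ▸ Submodule.mem_map_of_mem hx
  have hPi : ∀ x ∈ P, ∀ y ∈ P, f x y = 0 := by
    intro x hx y hy
    rw [hP] at hx hy
    obtain ⟨x', hx', rfl⟩ := hx
    obtain ⟨y', hy', rfl⟩ := hy
    rw [hgf]
    exact f_eq_zero_on_line hf hJ ha₀ hx' hy'
  obtain ⟨p, hp, hQ⟩ : ∃ p ∈ P, f (J p) p ≠ 0 := by
    by_contra hno; push Not at hno
    have hperp : MaxCl.perp hf P = P := (Submodule.eq_of_le_of_finrank_le
      (fun x hx => (MaxCl.mem_perp hf).2 (hPi x hx)) (by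
        have := MaxCl.finrank_perp hf P; omega)).symm
    have hJP : ∀ x ∈ P, J x ∈ P := by
      intro x hx
      rw [← hperp, MaxCl.mem_perp hf]
      intro y hy
      have h := hno (x + y) (P.add_mem hx hy)
      rw [map_add, f_add_left hf, f_add_right hf, f_add_right hf, hno x hx, hno y hy, f_map_comm hf hJ y x] at h
      exact (mul_eq_zero.1 (by linear_combination h : (2 : F) * f (J x) y = 0)).resolve_left hJ.two
    have hga0 : act g a₀ ≠ 0 := fun e => ha₀0 (act_injective g (e.trans (map_zero _).symm))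
    have e := Submodule.eq_of_le_of_finrank_le (jl_le hJP (hPg _ (self_mem_jl a₀)))
      (by rw [hPd, hjl2 _ hga0])
    exact hga (e ▸ hPg _ (map_mem_jl a₀))
  obtain ⟨q', hq', hq'0⟩ := Submodule.exists_mem_ne_zero_of_ne_bot
    (LinearMap.ker_ne_bot_of_finrank_lt (f := (toBil hf.bilinear (J p)).comp P.subtype)
      (by rw [Module.finrank_self, hPd]; omega))
  obtain ⟨p', hp', hp'0, hJpp⟩ : ∃ p' ∈ P, p' ≠ 0 ∧ f (J p) p' = 0 :=
    ⟨q', q'.2, fun e => hq'0 (Subtype.ext e), LinearMap.mem_ker.1 hq'⟩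
  clear hq' hq'0
  obtain ⟨a, ha_mem, hga'⟩ : ∃ a ∈ jl J a₀, act g a = p' := by
    rw [hP] at hp'
    obtain ⟨x, hx, e⟩ := hp'
    exact ⟨x, hx, e⟩
  have ha0 : a ≠ 0 := fun e => hp'0 (by rw [← hga', e, map_zero])
  have ha : f (J a) a = 0 := f_eq_zero_on_line hf hJ ha₀ (jl_stable hJ a₀ a ha_mem) ha_mem
  have hJa : f a (J a) = 0 := f_eq_zero_symm hf ha
  obtain ⟨u, hu⟩ : ∃ u, u = act g (J a) := ⟨_, rfl⟩
  have huP : u ∈ P := hu ▸ hPg _ (jl_stable hJ a₀ a ha_mem)
  have hpu : f (J p) u ≠ 0 := by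
    intro h0
    have hp'p : p' ∉ F ∙ p := fun h => by
      obtain ⟨s, rfl⟩ := Submodule.mem_span_singleton.1 h
      rw [f_smul_right hf, mul_eq_zero, or_iff_left hQ] at hJpp
      exact hp'0 (by rw [hJpp, zero_smul])
    have hp0 : p ≠ 0 := fun e => hQ (by rw [e, f_zero_right hf])
    have e := Submodule.eq_of_le_of_finrank_le (sup_le ((Submodule.span_singleton_le_iff_mem _ _).2 hp)
      ((Submodule.span_singleton_le_iff_mem _ _).2 hp')) (by
        rw [Submodule.finrank_sup_span_singleton hp'p, finrank_span_singleton hp0, hPd])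
    rw [← e] at huP
    obtain ⟨_, hs, _, ht, hst⟩ := Submodule.mem_sup.1 huP
    obtain ⟨r, rfl⟩ := Submodule.mem_span_singleton.1 hs
    obtain ⟨s, rfl⟩ := Submodule.mem_span_singleton.1 ht
    rw [← hst, f_add_right hf, f_smul_right hf, f_smul_right hf, hJpp, mul_zero, add_zero, mul_eq_zero,
      or_iff_left hQ] at h0
    rw [h0, zero_smul, zero_add, hu, ← hga', ← map_smul] at hst
    exact one_ne_zero (α := F) (neg_eq_zero.1 (comb_eq_zero hJ (a := s) (b := -1) (y := a)
      (by rw [act_injective g hst]; module) ha0).2)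
  -- a scalar of norm one on the line of `p`
  have hd1 : δ - 1 ≠ 0 := sub_ne_zero.2 fun e => hJ.nsq 1 (by rw [one_mul, e])
  obtain ⟨α, β, hαβ, hβ⟩ : ∃ α β : F, α * α - δ * (β * β) = 1 ∧ β ≠ 0 :=
    ⟨1 + 2 / (δ - 1), 2 / (δ - 1), by field_simp; ring, div_ne_zero hJ.two hd1⟩
  obtain ⟨Q, hQdef⟩ : ∃ Q, Q = f (J p) p := ⟨_, rfl⟩
  rw [← hQdef] at hQ
  have hpJp : f p (J p) = -Q := by rw [f_skew hf, hQdef]
  let T : F → (ι → F) →ₗ[F] (ι → F) := fun b => LinearMap.id +
    ((-(α - 1) / Q) • flin hf.bilinear (J p) + (b * δ / Q) • flin hf.bilinear p).smulRight p +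
    (((α - 1) / Q) • flin hf.bilinear p + (-b / Q) • flin hf.bilinear (J p)).smulRight (J p)
  have hT : ∀ b z, T b z = z + (-(α - 1) / Q * f z (J p) + b * δ / Q * f z p) • p +
      ((α - 1) / Q * f z p + -b / Q * f z (J p)) • J p := fun b z => by simp [T, flin_apply]
  obtain ⟨t, ht⟩ := exists_gl_of_injective (T β) (by
    refine Function.LeftInverse.injective (g := ⇑(T (-β))) fun z => ?_
    simp only [hT, f_add_left hf, f_smul_left hf, f_self hf, hpJp, ← hQdef]
    match_scalars <;> field_simp <;> first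
      | ring1
      | linear_combination (f z (J p)) * hαβ
      | linear_combination (-(f z (J p))) * hαβ
      | linear_combination (f z p) * hαβ
      | linear_combination (-(f z p)) * hαβ
      | linear_combination (Q * f z (J p)) * hαβ
      | linear_combination (-(Q * f z (J p))) * hαβ
      | linear_combination (Q * f z p) * hαβ
      | linear_combination (-(Q * f z p)) * hαβ)
  have ht' : ∀ z, act t z = z + (-(α - 1) / Q * f z (J p) + β * δ / Q * f z p) • p +
      ((α - 1) / Q * f z p + -β / Q * f z (J p)) • J p := fun z => (ht z).trans (hT β z)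
  have htf : t ∈ isoGroup f := mem_isoGroup.2 fun x y => by
    rw [ht', ht']
    simp only [f_add_left hf, f_add_right hf, f_smul_left hf, f_smul_right hf, f_self hf, hpJp, ← hQdef,
      f_skew hf p y, f_skew hf (J p) y]
    field_simp
    linear_combination (Q * (f x (J p) * f y p - f x p * f y (J p))) * hαβ
  have htM : t ∈ M := hU t htf fun x => by
    rw [ht', ht', map_add, map_add, map_smul, map_smul, hJ.sq, f_map_map hf hJ, hJ.adj x p]
    match_scalars <;> field_simp <;> ring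
  have htp' : act t p' = p' := by
    rw [ht', f_eq_zero_symm hf hJpp, hPi p' hp' p hp]
    simp
  obtain ⟨k, hk⟩ : ∃ k, k = g⁻¹ * t * g := ⟨_, rfl⟩
  have hkM : k ∈ M := hk ▸ M.mul_mem (M.mul_mem (M.inv_mem hg) htM) hg
  have hkf := mem_isoGroup.1 (hM hkM)
  have hka : act k a = a := by rw [hk, act_mul, act_mul, hga', htp', ← hga', act_inv_act]
  obtain ⟨z, hz⟩ : ∃ z, z = act k (J a) := ⟨_, rfl⟩
  have hzy : f z (J a) ≠ 0 := by
    rw [hz, ← hgf, hk, act_mul, act_mul, act_act_inv, ← hu, ht', hPi u huP p hp, f_skew hf u (J p)]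
    simp only [f_add_left hf, f_smul_left hf, f_self hf, hPi p hp u huP, mul_zero, add_zero, zero_add,
      mul_neg, neg_mul, neg_neg]
    intro e
    refine mul_ne_zero (mul_ne_zero hβ (div_ne_zero hpu hQ)) hpu ?_
    linear_combination e
  -- the vectors pairing with `a` to root elements
  let W : (ι → F) → Prop := fun w => f a w = 0 ∧ ∀ c : F, stv hf a (δ * c) * stv hf w (-c) ∈ M
  have hWy : W (J a) := ⟨hJa, fun c => hY a c (by rw [hq_apply]; exact ha)⟩
  have hWz : W z := by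
    refine ⟨by have := hkf a (J a); rwa [hka, ← hz, hJa] at this, fun c => ?_⟩
    have e : k * (stv hf a (δ * c) * stv hf (J a) (-c)) * k⁻¹ = stv hf a (δ * c) * stv hf z (-c) := by
      rw [show k * (stv hf a (δ * c) * stv hf (J a) (-c)) * k⁻¹ =
        (k * stv hf a (δ * c) * k⁻¹) * (k * stv hf (J a) (-c) * k⁻¹) by group,
        conj_stv hf (hM hkM), conj_stv hf (hM hkM), hka, ← hz]
    exact e ▸ M.mul_mem (M.mul_mem hkM (hWy.2 c)) (M.inv_mem hkM)
  have hstep : ∀ w x, W w → W x → ∀ c : F, W (w + (-c * f w x) • x) := by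
    rintro w x ⟨haw, hw⟩ ⟨hax, hx⟩ c
    refine ⟨by rw [f_add_right hf, f_smul_right hf, haw, hax, mul_zero, add_zero], fun d => ?_⟩
    obtain ⟨h, hh⟩ : ∃ h, h = stv hf a (δ * c) * stv hf x (-c) := ⟨_, rfl⟩
    have hhM : h ∈ M := hh ▸ hx c
    have hha : act h a = a := by
      simp [hh, act_mul, act_stv hf, hax, f_self hf]
    have hhw : act h w = w + (-c * f w x) • x := by
      rw [hh, act_mul, act_stv hf, act_stv hf, f_add_left hf, f_smul_left hf, f_eq_zero_symm hf haw,
        f_eq_zero_symm hf hax]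
      simp
    have e : h * (stv hf a (δ * d) * stv hf w (-d)) * h⁻¹ =
        stv hf a (δ * d) * stv hf (w + (-c * f w x) • x) (-d) := by
      rw [show h * (stv hf a (δ * d) * stv hf w (-d)) * h⁻¹ =
        (h * stv hf a (δ * d) * h⁻¹) * (h * stv hf w (-d) * h⁻¹) by group,
        conj_stv hf (hM hhM), conj_stv hf (hM hhM), hha, hhw]
    exact e ▸ M.mul_mem (M.mul_mem hhM (hw d)) (M.inv_mem hhM)
  obtain ⟨φ, hφ⟩ : ∃ φ, φ = f z (J a) := ⟨_, rfl⟩
  rw [← hφ] at hzy
  have hyz : f (J a) z = -φ := by rw [f_skew hf, hφ]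
  obtain ⟨l, hl0, hl1⟩ := hl
  have w1 : W (z + (l + 1) • J a) := by
    have := hstep z (J a) hWz hWy (-(l + 1) / φ)
    rwa [← hφ, show -(-(l + 1) / φ) * φ = l + 1 by field_simp] at this
  have w2 : W (J a + z) := by
    have := hstep (J a) z hWy hWz (1 / φ)
    rwa [hyz, show -(1 / φ) * -φ = 1 by field_simp, one_smul] at this
  have w3 : W (l • J a) := by
    have := hstep _ _ w1 w2 (-(1 / (φ * l)))
    rw [show f (z + (l + 1) • J a) (J a + z) = -(φ * l) by
      simp only [f_add_left hf, f_add_right hf, f_smul_left hf, f_self hf, hyz, ← hφ]; ring] at this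
    convert this using 1
    match_scalars <;> field_simp <;> ring
  refine ⟨a, ha0, fun c => ?_⟩
  have hne : δ * (1 - l * l) ≠ 0 := mul_ne_zero hδ (sub_ne_zero.2 (Ne.symm hl1))
  obtain ⟨d, hd⟩ : ∃ d, d = c / (δ * (1 - l * l)) := ⟨_, rfl⟩
  have hd' : d * (δ * (1 - l * l)) = c := by rw [hd, div_mul_cancel₀ _ hne]
  have e : stv hf a c = (stv hf a (δ * d) * stv hf (l • J a) (-d)) *
      (stv hf a (δ * -(d * (l * l))) * stv hf (J a) (-(-(d * (l * l))))) := by
    apply gl_ext; intro x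
    simp only [act_mul, act_stv hf, f_add_left hf, f_smul_left hf, f_smul_right hf, f_self hf, hJa, ha, smul_smul]
    match_scalars <;> first | ring1 | linear_combination (-(f x a)) * hd' | linear_combination (f x a) * hd'
  rw [e]
  exact M.mul_mem (w3.2 _) (hWy.2 _)

/-- the two signs of a conjugate structure are orthogonal -/
theorem signs_orth {g : GL ι F} (hg : g ∈ isoGroup f) {x y : ι → F} (hx : act g⁻¹ (J (act g x)) = J x)
    (hy : act g⁻¹ (J (act g y)) = -J y) : f (J x) y = 0 := by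
  have h : f (act g⁻¹ (J (act g x))) y = -f x (act g⁻¹ (J (act g y))) := by
    rw [← mem_isoGroup.1 hg, act_act_inv, hJ.adj, ← mem_isoGroup.1 hg x, act_act_inv]
  rw [hx, hy, f_neg_right hf, neg_neg, ← neg_neg (f x (J y)), ← hJ.adj] at h
  exact (mul_eq_zero.1 (by linear_combination h : (2 : F) * f (J x) y = 0)).resolve_left hJ.two

/-- isotropic vectors with prescribed products on a stable subspace, in the two cases which occur -/
theorem exists_iso_presc' [Finite F] {P : Submodule F (ι → F)} (hP : ∀ x ∈ P, J x ∈ P) (m₀ : ι → F)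
    (h : (∃ r ∈ P, (∀ w ∈ P, f r w = 0) ∧ f r m₀ ≠ 0) ∨
      ((∀ r ∈ P, (∀ w ∈ P, f r w = 0) → r = 0) ∧ finrank F P + 2 ≤ Fintype.card ι)) :
    ∃ m, hq hf J m = 0 ∧ ∀ p ∈ P, f p m = f p m₀ := by
  have hδ := delta_ne hJ
  rcases h with ⟨r, hr, hrad, hrm⟩ | ⟨hnd, hdim⟩
  · obtain ⟨t, ht⟩ : ∃ t, t = hq hf J m₀ / (2 * δ * f m₀ r) := ⟨_, rfl⟩
    have ht' : t * (2 * δ * f m₀ r) = hq hf J m₀ := by
      rw [ht, div_mul_cancel₀ _ (mul_ne_zero (mul_ne_zero hJ.two hδ) (f_ne_symm hf hrm))]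
    refine ⟨m₀ + t • J r, ?_, fun p hp => ?_⟩
    · rw [hq_apply] at ht' ⊢
      rw [map_add, map_smul, hJ.sq, f_add_left hf, f_add_right hf, f_add_right hf, f_smul_left hf, f_smul_left hf,
        f_smul_right hf, f_smul_right hf, f_smul_left hf, f_smul_left hf, f_map_map hf hJ, hrad (J r) (hP r hr),
        f_skew hf r m₀]
      linear_combination -ht'
    · rw [f_add_right hf, f_smul_right hf, ← neg_neg (f p (J r)), ← hJ.adj,
        f_eq_zero_symm hf (hrad (J p) (hP p hp))]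
      ring
  have hWs := perp_stable hf hJ hP
  obtain ⟨p₀, hp₀, w₀, hw₀, hsum⟩ := Submodule.mem_sup.1 (show m₀ ∈ P ⊔ MaxCl.perp hf P by
    have h1 : P ⊓ MaxCl.perp hf P = ⊥ := by
      rw [Submodule.eq_bot_iff]
      rintro r ⟨hr, hr'⟩
      exact hnd r hr ((MaxCl.mem_perp hf).1 hr')
    have h2 := Submodule.finrank_sup_add_finrank_inf_eq P (MaxCl.perp hf P)
    rw [h1, finrank_bot, MaxCl.finrank_perp hf] at h2
    rw [Submodule.eq_top_of_finrank_eq (S := P ⊔ MaxCl.perp hf P) (by rw [Module.finrank_pi]; omega)]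
    trivial)
  have heq : ∀ p ∈ P, f p m₀ = f p p₀ := fun p hp => by
    rw [← hsum, f_add_right hf, f_eq_zero_symm hf ((MaxCl.mem_perp hf).1 hw₀ p hp), add_zero]
  by_cases h0 : p₀ = 0
  · exact ⟨0, by rw [hq_apply, map_zero, f_zero_right hf], fun p hp => by rw [heq p hp, h0]⟩
  obtain ⟨w, hw, hqw⟩ : ∃ w ∈ MaxCl.perp hf P, hq hf J w ≠ 0 := by
    by_contra hno; push Not at hno
    have hpol : ∀ u ∈ MaxCl.perp hf P, ∀ v ∈ MaxCl.perp hf P, f u v = 0 := by
      intro u hu v hv
      have h1 := hno (J u + v) (Submodule.add_mem _ (hWs u hu) hv)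
      have h2 := hno (J u) (hWs u hu)
      have h3 := hno v hv
      rw [hq_apply] at h1 h2 h3
      rw [map_add, f_add_left hf, f_add_right hf, f_add_right hf, f_map_comm hf hJ v (J u), h2, h3, hJ.sq,
        f_smul_left hf] at h1
      exact (mul_eq_zero.1 (by linear_combination h1 : (2 * δ) * f u v = 0)).resolve_left (mul_ne_zero hJ.two hδ)
    have hle : MaxCl.perp hf P ≤ P := fun u hu => by
      have := (MaxCl.mem_perp hf (W := MaxCl.perp hf P)).2 (hpol u hu)
      rwa [MaxCl.perp_perp hf] at this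
    obtain ⟨u, hu, hu0⟩ := Submodule.exists_mem_ne_zero_of_ne_bot (p := MaxCl.perp hf P) (fun e => by
      have := MaxCl.finrank_perp hf P
      rw [e, finrank_bot] at this
      omega)
    exact hu0 (hnd u (hle hu) ((MaxCl.mem_perp hf).1 hu))
  have hjw : jl J w ≤ MaxCl.perp hf P := jl_le hWs hw
  have hpw : p₀ ∉ jl J w := fun hh => h0 (hnd p₀ hp₀ ((MaxCl.mem_perp hf).1 (hjw hh)))
  obtain ⟨y, hy, hy0, hqy⟩ := Orth.exists_singular (hq hf J) (D := jl J w ⊔ F ∙ p₀) (by
    have hli : LinearIndependent F ![w, J w] := LinearIndependent.pair_iff.2 fun s t hst =>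
      comb_eq_zero hJ hst (fun e => hqw (by rw [e, hq_apply, map_zero, f_zero_right hf]))
    rw [Submodule.finrank_sup_span_singleton hpw, jl, finrank_span_eq_card hli, Fintype.card_fin])
  obtain ⟨x, hx, _, hν', hxy⟩ := Submodule.mem_sup.1 hy
  obtain ⟨ν, rfl⟩ := Submodule.mem_span_singleton.1 hν'
  have hν : ν ≠ 0 := by
    intro hh
    rw [hh, zero_smul, add_zero] at hxy
    obtain ⟨r, s, e⟩ := mem_jl.1 (hxy ▸ hx : y ∈ jl J w)
    rw [← e, hq_comb hf hJ, mul_eq_zero, or_iff_left hqw] at hqy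
    by_cases hrs : r = 0 ∧ s = 0
    · exact hy0 (by rw [← e, hrs.1, hrs.2, zero_smul, zero_smul, add_zero])
    · exact norm_ne hJ hrs hqy
  refine ⟨ν⁻¹ • y, ?_, fun p hp => ?_⟩
  · rw [hq_apply] at hqy ⊢
    rw [map_smul, f_smul_left hf, f_smul_right hf, hqy, mul_zero, mul_zero]
  · rw [heq p hp, ← hxy, smul_add, inv_smul_smul₀ hν, f_add_right hf, f_smul_right hf,
      f_eq_zero_symm hf ((MaxCl.mem_perp hf).1 (hjw hx) p hp), mul_zero, zero_add]

/-- a partner of a non-zero vector -/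
theorem exists_iso_partner [Finite F] (hn : 4 ≤ Fintype.card ι) {x : ι → F} (hx : x ≠ 0) (c : F) :
    ∃ a, hq hf J a = 0 ∧ f x a = 1 ∧ f (J x) a = c := by
  obtain ⟨φ, -, h1, h2⟩ := exists_dual_line hf hJ (W := ⊥) (u := x)
    (fun y hy => by rw [(Submodule.mem_bot F).1 hy, map_zero]; exact zero_mem _) (by simpa using hx)
  obtain ⟨ψ, -, h3, h4⟩ := exists_dual_line hf hJ (W := ⊥) (u := J x)
    (fun y hy => by rw [(Submodule.mem_bot F).1 hy, map_zero]; exact zero_mem _) (by simpa using map_ne hJ hx)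
  rw [hJ.sq, map_smul, smul_eq_mul, mul_eq_zero, or_iff_right (delta_ne hJ)] at h4
  obtain ⟨m₀, hm₀⟩ := exists_repr hf (φ + c • ψ)
  have e1 : f x m₀ = 1 := by rw [← hm₀]; simp [h1, h4]
  obtain ⟨a, ha, hap⟩ := exists_iso_presc' hf hJ (P := jl J x) (jl_stable hJ x) m₀ (by
    by_cases hqx : hq hf J x = 0
    · exact Or.inl ⟨x, self_mem_jl x, fun w hw => f_eq_zero_on_line hf hJ hqx (self_mem_jl x) hw,
        by rw [e1]; exact one_ne_zero⟩
    · exact Or.inr ⟨fun r hr h => jl_radical hf hJ hqx hr h, by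
        have := finrank_jl_le (J := J) x; omega⟩)
  refine ⟨a, ha, by rw [hap x (self_mem_jl x), e1], ?_⟩
  rw [hap _ (map_mem_jl x), ← hm₀]; simp [h2, h3]

/-- isotropic vectors span -/
theorem exists_split' [Finite F] (hn : 4 ≤ Fintype.card ι) {x : ι → F} (hx : x ≠ 0) :
    ∃ a, hq hf J a = 0 ∧ hq hf J (x - a) = 0 ∧ f x a = 1 := by
  obtain ⟨a, ha, e1, e2⟩ := exists_iso_partner hf hJ hn hx (hq hf J x / 2)
  refine ⟨a, ha, ?_, e1⟩
  rw [hq_apply] at ha e2 ⊢
  have h2 := hJ.two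
  rw [map_sub, f_sub_left hf, f_sub_right hf, f_sub_right hf, ha, f_map_comm hf hJ a x, e2]
  field_simp; ring

/-- a group containing the unitary root elements contains a transvection or normalises the structure -/
theorem exists_full_or_sign [Finite F] (hn : 4 ≤ Fintype.card ι) {M : Subgroup (GL ι F)}
    (hM : M ≤ isoGroup f) (hY : ∀ a c, hq hf J a = 0 → yv hf J δ a c ∈ M)
    (hplane : ∀ g ∈ M, ∀ a, hq hf J a = 0 → act g (J a) ∉ jl J (act g a) → ∃ u, u ≠ 0 ∧ Full hf M u) :
    (∃ u, u ≠ 0 ∧ Full hf M u) ∨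
      ∀ g ∈ M, (∀ x, act g (J x) = J (act g x)) ∨ (∀ x, act g (J x) = -J (act g x)) := by
  rw [or_iff_not_imp_left]
  intro hno
  have hδ := delta_ne hJ
  have hline : ∀ g ∈ M, ∀ a, hq hf J a = 0 → act g (J a) ∈ jl J (act g a) := by
    intro g hg a ha
    by_contra h
    exact hno (hplane g hg a ha h)
  have hsign : ∀ g ∈ M, ∀ a, hq hf J a = 0 →
      act g (J a) = J (act g a) ∨ act g (J a) = -J (act g a) := by
    intro g hg a ha
    rcases eq_or_ne a 0 with rfl | ha0
    · left; simp only [map_zero]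
    obtain ⟨α, β, hαβ⟩ := mem_jl.1 (hline g hg a ha)
    obtain ⟨a₁, ha₁⟩ : ∃ v, v = act g a := ⟨_, rfl⟩
    rw [← ha₁] at hαβ ⊢
    have hgf := hM hg
    have hβ : β ≠ 0 := by
      intro h
      rw [h, zero_smul, add_zero, ha₁, ← map_smul] at hαβ
      have h' := act_injective g hαβ
      obtain ⟨-, h''⟩ := comb_eq_zero hJ (a := α) (b := -1) (y := a) (by rw [h']; module) ha0
      exact one_ne_zero (α := F) (neg_eq_zero.1 h'')
    have ha₁0 : a₁ ≠ 0 := fun e => ha0 (act_injective g (by rw [map_zero, ← ha₁, e]))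
    have hq₁ : f (J a₁) a₁ = 0 := by
      have h : f a₁ (act g (J a)) = 0 := by
        rw [ha₁, mem_isoGroup.1 hgf, f_map_right hf hJ, ← hq_apply hf, ha, neg_zero]
      rw [← hαβ, f_add_right hf, f_smul_right hf, f_smul_right hf, f_self hf, mul_zero, zero_add,
        f_map_right hf hJ] at h
      exact neg_eq_zero.1 ((mul_eq_zero.1 h).resolve_left hβ)
    obtain ⟨d, hd, hd1, hd2⟩ := exists_iso_partner hf hJ hn ha₁0 0
    obtain ⟨x, hx⟩ : ∃ x, x = g * yv hf J δ a 1 * g⁻¹ := ⟨_, rfl⟩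
    have hxM : x ∈ M := hx ▸ M.mul_mem (M.mul_mem hg (hY a 1 ha)) (M.inv_mem hg)
    have hxact : ∀ v, act x v = v + (δ * f v a₁) • a₁ + (-f v (α • a₁ + β • J a₁)) • (α • a₁ + β • J a₁) := by
      intro v
      have e : x = stv hf a₁ (δ * 1) * stv hf (α • a₁ + β • J a₁) (-1) := by
        rw [hx, hαβ, ha₁, ← conj_stv hf hgf a, ← conj_stv hf hgf (J a), yv]; group
      rw [e, act_mul, act_stv hf, act_stv hf]
      simp only [f_add_left hf, f_add_right hf, f_smul_left hf, f_smul_right hf, f_self hf, hq₁,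
        f_eq_zero_symm hf hq₁]
      module
    have d1 : f d a₁ = -1 := by rw [f_skew hf, hd1]
    have d2 : f d (J a₁) = 0 := f_eq_zero_symm hf hd2
    have d3 : f (J d) a₁ = 0 := by rw [f_map_comm hf hJ]; exact hd2
    have d4 : f (J d) (J a₁) = δ := by rw [f_map_map hf hJ, d1]; ring
    have hxd := hxact d
    have hxJd := hxact (J d)
    simp only [f_add_right hf, f_smul_right hf, d1, d2, d3, d4] at hxd hxJd
    obtain ⟨ρ, σ, h⟩ := mem_jl.1 (hline x hxM d hd)
    rw [hxd, hxJd] at h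
    have t1 := congrArg (fun v => f v a₁) h
    have t2 := congrArg (fun v => f v (J a₁)) h
    simp only [map_add, map_smul, map_neg, hJ.sq, f_add_left hf, f_smul_left hf, f_neg_left hf, f_self hf, hq₁,
      f_eq_zero_symm hf hq₁, d1, d2, d3, d4] at t1 t2
    have hρ : ρ = 0 := by linear_combination -t1
    have hσ : σ = 1 := by
      apply mul_right_cancel₀ hδ
      linear_combination t2
    rw [hρ, hσ] at h
    obtain ⟨A, hA⟩ : ∃ A, A = 2 * α * β * δ := ⟨_, rfl⟩
    obtain ⟨B, hB⟩ : ∃ B, B = -δ + α * α + β * β * δ := ⟨_, rfl⟩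
    have hcomb : A • a₁ + B • J a₁ = 0 := by
      rw [hA, hB]
      simp only [map_add, map_smul, map_neg, hJ.sq] at h
      linear_combination (norm := module) h
    obtain ⟨hA0, hB0⟩ := comb_eq_zero hJ hcomb ha₁0
    have hα : α = 0 := by
      have h' : α * (2 * β * δ) = 0 := by rw [← hA0, hA]; ring
      exact (mul_eq_zero.1 h').resolve_right (mul_ne_zero (mul_ne_zero hJ.two hβ) hδ)
    have hb2 : β * β = 1 := mul_right_cancel₀ hδ (by rw [hB, hα] at hB0; linear_combination hB0)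
    rcases mul_self_eq_one_iff.1 hb2 with e | e
    · left; rw [← hαβ, hα, e, zero_smul, zero_add, one_smul]
    · right; rw [← hαβ, hα, e, zero_smul, zero_add, neg_smul, one_smul]
  intro g hg
  have hcj : ∀ a, act g (J a) = J (act g a) → act g⁻¹ (J (act g a)) = J a := fun a h => by
    rw [← h, act_inv_act]
  have hcj' : ∀ a, act g (J a) = -J (act g a) → act g⁻¹ (J (act g a)) = -J a := fun a h => by
    rw [show J (act g a) = -act g (J a) by rw [h, neg_neg], map_neg, act_inv_act]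
  have hmix : ∀ a b, hq hf J a = 0 → hq hf J b = 0 → act g (J a) = J (act g a) →
      act g (J b) = -J (act g b) → a = 0 ∨ b = 0 := by
    intro a b ha hb h1 h2
    have ho := signs_orth hf hJ (hM hg) (hcj a h1) (hcj' b h2)
    have hab : hq hf J (a + b) = 0 := by
      rw [hq_apply] at ha hb ⊢
      rw [map_add, f_add_left hf, f_add_right hf, f_add_right hf, ha, hb, ho, f_map_comm hf hJ b a, ho]; ring
    have key : ∀ y, J (act g y) = -J (act g y) → y = 0 := fun y hy => by
      have h2' : (2 : F) • J (act g y) = 0 := by linear_combination (norm := module) hy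
      by_contra hy0
      exact map_ne hJ (fun e => hy0 (act_injective g (by rw [map_zero, e])))
        ((smul_eq_zero.1 h2').resolve_left hJ.two)
    rcases hsign g hg _ hab with h | h <;> rw [map_add, map_add, h1, h2, map_add, map_add] at h
    · exact Or.inr (key b (by linear_combination (norm := module) -h))
    · exact Or.inl (key a (by linear_combination (norm := module) h))
  have hall : (∀ a, hq hf J a = 0 → act g (J a) = J (act g a)) ∨
      (∀ a, hq hf J a = 0 → act g (J a) = -J (act g a)) := by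
    by_contra hboth
    push Not at hboth
    obtain ⟨⟨x, hx, hx'⟩, y, hy, hy'⟩ := hboth
    have hx0 : x ≠ 0 := fun e => hx' (by simp only [e, map_zero])
    have hy0 : y ≠ 0 := fun e => hy' (by simp only [e, map_zero, neg_zero])
    rcases hmix y x hy hx ((hsign g hg y hy).resolve_right hy') ((hsign g hg x hx).resolve_left hx') with h | h
    · exact hy0 h
    · exact hx0 h
  rcases hall with h | h
  · left; intro x
    rcases eq_or_ne x 0 with rfl | hx
    · simp only [map_zero]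
    obtain ⟨a, ha, hxa, -⟩ := exists_split' hf hJ hn hx
    rw [show x = (x - a) + a by rw [sub_add_cancel]]
    simp only [map_add, h a ha, h _ hxa]
  · right; intro x
    rcases eq_or_ne x 0 with rfl | hx
    · simp only [map_zero, neg_zero]
    obtain ⟨a, ha, hxa, -⟩ := exists_split' hf hJ hn hx
    rw [show x = (x - a) + a by rw [sub_add_cancel]]
    simp only [map_add, h a ha, h _ hxa]
    abel

/-- one transvection on an isotropic vector gives everything -/
theorem full_of_one' [Finite F] (hn : 4 ≤ Fintype.card ι)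
    (hsmall : 6 ≤ Fintype.card ι ∨ ∃ α β : F, α * α - δ * (β * β) = 1 ∧ α ≠ 0 ∧ β ≠ 0) {M : Subgroup (GL ι F)}
    (hY : ∀ a c, hq hf J a = 0 → yv hf J δ a c ∈ M)
    (hS : ∀ α β : F, α * α - δ * (β * β) = 1 → ∃ S ∈ M, S ∈ isoGroup f ∧ ∀ x, act S x = α • x + β • J x)
    {e : ι → F} (he0 : e ≠ 0) (he : hq hf J e = 0) (hFe : Full hf M e) : ∀ v, Full hf M v := by
  have hδ := delta_ne hJ
  have step : ∀ u b, Full hf M u → hq hf J b = 0 → f u (J b) = 0 → f u b ≠ 0 → Full hf M b := by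
    intro u b hu hb h1 h2
    have h := full_conj hf (hY b 1 hb) (yv_mem_iso hf b 1) hu
    rw [act_yv hf hb, yN_apply, h1, mul_zero, zero_smul, sub_zero, mul_one] at h
    have h3 := full_add hf hu h (a := -1) (by
      rw [f_add_left hf, f_smul_left hf, f_self hf, zero_add]
      exact mul_ne_zero (mul_ne_zero hδ h2) (f_ne_symm hf h2))
    rw [neg_smul, one_smul, add_neg_cancel_comm] at h3
    have h4 := full_smul hf h3 (δ * f u b)⁻¹
    rwa [inv_smul_smul₀ (mul_ne_zero hδ h2)] at h4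
  have line : ∀ u v b, Full hf M u → Full hf M v → f v u ≠ 0 → hq hf J b = 0 →
      f v (J b) * f u b - f u (J b) * f v b ≠ 0 → Full hf M b := by
    intro u v b hu hv hvu hb hdet
    refine step (f v (J b) • u + (-f u (J b)) • v) b ?_ hb ?_ ?_
    · rcases eq_or_ne (f u (J b)) 0 with h0 | h0
      · rw [h0, neg_zero, zero_smul, add_zero]; exact full_smul hf hu _
      · rw [add_comm]
        exact full_add hf hu (full_smul hf hv _)
          (by rw [f_smul_left hf]; exact mul_ne_zero (neg_ne_zero.2 h0) hvu) _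
    · rw [f_add_left hf, f_smul_left hf, f_smul_left hf]; ring
    · rw [f_add_left hf, f_smul_left hf, f_smul_left hf]
      convert hdet using 1; ring
  have he' : f (J e) e = 0 := by rw [← hq_apply hf]; exact he
  -- a partner
  obtain ⟨d, hd, hed, hJed⟩ : ∃ d, hq hf J d = 0 ∧ f e d = 1 ∧ f (J e) d = 0 :=
    exists_iso_partner hf hJ hn he0 0
  have hd' : f (J d) d = 0 := by rw [← hq_apply hf]; exact hd
  have hde : f d e = -1 := by rw [f_skew hf, hed]
  have heJd : f e (J d) = 0 := by rw [f_skew hf, f_map_comm hf hJ, hJed, neg_zero]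
  have hFd : Full hf M d := step e d hFe hd heJd (by rw [hed]; exact one_ne_zero)
  -- a full anisotropic vector
  obtain ⟨u₀, hqu, hFu⟩ : ∃ u₀, hq hf J u₀ ≠ 0 ∧ Full hf M u₀ := by
    rcases hsmall with hn6 | ⟨α, β, hαβ, hα, hβ⟩
    swap
    · obtain ⟨S, hSM, hSf, hSx⟩ := hS α β hαβ
      have hFv := full_conj hf hSM hSf hFe
      rw [hSx] at hFv
      refine ⟨d + (1 : F) • (α • e + β • J e), ?_, full_add hf hFv hFd (by
        rw [f_add_right hf, f_smul_right hf, f_smul_right hf, hde, f_eq_zero_symm hf hJed, mul_zero, add_zero,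
          mul_neg, mul_one]
        exact neg_ne_zero.2 hα) 1⟩
      rw [hq_apply, one_smul, map_add, map_add, map_smul, map_smul, hJ.sq]
      simp only [f_add_left hf, f_add_right hf, f_smul_left hf, f_smul_right hf, f_self hf, he', hd',
        f_eq_zero_symm hf he', hed, hde, hJed, f_map_map hf hJ, f_map_comm hf hJ d e, heJd, f_skew hf d (J e)]
      intro h
      exact mul_ne_zero (mul_ne_zero hJ.two hδ) hβ (by linear_combination h)
    obtain ⟨b, hb, b1, b2, b3, b4⟩ : ∃ b, hq hf J b = 0 ∧ f e b = 1 ∧ f (J e) b = 1 ∧ f d b = 0 ∧ f (J d) b = -1 := by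
      obtain ⟨b, hb, hbp⟩ := exists_iso_presc' hf hJ (P := jl J e ⊔ jl J d)
        (sup_stable (jl_stable hJ e) (jl_stable hJ d)) (d - δ⁻¹ • J d - δ⁻¹ • J e) (Or.inr ⟨fun r hr h => by
          obtain ⟨_, h₁, _, h₂, rfl⟩ := Submodule.mem_sup.1 hr
          obtain ⟨p, q, rfl⟩ := mem_jl.1 h₁
          obtain ⟨s, t, rfl⟩ := mem_jl.1 h₂
          have t1 := h e (Submodule.mem_sup_left (self_mem_jl e))
          have t2 := h (J e) (Submodule.mem_sup_left (map_mem_jl e))
          have t3 := h d (Submodule.mem_sup_right (self_mem_jl d))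
          have t4 := h (J d) (Submodule.mem_sup_right (map_mem_jl d))
          have z1 : f e (J e) = 0 := f_eq_zero_symm hf he'
          have z2 : f d (J d) = 0 := f_eq_zero_symm hf hd'
          have z3 : f (J d) e = 0 := by rw [f_map_comm hf hJ]; exact hJed
          simp only [f_add_left hf, f_smul_left hf, f_self hf, f_map_map hf hJ, he', hd', z1, z2, z3, hed, hde, hJed,
            heJd, f_eq_zero_symm hf hJed, mul_zero, add_zero, zero_add, mul_one] at t1 t2 t3 t4
          have hp : p = 0 := by first | exact t3 | linear_combination t3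
          have hs : s = 0 := by linear_combination -t1
          have hq : q = 0 := (mul_eq_zero.1 (by linear_combination -t4 : q * δ = 0)).resolve_right hδ
          have ht : t = 0 := (mul_eq_zero.1 (by linear_combination t2 : t * δ = 0)).resolve_right hδ
          rw [hp, hq, hs, ht]; simp, by
          have := Submodule.finrank_add_le_finrank_add_finrank (jl J e) (jl J d)
          have := finrank_jl_le (J := J) e
          have := finrank_jl_le (J := J) d
          omega⟩)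
      refine ⟨b, hb, ?_, ?_, ?_, ?_⟩
      all_goals rw [hbp _ (by
        first
          | exact Submodule.mem_sup_left (self_mem_jl e)
          | exact Submodule.mem_sup_left (map_mem_jl e)
          | exact Submodule.mem_sup_right (self_mem_jl d)
          | exact Submodule.mem_sup_right (map_mem_jl d))]
      all_goals simp only [f_sub_right hf, f_smul_right hf, f_map_map hf hJ, f_self hf, f_map_right hf hJ, hed, hde,
        hJed, heJd, he', hd']
      · ring
      · field_simp; ring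
      · rw [show f d (J e) = 0 from by rw [f_skew hf, hJed, neg_zero]]; ring
      · field_simp; ring
    have hFb : Full hf M b := line e d b hFe hFd (by rw [hde]; exact neg_ne_zero.2 one_ne_zero) hb (by
      rw [show f d (J b) = 1 by rw [← neg_neg (f d (J b)), ← hJ.adj, b4, neg_neg],
        show f e (J b) = -1 by rw [← neg_neg (f e (J b)), ← hJ.adj, b2], b1, b3]
      norm_num)
    refine ⟨e + b, ?_, ?_⟩
    · rw [hq_apply] at hb ⊢
      rw [map_add, f_add_left hf, f_add_right hf, f_add_right hf, he', hb, f_map_comm hf hJ b e, b2,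
        zero_add, add_zero, one_add_one_eq_two]
      exact hJ.two
    · have := full_add hf hFb hFe (by rw [b1]; exact one_ne_zero) 1
      rwa [one_smul] at this
  -- its image by a scalar of norm one
  have hd1 : δ - 1 ≠ 0 := sub_ne_zero.2 fun e => hJ.nsq 1 (by rw [one_mul, e])
  obtain ⟨α, β, hαβ, hβ⟩ : ∃ α β : F, α * α - δ * (β * β) = 1 ∧ β ≠ 0 :=
    ⟨1 + 2 / (δ - 1), 2 / (δ - 1), by field_simp; ring, div_ne_zero hJ.two hd1⟩
  obtain ⟨S, hSM, hSf, hSx⟩ := hS α β hαβ
  have hFv := full_conj hf hSM hSf hFu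
  rw [hSx] at hFv
  have hiso : ∀ b, hq hf J b = 0 → Full hf M b := by
    intro b hb
    rcases eq_or_ne b 0 with rfl | hb0
    · exact full_zero hf M
    have hu₀0 : u₀ ≠ 0 := fun e => hqu (by rw [e, hq_apply, f_zero_right hf])
    have hub : u₀ ∉ jl J b := by
      intro h
      apply hqu
      obtain ⟨p, r, rfl⟩ := mem_jl.1 h
      rw [hq_comb hf hJ, hb, mul_zero]
    have hbu : b ∉ jl J u₀ := by
      intro h
      obtain ⟨p, r, e⟩ := mem_jl.1 h
      refine hub (mem_of_comb hJ (jl_stable hJ b) (a := p) (b := r) (by rw [e]; exact self_mem_jl b)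
        fun h' => hb0 (by rw [← e, h'.1, h'.2, zero_smul, zero_smul, add_zero]))
    have hqu' : f (J u₀) u₀ ≠ 0 := by rwa [hq_apply] at hqu
    by_cases hperp : f u₀ b = 0 ∧ f (J u₀) b = 0
    swap
    · refine line u₀ _ b hFu hFv ?_ hb ?_
      · rw [f_add_left hf, f_smul_left hf, f_smul_left hf, f_self hf, mul_zero, zero_add]
        exact mul_ne_zero hβ hqu'
      · rw [f_add_left hf, f_smul_left hf, f_smul_left hf, f_add_left hf, f_smul_left hf, f_smul_left hf,
          f_map_map hf hJ, show f u₀ (J b) = -f (J u₀) b by rw [hJ.adj, neg_neg]]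
        intro h
        refine mul_ne_zero hβ (norm_ne hJ (a := f (J u₀) b) (b := f u₀ b) fun hh => hperp ⟨hh.2, hh.1⟩) ?_
        linear_combination h
    obtain ⟨φ, hφ0, hφ1, hφ2⟩ := exists_dual_line hf hJ (jl_stable hJ u₀) hbu
    obtain ⟨ψ, hψ0, hψ1, hψ2⟩ := exists_dual_line hf hJ (jl_stable hJ b) hub
    obtain ⟨m₀, hm₀⟩ := exists_repr hf (ψ - φ)
    have hm1 : f b m₀ = -1 := by rw [← hm₀]; simp [hφ1, hψ0 b (self_mem_jl b)]
    obtain ⟨c, hc, hcp⟩ := exists_iso_presc' hf hJ (P := jl J b ⊔ jl J u₀)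
      (sup_stable (jl_stable hJ b) (jl_stable hJ u₀)) m₀
      (Or.inl ⟨b, Submodule.mem_sup_left (self_mem_jl b), fun w hw => by
        obtain ⟨x, hx, _, h₂, rfl⟩ := Submodule.mem_sup.1 hw
        obtain ⟨p, q, rfl⟩ := mem_jl.1 h₂
        rw [f_add_right hf, f_eq_zero_on_line hf hJ hb (self_mem_jl b) hx, f_add_right hf, f_smul_right hf,
          f_smul_right hf, f_eq_zero_symm hf hperp.1, f_eq_zero_symm hf hperp.2]
        ring, by rw [hm1]; exact neg_ne_zero.2 one_ne_zero⟩)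
    have c1 : f b c = -1 := by
      rw [hcp b (Submodule.mem_sup_left (self_mem_jl b)), ← hm₀]
      simp [hφ1, hψ0 b (self_mem_jl b)]
    have c2 : f (J b) c = 0 := by
      rw [hcp _ (Submodule.mem_sup_left (map_mem_jl b)), ← hm₀]
      simp [hφ2, hψ0 _ (map_mem_jl b)]
    have c3 : f u₀ c = 1 := by
      rw [hcp u₀ (Submodule.mem_sup_right (self_mem_jl u₀)), ← hm₀]
      simp [hψ1, hφ0 u₀ (self_mem_jl u₀)]
    have c4 : f u₀ (J c) = 0 := by
      rw [← neg_neg (f u₀ (J c)), ← hJ.adj, hcp _ (Submodule.mem_sup_right (map_mem_jl u₀)), ← hm₀]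
      simp [hψ2, hφ0 _ (map_mem_jl u₀)]
    have hFc : Full hf M c := by
      refine line u₀ _ c hFu hFv ?_ hc ?_
      · rw [f_add_left hf, f_smul_left hf, f_smul_left hf, f_self hf, mul_zero, zero_add]
        exact mul_ne_zero hβ hqu'
      · rw [f_add_left hf, f_smul_left hf, f_smul_left hf, f_map_map hf hJ, c3, c4]
        simp only [mul_one, mul_zero, zero_mul, sub_zero, zero_add]
        exact mul_ne_zero hβ (neg_ne_zero.2 hδ)
    refine step c b hFc hb ?_ (f_ne_symm hf (by rw [c1]; exact neg_ne_zero.2 one_ne_zero))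
    exact f_eq_zero_symm hf c2
  intro v
  rcases eq_or_ne v 0 with rfl | hv
  · exact full_zero hf M
  obtain ⟨a, ha, hva, h1⟩ := exists_split' hf hJ hn hv
  have := full_add hf (hiso a ha) (hiso _ hva) (by
    rw [f_sub_left hf, h1, f_self hf, sub_zero]; exact one_ne_zero) 1
  rwa [one_smul, sub_add_cancel] at this

end Cfsg.Agent.MaxCl.SpU
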