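/-
Maximality of the geometric types of subgroups of symplectic groups, without the restriction to large dimension:
non-degenerate subspaces, pairs of totally singular subspaces, extension fields of both kinds, subfields.
-/
import Cfsg.Agent.Lib.MaxCl.SympAnyRank
import Cfsg.Agent.Lib.MaxCl.SympPairTwo
import Cfsg.Agent.Lib.MaxCl.SympRoot
import Cfsg.Agent.Lib.MaxCl.SympSubfield
import Cfsg.Agent.Lib.MaxCl.SympUnitaryPlane

set_option autoImplicit false
set_option linter.style.haveILetI false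
set_option synthInstance.maxHeartbeats 200000
set_option maxHeartbeats 800000

open Cfsg
open scoped Matrix

namespace Cfsg.Agent.MaxCl
/-- The stabiliser of a non-degenerate subspace of less than half the dimension is maximal. -/
theorem sp_nondeg_maximal {F : Type*} [Field F] [Fintype F] (m : ℕ) (hm : 3 ≤ m) (W : Submodule F (Fin m ⊕ Fin m → F)) (hW0 : W ≠ ⊥) (hW : Cfsg.Geo.IsNondegenerateOn (Cfsg.sympForm m F) W) (hdim : Module.finrank F W < m) : Cfsg.Geo.IsMaximalIn (Cfsg.spGL m F) (Cfsg.Geo.subspaceStabilizer W ⊓ Cfsg.spGL m F) := by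
  have hf := sympForm_isSymplectic m F
  set f := Cfsg.sympForm m F
  have hcard : Fintype.card (Fin m ⊕ Fin m) = m + m := by simp
  have hdisj : ∀ x, x ∈ W → x ∈ perp hf W → x = 0 := by
    intro x hx hx'
    by_contra h0
    obtain ⟨y, hy, hxy⟩ := (hW x hx h0).2
    exact hxy ((mem_perp hf).1 hx' y hy)
  have hsup : ∀ v, ∃ a ∈ W, ∃ b ∈ perp hf W, a + b = v := by
    intro v
    refine Submodule.mem_sup.1 ?_
    have : W ⊔ perp hf W = ⊤ := by
      apply Submodule.eq_top_of_finrank_eq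
      have h := Submodule.finrank_sup_add_finrank_inf_eq W (perp hf W)
      have hinf : W ⊓ perp hf W = ⊥ := (Submodule.eq_bot_iff _).2 fun x hx => hdisj x hx.1 hx.2
      rw [hinf, finrank_bot, finrank_perp hf, hcard] at h
      rw [Module.finrank_pi, hcard]
      omega
    rw [this]; trivial
  -- a vector outside both subspaces
  obtain ⟨a₀, ha₀, ha₀0⟩ : ∃ a ∈ W, a ≠ 0 := Submodule.exists_mem_ne_zero_of_ne_bot hW0
  obtain ⟨b₀, hb₀, hb₀0⟩ : ∃ b ∈ perp hf W, b ≠ 0 := by
    apply Submodule.exists_mem_ne_zero_of_ne_bot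
    intro h
    have := finrank_perp hf W
    rw [h, finrank_bot, hcard] at this
    omega
  refine ⟨lt_of_le_of_ne inf_le_right ?_, ?_⟩
  · intro heq
    have hmem := (inf_eq_right.1 heq) (stv_mem hf (a₀ + b₀) 1 : stv hf (a₀ + b₀) 1 ∈ Cfsg.spGL m F)
    obtain ⟨x, hx, hxa⟩ := (hW a₀ ha₀ ha₀0).1
    have h1 := (mem_subspaceStabilizer.1 hmem x).1 hx
    have hfx : f x (a₀ + b₀) = f x a₀ := by
      rw [f_add_right hf, f_eq_zero_symm hf ((mem_perp hf).1 hb₀ x hx), add_zero]
    rw [act_stv hf, one_mul, hfx, W.add_mem_iff_right hx, W.smul_mem_iff hxa,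
      W.add_mem_iff_right ha₀] at h1
    exact hb₀0 (hdisj _ h1 hb₀)
  intro M hM1 hM2
  by_cases hsub : M ≤ Cfsg.Geo.subspaceStabilizer W
  · exact Or.inl (le_antisymm (le_inf hsub hM2) hM1)
  right
  obtain ⟨g, hgM, hg⟩ := SetLike.not_le_iff_exists.1 hsub
  have hgf : g ∈ isoGroup f := hM2 hgM
  have hWf : ∀ u, u ∈ W ∨ u ∈ perp hf W → Full hf M u := fun u hu c =>
    hM1 ⟨stv_mem_stabilizer hf hu c, stv_mem hf u c⟩
  obtain ⟨a, ha, b, hb, ha0, hb0, hab⟩ : ∃ a ∈ W, ∃ b ∈ perp hf W, a ≠ 0 ∧ b ≠ 0 ∧ Full hf M (a + b) := by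
    by_contra hno; push Not at hno
    have hall : ∀ u, u ∈ W ∨ u ∈ perp hf W → act g u ∈ W ∨ act g u ∈ perp hf W := by
      intro u hu
      obtain ⟨a, ha, b, hb, e⟩ := hsup (act g u)
      rcases eq_or_ne a 0 with rfl | ha0
      · right; rw [← e, zero_add]; exact hb
      rcases eq_or_ne b 0 with rfl | hb0
      · left; rw [← e, add_zero]; exact ha
      exact absurd (e ▸ full_conj hf hgM hgf (hWf u hu)) (hno a ha b hb ha0 hb0)
    have hcl : ∀ U : Submodule F (Fin m ⊕ Fin m → F), (∀ u ∈ U, u ∈ W ∨ u ∈ perp hf W) →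
        U.map (act g) ≤ W ∨ U.map (act g) ≤ perp hf W := by
      intro U hU
      by_contra h; push Not at h
      obtain ⟨x, hx, hxW⟩ := SetLike.not_le_iff_exists.1 h.1
      obtain ⟨y, hy, hyW⟩ := SetLike.not_le_iff_exists.1 h.2
      have mem : ∀ z ∈ U.map (act g), z ∈ W ∨ z ∈ perp hf W := by
        rintro _ ⟨u, hu, rfl⟩; exact hall u (hU u hu)
      have hx' := (mem x hx).resolve_left hxW
      have hy' := (mem y hy).resolve_right hyW
      rcases mem (x + y) (add_mem hx hy) with hh | hh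
      · exact hxW (by simpa using W.sub_mem hh hy')
      · exact hyW (by simpa using (perp hf W).sub_mem hh hx')
    apply hg
    refine mem_subspaceStabilizer_of_le fun v hv => ?_
    rcases hcl W (fun u hu => Or.inl hu) with h | h
    · exact h ⟨v, hv, rfl⟩
    rcases hcl (perp hf W) (fun u hu => Or.inr hu) with h' | h'
    · have := Submodule.finrank_mono h'
      rw [finrank_map_act, finrank_perp hf, hcard] at this
      omega
    have e : (perp hf W).map (act g) = perp hf W :=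
      Submodule.eq_of_le_of_finrank_eq h' (finrank_map_act _ _)
    rw [map_perp hf hgf] at e
    have e' : W.map (act g) = W := by rw [← perp_perp hf (W.map (act g)), e, perp_perp hf]
    exact e' ▸ ⟨v, hv, rfl⟩
  refine le_antisymm hM2 (isoGroup_le_of_full hf M fun v => ?_)
  obtain ⟨a', ha', b', hb', rfl⟩ := hsup v
  rcases eq_or_ne a' 0 with rfl | ha'0
  · rw [zero_add]; exact hWf _ (Or.inr hb')
  rcases eq_or_ne b' 0 with rfl | hb'0
  · rw [add_zero]; exact hWf _ (Or.inl ha')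
  have hbW : ∀ w ∈ W, f b w = 0 := (mem_perp hf).1 hb
  have h1 := full_move_in hf hW (fun u hu => hWf u (Or.inl hu)) ha ha0 hbW hab ha' ha'0
  have hperpnd : Cfsg.Geo.IsNondegenerateOn f (perp hf W) := by
    intro w hw hw0
    obtain ⟨x, hx⟩ := (hf.nondegenerate w hw0).1
    obtain ⟨p, hp, r, hr, rfl⟩ := hsup x
    rw [f_add_left hf, f_eq_zero_symm hf ((mem_perp hf).1 hw p hp), zero_add] at hx
    exact ⟨⟨r, hr, hx⟩, ⟨r, hr, f_ne_symm hf hx⟩⟩
  rw [add_comm] at h1 ⊢
  exact full_move_in hf hperpnd (fun u hu => hWf u (Or.inr hu)) hb hb0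
    (fun w hw => f_eq_zero_symm hf ((mem_perp hf).1 hw a' ha')) h1 hb' hb'0

/-- The stabiliser of two complementary totally singular subspaces is maximal in odd characteristic; planes need at
least five scalars. -/
theorem sp_pair_maximal_any {F : Type*} [Field F] [Fintype F] (m : ℕ) (hm : 2 ≤ m)
    (hsmall : m = 2 → 5 ≤ Fintype.card F) (hodd : Odd (Fintype.card F)) (D : Fin 2 → Submodule F (Fin m ⊕ Fin m → F)) (hD : Cfsg.Geo.IsMDecomposition m D) (hts : ∀ i, Cfsg.Geo.IsTotallySingularFor (Cfsg.sympForm m F) (D i)) : Cfsg.Geo.IsMaximalIn (Cfsg.spGL m F) (Cfsg.Geo.decompositionStabilizer D ⊓ Cfsg.spGL m F) := by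
  have hf := sympForm_isSymplectic m F
  set f := Cfsg.sympForm m F
  have h2 : (2 : F) ≠ 0 := by
    intro h
    have hF2 : ringChar F = 2 := ringChar.eq_iff.2 (CharTwo.of_one_ne_zero_of_two_eq_zero one_ne_zero h)
    have := FiniteField.even_card_of_char_two hF2
    have := Nat.odd_iff.1 hodd
    omega
  have hdim := hD.finrank_eq
  have hc : IsCompl (D 0) (D 1) := by
    refine ⟨hD.indep.pairwiseDisjoint (by decide : (0 : Fin 2) ≠ 1), codisjoint_iff.2 ?_⟩
    rw [eq_top_iff, ← hD.iSup_eq_top, iSup_le_iff]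
    intro i; fin_cases i
    · exact le_sup_left
    · exact le_sup_right
  have hother : ∀ i : Fin 2, ∃ j, j ≠ i ∧ ∀ l, l = i ∨ l = j := by decide
  have hsplit : ∀ i j : Fin 2, j ≠ i → IsCompl (D i) (D j) := by
    intro i j hij
    fin_cases i <;> fin_cases j <;> first | exact absurd rfl hij | exact hc | exact hc.symm
  have hrep : ∀ (i j : Fin 2), j ≠ i → ∀ v, ∃ p ∈ D i, ∃ q ∈ D j, p + q = v := by
    intro i j hij v
    refine Submodule.mem_sup.1 ?_
    rw [(hsplit i j hij).sup_eq_top]; trivial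
  have hdisj : ∀ (i j : Fin 2), j ≠ i → ∀ x, x ∈ D i → x ∈ D j → x = 0 := fun i j hij x hi hj =>
    Submodule.disjoint_def.1 (hsplit i j hij).disjoint x hi hj
  have hex : ∀ i, ∃ x ∈ D i, x ≠ 0 := fun i => Submodule.exists_mem_ne_zero_of_ne_bot (by
    intro h; have := hdim i; rw [h, finrank_bot] at this; omega)
  -- a vector of `D j` with prescribed products against two vectors of `D i`
  have hdual : ∀ (i j : Fin 2), j ≠ i → ∀ a ∈ D i, ∀ p ∈ D i, p ∉ F ∙ a →
      ∃ c ∈ D j, f a c = 0 ∧ f p c = 1 := by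
    intro i j hij a ha p hp hpa
    obtain ⟨φ, h0, h1⟩ := exists_dual _ hpa
    obtain ⟨w, hw⟩ := exists_repr hf φ
    obtain ⟨u, hu, c, hc', rfl⟩ := hrep i j hij w
    refine ⟨c, hc', ?_, ?_⟩
    · have := hw a
      rw [h0 a (Submodule.mem_span_singleton_self a), f_add_right hf, hts i a ha u hu, zero_add] at this
      exact this.symm
    · have := hw p
      rw [h1, f_add_right hf, hts i p hp u hu, zero_add] at this
      exact this.symm
  have hindep : ∀ {a p : Fin m ⊕ Fin m → F}, a ≠ 0 → p ∉ F ∙ a → a ∉ F ∙ p := by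
    intro a p ha hp h
    obtain ⟨s, rfl⟩ := Submodule.mem_span_singleton.1 h
    have hs : s ≠ 0 := by rintro rfl; simp at ha
    exact hp (Submodule.mem_span_singleton.2 ⟨s⁻¹, inv_smul_smul₀ hs p⟩)
  have hmem : ∀ (g : GL (Fin m ⊕ Fin m) F) (σ : Equiv.Perm (Fin 2)),
      (∀ i, ∀ x ∈ D i, act g x ∈ D (σ i)) → g ∈ Cfsg.Geo.decompositionStabilizer D := fun g σ h =>
    ⟨σ, fun i => Submodule.eq_of_le_of_finrank_eq (Submodule.map_le_iff_le_comap.2 (h i))
      (by rw [toLin'_eq_act, finrank_map_act, hdim, hdim])⟩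
  -- strictness
  refine ⟨lt_of_le_of_ne inf_le_right ?_, ?_⟩
  · intro heq
    obtain ⟨u, hu, hu0⟩ := hex 0
    obtain ⟨x, hx⟩ := (hf.nondegenerate u hu0).1
    obtain ⟨p, hp, q, hq, rfl⟩ := hrep 0 1 (by decide) x
    rw [f_add_left hf, hts 0 p hp u hu, zero_add] at hx
    obtain ⟨σ, hσ⟩ := (inf_eq_right.1 heq) (stv_mem hf u 1 : stv hf u 1 ∈ Cfsg.spGL m F)
    have h1 : act (stv hf u 1) q ∈ D (σ 1) := by rw [← hσ 1]; exact ⟨q, hq, rfl⟩
    rw [act_stv hf, one_mul] at h1
    have hs : f q u • u ≠ 0 := smul_ne_zero hx hu0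
    have hq0 : q ≠ 0 := fun h => hx (by rw [h, f_zero_left hf])
    obtain ⟨j, -, hj⟩ := hother 0
    rcases (show σ 1 = 0 ∨ σ 1 = 1 from (by omega)) with h | h <;> rw [h] at h1
    · exact hq0 (hdisj 0 1 (by decide) q (((D 0).add_mem_iff_left ((D 0).smul_mem _ hu)).1 h1) hq)
    · exact hs (hdisj 0 1 (by decide) _ ((D 0).smul_mem _ hu) (((D 1).add_mem_iff_right hq).1 h1))
  intro M hM1 hM2
  by_cases hsub : M ≤ Cfsg.Geo.decompositionStabilizer D
  · exact Or.inl (le_antisymm (le_inf hsub hM2) hM1)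
  right
  obtain ⟨g, hgM, hg⟩ := SetLike.not_le_iff_exists.1 hsub
  have hgf : g ∈ isoGroup f := hM2 hgM
  have hrootH : ∀ (i j : Fin 2), j ≠ i → ∀ a ∈ D i, ∀ b ∈ D j, f a b = 0 → root hf a b ∈ M := by
    intro i j hij a ha b hb hab
    refine hM1 ⟨hmem _ 1 fun l z hz => ?_, root_mem hf a b⟩
    rw [act_root hf hab, Equiv.Perm.one_apply]
    have hl : l = i ∨ l = j := by omega
    rcases hl with rfl | rfl
    · rw [hts l z hz a ha, zero_smul, add_zero]; exact (D l).add_mem hz ((D l).smul_mem _ ha)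
    · rw [hts l z hz b hb, zero_smul, add_zero]; exact (D l).add_mem hz ((D l).smul_mem _ hb)
  -- one vector adapted
  have key : ∀ (i j : Fin 2), j ≠ i → ∀ y ∈ D i, y ≠ 0 → ∀ x, x ∉ D j → f x y = 0 → root hf x y ∈ M →
      ∃ c, c ≠ 0 ∧ stv hf y c ∈ M := by
    intro i j hij y hy hy0 x hx hxy hR
    obtain ⟨p, hp, q, hq, rfl⟩ := hrep i j hij x
    have hpy : f p y = 0 := hts i p hp y hy
    by_cases hdep : p ∈ F ∙ y
    · obtain ⟨a, rfl⟩ := Submodule.mem_span_singleton.1 hdep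
      have ha : a ≠ 0 := by rintro rfl; exact hx (by simpa using hq)
      have hqy : f q y = 0 := by rwa [f_add_left hf, hpy, zero_add] at hxy
      refine ⟨2 * a, mul_ne_zero h2 ha, ?_⟩
      have hY := hrootH i j hij y hy q hq (f_eq_zero_symm hf hqy)
      have e : root hf (a • y + q) y = root hf y q * stv hf y (2 * a) := by
        apply gl_ext; intro z
        rw [act_root hf hxy, act_mul, act_stv hf, act_root hf (f_eq_zero_symm hf hqy)]
        simp only [f_add_left hf, f_add_right hf, f_smul_left hf, f_smul_right hf, f_self hf,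
          f_eq_zero_symm hf hqy]
        match_scalars <;> ring
      rw [e] at hR
      exact (mul_mem_cancel_left hY).1 hR
    · obtain ⟨c, hc', hyc, hpc⟩ := hdual i j hij y hy p hp hdep
      have hh := hrootH i j hij y hy c hc' hyc
      have hmv1 : act (root hf y c) y = y := by
        rw [act_root hf hyc, f_self hf, hyc]; simp
      have hxc : f (p + q) c = 1 := by rw [f_add_left hf, hpc, hts j q hq c hc', add_zero]
      have hmv2 : act (root hf y c) (p + q) = p + q + y := by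
        rw [act_root hf hyc, hxy, hxc]; simp
      have hR' := M.mul_mem (M.mul_mem hh hR) (M.inv_mem hh)
      rw [conj_root hf (root_mem hf _ _), hmv1, hmv2] at hR'
      have e : root hf (p + q + y) y = root hf (p + q) y * stv hf y 2 := by
        apply gl_ext; intro z
        rw [act_root hf (by rw [f_add_left hf, hxy, f_self hf, add_zero]), act_mul, act_stv hf,
          act_root hf hxy]
        generalize p + q = x at hxy ⊢
        have h6 := f_eq_zero_symm hf hxy
        simp only [f_add_left hf, f_add_right hf, f_smul_left hf, f_self hf, h6, hxy]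
        match_scalars <;> ring
      rw [e] at hR'
      exact ⟨2, h2, (mul_mem_cancel_left hR).1 hR'⟩
  -- a transvection in `M`
  obtain ⟨i, y, c₀, hy, hy0, hc₀, hyM⟩ : ∃ (i : Fin 2) (y : Fin m ⊕ Fin m → F) (c : F),
      y ∈ D i ∧ y ≠ 0 ∧ c ≠ 0 ∧ stv hf y c ∈ M := by
    by_cases hm2 : m = 2
    · exact exists_stv_pair hf h2 hD hts hm2 (hsmall hm2) hM1 hM2 hsub key
    have hm : 3 ≤ m := by omega
    obtain ⟨x, y, hxy, hR, hx0, hy0, hna⟩ : ∃ x y, f x y = 0 ∧ root hf x y ∈ M ∧ x ≠ 0 ∧ y ≠ 0 ∧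
        ∀ i j : Fin 2, j ≠ i → ¬ (x ∈ D i ∧ y ∈ D j) := by
      by_contra hno; push Not at hno
      have hin : ∀ i, ∀ a ∈ D i, ∃ l, act g a ∈ D l := by
        intro i a ha
        rcases eq_or_ne a 0 with rfl | ha0
        · exact ⟨0, by simp⟩
        obtain ⟨j, hij, -⟩ := hother i
        obtain ⟨p, hp, hpa⟩ := SetLike.not_le_iff_exists.1 (show ¬ D i ≤ F ∙ a by
          intro hle
          have := Submodule.finrank_mono hle
          rw [finrank_span_singleton ha0, hdim] at this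
          omega)
        obtain ⟨b, hb, hab, hpb⟩ := hdual i j hij a ha p hp hpa
        have hR := M.mul_mem (M.mul_mem hgM (hrootH i j hij a ha b hb hab)) (M.inv_mem hgM)
        rw [conj_root hf hgf] at hR
        obtain ⟨l, l', -, h1, -⟩ := hno (act g a) (act g b) (by rw [mem_isoGroup.1 hgf]; exact hab) hR
          (fun h => ha0 (act_injective g (h.trans (map_zero _).symm)))
          (fun h => by
            have := act_injective g (h.trans (map_zero _).symm)
            rw [this, f_zero_right hf] at hpb; exact zero_ne_one hpb)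
        exact ⟨l, h1⟩
      have hto : ∀ i, ∃ l, ∀ a ∈ D i, act g a ∈ D l := by
        intro i
        by_contra h; push Not at h
        obtain ⟨a, ha, ha'⟩ := h 0
        obtain ⟨b, hb, hb'⟩ := h 1
        obtain ⟨l, hl⟩ := hin i (a + b) ((D i).add_mem ha hb)
        obtain ⟨la, hla⟩ := hin i a ha
        obtain ⟨lb, hlb⟩ := hin i b hb
        have ea : la = 1 := by
          by_contra hne; exact ha' ((show la = 0 by omega) ▸ hla)
        have eb : lb = 0 := by
          by_contra hne; exact hb' ((show lb = 1 by omega) ▸ hlb)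
        subst ea eb
        rw [map_add] at hl
        rcases (show l = 0 ∨ l = 1 by omega) with rfl | rfl
        · exact ha' (((D 0).add_mem_iff_left hlb).1 hl)
        · exact hb' (((D 1).add_mem_iff_right hla).1 hl)
      choose σ hσ using hto
      refine hg (hmem g (Equiv.ofBijective σ (Finite.injective_iff_bijective.1 ?_)) hσ)
      intro a b hab
      by_contra hne
      obtain ⟨u, hu, hu0⟩ := hex a
      have e2 : (D b).map (act g) = D (σ b) :=
        Submodule.eq_of_le_of_finrank_eq (Submodule.map_le_iff_le_comap.2 (hσ b))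
          (by rw [finrank_map_act, hdim, hdim])
      have hgu : act g u ∈ (D b).map (act g) := by rw [e2, ← hab]; exact hσ a u hu
      obtain ⟨w, hw, hwu⟩ := hgu
      rw [act_injective g hwu] at hw
      exact hu0 (hdisj a b (Ne.symm hne) u hu hw)
    by_cases hy' : ∃ i, y ∈ D i
    · obtain ⟨i, hi⟩ := hy'
      obtain ⟨j, hij, -⟩ := hother i
      obtain ⟨c, hc0, hcM⟩ := key i j hij y hi hy0 x (fun h => hna j i hij.symm ⟨h, hi⟩) hxy hR
      exact ⟨i, y, c, hi, hy0, hc0, hcM⟩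
    by_cases hx' : ∃ i, x ∈ D i
    · obtain ⟨i, hi⟩ := hx'
      obtain ⟨j, hij, -⟩ := hother i
      rw [root_comm hf hxy] at hR
      obtain ⟨c, hc0, hcM⟩ := key i j hij x hi hx0 y (fun h => hna i j hij ⟨hi, h⟩)
        (f_eq_zero_symm hf hxy) hR
      exact ⟨i, x, c, hi, hx0, hc0, hcM⟩
    push Not at hx' hy'
    obtain ⟨p, hp, q, hq, rfl⟩ := hrep 0 1 (by decide) x
    obtain ⟨r, hr, u, hu, rfl⟩ := hrep 0 1 (by decide) y
    have hp0 : p ≠ 0 := fun h => hx' 1 (by rw [h, zero_add]; exact hq)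
    have hr0 : r ≠ 0 := fun h => hy' 1 (by rw [h, zero_add]; exact hu)
    have fin : ∀ (i j : Fin 2), j ≠ i → ∀ p ∈ D i, ∀ q ∈ D j, ∀ r ∈ D i, ∀ u ∈ D j, p ≠ 0 → r ≠ 0 →
        f (p + q) (r + u) = 0 → root hf (p + q) (r + u) ∈ M →
        (∃ a ∈ D i, a ≠ 0 ∧ f a q = 0 ∧ f a u = 0 ∧ p ∉ F ∙ a) →
        ∃ (l : Fin 2) (y : Fin m ⊕ Fin m → F) (c : F), y ∈ D l ∧ y ≠ 0 ∧ c ≠ 0 ∧ stv hf y c ∈ M := by
      rintro i j hij p hp q hq r hr u hu hp0 hr0 hxy hR ⟨a, ha, ha0, haq, hau, hpa⟩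
      obtain ⟨b, hb, hab, hpb⟩ := hdual i j hij a ha p hp hpa
      have hxa : f (p + q) a = 0 := by
        rw [f_add_left hf, hts i p hp a ha, f_eq_zero_symm hf haq, add_zero]
      have hya : f (r + u) a = 0 := by
        rw [f_add_left hf, hts i r hr a ha, f_eq_zero_symm hf hau, add_zero]
      have hxb : f (p + q) b = 1 := by rw [f_add_left hf, hpb, hts j q hq b hb, add_zero]
      obtain ⟨ρ, hρ⟩ : ∃ ρ, ρ = f (r + u) b := ⟨_, rfl⟩
      have hh := hrootH i j hij a ha b hb hab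
      have hR' := M.mul_mem (M.mul_mem hh hR) (M.inv_mem hh)
      rw [conj_root hf (root_mem hf _ _), act_root hf hab, act_root hf hab, hxa, hya, hxb, ← hρ,
        zero_smul, add_zero, add_zero, one_smul] at hR'
      set z' := (r + u) + ρ • (p + q) + ρ • a with hz'
      have hax : f a (p + q) = 0 := f_eq_zero_symm hf hxa
      have hay : f a (r + u) = 0 := f_eq_zero_symm hf hya
      have haz : f a z' = 0 := by
        simp only [hz', f_add_right hf, f_smul_right hf, f_self hf] at *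
        rw [hax, hay]; ring
      have e : root hf (p + q + a) (r + u + ρ • a) = root hf (p + q) (r + u) * root hf a z' := by
        apply gl_ext; intro z
        rw [act_root hf (by
          rw [f_add_left hf (p + q) a, f_add_right hf (p + q) (r + u), f_add_right hf a (r + u),
            f_smul_right hf ρ (p + q), f_smul_right hf ρ a a, hxy, hxa, hay, f_self hf]; ring), act_mul, act_root hf haz, act_root hf hxy]
        generalize p + q = x at hax hxy hxa hz' ⊢
        generalize r + u = y at hay hxy hya hz' ⊢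
        have h6 := f_eq_zero_symm hf hxy
        simp only [hz', f_add_left hf, f_add_right hf, f_smul_left hf, f_smul_right hf, f_self hf,
          hax, hay, hxa, hya, hxy, h6]
        match_scalars <;> ring
      rw [e] at hR'
      have hR'' := (mul_mem_cancel_left hR).1 hR'
      rw [root_comm hf haz] at hR''
      have hz1 : z' ∉ D j := by
        intro h
        have h7 : r + ρ • p + ρ • a = 0 := by
          refine hdisj i j hij _ ((D i).add_mem ((D i).add_mem hr ((D i).smul_mem _ hp))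
            ((D i).smul_mem _ ha)) ?_
          have := (D j).sub_mem h ((D j).add_mem hu ((D j).smul_mem ρ hq))
          convert this using 1
          rw [hz', smul_add]; abel
        have h8 := congrArg (fun v => f v b) h7
        simp only [f_add_left hf, f_smul_left hf, hpb, hab, f_zero_left hf, mul_zero, mul_one, add_zero] at h8
        have h9 : f (r + u) b = f r b := by rw [f_add_left hf, hts j u hu b hb, add_zero]
        rw [← h9, ← hρ] at h8
        have hρ0 : ρ = 0 := (mul_eq_zero.1 (by linear_combination h8 : (2 : F) * ρ = 0)).resolve_left h2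
        exact hr0 (by simpa [hρ0] using h7)
      obtain ⟨c, hc0, hcM⟩ := key i j hij a ha ha0 z' hz1 (f_eq_zero_symm hf haz) hR''
      exact ⟨i, a, c, ha, ha0, hc0, hcM⟩
    have hq0 : q ≠ 0 := fun h => hx' 0 (by rw [h, add_zero]; exact hp)
    have hu0 : u ≠ 0 := fun h => hy' 0 (by rw [h, add_zero]; exact hr)
    let Φ := ((flin hf.bilinear q).prod (flin hf.bilinear u)).comp (D 0).subtype
    let W := (LinearMap.ker Φ).map (D 0).subtype
    have hW : ∀ a ∈ W, a ∈ D 0 ∧ f a q = 0 ∧ f a u = 0 := by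
      rintro _ ⟨a, ha, rfl⟩
      have := LinearMap.mem_ker.1 ha
      exact ⟨a.2, congrArg Prod.fst this, congrArg Prod.snd this⟩
    have hWd : 1 ≤ Module.finrank F W := by
      show 1 ≤ Module.finrank F ↥((LinearMap.ker Φ).map (D 0).subtype)
      rw [Submodule.finrank_map_subtype_eq]
      have h3 := LinearMap.finrank_range_add_finrank_ker Φ
      have h4 := Submodule.finrank_le (LinearMap.range Φ)
      rw [Module.finrank_prod, Module.finrank_self] at h4
      rw [hdim] at h3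
      omega
    by_cases hWp : ∃ a ∈ W, a ≠ 0 ∧ p ∉ F ∙ a
    · obtain ⟨a, ha, ha0, hpa⟩ := hWp
      exact fin 0 1 (by decide) p hp q hq r hr u hu hp0 hr0 hxy hR
        ⟨a, (hW a ha).1, ha0, (hW a ha).2.1, (hW a ha).2.2, hpa⟩
    by_cases hWr : ∃ a ∈ W, a ≠ 0 ∧ r ∉ F ∙ a
    · obtain ⟨a, ha, ha0, hra⟩ := hWr
      rw [root_comm hf hxy] at hR
      exact fin 0 1 (by decide) r hr u hu p hp q hq hr0 hp0 (f_eq_zero_symm hf hxy) hR
        ⟨a, (hW a ha).1, ha0, (hW a ha).2.2, (hW a ha).2.1, hra⟩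
    push Not at hWp hWr
    obtain ⟨a, ha, ha0⟩ := Submodule.exists_mem_ne_zero_of_ne_bot (p := W) (fun e => by
      rw [e, finrank_bot] at hWd; omega)
    obtain ⟨s, hs⟩ := Submodule.mem_span_singleton.1 (hWp a ha ha0)
    obtain ⟨t, ht⟩ := Submodule.mem_span_singleton.1 (hWr a ha ha0)
    let Ψ := (flin hf.bilinear a).comp (D 1).subtype
    obtain ⟨c, hc, hqc⟩ : ∃ c ∈ (LinearMap.ker Ψ).map (D 1).subtype, c ∉ F ∙ q := by
      refine SetLike.not_le_iff_exists.1 fun hle => ?_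
      have h5 := Submodule.finrank_mono hle
      rw [Submodule.finrank_map_subtype_eq, finrank_span_singleton hq0] at h5
      have h3 := LinearMap.finrank_range_add_finrank_ker Ψ
      have h4 := Submodule.finrank_le (LinearMap.range Ψ)
      rw [Module.finrank_self] at h4
      rw [hdim] at h3
      omega
    obtain ⟨c', hc', rfl⟩ := hc
    have hca : f (c' : Fin m ⊕ Fin m → F) a = 0 := LinearMap.mem_ker.1 hc'
    have hc0 : (c' : Fin m ⊕ Fin m → F) ≠ 0 := fun h => hqc (by simp [h])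
    refine fin 1 0 (by decide) q hq p hp u hu r hr hq0 hu0 ?_ ?_
      ⟨(c' : Fin m ⊕ Fin m → F), c'.2, hc0, ?_, ?_, hindep hq0 hqc⟩
    · rw [add_comm q, add_comm u]; exact hxy
    · rw [add_comm q, add_comm u]; exact hR
    · rw [← hs, f_smul_right hf, hca, mul_zero]
    · rw [← ht, f_smul_right hf, hca, mul_zero]
  obtain ⟨j, hij, hcov⟩ := hother i
  -- all of `D i`
  have hstep : ∀ u ∈ D i, ∀ w ∈ D i, u ≠ 0 → w ∉ F ∙ u → stv hf u c₀ ∈ M → stv hf w c₀ ∈ M := by
    intro u hu w hw hu0 hwu hM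
    have hn : u ∉ F ∙ (w - u) := by
      intro h
      obtain ⟨s, hs⟩ := Submodule.mem_span_singleton.1 h
      have hs0 : s ≠ 0 := by rintro rfl; rw [zero_smul] at hs; exact hu0 hs.symm
      apply hwu
      refine Submodule.mem_span_singleton.2 ⟨s⁻¹ + 1, ?_⟩
      have h8 : w - u = s⁻¹ • u := by rw [← inv_smul_smul₀ hs0 (w - u), hs]
      rw [add_smul, one_smul, ← h8, sub_add_cancel]
    obtain ⟨b, hb, hab, hub⟩ := hdual i j hij (w - u) ((D i).sub_mem hw hu) u hu hn
    have hh := hrootH i j hij _ ((D i).sub_mem hw hu) b hb hab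
    have := M.mul_mem (M.mul_mem hh hM) (M.inv_mem hh)
    rwa [conj_stv hf (root_mem hf _ _), act_root hf hab, hts i u hu _ ((D i).sub_mem hw hu), hub,
      zero_smul, add_zero, one_smul, add_sub_cancel] at this
  have hall : ∀ w ∈ D i, w ≠ 0 → stv hf w c₀ ∈ M := by
    intro w hw hw0
    by_cases h : w ∈ F ∙ y
    · obtain ⟨z, hz, hzy⟩ := SetLike.not_le_iff_exists.1 (show ¬ D i ≤ F ∙ y by
        intro hle
        have := Submodule.finrank_mono hle
        rw [finrank_span_singleton hy0, hdim] at this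
        omega)
      have hz0 : z ≠ 0 := fun h => hzy (by rw [h]; exact Submodule.zero_mem _)
      refine hstep z hz w hw hz0 (fun hwz => ?_) (hstep y hy z hz hy0 hzy hyM)
      obtain ⟨s, rfl⟩ := Submodule.mem_span_singleton.1 hwz
      have hs : s ≠ 0 := by rintro rfl; simp at hw0
      exact hzy ((Submodule.smul_mem_iff _ hs).1 h)
    · exact hstep y hy w hw hy0 h hyM
  have hfull : ∀ w ∈ D i, Full hf M w := by
    intro w hw c
    obtain ⟨a, b, hab⟩ : ∃ a b : F, a ^ 2 + b ^ 2 = c / c₀ := by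
      obtain ⟨a, b, h⟩ := FiniteField.exists_root_sum_quadratic (f := (Polynomial.X : Polynomial F) ^ 2)
        (g := Polynomial.X ^ 2 - Polynomial.C (c / c₀)) (Polynomial.degree_X_pow 2)
        (Polynomial.degree_X_pow_sub_C (by norm_num) _) (Nat.odd_iff.1 hodd)
      refine ⟨a, b, ?_⟩
      simp only [Polynomial.eval_pow, Polynomial.eval_X, Polynomial.eval_sub, Polynomial.eval_C] at h
      linear_combination h
    have hs : ∀ s : F, stv hf w (s ^ 2 * c₀) ∈ M := by
      intro s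
      rw [← stv_smul]
      rcases eq_or_ne (s • w) 0 with h | h
      · rw [h]
        have : stv hf (0 : Fin m ⊕ Fin m → F) c₀ = 1 := by
          apply gl_ext; intro x; rw [act_stv hf, act_one]; simp
        rw [this]; exact M.one_mem
      · exact hall _ ((D i).smul_mem s hw) h
    have := M.mul_mem (hs a) (hs b)
    rwa [stv_add, ← add_mul, hab, div_mul_cancel₀ _ hc₀] at this
  -- the exchange of the two subspaces
  obtain ⟨h, hhf, hhi, hhj⟩ : ∃ h ∈ isoGroup f, (∀ a ∈ D i, act h a ∈ D j) ∧ ∀ b ∈ D j, act h b ∈ D i := by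
    have hcij := hsplit i j hij
    let π₀ : (Fin m ⊕ Fin m → F) →ₗ[F] D i := Submodule.linearProjOfIsCompl _ _ hcij
    let π₁ : (Fin m ⊕ Fin m → F) →ₗ[F] D j := Submodule.linearProjOfIsCompl _ _ hcij.symm
    let φ : D i ≃ₗ[F] D j := LinearEquiv.ofFinrankEq _ _ (by rw [hdim, hdim])
    let R : (Fin m ⊕ Fin m → F) ≃ₗ[F] Module.Dual F (Fin m ⊕ Fin m → F) :=
      LinearEquiv.ofBijective (toBil hf.bilinear).flip ⟨flin_injective hf, fun ψ => by
        obtain ⟨w, hw⟩ := exists_repr hf ψ; exact ⟨w, LinearMap.ext fun x => (hw x).symm⟩⟩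
    let P : (Fin m ⊕ Fin m → F) →ₗ[F] (Fin m ⊕ Fin m → F) :=
      (D i).subtype ∘ₗ φ.symm.toLinearMap ∘ₗ π₁
    let K : (Fin m ⊕ Fin m → F) →ₗ[F] (Fin m ⊕ Fin m → F) :=
      R.symm.toLinearMap ∘ₗ P.dualMap ∘ₗ R.toLinearMap ∘ₗ (D j).subtype ∘ₗ π₁
    have hK : ∀ z v, f z (K v) = f (P z) (π₁ v : Fin m ⊕ Fin m → F) := by
      intro z v
      have : R (K v) = P.dualMap (R ((π₁ v : D j) : Fin m ⊕ Fin m → F)) := R.apply_symm_apply _
      exact LinearMap.congr_fun this z
    let L : (Fin m ⊕ Fin m → F) →ₗ[F] (Fin m ⊕ Fin m → F) :=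
      (D j).subtype ∘ₗ φ.toLinearMap ∘ₗ π₀ + (D i).subtype ∘ₗ π₀ ∘ₗ K
    have hL : ∀ v, L v = ((φ (π₀ v) : D j) : Fin m ⊕ Fin m → F) + (π₀ (K v) : Fin m ⊕ Fin m → F) :=
      fun v => rfl
    have hsp : ∀ v, (π₀ v : Fin m ⊕ Fin m → F) + (π₁ v : Fin m ⊕ Fin m → F) = v := by
      intro v
      obtain ⟨p, hp, q, hq, rfl⟩ := hrep i j hij v
      have e1 : π₀ (p + q) = ⟨p, hp⟩ := by
        have e0 : π₀ q = 0 := Submodule.linearProjOfIsCompl_apply_right' hcij hq
        rw [map_add, e0, add_zero]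
        exact Submodule.linearProjOfIsCompl_apply_left hcij ⟨p, hp⟩
      have e2 : π₁ (p + q) = ⟨q, hq⟩ := by
        have e0 : π₁ p = 0 := Submodule.linearProjOfIsCompl_apply_right' hcij.symm hp
        rw [map_add, e0, zero_add]
        exact Submodule.linearProjOfIsCompl_apply_left hcij.symm ⟨q, hq⟩
      rw [e1, e2]
    have hpair : ∀ (p : D i) v, f ((φ p : D j) : Fin m ⊕ Fin m → F) (π₀ (K v) : Fin m ⊕ Fin m → F)
        = f (p : Fin m ⊕ Fin m → F) (π₁ v : Fin m ⊕ Fin m → F) := by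
      intro p v
      have h1 := hK ((φ p : D j) : Fin m ⊕ Fin m → F) v
      rw [← hsp (K v), f_add_right hf, hts j _ (φ p).2 _ (π₁ (K v)).2, add_zero] at h1
      rw [h1]
      congr 1
      have e3 : π₁ ((φ p : D j) : Fin m ⊕ Fin m → F) = φ p :=
        Submodule.linearProjOfIsCompl_apply_left hcij.symm (φ p)
      simp only [P, LinearMap.comp_apply, LinearEquiv.coe_coe, Submodule.subtype_apply, e3,
        LinearEquiv.symm_apply_apply]
    have hiso : ∀ u v, f (L u) (L v) = f u v := by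
      intro u v
      rw [hL, hL, f_add_left hf, f_add_right hf, f_add_right hf,
        hts j _ (φ (π₀ u)).2 _ (φ (π₀ v)).2, hts i _ (π₀ (K u)).2 _ (π₀ (K v)).2, hpair,
        f_skew hf (π₀ (K u) : Fin m ⊕ Fin m → F), hpair]
      conv_rhs => rw [← hsp u, ← hsp v, f_add_left hf, f_add_right hf, f_add_right hf,
        hts i _ (π₀ u).2 _ (π₀ v).2, hts j _ (π₁ u).2 _ (π₁ v).2,
        f_skew hf (π₁ u : Fin m ⊕ Fin m → F)]
    have hinj : Function.Injective L := by
      intro u v huv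
      apply flin_injective hf
      apply LinearMap.ext; intro z
      simp only [flin_apply]
      rw [← hiso z u, ← hiso z v, huv]
    obtain ⟨h, hh⟩ := exists_gl_of_injective L hinj
    refine ⟨h, mem_isoGroup.2 fun u v => by rw [hh, hh, hiso], fun a ha => ?_, fun b hb => ?_⟩
    · rw [hh, hL]
      have e2 : π₁ a = 0 := Submodule.linearProjOfIsCompl_apply_right' hcij.symm ha
      have : K a = 0 := by simp [K, e2]
      rw [this, map_zero, Submodule.coe_zero, add_zero]
      exact (φ _).2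
    · rw [hh, hL]
      have e1 : π₀ b = 0 := Submodule.linearProjOfIsCompl_apply_right' hcij hb
      rw [e1, map_zero, Submodule.coe_zero, zero_add]
      exact (π₀ _).2
  have hhM : h ∈ M := by
    refine hM1 ⟨hmem h (Equiv.swap i j) fun l z hz => ?_, hhf⟩
    rcases hcov l with rfl | rfl
    · rw [Equiv.swap_apply_left]; exact hhi z hz
    · rw [Equiv.swap_apply_right]; exact hhj z hz
  have hfullj : ∀ w ∈ D j, Full hf M w := by
    intro w hw
    have hmap : (D i).map (act h) = D j :=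
      Submodule.eq_of_le_of_finrank_eq (Submodule.map_le_iff_le_comap.2 hhi)
        (by rw [finrank_map_act, hdim, hdim])
    obtain ⟨a, ha, rfl⟩ : w ∈ (D i).map (act h) := hmap ▸ hw
    exact full_conj hf hhM hhf (hfull a ha)
  refine le_antisymm hM2 (isoGroup_le_of_full hf M fun v => ?_)
  obtain ⟨p, hp, q, hq, rfl⟩ := hrep i j hij v
  by_cases hpq : f p q = 0
  · rcases eq_or_ne p 0 with rfl | hp0
    · rw [zero_add]; exact hfullj q hq
    obtain ⟨z, hz⟩ := (hf.nondegenerate p hp0).2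
    obtain ⟨z₀, hz₀, z₁, hz₁, rfl⟩ := hrep i j hij z
    rw [f_add_right hf, hts i p hp z₀ hz₀, zero_add] at hz
    have h1 : Full hf M (p + z₁) := by
      simpa using full_add hf (hfullj z₁ hz₁) (hfull p hp) hz 1
    have h3 := full_add hf (hfullj (q - z₁) ((D j).sub_mem hq hz₁)) h1 (by
      rw [f_add_left hf, f_sub_right hf, hpq, hts j z₁ hz₁ _ ((D j).sub_mem hq hz₁), zero_sub, add_zero]
      exact neg_ne_zero.2 hz) 1
    simpa using h3
  · simpa using full_add hf (hfullj q hq) (hfull p hp) hpq 1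

/-- The stabiliser of two complementary totally singular subspaces is maximal in odd characteristic. -/
theorem sp_pair_maximal {F : Type*} [Field F] [Fintype F] (m : ℕ) (hm : 3 ≤ m) (hodd : Odd (Fintype.card F)) (D : Fin 2 → Submodule F (Fin m ⊕ Fin m → F)) (hD : Cfsg.Geo.IsMDecomposition m D) (hts : ∀ i, Cfsg.Geo.IsTotallySingularFor (Cfsg.sympForm m F) (D i)) : Cfsg.Geo.IsMaximalIn (Cfsg.spGL m F) (Cfsg.Geo.decompositionStabilizer D ⊓ Cfsg.spGL m F) :=
  sp_pair_maximal_any m (by omega) (fun h => absurd h (by omega)) hodd D hD hts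

/-- The normaliser of a self-adjoint field of prime degree is maximal. -/
theorem sp_extField_maximal_three {F : Type*} [Field F] [Fintype F] (m : ℕ) (hm : 3 ≤ m) (r : ℕ) (hr : r.Prime) (K : Subalgebra F (Matrix (Fin m ⊕ Fin m) (Fin m ⊕ Fin m) F)) (hK : Cfsg.Geo.IsFieldSubalgebra r K) (hsa : Cfsg.Geo.IsSelfAdjointFor (Cfsg.sympForm m F) K) (halt : ∀ k ∈ K, ∀ v : (Fin m ⊕ Fin m → F), Cfsg.sympForm m F (Matrix.mulVec k v) v = 0) : Cfsg.Geo.IsMaximalIn (Cfsg.spGL m F) (Cfsg.Geo.subalgebraNormalizer K ⊓ Cfsg.spGL m F) := by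
  classical
  have hf := sympForm_isSymplectic m F
  set f := Cfsg.sympForm m F
  haveI : Nonempty (Fin m ⊕ Fin m) := ⟨Sum.inl ⟨0, by omega⟩⟩
  have hfield : IsField K :=
    { exists_pair_ne := ⟨0, 1, fun h => zero_ne_one (α := Matrix (Fin m ⊕ Fin m) (Fin m ⊕ Fin m) F)
        (congrArg Subtype.val h)⟩
      mul_comm := fun a b => Subtype.ext (hK.comm a.1 a.2 b.1 b.2)
      mul_inv_cancel := fun {a} ha => by
        obtain ⟨y, hy, hxy⟩ := hK.inv a.1 a.2 (fun h => ha (Subtype.ext h))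
        exact ⟨⟨y, hy⟩, Subtype.ext hxy⟩ }
  letI : Field K := hfield.toField
  letI : Module K (Fin m ⊕ Fin m → F) :=
    { smul := fun a v => (a : Matrix (Fin m ⊕ Fin m) (Fin m ⊕ Fin m) F) *ᵥ v
      one_smul := fun v => Matrix.one_mulVec v
      mul_smul := fun a b v => (Matrix.mulVec_mulVec v _ _).symm
      smul_zero := fun a => Matrix.mulVec_zero _
      smul_add := fun a v w => Matrix.mulVec_add _ v w
      add_smul := fun a b v => Matrix.add_mulVec _ _ v
      zero_smul := fun v => Matrix.zero_mulVec v }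
  have hsmul : ∀ (a : K) (v : Fin m ⊕ Fin m → F), a • v = (a : Matrix (Fin m ⊕ Fin m) (Fin m ⊕ Fin m) F) *ᵥ v :=
    fun a v => rfl
  haveI : IsScalarTower F K (Fin m ⊕ Fin m → F) := ⟨fun c a v => by
    rw [hsmul, hsmul]
    exact Matrix.smul_mulVec c _ v⟩
  haveI : Module.Finite F K := Module.finite_of_finrank_pos (hK.finrank_eq ▸ hr.pos)
  haveI : Finite K := Module.finite_of_finite F
  have hr' : (Module.finrank F K).Prime := hK.finrank_eq.symm ▸ hr
  have hdim := Module.finrank_mul_finrank F K (Fin m ⊕ Fin m → F)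
  rw [Module.finrank_fintype_fun_eq_card, hK.finrank_eq, Fintype.card_sum, Fintype.card_fin] at hdim
  obtain ⟨d, hd⟩ : ∃ d, d = Module.finrank K (Fin m ⊕ Fin m → F) := ⟨_, rfl⟩
  rw [← hd] at hdim
  have hm2 : 2 ≤ d := by
    by_contra h
    rcases Nat.eq_zero_or_pos d with h0 | h0
    · rw [h0, mul_zero] at hdim; omega
    · rw [show d = 1 by omega, mul_one] at hdim
      rcases hr.eq_one_or_self_of_dvd 2 ⟨m, by omega⟩ with h2 | h2 <;> omega
  have hbig : Module.finrank F K = 2 → 3 ≤ Module.finrank K (Fin m ⊕ Fin m → F) := fun h => by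
    rw [← hd]
    rw [hK.finrank_eq] at h
    rw [h] at hdim
    omega
  obtain ⟨Φ, hΦ⟩ := SpExt.exists_kform (K := K) hf (fun k x y => hsa k.1 k.2 x y)
    fun k x => halt k.1 k.2 x
  have hsemi : ∀ g : GL (Fin m ⊕ Fin m) F, g ∈ Cfsg.Geo.subalgebraNormalizer K ↔ ExtF.IsSemi K g :=
    fun g => ExtF.mem_normalizer_iff K g
  refine ⟨lt_of_le_of_ne inf_le_right fun heq => ?_, fun M hHM hMS => ?_⟩
  · obtain ⟨a, ha⟩ := exists_ne (0 : Fin m ⊕ Fin m → F)
    obtain ⟨k, hk⟩ := ExtF.exists_not_scalar (F := F) hr'.one_lt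
    obtain ⟨x, hx, hxk⟩ : ∃ x, f x a = 0 ∧ f x (k • a) ≠ 0 := by
      obtain ⟨y₀, hy₀⟩ := (hf.nondegenerate a ha).1
      have hne : k • a - (f y₀ (k • a) / f y₀ a) • a ≠ 0 := by
        rw [← algebraMap_smul K (f y₀ (k • a) / f y₀ a) a, ← sub_smul, Ne, smul_eq_zero, sub_eq_zero]
        exact fun h => h.elim (fun h => hk _ h.symm) ha
      obtain ⟨y, hy⟩ := (hf.nondegenerate _ hne).1
      refine ⟨y - (f y a / f y₀ a) • y₀, ?_, fun h => hy ?_⟩
      · rw [f_sub_left hf, f_smul_left hf, div_mul_cancel₀ _ hy₀, sub_self]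
      · rw [f_sub_left hf, f_smul_left hf] at h
        rw [f_sub_right hf, f_smul_right hf, ← h]
        ring
    obtain ⟨k', hk'⟩ := (hsemi _).1 ((inf_eq_right.1 heq) (stv_mem hf a 1)) k
    have h1 := hk' x
    rw [act_stv hf, act_stv hf, hx, mul_zero, zero_smul, add_zero, one_mul,
      SpExt.adjoint hΦ] at h1
    have hc : ∃ c : K, c • x = a := by
      refine ⟨(algebraMap F K (f x (k • a)))⁻¹ * (k' - k), ?_⟩
      rw [mul_smul, sub_smul, ← h1, add_sub_cancel_left, ← algebraMap_smul K (f x (k • a)) a,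
        inv_smul_smul₀ ((map_ne_zero _).2 hxk)]
    obtain ⟨c, hc⟩ := hc
    refine hxk ?_
    rw [← hc, smul_smul, ← one_smul K x]
    simpa using SpExt.f_line hΦ x 1 (k * c)
  · by_cases hsub : M ≤ Cfsg.Geo.subalgebraNormalizer K
    · exact Or.inl (le_antisymm (le_inf hsub hMS) hHM)
    obtain ⟨g, hgM, hg⟩ := SetLike.not_le_iff_exists.1 hsub
    refine Or.inr (le_antisymm hMS (SpExt.iso_le hΦ hf (fun u hu hul => hHM ⟨?_, hu⟩) hMS hr'
      (hd ▸ hm2) hbig hgM fun h => hg ((hsemi g).2 h)))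
    exact (hsemi u).2 fun k => ⟨k, hul k⟩

/-- The normaliser of a quadratic field closed under adjoints and not self-adjoint is maximal in odd characteristic. -/
theorem sp_unitary_maximal_any {F : Type*} [Field F] [Fintype F] (m : ℕ) (hm : 2 ≤ m)
    (hsmall : m = 2 → 5 ≤ Fintype.card F) (hodd : Odd (Fintype.card F)) (K : Subalgebra F (Matrix (Fin m ⊕ Fin m) (Fin m ⊕ Fin m) F)) (hK : Cfsg.Geo.IsFieldSubalgebra 2 K) (hac : Cfsg.Geo.IsAdjointClosedFor (Cfsg.sympForm m F) K) (hnsa : ¬ Cfsg.Geo.IsSelfAdjointFor (Cfsg.sympForm m F) K) : Cfsg.Geo.IsMaximalIn (Cfsg.spGL m F) (Cfsg.Geo.subalgebraNormalizer K ⊓ Cfsg.spGL m F) := by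
  classical
  have hf := sympForm_isSymplectic m F
  set f := Cfsg.sympForm m F
  have hn : 4 ≤ Fintype.card (Fin m ⊕ Fin m) := by simp; omega
  have h2 : (2 : F) ≠ 0 := by
    intro h
    have hF2 : ringChar F = 2 := ringChar.eq_iff.2 (CharTwo.of_one_ne_zero_of_two_eq_zero one_ne_zero h)
    have := FiniteField.even_card_of_char_two hF2
    have := Nat.odd_iff.1 hodd
    omega
  haveI : Nonempty (Fin m ⊕ Fin m) := ⟨Sum.inl ⟨0, by omega⟩⟩
  obtain ⟨k, hk, u₁, v₁, huv⟩ : ∃ k ∈ K, ∃ u v, f (k *ᵥ u) v ≠ f u (k *ᵥ v) := by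
    simp only [Cfsg.Geo.IsSelfAdjointFor, not_forall] at hnsa
    obtain ⟨k, hk, u, v, h⟩ := hnsa
    exact ⟨k, hk, u, v, h⟩
  obtain ⟨k', hk', hadj⟩ := hac k hk
  obtain ⟨j, hjdef⟩ : ∃ j, j = k - k' := ⟨_, rfl⟩
  have hjK : j ∈ K := hjdef ▸ K.sub_mem hk hk'
  have hadj' : ∀ u v, f (k' *ᵥ u) v = f u (k *ᵥ v) := fun u v => by
    rw [f_skew hf, ← hadj, f_skew hf u]
  have hjadj : ∀ u v, f (j *ᵥ u) v = -f u (j *ᵥ v) := fun u v => by
    rw [hjdef, Matrix.sub_mulVec, Matrix.sub_mulVec, f_sub_left hf, f_sub_right hf, hadj, hadj']; ring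
  have hjne : ∀ u : Fin m ⊕ Fin m → F, ∀ a : F, ¬ ∀ x, j *ᵥ x = a • x := by
    intro _ a h
    apply huv
    have hkk : ∀ x, k *ᵥ x = a • x + k' *ᵥ x := fun x => by
      rw [← h x, hjdef, Matrix.sub_mulVec, sub_add_cancel]
    have hb : ∀ x y, a * f x y = 0 := fun x y => by
      have e := hjadj x y
      rw [h, h, f_smul_left hf, f_smul_right hf] at e
      exact (mul_eq_zero.1 (by linear_combination e : (2 : F) * (a * f x y) = 0)).resolve_left h2
    rw [hkk u₁, f_add_left hf, f_smul_left hf, hb, zero_add, hadj']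
  have hindep : ∀ a b : F, a • (1 : Matrix (Fin m ⊕ Fin m) (Fin m ⊕ Fin m) F) + b • j = 0 → a = 0 ∧ b = 0 := by
    intro a b h
    rcases eq_or_ne b 0 with rfl | hb
    · rw [zero_smul, add_zero, smul_eq_zero] at h
      exact ⟨h.resolve_right one_ne_zero, rfl⟩
    · exfalso
      refine hjne u₁ (-(b⁻¹ * a)) fun x => ?_
      have : j = (-(b⁻¹ * a)) • (1 : Matrix (Fin m ⊕ Fin m) (Fin m ⊕ Fin m) F) := by
        rw [neg_smul, ← smul_smul, ← smul_neg, ← eq_neg_of_add_eq_zero_right h, inv_smul_smul₀ hb]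
      rw [this, Matrix.smul_mulVec, Matrix.one_mulVec]
  have hone : (1 : Matrix (Fin m ⊕ Fin m) (Fin m ⊕ Fin m) F) ∈ K := K.one_mem
  have hK2 : ∀ x, x ∈ K → ∃ a b : F, x = a • (1 : Matrix (Fin m ⊕ Fin m) (Fin m ⊕ Fin m) F) + b • j := by
    intro x hx
    have hle : Submodule.span F (Set.range ![(1 : Matrix (Fin m ⊕ Fin m) (Fin m ⊕ Fin m) F), j]) ≤ Subalgebra.toSubmodule K := by
      rw [Submodule.span_le]; rintro _ ⟨i, rfl⟩; fin_cases i <;> assumption
    have hli : LinearIndependent F ![(1 : Matrix (Fin m ⊕ Fin m) (Fin m ⊕ Fin m) F), j] := LinearIndependent.pair_iff.2 hindep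
    have e := Submodule.eq_of_le_of_finrank_le hle (by
      rw [finrank_span_eq_card hli, Fintype.card_fin]; exact hK.finrank_eq.le)
    have hx' : x ∈ Submodule.span F (Set.range ![(1 : Matrix (Fin m ⊕ Fin m) (Fin m ⊕ Fin m) F), j]) := e ▸ hx
    rw [Submodule.mem_span_range_iff_exists_fun] at hx'
    obtain ⟨c, hc⟩ := hx'
    exact ⟨c 0, c 1, by simpa [Fin.sum_univ_two] using hc.symm⟩
  have hmemK : ∀ a b : F, a • (1 : Matrix (Fin m ⊕ Fin m) (Fin m ⊕ Fin m) F) + b • j ∈ K := fun a b =>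
    K.add_mem (K.smul_mem hone a) (K.smul_mem hjK b)
  obtain ⟨δ, b₀, hδb⟩ := hK2 _ (K.mul_mem hjK hjK)
  have hb₀ : b₀ = 0 := by
    by_contra hb
    apply hjne u₁ 0
    intro x
    rw [zero_smul]
    have e : ∀ y, f (j *ᵥ x) y = 0 := by
      intro y
      have h1 : f ((j * j) *ᵥ x) y = f x ((j * j) *ᵥ y) := by
        rw [← Matrix.mulVec_mulVec, ← Matrix.mulVec_mulVec, hjadj, hjadj, neg_neg]
      simp only [hδb, Matrix.add_mulVec, Matrix.smul_mulVec, Matrix.one_mulVec, f_add_left hf,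
        f_add_right hf, f_smul_left hf, f_smul_right hf] at h1
      rw [show f x (j *ᵥ y) = -f (j *ᵥ x) y by rw [hjadj, neg_neg]] at h1
      exact (mul_eq_zero.1 (by linear_combination h1 : ((2 : F) * b₀) * f (j *ᵥ x) y = 0)).resolve_left
        (mul_ne_zero h2 hb)
    by_contra hx
    obtain ⟨y, hy⟩ := (hf.nondegenerate _ hx).2
    exact hy (e y)
  subst hb₀
  rw [zero_smul, add_zero] at hδb
  obtain ⟨J, hJdef⟩ : ∃ J, J = Matrix.toLin' j := ⟨_, rfl⟩
  have hJx : ∀ x, J x = j *ᵥ x := fun x => by rw [hJdef, Matrix.toLin'_apply]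
  have hJ : SpU.IsAntiStr f J δ := by
    refine ⟨fun x y => by rw [hJx, hJx, hjadj], fun x => by
      rw [hJx, hJx, Matrix.mulVec_mulVec, hδb, Matrix.smul_mulVec, Matrix.one_mulVec], fun a ha => ?_, h2⟩
    have hprod : (j - a • (1 : Matrix (Fin m ⊕ Fin m) (Fin m ⊕ Fin m) F)) * (j + a • (1 : Matrix (Fin m ⊕ Fin m) (Fin m ⊕ Fin m) F)) = 0 := by
      rw [sub_mul, mul_add, mul_add, Matrix.mul_smul, Matrix.smul_mul, Matrix.smul_mul, one_mul, mul_one, Matrix.mul_smul,
        smul_smul, hδb, ← ha, mul_one]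
      abel
    have hz : j - a • (1 : Matrix (Fin m ⊕ Fin m) (Fin m ⊕ Fin m) F) ≠ 0 := fun e => one_ne_zero (hindep (-a) 1 (by rw [← e]; module)).2
    obtain ⟨w, hw, hzw⟩ := hK.inv _ (K.sub_mem hjK (K.smul_mem hone a)) hz
    rw [hK.comm _ (K.sub_mem hjK (K.smul_mem hone a)) _ hw] at hzw
    have h0 : j + a • (1 : Matrix (Fin m ⊕ Fin m) (Fin m ⊕ Fin m) F) = 0 := by
      have h := congrArg (· * (j + a • (1 : Matrix (Fin m ⊕ Fin m) (Fin m ⊕ Fin m) F))) hzw
      simp only [mul_assoc, hprod, mul_zero, one_mul] at h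
      exact h.symm
    exact one_ne_zero (hindep a 1 (by rw [← h0]; module)).2
  -- elements normalising
  have hnorm : ∀ (g : Matrix.GeneralLinearGroup (Fin m ⊕ Fin m) F) (s : F), s * s = 1 →
      (∀ x, act g (J x) = s • J (act g x)) → g ∈ Cfsg.Geo.subalgebraNormalizer K := by
    intro g s hs hg x
    have hgj : (g : Matrix (Fin m ⊕ Fin m) (Fin m ⊕ Fin m) F) * j = s • (j * (g : Matrix (Fin m ⊕ Fin m) (Fin m ⊕ Fin m) F)) := by
      apply Matrix.toLin'.injective
      apply LinearMap.ext; intro y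
      rw [map_smul, Matrix.toLin'_mul, Matrix.toLin'_mul, LinearMap.smul_apply, LinearMap.comp_apply,
        LinearMap.comp_apply, toLin'_eq_act, ← hJdef]
      exact hg y
    have hgg : (g : Matrix (Fin m ⊕ Fin m) (Fin m ⊕ Fin m) F) * ((g⁻¹ : Matrix.GeneralLinearGroup (Fin m ⊕ Fin m) F) : Matrix (Fin m ⊕ Fin m) (Fin m ⊕ Fin m) F) = 1 := by
      rw [← Units.val_mul, mul_inv_cancel, Units.val_one]
    have hgg' : ((g⁻¹ : Matrix.GeneralLinearGroup (Fin m ⊕ Fin m) F) : Matrix (Fin m ⊕ Fin m) (Fin m ⊕ Fin m) F) * (g : Matrix (Fin m ⊕ Fin m) (Fin m ⊕ Fin m) F) = 1 := by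
      rw [← Units.val_mul, inv_mul_cancel, Units.val_one]
    have hgi : ((g⁻¹ : Matrix.GeneralLinearGroup (Fin m ⊕ Fin m) F) : Matrix (Fin m ⊕ Fin m) (Fin m ⊕ Fin m) F) * j * (g : Matrix (Fin m ⊕ Fin m) (Fin m ⊕ Fin m) F) = s • j := by
      calc _ = ((g⁻¹ : Matrix.GeneralLinearGroup (Fin m ⊕ Fin m) F) : Matrix (Fin m ⊕ Fin m) (Fin m ⊕ Fin m) F) * ((s * s) • (j * (g : Matrix (Fin m ⊕ Fin m) (Fin m ⊕ Fin m) F))) := by
            rw [hs, one_smul, mul_assoc]
        _ = s • j := by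
            rw [← smul_smul, ← hgj, Matrix.mul_smul, ← mul_assoc, hgg', one_mul]
    constructor
    · intro hx
      obtain ⟨p, r, rfl⟩ := hK2 x hx
      rw [mul_add, add_mul, Matrix.mul_smul, Matrix.mul_smul, mul_one, Matrix.smul_mul, Matrix.smul_mul, hgg, hgj,
        Matrix.smul_mul, mul_assoc, hgg, mul_one, smul_smul]
      exact hmemK _ _
    · intro hx
      obtain ⟨p, r, hpr⟩ := hK2 _ hx
      have : x = ((g⁻¹ : Matrix.GeneralLinearGroup (Fin m ⊕ Fin m) F) : Matrix (Fin m ⊕ Fin m) (Fin m ⊕ Fin m) F) *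
          (p • (1 : Matrix (Fin m ⊕ Fin m) (Fin m ⊕ Fin m) F) + r • j) * (g : Matrix (Fin m ⊕ Fin m) (Fin m ⊕ Fin m) F) := by
        rw [← hpr, ← mul_assoc, ← mul_assoc, hgg', one_mul, mul_assoc, hgg', mul_one]
      rw [this, mul_add, add_mul, Matrix.mul_smul, Matrix.mul_smul, mul_one, Matrix.smul_mul, Matrix.smul_mul, hgg',
        hgi, smul_smul]
      exact hmemK _ _
  change Cfsg.Geo.IsMaximalIn (isoGroup f) (_ ⊓ isoGroup f)
  refine ⟨lt_of_le_of_ne inf_le_right ?_, ?_⟩
  · intro heq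
    obtain ⟨u, -, hu0, -⟩ := Orth.exists_singular (SpU.hq hf J) (D := (⊤ : Submodule F _)) (by
      rw [finrank_top, Module.finrank_pi]; omega)
    obtain ⟨x, hx, hx0⟩ := Submodule.exists_mem_ne_zero_of_ne_bot (p := perp hf (SpU.jl J u))
      (fun e => by
        have := finrank_perp hf (SpU.jl J u)
        have := SpU.finrank_jl_le (J := J) u
        rw [e, finrank_bot] at *
        omega)
    rw [mem_perp hf] at hx
    have hxu := hx u (SpU.self_mem_jl u)
    have hxJu : f (J x) u = 0 := by rw [hJ.adj, hx _ (SpU.map_mem_jl u), neg_zero]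
    set t := stv hf u 1
    have ht : t ∈ Cfsg.Geo.subalgebraNormalizer K := (inf_eq_right.1 heq) (stv_mem hf u 1)
    obtain ⟨p, r, hpr⟩ := hK2 _ ((ht j).1 hjK)
    have key : ∀ y, act t (J (act t⁻¹ y)) = p • y + r • J y := by
      intro y
      have := congrArg (fun z : Matrix (Fin m ⊕ Fin m) (Fin m ⊕ Fin m) F => z *ᵥ y) hpr
      simpa [← Matrix.mulVec_mulVec, act_apply, hJx, Matrix.add_mulVec, Matrix.smul_mulVec] using this
    have hti : act t⁻¹ x = x := by
      apply act_injective t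
      rw [act_act_inv, act_stv hf, hxu]; simp
    have h1 := key x
    rw [hti, act_stv hf, hxJu, mul_zero, zero_smul, add_zero] at h1
    obtain ⟨hp, hr⟩ := SpU.comb_eq_zero hJ (y := x) (a := p) (b := r - 1)
      (by linear_combination (norm := module) -h1) hx0
    rw [sub_eq_zero] at hr
    obtain ⟨y, hy⟩ := (hf.nondegenerate u hu0).1
    have h3 := key (act t y)
    rw [act_inv_act, hp, hr, act_stv hf, act_stv hf, map_add, map_smul, one_mul, one_mul] at h3
    refine hy (SpU.comb_eq_zero hJ (y := u) (a := -f (J y) u) (b := f y u)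
      (by linear_combination (norm := module) -h3) hu0).2
  intro M hM1 hM2
  by_cases hsub : M ≤ Cfsg.Geo.subalgebraNormalizer K
  · exact Or.inl (le_antisymm (le_inf hsub hM2) hM1)
  right
  obtain ⟨g, hgM, hg⟩ := SetLike.not_le_iff_exists.1 hsub
  have hY : ∀ a c, SpU.hq hf J a = 0 → SpU.yv hf J δ a c ∈ M := fun a c ha =>
    hM1 ⟨hnorm _ 1 (one_mul 1) (fun x => by rw [one_smul]; exact SpU.map_yv hf hJ ha c x),
      SpU.yv_mem_iso hf a c⟩
  have hl : m = 2 → ∃ l : F, l ≠ 0 ∧ l * l ≠ 1 := fun hm2 => by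
    have h5 := hsmall hm2
    by_contra hno; push Not at hno
    have : (Finset.univ : Finset F) ⊆ {0, 1, -1} := fun x _ => by
      rcases eq_or_ne x 0 with rfl | hx
      · simp
      · rcases mul_self_eq_one_iff.1 (hno x hx) with rfl | rfl <;> simp
    have := Finset.card_le_card this
    rw [Finset.card_univ] at this
    have := Finset.card_le_three (a := (0 : F)) (b := 1) (c := -1)
    omega
  have hcase : 6 ≤ Fintype.card (Fin m ⊕ Fin m) ∨ m = 2 := by
    rcases (show 3 ≤ m ∨ m = 2 by omega) with h | h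
    · left; simp; omega
    · exact Or.inr h
  have hplane : ∀ g ∈ M, ∀ a, SpU.hq hf J a = 0 → act g (J a) ∉ SpU.jl J (act g a) →
      ∃ u, u ≠ 0 ∧ Full hf M u := fun g hg a ha hga => by
    rcases hcase with h6 | h
    · exact SpU.exists_full_of_plane hf hJ h6 hM2 hY hg ha hga
    · exact SpU.exists_full_of_plane_four hf hJ (by simp [h]) (hl h) hM2 hY
        (fun t ht htJ => hM1 ⟨hnorm t 1 (one_mul 1) (fun x => by rw [one_smul]; exact htJ x), ht⟩) hg ha hga
  rcases SpU.exists_full_or_sign hf hJ hn hM2 hY hplane with ⟨u, hu0, hu⟩ | hall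
  swap
  · exfalso
    rcases hall g hgM with h | h
    · exact hg (hnorm g 1 (one_mul 1) fun x => by rw [one_smul]; exact h x)
    · exact hg (hnorm g (-1) (by ring) fun x => by rw [h x, neg_smul, one_smul])
  obtain ⟨e, he0, he, hFe⟩ := SpU.exists_iso_full hf hJ (by omega) hY hu0 hu
  refine le_antisymm hM2 (isoGroup_le_of_full hf M
    (SpU.full_of_one' hf hJ hn (hcase.imp_right fun h => ?_) hY (fun α β hαβ => ?_) he0 he hFe))
  · obtain ⟨t, ht0, ht1⟩ : ∃ t : F, t ≠ 0 ∧ 1 + δ * (t * t) ≠ 0 := by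
      by_cases h1 : 1 + δ = 0
      · obtain ⟨l, hl0, hl1⟩ := hl h
        exact ⟨l, hl0, fun e => hl1 (by linear_combination -e + (l * l) * h1)⟩
      · exact ⟨1, one_ne_zero, by simpa using h1⟩
    have hd : 1 - δ * (t * t) ≠ 0 := fun e => hJ.nsq (1 / t) (by
      field_simp; linear_combination e)
    exact ⟨(1 + δ * (t * t)) / (1 - δ * (t * t)), 2 * t / (1 - δ * (t * t)), by
      rw [div_mul_div_comm, div_mul_div_comm, ← mul_div_assoc, ← sub_div, div_eq_one_iff_eq (mul_ne_zero hd hd)]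
      ring,
      div_ne_zero ht1 hd, div_ne_zero (mul_ne_zero h2 ht0) hd⟩
  obtain ⟨S, hS⟩ := exists_gl_of_injective (α • LinearMap.id + β • J) (by
    rw [← LinearMap.ker_eq_bot, Submodule.eq_bot_iff]
    intro x hx
    by_contra hx0
    obtain ⟨h1, h3⟩ := SpU.comb_eq_zero hJ (a := α) (b := β) (y := x) (by simpa using hx) hx0
    rw [h1, h3] at hαβ
    simp at hαβ)
  have hS' : ∀ x, act S x = α • x + β • J x := fun x => by rw [hS]; simp
  have hSf : S ∈ isoGroup f := by
    rw [mem_isoGroup]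
    intro x y
    rw [hS', hS', f_add_left hf, f_add_right hf, f_add_right hf, f_smul_left hf,
      f_smul_left hf, f_smul_left hf, f_smul_left hf, f_smul_right hf, f_smul_right hf,
      f_smul_right hf, f_smul_right hf, SpU.f_map_map hf hJ, hJ.adj]
    linear_combination f x y * hαβ
  refine ⟨S, hM1 ⟨hnorm S 1 (one_mul 1) fun x => ?_, hSf⟩, hSf, hS'⟩
  rw [one_smul, hS', hS', map_add, map_smul, map_smul]

/-- The normaliser of a quadratic field closed under adjoints and not self-adjoint is maximal. -/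
theorem sp_unitary_maximal {F : Type*} [Field F] [Fintype F] (m : ℕ) (hm : 3 ≤ m) (hodd : Odd (Fintype.card F)) (K : Subalgebra F (Matrix (Fin m ⊕ Fin m) (Fin m ⊕ Fin m) F)) (hK : Cfsg.Geo.IsFieldSubalgebra 2 K) (hac : Cfsg.Geo.IsAdjointClosedFor (Cfsg.sympForm m F) K) (hnsa : ¬ Cfsg.Geo.IsSelfAdjointFor (Cfsg.sympForm m F) K) : Cfsg.Geo.IsMaximalIn (Cfsg.spGL m F) (Cfsg.Geo.subalgebraNormalizer K ⊓ Cfsg.spGL m F) :=
  sp_unitary_maximal_any m (by omega) (fun h => absurd h (by omega)) hodd K hK hac hnsa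

/-- The isometries rational over a subfield of prime index form a maximal subgroup. -/
theorem sp_subfield_maximal_any {F : Type*} [Field F] [Fintype F] (m : ℕ) (hm : 2 ≤ m)
    (h6 : (2 : F) = 0 → 3 ≤ m) (F₀ : Subfield F) (r : ℕ) (hr : r.Prime) (hcard : Fintype.card F = Nat.card F₀ ^ r) (P : Matrix.GeneralLinearGroup (Fin m ⊕ Fin m) F) (ζ : F) (hζ : ζ ≠ 0) (hP : Cfsg.Geo.IsFormRationalStructure (Cfsg.sympForm m F) F₀ ζ P) : Cfsg.Geo.IsMaximalIn (Cfsg.spGL m F) (Cfsg.Geo.subfieldSubgroup F₀ P ⊓ Cfsg.spGL m F) := by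
  have hf0 := sympForm_isSymplectic m F
  set f := Cfsg.sympForm m F with hfdef
  let h : (Fin m ⊕ Fin m → F) → (Fin m ⊕ Fin m → F) → F := fun u v => ζ * f u v
  have hh : Cfsg.Geo.IsSymplecticForm h := by
    refine ⟨⟨fun x y v => ?_, fun c x v => ?_, fun v x y => ?_, fun c v x => ?_⟩, fun v w => ?_,
      fun v => ?_, fun v hv => ?_⟩
    · simp only [h, f_add_left hf0]; ring
    · simp only [h, f_smul_left hf0]; ring
    · simp only [h, f_add_right hf0]; ring
    · simp only [h, f_smul_right hf0]; ring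
    · simp only [h, f_skew hf0 v w]; ring
    · simp only [h, f_self hf0, mul_zero]
    · obtain ⟨⟨x, hx⟩, ⟨y, hy⟩⟩ := hf0.nondegenerate v hv
      exact ⟨⟨x, mul_ne_zero hζ hx⟩, ⟨y, mul_ne_zero hζ hy⟩⟩
  have e : isoGroup h = Cfsg.spGL m F := by
    ext g
    exact ⟨fun hg u v => mul_left_cancel₀ hζ (hg u v), fun hg u v => congrArg (ζ * ·) (hg u v)⟩
  rw [← e]
  refine subfield_maximal_any hh (by simp; omega) (fun h => by have := h6 h; simp; omega) F₀ r hr hcard P ?_
  rintro _ ⟨u, hu, rfl⟩ _ ⟨v, hv, rfl⟩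
  simp only [h, act_apply]
  exact hP u v hu hv

/-- The subfield groups in dimension at least six. -/
theorem sp_subfield_maximal {F : Type*} [Field F] [Fintype F] (m : ℕ) (hm : 3 ≤ m) (F₀ : Subfield F) (r : ℕ) (hr : r.Prime) (hcard : Fintype.card F = Nat.card F₀ ^ r) (P : Matrix.GeneralLinearGroup (Fin m ⊕ Fin m) F) (ζ : F) (hζ : ζ ≠ 0) (hP : Cfsg.Geo.IsFormRationalStructure (Cfsg.sympForm m F) F₀ ζ P) : Cfsg.Geo.IsMaximalIn (Cfsg.spGL m F) (Cfsg.Geo.subfieldSubgroup F₀ P ⊓ Cfsg.spGL m F) :=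
  sp_subfield_maximal_any m (by omega) (fun _ => hm) F₀ r hr hcard P ζ hζ hP

end Cfsg.Agent.MaxCl
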