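/-
The normaliser of a unitary structure on a symplectic space is maximal: an element outside gives, after commutators
with unitary root elements have adjusted the rank of the defect, an isotropic line whose image spans a totally
isotropic subspace with its multiples, and this yields a symplectic transvection.
-/
import Cfsg.Agent.Lib.MaxCl.SympUnitary
import Mathlib.FieldTheory.ChevalleyWarning

set_option autoImplicit false

namespace Cfsg.Agent.MaxCl.SpU

open scoped MatrixGroups Matrix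
open Module (finrank)

section Orth

variable {ι : Type} [Fintype ι] [DecidableEq ι] {F : Type*} [Field F] [Finite F] {Q : QuadraticForm F (ι → F)}

/-- a singular vector avoiding a small subspace and a hyperplane -/
theorem exists_singular_avoid (hQ : (QuadraticMap.polarBilin Q).Nondegenerate) (h2 : (2 : F) ≠ 0)
    (hn : 14 ≤ Fintype.card ι) {D E S : Submodule F (ι → F)} (hD : Fintype.card ι ≤ finrank F D + 4)
    (hE : finrank F D ≤ finrank F ↥(D ⊓ E) + 1) (hS : finrank F S ≤ 6) (hDE : ¬ D ≤ E) :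
    ∃ t ∈ D, t ∉ S ∧ t ∉ E ∧ Q t = 0 := by
  haveI := Fintype.ofFinite F
  obtain ⟨t, htD, htE, hQt⟩ := exists_singular_outside' hQ hn hD hE hDE
  by_cases htS : t ∉ S
  · exact ⟨t, htD, htS, htE, hQt⟩
  push Not at htS
  obtain ⟨s, hsD, hsS, hQs⟩ := Orth.exists_singular_notMem Q (D := D) (E := S) (by omega)
  by_cases hsE : s ∉ E
  · exact ⟨s, hsD, hsS, hsE, hQs⟩
  push Not at hsE
  have hlt : finrank F ↥(E ⊓ S) < finrank F S :=
    Submodule.finrank_lt_finrank_of_lt (lt_of_le_of_ne inf_le_right fun e => htE (e.ge htS).1)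
  obtain ⟨u, hu, huES, hQu⟩ := Orth.exists_singular_notMem Q
    (D := D ⊓ Orth.perp Q (Submodule.span F (Set.range ![s, t]))) (E := E ⊓ S) (by
      have h1 := Submodule.finrank_sup_add_finrank_inf_eq D (Orth.perp Q (Submodule.span F (Set.range ![s, t])))
      have h3 := Submodule.finrank_le (D ⊔ Orth.perp Q (Submodule.span F (Set.range ![s, t])))
      rw [Module.finrank_pi] at h3
      rw [Orth.finrank_perp hQ] at h1
      have := Orth.finrank_span_list_le (F := F) ![s, t]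
      omega)
  obtain ⟨huD, hup⟩ := hu
  rw [SetLike.mem_coe, Orth.mem_perp_span] at hup
  have hsu : QuadraticMap.polar (⇑Q) s u = 0 := hup s ⟨0, rfl⟩
  have htu : QuadraticMap.polar (⇑Q) t u = 0 := hup t ⟨1, rfl⟩
  by_cases huE : u ∈ E
  · refine ⟨t + u, D.add_mem htD huD, fun h => huES ⟨huE, (S.add_mem_iff_right htS).1 h⟩,
      fun h => htE ((E.add_mem_iff_left huE).1 h), ?_⟩
    rw [Orth.Q_add Q, hQt, hQu, htu]; ring
  · by_cases h : s + u ∈ S
    · refine ⟨s - u, D.sub_mem hsD huD, fun h' => hsS ?_, fun h' => huE ((E.sub_mem_iff_right hsE).1 h'), ?_⟩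
      · have := S.smul_mem (2 : F)⁻¹ (S.add_mem h h')
        rwa [add_add_sub_cancel, ← two_smul F s, smul_smul, inv_mul_cancel₀ h2, one_smul] at this
      · rw [Orth.Q_sub Q, hQs, hQu, hsu]; ring
    · refine ⟨s + u, D.add_mem hsD huD, h, fun h' => huE ((E.add_mem_iff_right hsE).1 h'), ?_⟩
      rw [Orth.Q_add Q, hQs, hQu, hsu]; ring
where
  exists_singular_outside' (hQ : (QuadraticMap.polarBilin Q).Nondegenerate)
      (hn : 14 ≤ Fintype.card ι) {D E : Submodule F (ι → F)} (hD : Fintype.card ι ≤ finrank F D + 4)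
      (hE : finrank F D ≤ finrank F ↥(D ⊓ E) + 1) (hDE : ¬ D ≤ E) : ∃ t ∈ D, t ∉ E ∧ Q t = 0 := by
    obtain ⟨z, hzD, hzE⟩ := SetLike.not_le_iff_exists.1 hDE
    obtain ⟨s, hs, hsP, hQs⟩ := Orth.exists_singular_notMem Q (D := D ⊓ E) (E := Orth.perp Q (D ⊓ E)) (by
      rw [Orth.finrank_perp hQ]
      omega)
    rw [Orth.mem_perp] at hsP
    push Not at hsP
    obtain ⟨e, he, hes⟩ := hsP
    obtain ⟨y, hyD, hyE, hsy⟩ : ∃ y ∈ D, y ∉ E ∧ QuadraticMap.polar (⇑Q) s y ≠ 0 := by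
      by_cases hsz : QuadraticMap.polar (⇑Q) s z = 0
      · refine ⟨z + e, D.add_mem hzD he.1, fun h => hzE ((E.add_mem_iff_left he.2).1 h), ?_⟩
        rw [Orth.B_add_right Q, hsz, zero_add, Orth.B_comm Q s e]; exact hes
      · exact ⟨z, hzD, hzE, hsz⟩
    refine ⟨y - (Q y / QuadraticMap.polar (⇑Q) s y) • s, D.sub_mem hyD (D.smul_mem _ hs.1), fun h => hyE ?_, ?_⟩
    · simpa using E.add_mem h (E.smul_mem (Q y / QuadraticMap.polar (⇑Q) s y) hs.2)
    · rw [Orth.Q_sub Q, Orth.Q_smul Q, Orth.B_smul_right Q, hQs, Orth.B_comm Q y s, div_mul_cancel₀ _ hsy]; ring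

end Orth

variable {ι : Type} [Fintype ι] [DecidableEq ι] {F : Type*} [Field F]
variable {f : (ι → F) → (ι → F) → F} {J : (ι → F) →ₗ[F] (ι → F)} {δ : F}
variable (hf : Cfsg.Geo.IsSymplecticForm f) (hJ : IsAntiStr f J δ)

/-- the conjugate of the structure by `g` -/
noncomputable def cj (J : (ι → F) →ₗ[F] (ι → F)) (g : GL ι F) : (ι → F) →ₗ[F] (ι → F) :=
  act g⁻¹ ∘ₗ J ∘ₗ act g

theorem cj_apply (g : GL ι F) (x : ι → F) : cj J g x = act g⁻¹ (J (act g x)) := rfl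

/-- all multiples of a symmetric form on the line of `e` give elements of `M` -/
def LineForm (f : (ι → F) → (ι → F) → F) (J : (ι → F) →ₗ[F] (ι → F)) (M : Subgroup (GL ι F)) (e : ι → F)
    (A C B : F) : Prop :=
  ∀ c : F, ∃ h ∈ M, ∀ x, act h x =
    x + (c * (A * f x e + C * f x (J e))) • e + (c * (C * f x e + B * f x (J e))) • J e

/-- a good vector for `g`: its line and the image of the line span a totally isotropic subspace -/
def Good (hf : Cfsg.Geo.IsSymplecticForm f) (J : (ι → F) →ₗ[F] (ι → F)) (g : GL ι F) (a : ι → F) : Prop :=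
  a ≠ 0 ∧ hq hf J a = 0 ∧ f (cj J g a) a = 0 ∧ f (cj J g a) (J a) = 0 ∧ f (cj J g (J a)) (J a) = 0 ∧
    cj J g a ≠ J a ∧ cj J g a ≠ -J a

include hf

theorem lineForm_comb {M : Subgroup (GL ι F)} {e : ι → F} (h1 : f (J e) e = 0) {A C B A' C' B' r s : F}
    (h : LineForm f J M e A C B) (h' : LineForm f J M e A' C' B') :
    LineForm f J M e (r * A + s * A') (r * C + s * C') (r * B + s * B') := by
  intro c
  obtain ⟨p, hp, hpx⟩ := h (c * r)
  obtain ⟨q, hq, hqx⟩ := h' (c * s)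
  refine ⟨p * q, M.mul_mem hp hq, fun x => ?_⟩
  have h7 : f e (J e) = 0 := f_eq_zero_symm hf h1
  rw [act_mul, hpx, hqx]
  simp only [f_add_left hf, f_smul_left hf, f_self hf, h1, h7, mul_zero, add_zero]
  module

include hJ

theorem cj_sq (g : GL ι F) (x : ι → F) : cj J g (cj J g x) = δ • x := by
  rw [cj_apply, cj_apply, act_act_inv, hJ.sq, map_smul, act_inv_act]

theorem cj_adj {g : GL ι F} (hg : g ∈ isoGroup f) (x y : ι → F) : f (cj J g x) y = -f x (cj J g y) := by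
  rw [cj_apply, cj_apply, ← mem_isoGroup.1 hg, act_act_inv, hJ.adj, ← mem_isoGroup.1 hg x, act_act_inv]

/-- a good vector gives a transvection -/
theorem exists_full_of_good [Finite F] (hn : 14 ≤ Fintype.card ι) {M : Subgroup (GL ι F)} (hM : M ≤ isoGroup f)
    (hY : ∀ a c, hq hf J a = 0 → yv hf J δ a c ∈ M) {g : GL ι F} (hg : g ∈ M) {a : ι → F} (h : Good hf J g a) :
    ∃ e, e ≠ 0 ∧ hq hf J e = 0 ∧ Full hf M e := by
  obtain ⟨ha0, ha, h3, h4, h5, hne1, hne2⟩ := h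
  have hgf := hM hg
  have ha' : f (J a) a = 0 := by rw [← hq_apply hf]; exact ha
  have hδ := delta_ne hJ
  obtain ⟨a₁, ha₁⟩ : ∃ v, v = act g a := ⟨_, rfl⟩
  obtain ⟨a₂, ha₂⟩ : ∃ v, v = act g (J a) := ⟨_, rfl⟩
  have hJg : ∀ x, J (act g x) = act g (cj J g x) := fun x => by rw [cj_apply, act_act_inv]
  -- the subspace spanned by the two lines is totally isotropic
  have e12 : f a₁ a₂ = 0 := by
    rw [ha₁, ha₂, mem_isoGroup.1 hgf]; exact f_eq_zero_symm hf ha'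
  have e11 : f (J a₁) a₁ = 0 := by rw [ha₁, hJg, mem_isoGroup.1 hgf]; exact h3
  have e13 : f (J a₁) a₂ = 0 := by rw [ha₁, ha₂, hJg, mem_isoGroup.1 hgf]; exact h4
  have e22 : f (J a₂) a₂ = 0 := by rw [ha₂, hJg, mem_isoGroup.1 hgf]; exact h5
  have e23 : f (J a₂) a₁ = 0 := by rw [f_map_comm hf hJ]; exact e13
  have e33 : f (J a₁) (J a₂) = 0 := by rw [f_map_map hf hJ, e12, mul_zero]
  obtain ⟨T, hT⟩ : ∃ T, T = jl J a₁ ⊔ jl J a₂ := ⟨_, rfl⟩
  have hTs : ∀ x ∈ T, J x ∈ T := hT ▸ sup_stable (jl_stable hJ a₁) (jl_stable hJ a₂)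
  have hTT : ∀ x ∈ T, ∀ y ∈ T, f x y = 0 := by
    intro x hx y hy
    rw [hT] at hx hy
    obtain ⟨u, hu, v, hv, rfl⟩ := Submodule.mem_sup.1 hx
    obtain ⟨u', hu', v', hv', rfl⟩ := Submodule.mem_sup.1 hy
    obtain ⟨p, q, rfl⟩ := mem_jl.1 hu
    obtain ⟨r, s, rfl⟩ := mem_jl.1 hv
    obtain ⟨p', q', rfl⟩ := mem_jl.1 hu'
    obtain ⟨r', s', rfl⟩ := mem_jl.1 hv'
    simp only [f_add_left hf, f_add_right hf, f_smul_left hf, f_smul_right hf, f_self hf, e12, e11, e13, e22, e23,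
      e33, f_eq_zero_symm hf e12, f_eq_zero_symm hf e11, f_eq_zero_symm hf e13, f_eq_zero_symm hf e22,
      f_eq_zero_symm hf e23, f_eq_zero_symm hf e33, mul_zero, add_zero]
  have hT1 : a₁ ∈ T := hT ▸ Submodule.mem_sup_left (self_mem_jl a₁)
  have hT2 : a₂ ∈ T := hT ▸ Submodule.mem_sup_right (self_mem_jl a₂)
  have ha₁0 : a₁ ≠ 0 := fun e => ha0 (act_injective g (by rw [map_zero, ← ha₁, e]))
  have hJa₁0 : J a₁ ≠ 0 := fun e => by
    have := hJ.sq a₁
    rw [e, map_zero] at this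
    exact ha₁0 ((smul_eq_zero.1 this.symm).resolve_left hδ)
  -- a further isotropic line
  obtain ⟨e, heP, heT, he⟩ := Orth.exists_singular_notMem (hq hf J) (D := MaxCl.perp hf T) (E := T) (by
    rw [MaxCl.finrank_perp hf]
    have h1 := finrank_jl_le (J := J) a₁
    have h2 := finrank_jl_le (J := J) a₂
    have := Submodule.finrank_add_le_finrank_add_finrank (jl J a₁) (jl J a₂)
    rw [← hT] at this
    omega)
  have he0 : e ≠ 0 := fun h => heT (by rw [h]; exact zero_mem _)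
  have he' : f (J e) e = 0 := by rw [← hq_apply hf]; exact he
  have heJ : J e ∈ MaxCl.perp hf T := perp_stable hf hJ hTs e heP
  rw [MaxCl.mem_perp hf] at heP heJ
  have hTe : ∀ x ∈ T, f x e = 0 := fun x hx => f_eq_zero_symm hf (heP x hx)
  have hTJe : ∀ x ∈ T, f x (J e) = 0 := fun x hx => f_eq_zero_symm hf (heJ x hx)
  have hTe0 : ∀ v ∈ jl J e, v ∈ T → v = 0 := by
    intro v hv hvT
    obtain ⟨p, q, rfl⟩ := mem_jl.1 hv
    by_cases hpq : p = 0 ∧ q = 0
    · rw [hpq.1, hpq.2, zero_smul, zero_smul, add_zero]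
    · exact absurd (mem_of_comb hJ hTs hvT hpq) heT
  -- the forms obtained by moving towards the new line
  have hform : ∀ φ : (ι → F) →ₗ[F] F, φ e = 0 → φ (J e) = 0 → φ a₁ ≠ 0 →
      LineForm f J M e (δ * (δ * φ a₁) ^ 2 - (δ * φ a₂) ^ 2)
        (δ * (δ * φ a₁) * φ (J a₁) - δ * φ a₂ * φ (J a₂)) (δ * φ (J a₁) ^ 2 - φ (J a₂) ^ 2) := by
    intro φ hφe hφJe hφ1
    obtain ⟨m, hm⟩ := exists_repr hf φ
    obtain ⟨b, hb, hbe, hbJe, hbT⟩ : ∃ b, hq hf J b = 0 ∧ f e b = 0 ∧ f (J e) b = 0 ∧ ∀ x ∈ T, f x b = φ x := by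
      refine ⟨m + (-(hq hf J m) / (2 * δ * φ a₁)) • J a₁, ?_, ?_, ?_, fun x hx => ?_⟩
      · obtain ⟨lam, hlam⟩ : ∃ lam, lam = -(hq hf J m) / (2 * δ * φ a₁) := ⟨_, rfl⟩
        have hl : lam * (2 * δ * φ a₁) = -(hq hf J m) := by
          rw [hlam, div_mul_cancel₀ _ (mul_ne_zero (mul_ne_zero hJ.two hδ) hφ1)]
        rw [← hlam, hq_apply hf]
        rw [hq_apply hf] at hl
        have p1 : f (J m) (J a₁) = δ * φ a₁ := by
          rw [f_map_map hf hJ, f_skew hf m a₁, ← hm]; ring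
        have p2 : f a₁ m = φ a₁ := (hm a₁).symm
        have p3 : f a₁ (J a₁) = 0 := f_eq_zero_symm hf e11
        simp only [map_add, map_smul, hJ.sq, f_add_left hf, f_add_right hf, f_smul_left hf, f_smul_right hf,
          p1, p2, p3]
        linear_combination hl
      · rw [f_add_right hf, ← hm, hφe, f_smul_right hf, f_eq_zero_symm hf (hTe _ (hTs _ hT1))]; ring
      · rw [f_add_right hf, ← hm, hφJe, f_smul_right hf, f_eq_zero_symm hf (hTJe _ (hTs _ hT1))]; ring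
      · rw [f_add_right hf, ← hm, f_smul_right hf, hTT x hx _ (hTs _ hT1)]; ring
    obtain ⟨p₁, hp₁⟩ : ∃ p, p = δ * φ a₁ := ⟨_, rfl⟩
    obtain ⟨p₂, hp₂⟩ : ∃ p, p = δ * φ a₂ := ⟨_, rfl⟩
    obtain ⟨w₁, hw₁⟩ : ∃ w, w = p₁ • e + φ (J a₁) • J e := ⟨_, rfl⟩
    obtain ⟨w₂, hw₂⟩ : ∃ w, w = p₂ • e + φ (J a₂) • J e := ⟨_, rfl⟩
    have hstep : ∀ c k : F, stv hf (a₁ + k • w₁) (δ * c) * stv hf (a₂ + k • w₂) (-c) ∈ M := by
      intro c k
      obtain ⟨U, hU, hUf, hUx⟩ := exists_cross hf hJ hY he hb hbe hbJe k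
      have hx : g * yv hf J δ a c * g⁻¹ ∈ M := M.mul_mem (M.mul_mem hg (hY a c ha)) (M.inv_mem hg)
      have h6 := M.mul_mem (M.mul_mem hU hx) (M.inv_mem hU)
      have e0 : g * yv hf J δ a c * g⁻¹ = stv hf a₁ (δ * c) * stv hf a₂ (-c) := by
        rw [ha₁, ha₂, ← conj_stv hf hgf a, ← conj_stv hf hgf (J a), yv]; group
      rw [e0] at h6
      have eU : U * (stv hf a₁ (δ * c) * stv hf a₂ (-c)) * U⁻¹ =
          stv hf (act U a₁) (δ * c) * stv hf (act U a₂) (-c) := by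
        rw [← conj_stv hf hUf a₁, ← conj_stv hf hUf a₂]; group
      rw [eU] at h6
      have hU1 : ∀ x ∈ T, act U x = x + k • ((δ * φ x) • e + φ (J x) • J e) := by
        intro x hx
        rw [hUx, hTe x hx, hTJe x hx, hbT x hx,
          show f x (J b) = -φ (J x) by rw [← hbT _ (hTs x hx), hJ.adj, neg_neg]]
        module
      rwa [hU1 a₁ hT1, hU1 a₂ hT2, ← hp₁, ← hp₂, ← hw₁, ← hw₂] at h6
    rw [← hp₁, ← hp₂]
    intro c
    have h2 := hJ.two
    refine ⟨stv hf (a₁ + (1 : F) • w₁) (δ * (c / 2)) * stv hf (a₂ + (1 : F) • w₂) (-(c / 2)) *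
      (stv hf (a₁ + (-1 : F) • w₁) (δ * (c / 2)) * stv hf (a₂ + (-1 : F) • w₂) (-(c / 2))) *
      (stv hf (a₁ + (0 : F) • w₁) (δ * -c) * stv hf (a₂ + (0 : F) • w₂) (- -c)),
      M.mul_mem (M.mul_mem (hstep _ _) (hstep _ _)) (hstep _ _), fun x => ?_⟩
    have z1 : f a₁ e = 0 := hTe _ hT1
    have z2 : f a₁ (J e) = 0 := hTJe _ hT1
    have z3 : f a₂ e = 0 := hTe _ hT2
    have z4 : f a₂ (J e) = 0 := hTJe _ hT2
    simp only [act_mul, act_stv hf, hw₁, hw₂, f_add_left hf, f_add_right hf, f_smul_left hf, f_smul_right hf,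
      f_self hf, e12, f_eq_zero_symm hf e12, z1, z2, z3, z4, f_eq_zero_symm hf z1, f_eq_zero_symm hf z2,
      f_eq_zero_symm hf z3, f_eq_zero_symm hf z4, he', f_eq_zero_symm hf he', mul_zero, add_zero, zero_mul,
      one_mul, neg_mul, mul_neg, neg_zero]
    match_scalars <;> field_simp <;> ring
  have hY0 : LineForm f J M e δ 0 (-1) := fun c => ⟨yv hf J δ e c, hY e c he, fun x => by
    rw [act_yv hf he, yN_apply]; module⟩
  suffices hfin : ∃ A : F, A ≠ 0 ∧ LineForm f J M e A 0 0 by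
    obtain ⟨A, hA, hAf⟩ := hfin
    refine ⟨e, he0, he, fun c => ?_⟩
    obtain ⟨h, hh, hhx⟩ := hAf (c / A)
    convert hh using 1
    apply gl_ext; intro x
    rw [act_stv hf, hhx]
    simp only [zero_mul, mul_zero, add_zero, zero_smul]
    match_scalars <;> field_simp
  have hjT : ∀ {W : Submodule F (ι → F)}, W ≤ T → ∀ {r : F} {u v : ι → F}, u ∈ W → v ∈ jl J e → ∀ {x : ι → F},
      x ∈ T → x = u + v + r • J x → v = 0 := by
    intro W hW r u v hu hv x hx hsum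
    refine hTe0 v hv ?_
    rw [show v = x - u - r • J x by linear_combination (norm := module) -hsum]
    exact T.sub_mem (T.sub_mem hx (hW hu)) (T.smul_mem _ (hTs x hx))
  by_cases hdep : a₂ ∈ jl J a₁
  · -- the image of the line is a line
    obtain ⟨α, β, hαβ⟩ := mem_jl.1 hdep
    have hnone : ∀ u, u ∈ T → u ≠ 0 → u ∉ jl J e := fun u hu hu0 h => hu0 (hTe0 u h hu)
    obtain ⟨φ, hφ0, hφ1, hφ2⟩ := exists_dual_line hf hJ (jl_stable hJ e) (hnone a₁ hT1 ha₁0)
    obtain ⟨ψ, hψ0, hψ1, hψ2⟩ := exists_dual_line hf hJ (jl_stable hJ e) (hnone _ (hTs _ hT1) hJa₁0)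
    rw [hJ.sq, map_smul, smul_eq_mul, mul_eq_zero, or_iff_right hδ] at hψ2
    have key : ∀ k₀ k₁ : F, k₀ ≠ 0 → LineForm f J M e (δ * k₀ ^ 2 - (α * k₀ + δ * β * k₁) ^ 2)
        (δ * k₀ * k₁ - (α * k₀ + δ * β * k₁) * (α * k₁ + β * k₀)) (δ * k₁ ^ 2 - (α * k₁ + β * k₀) ^ 2) := by
      intro k₀ k₁ hk
      have hk' : (k₀ / δ) • φ a₁ + k₁ • ψ a₁ ≠ 0 := by
        simp only [hφ1, hψ2, smul_eq_mul, mul_one, mul_zero, add_zero]; exact div_ne_zero hk hδ
      have h := hform ((k₀ / δ) • φ + k₁ • ψ) (by simp [hφ0 e (self_mem_jl e), hψ0 e (self_mem_jl e)])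
        (by simp [hφ0 _ (map_mem_jl e), hψ0 _ (map_mem_jl e)]) (by simpa using hk')
      have v1 : ((k₀ / δ) • φ + k₁ • ψ) a₁ = k₀ / δ := by simp [hφ1, hψ2]
      have v2 : ((k₀ / δ) • φ + k₁ • ψ) (J a₁) = k₁ := by simp [hφ2, hψ1]
      have v3 : ((k₀ / δ) • φ + k₁ • ψ) a₂ = α * (k₀ / δ) + β * k₁ := by
        rw [← hαβ, map_add, map_smul, map_smul, v1, v2]; rfl
      have v4 : ((k₀ / δ) • φ + k₁ • ψ) (J a₂) = α * k₁ + β * k₀ := by
        rw [← hαβ, map_add, map_smul, map_smul, hJ.sq, map_add, map_smul, map_smul, map_smul, v1, v2]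
        simp only [smul_eq_mul]; field_simp
      rw [v1, v2, v3, v4, mul_div_cancel₀ _ hδ,
        show δ * (α * (k₀ / δ) + β * k₁) = α * k₀ + δ * β * k₁ by field_simp] at h
      exact h
    obtain ⟨A', hA'⟩ : ∃ z, z = δ - α ^ 2 - δ * β ^ 2 := ⟨_, rfl⟩
    obtain ⟨C, hC⟩ : ∃ z, z = -(α * β) := ⟨_, rfl⟩
    obtain ⟨B₂, hB₂⟩ : ∃ z, z = δ - (α + β) ^ 2 := ⟨_, rfl⟩
    obtain ⟨A₂, hA₂⟩ : ∃ z, z = δ - (α + δ * β) ^ 2 + δ * B₂ := ⟨_, rfl⟩
    obtain ⟨C₂, hC₂⟩ : ∃ z, z = δ - (α + δ * β) * (α + β) := ⟨_, rfl⟩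
    have Z1 : LineForm f J M e A' C 0 := by
      have h := lineForm_comb hf he' (r := 1) (s := -β ^ 2) (key 1 0 one_ne_zero) hY0
      convert h using 1 <;> (try simp only [hA', hC]) <;> ring
    have Z2 : LineForm f J M e A₂ C₂ 0 := by
      have h := lineForm_comb hf he' (r := 1) (s := B₂) (key 1 1 one_ne_zero) hY0
      convert h using 1 <;> (try simp only [hA₂, hC₂, hB₂]) <;> ring
    refine ⟨C₂ * A' + -C * A₂, ?_, ?_⟩
    · intro h0
      have hdet : A' * A' - 4 * δ * (C * C) = 0 := by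
        rw [hA', hC]; rw [hA', hA₂, hB₂, hC₂, hC] at h0
        linear_combination h0
      rcases eq_or_ne C 0 with hC0 | hC0
      · rw [hC0] at hdet
        have hA0 : A' = 0 := mul_self_eq_zero.1 (by linear_combination hdet)
        rw [hA'] at hA0
        rw [hC, neg_eq_zero, mul_eq_zero] at hC0
        rcases hC0 with h0' | h0'
        · have hb : β * β = 1 := mul_left_cancel₀ hδ (by rw [h0'] at hA0; linear_combination -hA0)
          rw [h0', zero_smul, zero_add, ha₁, ha₂, hJg] at hαβ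
          have e' : cj J g a = β • J a := by
            have e1 := act_injective g ((map_smul (act g) β (cj J g a)).trans hαβ)
            rw [← e1, smul_smul, hb, one_smul]
          rcases mul_self_eq_one_iff.1 hb with h | h <;> rw [h] at e'
          · exact hne1 (by rw [e', one_smul])
          · exact hne2 (by rw [e', neg_smul, one_smul])
        · exact hJ.nsq α (by rw [h0'] at hA0; linear_combination -hA0)
      · have h2 := hJ.two
        exact hJ.nsq (A' / (2 * C)) (by field_simp; linear_combination hdet)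
    · have h := lineForm_comb hf he' (r := C₂) (s := -C) Z1 Z2
      convert h using 1 <;> ring
  · -- the image of the line spans a plane over the field
    obtain ⟨φ, hφ0, hφ1, hφ2⟩ := exists_dual_line hf hJ (W := jl J a₂ ⊔ jl J e)
      (sup_stable (jl_stable hJ a₂) (jl_stable hJ e)) (u := a₁) (fun h => by
        obtain ⟨u, hu, v, hv, hsum⟩ := Submodule.mem_sup.1 h
        have hv0 := hjT (W := jl J a₂) (by rw [hT]; exact le_sup_right) (r := 0) hu hv hT1 (by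
          rw [zero_smul, add_zero, hsum])
        rw [hv0, add_zero] at hsum
        rw [← hsum] at ha₁0
        obtain ⟨p, q, rfl⟩ := mem_jl.1 hu
        refine hdep (hsum ▸ mem_of_comb hJ (jl_stable hJ _) (self_mem_jl _) ?_)
        rintro ⟨rfl, rfl⟩
        exact ha₁0 (by rw [zero_smul, zero_smul, add_zero]))
    have h := hform ((1 / δ) • φ) (by simp [hφ0 e (Submodule.mem_sup_right (self_mem_jl e))])
      (by simp [hφ0 _ (Submodule.mem_sup_right (map_mem_jl e))]) (by simp [hφ1, hδ])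
    refine ⟨δ, hδ, ?_⟩
    convert h using 1 <;> simp [hφ1, hφ2, hδ, hφ0 a₂ (Submodule.mem_sup_left (self_mem_jl a₂)),
      hφ0 _ (Submodule.mem_sup_left (map_mem_jl a₂))]

omit hJ in
/-- the pairs of root elements: a step -/
theorem exists_step [Finite F] (hJ : IsAntiStr f J δ) (hn : 14 ≤ Fintype.card ι) {U S : Submodule F (ι → F)}
    (hU : finrank F U ≤ 4) (hUs : ∀ x ∈ U, J x ∈ U) (hS : finrank F S ≤ 6) (hSs : ∀ x ∈ S, J x ∈ S) {w : ι → F}
    (hw : w ∉ U) :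
    ∃ t, t ≠ 0 ∧ hq hf J t = 0 ∧ (∀ v ∈ jl J t, ∀ u ∈ U, f v u = 0) ∧ (∀ v ∈ jl J t, v ∈ S → v = 0) ∧ f t w ≠ 0 := by
  obtain ⟨t, htD, htS, htE, hQt⟩ := exists_singular_avoid (nondeg_hq hf hJ) hJ.two hn
    (D := MaxCl.perp hf U) (E := LinearMap.ker (flin hf.bilinear w)) (S := S) (by
      rw [MaxCl.finrank_perp hf]; omega) (by
      have h1 := Submodule.finrank_sup_add_finrank_inf_eq (MaxCl.perp hf U) (LinearMap.ker (flin hf.bilinear w))
      have h2 := LinearMap.finrank_range_add_finrank_ker (flin hf.bilinear w)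
      have h3 := Submodule.finrank_le (LinearMap.range (flin hf.bilinear w))
      have h4 := Submodule.finrank_le (MaxCl.perp hf U ⊔ LinearMap.ker (flin hf.bilinear w))
      rw [Module.finrank_self] at h3
      omega) hS (fun h => hw (by
        rw [← MaxCl.perp_perp hf U, MaxCl.mem_perp hf]
        exact fun d hd => f_eq_zero_symm hf (LinearMap.mem_ker.1 (h hd))))
  have ht0 : t ≠ 0 := fun e => htS (by rw [e]; exact zero_mem _)
  refine ⟨t, ht0, hQt, fun v hv u hu => ?_, fun v hv hvS => ?_, fun e => htE (LinearMap.mem_ker.2 e)⟩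
  · exact (MaxCl.mem_perp hf).1 (jl_le (perp_stable hf hJ hUs) htD hv) u hu
  · obtain ⟨p, q, rfl⟩ := mem_jl.1 hv
    by_cases hpq : p = 0 ∧ q = 0
    · rw [hpq.1, hpq.2, zero_smul, zero_smul, add_zero]
    · exact absurd (mem_of_comb hJ hSs hvS hpq) htS

/-- unitary root elements pairing non-degenerately with a small subspace -/
theorem exists_root_pair [Finite F] (hn : 14 ≤ Fintype.card ι) {M : Subgroup (GL ι F)}
    (hY : ∀ a c, hq hf J a = 0 → yv hf J δ a c ∈ M) {R : Submodule F (ι → F)} (hR : ∀ x ∈ R, J x ∈ R)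
    (hR4 : finrank F R ≤ 4) (hR0 : R ≠ ⊥) {e : ι → F} (heR : R ⊓ jl J e = ⊥) :
    ∃ (h : GL ι F) (N : (ι → F) →ₗ[F] (ι → F)), h ∈ M ∧ h ∈ isoGroup f ∧ (∀ x, act h x = x + N x) ∧
      (∀ x, N (J x) = J (N x)) ∧ (∀ x y, f (N x) y = -f x (N y)) ∧ finrank F (LinearMap.range N) ≤ finrank F R ∧
      LinearMap.range N ⊓ R = ⊥ ∧ R ⊓ LinearMap.ker N = ⊥ ∧ N e = 0 := by
  obtain ⟨w, hw, hw0⟩ := Submodule.exists_mem_ne_zero_of_ne_bot hR0
  have hje := finrank_jl_le (J := J) e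
  obtain ⟨t, ht0, ht, htU, htS, htw⟩ := exists_step hf hJ hn (U := jl J e) (by omega) (jl_stable hJ e)
    (S := R ⊔ jl J e) (by have := Submodule.finrank_add_le_finrank_add_finrank R (jl J e); omega)
    (sup_stable hR (jl_stable hJ e)) (w := w)
    (fun h => hw0 ((Submodule.mem_bot F).1 (heR ▸ ⟨hw, h⟩)))
  obtain ⟨N₁, hN₁⟩ : ∃ N, N = yN hf J δ t 1 := ⟨_, rfl⟩
  have hk : ∀ x, N₁ x = 0 ↔ f x t = 0 ∧ f x (J t) = 0 := fun x => by
    rw [hN₁]; exact yN_eq_zero_iff hf hJ ht0 one_ne_zero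
  have hN₁r : ∀ x, N₁ x ∈ jl J t := fun x => hN₁ ▸ yN_mem hf t 1 x
  have hN₁j : ∀ x, N₁ (J x) = J (N₁ x) := fun x => by rw [hN₁]; exact yN_comm hf hJ t 1 x
  have hN₁e : N₁ e = 0 := (hk e).2 ⟨f_eq_zero_symm hf (htU _ (self_mem_jl t) _ (self_mem_jl e)),
    f_eq_zero_symm hf (htU _ (map_mem_jl t) _ (self_mem_jl e))⟩
  have hRr : 2 ≤ finrank F R := by
    obtain ⟨k, hk⟩ := even_finrank hJ hR
    have : 0 < finrank F R := Nat.pos_of_ne_zero fun e => hR0 (Submodule.finrank_eq_zero.1 e)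
    omega
  have hWs : ∀ x ∈ R ⊓ LinearMap.ker N₁, J x ∈ R ⊓ LinearMap.ker N₁ :=
    inf_stable hR fun x hx => by rw [LinearMap.mem_ker, hN₁j, LinearMap.mem_ker.1 hx, map_zero]
  have hWlt : finrank F ↥(R ⊓ LinearMap.ker N₁) < finrank F R :=
    Submodule.finrank_lt_finrank_of_lt (lt_of_le_of_ne inf_le_left fun e' =>
      htw (f_eq_zero_symm hf ((hk w).1 (LinearMap.mem_ker.1 (e'.ge hw).2)).1))
  by_cases hW : R ⊓ LinearMap.ker N₁ = ⊥
  · refine ⟨yv hf J δ t 1, N₁, hY t 1 ht, yv_mem_iso hf t 1, fun x => hN₁ ▸ act_yv hf ht 1 x, hN₁j,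
      fun x y => by rw [hN₁]; exact yN_adj hf hJ t 1 x y, ?_, ?_, hW, hN₁e⟩
    · exact le_trans (Submodule.finrank_mono (t := jl J t) (by rintro _ ⟨x, rfl⟩; exact hN₁r x))
        ((finrank_jl_le t).trans hRr)
    · rw [Submodule.eq_bot_iff]
      rintro v ⟨⟨x, rfl⟩, hv⟩
      exact htS _ (hN₁r x) (Submodule.mem_sup_left hv)
  have hdims : finrank F R = 4 ∧ finrank F ↥(R ⊓ LinearMap.ker N₁) = 2 := by
    obtain ⟨k, hk⟩ := even_finrank hJ hWs
    obtain ⟨k', hk'⟩ := even_finrank hJ hR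
    have : 0 < finrank F ↥(R ⊓ LinearMap.ker N₁) := Nat.pos_of_ne_zero fun e => hW (Submodule.finrank_eq_zero.1 e)
    omega
  obtain ⟨w', hw', hw'0⟩ := Submodule.exists_mem_ne_zero_of_ne_bot hW
  have hjt := finrank_jl_le (J := J) t
  obtain ⟨t', ht'0, ht', ht'U, ht'S, ht'w⟩ := exists_step hf hJ hn (U := jl J e ⊔ jl J t)
    (by have := Submodule.finrank_add_le_finrank_add_finrank (jl J e) (jl J t); omega)
    (sup_stable (jl_stable hJ e) (jl_stable hJ t))
    (S := R ⊔ jl J t) (by have := Submodule.finrank_add_le_finrank_add_finrank R (jl J t); omega)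
    (sup_stable hR (jl_stable hJ t)) (w := w') (fun h => by
      obtain ⟨u, hu, v, hv, e'⟩ := Submodule.mem_sup.1 h
      have hv0 : v = 0 := htS v hv (by
        rw [show v = w' - u by rw [← e', add_sub_cancel_left]]
        exact Submodule.sub_mem _ (Submodule.mem_sup_left hw'.1) (Submodule.mem_sup_right hu))
      rw [hv0, add_zero] at e'
      exact hw'0 ((Submodule.mem_bot F).1 (heR ▸ ⟨hw'.1, e' ▸ hu⟩)))
  obtain ⟨N₂, hN₂⟩ : ∃ N, N = yN hf J δ t' 1 := ⟨_, rfl⟩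
  have hk₂ : ∀ x, N₂ x = 0 ↔ f x t' = 0 ∧ f x (J t') = 0 := fun x => by
    rw [hN₂]; exact yN_eq_zero_iff hf hJ ht'0 one_ne_zero
  have hN₂r : ∀ x, N₂ x ∈ jl J t' := fun x => hN₂ ▸ yN_mem hf t' 1 x
  have hN₂j : ∀ x, N₂ (J x) = J (N₂ x) := fun x => by rw [hN₂]; exact yN_comm hf hJ t' 1 x
  have h12 : ∀ x, N₁ (N₂ x) = 0 := fun x => (hk _).2
    ⟨ht'U _ (hN₂r x) _ (Submodule.mem_sup_right (self_mem_jl t)),
      ht'U _ (hN₂r x) _ (Submodule.mem_sup_right (map_mem_jl t))⟩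
  refine ⟨yv hf J δ t 1 * yv hf J δ t' 1, N₁ + N₂, M.mul_mem (hY t 1 ht) (hY t' 1 ht'),
    mul_mem (yv_mem_iso hf t 1) (yv_mem_iso hf t' 1), fun x => ?_, fun x => ?_, fun x y => ?_, ?_, ?_, ?_, ?_⟩
  · rw [act_mul, act_yv hf ht', act_yv hf ht, ← hN₁, ← hN₂, map_add, h12, LinearMap.add_apply]; abel
  · rw [LinearMap.add_apply, LinearMap.add_apply, hN₁j, hN₂j, map_add]
  · rw [LinearMap.add_apply, LinearMap.add_apply, f_add_left hf, f_add_right hf, hN₁, hN₂, yN_adj hf hJ,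
      yN_adj hf hJ]; ring
  · refine le_trans (Submodule.finrank_mono (t := jl J t ⊔ jl J t') ?_) ?_
    · rintro _ ⟨x, rfl⟩; exact Submodule.add_mem_sup (hN₁r x) (hN₂r x)
    · have := Submodule.finrank_add_le_finrank_add_finrank (jl J t) (jl J t')
      have := finrank_jl_le (J := J) t'
      omega
  · rw [Submodule.eq_bot_iff]
    rintro v ⟨⟨x, rfl⟩, hv⟩
    rw [LinearMap.add_apply] at hv ⊢
    have h2 : N₂ x = 0 := ht'S _ (hN₂r x) (by
      rw [show N₂ x = (N₁ x + N₂ x) - N₁ x by rw [add_sub_cancel_left]]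
      exact Submodule.sub_mem _ (Submodule.mem_sup_left hv) (Submodule.mem_sup_right (hN₁r x)))
    rw [h2, add_zero] at hv ⊢
    exact htS _ (hN₁r x) (Submodule.mem_sup_left hv)
  · have hlt : finrank F ↥((R ⊓ LinearMap.ker N₁) ⊓ LinearMap.ker N₂) < 2 := by
      rw [← hdims.2]
      exact Submodule.finrank_lt_finrank_of_lt (lt_of_le_of_ne inf_le_left fun e' =>
        ht'w (f_eq_zero_symm hf ((hk₂ w').1 (LinearMap.mem_ker.1 (e'.ge hw').2)).1))
    have h0 : (R ⊓ LinearMap.ker N₁) ⊓ LinearMap.ker N₂ = ⊥ := by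
      obtain ⟨k, hk⟩ := even_finrank hJ (inf_stable hWs (fun x (hx : x ∈ LinearMap.ker N₂) =>
        show J x ∈ LinearMap.ker N₂ by rw [LinearMap.mem_ker, hN₂j, LinearMap.mem_ker.1 hx, map_zero]))
      exact Submodule.finrank_eq_zero.1 (by omega)
    rw [Submodule.eq_bot_iff]
    rintro z ⟨hzR, hz⟩
    rw [SetLike.mem_coe, LinearMap.mem_ker, LinearMap.add_apply] at hz
    have h2 : N₂ z = 0 := ht'S _ (hN₂r z) (Submodule.mem_sup_right (by
      rw [show N₂ z = -N₁ z from eq_neg_of_add_eq_zero_right hz]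
      exact Submodule.neg_mem _ (hN₁r z)))
    rw [h2, add_zero] at hz
    exact (Submodule.mem_bot F).1 (h0 ▸ ⟨⟨hzR, LinearMap.mem_ker.2 hz⟩, LinearMap.mem_ker.2 h2⟩)
  · rw [LinearMap.add_apply, hN₁e, (hk₂ e).2 ⟨f_eq_zero_symm hf (ht'U _ (self_mem_jl t') _
      (Submodule.mem_sup_left (self_mem_jl e))), f_eq_zero_symm hf (ht'U _ (map_mem_jl t') _
      (Submodule.mem_sup_left (self_mem_jl e)))⟩, add_zero]

end Cfsg.Agent.MaxCl.SpU
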