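/-
A good vector exists in every overgroup which does not normalise the unitary structure.
-/
import Cfsg.Agent.Lib.MaxCl.SympUnitaryMax

set_option autoImplicit false

namespace Cfsg.Agent.MaxCl.SpU

open scoped MatrixGroups Matrix
open Module (finrank)

section ChevalleyWarning

variable {F : Type*} [Field F] [Fintype F] {V : Type*} [AddCommGroup V] [Module F V]

/-- three quadratic equations in at least seven variables -/
theorem exists_common_zero (C : Submodule F V) [FiniteDimensional F C] (hC : 7 ≤ finrank F C)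
    (b₁ b₂ b₃ : V →ₗ[F] V →ₗ[F] F) : ∃ c ∈ C, c ≠ 0 ∧ b₁ c c = 0 ∧ b₂ c c = 0 ∧ b₃ c c = 0 := by
  classical
  let bs := Module.finBasis F C
  obtain ⟨p, hp⟩ := CharP.exists F
  have hp' : p.Prime := CharP.char_is_prime F p
  let B : Fin 3 → (V →ₗ[F] V →ₗ[F] F) := ![b₁, b₂, b₃]
  let P : Fin 3 → MvPolynomial (Fin (finrank F C)) F := fun i =>
    ∑ k, ∑ l, MvPolynomial.C (B i (bs k : V) (bs l : V)) * (MvPolynomial.X k * MvPolynomial.X l)
  have hdeg : ∀ i, (P i).totalDegree ≤ 2 := fun i => by
    refine MvPolynomial.totalDegree_finsetSum_le fun k _ => ?_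
    refine MvPolynomial.totalDegree_finsetSum_le fun l _ => ?_
    refine (MvPolynomial.totalDegree_mul _ _).trans ?_
    rw [MvPolynomial.totalDegree_C, zero_add]
    exact (MvPolynomial.totalDegree_mul _ _).trans (by rw [MvPolynomial.totalDegree_X, MvPolynomial.totalDegree_X])
  have hdvd := char_dvd_card_solutions_of_fintype_sum_lt p (f := P) (by
    rw [Fintype.card_fin]
    have := Finset.sum_le_sum (s := Finset.univ) fun i _ => hdeg i
    simp only [Finset.sum_const, Finset.card_univ, Fintype.card_fin, smul_eq_mul] at this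
    omega)
  have hzero : ∀ i, MvPolynomial.eval (fun _ => (0 : F)) (P i) = 0 := fun i => by simp [P]
  have h1 : 1 < Fintype.card {x : Fin (finrank F C) → F // ∀ i, MvPolynomial.eval x (P i) = 0} := by
    have hpos : 0 < Fintype.card {x : Fin (finrank F C) → F // ∀ i, MvPolynomial.eval x (P i) = 0} :=
      Fintype.card_pos_iff.2 ⟨⟨fun _ => 0, hzero⟩⟩
    exact lt_of_lt_of_le hp'.one_lt (Nat.le_of_dvd hpos (by convert hdvd))
  obtain ⟨⟨x, hx⟩, hne⟩ := Fintype.exists_ne_of_one_lt_card h1 ⟨fun _ => 0, hzero⟩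
  obtain ⟨c, hc⟩ : ∃ c : C, c = ∑ k, x k • bs k := ⟨_, rfl⟩
  have hval : ∀ i, B i (c : V) (c : V) = 0 := fun i => by
    rw [← hx i, hc]
    simp only [P, map_sum, map_mul, MvPolynomial.eval_C, MvPolynomial.eval_X, Submodule.coe_sum, Submodule.coe_smul,
      map_smul, LinearMap.sum_apply, LinearMap.smul_apply, smul_eq_mul, Finset.mul_sum]
    rw [Finset.sum_comm]
    refine Finset.sum_congr rfl fun k _ => Finset.sum_congr rfl fun l _ => ?_
    ring
  refine ⟨c, c.2, fun h => hne (Subtype.ext (funext fun k => ?_)), hval 0, hval 1, hval 2⟩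
  have h0 : c = 0 := Subtype.ext h
  exact Fintype.linearIndependent_iff.1 bs.linearIndependent x (hc ▸ h0) k

end ChevalleyWarning

variable {ι : Type} [Fintype ι] [DecidableEq ι] {F : Type*} [Field F] [Fintype F]
variable {f : (ι → F) → (ι → F) → F} {J : (ι → F) →ₗ[F] (ι → F)} {δ : F}
variable (hf : Cfsg.Geo.IsSymplecticForm f) (hJ : IsAntiStr f J δ) (hn : 14 ≤ Fintype.card ι)
variable {M : Subgroup (GL ι F)} (hM : M ≤ isoGroup f) (hY : ∀ a c, hq hf J a = 0 → yv hf J δ a c ∈ M)
include hf hJ hn hM hY

/-- an overgroup with an element neither commuting nor anticommuting with the structure has a good vector -/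
theorem exists_good {g₀ : GL ι F} (hg₀ : g₀ ∈ M) (h1 : cj J g₀ ≠ J) (h2 : cj J g₀ ≠ -J) :
    ∃ g ∈ M, ∃ a, Good hf J g a := by
  by_contra hno
  have hδ := delta_ne hJ
  have h2' := hJ.two
  have no : ∀ g ∈ M, ∀ a, ¬ Good hf J g a := fun g hg a h => hno ⟨g, hg, a, h⟩
  -- eigenspaces
  have hcross : ∀ g ∈ M, ∀ x y, cj J g x = J x → cj J g y = -J y → f x y = 0 ∧ f (J x) y = 0 := by
    intro g hg x y hx hy
    have key : ∀ y, cj J g y = -J y → f (J x) y = 0 := by
      intro y hy
      have h := cj_adj hf hJ (hM hg) x y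
      rw [hx, hy, f_neg_right hf, neg_neg, ← neg_neg (f x (J y)), ← hJ.adj] at h
      exact (mul_eq_zero.1 (by linear_combination h : (2 : F) * f (J x) y = 0)).resolve_left h2'
    have hJy : cj J g (J y) = -J (J y) := by
      have := cj_sq hf hJ g y
      rw [hy, map_neg, neg_eq_iff_eq_neg] at this
      rw [this, hJ.sq]
    have h := key (J y) hJy
    rw [f_map_map hf hJ, mul_eq_zero, or_iff_right (neg_ne_zero.2 hδ)] at h
    exact ⟨h, key y hy⟩
  have hboth : ∀ g ∈ M, ∀ x y, x ≠ 0 → y ≠ 0 → hq hf J x = 0 → hq hf J y = 0 → cj J g x = J x →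
      cj J g y = -J y → False := by
    intro g hg x y hx0 hy0 hqx hqy hx hy
    obtain ⟨e1, e2⟩ := hcross g hg x y hx hy
    rw [hq_apply] at hqx hqy
    have e3 : f (J y) x = 0 := by rw [f_map_comm hf hJ]; exact e2
    have e4 : f (J x) (J y) = 0 := by rw [f_map_map hf hJ, e1, mul_zero]
    have hxJ : cj J g (J x) = J (J x) := by
      have := cj_sq hf hJ g x
      rw [hx] at this
      rw [this, hJ.sq]
    have hyJ : cj J g (J y) = -J (J y) := by
      have := cj_sq hf hJ g y
      rw [hy, map_neg, neg_eq_iff_eq_neg] at this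
      rw [this, hJ.sq]
    refine no g hg (x + y) ⟨fun h => ?_, ?_, ?_, ?_, ?_, fun h => ?_, fun h => ?_⟩
    · rw [eq_neg_of_add_eq_zero_left h, map_neg, map_neg, hy, neg_neg] at hx
      have : (2 : F) • J y = 0 := by linear_combination (norm := module) hx
      have := (smul_eq_zero.1 this).resolve_left h2'
      exact hy0 ((smul_eq_zero.1 (by rw [← hJ.sq, this, map_zero] : δ • y = 0)).resolve_left hδ)
    · rw [hq_apply, map_add, f_add_left hf, f_add_right hf, f_add_right hf, hqx, hqy, e2, e3]; ring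
    · rw [map_add, hx, hy, f_add_left hf, f_neg_left hf, f_add_right hf, f_add_right hf, hqx, hqy, e2, e3]; ring
    · simp only [map_add, hx, hy, f_add_left hf, f_neg_left hf, f_add_right hf, f_self hf, e4,
        f_eq_zero_symm hf e4]
      ring
    · simp only [map_add, hxJ, hyJ, hJ.sq, f_add_left hf, f_neg_left hf, f_smul_left hf, f_add_right hf, e2, e3,
        f_eq_zero_symm hf e2, f_eq_zero_symm hf e3, f_eq_zero_symm hf hqx, f_eq_zero_symm hf hqy]
      ring
    · rw [map_add, map_add, hx, hy] at h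
      have : (2 : F) • J y = 0 := by linear_combination (norm := module) -h
      have := (smul_eq_zero.1 this).resolve_left h2'
      exact hy0 ((smul_eq_zero.1 (by rw [← hJ.sq, this, map_zero] : δ • y = 0)).resolve_left hδ)
    · rw [map_add, map_add, hx, hy] at h
      have : (2 : F) • J x = 0 := by linear_combination (norm := module) h
      have := (smul_eq_zero.1 this).resolve_left h2'
      exact hx0 ((smul_eq_zero.1 (by rw [← hJ.sq, this, map_zero] : δ • x = 0)).resolve_left hδ)
  -- the defect of a conjugate by a root element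
  have hDx : ∀ (g h : GL ι F) (N : (ι → F) →ₗ[F] (ι → F)), (∀ x, act h x = x + N x) → (∀ x, N (J x) = J (N x)) →
      ∀ x, (cj J (g * h * g⁻¹) - J) (act g x) =
        act g (act h⁻¹ ((cj J g - J) (N x) - N ((cj J g - J) x))) := by
    intro g h N hh hNJ x
    simp only [LinearMap.sub_apply, cj_apply, mul_inv_rev, inv_inv, act_mul, act_inv_act]
    have e1 : J (act g x) = act g (act h⁻¹ (act h (act g⁻¹ (J (act g x))))) := by rw [act_inv_act, act_act_inv]
    conv_lhs => arg 2; rw [e1]
    rw [← map_sub, ← map_sub]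
    congr 2
    rw [hh x, hh (act g⁻¹ (J (act g x))), map_add, map_add, map_add, map_sub N, hNJ]
    abel
  have hfin : ∀ (g h : GL ι F) (N : (ι → F) →ₗ[F] (ι → F)), (∀ x, act h x = x + N x) → (∀ x, N (J x) = J (N x)) →
      finrank F (LinearMap.range (cj J (g * h * g⁻¹) - J)) =
        finrank F (LinearMap.range ((cj J g - J) ∘ₗ N - N ∘ₗ (cj J g - J))) := by
    intro g h N hh hNJ
    have : LinearMap.range (cj J (g * h * g⁻¹) - J) =
        (LinearMap.range ((cj J g - J) ∘ₗ N - N ∘ₗ (cj J g - J))).map (act (g * h⁻¹)) := by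
      ext z
      constructor
      · rintro ⟨y, rfl⟩
        obtain ⟨x, rfl⟩ : ∃ x, act g x = y := ⟨_, act_act_inv g y⟩
        refine ⟨_, ⟨x, rfl⟩, ?_⟩
        rw [hDx g h N hh hNJ, act_mul]; rfl
      · rintro ⟨_, ⟨x, rfl⟩, rfl⟩
        refine ⟨act g x, ?_⟩
        rw [hDx g h N hh hNJ, act_mul]; rfl
    rw [this, finrank_map_act]
  have hJker : ∀ g, ∀ x ∈ LinearMap.ker (cj J g - J), J x ∈ LinearMap.ker (cj J g - J) := by
    intro g x hx
    rw [LinearMap.mem_ker, LinearMap.sub_apply, sub_eq_zero] at hx ⊢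
    have := cj_sq hf hJ g x
    rw [hx] at this
    rw [this, hJ.sq]
  have hDadj : ∀ g ∈ M, ∀ x y, f ((cj J g - J) x) y = -f x ((cj J g - J) y) := by
    intro g hg x y
    simp only [LinearMap.sub_apply, f_sub_left hf, f_sub_right hf, cj_adj hf hJ (hM hg), hJ.adj]; ring
  have hRE : ∀ g ∈ M, LinearMap.range (cj J g - J) = MaxCl.perp hf (LinearMap.ker (cj J g - J)) := by
    intro g hg
    refine Submodule.eq_of_le_of_finrank_eq ?_ ?_
    · rintro _ ⟨y, rfl⟩
      rw [MaxCl.mem_perp hf]
      intro e he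
      rw [hDadj g hg, LinearMap.mem_ker.1 he, f_zero_right hf, neg_zero]
    · have := LinearMap.finrank_range_add_finrank_ker (cj J g - J)
      rw [Module.finrank_pi] at this
      rw [MaxCl.finrank_perp hf]; omega
  have hJrange : ∀ g ∈ M, ∀ x ∈ LinearMap.range (cj J g - J), J x ∈ LinearMap.range (cj J g - J) := by
    intro g hg; rw [hRE g hg]; exact perp_stable hf hJ (hJker g)
  -- a first element with small defect
  obtain ⟨g₁, hg₁, hr₁, hr₁'⟩ : ∃ g ∈ M, finrank F (LinearMap.range (cj J g - J)) ≤ 4 ∧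
      LinearMap.range (cj J g - J) ≠ ⊥ := by
    obtain ⟨D, hD⟩ : ∃ D, D = cj J g₀ - J := ⟨_, rfl⟩
    by_cases hc : ∃ b, hq hf J b = 0 ∧ D ∘ₗ yN hf J δ b 1 - yN hf J δ b 1 ∘ₗ D ≠ 0
    · obtain ⟨b, hb, hne⟩ := hc
      have e := hfin g₀ (yv hf J δ b 1) (yN hf J δ b 1) (act_yv hf hb 1) (yN_comm hf hJ b 1)
      rw [← hD] at e
      refine ⟨_, M.mul_mem (M.mul_mem hg₀ (hY b 1 hb)) (M.inv_mem hg₀), ?_, fun h => ?_⟩
      · rw [e]
        refine le_trans (Submodule.finrank_mono (t := (jl J b).map D ⊔ jl J b) ?_) ?_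
        · rintro _ ⟨x, rfl⟩
          exact Submodule.sub_mem _ (Submodule.mem_sup_left ⟨_, yN_mem hf b 1 x, rfl⟩)
            (Submodule.mem_sup_right (yN_mem hf b 1 _))
        · have := Submodule.finrank_add_le_finrank_add_finrank ((jl J b).map D) (jl J b)
          have := Submodule.finrank_map_le D (jl J b)
          have := finrank_jl_le (J := J) b
          omega
      · rw [h, finrank_bot] at e
        exact hne (LinearMap.range_eq_bot.1 (Submodule.finrank_eq_zero.1 e.symm))
    exfalso
    push Not at hc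
    have hsign : ∀ b, hq hf J b = 0 → cj J g₀ b = J b ∨ cj J g₀ b = -J b := by
      intro b hb
      rcases eq_or_ne b 0 with rfl | hb0
      · left; rw [map_zero, map_zero]
      have hb' : f (J b) b = 0 := by rw [← hq_apply hf]; exact hb
      obtain ⟨φ, -, p1, p2⟩ := exists_dual_line hf hJ (W := ⊥) (u := b)
        (fun y hy => by rw [(Submodule.mem_bot F).1 hy, map_zero]; exact zero_mem _) (by simpa using hb0)
      obtain ⟨m₀, hm₀⟩ := exists_repr hf (-φ)
      obtain ⟨c, hqc, hcp⟩ := exists_iso_presc hf hJ (P := jl J b) (jl_stable hJ b) (by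
        have := finrank_jl_le (J := J) b; omega) m₀
      have c1 : f c b = 1 := by
        rw [f_skew hf, hcp b (self_mem_jl b), ← hm₀]; simp [p1]
      have c2 : f c (J b) = 0 := by
        rw [f_skew hf, hcp _ (map_mem_jl b), ← hm₀]; simp [p2]
      have c3 : f (J c) b = 0 := by rw [hJ.adj, c2, neg_zero]
      have c4 : f (J c) (J b) = -δ := by rw [f_map_map hf hJ, c1, mul_one]
      have hqc' : f (J c) c = 0 := by rw [← hq_apply hf]; exact hqc
      have comm : ∀ x, D (yN hf J δ b 1 x) = yN hf J δ b 1 (D x) := fun x =>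
        sub_eq_zero.1 (LinearMap.congr_fun (hc b hb) x)
      have comm' : ∀ x, D (yN hf J δ c 1 x) = yN hf J δ c 1 (D x) := fun x =>
        sub_eq_zero.1 (LinearMap.congr_fun (hc c hqc) x)
      have hNc : yN hf J δ b 1 c = δ • b := by rw [yN_apply, c1, c2]; module
      have hNb : yN hf J δ c 1 b = -(δ • c) := by
        rw [yN_apply, f_eq_zero_symm hf c3, f_skew hf b c, c1]; module
      have h1 : δ • D b = yN hf J δ b 1 (D c) := by rw [← comm, hNc, map_smul]
      have h3 : -(δ • D c) = yN hf J δ c 1 (D b) := by rw [← comm', hNb, map_neg, map_smul]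
      obtain ⟨s, s', hDc⟩ : ∃ s s' : F, s • c + s' • J c = D c := mem_jl.1 ((Submodule.smul_mem_iff _ hδ).1
        ((Submodule.neg_mem_iff _).1 (h3 ▸ yN_mem hf c 1 _)))
      have hDb : D b = s • b + s' • J b := by
        have : δ • D b = δ • (s • b + s' • J b) := by
          rw [h1, ← hDc, map_add, map_smul, map_smul, hNc, yN_comm hf hJ, hNc, map_smul]; module
        exact (smul_right_injective (ι → F) hδ) this
      have hs : s = 0 := by
        have h := hDadj g₀ hg₀ c b
        rw [← hD, ← hDc, hDb, f_add_left hf, f_smul_left hf, f_smul_left hf, f_add_right hf, f_smul_right hf,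
          f_smul_right hf, c1, c2, c3] at h
        exact (mul_eq_zero.1 (by linear_combination h : (2 : F) * s = 0)).resolve_left h2'
      have hjb : cj J g₀ b = (1 + s') • J b := by
        have := hDb
        rw [hD, LinearMap.sub_apply, sub_eq_iff_eq_add, hs, zero_smul, zero_add] at this
        rw [this]; module
      have hjc : cj J g₀ c = (1 + s') • J c := by
        have := hDc.symm
        rw [hD, LinearMap.sub_apply, sub_eq_iff_eq_add, hs, zero_smul, zero_add] at this
        rw [this]; module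
      have hsq := cj_sq hf hJ g₀ b
      rw [hjb, map_smul] at hsq
      have hnz : (1 : F) + s' ≠ 0 := fun e => by
        rw [e, zero_smul] at hsq
        exact hb0 ((smul_eq_zero.1 hsq.symm).resolve_left hδ)
      have h := cj_adj hf hJ (hM hg₀) c (J b)
      rw [hjc, f_smul_left hf, c4, show cj J g₀ (J b) = ((1 + s')⁻¹ * δ) • b by
        rw [← smul_smul, ← hsq, inv_smul_smul₀ hnz], f_smul_right hf, c1] at h
      have hb2 : (1 + s') * (1 + s') = 1 := by
        have h' : (1 + s') * ((1 + s') * -δ) = -δ := by rw [h]; field_simp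
        exact mul_left_cancel₀ hδ (by linear_combination -h')
      rcases mul_self_eq_one_iff.1 hb2 with e | e
      · left; rw [hjb, e, one_smul]
      · right; rw [hjb, e, neg_smul, one_smul]
    have hside : (∀ b, hq hf J b = 0 → cj J g₀ b = J b) ∨ (∀ b, hq hf J b = 0 → cj J g₀ b = -J b) := by
      by_contra hboth'
      push Not at hboth'
      obtain ⟨⟨x, hx, hxE⟩, y, hy, hyE⟩ := hboth'
      have hx0 : x ≠ 0 := fun e => hxE (by rw [e, map_zero, map_zero])
      have hy0 : y ≠ 0 := fun e => hyE (by rw [e, map_zero, map_zero, neg_zero])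
      exact hboth g₀ hg₀ y x hy0 hx0 hy hx ((hsign y hy).resolve_right hyE) ((hsign x hx).resolve_left hxE)
    have hext : ∀ L : (ι → F) →ₗ[F] (ι → F), (∀ b, hq hf J b = 0 → cj J g₀ b = L b) → cj J g₀ = L := by
      intro L h
      apply LinearMap.ext; intro x
      rcases eq_or_ne x 0 with rfl | hx
      · rw [map_zero, map_zero]
      obtain ⟨a, ha, hxa, -⟩ := exists_split hf hJ hn hx
      rw [show x = (x - a) + a by rw [sub_add_cancel], map_add, map_add, h a ha, h _ hxa]
    rcases hside with h | h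
    · exact h1 (hext J h)
    · exact h2 (hext (-J) (fun b hb => by rw [h b hb, LinearMap.neg_apply]))
  -- doubling the defect
  have amplify : ∀ g ∈ M, finrank F (LinearMap.range (cj J g - J)) ≤ 4 → LinearMap.range (cj J g - J) ≠ ⊥ →
      ∃ g' ∈ M, finrank F (LinearMap.range (cj J g' - J)) = 2 * finrank F (LinearMap.range (cj J g - J)) ∧
        ∃ e ∈ LinearMap.ker (cj J g' - J), hq hf J e ≠ 0 := by
    intro g hg hr hr0
    obtain ⟨D, hD⟩ : ∃ D, D = cj J g - J := ⟨_, rfl⟩
    have hadj : ∀ x y, f (D x) y = -f x (D y) := hD ▸ hDadj g hg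
    have hR : LinearMap.range D = MaxCl.perp hf (LinearMap.ker D) := hD ▸ hRE g hg
    have hE : ∀ x ∈ LinearMap.ker D, J x ∈ LinearMap.ker D := hD ▸ hJker g
    rw [← hD] at hr hr0 ⊢
    obtain ⟨e, he, hqe⟩ := Orth.exists_nonsingular (nondeg_hq hf hJ) (D := LinearMap.ker D) (by
      have := LinearMap.finrank_range_add_finrank_ker D
      rw [Module.finrank_pi] at this
      omega)
    have heR : LinearMap.range D ⊓ jl J e = ⊥ := by
      rw [Submodule.eq_bot_iff]
      rintro v ⟨hv, hv'⟩
      obtain ⟨p, q, rfl⟩ := mem_jl.1 hv'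
      by_contra hne
      have heR' : e ∈ LinearMap.range D := mem_of_comb hJ (hD ▸ hJrange g hg) hv (by
        rintro ⟨rfl, rfl⟩
        exact hne (by rw [zero_smul, zero_smul, add_zero]))
      rw [hR, MaxCl.mem_perp hf] at heR'
      exact hqe (by rw [hq_apply]; exact f_eq_zero_symm hf (heR' _ (hE e he)))
    obtain ⟨h, N, hhM, -, hh, hNJ, hNadj, hNr, hdisj, hker, hNe⟩ :=
      exists_root_pair hf hJ hn hY (hD ▸ hJrange g hg) hr hr0 heR
    refine ⟨g * h * g⁻¹, M.mul_mem (M.mul_mem hg hhM) (M.inv_mem hg), ?_, act g e, ?_, ?_⟩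
    · rw [hfin g h N hh hNJ, ← hD]
      have hNR : (LinearMap.range D).map N = LinearMap.range N := by
        refine Submodule.eq_of_le_of_finrank_le LinearMap.map_le_range (hNr.trans ?_)
        have h1 := LinearMap.finrank_range_add_finrank_ker (N.domRestrict (LinearMap.range D))
        have h0 : LinearMap.ker (N.domRestrict (LinearMap.range D)) = ⊥ := by
          rw [Submodule.eq_bot_iff]
          intro x hx
          exact Subtype.ext ((Submodule.mem_bot F).1 (hker ▸ ⟨x.2, LinearMap.mem_ker.2 (LinearMap.mem_ker.1 hx)⟩))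
        rw [h0, finrank_bot, add_zero, LinearMap.range_domRestrict] at h1
        exact h1.ge
      have hrN : finrank F (LinearMap.range N) = finrank F (LinearMap.range D) := by
        refine le_antisymm hNr ?_
        rw [← hNR]
        have h1 := LinearMap.finrank_range_add_finrank_ker (N.domRestrict (LinearMap.range D))
        have h0 : LinearMap.ker (N.domRestrict (LinearMap.range D)) = ⊥ := by
          rw [Submodule.eq_bot_iff]
          intro x hx
          exact Subtype.ext ((Submodule.mem_bot F).1 (hker ▸ ⟨x.2, LinearMap.mem_ker.2 (LinearMap.mem_ker.1 hx)⟩))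
        rw [h0, finrank_bot, add_zero, LinearMap.range_domRestrict] at h1
        exact h1.ge
      have hsup := Submodule.finrank_sup_add_finrank_inf_eq (LinearMap.range N) (LinearMap.range D)
      rw [hdisj, finrank_bot, hrN] at hsup
      suffices hr' : LinearMap.range (D ∘ₗ N - N ∘ₗ D) = LinearMap.range N ⊔ LinearMap.range D by rw [hr']; omega
      have hKE : LinearMap.ker D ⊔ LinearMap.ker N = ⊤ := by
        rw [← MaxCl.perp_perp hf (LinearMap.ker D ⊔ LinearMap.ker N), eq_top_iff]
        intro v _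
        rw [MaxCl.mem_perp hf]
        intro p hp
        have hp' := (MaxCl.mem_perp hf).1 hp
        have hpR : p ∈ LinearMap.range D := by
          rw [hR, MaxCl.mem_perp hf]; exact fun x hx => hp' x (Submodule.mem_sup_left hx)
        have hpN : p ∈ LinearMap.range N := by
          have hle : LinearMap.range N ≤ MaxCl.perp hf (LinearMap.ker N) := by
            rintro _ ⟨y, rfl⟩
            rw [MaxCl.mem_perp hf]
            intro x hx
            rw [hNadj, LinearMap.mem_ker.1 hx, f_zero_right hf, neg_zero]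
          rw [Submodule.eq_of_le_of_finrank_eq hle (by
            have := LinearMap.finrank_range_add_finrank_ker N
            rw [Module.finrank_pi] at this
            rw [MaxCl.finrank_perp hf]; omega), MaxCl.mem_perp hf]
          exact fun x hx => hp' x (Submodule.mem_sup_right hx)
        have : p = 0 := (Submodule.mem_bot F).1 (hdisj ▸ ⟨hpN, hpR⟩)
        rw [this, f_zero_right hf]
      apply le_antisymm
      · rintro _ ⟨x, rfl⟩
        exact Submodule.sub_mem _ (Submodule.mem_sup_right ⟨N x, rfl⟩) (Submodule.mem_sup_left ⟨D x, rfl⟩)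
      · have hNin : LinearMap.range N ≤ LinearMap.range (D ∘ₗ N - N ∘ₗ D) := by
          rw [← hNR]
          rintro _ ⟨_, ⟨y, rfl⟩, rfl⟩
          obtain ⟨u, hu, v, hv, rfl⟩ := Submodule.mem_sup.1 (show y ∈ LinearMap.ker D ⊔ LinearMap.ker N by
            rw [hKE]; trivial)
          refine ⟨-v, ?_⟩
          rw [map_add, LinearMap.mem_ker.1 hu, zero_add]
          simp [LinearMap.mem_ker.1 hv]
        refine sup_le hNin ?_
        -- `D` maps the range of `N` onto its range
        have hDT : (LinearMap.range N).map D = LinearMap.range D := by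
          refine Submodule.eq_of_le_of_finrank_le LinearMap.map_le_range ?_
          have h1 := LinearMap.finrank_range_add_finrank_ker (D.domRestrict (LinearMap.range N))
          have h0 : LinearMap.ker (D.domRestrict (LinearMap.range N)) = ⊥ := by
            rw [Submodule.eq_bot_iff]
            rintro ⟨x, hx⟩ hx0
            apply Subtype.ext
            obtain ⟨y, rfl⟩ := hx
            have hperp : ∀ z ∈ LinearMap.range D, f y (N z) = 0 := by
              rintro _ ⟨w, rfl⟩
              have h5 : D (N y) = 0 := LinearMap.mem_ker.1 hx0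
              have h6 : f (D w) (N y) = 0 := by rw [hadj, h5, f_zero_right hf, neg_zero]
              have h7 := hNadj y (D w)
              rw [f_eq_zero_symm hf h6] at h7
              linear_combination h7
            have : ∀ z, f (N y) z = 0 := by
              intro z
              obtain ⟨z', hz', he'⟩ : N z ∈ (LinearMap.range D).map N := by rw [hNR]; exact ⟨z, rfl⟩
              rw [hNadj, ← he', hperp z' hz', neg_zero]
            by_contra hne
            obtain ⟨z, hz⟩ := (hf.nondegenerate _ hne).2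
            exact hz (this z)
          rw [h0, finrank_bot, add_zero, LinearMap.range_domRestrict, hrN] at h1
          exact h1.ge
        rw [← hDT]
        rintro _ ⟨_, ⟨x, rfl⟩, rfl⟩
        rw [show D (N x) = (D ∘ₗ N - N ∘ₗ D) x + N (D x) by simp]
        exact Submodule.add_mem _ ⟨x, rfl⟩ (hNin ⟨D x, rfl⟩)
    · rw [LinearMap.mem_ker, hDx g h N hh hNJ, hNe, ← hD, LinearMap.mem_ker.1 he, map_zero, map_zero, sub_zero,
        map_zero, map_zero]
    · have he' : cj J g e = J e := by
        have := LinearMap.mem_ker.1 he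
        rwa [hD, LinearMap.sub_apply, sub_eq_zero] at this
      rw [hq_apply, show J (act g e) = act g (cj J g e) by rw [cj_apply, act_act_inv], mem_isoGroup.1 (hM hg), he',
        ← hq_apply hf]
      exact hqe
  obtain ⟨g, hg, hr, e, he, hqe⟩ : ∃ g ∈ M, finrank F (LinearMap.range (cj J g - J)) = 8 ∧
      ∃ e ∈ LinearMap.ker (cj J g - J), hq hf J e ≠ 0 := by
    obtain ⟨k, hk⟩ := even_finrank hJ (hJrange g₁ hg₁)
    have h0 : 0 < finrank F (LinearMap.range (cj J g₁ - J)) :=
      Nat.pos_of_ne_zero fun e => hr₁' (Submodule.finrank_eq_zero.1 e)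
    obtain ⟨g₂, hg₂, hr₂, hrest⟩ := amplify g₁ hg₁ hr₁ hr₁'
    rcases Nat.lt_or_ge k 2 with hk' | hk'
    · obtain ⟨g₃, hg₃, hr₃, h'⟩ := amplify g₂ hg₂ (by omega) (fun e => by rw [e, finrank_bot] at hr₂; omega)
      exact ⟨g₃, hg₃, by omega, h'⟩
    · exact ⟨g₂, hg₂, by omega, hrest⟩
  obtain ⟨D, hD⟩ : ∃ D, D = cj J g - J := ⟨_, rfl⟩
  rw [← hD] at hr he
  have hadj : ∀ x y, f (D x) y = -f x (D y) := hD ▸ hDadj g hg
  have hE : ∀ x ∈ LinearMap.ker D, J x ∈ LinearMap.ker D := hD ▸ hJker g
  obtain ⟨C, hC⟩ := Submodule.exists_isCompl (LinearMap.ker D)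
  have hCd : finrank F C = 8 := by
    have h1 := Submodule.finrank_add_eq_of_isCompl hC
    have h2 := LinearMap.finrank_range_add_finrank_ker D
    omega
  let b : (ι → F) →ₗ[F] (ι → F) →ₗ[F] F := toBil hf.bilinear
  obtain ⟨c, hc, hc0, q1, q2, q3⟩ := exists_common_zero C (by omega) (b.comp D)
    ((b.comp D).compl₂ J) ((b.comp (D.comp J)).compl₂ J)
  replace q1 : f (D c) c = 0 := q1
  replace q2 : f (D c) (J c) = 0 := q2
  replace q3 : f (D (J c)) (J c) = 0 := q3
  have hcE : c ∉ LinearMap.ker D := fun h => hc0 ((Submodule.disjoint_def.1 hC.disjoint) c h hc)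
  have hje : jl J e ≤ LinearMap.ker D := jl_le hE he
  have hje2 : finrank F (jl J e) = 2 := by
    have hli : LinearIndependent F ![e, J e] := LinearIndependent.pair_iff.2 fun s t h =>
      comb_eq_zero hJ h (fun e0 => hqe (by rw [e0, hq_apply, f_zero_right hf]))
    rw [jl, finrank_span_eq_card hli, Fintype.card_fin]
  obtain ⟨y, hy, hy0, hqy⟩ := Orth.exists_singular (hq hf J) (D := jl J e ⊔ F ∙ c) (by
    rw [Submodule.finrank_sup_span_singleton fun h => hcE (hje h), hje2])
  obtain ⟨x, hx, _, hνc, hsum⟩ := Submodule.mem_sup.1 hy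
  obtain ⟨ν, rfl⟩ := Submodule.mem_span_singleton.1 hνc
  have hν : ν ≠ 0 := by
    intro h
    rw [h, zero_smul, add_zero] at hsum
    subst hsum
    obtain ⟨p, q, rfl⟩ := mem_jl.1 hx
    rw [hq_comb hf hJ, mul_eq_zero, or_iff_left hqe] at hqy
    by_cases hpq : p = 0 ∧ q = 0
    · exact hy0 (by rw [hpq.1, hpq.2, zero_smul, zero_smul, add_zero])
    · exact norm_ne hJ hpq hqy
  have hDx0 : D x = 0 := LinearMap.mem_ker.1 (hje hx)
  have hDJx : D (J x) = 0 := LinearMap.mem_ker.1 (hje (jl_stable hJ e x hx))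
  have hyE : y ∉ LinearMap.ker D := fun h => hcE (by
    rw [← hsum] at h
    exact (Submodule.smul_mem_iff _ hν).1 ((Submodule.add_mem_iff_right _ (hje hx)).1 h))
  have hj' : ∀ z, cj J g z = D z + J z := fun z => by rw [hD, LinearMap.sub_apply, sub_add_cancel]
  have hqy' : f (J y) y = 0 := by rw [← hq_apply hf]; exact hqy
  have d1 : f (D y) y = 0 := by
    rw [← hsum, map_add, hDx0, zero_add, map_smul, f_smul_left hf, f_add_right hf, hadj c x, hDx0,
      f_zero_right hf, f_smul_right hf, q1]
    ring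
  have d2 : f (D y) (J y) = 0 := by
    rw [← hsum, map_add D, hDx0, zero_add, map_smul, f_smul_left hf, map_add, map_smul, f_add_right hf, hadj c,
      hDJx, f_zero_right hf, f_smul_right hf, q2]
    ring
  have d3 : f (D (J y)) (J y) = 0 := by
    rw [← hsum, map_add J, map_smul J, map_add D, map_smul D, hDJx, zero_add, f_smul_left hf, f_add_right hf,
      hadj (J c) (J x), hDJx, f_zero_right hf, f_smul_right hf, q3]
    ring
  have hcy : cj J g y ≠ -J y := by
    intro h
    obtain ⟨z, hz, hz0, hqz⟩ := Orth.exists_singular (hq hf J) (D := LinearMap.ker D) (by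
      have := LinearMap.finrank_range_add_finrank_ker D
      rw [Module.finrank_pi] at this
      omega)
    exact hboth g hg z y hz0 hy0 hqz hqy (by rw [hj', LinearMap.mem_ker.1 hz, zero_add]) h
  refine no g hg y ⟨hy0, hqy, ?_, ?_, ?_, fun h => hyE ?_, hcy⟩
  · rw [hj', f_add_left hf, d1, hqy', add_zero]
  · rw [hj', f_add_left hf, d2, f_self hf, add_zero]
  · rw [hj', f_add_left hf, d3, hJ.sq, f_smul_left hf, f_eq_zero_symm hf hqy']; ring
  · rw [LinearMap.mem_ker, hD, LinearMap.sub_apply, h, sub_self]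

end Cfsg.Agent.MaxCl.SpU
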