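/-
The orthogonal group of the standard dot product over a finite field of odd order: membership, reflections,
squares, and the two square classes of reflections modulo the derived group.
-/
import Cfsg.Agent.Lib.MaxCl.OrthBase
import Cfsg.Agent.Lib.QForm.Spinor
import Cfsg.Agent.Lib.ClassicalSimple.OrthRefl

set_option autoImplicit false
set_option linter.unusedSectionVars false

namespace Cfsg.Agent.MaxCl.TOrth

open Matrix
open scoped MatrixGroups

variable {ι : Type} [Fintype ι] [DecidableEq ι] {F : Type*} [Field F]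

/-- the sum of squares -/
noncomputable def dq (ι : Type) [Fintype ι] (F : Type*) [Field F] : QuadraticForm F (ι → F) :=
  QuadraticMap.weightedSumSquares F (1 : ι → F)

omit [DecidableEq ι] in
theorem dq_apply (x : ι → F) : dq ι F x = x ⬝ᵥ x := by
  simp [dq, QuadraticMap.weightedSumSquares_apply, dotProduct]

omit [DecidableEq ι] in
theorem polar_dq (x y : ι → F) : QuadraticMap.polar (⇑(dq ι F)) x y = 2 * (x ⬝ᵥ y) := by
  simp only [QuadraticMap.polar, dq_apply, add_dotProduct, dotProduct_add, dotProduct_comm y x]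
  ring

/-- its isometry group -/
noncomputable def Orth (ι : Type) [Fintype ι] [DecidableEq ι] (F : Type*) [Field F] : Subgroup (GL ι F) :=
  isometryGroup F ⇑(dq ι F)

/-- the derived group of the isometry group -/
noncomputable def Om (ι : Type) [Fintype ι] [DecidableEq ι] (F : Type*) [Field F] : Subgroup (GL ι F) :=
  Cfsg.Geo.omegaGL ⇑(dq ι F)

theorem om_le_orth : Om ι F ≤ Orth ι F := Orth.omega_le_iso

theorem mem_orth_iff (h2 : (2 : F) ≠ 0) {g : GL ι F} :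
    g ∈ Orth ι F ↔ (g : Matrix ι ι F)ᵀ * (g : Matrix ι ι F) = 1 := by
  constructor
  · intro hg
    ext i j
    have h := Orth.B_act (Q := dq ι F) hg (Pi.single i 1) (Pi.single j 1)
    rw [polar_dq, polar_dq] at h
    have h' := mul_left_cancel₀ h2 h
    rw [act_apply, act_apply, Matrix.mulVec_single_one, Matrix.mulVec_single_one, single_dotProduct, one_mul,
      Pi.single_apply] at h'
    rw [Matrix.one_apply, ← h', Matrix.mul_apply]
    simp [dotProduct, Matrix.col_apply]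
  · intro hg
    refine (Orth.mem_iso _).2 fun x => ?_
    rw [dq_apply, dq_apply, act_apply, Matrix.dotProduct_mulVec, Matrix.vecMul_mulVec, hg, Matrix.vecMul_one]

theorem transpose_mul (h2 : (2 : F) ≠ 0) {g : GL ι F} (hg : g ∈ Orth ι F) :
    (g : Matrix ι ι F)ᵀ * (g : Matrix ι ι F) = 1 :=
  (mem_orth_iff h2).1 hg

theorem inv_val (h2 : (2 : F) ≠ 0) {g : GL ι F} (hg : g ∈ Orth ι F) :
    ((g⁻¹ : GL ι F) : Matrix ι ι F) = (g : Matrix ι ι F)ᵀ := by
  have h := congrArg (· * ((g⁻¹ : GL ι F) : Matrix ι ι F)) (transpose_mul h2 hg)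
  simp only [mul_assoc, ← Units.val_mul, mul_inv_cancel, Units.val_one, mul_one, one_mul] at h
  exact h.symm

theorem mul_transpose (h2 : (2 : F) ≠ 0) {g : GL ι F} (hg : g ∈ Orth ι F) :
    (g : Matrix ι ι F) * (g : Matrix ι ι F)ᵀ = 1 := by
  rw [← inv_val h2 hg, ← Units.val_mul, mul_inv_cancel, Units.val_one]

theorem dot_act (h2 : (2 : F) ≠ 0) {g : GL ι F} (hg : g ∈ Orth ι F) (x y : ι → F) :
    act g x ⬝ᵥ act g y = x ⬝ᵥ y := by
  have h := Orth.B_act (Q := dq ι F) hg x y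
  rw [polar_dq, polar_dq] at h
  exact mul_left_cancel₀ h2 h

theorem det_orth (h2 : (2 : F) ≠ 0) {g : GL ι F} (hg : g ∈ Orth ι F) :
    (g : Matrix ι ι F).det = 1 ∨ (g : Matrix ι ι F).det = -1 := by
  have h := congrArg Matrix.det (transpose_mul h2 hg)
  rw [Matrix.det_mul, Matrix.det_transpose, Matrix.det_one] at h
  exact mul_self_eq_one_iff.1 h

theorem polar_nondeg (h2 : (2 : F) ≠ 0) : (QuadraticMap.polarBilin (dq ι F)).Nondegenerate := by
  refine ⟨fun x hx => funext fun i => ?_, fun y hy => funext fun i => ?_⟩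
  · have h := hx (Pi.single i 1)
    rw [QuadraticMap.polarBilin_apply_apply, polar_dq, dotProduct_single, mul_one] at h
    exact (mul_eq_zero.1 h).resolve_left h2
  · have h := hy (Pi.single i 1)
    rw [QuadraticMap.polarBilin_apply_apply, polar_dq, single_dotProduct, one_mul] at h
    exact (mul_eq_zero.1 h).resolve_left h2

/-! ### the class of an isometry modulo the derived group -/

theorem mem_om_iff {g : GL ι F} :
    g ∈ Om ι F ↔ ∃ h : g ∈ Orth ι F, (Abelianization.of ⟨g, h⟩ : Abelianization ↥(Orth ι F)) = 1 := by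
  constructor
  · rintro ⟨x, hx, rfl⟩
    exact ⟨x.2, (QForm.mem_omega_iff_abelianization (dq ι F) x).1 hx⟩
  · rintro ⟨h, hx⟩
    exact ⟨⟨g, h⟩, (QForm.mem_omega_iff_abelianization (dq ι F) ⟨g, h⟩).2 hx, rfl⟩

/-- the class -/
noncomputable def cls : ↥(Orth ι F) →* Abelianization ↥(Orth ι F) := Abelianization.of

theorem mem_om_of_cls {g : GL ι F} (hg : g ∈ Orth ι F) (h : cls (⟨g, hg⟩ : Orth ι F) = 1) : g ∈ Om ι F :=
  mem_om_iff.2 ⟨hg, h⟩

theorem cls_eq_one {g : GL ι F} (hg : g ∈ Om ι F) : cls (⟨g, om_le_orth hg⟩ : Orth ι F) = 1 :=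
  (mem_om_iff.1 hg).2

theorem conj_mem_om {g h : GL ι F} (hg : g ∈ Orth ι F) (hh : h ∈ Om ι F) : g * h * g⁻¹ ∈ Om ι F := by
  refine mem_om_of_cls (mul_mem (mul_mem hg (om_le_orth hh)) (inv_mem hg)) ?_
  rw [show (⟨g * h * g⁻¹, _⟩ : Orth ι F) = ⟨g, hg⟩ * ⟨h, om_le_orth hh⟩ * (⟨g, hg⟩ : Orth ι F)⁻¹ from rfl, map_mul,
    map_mul, cls_eq_one hh, mul_one, map_inv, mul_inv_cancel]

theorem commutator_mem_om {g h : GL ι F} (hg : g ∈ Orth ι F) (hh : h ∈ Orth ι F) :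
    g * h * g⁻¹ * h⁻¹ ∈ Om ι F :=
  Orth.commutator_mem_omega hg hh

/-! ### reflections -/

/-- the reflection at `a` -/
noncomputable def rf (a : ι → F) : GL ι F := Orth.refl (dq ι F) a

/-- the projection on the line of `a` -/
def pj (a : ι → F) : Matrix ι ι F := (a ⬝ᵥ a)⁻¹ • vecMulVec a a

theorem rf_mem (a : ι → F) : rf a ∈ Orth ι F := Orth.refl_mem_iso _ a

theorem act_rf {a : ι → F} (ha : a ⬝ᵥ a ≠ 0) (x : ι → F) :
    act (rf a) x = x - ((a ⬝ᵥ a)⁻¹ * (2 * (a ⬝ᵥ x))) • a := by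
  rw [rf, Orth.act_refl _ (by rwa [dq_apply]), polar_dq, dq_apply]

omit [DecidableEq ι] in
theorem pj_mulVec (a x : ι → F) : pj a *ᵥ x = ((a ⬝ᵥ a)⁻¹ * (a ⬝ᵥ x)) • a := by
  rw [pj, Matrix.smul_mulVec, Matrix.vecMulVec_mulVec, op_smul_eq_smul, smul_smul]

theorem rf_val {a : ι → F} (ha : a ⬝ᵥ a ≠ 0) : (rf a : Matrix ι ι F) = 1 - (2 : F) • pj a := by
  refine Matrix.ext_iff_mulVec.2 fun x => ?_
  rw [← act_apply, act_rf ha, Matrix.sub_mulVec, Matrix.one_mulVec, Matrix.smul_mulVec, pj_mulVec, smul_smul]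
  congr 2
  ring

theorem conj_rf {g : GL ι F} (hg : g ∈ Orth ι F) (a : ι → F) : g * rf a * g⁻¹ = rf (act g a) :=
  Orth.conj_refl _ hg a

theorem rf_mul_self (a : ι → F) : rf a * rf a = 1 := Orth.refl_mul_self _ a

theorem rf_inv (a : ι → F) : (rf a)⁻¹ = rf a := Orth.refl_inv _ a

theorem rf_commute (h2 : (2 : F) ≠ 0) {a b : ι → F} (h : a ⬝ᵥ b = 0) : Commute (rf a) (rf b) :=
  Orth.refl_commute _ (by rw [polar_dq, h, mul_zero])

theorem qrefl_eq {a : ι → F} (ha : dq ι F a ≠ 0) :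
    ((QForm.refl (dq ι F) a ha : ↥(isometryGroup F ⇑(dq ι F))) : GL ι F) = rf a :=
  gl_ext fun x => by
    show Matrix.toLin' (reflectionMatrix (⇑(dq ι F)) a) x = _
    rw [Matrix.toLin'_apply, QForm.reflectionMatrix_mulVec, rf, Orth.act_refl _ ha]

/-- reflections of one square class have one class -/
theorem cls_rf_eq (h2 : (2 : F) ≠ 0) {a b : ι → F} (ha : a ⬝ᵥ a ≠ 0) (hb : b ⬝ᵥ b ≠ 0)
    (h : IsSquare ((a ⬝ᵥ a) * (b ⬝ᵥ b))) :
    cls (⟨rf a, rf_mem a⟩ : Orth ι F) = cls ⟨rf b, rf_mem b⟩ := by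
  have ha' : dq ι F a ≠ 0 := by rwa [dq_apply]
  have hb' : dq ι F b ≠ 0 := by rwa [dq_apply]
  have e := QForm.of_refl_eq (polar_nondeg h2) ha' hb' (by rwa [dq_apply, dq_apply])
  rw [show (⟨rf a, rf_mem a⟩ : Orth ι F) = QForm.refl (dq ι F) a ha' from Subtype.ext (qrefl_eq ha').symm,
    show (⟨rf b, rf_mem b⟩ : Orth ι F) = QForm.refl (dq ι F) b hb' from Subtype.ext (qrefl_eq hb').symm]
  exact e

theorem rf_mul_rf_mem (h2 : (2 : F) ≠ 0) {a b : ι → F} (ha : a ⬝ᵥ a ≠ 0) (hb : b ⬝ᵥ b ≠ 0)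
    (h : IsSquare ((a ⬝ᵥ a) * (b ⬝ᵥ b))) : rf a * rf b ∈ Om ι F := by
  refine mem_om_of_cls (mul_mem (rf_mem a) (rf_mem b)) ?_
  rw [show (⟨rf a * rf b, _⟩ : Orth ι F) = ⟨rf a, rf_mem a⟩ * ⟨rf b, rf_mem b⟩ from rfl, map_mul,
    cls_rf_eq h2 ha hb h, ← map_mul, show (⟨rf b, rf_mem b⟩ : Orth ι F) * ⟨rf b, rf_mem b⟩ = 1 from
      Subtype.ext (rf_mul_self b), map_one]

section Finite

variable [Finite F]

omit [Finite F] in
theorem closure_rf (h2 : (2 : F) ≠ 0) {g : GL ι F} (hg : g ∈ Orth ι F) :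
    (⟨g, hg⟩ : Orth ι F) ∈ Subgroup.closure {x : Orth ι F | ∃ a, a ⬝ᵥ a ≠ 0 ∧ (x : GL ι F) = rf a} := by
  have h := ClassicalSimple.closure_reflectionSet_eq_top (dq ι F)
    (ClassicalSimple.bil_nondegenerate (dq ι F) (polar_nondeg h2))
    (Or.inl ⟨2, h2, fun e => one_ne_zero (by linear_combination e : (1 : F) = 0)⟩)
  refine Subgroup.closure_mono ?_ (h.symm ▸ Subgroup.mem_top (⟨g, hg⟩ : Orth ι F) :)
  rintro x ⟨v, hv, hx⟩
  exact ⟨v, by rwa [dq_apply] at hv, Units.ext (hx.trans (congrArg Units.val (qrefl_eq hv)))⟩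

theorem cls_sq (h2 : (2 : F) ≠ 0) (x : Orth ι F) : cls x * cls x = 1 := by
  obtain ⟨g, hg⟩ := x
  refine Subgroup.closure_induction (p := fun x _ => cls x * cls x = 1) ?_ (by simp) (fun x y _ _ hx hy => ?_)
    (fun x _ hx => ?_) (closure_rf h2 hg)
  · rintro x ⟨a, -, hx⟩
    rw [← map_mul, show x * x = 1 from Subtype.ext (by rw [Subgroup.coe_mul, hx, rf_mul_self]; rfl), map_one]
  · rw [map_mul, mul_mul_mul_comm, hx, hy, mul_one]
  · rw [map_inv, ← _root_.mul_inv_rev, hx, inv_one]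

theorem sq_mem_om (h2 : (2 : F) ≠ 0) {g : GL ι F} (hg : g ∈ Orth ι F) : g * g ∈ Om ι F :=
  mem_om_of_cls (mul_mem hg hg) (by
    rw [show (⟨g * g, _⟩ : Orth ι F) = ⟨g, hg⟩ * ⟨g, hg⟩ from rfl, map_mul, cls_sq h2])

/-- every isometry agrees modulo the derived group with a product of given reflections of both classes -/
theorem exists_class (h2 : (2 : F) ≠ 0) {a b : ι → F} (ha : IsSquare (a ⬝ᵥ a)) (ha0 : a ⬝ᵥ a ≠ 0)
    (hb : ¬ IsSquare (b ⬝ᵥ b)) {g : GL ι F} (hg : g ∈ Orth ι F) :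
    ∃ h, (h = 1 ∨ h = rf a ∨ h = rf b ∨ h = rf a * rf b) ∧ h⁻¹ * g ∈ Om ι F := by
  classical
  haveI := Fintype.ofFinite F
  have hb0 : b ⬝ᵥ b ≠ 0 := fun e => hb (e ▸ ⟨0, (mul_zero 0).symm⟩)
  set A := cls (⟨rf a, rf_mem a⟩ : Orth ι F) with hA
  set B := cls (⟨rf b, rf_mem b⟩ : Orth ι F) with hB
  have hA2 : A * A = 1 := cls_sq h2 _
  have hB2 : B * B = 1 := cls_sq h2 _
  have hA3 : ∀ z, A * (A * z) = z := fun z => by rw [← mul_assoc, hA2, one_mul]
  have hB3 : ∀ z, B * (B * z) = z := fun z => by rw [← mul_assoc, hB2, one_mul]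
  have key : cls (⟨g, hg⟩ : Orth ι F) = 1 ∨ cls (⟨g, hg⟩ : Orth ι F) = A ∨ cls (⟨g, hg⟩ : Orth ι F) = B ∨
      cls (⟨g, hg⟩ : Orth ι F) = A * B := by
    refine Subgroup.closure_induction (p := fun x _ => cls x = 1 ∨ cls x = A ∨ cls x = B ∨ cls x = A * B) ?_
      (Or.inl (map_one _)) (fun x y _ _ hx hy => ?_) (fun x _ hx => ?_) (closure_rf h2 hg)
    · rintro x ⟨c, hc, hx⟩
      obtain rfl : x = ⟨rf c, rf_mem c⟩ := Subtype.ext hx
      by_cases hsq : IsSquare (c ⬝ᵥ c)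
      · exact Or.inr (Or.inl (cls_rf_eq h2 hc ha0 (hsq.mul ha)))
      · refine Or.inr (Or.inr (Or.inl (cls_rf_eq h2 hc hb0 ?_)))
        rw [← quadraticChar_one_iff_isSquare (mul_ne_zero hc hb0), map_mul,
          quadraticChar_neg_one_iff_not_isSquare.2 hsq, quadraticChar_neg_one_iff_not_isSquare.2 hb]
        rfl
    · rw [map_mul]
      rcases hx with hx | hx | hx | hx <;> rcases hy with hy | hy | hy | hy <;> rw [hx, hy] <;>
        simp [mul_comm, mul_left_comm, hA2, hB2, hA3, hB3]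
    · rw [map_inv]
      rcases hx with hx | hx | hx | hx <;> rw [hx] <;>
        simp [inv_eq_of_mul_eq_one_right hA2, inv_eq_of_mul_eq_one_right hB2, mul_comm]
  have fin : ∀ (h : GL ι F) (hh : h ∈ Orth ι F), cls (⟨g, hg⟩ : Orth ι F) = cls ⟨h, hh⟩ → h⁻¹ * g ∈ Om ι F :=
    fun h hh e => mem_om_of_cls (mul_mem (inv_mem hh) hg) (by
      rw [show (⟨h⁻¹ * g, _⟩ : Orth ι F) = (⟨h, hh⟩ : Orth ι F)⁻¹ * ⟨g, hg⟩ from rfl, map_mul, map_inv, e,
        inv_mul_cancel])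
  rcases key with h | h | h | h
  · exact ⟨1, Or.inl rfl, fin 1 (one_mem _) (h.trans (map_one _).symm)⟩
  · exact ⟨_, Or.inr (Or.inl rfl), fin _ (rf_mem a) h⟩
  · exact ⟨_, Or.inr (Or.inr (Or.inl rfl)), fin _ (rf_mem b) h⟩
  · exact ⟨_, Or.inr (Or.inr (Or.inr rfl)), fin _ (mul_mem (rf_mem a) (rf_mem b)) (h.trans (by
      rw [hA, hB, ← map_mul]; rfl))⟩

/-- two non-zero multiples of squares represent everything -/
theorem binary_value (h2 : (2 : F) ≠ 0) {a b : F} (ha : a ≠ 0) (hb : b ≠ 0) (c : F) :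
    ∃ x y, a * x ^ 2 + b * y ^ 2 = c := by
  haveI := Fintype.ofFinite F
  obtain ⟨x, y, h⟩ := FiniteField.exists_root_sum_quadratic
    (f := Polynomial.C a * Polynomial.X ^ 2) (g := Polynomial.C b * Polynomial.X ^ 2 + Polynomial.C (-c))
    (Polynomial.degree_C_mul_X_pow 2 ha)
    (by rw [Polynomial.degree_add_C (by rw [Polynomial.degree_C_mul_X_pow 2 hb]; decide),
      Polynomial.degree_C_mul_X_pow 2 hb]; rfl)
    (FiniteField.odd_card_of_char_ne_two fun hc => h2 (by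
      haveI := ringChar.of_eq hc
      exact CharTwo.two_eq_zero))
  simp only [Polynomial.eval_mul, Polynomial.eval_C, Polynomial.eval_pow, Polynomial.eval_X,
    Polynomial.eval_add] at h
  exact ⟨x, y, by linear_combination h⟩

/-- two orthogonal anisotropic vectors span vectors of every value -/
theorem exists_value (h2 : (2 : F) ≠ 0) {a b : ι → F} (ha : a ⬝ᵥ a ≠ 0) (hb : b ⬝ᵥ b ≠ 0) (hab : a ⬝ᵥ b = 0)
    (c : F) : ∃ x y : F, (x • a + y • b) ⬝ᵥ (x • a + y • b) = c := by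
  obtain ⟨x, y, h⟩ := binary_value h2 ha hb c
  refine ⟨x, y, ?_⟩
  simp only [add_dotProduct, dotProduct_add, smul_dotProduct, dotProduct_smul, smul_eq_mul, dotProduct_comm b a,
    hab]
  linear_combination h

theorem exists_nonsquare (h2 : (2 : F) ≠ 0) : ∃ c : F, ¬ IsSquare c := by
  haveI := Fintype.ofFinite F
  exact FiniteField.exists_nonsquare fun hc => h2 (by
    haveI := ringChar.of_eq hc
    exact CharTwo.two_eq_zero)

end Finite

end Cfsg.Agent.MaxCl.TOrth
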