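/-
The orthogonal group of a diagonal form over a finite field of odd order: membership, reflections,
squares, and the two square classes of reflections modulo the derived group.
-/
import Cfsg.Agent.Lib.MaxCl.TOrthBasic
import Cfsg.Agent.Lib.QForm.Spinor
import Cfsg.Agent.Lib.ClassicalSimple.OrthRefl

set_option autoImplicit false
set_option linter.unusedSectionVars false

namespace Cfsg.Agent.MaxCl.TEv

open Matrix
open TOrth (binary_value exists_nonsquare)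
open scoped MatrixGroups

/-- non-zero weights: a diagonal form on the coordinate space -/
class Wt (ι : Type) (F : Type*) [Field F] where
  /-- the weights -/
  w : ι → F
  ne : ∀ i, w i ≠ 0

/-- product weights -/
instance instWtProd {α γ : Type} {F : Type*} [Field F] [Wt α F] [Wt γ F] : Wt (α × γ) F :=
  ⟨fun x => Wt.w x.1 * Wt.w x.2, fun x => mul_ne_zero (Wt.ne x.1) (Wt.ne x.2)⟩

/-- tensor power weights -/
instance instWtPi {S γ : Type} [Fintype S] {F : Type*} [Field F] [Wt γ F] : Wt (S → γ) F :=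
  ⟨fun x => ∏ s, Wt.w (x s), fun x => Finset.prod_ne_zero_iff.2 fun s _ => Wt.ne (x s)⟩

theorem w_prod {α γ : Type} {F : Type*} [Field F] [Wt α F] [Wt γ F] (p : α) (i : γ) :
    (Wt.w (p, i) : F) = Wt.w p * Wt.w i := rfl

theorem w_pi {S γ : Type} [Fintype S] {F : Type*} [Field F] [Wt γ F] (x : S → γ) :
    (Wt.w x : F) = ∏ s, Wt.w (x s) := rfl

variable {ι : Type} [Fintype ι] [DecidableEq ι] {F : Type*} [Field F] [Wt ι F]

/-- the symmetric form -/
def bf (a b : ι → F) : F := ∑ i, Wt.w i * (a i * b i)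

@[inherit_doc] scoped infix:72 " ⬝ʷ " => bf

/-- the adjoint -/
def ad (A : Matrix ι ι F) : Matrix ι ι F := Matrix.of fun i j => (Wt.w i)⁻¹ * (A j i * Wt.w j)

@[inherit_doc] scoped postfix:1024 "†" => ad

/-- rank one operators -/
def ov (a b : ι → F) : Matrix ι ι F := vecMulVec a fun j => Wt.w j * b j

section Form

omit [DecidableEq ι]

theorem bf_comm (a b : ι → F) : a ⬝ʷ b = b ⬝ʷ a := Finset.sum_congr rfl fun i _ => by ring

theorem add_bf (a a' b : ι → F) : (a + a') ⬝ʷ b = a ⬝ʷ b + a' ⬝ʷ b := by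
  simp only [bf, Pi.add_apply, ← Finset.sum_add_distrib]
  exact Finset.sum_congr rfl fun i _ => by ring

theorem bf_add (a b b' : ι → F) : a ⬝ʷ (b + b') = a ⬝ʷ b + a ⬝ʷ b' := by
  rw [bf_comm, add_bf, bf_comm b, bf_comm b']

theorem smul_bf (c : F) (a b : ι → F) : (c • a) ⬝ʷ b = c • (a ⬝ʷ b) := by
  simp only [bf, Pi.smul_apply, smul_eq_mul, Finset.mul_sum]
  exact Finset.sum_congr rfl fun i _ => by ring

theorem bf_smul (c : F) (a b : ι → F) : a ⬝ʷ (c • b) = c • (a ⬝ʷ b) := by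
  rw [bf_comm, smul_bf, bf_comm b]

theorem zero_bf (b : ι → F) : (0 : ι → F) ⬝ʷ b = 0 := by simp [bf]

theorem bf_zero (b : ι → F) : b ⬝ʷ (0 : ι → F) = 0 := by simp [bf]

theorem neg_bf (a b : ι → F) : (-a) ⬝ʷ b = -(a ⬝ʷ b) := by simp [bf]

theorem sub_bf (a a' b : ι → F) : (a - a') ⬝ʷ b = a ⬝ʷ b - a' ⬝ʷ b := by
  rw [sub_eq_add_neg, add_bf, neg_bf, sub_eq_add_neg]

theorem bf_sub (a b b' : ι → F) : a ⬝ʷ (b - b') = a ⬝ʷ b - a ⬝ʷ b' := by
  rw [bf_comm, sub_bf, bf_comm b, bf_comm b']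

theorem sum_bf {J : Type*} (T : Finset J) (a : J → ι → F) (b : ι → F) :
    (∑ j ∈ T, a j) ⬝ʷ b = ∑ j ∈ T, a j ⬝ʷ b := by
  simp only [bf, Finset.sum_apply, Finset.sum_mul, Finset.mul_sum]
  exact Finset.sum_comm

theorem bf_sum {J : Type*} (T : Finset J) (b : ι → F) (a : J → ι → F) :
    b ⬝ʷ (∑ j ∈ T, a j) = ∑ j ∈ T, b ⬝ʷ a j := by
  rw [bf_comm, sum_bf]
  exact Finset.sum_congr rfl fun j _ => bf_comm _ _

theorem bf_eq_dot (a b : ι → F) : a ⬝ʷ b = a ⬝ᵥ fun j => Wt.w j * b j :=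
  Finset.sum_congr rfl fun i _ => by ring

theorem ov_mulVec (a b x : ι → F) : ov a b *ᵥ x = (b ⬝ʷ x) • a := by
  rw [ov, Matrix.vecMulVec_mulVec, op_smul_eq_smul, dotProduct_comm, ← bf_eq_dot, bf_comm]

theorem ov_apply (a b : ι → F) (i j : ι) : ov a b i j = a i * (Wt.w j * b j) := rfl

theorem mul_ov (A : Matrix ι ι F) (a b : ι → F) : A * ov a b = ov (A *ᵥ a) b := Matrix.mul_vecMulVec _ _ _

theorem ov_smul (a b : ι → F) (c : F) : ov a (c • b) = c • ov a b := by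
  ext i j; simp only [ov_apply, Matrix.smul_apply, Pi.smul_apply, smul_eq_mul]; ring

theorem smul_ov (c : F) (a b : ι → F) : ov (c • a) b = c • ov a b := by
  ext i j; simp only [ov_apply, Matrix.smul_apply, Pi.smul_apply, smul_eq_mul]; ring

theorem zero_ov (b : ι → F) : ov (0 : ι → F) b = 0 := Matrix.zero_vecMulVec _

theorem add_ov (a a' b : ι → F) : ov (a + a') b = ov a b + ov a' b := by
  ext i j; simp only [ov_apply, Matrix.add_apply, Pi.add_apply]; ring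

theorem ov_add (a b b' : ι → F) : ov a (b + b') = ov a b + ov a b' := by
  ext i j; simp only [ov_apply, Matrix.add_apply, Pi.add_apply]; ring

theorem ad_apply (A : Matrix ι ι F) (i j : ι) : A† i j = (Wt.w i)⁻¹ * (A j i * Wt.w j) := rfl

theorem w_mul_ad (A : Matrix ι ι F) (i j : ι) : Wt.w i * A† i j = A j i * Wt.w j := by
  rw [ad_apply, ← mul_assoc, mul_inv_cancel₀ (Wt.ne i), one_mul]

theorem ad_ad (A : Matrix ι ι F) : (A†)† = A := by
  ext i j
  rw [ad_apply, ad_apply]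
  field_simp [Wt.ne i, Wt.ne j]

theorem ad_zero : (0 : Matrix ι ι F)† = 0 := by ext i j; simp [ad_apply]

theorem ad_add (A B : Matrix ι ι F) : (A + B)† = A† + B† := by
  ext i j; simp only [ad_apply, Matrix.add_apply]; ring

theorem ad_sub (A B : Matrix ι ι F) : (A - B)† = A† - B† := by
  ext i j; simp only [ad_apply, Matrix.sub_apply]; ring

theorem ad_neg (A : Matrix ι ι F) : (-A)† = -A† := by
  ext i j; simp only [ad_apply, Matrix.neg_apply]; ring

theorem ad_smul (c : F) (A : Matrix ι ι F) : (c • A)† = c • A† := by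
  ext i j; simp only [ad_apply, Matrix.smul_apply, smul_eq_mul]; ring

theorem ad_sum {J : Type*} (T : Finset J) (A : J → Matrix ι ι F) : (∑ j ∈ T, A j)† = ∑ j ∈ T, (A j)† := by
  ext i j; simp only [ad_apply, Matrix.sum_apply, Finset.sum_mul, Finset.mul_sum]

theorem ad_mul (A B : Matrix ι ι F) : (A * B)† = B† * A† := by
  ext i j
  simp only [ad_apply, Matrix.mul_apply, Finset.sum_mul, Finset.mul_sum]
  refine Finset.sum_congr rfl fun l _ => ?_
  field_simp [Wt.ne l]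

theorem bf_mulVec (A : Matrix ι ι F) (x y : ι → F) : (A *ᵥ x) ⬝ʷ y = x ⬝ʷ (A† *ᵥ y) := by
  simp only [bf, Matrix.mulVec, dotProduct, Finset.sum_mul, Finset.mul_sum]
  rw [Finset.sum_comm]
  refine Finset.sum_congr rfl fun i _ => Finset.sum_congr rfl fun j _ => ?_
  linear_combination (-(x i * y j)) * w_mul_ad A i j

theorem mulVec_bf (A : Matrix ι ι F) (x y : ι → F) : x ⬝ʷ (A *ᵥ y) = (A† *ᵥ x) ⬝ʷ y := by
  rw [bf_mulVec, ad_ad]

theorem ad_ov (a b : ι → F) : (ov a b)† = ov b a := by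
  ext i j
  rw [ad_apply, ov_apply, ov_apply]
  field_simp [Wt.ne i]

theorem ov_mul (a b : ι → F) (A : Matrix ι ι F) : ov a b * A = ov a (A† *ᵥ b) := by
  rw [← ad_ad (ov a b * A), ad_mul, ad_ov, mul_ov, ad_ov]

theorem ov_mul_ov (a b c d : ι → F) : ov a b * ov c d = ov a ((b ⬝ʷ c) • d) := by
  rw [mul_ov, ov_mulVec, smul_ov, ov_smul]

end Form

theorem ad_diagonal (d : ι → F) : (Matrix.diagonal d)† = Matrix.diagonal d := by
  ext i j
  rcases eq_or_ne i j with rfl | h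
  · rw [ad_apply, Matrix.diagonal_apply_eq]
    field_simp [Wt.ne i]
  · rw [ad_apply, Matrix.diagonal_apply_ne _ h, Matrix.diagonal_apply_ne _ (Ne.symm h), zero_mul, mul_zero]

theorem ad_one : (1 : Matrix ι ι F)† = 1 := by rw [← Matrix.diagonal_one, ad_diagonal]

theorem det_ad (A : Matrix ι ι F) : (A†).det = A.det := by
  have e : A† = Matrix.diagonal (fun i => (Wt.w i : F)⁻¹) * Matrix.transpose A * Matrix.diagonal Wt.w := by
    ext i j
    rw [Matrix.mul_diagonal, Matrix.diagonal_mul, Matrix.transpose_apply, ad_apply, mul_assoc]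
  rw [e, Matrix.det_mul, Matrix.det_mul, Matrix.det_transpose, Matrix.det_diagonal, Matrix.det_diagonal,
    mul_right_comm, ← Finset.prod_mul_distrib, Finset.prod_congr rfl fun i _ => inv_mul_cancel₀ (Wt.ne i),
    Finset.prod_const_one, one_mul]

theorem bf_single (i : ι) (c : F) (v : ι → F) : Pi.single i c ⬝ʷ v = Wt.w i * (c * v i) := by
  rw [bf, Finset.sum_eq_single i]
  · rw [Pi.single_eq_same]
  · intro j _ hj; rw [Pi.single_eq_of_ne hj, zero_mul, mul_zero]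
  · simp

theorem bf_single' (i : ι) (c : F) (v : ι → F) : v ⬝ʷ Pi.single i c = Wt.w i * (v i * c) := by
  rw [bf_comm, bf_single, mul_comm c]

/-- the weighted sum of squares -/
noncomputable def dq (ι : Type) [Fintype ι] (F : Type*) [Field F] [Wt ι F] : QuadraticForm F (ι → F) :=
  QuadraticMap.weightedSumSquares F (Wt.w : ι → F)

omit [DecidableEq ι] in
theorem dq_apply (x : ι → F) : dq ι F x = x ⬝ʷ x := by
  simp [dq, QuadraticMap.weightedSumSquares_apply, bf]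

omit [DecidableEq ι] in
theorem polar_dq (x y : ι → F) : QuadraticMap.polar (⇑(dq ι F)) x y = 2 * (x ⬝ʷ y) := by
  simp only [QuadraticMap.polar, dq_apply, add_bf, bf_add, bf_comm y x]
  ring

/-- its isometry group -/
noncomputable def Orth (ι : Type) [Fintype ι] [DecidableEq ι] (F : Type*) [Field F] [Wt ι F] : Subgroup (GL ι F) :=
  isometryGroup F ⇑(dq ι F)

/-- the derived group of the isometry group -/
noncomputable def Om (ι : Type) [Fintype ι] [DecidableEq ι] (F : Type*) [Field F] [Wt ι F] : Subgroup (GL ι F) :=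
  Cfsg.Geo.omegaGL ⇑(dq ι F)

theorem om_le_orth : Om ι F ≤ Orth ι F := Orth.omega_le_iso

theorem mem_orth_iff (h2 : (2 : F) ≠ 0) {g : GL ι F} :
    g ∈ Orth ι F ↔ (g : Matrix ι ι F)† * (g : Matrix ι ι F) = 1 := by
  constructor
  · intro hg
    ext i j
    have h := Orth.B_act (Q := dq ι F) hg (Pi.single i 1) (Pi.single j 1)
    rw [polar_dq, polar_dq] at h
    have h' := mul_left_cancel₀ h2 h
    rw [act_apply, act_apply, bf_mulVec, Matrix.mulVec_mulVec, bf_single, bf_single, Matrix.mulVec_single_one,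
      one_mul, one_mul, Matrix.col_apply] at h'
    rw [mul_left_cancel₀ (Wt.ne i) h', Pi.single_apply, Matrix.one_apply]
  · intro hg
    refine (Orth.mem_iso _).2 fun x => ?_
    rw [dq_apply, dq_apply, act_apply, bf_mulVec, Matrix.mulVec_mulVec, hg, Matrix.one_mulVec]

theorem ad_mul_self (h2 : (2 : F) ≠ 0) {g : GL ι F} (hg : g ∈ Orth ι F) :
    (g : Matrix ι ι F)† * (g : Matrix ι ι F) = 1 :=
  (mem_orth_iff h2).1 hg

theorem inv_val (h2 : (2 : F) ≠ 0) {g : GL ι F} (hg : g ∈ Orth ι F) :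
    ((g⁻¹ : GL ι F) : Matrix ι ι F) = (g : Matrix ι ι F)† := by
  have h := congrArg (· * ((g⁻¹ : GL ι F) : Matrix ι ι F)) (ad_mul_self h2 hg)
  simp only [mul_assoc, ← Units.val_mul, mul_inv_cancel, Units.val_one, mul_one, one_mul] at h
  exact h.symm

theorem mul_ad_self (h2 : (2 : F) ≠ 0) {g : GL ι F} (hg : g ∈ Orth ι F) :
    (g : Matrix ι ι F) * (g : Matrix ι ι F)† = 1 := by
  rw [← inv_val h2 hg, ← Units.val_mul, mul_inv_cancel, Units.val_one]

theorem dot_act (h2 : (2 : F) ≠ 0) {g : GL ι F} (hg : g ∈ Orth ι F) (x y : ι → F) :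
    act g x ⬝ʷ act g y = x ⬝ʷ y := by
  have h := Orth.B_act (Q := dq ι F) hg x y
  rw [polar_dq, polar_dq] at h
  exact mul_left_cancel₀ h2 h

theorem det_orth (h2 : (2 : F) ≠ 0) {g : GL ι F} (hg : g ∈ Orth ι F) :
    (g : Matrix ι ι F).det = 1 ∨ (g : Matrix ι ι F).det = -1 := by
  have h := congrArg Matrix.det (ad_mul_self h2 hg)
  rw [Matrix.det_mul, det_ad, Matrix.det_one] at h
  exact mul_self_eq_one_iff.1 h

theorem polar_nondeg (h2 : (2 : F) ≠ 0) : (QuadraticMap.polarBilin (dq ι F)).Nondegenerate := by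
  refine ⟨fun x hx => funext fun i => ?_, fun y hy => funext fun i => ?_⟩
  · have h := hx (Pi.single i 1)
    rw [QuadraticMap.polarBilin_apply_apply, polar_dq, bf_single', mul_one] at h
    exact (mul_eq_zero.1 ((mul_eq_zero.1 h).resolve_left h2)).resolve_left (Wt.ne i)
  · have h := hy (Pi.single i 1)
    rw [QuadraticMap.polarBilin_apply_apply, polar_dq, bf_single, one_mul] at h
    exact (mul_eq_zero.1 ((mul_eq_zero.1 h).resolve_left h2)).resolve_left (Wt.ne i)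

/-! ### the class of an isometry modulo the derived group -/

theorem mem_om_iff {g : GL ι F} :
    g ∈ Om ι F ↔ ∃ h : g ∈ Orth ι F, (Abelianization.of ⟨g, h⟩ : Abelianization ↥(Orth ι F)) = 1 := by
  constructor
  · rintro ⟨x, hx, rfl⟩
    exact ⟨x.2, (QForm.mem_omega_iff_abelianization (dq ι F) x).1 hx⟩
  · rintro ⟨h, hx⟩
    exact ⟨⟨g, h⟩, (QForm.mem_omega_iff_abelianization (dq ι F) ⟨g, h⟩).2 hx, rfl⟩

/-- the class -/
noncomputable def cls : ↥(Orth ι F) →* Abelianization ↥(Orth ι F) := Abelianization.of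

theorem mem_om_of_cls {g : GL ι F} (hg : g ∈ Orth ι F) (h : cls (⟨g, hg⟩ : Orth ι F) = 1) : g ∈ Om ι F :=
  mem_om_iff.2 ⟨hg, h⟩

theorem cls_eq_one {g : GL ι F} (hg : g ∈ Om ι F) : cls (⟨g, om_le_orth hg⟩ : Orth ι F) = 1 :=
  (mem_om_iff.1 hg).2

theorem conj_mem_om {g h : GL ι F} (hg : g ∈ Orth ι F) (hh : h ∈ Om ι F) : g * h * g⁻¹ ∈ Om ι F := by
  refine mem_om_of_cls (mul_mem (mul_mem hg (om_le_orth hh)) (inv_mem hg)) ?_
  rw [show (⟨g * h * g⁻¹, _⟩ : Orth ι F) = ⟨g, hg⟩ * ⟨h, om_le_orth hh⟩ * (⟨g, hg⟩ : Orth ι F)⁻¹ from rfl, map_mul,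
    map_mul, cls_eq_one hh, mul_one, map_inv, mul_inv_cancel]

theorem commutator_mem_om {g h : GL ι F} (hg : g ∈ Orth ι F) (hh : h ∈ Orth ι F) :
    g * h * g⁻¹ * h⁻¹ ∈ Om ι F :=
  Orth.commutator_mem_omega hg hh

/-! ### reflections -/

/-- the reflection at `a` -/
noncomputable def rf (a : ι → F) : GL ι F := Orth.refl (dq ι F) a

/-- the projection on the line of `a` -/
def pj (a : ι → F) : Matrix ι ι F := (a ⬝ʷ a)⁻¹ • ov a a

theorem rf_mem (a : ι → F) : rf a ∈ Orth ι F := Orth.refl_mem_iso _ a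

theorem act_rf {a : ι → F} (ha : a ⬝ʷ a ≠ 0) (x : ι → F) :
    act (rf a) x = x - ((a ⬝ʷ a)⁻¹ * (2 * (a ⬝ʷ x))) • a := by
  rw [rf, Orth.act_refl _ (by rwa [dq_apply]), polar_dq, dq_apply]

omit [DecidableEq ι] in
theorem pj_mulVec (a x : ι → F) : pj a *ᵥ x = ((a ⬝ʷ a)⁻¹ * (a ⬝ʷ x)) • a := by
  rw [pj, Matrix.smul_mulVec, ov_mulVec, smul_smul]

theorem rf_val {a : ι → F} (ha : a ⬝ʷ a ≠ 0) : (rf a : Matrix ι ι F) = 1 - (2 : F) • pj a := by
  refine Matrix.ext_iff_mulVec.2 fun x => ?_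
  rw [← act_apply, act_rf ha, Matrix.sub_mulVec, Matrix.one_mulVec, Matrix.smul_mulVec, pj_mulVec, smul_smul]
  congr 2
  ring

theorem conj_rf {g : GL ι F} (hg : g ∈ Orth ι F) (a : ι → F) : g * rf a * g⁻¹ = rf (act g a) :=
  Orth.conj_refl _ hg a

theorem rf_mul_self (a : ι → F) : rf a * rf a = 1 := Orth.refl_mul_self _ a

theorem rf_inv (a : ι → F) : (rf a)⁻¹ = rf a := Orth.refl_inv _ a

theorem rf_commute (h2 : (2 : F) ≠ 0) {a b : ι → F} (h : a ⬝ʷ b = 0) : Commute (rf a) (rf b) :=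
  Orth.refl_commute _ (by rw [polar_dq, h, mul_zero])

theorem qrefl_eq {a : ι → F} (ha : dq ι F a ≠ 0) :
    ((QForm.refl (dq ι F) a ha : ↥(isometryGroup F ⇑(dq ι F))) : GL ι F) = rf a :=
  gl_ext fun x => by
    show Matrix.toLin' (reflectionMatrix (⇑(dq ι F)) a) x = _
    rw [Matrix.toLin'_apply, QForm.reflectionMatrix_mulVec, rf, Orth.act_refl _ ha]

/-- reflections of one square class have one class -/
theorem cls_rf_eq (h2 : (2 : F) ≠ 0) {a b : ι → F} (ha : a ⬝ʷ a ≠ 0) (hb : b ⬝ʷ b ≠ 0)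
    (h : IsSquare ((a ⬝ʷ a) * (b ⬝ʷ b))) :
    cls (⟨rf a, rf_mem a⟩ : Orth ι F) = cls ⟨rf b, rf_mem b⟩ := by
  have ha' : dq ι F a ≠ 0 := by rwa [dq_apply]
  have hb' : dq ι F b ≠ 0 := by rwa [dq_apply]
  have e := QForm.of_refl_eq (polar_nondeg h2) ha' hb' (by rwa [dq_apply, dq_apply])
  rw [show (⟨rf a, rf_mem a⟩ : Orth ι F) = QForm.refl (dq ι F) a ha' from Subtype.ext (qrefl_eq ha').symm,
    show (⟨rf b, rf_mem b⟩ : Orth ι F) = QForm.refl (dq ι F) b hb' from Subtype.ext (qrefl_eq hb').symm]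
  exact e

theorem rf_mul_rf_mem (h2 : (2 : F) ≠ 0) {a b : ι → F} (ha : a ⬝ʷ a ≠ 0) (hb : b ⬝ʷ b ≠ 0)
    (h : IsSquare ((a ⬝ʷ a) * (b ⬝ʷ b))) : rf a * rf b ∈ Om ι F := by
  refine mem_om_of_cls (mul_mem (rf_mem a) (rf_mem b)) ?_
  rw [show (⟨rf a * rf b, _⟩ : Orth ι F) = ⟨rf a, rf_mem a⟩ * ⟨rf b, rf_mem b⟩ from rfl, map_mul,
    cls_rf_eq h2 ha hb h, ← map_mul, show (⟨rf b, rf_mem b⟩ : Orth ι F) * ⟨rf b, rf_mem b⟩ = 1 from
      Subtype.ext (rf_mul_self b), map_one]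

section Finite

variable [Finite F]

omit [Finite F] in
theorem closure_rf (h2 : (2 : F) ≠ 0) {g : GL ι F} (hg : g ∈ Orth ι F) :
    (⟨g, hg⟩ : Orth ι F) ∈ Subgroup.closure {x : Orth ι F | ∃ a, a ⬝ʷ a ≠ 0 ∧ (x : GL ι F) = rf a} := by
  have h := ClassicalSimple.closure_reflectionSet_eq_top (dq ι F)
    (ClassicalSimple.bil_nondegenerate (dq ι F) (polar_nondeg h2))
    (Or.inl ⟨2, h2, fun e => one_ne_zero (by linear_combination e : (1 : F) = 0)⟩)
  refine Subgroup.closure_mono ?_ (h.symm ▸ Subgroup.mem_top (⟨g, hg⟩ : Orth ι F) :)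
  rintro x ⟨v, hv, hx⟩
  exact ⟨v, by rwa [dq_apply] at hv, Units.ext (hx.trans (congrArg Units.val (qrefl_eq hv)))⟩

theorem cls_sq (h2 : (2 : F) ≠ 0) (x : Orth ι F) : cls x * cls x = 1 := by
  obtain ⟨g, hg⟩ := x
  refine Subgroup.closure_induction (p := fun x _ => cls x * cls x = 1) ?_ (by simp) (fun x y _ _ hx hy => ?_)
    (fun x _ hx => ?_) (closure_rf h2 hg)
  · rintro x ⟨a, -, hx⟩
    rw [← map_mul, show x * x = 1 from Subtype.ext (by rw [Subgroup.coe_mul, hx, rf_mul_self]; rfl), map_one]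
  · rw [map_mul, mul_mul_mul_comm, hx, hy, mul_one]
  · rw [map_inv, ← _root_.mul_inv_rev, hx, inv_one]

theorem sq_mem_om (h2 : (2 : F) ≠ 0) {g : GL ι F} (hg : g ∈ Orth ι F) : g * g ∈ Om ι F :=
  mem_om_of_cls (mul_mem hg hg) (by
    rw [show (⟨g * g, _⟩ : Orth ι F) = ⟨g, hg⟩ * ⟨g, hg⟩ from rfl, map_mul, cls_sq h2])

/-- every isometry agrees modulo the derived group with a product of given reflections of both classes -/
theorem exists_class (h2 : (2 : F) ≠ 0) {a b : ι → F} (ha : IsSquare (a ⬝ʷ a)) (ha0 : a ⬝ʷ a ≠ 0)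
    (hb : ¬ IsSquare (b ⬝ʷ b)) {g : GL ι F} (hg : g ∈ Orth ι F) :
    ∃ h, (h = 1 ∨ h = rf a ∨ h = rf b ∨ h = rf a * rf b) ∧ h⁻¹ * g ∈ Om ι F := by
  classical
  haveI := Fintype.ofFinite F
  have hb0 : b ⬝ʷ b ≠ 0 := fun e => hb (e ▸ ⟨0, (mul_zero 0).symm⟩)
  set A := cls (⟨rf a, rf_mem a⟩ : Orth ι F) with hA
  set B := cls (⟨rf b, rf_mem b⟩ : Orth ι F) with hB
  have hA2 : A * A = 1 := cls_sq h2 _
  have hB2 : B * B = 1 := cls_sq h2 _
  have hA3 : ∀ z, A * (A * z) = z := fun z => by rw [← mul_assoc, hA2, one_mul]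
  have hB3 : ∀ z, B * (B * z) = z := fun z => by rw [← mul_assoc, hB2, one_mul]
  have key : cls (⟨g, hg⟩ : Orth ι F) = 1 ∨ cls (⟨g, hg⟩ : Orth ι F) = A ∨ cls (⟨g, hg⟩ : Orth ι F) = B ∨
      cls (⟨g, hg⟩ : Orth ι F) = A * B := by
    refine Subgroup.closure_induction (p := fun x _ => cls x = 1 ∨ cls x = A ∨ cls x = B ∨ cls x = A * B) ?_
      (Or.inl (map_one _)) (fun x y _ _ hx hy => ?_) (fun x _ hx => ?_) (closure_rf h2 hg)
    · rintro x ⟨c, hc, hx⟩
      obtain rfl : x = ⟨rf c, rf_mem c⟩ := Subtype.ext hx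
      by_cases hsq : IsSquare (c ⬝ʷ c)
      · exact Or.inr (Or.inl (cls_rf_eq h2 hc ha0 (hsq.mul ha)))
      · refine Or.inr (Or.inr (Or.inl (cls_rf_eq h2 hc hb0 ?_)))
        rw [← quadraticChar_one_iff_isSquare (mul_ne_zero hc hb0), map_mul,
          quadraticChar_neg_one_iff_not_isSquare.2 hsq, quadraticChar_neg_one_iff_not_isSquare.2 hb]
        rfl
    · rw [map_mul]
      rcases hx with hx | hx | hx | hx <;> rcases hy with hy | hy | hy | hy <;> rw [hx, hy] <;>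
        simp [mul_comm, mul_left_comm, hA2, hB2, hA3, hB3]
    · rw [map_inv]
      rcases hx with hx | hx | hx | hx <;> rw [hx] <;>
        simp [inv_eq_of_mul_eq_one_right hA2, inv_eq_of_mul_eq_one_right hB2, mul_comm]
  have fin : ∀ (h : GL ι F) (hh : h ∈ Orth ι F), cls (⟨g, hg⟩ : Orth ι F) = cls ⟨h, hh⟩ → h⁻¹ * g ∈ Om ι F :=
    fun h hh e => mem_om_of_cls (mul_mem (inv_mem hh) hg) (by
      rw [show (⟨h⁻¹ * g, _⟩ : Orth ι F) = (⟨h, hh⟩ : Orth ι F)⁻¹ * ⟨g, hg⟩ from rfl, map_mul, map_inv, e,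
        inv_mul_cancel])
  rcases key with h | h | h | h
  · exact ⟨1, Or.inl rfl, fin 1 (one_mem _) (h.trans (map_one _).symm)⟩
  · exact ⟨_, Or.inr (Or.inl rfl), fin _ (rf_mem a) h⟩
  · exact ⟨_, Or.inr (Or.inr (Or.inl rfl)), fin _ (rf_mem b) h⟩
  · exact ⟨_, Or.inr (Or.inr (Or.inr rfl)), fin _ (mul_mem (rf_mem a) (rf_mem b)) (h.trans (by
      rw [hA, hB, ← map_mul]; rfl))⟩

/-- two orthogonal anisotropic vectors span vectors of every value -/
theorem exists_value (h2 : (2 : F) ≠ 0) {a b : ι → F} (ha : a ⬝ʷ a ≠ 0) (hb : b ⬝ʷ b ≠ 0) (hab : a ⬝ʷ b = 0)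
    (c : F) : ∃ x y : F, (x • a + y • b) ⬝ʷ (x • a + y • b) = c := by
  obtain ⟨x, y, h⟩ := binary_value h2 ha hb c
  refine ⟨x, y, ?_⟩
  simp only [add_bf, bf_add, smul_bf, bf_smul, smul_eq_mul, bf_comm b a,
    hab]
  linear_combination h

end Finite

end Cfsg.Agent.MaxCl.TEv
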