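/-
Symmetric idempotents of the dot product space: lines, ranks, orthogonal splittings, values, and isometries in
one summand covering all classes modulo the derived group.
-/
import Cfsg.Agent.Lib.MaxCl.TOrthBasic

set_option autoImplicit false
set_option linter.unusedSectionVars false

namespace Cfsg.Agent.MaxCl.TOrth

open Matrix
open scoped MatrixGroups

variable {ι : Type} [Fintype ι] [DecidableEq ι] {F : Type*} [Field F]

/-- symmetric idempotents -/
structure Pr (π : Matrix ι ι F) : Prop where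
  symm : πᵀ = π
  idem : π * π = π

theorem pr_zero : Pr (0 : Matrix ι ι F) := ⟨Matrix.transpose_zero, mul_zero 0⟩

theorem pr_one : Pr (1 : Matrix ι ι F) := ⟨Matrix.transpose_one, mul_one 1⟩

theorem Pr.one_sub {π : Matrix ι ι F} (h : Pr π) : Pr (1 - π) :=
  ⟨by rw [Matrix.transpose_sub, Matrix.transpose_one, h.symm], by
    rw [sub_mul, one_mul, mul_sub, mul_one, h.idem, sub_self, sub_zero]⟩

theorem Pr.swap {π σ : Matrix ι ι F} (h : Pr π) (h' : Pr σ) (e : π * σ = 0) : σ * π = 0 := by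
  have := congrArg Matrix.transpose e
  rwa [Matrix.transpose_mul, h.symm, h'.symm, Matrix.transpose_zero] at this

theorem Pr.add {π σ : Matrix ι ι F} (h : Pr π) (h' : Pr σ) (e : π * σ = 0) : Pr (π + σ) :=
  ⟨by rw [Matrix.transpose_add, h.symm, h'.symm], by
    rw [add_mul, mul_add, mul_add, h.idem, h'.idem, e, h.swap h' e, add_zero, zero_add]⟩

theorem Pr.sub {π σ : Matrix ι ι F} (h : Pr π) (h' : Pr σ) (e : π * σ = σ) : Pr (π - σ) :=
  ⟨by rw [Matrix.transpose_sub, h.symm, h'.symm], by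
    have e' : σ * π = σ := by
      have := congrArg Matrix.transpose e
      rwa [Matrix.transpose_mul, h.symm, h'.symm] at this
    rw [sub_mul, mul_sub, mul_sub, h.idem, h'.idem, e, e', sub_self, sub_zero]⟩

theorem Pr.one_sub_mul {π : Matrix ι ι F} (h : Pr π) : (1 - π) * π = 0 := by
  rw [sub_mul, one_mul, h.idem, sub_self]

theorem Pr.mul_one_sub {π : Matrix ι ι F} (h : Pr π) : π * (1 - π) = 0 := by
  rw [mul_sub, mul_one, h.idem, sub_self]

theorem Pr.mulVec_self {π : Matrix ι ι F} (h : Pr π) (x : ι → F) : π *ᵥ (π *ᵥ x) = π *ᵥ x := by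
  rw [Matrix.mulVec_mulVec, h.idem]

theorem Pr.dot {π : Matrix ι ι F} (h : Pr π) (x y : ι → F) : π *ᵥ x ⬝ᵥ y = x ⬝ᵥ π *ᵥ y := by
  rw [Matrix.dotProduct_mulVec, ← Matrix.mulVec_transpose, h.symm]

theorem pr_pj {a : ι → F} (ha : a ⬝ᵥ a ≠ 0) : Pr (pj a) :=
  ⟨by rw [pj, Matrix.transpose_smul, Matrix.transpose_vecMulVec], by
    rw [pj, smul_mul_smul_comm, Matrix.vecMulVec_mul_vecMulVec, Matrix.vecMulVec_smul, smul_smul]
    congr 1
    field_simp⟩

theorem pj_self {a : ι → F} (ha : a ⬝ᵥ a ≠ 0) : pj a *ᵥ a = a := by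
  rw [pj_mulVec, inv_mul_cancel₀ ha, one_smul]

theorem mul_pj {π : Matrix ι ι F} {a : ι → F} (h : π *ᵥ a = a) : π * pj a = pj a := by
  rw [pj, mul_smul_comm, Matrix.mul_vecMulVec, h]

theorem mul_pj_zero {π : Matrix ι ι F} {a : ι → F} (h : π *ᵥ a = 0) : π * pj a = 0 := by
  rw [pj, mul_smul_comm, Matrix.mul_vecMulVec, h, Matrix.zero_vecMulVec, smul_zero]

theorem pj_mul_pj {a b : ι → F} (h : a ⬝ᵥ b = 0) : pj a * pj b = 0 :=
  mul_pj_zero (by rw [pj_mulVec, h, mul_zero, zero_smul])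

theorem pj_smul {a : ι → F} {c : F} (hc : c ≠ 0) : pj (c • a) = pj a := by
  rw [pj, pj, Matrix.smul_vecMulVec, Matrix.vecMulVec_smul, smul_dotProduct, dotProduct_smul, smul_smul,
    smul_smul, smul_eq_mul, smul_eq_mul]
  congr 1
  rcases eq_or_ne (a ⬝ᵥ a) 0 with h | h
  · simp [h]
  · field_simp

theorem conj_pj (h2 : (2 : F) ≠ 0) {g : GL ι F} (hg : g ∈ Orth ι F) (a : ι → F) :
    (g : Matrix ι ι F) * pj a * (g : Matrix ι ι F)ᵀ = pj (act g a) := by
  rw [pj, pj, mul_smul_comm, smul_mul_assoc, Matrix.mul_vecMulVec, Matrix.vecMulVec_mul, Matrix.vecMul_transpose,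
    dot_act h2 hg, act_apply]

theorem exists_eq_smul_of_pj_eq {a b : ι → F} (hb : b ⬝ᵥ b ≠ 0) (h : pj a = pj b) :
    ∃ c : F, c • a = b := by
  refine ⟨(a ⬝ᵥ a)⁻¹ * (a ⬝ᵥ b), ?_⟩
  rw [← pj_mulVec, h, pj_self hb]

/-- a non-zero symmetric idempotent fixes an anisotropic vector -/
theorem exists_aniso (h2 : (2 : F) ≠ 0) {π : Matrix ι ι F} (h : Pr π) (h0 : π ≠ 0) :
    ∃ a, π *ᵥ a = a ∧ a ⬝ᵥ a ≠ 0 := by
  by_contra hc
  push Not at hc
  have h1 : ∀ x, x ⬝ᵥ π *ᵥ x = 0 := fun x => by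
    have := hc (π *ᵥ x) (h.mulVec_self x)
    rwa [h.dot, h.mulVec_self] at this
  refine h0 (Matrix.ext fun i j => ?_)
  have e := h1 (Pi.single i 1 + Pi.single j 1)
  have ei := h1 (Pi.single i 1)
  have ej := h1 (Pi.single j 1)
  simp only [Matrix.mulVec_add, dotProduct_add, add_dotProduct, Matrix.mulVec_single_one, single_dotProduct,
    one_mul, Matrix.col_apply] at e ei ej
  have hs : π j i = π i j := congrFun (congrFun h.symm i) j
  rw [ei, ej, hs] at e
  exact (mul_eq_zero.1 (show 2 * π i j = 0 by linear_combination e)).resolve_left h2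

/-! ### ranks -/

/-- the rank -/
noncomputable def rk (π : Matrix ι ι F) : ℕ := Module.finrank F (LinearMap.range π.mulVecLin)

theorem rk_zero : rk (0 : Matrix ι ι F) = 0 := by
  rw [rk, Matrix.mulVecLin_zero, LinearMap.range_zero, finrank_bot]

theorem rk_one : rk (1 : Matrix ι ι F) = Fintype.card ι := by
  rw [rk, Matrix.mulVecLin_one, LinearMap.range_id, finrank_top, Module.finrank_pi]

theorem eq_zero_of_rk {π : Matrix ι ι F} (h : rk π = 0) : π = 0 := by
  rw [rk, Submodule.finrank_eq_zero, LinearMap.range_eq_bot] at h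
  exact Matrix.ext_iff_mulVec.2 fun x => by rw [Matrix.zero_mulVec, ← Matrix.mulVecLin_apply, h]; rfl

theorem rk_add {π σ : Matrix ι ι F} (h : Pr π) (h' : Pr σ) (e : π * σ = 0) : rk (π + σ) = rk π + rk σ := by
  have e' := h.swap h' e
  have hsup : LinearMap.range (π + σ).mulVecLin = LinearMap.range π.mulVecLin ⊔ LinearMap.range σ.mulVecLin := by
    refine le_antisymm ?_ (sup_le ?_ ?_)
    · rintro _ ⟨x, rfl⟩
      rw [Matrix.mulVecLin_apply, Matrix.add_mulVec]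
      exact Submodule.add_mem_sup ⟨x, rfl⟩ ⟨x, rfl⟩
    · rintro _ ⟨x, rfl⟩
      exact ⟨π *ᵥ x, by simp [Matrix.add_mulVec, Matrix.mulVec_mulVec, h.idem, e']⟩
    · rintro _ ⟨x, rfl⟩
      exact ⟨σ *ᵥ x, by simp [Matrix.add_mulVec, Matrix.mulVec_mulVec, h'.idem, e]⟩
  have hinf : LinearMap.range π.mulVecLin ⊓ LinearMap.range σ.mulVecLin = ⊥ := by
    refine (Submodule.eq_bot_iff _).2 ?_
    rintro _ ⟨⟨x, rfl⟩, ⟨y, hy⟩⟩
    have := congrArg (π *ᵥ ·) hy
    simp only [Matrix.mulVecLin_apply, Matrix.mulVec_mulVec, e, Matrix.zero_mulVec, h.idem] at this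
    exact this.symm
  have := Submodule.finrank_sup_add_finrank_inf_eq (LinearMap.range π.mulVecLin) (LinearMap.range σ.mulVecLin)
  rw [hinf, finrank_bot, add_zero, ← hsup] at this
  exact this

theorem rk_le (π : Matrix ι ι F) : rk π ≤ Fintype.card ι := by
  rw [← Module.finrank_pi F (ι := ι)]
  exact Submodule.finrank_le _

theorem rk_one_sub {π : Matrix ι ι F} (h : Pr π) : rk π + rk (1 - π) = Fintype.card ι := by
  rw [← rk_add h h.one_sub h.mul_one_sub, add_sub_cancel, rk_one]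

theorem rk_pj {a : ι → F} (ha : a ⬝ᵥ a ≠ 0) : rk (pj a) = 1 := by
  have : LinearMap.range (pj a).mulVecLin = F ∙ a := by
    refine le_antisymm ?_ ((Submodule.span_singleton_le_iff_mem _ _).2 ⟨a, pj_self ha⟩)
    rintro _ ⟨x, rfl⟩
    rw [Matrix.mulVecLin_apply, pj_mulVec]
    exact Submodule.smul_mem _ _ (Submodule.mem_span_singleton_self a)
  rw [rk, this, finrank_span_singleton]
  rintro rfl
  simp at ha

theorem rk_sub_pj {π : Matrix ι ι F} (h : Pr π) {a : ι → F} (ha : a ⬝ᵥ a ≠ 0) (hπ : π *ᵥ a = a) :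
    rk (π - pj a) + 1 = rk π := by
  have h' := h.sub (pr_pj ha) (mul_pj hπ)
  rw [← rk_pj ha, ← rk_add h' (pr_pj ha) (by rw [sub_mul, mul_pj hπ, (pr_pj ha).idem, sub_self]), sub_add_cancel]

theorem eq_pj_of_rk (h2 : (2 : F) ≠ 0) {π : Matrix ι ι F} (h : Pr π) (h1 : rk π = 1) :
    ∃ a, a ⬝ᵥ a ≠ 0 ∧ π *ᵥ a = a ∧ π = pj a := by
  obtain ⟨a, hπ, ha⟩ := exists_aniso h2 h (fun e => by rw [e, rk_zero] at h1; omega)
  have := rk_sub_pj h ha hπ
  exact ⟨a, ha, hπ, sub_eq_zero.1 (eq_zero_of_rk (by omega))⟩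

/-- every value occurs in a summand of rank at least two -/
theorem exists_value_pr [Finite F] (h2 : (2 : F) ≠ 0) {π : Matrix ι ι F} (h : Pr π) (h1 : 2 ≤ rk π) (c : F) :
    ∃ x, π *ᵥ x = x ∧ x ⬝ᵥ x = c := by
  obtain ⟨a, hπa, ha⟩ := exists_aniso h2 h (fun e => by rw [e, rk_zero] at h1; omega)
  have h' := h.sub (pr_pj ha) (mul_pj hπa)
  have hr := rk_sub_pj h ha hπa
  obtain ⟨b, hb', hb⟩ := exists_aniso h2 h' (fun e => by rw [e, rk_zero] at hr; omega)
  have hab : a ⬝ᵥ b = 0 := by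
    rw [← hb', ← h'.dot, Matrix.sub_mulVec, hπa, pj_self ha, sub_self, zero_dotProduct]
  have hπb : π *ᵥ b = b := by
    conv_lhs => rw [← hb', Matrix.mulVec_mulVec, mul_sub, h.idem, mul_pj hπa]
    exact hb'
  obtain ⟨x, y, hxy⟩ := exists_value h2 ha hb hab c
  exact ⟨x • a + y • b, by rw [Matrix.mulVec_add, Matrix.mulVec_smul, Matrix.mulVec_smul, hπa, hπb], hxy⟩

/-! ### isometries in one summand -/

/-- the isometries that are the identity off a summand -/
def SuppIn (π : Matrix ι ι F) (g : GL ι F) : Prop :=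
  g ∈ Orth ι F ∧ (g : Matrix ι ι F) * (1 - π) = 1 - π ∧ Commute (g : Matrix ι ι F) π

theorem suppIn_one (π : Matrix ι ι F) : SuppIn π (1 : GL ι F) :=
  ⟨one_mem _, by rw [Units.val_one, one_mul], by rw [Units.val_one]; exact Commute.one_left _⟩

theorem suppIn_mul {π : Matrix ι ι F} {g g' : GL ι F} (hg : SuppIn π g) (hg' : SuppIn π g') : SuppIn π (g * g') :=
  ⟨mul_mem hg.1 hg'.1, by rw [Units.val_mul, mul_assoc, hg'.2.1, hg.2.1],
    by rw [Units.val_mul]; exact hg.2.2.mul_left hg'.2.2⟩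

theorem suppIn_rf {π : Matrix ι ι F} (h : Pr π) {a : ι → F} (ha : a ⬝ᵥ a ≠ 0) (hπ : π *ᵥ a = a) :
    SuppIn π (rf a) := by
  have e : pj a * π = pj a := by
    have := congrArg Matrix.transpose (mul_pj hπ)
    rwa [Matrix.transpose_mul, h.symm, (pr_pj ha).symm] at this
  refine ⟨rf_mem a, ?_, ?_⟩
  · rw [rf_val ha, sub_mul, one_mul, smul_mul_assoc, mul_sub, mul_one, e, sub_self, smul_zero, sub_zero]
  · rw [rf_val ha]
    exact (Commute.one_left _).sub_left (Commute.smul_left (e.trans (mul_pj hπ).symm) _)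

/-- a summand of rank at least two carries every class -/
theorem exists_suppIn [Finite F] (h2 : (2 : F) ≠ 0) {π : Matrix ι ι F} (h : Pr π) (h1 : 2 ≤ rk π) {g : GL ι F}
    (hg : g ∈ Orth ι F) : ∃ q, SuppIn π q ∧ q⁻¹ * g ∈ Om ι F := by
  obtain ⟨c, hc⟩ := exists_nonsquare h2
  obtain ⟨a, hπa, ha⟩ := exists_value_pr h2 h h1 1
  obtain ⟨b, hπb, hb⟩ := exists_value_pr h2 h h1 c
  have ha0 : a ⬝ᵥ a ≠ 0 := by rw [ha]; exact one_ne_zero
  have hb0 : b ⬝ᵥ b ≠ 0 := by rw [hb]; exact fun e => hc (e ▸ ⟨0, (mul_zero 0).symm⟩)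
  obtain ⟨q, hq, hqg⟩ := exists_class h2 (a := a) (b := b) (ha ▸ IsSquare.one) ha0 (hb ▸ hc) hg
  refine ⟨q, ?_, hqg⟩
  rcases hq with rfl | rfl | rfl | rfl
  · exact suppIn_one π
  · exact suppIn_rf h ha0 hπa
  · exact suppIn_rf h hb0 hπb
  · exact suppIn_mul (suppIn_rf h ha0 hπa) (suppIn_rf h hb0 hπb)

/-- a product of orthogonally supported isometries -/
theorem suppIn_mul_eq {π σ : Matrix ι ι F} (e : π * σ = 0) {g g' : GL ι F}
    (hg : SuppIn π g) (hg' : SuppIn σ g') : (g : Matrix ι ι F) * (g' : Matrix ι ι F) =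
      (g : Matrix ι ι F) * π + (g' : Matrix ι ι F) * σ + (1 - π - σ) := by
  have e1 : (g : Matrix ι ι F) = (g : Matrix ι ι F) * π + (1 - π) := by
    conv_lhs => rw [← mul_one (g : Matrix ι ι F), ← add_sub_cancel π 1, mul_add, hg.2.1]
  have e2 : (g' : Matrix ι ι F) = (g' : Matrix ι ι F) * σ + (1 - σ) := by
    conv_lhs => rw [← mul_one (g' : Matrix ι ι F), ← add_sub_cancel σ 1, mul_add, hg'.2.1]
  have h1 : π * ((g' : Matrix ι ι F) * σ) = 0 := by rw [hg'.2.2.eq, ← mul_assoc, e, zero_mul]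
  conv_lhs => rw [e1, e2]
  rw [add_mul, mul_assoc, mul_add, h1, zero_add, mul_sub π, mul_one, e, sub_zero, sub_mul, one_mul, mul_add π,
    h1, zero_add, mul_sub π, mul_one, e, sub_zero]
  abel

end Cfsg.Agent.MaxCl.TOrth
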