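/-
The derived group of an odd-dimensional dot product orthogonal group: involutions with a fixed line, signed
permutations, commutant, transitivity, small representations, simplicity and transfer to similar forms.
-/
import Cfsg.Agent.Lib.MaxCl.TOrthProj
import Cfsg.Agent.Lib.ClassicalSimple.OrthMatrix
import Cfsg.Agent.Lib.Aschbacher.MatrixUnits
import Cfsg.Agent.Lib.Aschbacher.FormOrthTools
import Cfsg.Agent.Lib.PSL2.Basic
import Cfsg.Agent.S0298

set_option autoImplicit false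
set_option linter.unusedSectionVars false

namespace Cfsg.Agent.MaxCl.TOrth

open Matrix
open scoped MatrixGroups

variable {ι : Type} [Fintype ι] [DecidableEq ι] {F : Type*} [Field F]

/-! ### derived groups as commutators; transfer -/

theorem omegaGL_eq (Q : (ι → F) → F) :
    Cfsg.Geo.omegaGL Q = ⁅isometryGroup F Q, isometryGroup F Q⁆ := by
  rw [Cfsg.Geo.omegaGL, show Omega F Q = ⁅(⊤ : Subgroup (isometryGroup F Q)), ⊤⁆ from rfl,
    Subgroup.map_commutator, ← MonoidHom.range_eq_map, Subgroup.range_subtype]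

theorem om_eq : Om ι F = ⁅Orth ι F, Orth ι F⁆ := omegaGL_eq _

/-- the derived group goes to the derived group -/
theorem om_map {κ : Type} [Fintype κ] [DecidableEq κ] {Q : (κ → F) → F} (φ : GL ι F →* GL κ F)
    (h : (Orth ι F).map φ = isometryGroup F Q) : (Om ι F).map φ = Cfsg.Geo.omegaGL Q := by
  rw [om_eq, Subgroup.map_commutator, h, omegaGL_eq]

theorem om_map_le {κ : Type} [Fintype κ] [DecidableEq κ] (φ : GL ι F →* GL κ F)
    (h : ∀ g ∈ Orth ι F, φ g ∈ Orth κ F) {g : GL ι F} (hg : g ∈ Om ι F) : φ g ∈ Om κ F := by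
  have h1 : (Om ι F).map φ ≤ Om κ F := by
    rw [om_eq, Subgroup.map_commutator, om_eq]
    exact Subgroup.commutator_mono (Subgroup.map_le_iff_le_comap.2 h) (Subgroup.map_le_iff_le_comap.2 h)
  exact h1 (Subgroup.mem_map_of_mem φ hg)

/-- similar forms have corresponding groups -/
theorem map_orth {κ : Type} [Fintype κ] [DecidableEq κ] (q : (κ → F) → F) (e : κ ≃ ι) (P : GL κ F) {μ : F}
    (hμ : μ ≠ 0) (h : ∀ x : ι → F, q ((P : Matrix κ κ F) *ᵥ (x ∘ e)) = μ * (x ⬝ᵥ x)) :
    (Orth ι F).map (Aschbacher.coordGL e P).toMonoidHom = isometryGroup F q := by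
  have key : ∀ (g : GL ι F) (x : ι → F),
      ((Aschbacher.coordGL e P g : GL κ F) : Matrix κ κ F) *ᵥ ((P : Matrix κ κ F) *ᵥ (x ∘ e)) =
        (P : Matrix κ κ F) *ᵥ ((act g x) ∘ e) := fun g x => by
    rw [Aschbacher.coordGL_val, Aschbacher.coordEquiv_apply, Matrix.mulVec_mulVec, mul_assoc, ← Units.val_mul,
      inv_mul_cancel, Units.val_one, mul_one, ← Matrix.mulVec_mulVec, Matrix.submatrix_mulVec_equiv, act_apply]
    simp [Function.comp_assoc]
  ext G
  obtain ⟨g, rfl⟩ := (Aschbacher.coordGL e P).surjective G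
  constructor
  · rintro ⟨g', hg', hgg⟩
    obtain rfl : g' = g := (Aschbacher.coordGL e P).injective hgg
    intro v _
    show q _ = q v
    obtain ⟨x, rfl⟩ : ∃ x : ι → F, v = (P : Matrix κ κ F) *ᵥ (x ∘ e) :=
      ⟨fun i => (((P⁻¹ : GL κ F) : Matrix κ κ F) *ᵥ v) (e.symm i), by
        rw [show ((fun i => (((P⁻¹ : GL κ F) : Matrix κ κ F) *ᵥ v) (e.symm i)) ∘ e) =
            ((P⁻¹ : GL κ F) : Matrix κ κ F) *ᵥ v from funext fun j => by simp,
          Matrix.mulVec_mulVec, ← Units.val_mul, mul_inv_cancel, Units.val_one, Matrix.one_mulVec]⟩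
    show q (((Aschbacher.coordGL e P g' : GL κ F) : Matrix κ κ F) *ᵥ _) = _
    rw [key, h, h, ← dq_apply, ← dq_apply, Orth.Q_act (Q := dq ι F) hg']
  · intro hg
    refine ⟨g, (Orth.mem_iso _).2 fun x => ?_, rfl⟩
    have := hg ((P : Matrix κ κ F) *ᵥ (x ∘ e)) ((P : Matrix κ κ F) *ᵥ (x ∘ e))
    change q (((Aschbacher.coordGL e P g : GL κ F) : Matrix κ κ F) *ᵥ _) = q _ at this
    rw [key, h, h] at this
    rw [dq_apply, dq_apply]
    exact mul_left_cancel₀ hμ this

variable [Finite F] (h2 : (2 : F) ≠ 0)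
include h2

omit [Finite F] in
/-- orthogonal reflections of one value -/
theorem orth_family {κ : Type*} [DecidableEq κ] {a : κ → ι → F} {ν : F} (hν : ν ≠ 0) (h : ∀ i, a i ⬝ᵥ a i = ν)
    (hperp : ∀ i j, i ≠ j → a i ⬝ᵥ a j = 0) (i₀ : κ) (T : Finset κ) :
    ∃ (g : GL ι F) (hg : g ∈ Orth ι F), (g : Matrix ι ι F) = 1 - (2 : F) • ∑ i ∈ T, pj (a i) ∧
      cls (⟨g, hg⟩ : Orth ι F) = cls (⟨rf (a i₀), rf_mem _⟩ : Orth ι F) ^ T.card := by
  induction T using Finset.induction with
  | empty => exact ⟨1, one_mem _, by simp, by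
      rw [Finset.card_empty, pow_zero]
      exact map_one _⟩
  | insert i T hi ih =>
    obtain ⟨g, hg, hv, hc⟩ := ih
    have hai : a i ⬝ᵥ a i ≠ 0 := by rw [h]; exact hν
    refine ⟨g * rf (a i), mul_mem hg (rf_mem _), ?_, ?_⟩
    · have h0 : (∑ j ∈ T, pj (a j)) * pj (a i) = 0 := by
        rw [Finset.sum_mul]
        exact Finset.sum_eq_zero fun j hj => pj_mul_pj (hperp j i fun e => hi (e ▸ hj))
      rw [Units.val_mul, hv, rf_val hai, Finset.sum_insert hi, sub_mul, one_mul, smul_mul_assoc, mul_sub, mul_one,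
        mul_smul_comm, h0, smul_zero, sub_zero, smul_add]
      abel
    · rw [show (⟨g * rf (a i), _⟩ : Orth ι F) = ⟨g, hg⟩ * ⟨rf (a i), rf_mem _⟩ from rfl, map_mul, hc,
        Finset.card_insert_of_notMem hi, pow_succ, cls_rf_eq h2 hai (by rw [h]; exact hν) (b := a i₀)
          (by rw [h, h]; exact ⟨ν, rfl⟩)]

/-- the involution fixing exactly the line of `a` -/
noncomputable def zz (a : ι → F) : GL ι F := -rf a

omit [Finite F] h2 in
theorem zz_val {a : ι → F} (ha : a ⬝ᵥ a ≠ 0) : (zz a : Matrix ι ι F) = (2 : F) • pj a - 1 := by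
  rw [zz, Units.val_neg, rf_val ha, neg_sub]

omit [Finite F] h2 in
theorem zz_mul_self (a : ι → F) : zz a * zz a = 1 := by rw [zz, neg_mul_neg, rf_mul_self]

omit [Finite F] in
theorem conj_zz {g : GL ι F} (hg : g ∈ Orth ι F) (a : ι → F) : g * zz a * g⁻¹ = zz (act g a) := by
  rw [zz, zz, mul_neg, neg_mul, conj_rf hg]

theorem zz_mem (hn : Odd (Fintype.card ι)) {a : ι → F} (ha : a ⬝ᵥ a ≠ 0) (hsq : IsSquare (a ⬝ᵥ a)) :
    zz a ∈ Om ι F := by
  obtain ⟨i₀⟩ : Nonempty ι := Fintype.card_pos_iff.1 hn.pos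
  have e1 : ∀ i : ι, (Pi.single i (1 : F) : ι → F) ⬝ᵥ Pi.single i 1 = 1 := fun i => by simp
  obtain ⟨g, hg, hv, hc⟩ := orth_family h2 (a := fun i : ι => (Pi.single i (1 : F) : ι → F)) one_ne_zero e1
    (fun i j hij => by simp [hij]) i₀ Finset.univ
  have hg1 : (g : Matrix ι ι F) = -1 := by
    rw [hv, show ∑ i : ι, pj (Pi.single i (1 : F) : ι → F) = 1 from ?_, two_smul]
    · abel
    ext i j
    rw [Matrix.sum_apply]
    simp [pj, Matrix.vecMulVec_apply, Pi.single_apply, Matrix.one_apply, eq_comm]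
  have e : zz a = g * rf a := Units.ext (by rw [zz, Units.val_neg, Units.val_mul, hg1, neg_mul, one_mul])
  rw [e]
  refine mem_om_of_cls (mul_mem hg (rf_mem _)) ?_
  rw [show (⟨g * rf a, _⟩ : Orth ι F) = ⟨g, hg⟩ * ⟨rf a, rf_mem _⟩ from rfl, map_mul, hc,
    cls_rf_eq h2 ha (b := Pi.single i₀ 1) (by simp) (by simpa using hsq), ← pow_succ, Finset.card_univ]
  obtain ⟨r, hr⟩ := hn
  rw [hr, show 2 * r + 1 + 1 = 2 * (r + 1) by ring, pow_mul, pow_two, cls_sq h2, one_pow]

theorem zz_single_mem (hn : Odd (Fintype.card ι)) (i : ι) : zz (Pi.single i (1 : F) : ι → F) ∈ Om ι F :=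
  zz_mem h2 hn (by simp) (by simp)

omit [Finite F] h2 in
/-- permutation matrices -/
def pmat (σ : Equiv.Perm ι) : GL ι F where
  val := Matrix.of fun i j => if σ j = i then 1 else 0
  inv := Matrix.of fun i j => if σ.symm j = i then 1 else 0
  val_inv := by ext i j; simp [Matrix.mul_apply, Matrix.one_apply, eq_comm]
  inv_val := by ext i j; simp [Matrix.mul_apply, Matrix.one_apply, eq_comm]

omit [Finite F] h2 in
theorem act_pmat (σ : Equiv.Perm ι) (x : ι → F) (i : ι) : act (pmat σ) x i = x (σ.symm i) := by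
  simp [act_apply, pmat, mulVec, dotProduct, ite_mul, Equiv.apply_eq_iff_eq_symm_apply]

omit [Finite F] in
theorem pmat_mem (σ : Equiv.Perm ι) : (pmat σ : GL ι F) ∈ Orth ι F := (Orth.mem_iso _).2 fun x => by
  rw [dq_apply, dq_apply]
  exact Fintype.sum_equiv σ.symm _ _ fun i => by rw [act_pmat]

omit [Finite F] h2 in
theorem pmat_mul (σ τ : Equiv.Perm ι) : (pmat (σ * τ) : GL ι F) = pmat σ * pmat τ :=
  gl_ext fun x => funext fun i => by rw [act_pmat, act_mul, act_pmat, act_pmat]; rfl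

theorem exists_cycle (hn : 3 ≤ Fintype.card ι) {i j : ι} (hij : i ≠ j) :
    ∃ σ : Equiv.Perm ι, σ i = j ∧ (pmat σ : GL ι F) ∈ Om ι F := by
  obtain ⟨l, -, hl⟩ := Finset.exists_mem_notMem_of_card_lt_card (s := ({i, j} : Finset ι)) (t := Finset.univ) (by
    have := Finset.card_le_two (a := i) (b := j)
    rw [Finset.card_univ]; omega)
  simp only [Finset.mem_insert, Finset.mem_singleton, not_or] at hl
  refine ⟨Equiv.swap i j * Equiv.swap i l * (Equiv.swap i j * Equiv.swap i l), ?_, ?_⟩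
  · simp [Equiv.Perm.mul_apply, Equiv.swap_apply_of_ne_of_ne hl.1 hl.2,
      Equiv.swap_apply_of_ne_of_ne hij.symm (Ne.symm hl.2)]
  · rw [pmat_mul]
    exact sq_mem_om h2 (pmat_mem h2 _)

/-- a matrix commuting with the derived group is scalar -/
theorem commutant (hn : Odd (Fintype.card ι)) (h3 : 3 ≤ Fintype.card ι) {M : Matrix ι ι F}
    (h : ∀ g ∈ Om ι F, Commute M (g : Matrix ι ι F)) : ∃ c : F, M = c • 1 := by
  have hd : ∀ i j, i ≠ j → M i j = 0 := fun i j hij => by
    have e := congrFun (congrFun (h _ (zz_single_mem h2 hn i)).eq i) j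
    rw [zz_val (by simp)] at e
    simp [pj, mul_sub, sub_mul, mul_one, one_mul, Matrix.mul_vecMulVec, Matrix.vecMulVec_mul,
      Matrix.vecMulVec_apply, Pi.single_apply, hij.symm] at e
    exact (mul_eq_zero.1 (show (2 : F) * M i j = 0 by linear_combination -e)).resolve_left h2
  obtain ⟨i₀⟩ : Nonempty ι := Fintype.card_pos_iff.1 hn.pos
  refine ⟨M i₀ i₀, Matrix.ext fun i j => ?_⟩
  rcases eq_or_ne i j with rfl | hij
  · rcases eq_or_ne i₀ i with rfl | hi
    · simp
    obtain ⟨σ, hσ, hmem⟩ := exists_cycle h2 h3 hi (F := F)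
    have e := congrFun (congrFun (h _ hmem).eq i) i₀
    rw [Matrix.mul_apply, Matrix.mul_apply, Finset.sum_eq_single i, Finset.sum_eq_single i₀] at e
    · simp [pmat, hσ] at e
      simp [e]
    · intro l _ hl; rw [hd l i₀ hl, mul_zero]
    · simp
    · intro l _ hl; rw [hd i l (Ne.symm hl), zero_mul]
    · simp
  · simp [hd i j hij, hij]

omit [Finite F] in
theorem det_one {g : GL ι F} (hg : g ∈ Om ι F) : (g : Matrix ι ι F).det = 1 := by
  have := Abelianization.commutator_subset_ker ((Matrix.GeneralLinearGroup.det (n := ι) (R := F)).comp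
    (Orth ι F).subtype) (x := ⟨g, om_le_orth hg⟩) ((QuotientGroup.eq_one_iff _).1 (cls_eq_one hg))
  exact congrArg Units.val this

/-- the derived group has trivial centre -/
theorem eq_one_of_central (hn : Odd (Fintype.card ι)) (h3 : 3 ≤ Fintype.card ι) {g : GL ι F} (hg : g ∈ Om ι F)
    (h : ∀ w ∈ Om ι F, Commute g w) : g = 1 := by
  obtain ⟨c, hc⟩ := commutant h2 hn h3 (M := (g : Matrix ι ι F)) fun w hw => congrArg Units.val (h w hw).eq
  obtain ⟨i⟩ : Nonempty ι := Fintype.card_pos_iff.1 hn.pos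
  have h1 := congrFun (congrFun (transpose_mul h2 (om_le_orth hg)) i) i
  rw [hc] at h1
  simp at h1
  have hdet := det_one h2 hg
  rw [hc, Matrix.det_smul, Matrix.det_one, mul_one] at hdet
  obtain ⟨r, hr⟩ := hn
  rw [hr, pow_add, pow_mul, pow_two, h1, one_pow, one_mul, pow_one] at hdet
  exact Units.ext (by rw [hc, hdet, one_smul, Units.val_one])

/-! ### transitivity -/

/-- the derived group is transitive on the vectors of one non-zero value -/
theorem exists_om_act (h3 : 3 ≤ Fintype.card ι) {a b : ι → F} (ha : a ⬝ᵥ a ≠ 0) (h : a ⬝ᵥ a = b ⬝ᵥ b) :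
    ∃ w ∈ Om ι F, act w a = b := by
  have hb : b ⬝ᵥ b ≠ 0 := h ▸ ha
  obtain ⟨g, hg⟩ := QForm.exists_act_eq (polar_nondeg h2) (Q := dq ι F) (x := a) (y := b)
    (fun e => ha (by simp [e])) (fun e => hb (by simp [e])) (by rw [dq_apply, dq_apply, h])
  have hr := rk_one_sub (pr_pj hb)
  rw [rk_pj hb] at hr
  obtain ⟨q, hq, hqg⟩ := exists_suppIn h2 (pr_pj hb).one_sub (g := (g : GL ι F)) (by omega) g.2
  refine ⟨_, hqg, ?_⟩
  have hqb : act q b = b := by
    have := congrArg (· *ᵥ b) hq.2.1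
    simp only [sub_sub_cancel, ← Matrix.mulVec_mulVec, pj_self hb] at this
    rw [act_apply]
    exact this
  rw [act_mul, show act (g : GL ι F) a = b from (act_apply _ _).trans hg]
  conv_lhs => arg 2; rw [← hqb]
  exact act_inv_act q b

omit [Finite F] in
/-- a unit vector lies in an orthonormal frame -/
theorem exists_frame {a : ι → F} (ha : a ⬝ᵥ a = 1) (i : ι) :
    ∃ g ∈ Orth ι F, act g (Pi.single i 1) = a := by
  obtain ⟨g, hg⟩ := QForm.exists_act_eq (polar_nondeg h2) (Q := dq ι F) (x := Pi.single i 1) (y := a)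
    (fun e => one_ne_zero (α := F) (by simpa using congrFun e i)) (fun e => one_ne_zero (α := F) (by simp [e] at ha))
    (by simp [dq_apply, ha])
  exact ⟨g, g.2, (act_apply _ _).trans hg⟩

end Cfsg.Agent.MaxCl.TOrth
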