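/-
The derived group of the orthogonal group of a diagonal form: transfer, reflections of one value, signed
permutations, commutant and transitivity.
-/
import Cfsg.Agent.Lib.MaxCl.TEvProj
import Cfsg.Agent.Lib.ClassicalSimple.OrthMatrix
import Cfsg.Agent.Lib.Aschbacher.MatrixUnits
import Cfsg.Agent.Lib.Aschbacher.FormOrthTools
import Cfsg.Agent.Lib.PSL2.Basic
import Cfsg.Agent.Lib.MaxCl.TOrthUnit

set_option autoImplicit false
set_option linter.unusedSectionVars false

namespace Cfsg.Agent.MaxCl.TEv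

open Matrix
open TOrth (binary_value exists_nonsquare rk rk_zero rk_one eq_zero_of_rk rk_le omegaGL_eq pmat act_pmat pmat_mul)
open scoped MatrixGroups

variable {ι : Type} [Fintype ι] [DecidableEq ι] {F : Type*} [Field F] [Wt ι F]

/-! ### derived groups as commutators; transfer -/

theorem om_eq : Om ι F = ⁅Orth ι F, Orth ι F⁆ := omegaGL_eq _

/-- the derived group goes to the derived group -/
theorem om_map {κ : Type} [Fintype κ] [DecidableEq κ] {Q : (κ → F) → F} (φ : GL ι F →* GL κ F)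
    (h : (Orth ι F).map φ = isometryGroup F Q) : (Om ι F).map φ = Cfsg.Geo.omegaGL Q := by
  rw [om_eq, Subgroup.map_commutator, h, omegaGL_eq]

theorem om_map_le {κ : Type} [Fintype κ] [DecidableEq κ] [Wt κ F] (φ : GL ι F →* GL κ F)
    (h : ∀ g ∈ Orth ι F, φ g ∈ Orth κ F) {g : GL ι F} (hg : g ∈ Om ι F) : φ g ∈ Om κ F := by
  have h1 : (Om ι F).map φ ≤ Om κ F := by
    rw [om_eq, Subgroup.map_commutator, om_eq]
    exact Subgroup.commutator_mono (Subgroup.map_le_iff_le_comap.2 h) (Subgroup.map_le_iff_le_comap.2 h)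
  exact h1 (Subgroup.mem_map_of_mem φ hg)

/-- similar forms have corresponding groups -/
theorem map_orth {κ : Type} [Fintype κ] [DecidableEq κ] (q : (κ → F) → F) (e : κ ≃ ι) (P : GL κ F) {μ : F}
    (hμ : μ ≠ 0) (h : ∀ x : ι → F, q ((P : Matrix κ κ F) *ᵥ (x ∘ e)) = μ * (x ⬝ʷ x)) :
    (Orth ι F).map (Aschbacher.coordGL e P).toMonoidHom = isometryGroup F q := by
  have key : ∀ (g : GL ι F) (x : ι → F),
      ((Aschbacher.coordGL e P g : GL κ F) : Matrix κ κ F) *ᵥ ((P : Matrix κ κ F) *ᵥ (x ∘ e)) =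
        (P : Matrix κ κ F) *ᵥ ((act g x) ∘ e) := fun g x => by
    rw [Aschbacher.coordGL_val, Aschbacher.coordEquiv_apply, Matrix.mulVec_mulVec, mul_assoc, ← Units.val_mul,
      inv_mul_cancel, Units.val_one, mul_one, ← Matrix.mulVec_mulVec, Matrix.submatrix_mulVec_equiv, act_apply]
    simp [Function.comp_assoc]
  ext G
  obtain ⟨g, rfl⟩ := (Aschbacher.coordGL e P).surjective G
  constructor
  · rintro ⟨g', hg', hgg⟩
    obtain rfl : g' = g := (Aschbacher.coordGL e P).injective hgg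
    intro v _
    show q _ = q v
    obtain ⟨x, rfl⟩ : ∃ x : ι → F, v = (P : Matrix κ κ F) *ᵥ (x ∘ e) :=
      ⟨fun i => (((P⁻¹ : GL κ F) : Matrix κ κ F) *ᵥ v) (e.symm i), by
        rw [show ((fun i => (((P⁻¹ : GL κ F) : Matrix κ κ F) *ᵥ v) (e.symm i)) ∘ e) =
            ((P⁻¹ : GL κ F) : Matrix κ κ F) *ᵥ v from funext fun j => by simp,
          Matrix.mulVec_mulVec, ← Units.val_mul, mul_inv_cancel, Units.val_one, Matrix.one_mulVec]⟩
    show q (((Aschbacher.coordGL e P g' : GL κ F) : Matrix κ κ F) *ᵥ _) = _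
    rw [key, h, h, ← dq_apply, ← dq_apply, Orth.Q_act (Q := dq ι F) hg']
  · intro hg
    refine ⟨g, (Orth.mem_iso _).2 fun x => ?_, rfl⟩
    have := hg ((P : Matrix κ κ F) *ᵥ (x ∘ e)) ((P : Matrix κ κ F) *ᵥ (x ∘ e))
    change q (((Aschbacher.coordGL e P g : GL κ F) : Matrix κ κ F) *ᵥ _) = q _ at this
    rw [key, h, h] at this
    rw [dq_apply, dq_apply]
    exact mul_left_cancel₀ hμ this

variable [Finite F] (h2 : (2 : F) ≠ 0)
include h2

omit [Finite F] in
/-- orthogonal reflections of one value -/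
theorem orth_family {κ : Type*} [DecidableEq κ] {a : κ → ι → F} {ν : F} (hν : ν ≠ 0) (h : ∀ i, a i ⬝ʷ a i = ν)
    (hperp : ∀ i j, i ≠ j → a i ⬝ʷ a j = 0) (i₀ : κ) (T : Finset κ) :
    ∃ (g : GL ι F) (hg : g ∈ Orth ι F), (g : Matrix ι ι F) = 1 - (2 : F) • ∑ i ∈ T, pj (a i) ∧
      cls (⟨g, hg⟩ : Orth ι F) = cls (⟨rf (a i₀), rf_mem _⟩ : Orth ι F) ^ T.card := by
  induction T using Finset.induction with
  | empty => exact ⟨1, one_mem _, by simp, by
      rw [Finset.card_empty, pow_zero]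
      exact map_one _⟩
  | insert i T hi ih =>
    obtain ⟨g, hg, hv, hc⟩ := ih
    have hai : a i ⬝ʷ a i ≠ 0 := by rw [h]; exact hν
    refine ⟨g * rf (a i), mul_mem hg (rf_mem _), ?_, ?_⟩
    · have h0 : (∑ j ∈ T, pj (a j)) * pj (a i) = 0 := by
        rw [Finset.sum_mul]
        exact Finset.sum_eq_zero fun j hj => pj_mul_pj (hperp j i fun e => hi (e ▸ hj))
      rw [Units.val_mul, hv, rf_val hai, Finset.sum_insert hi, sub_mul, one_mul, smul_mul_assoc, mul_sub, mul_one,
        mul_smul_comm, h0, smul_zero, sub_zero, smul_add]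
      abel
    · rw [show (⟨g * rf (a i), _⟩ : Orth ι F) = ⟨g, hg⟩ * ⟨rf (a i), rf_mem _⟩ from rfl, map_mul, hc,
        Finset.card_insert_of_notMem hi, pow_succ, cls_rf_eq h2 hai (by rw [h]; exact hν) (b := a i₀)
          (by rw [h, h]; exact ⟨ν, rfl⟩)]

omit [Finite F] in
theorem pmat_mem {σ : Equiv.Perm ι} (hσ : ∀ i, (Wt.w (σ i) : F) = Wt.w i) : (pmat σ : GL ι F) ∈ Orth ι F :=
  (Orth.mem_iso _).2 fun x => by
    rw [dq_apply, dq_apply]
    exact Fintype.sum_equiv σ.symm _ _ fun i => by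
      rw [act_pmat, ← hσ (σ.symm i), Equiv.apply_symm_apply]

/-- three-cycles on coordinates of one weight -/
theorem exists_cycle {i j l : ι} (hij : i ≠ j) (hil : i ≠ l) (hjl : j ≠ l) (hwj : (Wt.w j : F) = Wt.w i)
    (hwl : (Wt.w l : F) = Wt.w i) : ∃ σ : Equiv.Perm ι, σ i = j ∧ (pmat σ : GL ι F) ∈ Om ι F := by
  refine ⟨Equiv.swap i j * Equiv.swap i l * (Equiv.swap i j * Equiv.swap i l), ?_, ?_⟩
  · simp [Equiv.Perm.mul_apply, Equiv.swap_apply_of_ne_of_ne hil.symm hjl.symm,
      Equiv.swap_apply_of_ne_of_ne hij.symm hjl]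
  · have hsw : ∀ b : ι, (Wt.w b : F) = Wt.w i → ∀ x, (Wt.w (Equiv.swap i b x) : F) = Wt.w x := fun b hb x => by
      rcases eq_or_ne x i with rfl | hxi
      · rw [Equiv.swap_apply_left, hb]
      rcases eq_or_ne x b with rfl | hxb
      · rw [Equiv.swap_apply_right, hb]
      · rw [Equiv.swap_apply_of_ne_of_ne hxi hxb]
    rw [pmat_mul]
    exact sq_mem_om h2 (pmat_mem h2 fun x => by rw [Equiv.Perm.mul_apply, hsw j hwj, hsw l hwl])

/-- two sign changes of coordinates of one weight -/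
theorem rf_single_mul_mem {i j : ι} (h : (Wt.w i : F) = Wt.w j) :
    rf (Pi.single i (1 : F) : ι → F) * rf (Pi.single j (1 : F)) ∈ Om ι F := by
  have e : ∀ l : ι, (Pi.single l (1 : F) : ι → F) ⬝ʷ Pi.single l 1 = Wt.w l := fun l => by simp [bf_single]
  exact rf_mul_rf_mem h2 (by rw [e]; exact Wt.ne i) (by rw [e]; exact Wt.ne j) (by rw [e, e, h]; exact ⟨_, rfl⟩)

omit [Finite F] in
theorem rf_single_val (i : ι) :
    (rf (Pi.single i (1 : F) : ι → F) : Matrix ι ι F) = Matrix.diagonal fun x => if x = i then -1 else 1 := by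
  rw [rf_val (by simpa [bf_single] using Wt.ne i)]
  ext a b
  simp only [pj, Matrix.sub_apply, Matrix.smul_apply, ov_apply, Pi.single_apply, Matrix.one_apply,
    Matrix.diagonal_apply, bf_single, smul_eq_mul]
  split_ifs <;> simp_all [Wt.ne] <;> norm_num

omit [Finite F] in
theorem det_one {g : GL ι F} (hg : g ∈ Om ι F) : (g : Matrix ι ι F).det = 1 := by
  have := Abelianization.commutator_subset_ker ((Matrix.GeneralLinearGroup.det (n := ι) (R := F)).comp
    (Orth ι F).subtype) (x := ⟨g, om_le_orth hg⟩) ((QuotientGroup.eq_one_iff _).1 (cls_eq_one hg))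
  exact congrArg Units.val this

/-! ### transitivity -/

/-- the derived group is transitive on the vectors of one non-zero value -/
theorem exists_om_act (h3 : 3 ≤ Fintype.card ι) {a b : ι → F} (ha : a ⬝ʷ a ≠ 0) (h : a ⬝ʷ a = b ⬝ʷ b) :
    ∃ w ∈ Om ι F, act w a = b := by
  have hb : b ⬝ʷ b ≠ 0 := h ▸ ha
  obtain ⟨g, hg⟩ := QForm.exists_act_eq (polar_nondeg h2) (Q := dq ι F) (x := a) (y := b)
    (fun e => ha (by rw [e, zero_bf])) (fun e => hb (by rw [e, zero_bf])) (by rw [dq_apply, dq_apply, h])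
  have hr := rk_one_sub (pr_pj hb)
  rw [rk_pj hb] at hr
  obtain ⟨q, hq, hqg⟩ := exists_suppIn h2 (pr_pj hb).one_sub (g := (g : GL ι F)) (by omega) g.2
  refine ⟨_, hqg, ?_⟩
  have hqb : act q b = b := by
    have := congrArg (· *ᵥ b) hq.2.1
    simp only [sub_sub_cancel, ← Matrix.mulVec_mulVec, pj_self hb] at this
    rw [act_apply]
    exact this
  rw [act_mul, show act (g : GL ι F) a = b from (act_apply _ _).trans hg]
  conv_lhs => arg 2; rw [← hqb]
  exact act_inv_act q b

/-- a matrix commuting with the derived group is scalar, if all but one weight are one -/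
theorem commutant_ones (h4 : 4 ≤ Fintype.card ι) {j₀ : ι} (hw : ∀ i, i ≠ j₀ → (Wt.w i : F) = 1) {M : Matrix ι ι F}
    (h : ∀ g ∈ Om ι F, Commute M (g : Matrix ι ι F)) : ∃ c : F, M = c • 1 := by
  classical
  have hex : ∀ a b c : ι, ∃ l, l ≠ a ∧ l ≠ b ∧ l ≠ c := fun a b c => by
    obtain ⟨l, -, hl⟩ := Finset.exists_mem_notMem_of_card_lt_card (s := ({a, b, c} : Finset ι)) (t := Finset.univ) (by
      have := Finset.card_le_three (a := a) (b := b) (c := c)
      rw [Finset.card_univ]; omega)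
    simp only [Finset.mem_insert, Finset.mem_singleton, not_or] at hl
    exact ⟨l, hl.1, hl.2.1, hl.2.2⟩
  have hsign : ∀ a b i l, a ≠ j₀ → b ≠ j₀ → (i = a) → l ≠ a → i ≠ b → l ≠ b → M i l = 0 ∧ M l i = 0 := by
    rintro a b i l ha hb rfl hla hib hlb
    have e := (h _ (rf_single_mul_mem h2 (show (Wt.w i : F) = Wt.w b by rw [hw i ha, hw b hb]))).eq
    rw [Units.val_mul, rf_single_val h2, rf_single_val h2, Matrix.diagonal_mul_diagonal] at e
    have e1 := congrFun (congrFun e i) l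
    have e2 := congrFun (congrFun e l) i
    simp only [Matrix.mul_diagonal, Matrix.diagonal_mul, if_neg hla, if_neg hlb, if_neg hib, if_true] at e1 e2
    exact ⟨(mul_eq_zero.1 (show (2 : F) * M i l = 0 by linear_combination e1)).resolve_left h2,
      (mul_eq_zero.1 (show (2 : F) * M l i = 0 by linear_combination -e2)).resolve_left h2⟩
  have hoff : ∀ i l, i ≠ l → M i l = 0 := fun i l hil => by
    obtain ⟨b, hbi, hbl, hb0⟩ := hex i l j₀
    rcases eq_or_ne i j₀ with hi | hi
    · exact (hsign l b l i (fun e => hil (hi.trans e.symm)) hb0 rfl hil hbl.symm hbi.symm).2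
    · exact (hsign i b i l hi hb0 rfl hil.symm hbi.symm hbl.symm).1
  have hdg : ∀ i l, i ≠ j₀ → l ≠ j₀ → M i i = M l l := fun i l hi hl => by
    rcases eq_or_ne i l with rfl | hil
    · rfl
    obtain ⟨b, hbi, hbl, hb0⟩ := hex i l j₀
    obtain ⟨σ, hσ, hmem⟩ := exists_cycle h2 hil hbi.symm hbl.symm (F := F) (by rw [hw i hi, hw l hl])
      (by rw [hw i hi, hw b hb0])
    have e := congrFun (congrFun (h _ hmem).eq l) i
    rw [Matrix.mul_apply, Matrix.mul_apply, Finset.sum_eq_single l, Finset.sum_eq_single i] at e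
    · simp [pmat, hσ] at e
      exact e.symm
    · intro x _ hx; rw [hoff x i hx, mul_zero]
    · simp
    · intro x _ hx; rw [hoff l x (Ne.symm hx), zero_mul]
    · simp
  obtain ⟨a, ha, -, -⟩ := hex j₀ j₀ j₀
  obtain ⟨b, hb, hba, -⟩ := hex j₀ a a
  obtain ⟨x, y, hxy⟩ := binary_value h2 (one_ne_zero (α := F)) one_ne_zero (1 - Wt.w j₀)
  obtain ⟨g, hg, hga⟩ := exists_om_act h2 (by omega) (a := Pi.single a (1 : F))
    (b := Pi.single j₀ 1 + x • Pi.single a 1 + y • Pi.single b 1)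
    (by simpa [bf_single] using Wt.ne a) (by
      simp [add_bf, bf_add, smul_bf, bf_smul, bf_single, hw a ha, hw b hb, ha, ha.symm, hb, hb.symm, hba, hba.symm]
      linear_combination -hxy)
  have hd0 : M j₀ j₀ = M a a := by
    have e := congrFun (congrArg (· *ᵥ (Pi.single a (1 : F) : ι → F)) (h g hg).eq) j₀
    simp only [← Matrix.mulVec_mulVec] at e
    rw [← act_apply, hga] at e
    have hM : M = Matrix.diagonal fun i => M i i := Matrix.ext fun i l => by
      rcases eq_or_ne i l with rfl | hil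
      · rw [Matrix.diagonal_apply_eq]
      · rw [hoff i l hil, Matrix.diagonal_apply_ne _ hil]
    have hMa : M *ᵥ Pi.single a (1 : F) = M a a • Pi.single a 1 := by
      rw [hM, Matrix.diagonal_mulVec_single, Matrix.diagonal_apply_eq, ← Pi.single_smul, smul_eq_mul]
    rw [hMa, Matrix.mulVec_smul, ← act_apply g, hga] at e
    rw [hM, Matrix.mulVec_diagonal] at e
    simpa [ha.symm, hb.symm] using e
  refine ⟨M a a, Matrix.ext fun i l => ?_⟩
  rcases eq_or_ne i l with rfl | hil
  · rw [Matrix.smul_apply, Matrix.one_apply_eq, smul_eq_mul, mul_one]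
    rcases eq_or_ne i j₀ with rfl | hi
    · exact hd0
    · exact hdg i a hi ha
  · rw [hoff i l hil, Matrix.smul_apply, Matrix.one_apply_ne hil, smul_zero]

end Cfsg.Agent.MaxCl.TEv
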