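/-
Simplicity of the derived group of an odd-dimensional dot product orthogonal group, and triviality of its
representations of dimension at most n - 2.
-/
import Cfsg.Agent.Lib.MaxCl.TOrthUnit
import Cfsg.Agent.Lib.Forms.Quad

set_option autoImplicit false
set_option linter.unusedSectionVars false

namespace Cfsg.Agent.MaxCl.TOrth

open Matrix
open scoped MatrixGroups commutatorElement

variable {ι : Type} [Fintype ι] [DecidableEq ι] {F : Type*} [Field F]

/-- the derived group and the group `Omega` -/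
noncomputable def omEquiv (Q : (ι → F) → F) : Omega F Q ≃* Cfsg.Geo.omegaGL Q :=
  (Omega F Q).equivMapOfInjective (isometryGroup F Q).subtype Subtype.val_injective

/-- equal to the adjoint group when the centre is trivial -/
noncomputable def pomegaEquiv {G : Type*} [Group G] (h : Subgroup.center G = ⊥) : G ⧸ Subgroup.center G ≃* G :=
  (QuotientGroup.quotientMulEquivOfEq h).trans QuotientGroup.quotientBot

/-- Omega of a form similar to the sum of three squares -/
theorem exists_three (h2 : (2 : F) ≠ 0) [Finite F] : ∃ (e : (Unit ⊕ (Fin 1 ⊕ Fin 1)) ≃ Fin 3)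
    (P : GL (Unit ⊕ (Fin 1 ⊕ Fin 1)) F) (μ : F), μ ≠ 0 ∧
      ∀ x : Fin 3 → F, Cfsg.quadFormOdd 1 F ((P : Matrix _ _ F) *ᵥ (x ∘ e)) = μ * (x ⬝ᵥ x) := by
  haveI := Fintype.ofFinite F
  let e : (Unit ⊕ (Fin 1 ⊕ Fin 1)) ≃ Fin 3 := Fintype.equivFinOfCardEq (by simp)
  set Q := Forms.quadOdd 1 F with hQ
  set B : LinearMap.BilinForm F (Fin 3 → F) :=
    (QuadraticMap.polarBilin Q).compl₁₂ (LinearEquiv.funCongrLeft F F e).toLinearMap
      (LinearEquiv.funCongrLeft F F e).toLinearMap with hB
  have hBn : B.Nondegenerate := by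
    have hn := Forms.quadOdd_nondegenerate (F := F) h2 1
    refine ⟨fun x hx => (LinearEquiv.funCongrLeft F F e).injective ?_, fun y hy => (LinearEquiv.funCongrLeft F F e).injective ?_⟩
    · rw [map_zero]
      refine hn.1 _ fun z => ?_
      obtain ⟨z, rfl⟩ := (LinearEquiv.funCongrLeft F F e).surjective z
      exact hx z
    · rw [map_zero]
      refine hn.2 _ fun z => ?_
      obtain ⟨z, rfl⟩ := (LinearEquiv.funCongrLeft F F e).surjective z
      exact hy z
  set G := LinearMap.BilinForm.toMatrix' B with hG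
  have hdet : G.det ≠ 0 := by
    rw [← LinearMap.BilinForm.nondegenerate_toBilin'_iff_det_ne_zero, hG, Matrix.toBilin'_toMatrix']
    exact hBn
  have hs : Gᵀ = G := by
    ext i j
    rw [Matrix.transpose_apply, hG, LinearMap.BilinForm.toMatrix'_apply, LinearMap.BilinForm.toMatrix'_apply, hB,
      LinearMap.compl₁₂_apply, LinearMap.compl₁₂_apply, QuadraticMap.polarBilin_apply_apply,
      QuadraticMap.polarBilin_apply_apply, QuadraticMap.polar_comm]
  obtain ⟨T, μ, hμ, hT⟩ := Aschbacher.exists_congr_scalar h2 (⟨1, rfl⟩ : Odd 3) hdet hs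
  refine ⟨e, Cfsg.Geo.glReindex e.symm T, μ / 2, div_ne_zero hμ h2, fun x => ?_⟩
  have hPv : (Cfsg.Geo.glReindex e.symm T : Matrix _ _ F) *ᵥ (x ∘ e) =
      ((T : Matrix (Fin 3) (Fin 3) F) *ᵥ x) ∘ e := by
    show (T : Matrix (Fin 3) (Fin 3) F).submatrix e e *ᵥ (x ∘ e) = _
    rw [Matrix.submatrix_mulVec_equiv]
    simp [Function.comp_assoc]
  rw [hPv, ← Forms.quadOdd_apply]
  have h1 : B ((T : Matrix (Fin 3) (Fin 3) F) *ᵥ x) ((T : Matrix (Fin 3) (Fin 3) F) *ᵥ x) = μ * (x ⬝ᵥ x) := by
    rw [← Matrix.toBilin'_toMatrix' B, ← hG, Matrix.toBilin'_apply', Matrix.mulVec_mulVec, Matrix.dotProduct_mulVec,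
      Matrix.vecMul_mulVec, ← mul_assoc, hT, Matrix.vecMul_smul, Matrix.vecMul_one, smul_dotProduct, smul_eq_mul]
  have h2' : B ((T : Matrix (Fin 3) (Fin 3) F) *ᵥ x) ((T : Matrix (Fin 3) (Fin 3) F) *ᵥ x) =
      2 * Q (((T : Matrix (Fin 3) (Fin 3) F) *ᵥ x) ∘ e) := by
    rw [hB, LinearMap.compl₁₂_apply, QuadraticMap.polarBilin_apply_apply]
    exact Orth.B_self Q _
  rw [h2'] at h1
  field_simp
  linear_combination h1

variable [Finite F] (h2 : (2 : F) ≠ 0) (hn : Odd (Fintype.card ι)) (h3 : 3 ≤ Fintype.card ι)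
  (hq : 5 ≤ Fintype.card ι ∨ 5 ≤ Nat.card F)
include h2 hn h3

theorem center_om : Subgroup.center ↥(Om ι F) = ⊥ :=
  (Subgroup.eq_bot_iff_forall _).2 fun g hg => Subtype.ext (eq_one_of_central h2 hn h3 g.2 fun w hw =>
    (congrArg Subtype.val (Subgroup.mem_center_iff.1 hg ⟨w, hw⟩)).symm)

include hq in
theorem simple_om : IsSimpleGroup ↥(Om ι F) := by
  by_cases h5 : 5 ≤ Fintype.card ι
  · have hs := ClassicalSimple.POmega_isSimpleGroup (dq ι F)
      (ClassicalSimple.bil_nondegenerate _ (polar_nondeg h2)) h5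
    have hc : Subgroup.center (Omega F ⇑(dq ι F)) = ⊥ := by
      have := center_om h2 hn h3 (ι := ι) (F := F)
      rw [← ClassicalSimple.center_map_equiv (omEquiv (⇑(dq ι F))).symm]
      exact (congrArg (Subgroup.map _) this).trans (Subgroup.map_bot _)
    exact ClassicalSimple.isSimpleGroup_of_equiv ((omEquiv _).symm.trans (pomegaEquiv hc).symm)
  · have hq5 := hq.resolve_left h5
    have hι : Fintype.card ι = 3 := by obtain ⟨r, hr⟩ := hn; omega
    haveI := Fintype.ofFinite F
    have hoddF : Odd (Fintype.card F) := Nat.odd_iff.2 (FiniteField.odd_card_of_char_ne_two fun hc => h2 (by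
      haveI := ringChar.of_eq hc
      exact CharTwo.two_eq_zero))
    obtain ⟨e, P, μ, hμ, hP⟩ := exists_three (F := F) h2
    let e' := Fintype.equivFinOfCardEq hι
    have hmap := map_orth (ι := ι) (Cfsg.quadFormOdd 1 F) (e.trans e'.symm) P hμ fun x => by
      have := hP (x ∘ e'.symm)
      rw [show (x ∘ e'.symm) ⬝ᵥ (x ∘ e'.symm) = x ⬝ᵥ x from
        Fintype.sum_equiv e'.symm _ _ fun _ => rfl] at this
      exact this
    have E : ↥(Om ι F) ≃* Omega F (Cfsg.quadFormOdd 1 F) :=
      ((Subgroup.equivMapOfInjective (Om ι F) (Aschbacher.coordGL (e.trans e'.symm) P).toMonoidHom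
        (Aschbacher.coordGL (e.trans e'.symm) P).injective).trans
        (MulEquiv.subgroupCongr (om_map _ hmap))).trans (omEquiv _).symm
    have hc : Subgroup.center (Omega F (Cfsg.quadFormOdd 1 F)) = ⊥ := by
      rw [← ClassicalSimple.center_map_equiv E, center_om h2 hn h3, Subgroup.map_bot]
    obtain ⟨E'⟩ := Cfsg.Agent.S0298.result (F := F) hoddF
    haveI := PSL2.psl_isSimpleGroup (F := F) (by rw [← Nat.card_eq_fintype_card]; omega)
    exact ClassicalSimple.isSimpleGroup_of_equiv ((E.trans (pomegaEquiv hc).symm).trans E')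

include hq

/-- a normal subgroup is trivial or everything -/
theorem om_normal {N : Subgroup (GL ι F)} (hN : N ≤ Om ι F)
    (hc : ∀ g ∈ Om ι F, ∀ x ∈ N, g * x * g⁻¹ ∈ N) : N = ⊥ ∨ N = Om ι F := by
  haveI := simple_om h2 hn h3 hq
  haveI : (N.subgroupOf (Om ι F)).Normal := ⟨fun x hx g => hc g g.2 x hx⟩
  rcases IsSimpleGroup.eq_bot_or_eq_top_of_normal (N.subgroupOf (Om ι F)) inferInstance with h | h
  · exact Or.inl ((Subgroup.eq_bot_iff_forall _).2 fun x hx => congrArg Subtype.val
      ((Subgroup.eq_bot_iff_forall _).1 h ⟨x, hN hx⟩ hx))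
  · exact Or.inr (le_antisymm hN (Subgroup.subgroupOf_eq_top.1 h))

/-- a normal subgroup with a non-trivial element is everything -/
theorem om_le_of_normal {N : Subgroup (GL ι F)}
    (hc : ∀ g ∈ Om ι F, ∀ x ∈ N, x ∈ Om ι F → g * x * g⁻¹ ∈ N) {x : GL ι F} (hx : x ∈ N) (hxO : x ∈ Om ι F)
    (hx1 : x ≠ 1) : Om ι F ≤ N := by
  rcases om_normal h2 hn h3 hq (N := N ⊓ Om ι F) inf_le_right fun g hg y hy =>
    ⟨hc g hg y hy.1 hy.2, (Om ι F).mul_mem ((Om ι F).mul_mem hg hy.2) ((Om ι F).inv_mem hg)⟩ with h | h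
  · exact absurd ((Subgroup.eq_bot_iff_forall _).1 h x ⟨hx, hxO⟩) hx1
  · exact inf_eq_right.1 h

/-- the derived group is perfect -/
theorem hom_comm_trivial {A : Type*} [CommGroup A] (ψ : ↥(Om ι F) →* A) (g : ↥(Om ι F)) : ψ g = 1 := by
  by_contra hg
  have hK : ψ.ker = ⊥ := by
    haveI := simple_om h2 hn h3 hq
    exact (IsSimpleGroup.eq_bot_or_eq_top_of_normal _ inferInstance).resolve_right fun e =>
      hg (MonoidHom.mem_ker.1 (e ▸ Subgroup.mem_top g))
  have hg1 : g ≠ 1 := fun e => hg (by rw [e, map_one])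
  refine hg1 (Subtype.ext (eq_one_of_central h2 hn h3 g.2 fun w hw => ?_))
  have hk : g * ⟨w, hw⟩ * g⁻¹ * (⟨w, hw⟩ : Om ι F)⁻¹ ∈ ψ.ker := by
    simp [MonoidHom.mem_ker]
  rw [hK, Subgroup.mem_bot, mul_inv_eq_one, mul_inv_eq_iff_eq_mul] at hk
  exact congrArg Subtype.val hk

/-! ### small representations -/

omit h2 hn h3 hq [Finite F] in
/-- commuting involutions have spanning common eigenvectors -/
theorem eigen_span (h2 : (2 : F) ≠ 0) {W : Type*} [AddCommGroup W] [Module F W] {J : Type*} [DecidableEq J]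
    (ε : J → Module.End F W) (hinv : ∀ j, ε j * ε j = 1) (hcomm : ∀ i j, Commute (ε i) (ε j)) (T : Finset J) :
    Submodule.span F {w | ∀ j ∈ T, ε j w = w ∨ ε j w = -w} = ⊤ := by
  induction T using Finset.induction with
  | empty => simp
  | insert i T _ ih =>
    rw [eq_top_iff, ← ih, Submodule.span_le]
    intro w hw
    have hi : ε i (ε i w) = w := LinearMap.congr_fun (hinv i) w
    have key : ∀ s : F, (s = 1 ∨ s = -1) → w + s • ε i w ∈
        Submodule.span F {w | ∀ j ∈ insert i T, ε j w = w ∨ ε j w = -w} := by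
      intro s hs
      refine Submodule.subset_span fun j hj => ?_
      rcases Finset.mem_insert.1 hj with rfl | hj
      · rcases hs with rfl | rfl
        · exact Or.inl (by rw [map_add, map_smul, hi, one_smul, one_smul, add_comm])
        · exact Or.inr (by rw [map_add, map_smul, hi]; module)
      · have e : ε j (ε i w) = ε i (ε j w) := (LinearMap.congr_fun (hcomm i j).eq w).symm
        rcases hw j hj with h | h
        · exact Or.inl (by rw [map_add, map_smul, e, h])
        · exact Or.inr (by rw [map_add, map_smul, e, h, map_neg]; module)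
    have : w = (2 : F)⁻¹ • ((w + (1 : F) • ε i w) + (w + (-1 : F) • ε i w)) := by
      rw [eq_inv_smul_iff₀ h2]; module
    rw [SetLike.mem_coe, this]
    exact Submodule.smul_mem _ _ (add_mem (key 1 (Or.inl rfl)) (key (-1) (Or.inr rfl)))

/-- representations of dimension at most `n - 2` are trivial -/
theorem hom_trivial {W : Type*} [AddCommGroup W] [Module F W] [FiniteDimensional F W]
    (hW : Module.finrank F W + 2 ≤ Fintype.card ι) (φ : ↥(Om ι F) →* Module.End F W) (g : ↥(Om ι F)) :
    φ g = 1 := by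
  classical
  haveI := simple_om h2 hn h3 hq
  rcases IsSimpleGroup.eq_bot_or_eq_top_of_normal φ.ker inferInstance with hK | hK
  swap
  · exact MonoidHom.mem_ker.1 (hK ▸ Subgroup.mem_top g)
  exfalso
  obtain ⟨i₀⟩ : Nonempty ι := Fintype.card_pos_iff.1 hn.pos
  let J := {i : ι // i ≠ i₀}
  let z : J → ↥(Om ι F) := fun j => ⟨zz (Pi.single j.1 (1 : F)), zz_single_mem h2 hn j.1⟩
  have zval : ∀ j : J, ((z j : GL ι F) : Matrix ι ι F) =
      Matrix.diagonal fun i => if i = j.1 then 1 else -1 := fun j => by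
    show ((zz (Pi.single j.1 (1 : F)) : GL ι F) : Matrix ι ι F) = _
    rw [zz_val (by simp)]
    ext a b
    simp only [pj, Matrix.sub_apply, Matrix.smul_apply, Matrix.vecMulVec_apply, Pi.single_apply, Matrix.one_apply,
      Matrix.diagonal_apply, single_dotProduct, Pi.single_eq_same]
    split_ifs <;> simp_all <;> norm_num
  have zcomm : ∀ i j, Commute (z i) (z j) := fun i j => by
    refine Subtype.ext (Units.ext ?_)
    rw [Subgroup.coe_mul, Subgroup.coe_mul, Units.val_mul, Units.val_mul, zval, zval, Matrix.diagonal_mul_diagonal,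
      Matrix.diagonal_mul_diagonal]
    exact congrArg Matrix.diagonal (funext fun a => mul_comm _ _)
  have zinv : ∀ j, z j * z j = 1 := fun j => Subtype.ext (zz_mul_self _)
  let ε : J → Module.End F W := fun j => φ (z j)
  obtain ⟨b, hb, hspan, hli⟩ := exists_linearIndependent F {w | ∀ j ∈ (Finset.univ : Finset J), ε j w = w ∨ ε j w = -w}
  rw [eigen_span h2 ε (fun j => by rw [← map_mul, zinv, map_one])
    (fun i j => (zcomm i j).map φ) Finset.univ] at hspan
  haveI : Finite b := hli.finite
  haveI := Fintype.ofFinite b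
  have hbcard : Fintype.card b ≤ Module.finrank F W := hli.fintype_card_le_finrank
  let prodz : Finset J → ↥(Om ι F) := fun T => T.noncommProd z fun i _ j _ _ => zcomm i j
  have pval : ∀ T, ((prodz T : GL ι F) : Matrix ι ι F) =
      Matrix.diagonal fun i => ∏ j ∈ T, (if i = (j : J).1 then (1 : F) else -1) := by
    intro T
    induction T using Finset.induction with
    | empty =>
      rw [show prodz ∅ = 1 from Finset.noncommProd_empty _ _]
      simp
    | insert j T hj ih =>
      have : prodz (insert j T) = z j * prodz T := Finset.noncommProd_insert_of_notMem _ _ _ _ hj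
      rw [this, Subgroup.coe_mul, Units.val_mul, ih, zval, Matrix.diagonal_mul_diagonal]
      simp [Finset.prod_insert hj]
  let sg : b → J → F := fun w j => if ε j (w : W) = (w : W) then 1 else -1
  have peig : ∀ T (w : b), φ (prodz T) (w : W) = (∏ j ∈ T, sg w j) • (w : W) := by
    intro T w
    induction T using Finset.induction with
    | empty =>
      rw [show prodz ∅ = 1 from Finset.noncommProd_empty _ _]
      simp
    | insert j T hj ih =>
      have : prodz (insert j T) = z j * prodz T := Finset.noncommProd_insert_of_notMem _ _ _ _ hj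
      rw [this, map_mul, Module.End.mul_apply, ih, map_smul, Finset.prod_insert hj, mul_comm, mul_smul]
      congr 1
      rcases hb w.2 j (Finset.mem_univ j) with h | h
      · simp only [sg, if_pos h, one_smul]; exact h
      · by_cases h' : ε j (w : W) = w
        · simp only [sg, if_pos h', one_smul]; exact h'
        · simp only [sg, if_neg h', neg_smul, one_smul]; exact h
  let pat : Finset J → b → Bool := fun T w => decide ((∏ j ∈ T, sg w j) = 1)
  obtain ⟨T, T', hne, hpat⟩ := Fintype.exists_ne_map_eq_of_card_lt pat (by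
    rw [Fintype.card_fun, Fintype.card_bool, Fintype.card_finset, Fintype.card_subtype_compl,
      Fintype.card_subtype_eq]
    exact Nat.pow_lt_pow_right (by norm_num) (by omega))
  have heq : φ (prodz T) = φ (prodz T') := by
    refine LinearMap.ext_on hspan fun w hw => ?_
    rw [peig T ⟨w, hw⟩, peig T' ⟨w, hw⟩]
    congr 1
    have hpm : ∀ U : Finset J, (∏ j ∈ U, sg ⟨w, hw⟩ j) = 1 ∨ (∏ j ∈ U, sg ⟨w, hw⟩ j) = -1 := fun U => by
      refine mul_self_eq_one_iff.1 ?_
      rw [← Finset.prod_mul_distrib]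
      exact Finset.prod_eq_one fun j _ => by simp only [sg]; split_ifs <;> simp
    have h := congrFun hpat ⟨w, hw⟩
    simp only [pat, decide_eq_decide] at h
    rcases hpm T with e | e <;> rcases hpm T' with e' | e'
    · rw [e, e']
    · exact absurd (h.1 e) (by rw [e']; exact fun e'' => h2 (by linear_combination -e''))
    · exact absurd (h.2 e') (by rw [e]; exact fun e'' => h2 (by linear_combination -e''))
    · rw [e, e']
  have hzeq : prodz T = prodz T' := by
    have : prodz T * (prodz T')⁻¹ ∈ φ.ker := by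
      rw [MonoidHom.mem_ker, map_mul, heq, ← map_mul, mul_inv_cancel, map_one]
    rw [hK, Subgroup.mem_bot, mul_inv_eq_one] at this
    exact this
  have hd : ∀ i, ∏ j ∈ T, (if i = (j : J).1 then (1 : F) else -1) =
      ∏ j ∈ T', (if i = (j : J).1 then (1 : F) else -1) := fun i => by
    have := congrArg (fun u : ↥(Om ι F) => ((u : GL ι F) : Matrix ι ι F) i i) hzeq
    simpa [pval] using this
  have hprod : ∀ (U : Finset J) (i : ι), (∏ j ∈ U, (if i = (j : J).1 then (1 : F) else -1)) =
      (-1) ^ U.card * (if ∃ j ∈ U, i = j.1 then -1 else 1) := by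
    intro U i
    induction U using Finset.induction with
    | empty => simp
    | insert j U hj ih =>
      rw [Finset.prod_insert hj, ih, Finset.card_insert_of_notMem hj, pow_succ]
      by_cases hij : i = j.1
      · have : ¬ ∃ j' ∈ U, i = j'.1 := fun ⟨j', hj', e⟩ => hj (Subtype.ext (hij.symm.trans e) ▸ hj')
        simp [hij, this]
        exact fun x hx e => absurd ⟨x, hx, hij.trans e⟩ this
      · simp [hij]
  refine hne (Finset.ext fun j => ?_)
  have h0 := hd i₀
  have hj := hd j.1
  rw [hprod, hprod] at h0 hj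
  have hex : ∀ U : Finset J, ¬ ∃ j' ∈ U, i₀ = j'.1 := fun U ⟨j', _, e⟩ => j'.2 e.symm
  rw [if_neg (hex T), if_neg (hex T'), mul_one, mul_one] at h0
  have hmem : ∀ U : Finset J, (∃ j' ∈ U, j.1 = j'.1) ↔ j ∈ U := fun U =>
    ⟨fun ⟨j', hj', e⟩ => Subtype.ext e ▸ hj', fun h => ⟨j, h, rfl⟩⟩
  simp only [hmem, h0, mul_right_inj' (pow_ne_zero _ (neg_ne_zero.2 (one_ne_zero (α := F))))] at hj
  by_cases h : j ∈ T <;> by_cases h' : j ∈ T' <;> simp only [h, h', if_true, if_false] at hj ⊢
  · exact absurd (by linear_combination -hj : (2 : F) = 0) h2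
  · exact absurd (by linear_combination hj : (2 : F) = 0) h2

end Cfsg.Agent.MaxCl.TOrth
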