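/-
The derived group of the orthogonal group of a diagonal form in dimension at least five, or four with non-square
discriminant: perfect, with every normal subgroup central or everything.
-/
import Cfsg.Agent.Lib.MaxCl.TEvUnit
import Cfsg.Agent.Lib.MaxCl.TOrthSimple
import Cfsg.Agent.Lib.QForm.SpinorApps
import Cfsg.Agent.Lib.QForm.PlusType
import Cfsg.Agent.Lib.QForm.Classify
import Cfsg.Agent.S0300

set_option autoImplicit false
set_option linter.unusedSectionVars false

namespace Cfsg.Agent.MaxCl.TEv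

open Matrix
open TOrth (binary_value exists_nonsquare rk rk_zero rk_one omegaGL_eq omEquiv pomegaEquiv)
open scoped MatrixGroups commutatorElement

variable {ι : Type} [Fintype ι] [DecidableEq ι] {F : Type*} [Field F] [Wt ι F]

/-- what the induction uses about a derived group -/
structure Big (ι : Type) [Fintype ι] [DecidableEq ι] (F : Type*) [Field F] [Wt ι F] : Prop where
  comm : ∀ M : Matrix ι ι F, (∀ g ∈ Om ι F, Commute M (g : Matrix ι ι F)) → ∃ c : F, M = c • 1
  norm : ∀ N : Subgroup (GL ι F), (∀ g ∈ Om ι F, ∀ x ∈ N, x ∈ Om ι F → g * x * g⁻¹ ∈ N) →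
    ∀ x ∈ N, x ∈ Om ι F → (∀ c : F, (x : Matrix ι ι F) ≠ c • 1) → Om ι F ≤ N
  perf : commutator ↥(Om ι F) = ⊤

theorem hom_comm_trivial (hb : Big ι F) {A : Type*} [CommGroup A] (ψ : ↥(Om ι F) →* A) (g : ↥(Om ι F)) : ψ g = 1 :=
  MonoidHom.mem_ker.1 (Abelianization.commutator_subset_ker ψ (hb.perf ▸ Subgroup.mem_top g))

/-- scalar commutators with a perfect group are trivial -/
theorem comm_of_scalar_comm {κ : Type} [Fintype κ] [DecidableEq κ] [Wt κ F] (hb : Big κ F) [Nonempty ι]
    (φ : ↥(Om κ F) →* GL ι F) {g : GL ι F}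
    (h : ∀ w, ∃ c : F, ((g * φ w * g⁻¹ * (φ w)⁻¹ : GL ι F) : Matrix ι ι F) = c • 1) (w : ↥(Om κ F)) :
    Commute g (φ w) := by
  obtain ⟨i⟩ := ‹Nonempty ι›
  choose c hc using h
  have hu : ∀ a, (g : Matrix ι ι F) * (φ a : Matrix ι ι F) = c a • ((φ a : Matrix ι ι F) * (g : Matrix ι ι F)) :=
    fun a => by
      rw [← Units.val_mul, show g * φ a = (g * φ a * g⁻¹ * (φ a)⁻¹) * (φ a * g) by group, Units.val_mul, hc a,
        smul_mul_assoc, one_mul, Units.val_mul]
  have inj : ∀ (a b : F) (u : GL ι F), a • (u : Matrix ι ι F) = b • (u : Matrix ι ι F) → a = b := fun a b u e => by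
    have := congrArg (· * ((u⁻¹ : GL ι F) : Matrix ι ι F)) e
    simp only [smul_mul_assoc, ← Units.val_mul, mul_inv_cancel, Units.val_one] at this
    simpa using congrFun (congrFun this i) i
  have hmul : ∀ a b, c (a * b) = c a * c b := fun a b => by
    refine inj _ _ (φ (a * b) * g) ?_
    rw [Units.val_mul, ← hu, map_mul, Units.val_mul, ← mul_assoc, hu a, smul_mul_assoc, mul_assoc,
      hu b, mul_smul_comm, smul_smul, ← mul_assoc]
  have h1 : c 1 = 1 := inj _ _ g (by
    have := hu 1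
    simp only [map_one, Units.val_one, mul_one, one_mul] at this
    rw [one_smul]; exact this.symm)
  let χ : ↥(Om κ F) →* F := { toFun := c, map_one' := h1, map_mul' := hmul }
  have e : c w = 1 := congrArg Units.val (hom_comm_trivial hb χ.toHomUnits w)
  refine Units.ext ?_
  rw [Units.val_mul, Units.val_mul, hu w, e, one_smul]

/-- a non-scalar matrix has a non-scalar commutator with the derived group -/
theorem exists_comm_ne_smul (hb : Big ι F) {g : GL ι F} (hg : ∀ c : F, (g : Matrix ι ι F) ≠ c • 1) :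
    ∃ w ∈ Om ι F, ∀ c : F, ((g * w * g⁻¹ * w⁻¹ : GL ι F) : Matrix ι ι F) ≠ c • 1 := by
  by_contra hc
  push Not at hc
  rcases isEmpty_or_nonempty ι with hι | hι
  · exact hg 1 (Matrix.ext fun a => isEmptyElim a)
  obtain ⟨d, hd⟩ := hb.comm (g : Matrix ι ι F) fun w hw =>
    congrArg Units.val (comm_of_scalar_comm hb (Om ι F).subtype (fun a => hc a a.2) ⟨w, hw⟩).eq
  exact hg d hd

theorem smul_of_central
    (hcomm : ∀ M : Matrix ι ι F, (∀ g ∈ Om ι F, Commute M (g : Matrix ι ι F)) → ∃ c : F, M = c • 1) {z : ↥(Om ι F)} (hz : z ∈ Subgroup.center ↥(Om ι F)) :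
    ∃ c : F, ((z : GL ι F) : Matrix ι ι F) = c • 1 :=
  hcomm _ fun w hw => congrArg (fun a : Om ι F => ((a : GL ι F) : Matrix ι ι F))
    (Subgroup.mem_center_iff.1 hz ⟨w, hw⟩).symm

/-- a perfect group that is simple modulo its centre -/
theorem big_of_simple (hcomm : ∀ M : Matrix ι ι F, (∀ g ∈ Om ι F, Commute M (g : Matrix ι ι F)) → ∃ c : F, M = c • 1)
    (hp : commutator ↥(Om ι F) = ⊤) (hs : IsSimpleGroup (↥(Om ι F) ⧸ Subgroup.center ↥(Om ι F))) : Big ι F := by
  refine ⟨hcomm, fun N hN x hx hxO hsc g hg => ?_, hp⟩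
  let N' : Subgroup ↥(Om ι F) := N.subgroupOf (Om ι F)
  haveI hN' : N'.Normal := ⟨fun y hy a => hN a a.2 y hy y.2⟩
  haveI := hs
  have hmap := IsSimpleGroup.eq_bot_or_eq_top_of_normal (N'.map (QuotientGroup.mk' (Subgroup.center ↥(Om ι F))))
    (hN'.map _ (QuotientGroup.mk'_surjective _))
  rcases hmap with h | h
  · rw [Subgroup.map_eq_bot_iff, QuotientGroup.ker_mk'] at h
    obtain ⟨c, hc⟩ := smul_of_central hcomm
      (h (show (⟨x, hxO⟩ : Om ι F) ∈ N' from hx))
    exact absurd hc (hsc c)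
  · have hsup : N' ⊔ Subgroup.center ↥(Om ι F) = ⊤ := by
      have := congrArg (Subgroup.comap (QuotientGroup.mk' (Subgroup.center ↥(Om ι F)))) h
      rwa [Subgroup.comap_map_eq, QuotientGroup.ker_mk', Subgroup.comap_top] at this
    have hle : commutator ↥(Om ι F) ≤ N' := by
      rw [commutator_def, Subgroup.commutator_le]
      intro a _ b _
      obtain ⟨n, hn, z, hz, rfl⟩ := Subgroup.mem_sup_of_normal_right.1 (hsup.symm ▸ Subgroup.mem_top a : a ∈ N' ⊔ Subgroup.center ↥(Om ι F))
      have hzb : z * b * z⁻¹ = b := by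
        rw [← Subgroup.mem_center_iff.1 hz b, mul_inv_cancel_right]
      have e : ⁅n * z, b⁆ = n * (b * n⁻¹ * b⁻¹) := by
        rw [commutatorElement_def, _root_.mul_inv_rev, show n * z * b * (z⁻¹ * n⁻¹) * b⁻¹ = n * (z * b * z⁻¹) * n⁻¹ * b⁻¹ by group,
          hzb]
        group
      rw [e]
      exact mul_mem hn (hN'.conj_mem _ (inv_mem hn) b)
    exact (Subgroup.mem_subgroupOf.1 (hle (hp ▸ Subgroup.mem_top (⟨g, hg⟩ : Om ι F)) :) : g ∈ N)

variable [Finite F] (h2 : (2 : F) ≠ 0)
include h2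

theorem big_of_five (h5 : 5 ≤ Fintype.card ι)
    (hcomm : ∀ M : Matrix ι ι F, (∀ g ∈ Om ι F, Commute M (g : Matrix ι ι F)) → ∃ c : F, M = c • 1) : Big ι F := by
  have hN := ClassicalSimple.bil_nondegenerate (dq ι F) (polar_nondeg h2)
  let e : ↥(Om ι F) ≃* Omega F ⇑(dq ι F) := (omEquiv _).symm
  refine big_of_simple hcomm ?_ ?_
  · apply Subgroup.map_injective (f := e.toMonoidHom) e.injective
    rw [ClassicalSimple.map_commutator_top, ClassicalSimple.Omega_perfect (dq ι F) hN h5,
      Subgroup.map_top_of_surjective e.toMonoidHom e.surjective]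
  · haveI := ClassicalSimple.POmega_isSimpleGroup (dq ι F) hN h5
    exact ClassicalSimple.isSimpleGroup_of_equiv (H := Cfsg.POmega F ⇑(dq ι F)) (ClassicalSimple.centerQuotientCongr e)

omit [Finite F] in
/-- a linear isometry onto another form carries the derived groups onto each other -/
theorem exists_omega_equiv {κ : Type} [Fintype κ] [DecidableEq κ] (q : (κ → F) → F) (e₀ : κ ≃ ι)
    (e : (ι → F) ≃ₗ[F] (κ → F)) (he : ∀ x, q (e x) = x ⬝ʷ x) : Nonempty (↥(Om ι F) ≃* Omega F q) := by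
  let L : (κ → F) →ₗ[F] (κ → F) := e.toLinearMap.comp (LinearEquiv.funCongrLeft F F e₀.symm).toLinearMap
  have hL : Function.Bijective L := e.bijective.comp (LinearEquiv.funCongrLeft F F e₀.symm).bijective
  let E := LinearEquiv.ofBijective L hL
  let P : GL κ F := ⟨LinearMap.toMatrix' E.toLinearMap, LinearMap.toMatrix' E.symm.toLinearMap,
    by rw [← LinearMap.toMatrix'_comp, LinearEquiv.comp_symm, LinearMap.toMatrix'_id],
    by rw [← LinearMap.toMatrix'_comp, LinearEquiv.symm_comp, LinearMap.toMatrix'_id]⟩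
  have hmap := map_orth (ι := ι) q e₀ P one_ne_zero fun x => by
    have hP : (P : Matrix κ κ F) *ᵥ (x ∘ e₀) = e x := by
      show LinearMap.toMatrix' E.toLinearMap *ᵥ (x ∘ e₀) = e x
      rw [LinearMap.toMatrix'_mulVec]
      show e (LinearEquiv.funCongrLeft F F e₀.symm (x ∘ e₀)) = e x
      congr 1
      funext i
      simp [LinearEquiv.funCongrLeft_apply, LinearMap.funLeft]
    rw [hP, he, one_mul]
  exact ⟨((Subgroup.equivMapOfInjective (Om ι F) (Aschbacher.coordGL e₀ P).toMonoidHom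
      (Aschbacher.coordGL e₀ P).injective).trans (MulEquiv.subgroupCongr (om_map _ hmap))).trans (omEquiv _).symm⟩

theorem big_of_minus_four (h4 : Fintype.card ι = 4) (hd : ¬ IsSquare (∏ i : ι, (Wt.w i : F)))
    (hcomm : ∀ M : Matrix ι ι F, (∀ g ∈ Om ι F, Commute M (g : Matrix ι ι F)) → ∃ c : F, M = c • 1) : Big ι F := by
  haveI := Fintype.ofFinite F
  have hN := polar_nondeg (ι := ι) (F := F) h2
  have hdim : Module.finrank F (ι → F) = 2 * 2 := by rw [Module.finrank_fintype_fun_eq_card, h4]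
  obtain ⟨c, hc⟩ := exists_nonsquare h2
  have hab : ∀ z₁ z₂ : F, z₁ ^ 2 + 0 * z₁ * z₂ + -c * z₂ ^ 2 = 0 → z₁ = 0 ∧ z₂ = 0 := fun z₁ z₂ h => by
    rcases eq_or_ne z₂ 0 with rfl | hz
    · simp at h; exact ⟨h, rfl⟩
    · exact absurd ⟨z₁ / z₂, by field_simp; linear_combination -h⟩ hc
  have hgram : ¬ IsSquare (QForm.gram ⇑(dq ι F) ⇑(Pi.basisFun F ι)).det := by
    rw [dq, QForm.det_gram_diag, h4]
    rintro ⟨r, hr⟩
    have h4' : (4 : F) ≠ 0 := by rw [show (4 : F) = 2 * 2 by norm_num]; exact mul_ne_zero h2 h2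
    exact hd ⟨r / 4, by field_simp; linear_combination hr⟩
  rcases QForm.exists_iso_plus_or_minus hab 2 (dq ι F) hN hdim with ⟨e, he⟩ | ⟨-, e, he⟩
  · exfalso
    -- a plus type space of dimension four has square discriminant
    let lift : (Fin 2 → F) →ₗ[F] (Fin 2 ⊕ Fin 2 → F) :=
      (LinearEquiv.sumArrowLequivProdArrow (Fin 2) (Fin 2) F F).symm.toLinearMap.comp (LinearMap.inl F _ _)
    have hlift : Function.Injective lift :=
      (LinearEquiv.sumArrowLequivProdArrow (Fin 2) (Fin 2) F F).symm.injective.comp LinearMap.inl_injective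
    let X : Submodule F (ι → F) := LinearMap.range (e.symm.toLinearMap.comp lift)
    have hX : Module.finrank F X = 2 := by
      rw [LinearMap.finrank_range_of_inj (f := e.symm.toLinearMap.comp lift) (e.symm.injective.comp hlift),
        Module.finrank_fin_fun]
    have hz : ∀ x ∈ X, x ⬝ʷ x = 0 := by
      rintro x ⟨v, rfl⟩
      rw [← dq_apply, ← he]
      simp [quadFormPlus, lift]
    have hS : LinearMap.BilinForm.IsSymm (QuadraticMap.polarBilin (dq ι F)) := ⟨fun x y => QuadraticMap.polar_comm _ x y⟩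
    have h := QForm.isSquare_of_isotropic hS hdim hX (fun x hx y hy => by
      rw [QuadraticMap.polarBilin_apply_apply, QuadraticMap.polar, dq_apply, dq_apply, dq_apply,
        hz _ (add_mem hx hy), hz x hx, hz y hy]; ring) (Pi.basisFun F ι)
    refine hgram ?_
    have e' : LinearMap.BilinForm.toMatrix (Pi.basisFun F ι) (QuadraticMap.polarBilin (dq ι F)) =
        QForm.gram ⇑(dq ι F) ⇑(Pi.basisFun F ι) := by
      ext i j
      rw [LinearMap.BilinForm.toMatrix_apply, QuadraticMap.polarBilin_apply_apply]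
      rfl
    rwa [e', show ((-1 : F)) ^ 2 = 1 by ring, one_mul] at h
  · obtain ⟨E⟩ := exists_omega_equiv h2 (q := quadFormMinus 1 F 0 (-c))
      (Fintype.equivOfCardEq (by simp [h4])) e (fun x => by rw [← dq_apply]; exact he x)
    obtain ⟨p, hp⟩ := CharP.exists F
    obtain ⟨f, hp', hf⟩ := FiniteField.card F p
    haveI : Fact p.Prime := ⟨hp'⟩
    haveI := Fintype.ofFinite (GaloisField p (2 * f))
    have hK : Fintype.card (GaloisField p (2 * f)) = Fintype.card F ^ 2 := by
      rw [← Nat.card_eq_fintype_card, GaloisField.card p _ (by simp), hf, ← pow_mul, mul_comm (f : ℕ)]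
    obtain ⟨E'⟩ := Cfsg.Agent.S0300.result rfl hK 0 (-c) hab
    have hz : ∀ z : ↥(Om ι F), z ∈ Subgroup.center ↥(Om ι F) → z = 1 := fun z hz => by
      obtain ⟨d, hd'⟩ := hcomm ((z : GL ι F) : Matrix ι ι F) fun w hw =>
        congrArg (fun a : Om ι F => ((a : GL ι F) : Matrix ι ι F)) (Subgroup.mem_center_iff.1 hz ⟨w, hw⟩).symm
      haveI : Nonempty ι := Fintype.card_pos_iff.1 (by omega)
      obtain ⟨i⟩ := ‹Nonempty ι›
      have h1 := congrFun (congrFun (ad_mul_self h2 (om_le_orth z.2)) i) i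
      rw [hd', ad_smul, ad_one, smul_mul_smul_comm, one_mul, Matrix.smul_apply, Matrix.one_apply_eq, smul_eq_mul,
        mul_one] at h1
      rcases mul_self_eq_one_iff.1 h1 with rfl | rfl
      · exact Subtype.ext (Units.ext (by rw [hd', one_smul]; rfl))
      · refine absurd ?_ hgram
        rw [← QForm.neg_one_mem_omega_iff h2 hN (by rw [h4]; decide) (Pi.basisFun F ι)]
        obtain ⟨w, hw, hwv⟩ := z.2
        exact ⟨w, hw, by rw [show ((w : GL ι F)) = z from hwv, hd', neg_one_smul]⟩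
    have hc : Subgroup.center ↥(Om ι F) = ⊥ := (Subgroup.eq_bot_iff_forall _).2 hz
    have hq5 : 4 ≤ Fintype.card (GaloisField p (2 * f)) := by
      rw [hK, pow_two]
      exact Nat.mul_le_mul (Fintype.one_lt_card) (Fintype.one_lt_card)
    haveI hs0 := PSL2.psl_isSimpleGroup (F := GaloisField p (2 * f)) hq5
    haveI hs : IsSimpleGroup (↥(Om ι F) ⧸ Subgroup.center ↥(Om ι F)) :=
      ClassicalSimple.isSimpleGroup_of_equiv ((ClassicalSimple.centerQuotientCongr E).trans E')
    haveI hsO : IsSimpleGroup ↥(Om ι F) := ClassicalSimple.isSimpleGroup_of_equiv (pomegaEquiv hc).symm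
    refine big_of_simple hcomm ?_ hs
    rcases IsSimpleGroup.eq_bot_or_eq_top_of_normal (commutator ↥(Om ι F)) inferInstance with h | h
    · exfalso
      obtain ⟨g, hg⟩ := exists_ne (1 : ↥(Om ι F))
      refine hg (hz g (Subgroup.mem_center_iff.2 fun w => ?_))
      have := (Subgroup.eq_bot_iff_forall _).1 h ⁅w, g⁆
        (Subgroup.commutator_mem_commutator (Subgroup.mem_top w) (Subgroup.mem_top g))
      exact commutatorElement_eq_one_iff_mul_comm.1 this
    · exact h

end Cfsg.Agent.MaxCl.TEv
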