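/-
Tensor powers of the dot product: orthogonal pure operators, splitting at a slot, classes, normal form, commutants,
and the groups normalised by the wreath product inside a smaller power.
-/
import Cfsg.Agent.Lib.MaxCl.TOrthSimple
import Cfsg.Agent.Lib.MaxCl.PowerSeed
import Cfsg.Agent.Lib.MaxCl.PowerCent

set_option autoImplicit false
set_option linter.unusedSectionVars false

namespace Cfsg.Agent.MaxCl.TOrth

open Matrix
open TW (tk pm pg rt rid spl sl Wr)
open scoped MatrixGroups Kronecker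

/-- the standing hypotheses on the factor -/
structure Hyp (k : ℕ) (F : Type*) [Field F] : Prop where
  h2 : (2 : F) ≠ 0
  odd : Odd k
  three : 3 ≤ k
  big : 5 ≤ k ∨ 5 ≤ Nat.card F

variable {F : Type*} [Field F] {k : ℕ}

theorem Hyp.odd' (hh : Hyp k F) : Odd (Fintype.card (Fin k)) := by rw [Fintype.card_fin]; exact hh.odd

theorem Hyp.three' (hh : Hyp k F) : 3 ≤ Fintype.card (Fin k) := by rw [Fintype.card_fin]; exact hh.three

theorem Hyp.big' (hh : Hyp k F) : 5 ≤ Fintype.card (Fin k) ∨ 5 ≤ Nat.card F := by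
  rw [Fintype.card_fin]; exact hh.big

theorem Hyp.card_odd (hh : Hyp k F) (T : Type) [Fintype T] [DecidableEq T] :
    Odd (Fintype.card (T → Fin k)) := by
  rw [Fintype.card_fun, Fintype.card_fin]; exact hh.odd.pow

/-! ### two factors -/

section Two

variable {β : Type} [Fintype β] [DecidableEq β]

theorem kr_val (A : GL β F) (u : GL (Fin k) F) :
    (TP.kr (A, u) : Matrix (β × Fin k) (β × Fin k) F) = (A : Matrix β β F) ⊗ₖ (u : Matrix (Fin k) (Fin k) F) := rfl

theorem kr_orth (h2 : (2 : F) ≠ 0) {A : GL β F} (hA : A ∈ Orth β F) {u : GL (Fin k) F} (hu : u ∈ Orth (Fin k) F) :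
    TP.kr (A, u) ∈ Orth (β × Fin k) F := by
  rw [mem_orth_iff h2, kr_val, ← Matrix.kroneckerMap_transpose, ← Matrix.mul_kronecker_mul, transpose_mul h2 hA,
    transpose_mul h2 hu, Matrix.one_kronecker_one]

/-- the embedding of the left factor -/
noncomputable def inl (β : Type) [Fintype β] [DecidableEq β] (k : ℕ) (F : Type*) [Field F] :
    GL β F →* GL (β × Fin k) F := TP.kr.comp (MonoidHom.inl _ _)

/-- the embedding of the right factor -/
noncomputable def inr (β : Type) [Fintype β] [DecidableEq β] (k : ℕ) (F : Type*) [Field F] :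
    GL (Fin k) F →* GL (β × Fin k) F := TP.kr.comp (MonoidHom.inr _ _)

theorem inl_val (A : GL β F) :
    (inl β k F A : Matrix (β × Fin k) (β × Fin k) F) = (A : Matrix β β F) ⊗ₖ 1 := rfl

theorem inr_val (u : GL (Fin k) F) :
    (inr β k F u : Matrix (β × Fin k) (β × Fin k) F) = 1 ⊗ₖ (u : Matrix (Fin k) (Fin k) F) := rfl

theorem inl_orth (h2 : (2 : F) ≠ 0) {A : GL β F} (hA : A ∈ Orth β F) : inl β k F A ∈ Orth (β × Fin k) F :=
  kr_orth h2 hA (one_mem _)

theorem inr_orth (h2 : (2 : F) ≠ 0) {u : GL (Fin k) F} (hu : u ∈ Orth (Fin k) F) :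
    inr β k F u ∈ Orth (β × Fin k) F :=
  kr_orth h2 (one_mem _) hu

theorem inl_om (h2 : (2 : F) ≠ 0) {A : GL β F} (hA : A ∈ Om β F) : inl β k F A ∈ Om (β × Fin k) F :=
  om_map_le (inl β k F) (fun _ h => inl_orth h2 h) hA

theorem inr_om (h2 : (2 : F) ≠ 0) {u : GL (Fin k) F} (hu : u ∈ Om (Fin k) F) :
    inr β k F u ∈ Om (β × Fin k) F :=
  om_map_le (inr β k F) (fun _ h => inr_orth h2 h) hu

theorem pj_pv (e : β → F) (a : Fin k → F) : pj (TP.pv e a) = pj e ⊗ₖ pj a := by
  have : TP.pv e a ⬝ᵥ TP.pv e a = (e ⬝ᵥ e) * (a ⬝ᵥ a) := by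
    simp only [dotProduct, TP.pv_apply, Fintype.sum_prod_type, Finset.sum_mul_sum]
    exact Finset.sum_congr rfl fun _ _ => Finset.sum_congr rfl fun _ _ => by ring
  ext ⟨i, p⟩ ⟨j, q⟩
  simp only [pj, this, Matrix.smul_apply, Matrix.kroneckerMap_apply, Matrix.vecMulVec_apply, TP.pv_apply,
    smul_eq_mul, mul_inv]
  ring

/-- a reflection of the right factor is a product of an odd number of reflections of its class -/
theorem cls_inr_rf [Finite F] (h2 : (2 : F) ≠ 0) (hβ : Odd (Fintype.card β)) {a : Fin k → F} (ha : a ⬝ᵥ a ≠ 0) (i₀ : β) :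
    cls (⟨inr β k F (rf a), inr_orth h2 (rf_mem a)⟩ : Orth (β × Fin k) F) =
      cls ⟨rf (TP.pv (Pi.single i₀ 1) a), rf_mem _⟩ := by
  have hdot : ∀ i j : β, TP.pv (Pi.single i (1 : F)) a ⬝ᵥ TP.pv (Pi.single j (1 : F)) a =
      if i = j then a ⬝ᵥ a else 0 := fun i j => by
    simp only [dotProduct, TP.pv_apply, Fintype.sum_prod_type]
    rcases eq_or_ne i j with rfl | hij
    · simp [Pi.single_apply]
    · rw [if_neg hij]
      exact Finset.sum_eq_zero fun x _ => Finset.sum_eq_zero fun y _ => by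
        rcases eq_or_ne x i with rfl | hx
        · simp [hij]
        · simp [hx]
  obtain ⟨g, hg, hv, hc⟩ := orth_family h2 (a := fun i : β => TP.pv (Pi.single i (1 : F)) a) ha
    (fun i => by rw [hdot, if_pos rfl]) (fun i j hij => by rw [hdot, if_neg hij]) i₀ Finset.univ
  have hgv : g = inr β k F (rf a) := Units.ext (by
    rw [hv, inr_val, rf_val ha]
    simp only [pj_pv]
    ext ⟨i, p⟩ ⟨j, q⟩
    simp only [Matrix.sub_apply, Matrix.smul_apply, Matrix.sum_apply, Matrix.kroneckerMap_apply, Matrix.one_apply,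
      smul_eq_mul, pj, Matrix.vecMulVec_apply, single_dotProduct, Pi.single_eq_same, mul_one, inv_one, one_mul]
    rcases eq_or_ne i j with rfl | hij
    · rw [Finset.sum_eq_single i]
      · simp only [Pi.single_eq_same, mul_one, one_mul, if_true, Prod.mk.injEq, true_and]
      · intro b _ hb; simp [Ne.symm hb]
      · simp
    · rw [Finset.sum_eq_zero fun b _ => ?_]
      · simp [hij]
      · rcases eq_or_ne b i with rfl | hb
        · simp [hij.symm]
        · simp [Ne.symm hb])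
  subst hgv
  rw [hc, Finset.card_univ]
  obtain ⟨r, hr⟩ := hβ
  rw [hr, pow_succ, pow_mul, pow_two, cls_sq h2, one_pow, one_mul]

/-- the right factor meets every class -/
theorem exists_inr [Finite F] (hh : Hyp k F) (hβ : Odd (Fintype.card β)) {G : GL (β × Fin k) F} (hG : G ∈ Orth (β × Fin k) F) :
    ∃ u ∈ Orth (Fin k) F, inr β k F u * G ∈ Om (β × Fin k) F := by
  have h2 := hh.h2
  obtain ⟨i₀⟩ : Nonempty β := Fintype.card_pos_iff.1 hβ.pos
  obtain ⟨c, hc⟩ := exists_nonsquare h2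
  have hr : 2 ≤ rk (1 : Matrix (Fin k) (Fin k) F) := by rw [rk_one, Fintype.card_fin]; have := hh.three; omega
  obtain ⟨a, -, ha⟩ := exists_value_pr h2 pr_one hr (1 : F)
  obtain ⟨b, -, hb⟩ := exists_value_pr h2 pr_one hr c
  have hval : ∀ x : Fin k → F, TP.pv (Pi.single i₀ (1 : F)) x ⬝ᵥ TP.pv (Pi.single i₀ (1 : F)) x = x ⬝ᵥ x := fun x => by
    simp [dotProduct, TP.pv_apply, Fintype.sum_prod_type, Pi.single_apply]
  obtain ⟨h, hh', hmem⟩ := exists_class h2 (a := TP.pv (Pi.single i₀ (1 : F)) a)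
    (b := TP.pv (Pi.single i₀ (1 : F)) b) (by rw [hval, ha]; exact IsSquare.one)
    (by rw [hval, ha]; exact one_ne_zero) (by rwa [hval, hb]) hG
  have key : ∀ u (hu : u ∈ Orth (Fin k) F) (hho : h ∈ Orth (β × Fin k) F),
      cls (⟨inr β k F u, inr_orth h2 hu⟩ : Orth (β × Fin k) F) = cls ⟨h, hho⟩ → inr β k F u * G ∈ Om (β × Fin k) F := by
    intro u hu hho e
    refine mem_om_of_cls (mul_mem (inr_orth h2 hu) hG) ?_
    have h1 := (mem_om_iff.1 hmem).2
    rw [show (⟨h⁻¹ * G, _⟩ : Orth (β × Fin k) F) = (⟨h, hho⟩ : Orth (β × Fin k) F)⁻¹ * ⟨G, hG⟩ from rfl] at h1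
    change cls ((⟨h, hho⟩ : Orth (β × Fin k) F)⁻¹ * ⟨G, hG⟩) = 1 at h1
    rw [show (⟨inr β k F u * G, _⟩ : Orth (β × Fin k) F) = ⟨inr β k F u, inr_orth h2 hu⟩ * ⟨G, hG⟩ from rfl, map_mul, e]
    rw [map_mul, map_inv] at h1
    rwa [inv_eq_of_mul_eq_one_right (cls_sq h2 _)] at h1
  have ha0 : a ⬝ᵥ a ≠ 0 := by rw [ha]; exact one_ne_zero
  have hb0 : b ⬝ᵥ b ≠ 0 := by rw [hb]; exact fun e => hc (e ▸ ⟨0, (mul_zero 0).symm⟩)
  rcases hh' with rfl | rfl | rfl | rfl
  · exact ⟨1, one_mem _, key 1 (one_mem _) (one_mem _) (congrArg cls (Subtype.ext (map_one _)))⟩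
  · exact ⟨_, rf_mem a, key _ (rf_mem a) (rf_mem _) (cls_inr_rf h2 hβ ha0 i₀)⟩
  · exact ⟨_, rf_mem b, key _ (rf_mem b) (rf_mem _) (cls_inr_rf h2 hβ hb0 i₀)⟩
  · refine ⟨_, mul_mem (rf_mem a) (rf_mem b),
      key _ (mul_mem (rf_mem a) (rf_mem b)) (mul_mem (rf_mem _) (rf_mem _)) ?_⟩
    rw [show (⟨inr β k F (rf a * rf b), _⟩ : Orth (β × Fin k) F) =
      ⟨inr β k F (rf a), inr_orth h2 (rf_mem a)⟩ * ⟨inr β k F (rf b), inr_orth h2 (rf_mem b)⟩ from
        Subtype.ext (map_mul (inr β k F) _ _), map_mul, cls_inr_rf h2 hβ ha0 i₀, cls_inr_rf h2 hβ hb0 i₀,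
      ← map_mul]
    rfl

end Two

/-! ### powers -/

variable {S : Type} [Fintype S] [DecidableEq S]

theorem pm_transpose (f : S → Matrix (Fin k) (Fin k) F) : (pm f)ᵀ = pm fun s => (f s)ᵀ := rfl

theorem tk_orth (h2 : (2 : F) ≠ 0) {u : S → GL (Fin k) F} (hu : ∀ s, u s ∈ Orth (Fin k) F) :
    tk u ∈ Orth (S → Fin k) F := by
  rw [mem_orth_iff h2, TW.tk_val, pm_transpose, ← map_mul,
    show ((fun s => ((u s : GL (Fin k) F) : Matrix (Fin k) (Fin k) F)ᵀ) * fun s => (u s : Matrix (Fin k) (Fin k) F)) = 1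
      from funext fun s => transpose_mul h2 (hu s), map_one]

theorem pg_orth (σ : Equiv.Perm S) : (pg σ : GL (S → Fin k) F) ∈ Orth (S → Fin k) F :=
  (Orth.mem_iso _).2 fun z => by
    rw [dq_apply, dq_apply]
    exact Fintype.sum_equiv (Equiv.arrowCongr σ.symm (Equiv.refl _)) _ _ fun x => by
      rw [TW.act_pg]
      rfl

theorem rt_orth (h2 : (2 : F) ≠ 0) (s : S) {u : GL (Fin k) F} (hu : u ∈ Orth (Fin k) F) :
    rt s u ∈ Orth (S → Fin k) F := by
  rw [TW.rt_eq]
  refine tk_orth h2 fun r => ?_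
  rcases eq_or_ne r s with rfl | h
  · rwa [Pi.mulSingle_eq_same]
  · rw [Pi.mulSingle_eq_of_ne h]; exact one_mem _

theorem rt_om (h2 : (2 : F) ≠ 0) (s : S) {u : GL (Fin k) F} (hu : u ∈ Om (Fin k) F) :
    rt s u ∈ Om (S → Fin k) F :=
  om_map_le (rt s) (fun _ h => rt_orth h2 s h) hu

theorem tk_om (h2 : (2 : F) ≠ 0) {u : S → GL (Fin k) F} (hu : ∀ s, u s ∈ Om (Fin k) F) :
    tk u ∈ Om (S → Fin k) F :=
  Subgroup.mem_comap.1 (Subgroup.pi_mem_of_mulSingle_mem (H := (Om (S → Fin k) F).comap tk) u fun s => by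
    rw [Subgroup.mem_comap, ← TW.rt_eq]
    exact rt_om h2 s (hu s))

/-- splitting a slot preserves the isometries -/
theorem map_rid_orth (h2 : (2 : F) ≠ 0) (s : S) :
    (Orth (S → Fin k) F).map (rid s).toMonoidHom = Orth (({r // r ≠ s} → Fin k) × Fin k) F := by
  ext G
  obtain ⟨g, rfl⟩ := (rid (F := F) (m := k) s).surjective G
  have key : (rid s g : GL (({r // r ≠ s} → Fin k) × Fin k) F) ∈ Orth (({r // r ≠ s} → Fin k) × Fin k) F ↔
      g ∈ Orth (S → Fin k) F := by
    rw [mem_orth_iff h2, mem_orth_iff h2, TW.rid_val, Matrix.transpose_submatrix, Matrix.submatrix_mul_equiv]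
    rw [← Matrix.submatrix_one_equiv (spl (m := k) s).symm]
    exact ⟨fun h => Matrix.ext fun i j => by
      simpa [Matrix.submatrix_apply, -Matrix.submatrix_one_equiv, Matrix.one_apply] using congrFun (congrFun h (spl s i)) (spl s j), fun h => by rw [h]⟩
  exact ⟨fun ⟨g', hg', e⟩ => key.2 ((rid s).injective e ▸ hg'), fun h => ⟨g, key.1 h, rfl⟩⟩

theorem rid_orth_iff (h2 : (2 : F) ≠ 0) (s : S) {g : GL (S → Fin k) F} :
    rid s g ∈ Orth (({r // r ≠ s} → Fin k) × Fin k) F ↔ g ∈ Orth (S → Fin k) F := by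
  rw [← map_rid_orth h2 s]
  exact Subgroup.mem_map_iff_mem (rid (F := F) (m := k) s).injective

theorem rid_om_iff (h2 : (2 : F) ≠ 0) (s : S) {g : GL (S → Fin k) F} :
    rid s g ∈ Om (({r // r ≠ s} → Fin k) × Fin k) F ↔ g ∈ Om (S → Fin k) F := by
  rw [show Om (({r // r ≠ s} → Fin k) × Fin k) F = (Om (S → Fin k) F).map (rid s).toMonoidHom from
    (om_map _ (map_rid_orth h2 s)).symm]
  exact Subgroup.mem_map_iff_mem (rid (F := F) (m := k) s).injective

theorem rid_rt' (s : S) (w : GL (Fin k) F) : rid s (rt s w) = inr _ k F w := TW.rid_rt s w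

/-- a pure matrix is the identity only for scalars -/
theorem pm_eq_one {f : S → Matrix (Fin k) (Fin k) F} (h : pm f = 1) (s : S) : ∃ c : F, f s = c • 1 := by
  classical
  rcases Nat.eq_zero_or_pos k with rfl | hk
  · exact ⟨0, Matrix.ext fun i => i.elim0⟩
  let x : S → Fin k := fun _ => ⟨0, hk⟩
  have key : ∀ i j, (∏ r : {r // r ≠ s}, f r.1 (x r.1) (x r.1)) * f s i j = (1 : Matrix (Fin k) (Fin k) F) i j := by
    intro i j
    have e := congrFun (congrFun h (Function.update x s i)) (Function.update x s j)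
    rw [TW.pm_apply, TW.prod_split s, Function.update_self, Function.update_self, mul_comm] at e
    rw [Finset.prod_congr rfl fun r _ => by rw [Function.update_of_ne r.2, Function.update_of_ne r.2]] at e
    rw [e, Matrix.one_apply, Matrix.one_apply]
    exact if_congr ⟨fun e' => by simpa using congrFun e' s, fun e' => by rw [e']⟩ rfl rfl
  refine ⟨(∏ r : {r // r ≠ s}, f r.1 (x r.1) (x r.1))⁻¹, Matrix.ext fun i j => ?_⟩
  have hne : ∏ r : {r // r ≠ s}, f r.1 (x r.1) (x r.1) ≠ 0 := fun e => by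
    have := key (x s) (x s)
    rw [e, zero_mul, Matrix.one_apply_eq] at this
    exact zero_ne_one this
  rw [Matrix.smul_apply, smul_eq_mul, ← key i j, ← mul_assoc, inv_mul_cancel₀ hne, one_mul]

/-- isometries of determinant one of the factor -/
def SO (u : GL (Fin k) F) : Prop := u ∈ Orth (Fin k) F ∧ (u : Matrix (Fin k) (Fin k) F).det = 1

theorem SO.mul {u w : GL (Fin k) F} (h : SO u) (h' : SO w) : SO (u * w) :=
  ⟨mul_mem h.1 h'.1, by rw [Units.val_mul, Matrix.det_mul, h.2, h'.2, one_mul]⟩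

theorem SO.inv {u : GL (Fin k) F} (h : SO u) : SO u⁻¹ := ⟨inv_mem h.1, by
  have := congrArg Matrix.det (u.mul_inv)
  rwa [Matrix.det_mul, h.2, one_mul, Matrix.det_one] at this⟩

theorem so_one : SO (1 : GL (Fin k) F) := ⟨one_mem _, by rw [Units.val_one, Matrix.det_one]⟩

theorem so_of_om {u : GL (Fin k) F} (h2 : (2 : F) ≠ 0) [Finite F] (h : u ∈ Om (Fin k) F) : SO u :=
  ⟨om_le_orth h, det_one h2 h⟩

/-- scalar multiples of special isometries -/
theorem so_eq_of_smul (hk : Odd k) (h2 : (2 : F) ≠ 0) {u w : GL (Fin k) F} (hu : SO u) (hw : SO w) {c : F}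
    (h : (w : Matrix (Fin k) (Fin k) F) = c • (u : Matrix (Fin k) (Fin k) F)) : c = 1 ∧ u = w := by
  have hd := congrArg Matrix.det h
  rw [Matrix.det_smul, hu.2, hw.2, mul_one, Fintype.card_fin] at hd
  have hi : Fin k := ⟨0, hk.pos⟩
  have e := transpose_mul h2 hw.1
  rw [h, Matrix.transpose_smul, smul_mul_smul_comm, transpose_mul h2 hu.1] at e
  have hc : c * c = 1 := by simpa using congrFun (congrFun e hi) hi
  obtain ⟨r, rfl⟩ := hk
  rw [pow_succ, pow_mul, pow_two, hc, one_pow, one_mul] at hd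
  exact ⟨hd.symm, Units.ext (by rw [h, ← hd, one_smul])⟩

/-- normal form in the wreath product -/
theorem norm_form (hh : Hyp k F) {g : GL (S → Fin k) F} (hg : g ∈ Wr S k F) (hO : g ∈ Orth (S → Fin k) F) :
    ∃ (σ : Equiv.Perm S) (u : S → GL (Fin k) F) (ε : F), (ε = 1 ∨ ε = -1) ∧ (∀ s, SO (u s)) ∧
      (g : Matrix (S → Fin k) (S → Fin k) F) =
        ε • ((pg σ * tk u : GL (S → Fin k) F) : Matrix (S → Fin k) (S → Fin k) F) := by
  have h2 := hh.h2
  obtain ⟨σ, v, rfl⟩ := TW.exists_of_mem_wr hg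
  have hv : tk v ∈ Orth (S → Fin k) F := (Subgroup.mul_mem_cancel_left _ (pg_orth σ)).1 hO
  have h1 : pm (fun s => ((v s : GL (Fin k) F) : Matrix (Fin k) (Fin k) F)ᵀ * (v s : Matrix (Fin k) (Fin k) F)) = 1 := by
    have e := transpose_mul h2 hv
    rw [TW.tk_val, pm_transpose, ← map_mul] at e
    exact e
  choose c hc using pm_eq_one h1
  obtain ⟨r, hr⟩ := hh.odd
  -- scale every factor to determinant one
  have key : ∀ s, ∃ (d : F) (u : GL (Fin k) F), d ≠ 0 ∧ SO u ∧
      (v s : Matrix (Fin k) (Fin k) F) = d • (u : Matrix (Fin k) (Fin k) F) := by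
    intro s
    set D := (v s : Matrix (Fin k) (Fin k) F).det with hD
    have hD0 : D ≠ 0 := ((Matrix.isUnit_iff_isUnit_det _).1 (v s).isUnit).ne_zero
    have e := congrArg Matrix.det (hc s)
    try simp only at e
    rw [Matrix.det_mul, Matrix.det_transpose, ← hD, Matrix.det_smul, Matrix.det_one, mul_one, Fintype.card_fin,
      hr] at e
    have hc0 : c s ≠ 0 := fun h0 => mul_ne_zero hD0 hD0 (by rw [e, h0, zero_pow (by omega)])
    set d := D / c s ^ r with hd
    have hd2 : d * d = c s := by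
      rw [hd, div_mul_div_comm, e, div_eq_iff (mul_ne_zero (pow_ne_zero _ hc0) (pow_ne_zero _ hc0))]
      ring
    have hd0 : d ≠ 0 := div_ne_zero hD0 (pow_ne_zero _ hc0)
    let u : GL (Fin k) F := (Units.map (Matrix.scalar (Fin k) : F →+* _).toMonoidHom (Units.mk0 d hd0))⁻¹ * v s
    have huv : (u : Matrix (Fin k) (Fin k) F) = d⁻¹ • (v s : Matrix (Fin k) (Fin k) F) := by
      simp [u, ← Matrix.smul_eq_diagonal_mul]
    refine ⟨d, u, hd0, ⟨?_, ?_⟩, by rw [huv, smul_smul, mul_inv_cancel₀ hd0, one_smul]⟩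
    · rw [mem_orth_iff h2, huv, Matrix.transpose_smul, smul_mul_smul_comm]
      have := hc s
      try simp only at this
      rw [this, smul_smul, ← mul_inv, hd2, inv_mul_cancel₀ hc0, one_smul]
    · rw [huv, Matrix.det_smul, ← hD, Fintype.card_fin, hr, inv_pow, pow_succ, pow_mul, pow_two, hd2, hd]
      field_simp
  choose d u hd0 hu hvu using key
  have hval : (tk v : Matrix (S → Fin k) (S → Fin k) F) = (∏ s, d s) • (tk u : Matrix (S → Fin k) (S → Fin k) F) := by
    rw [TW.tk_val, TW.tk_val, ← TW.pm_smul]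
    exact congrArg pm (funext hvu)
  have hε : (∏ s, d s) * (∏ s, d s) = 1 := by
    have e := transpose_mul h2 hv
    rw [hval, Matrix.transpose_smul, smul_mul_smul_comm, transpose_mul h2 (tk_orth h2 fun s => (hu s).1)] at e
    have x : S → Fin k := fun _ => ⟨0, hh.odd.pos⟩
    simpa using congrFun (congrFun e x) x
  exact ⟨σ, u, _, mul_self_eq_one_iff.1 hε, hu, by
    rw [Units.val_mul, hval, mul_smul_comm, ← Units.val_mul]⟩

/-- every class meets one slot -/
theorem fix_class [Finite F] (hh : Hyp k F) (s : S) {g : GL (S → Fin k) F} (hg : g ∈ Orth (S → Fin k) F) :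
    ∃ w ∈ Orth (Fin k) F, rt s w * g ∈ Om (S → Fin k) F := by
  obtain ⟨w, hw, h⟩ := exists_inr hh (hh.card_odd _) ((rid_orth_iff hh.h2 s).2 hg)
  exact ⟨w, hw, (rid_om_iff hh.h2 s).1 (by rwa [map_mul, rid_rt'])⟩

/-- a matrix commuting with all pure derived elements is scalar -/
theorem tk_commutant [Finite F] (hh : Hyp k F) {M : Matrix (S → Fin k) (S → Fin k) F}
    (h : ∀ u : S → GL (Fin k) F, (∀ s, u s ∈ Om (Fin k) F) → Commute M (tk u : Matrix (S → Fin k) (S → Fin k) F)) :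
    ∃ c : F, M = c • 1 := by
  classical
  have h2 := hh.h2
  have hs : ∀ (s : S) (w : GL (Fin k) F), w ∈ Om (Fin k) F → Commute M (rt s w : Matrix (S → Fin k) (S → Fin k) F) :=
    fun s w hw => by
      rw [TW.rt_eq]
      exact h _ fun r => by
        rcases eq_or_ne r s with rfl | hr
        · rwa [Pi.mulSingle_eq_same]
        · rw [Pi.mulSingle_eq_of_ne hr]; exact one_mem _
  have key : ∀ s, ∀ p q : {r // r ≠ s} → Fin k, ∃ c : F, ∀ i j, M ((spl s).symm (p, i)) ((spl s).symm (q, j)) =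
      if i = j then c else 0 := by
    intro s p q
    obtain ⟨c, hc⟩ := commutant h2 hh.odd' hh.three'
      (M := Matrix.of fun i j => M ((spl s).symm (p, i)) ((spl s).symm (q, j))) fun w hw => by
        have e := congrArg (fun A => A.submatrix (spl (m := k) s).symm (spl (m := k) s).symm) (hs s w hw).eq
        simp only [← Matrix.submatrix_mul_equiv _ _ _ (spl (m := k) s).symm] at e
        rw [← TW.rid_val, rid_rt', inr_val] at e
        refine Matrix.ext fun i j => ?_
        have e' := congrFun (congrFun e (p, i)) (q, j)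
        simpa [Matrix.mul_apply, Fintype.sum_prod_type, Matrix.one_apply] using e'
    exact ⟨c, fun i j => by simpa [Matrix.one_apply] using congrFun (congrFun hc i) j⟩
  have hoff : ∀ x y, x ≠ y → M x y = 0 := fun x y hxy => by
    obtain ⟨s, hs'⟩ := Function.ne_iff.1 hxy
    obtain ⟨c, hc⟩ := key s (spl s x).1 (spl s y).1
    have := hc (x s) (y s)
    rw [if_neg hs'] at this
    convert this using 2 <;> exact ((spl s).symm_apply_apply _).symm
  rcases Nat.eq_zero_or_pos k with hk0 | hkpos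
  · have := hh.three; omega
  have hdiag : ∀ (x : S → Fin k) (s : S) (i : Fin k), M (Function.update x s i) (Function.update x s i) = M x x := by
    intro x s i
    obtain ⟨c, hc⟩ := key s (fun r => x r.1) (fun r => x r.1)
    have h1 := hc (x s) (x s)
    have h2' := hc i i
    rw [if_pos rfl] at h1 h2'
    have e1 : (spl s).symm ((fun r : {r // r ≠ s} => x r.1), x s) = x := (spl s).symm_apply_apply x
    have e2 : (spl s).symm ((fun r : {r // r ≠ s} => x r.1), i) = Function.update x s i := by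
      rw [Equiv.symm_apply_eq, TW.spl_apply]
      refine Prod.ext (funext fun r => ?_) ?_
      · simp [r.2]
      · simp
    rw [e1] at h1
    rw [e2] at h2'
    rw [h1, h2']
  let x₀ : S → Fin k := fun _ => ⟨0, hkpos⟩
  have hconst : ∀ (T : Finset S) (x : S → Fin k), (∀ s, s ∉ T → x s = x₀ s) → M x x = M x₀ x₀ := by
    intro T
    induction T using Finset.induction with
    | empty => intro x hx; rw [show x = x₀ from funext fun s => hx s (Finset.notMem_empty s)]
    | insert s T hs ih =>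
      intro x hx
      rw [← hdiag x s (x₀ s)]
      refine ih _ fun r hr => ?_
      rcases eq_or_ne r s with rfl | hrs
      · simp
      · rw [Function.update_of_ne hrs]
        exact hx r (by simp [hr, hrs])
  refine ⟨M x₀ x₀, Matrix.ext fun x y => ?_⟩
  rcases eq_or_ne x y with rfl | hxy
  · simp [hconst Finset.univ x (by simp)]
  · simp [hoff x y hxy, hxy]

/-- the overgroups of the tensor structure -/
structure Ov (M : Subgroup (GL (S → Fin k) F)) : Prop where
  le : M ≤ Orth (S → Fin k) F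
  wr : Wr S k F ⊓ Om (S → Fin k) F ≤ M

theorem Ov.rt_mem (h2 : (2 : F) ≠ 0) {M : Subgroup (GL (S → Fin k) F)} (h : Ov M) (s : S) {w : GL (Fin k) F}
    (hw : w ∈ Om (Fin k) F) : rt s w ∈ M :=
  h.wr ⟨TW.rt_mem s w, rt_om h2 s hw⟩

/-- the dichotomy -/
def Max (S : Type) [Fintype S] [DecidableEq S] (k : ℕ) (F : Type*) [Field F] : Prop :=
  ∀ M : Subgroup (GL (S → Fin k) F), Ov M → M ≤ Wr S k F ∨ Om (S → Fin k) F ≤ M

/-- non-scalar groups normalised by the wreath product contain a slot -/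
theorem exists_slot [Finite F] (hh : Hyp k F) (hmax : Max S k F) {G : Subgroup (GL (S → Fin k) F)}
    (hG : G ≤ Orth (S → Fin k) F) (hnorm : ∀ a ∈ Wr S k F ⊓ Om (S → Fin k) F, ∀ g ∈ G, a * g * a⁻¹ ∈ G)
    {g : GL (S → Fin k) F} (hg : g ∈ G) (hsc : ∀ c : F, (g : Matrix (S → Fin k) (S → Fin k) F) ≠ c • 1) :
    ∃ r, ∀ w ∈ Om (Fin k) F, rt r w ∈ G := by
  have h2 := hh.h2
  have hS : Nonempty S := by
    by_contra hS
    haveI := not_nonempty_iff.1 hS
    exact hsc _ (Matrix.ext fun x y => by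
      obtain rfl := Subsingleton.elim x y
      obtain rfl := Subsingleton.elim x (fun s => isEmptyElim s)
      simp only [Matrix.smul_apply, Matrix.one_apply_eq, smul_eq_mul, mul_one]
      rfl)
  let M' : Subgroup (GL (S → Fin k) F) := Orth (S → Fin k) F ⊓ Subgroup.normalizer (G : Set (GL (S → Fin k) F))
  have hOv : Ov M' := ⟨inf_le_left, fun a ha => ⟨om_le_orth ha.2, Subgroup.mem_normalizer_iff_map_conj_eq.2 (by
    refine le_antisymm ?_ fun x hx => ?_
    · rintro _ ⟨x, hx, rfl⟩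
      exact hnorm a ha x hx
    · exact ⟨a⁻¹ * x * a, by simpa using hnorm _ (inv_mem ha) x hx, by simp [mul_assoc]⟩)⟩⟩
  have hgM : g ∈ M' := ⟨hG hg, Subgroup.le_normalizer hg⟩
  rcases hmax M' hOv with hle | hom
  · obtain ⟨σ, u, ε, hε, hu, hguv⟩ := norm_form hh (hle hgM) (hG hg)
    obtain ⟨h, hh1, hne⟩ : ∃ h : S → GL (Fin k) F, (∀ s, h s ∈ Om (Fin k) F) ∧
        g * tk h * g⁻¹ * (tk h)⁻¹ ≠ 1 := by
      by_contra hc
      push Not at hc
      obtain ⟨c, hcc⟩ := tk_commutant hh (M := (g : Matrix (S → Fin k) (S → Fin k) F)) fun h hh1 =>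
        congrArg Units.val (mul_inv_eq_iff_eq_mul.1 (mul_inv_eq_one.1 (hc h hh1)))
      exact hsc c hcc
    have hconj : g * tk h * g⁻¹ = tk (fun s => u (σ.symm s) * h (σ.symm s) * (u (σ.symm s))⁻¹) := by
      have : g * tk h * g⁻¹ = (pg σ * tk u) * tk h * (pg σ * tk u)⁻¹ := by
        rw [mul_inv_eq_iff_eq_mul]
        refine Units.ext ?_
        rw [Units.val_mul, Units.val_mul, hguv, mul_smul_comm, smul_mul_assoc, ← Units.val_mul, ← Units.val_mul]
        congr 2
        group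
      rw [this, _root_.mul_inv_rev, ← mul_assoc, mul_assoc (pg σ), mul_assoc (pg σ), ← map_inv, ← map_mul, ← map_mul,
        TW.pg_conj]
      rfl
    set v : S → GL (Fin k) F := fun s => u (σ.symm s) * h (σ.symm s) * (u (σ.symm s))⁻¹ * (h s)⁻¹ with hv
    have hvO : ∀ s, v s ∈ Om (Fin k) F := fun s => mul_mem (conj_mem_om (hu _).1 (hh1 _)) (inv_mem (hh1 s))
    have hcomm : g * tk h * g⁻¹ * (tk h)⁻¹ = tk v := by
      rw [hconj, ← map_inv, ← map_mul]
      rfl
    have hvG : tk v ∈ G := by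
      rw [← hcomm, mul_assoc, mul_assoc, ← mul_assoc (tk h)]
      exact mul_mem hg (hnorm _ ⟨TW.tk_mem _, tk_om h2 hh1⟩ _ (inv_mem hg))
    obtain ⟨r, hr⟩ : ∃ r, v r ≠ 1 := by
      by_contra hc
      push Not at hc
      exact hne (by rw [hcomm, show v = 1 from funext hc, map_one])
    obtain ⟨w, hw, hwne⟩ : ∃ w ∈ Om (Fin k) F, w * v r * w⁻¹ * (v r)⁻¹ ≠ 1 := by
      by_contra hc
      push Not at hc
      exact hr (eq_one_of_central h2 hh.odd' hh.three' (hvO r) fun w hw =>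
        (mul_inv_eq_iff_eq_mul.1 (mul_inv_eq_one.1 (hc w hw))).symm)
    have hx : rt r (w * v r * w⁻¹ * (v r)⁻¹) ∈ G := by
      have e : rt r (w * v r * w⁻¹ * (v r)⁻¹) = rt r w * tk v * (rt r w)⁻¹ * (tk v)⁻¹ := by
        rw [TW.rt_eq, TW.rt_eq, ← map_inv, ← map_inv, ← map_mul, ← map_mul, ← map_mul]
        refine congrArg tk (funext fun s => ?_)
        rcases eq_or_ne s r with rfl | hs
        · simp
        · simp [hs]
      rw [e]
      exact mul_mem (hnorm _ ⟨TW.rt_mem r w, rt_om h2 r hw⟩ _ hvG) (inv_mem hvG)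
    exact ⟨r, fun y hy => om_le_of_normal h2 hh.odd' hh.three' hh.big' (N := G.comap (rt r))
      (fun a ha x hx _ => by
        rw [Subgroup.mem_comap, map_mul, map_mul, map_inv]
        exact hnorm _ ⟨TW.rt_mem r a, rt_om h2 r ha⟩ _ hx) hx
      (mul_mem (conj_mem_om (om_le_orth hw) (hvO r)) (inv_mem (hvO r))) hwne hy⟩
  · have h3 : 3 ≤ Fintype.card (S → Fin k) := by
      rw [Fintype.card_fun, Fintype.card_fin]
      exact le_trans hh.three (Nat.le_self_pow Fintype.card_ne_zero k)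
    have hbig : 5 ≤ Fintype.card (S → Fin k) ∨ 5 ≤ Nat.card F := hh.big.imp_left fun h5 => by
      rw [Fintype.card_fun, Fintype.card_fin]
      exact le_trans h5 (Nat.le_self_pow Fintype.card_ne_zero k)
    obtain ⟨w, hw, hwne⟩ : ∃ w ∈ Om (S → Fin k) F, g * w * g⁻¹ * w⁻¹ ≠ 1 := by
      by_contra hc
      push Not at hc
      obtain ⟨c, hcc⟩ := commutant h2 (hh.card_odd S) h3 (M := (g : Matrix (S → Fin k) (S → Fin k) F)) fun w hw =>
        congrArg Units.val (mul_inv_eq_iff_eq_mul.1 (mul_inv_eq_one.1 (hc w hw)))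
      exact hsc c hcc
    have hnormO : ∀ a ∈ Om (S → Fin k) F, ∀ x ∈ G, a * x * a⁻¹ ∈ G := fun a ha x hx => by
      have := Subgroup.mem_normalizer_iff_map_conj_eq.1 (hom ha).2
      rw [← this]
      exact ⟨x, hx, rfl⟩
    have hmem : g * w * g⁻¹ * w⁻¹ ∈ G := by
      rw [mul_assoc, mul_assoc, ← mul_assoc w]
      exact mul_mem hg (hnormO w hw _ (inv_mem hg))
    obtain ⟨r⟩ := hS
    exact ⟨r, fun y hy => om_le_of_normal h2 (hh.card_odd S) h3 hbig (N := G) (fun a ha x hx _ => hnormO a ha x hx)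
      hmem (mul_mem (conj_mem_om (hG hg) hw) (inv_mem hw)) hwne (rt_om h2 r hy)⟩

end Cfsg.Agent.MaxCl.TOrth
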