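/-
Tensor powers of a diagonal form in even dimension: products, classes of slot isometries, normal form, commutants,
and the groups normalised by the wreath product inside a smaller power.
-/
import Cfsg.Agent.Lib.MaxCl.TEvSimple
import Cfsg.Agent.Lib.MaxCl.TOrthSlot

set_option autoImplicit false
set_option linter.unusedSectionVars false

namespace Cfsg.Agent.MaxCl.TEv

open Matrix
open TOrth (binary_value exists_nonsquare rk rk_zero rk_one pmat inl inr kr_val inl_val inr_val pm_eq_one)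
open TW (tk pm pg rt rid spl sl Wr)
open scoped MatrixGroups Kronecker

variable {F : Type*} [Field F] {k : ℕ} [Wt (Fin k) F]

/-- the standing hypotheses on the factor: even dimension, a normal form, minus type in dimension four -/
structure Hyp (k : ℕ) (F : Type*) [Field F] [Wt (Fin k) F] : Prop where
  h2 : (2 : F) ≠ 0
  even : Even k
  four : 4 ≤ k
  ones : ∃ j₀ : Fin k, ∀ i, i ≠ j₀ → (Wt.w i : F) = 1
  minus : k = 4 → ¬ IsSquare (∏ i : Fin k, (Wt.w i : F))

theorem Hyp.four' (hh : Hyp k F) : 4 ≤ Fintype.card (Fin k) := by rw [Fintype.card_fin]; exact hh.four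

theorem Hyp.three' (hh : Hyp k F) : 3 ≤ Fintype.card (Fin k) := le_trans (by norm_num) hh.four'

theorem Hyp.ne (hh : Hyp k F) : Nonempty (Fin k) := ⟨⟨0, by have := hh.four; omega⟩⟩

theorem Hyp.six (hh : Hyp k F) (h4 : k ≠ 4) : 6 ≤ k := by
  have := hh.four
  obtain ⟨r, hr⟩ := hh.even
  omega

theorem Hyp.big [Finite F] (hh : Hyp k F) : Big (Fin k) F := by
  obtain ⟨j₀, hj⟩ := hh.ones
  have hc : ∀ M : Matrix (Fin k) (Fin k) F, (∀ g ∈ Om (Fin k) F, Commute M (g : Matrix (Fin k) (Fin k) F)) →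
      ∃ c : F, M = c • 1 := fun M h => commutant_ones hh.h2 hh.four' hj h
  by_cases h4 : k = 4
  · exact big_of_minus_four hh.h2 (by rw [Fintype.card_fin, h4]) (hh.minus h4) hc
  · exact big_of_five hh.h2 (by rw [Fintype.card_fin]; have := hh.six h4; omega) hc

/-! ### two factors -/

section Two

variable {β : Type} [Fintype β] [DecidableEq β] [Wt β F]

theorem ad_kronecker (A : Matrix β β F) (B : Matrix (Fin k) (Fin k) F) : (A ⊗ₖ B)† = A† ⊗ₖ B† := by
  ext ⟨p, i⟩ ⟨q, j⟩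
  simp only [ad_apply, Matrix.kroneckerMap_apply, w_prod, mul_inv]
  ring

theorem bf_pv (e e' : β → F) (a a' : Fin k → F) : TP.pv e a ⬝ʷ TP.pv e' a' = (e ⬝ʷ e') * (a ⬝ʷ a') := by
  simp only [bf, TP.pv_apply, w_prod, Fintype.sum_prod_type, Finset.sum_mul_sum]
  exact Finset.sum_congr rfl fun _ _ => Finset.sum_congr rfl fun _ _ => by ring

theorem kr_orth (h2 : (2 : F) ≠ 0) {A : GL β F} (hA : A ∈ Orth β F) {u : GL (Fin k) F} (hu : u ∈ Orth (Fin k) F) :
    TP.kr (A, u) ∈ Orth (β × Fin k) F := by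
  rw [mem_orth_iff h2, kr_val, ad_kronecker, ← Matrix.mul_kronecker_mul, ad_mul_self h2 hA,
    ad_mul_self h2 hu, Matrix.one_kronecker_one]

theorem inl_orth (h2 : (2 : F) ≠ 0) {A : GL β F} (hA : A ∈ Orth β F) : inl β k F A ∈ Orth (β × Fin k) F :=
  kr_orth h2 hA (one_mem _)

theorem inr_orth (h2 : (2 : F) ≠ 0) {u : GL (Fin k) F} (hu : u ∈ Orth (Fin k) F) :
    inr β k F u ∈ Orth (β × Fin k) F :=
  kr_orth h2 (one_mem _) hu

theorem inl_om (h2 : (2 : F) ≠ 0) {A : GL β F} (hA : A ∈ Om β F) : inl β k F A ∈ Om (β × Fin k) F :=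
  om_map_le (inl β k F) (fun _ h => inl_orth h2 h) hA

theorem inr_om (h2 : (2 : F) ≠ 0) {u : GL (Fin k) F} (hu : u ∈ Om (Fin k) F) :
    inr β k F u ∈ Om (β × Fin k) F :=
  om_map_le (inr β k F) (fun _ h => inr_orth h2 h) hu

theorem ov_pv (e : β → F) (a : Fin k → F) : ov (TP.pv e a) (TP.pv e a) = ov e e ⊗ₖ ov a a := by
  ext ⟨i, p⟩ ⟨j, q⟩
  simp only [ov_apply, Matrix.kroneckerMap_apply, TP.pv_apply, w_prod]
  ring

theorem pj_pv (e : β → F) (a : Fin k → F) : pj (TP.pv e a) = pj e ⊗ₖ pj a := by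
  rw [pj, pj, pj, bf_pv, ov_pv, Matrix.smul_kronecker, Matrix.kronecker_smul, smul_smul, mul_inv]

/-- a product of reflections at orthogonal vectors -/
theorem list_rf_prod {κ : Type*} [DecidableEq κ] {γ : Type} [Fintype γ] [DecidableEq γ] [Wt γ F] {a : κ → γ → F}
    (h : ∀ i, a i ⬝ʷ a i ≠ 0) (hperp : ∀ i j, i ≠ j → a i ⬝ʷ a j = 0) :
    ∀ l : List κ, l.Nodup → (l.map fun i => (rf (a i) : Matrix γ γ F)).prod = 1 - (2 : F) • ∑ i ∈ l.toFinset, pj (a i)
  | [], _ => by simp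
  | i :: l, hl => by
    rw [List.nodup_cons] at hl
    have h0 : pj (a i) * (∑ j ∈ l.toFinset, pj (a j)) = 0 := by
      rw [Finset.mul_sum]
      exact Finset.sum_eq_zero fun j hj => pj_mul_pj (hperp i j fun e => hl.1 (List.mem_toFinset.1 (e ▸ hj)))
    rw [List.map_cons, List.prod_cons, list_rf_prod h hperp l hl.2, rf_val (h i), List.toFinset_cons,
      Finset.sum_insert (by simpa using hl.1), mul_sub, mul_one, sub_mul, one_mul, smul_mul_assoc, mul_smul_comm,
      h0, smul_zero, smul_zero, sub_zero, smul_add]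
    abel

/-- an even number of reflections with square product of values -/
theorem mem_om_of_list [Finite F] (h2 : (2 : F) ≠ 0) {γ : Type} [Fintype γ] [DecidableEq γ] [Wt γ F] {g : GL γ F}
    (hg : g ∈ Orth γ F) (vs : List (γ → F)) (hvs : ∀ v ∈ vs, v ⬝ʷ v ≠ 0)
    (hv : (g : Matrix γ γ F) = (vs.map fun v => (rf v : Matrix γ γ F)).prod) (hev : Even vs.length)
    (hsq : IsSquare (vs.map fun v => v ⬝ʷ v).prod) : g ∈ Om γ F := by
  classical
  haveI := Fintype.ofFinite F
  have h := (QForm.mem_omega_iff_of_prod (polar_nondeg h2) h2 ⟨g, hg⟩ vs (fun v m => by rw [dq_apply]; exact hvs v m)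
    (by
      rw [hv]
      refine congrArg List.prod (List.map_congr_left fun v m => ?_)
      have := congrArg Units.val (qrefl_eq (ι := γ) (F := F) (a := v) (by rw [dq_apply]; exact hvs v m))
      exact this.symm)).2 ⟨hev, by simpa only [dq_apply] using hsq⟩
  exact ⟨⟨g, hg⟩, h, rfl⟩

/-- a reflection of the right factor as reflections at pure vectors -/
theorem inr_rf_list {a : Fin k → F} (ha : a ⬝ʷ a ≠ 0) :
    ((Finset.univ : Finset β).toList.map fun p => (rf (TP.pv (Pi.single p (1 : F)) a) : Matrix (β × Fin k) (β × Fin k) F)).prod =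
      (inr β k F (rf a) : Matrix (β × Fin k) (β × Fin k) F) := by
  rw [list_rf_prod (fun p => by simpa [bf_pv, bf_single] using ⟨Wt.ne p, ha⟩)
    (fun p q hpq => by simp [bf_pv, bf_single, hpq]) _ (Finset.nodup_toList _), Finset.toList_toFinset,
    inr_val, rf_val ha]
  have e : ∑ p : β, pj (Pi.single p (1 : F) : β → F) = 1 := by
    ext i j
    rw [Matrix.sum_apply, Finset.sum_eq_single i]
    · rcases eq_or_ne j i with rfl | hji
      · simp [pj, ov_apply, bf_single, Wt.ne]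
      · simp [pj, ov_apply, hji, Ne.symm hji]
    · intro b _ hb
      simp [pj, ov_apply, Ne.symm hb]
    · simp
  simp only [pj_pv]
  rw [show ∑ p : β, pj (Pi.single p (1 : F) : β → F) ⊗ₖ pj a = (1 : Matrix β β F) ⊗ₖ pj a from by
    rw [← e]; ext ⟨i, x⟩ ⟨j, y⟩; simp [Matrix.sum_apply, Finset.sum_mul],
    sub_eq_add_neg (1 : Matrix (Fin k) (Fin k) F), Matrix.kronecker_add, Matrix.one_kronecker_one, ← neg_smul,
    Matrix.kronecker_smul, neg_smul, ← sub_eq_add_neg]

theorem inr_rf_mul_mem [Finite F] (h2 : (2 : F) ≠ 0) (hβ : Even (Fintype.card β)) {a b : Fin k → F} (ha : a ⬝ʷ a ≠ 0)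
    (hb : b ⬝ʷ b ≠ 0) : inr β k F (rf a * rf b) ∈ Om (β × Fin k) F := by
  refine mem_om_of_list h2 (inr_orth h2 (mul_mem (rf_mem a) (rf_mem b)))
    (((Finset.univ : Finset β).toList.map fun p => TP.pv (Pi.single p (1 : F)) a) ++
      ((Finset.univ : Finset β).toList.map fun p => TP.pv (Pi.single p (1 : F)) b)) ?_ ?_ ?_ ?_
  · intro v hv
    simp only [List.mem_append, List.mem_map] at hv
    rcases hv with ⟨p, -, rfl⟩ | ⟨p, -, rfl⟩ <;> rw [bf_pv] <;>
      exact mul_ne_zero (by simpa [bf_single] using Wt.ne p) (by assumption)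
  · rw [List.map_append, List.prod_append, List.map_map, List.map_map, map_mul, Units.val_mul, ← inr_rf_list ha,
      ← inr_rf_list hb]
    rfl
  · simp [← two_mul]
  · obtain ⟨r, hr⟩ := hβ
    rw [List.map_append, List.prod_append, List.map_map, List.map_map]
    simp only [Function.comp_def, bf_pv, Finset.prod_map_toList, Finset.prod_mul_distrib, Finset.prod_const,
      Finset.card_univ, hr]
    exact ⟨(∏ p : β, (Pi.single p (1 : F) : β → F) ⬝ʷ Pi.single p 1) * (a ⬝ʷ a) ^ r * (b ⬝ʷ b) ^ r, by ring⟩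

theorem inr_rf_mem [Finite F] (h2 : (2 : F) ≠ 0) (hβ : Even (Fintype.card β)) (hw : IsSquare (∏ p : β, (Wt.w p : F)))
    {a : Fin k → F} (ha : a ⬝ʷ a ≠ 0) : inr β k F (rf a) ∈ Om (β × Fin k) F := by
  refine mem_om_of_list h2 (inr_orth h2 (rf_mem a))
    ((Finset.univ : Finset β).toList.map fun p => TP.pv (Pi.single p (1 : F)) a) ?_ ?_ ?_ ?_
  · intro v hv
    obtain ⟨p, -, rfl⟩ := List.mem_map.1 hv
    rw [bf_pv]
    exact mul_ne_zero (by simpa [bf_single] using Wt.ne p) ha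
  · rw [List.map_map, ← inr_rf_list ha]
    rfl
  · simpa using hβ
  · obtain ⟨r, hr⟩ := hβ
    rw [List.map_map]
    simp only [Function.comp_def, bf_pv, Finset.prod_map_toList, Finset.prod_mul_distrib, Finset.prod_const,
      Finset.card_univ, hr]
    refine hw.mul ?_ |> fun e => by simpa [bf_single] using e
    exact ⟨(a ⬝ʷ a) ^ r, by rw [← pow_add]⟩

/-- the right factor modulo the derived group only sees the determinant -/
theorem inr_class [Finite F] (h2 : (2 : F) ≠ 0) (hβ : Even (Fintype.card β)) {a₀ : Fin k → F} (ha₀ : a₀ ⬝ʷ a₀ ≠ 0)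
    {u : GL (Fin k) F} (hu : u ∈ Orth (Fin k) F) :
    ((u : Matrix (Fin k) (Fin k) F).det = 1 ∧ inr β k F u ∈ Om (β × Fin k) F) ∨
      ((u : Matrix (Fin k) (Fin k) F).det = -1 ∧ inr β k F (rf a₀) * inr β k F u ∈ Om (β × Fin k) F) := by
  have hdet : ∀ a : Fin k → F, a ⬝ʷ a ≠ 0 → (rf a : Matrix (Fin k) (Fin k) F).det = -1 := fun a ha => by
    rw [← qrefl_eq (by rwa [dq_apply])]
    exact QForm.det_reflectionMatrix (dq (Fin k) F) (by rwa [dq_apply])
  let H : Subgroup ↥(Orth (Fin k) F) :=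
    { carrier := {x | ((x : GL (Fin k) F) : Matrix (Fin k) (Fin k) F).det = 1 ∧ inr β k F x.1 ∈ Om (β × Fin k) F}
      one_mem' := ⟨by simp, by simp⟩
      mul_mem' := fun {x y} hx hy => ⟨by simp [Matrix.det_mul, hx.1, hy.1], by
        rw [Subgroup.coe_mul, map_mul]; exact mul_mem hx.2 hy.2⟩
      inv_mem' := fun {x} hx => ⟨by
        have := congrArg Matrix.det (Units.mul_inv (x : GL (Fin k) F))
        rw [Matrix.det_mul, hx.1, one_mul, Matrix.det_one] at this
        exact this, by rw [InvMemClass.coe_inv, map_inv]; exact inv_mem hx.2⟩ }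
  set r₀ : ↥(Orth (Fin k) F) := ⟨rf a₀, rf_mem a₀⟩
  have hr₀ : r₀ * r₀ = 1 := Subtype.ext (rf_mul_self a₀)
  have key : (⟨u, hu⟩ : Orth (Fin k) F) ∈ H ∨ r₀ * ⟨u, hu⟩ ∈ H := by
    refine Subgroup.closure_induction (p := fun x _ => x ∈ H ∨ r₀ * x ∈ H) ?_ (Or.inl (one_mem _))
      (fun x y _ _ hx hy => ?_) (fun x _ hx => ?_) (closure_rf h2 hu)
    · rintro x ⟨a, ha, hx⟩
      refine Or.inr ⟨?_, ?_⟩
      · show (((r₀ * x : Orth (Fin k) F) : GL (Fin k) F) : Matrix (Fin k) (Fin k) F).det = 1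
        rw [Subgroup.coe_mul, Units.val_mul, Matrix.det_mul, hx, hdet a ha, show (r₀ : GL (Fin k) F) = rf a₀ from rfl,
          hdet a₀ ha₀]
        ring
      · show inr β k F (r₀ * x : Orth (Fin k) F).1 ∈ _
        rw [Subgroup.coe_mul, hx]
        exact inr_rf_mul_mem h2 hβ ha₀ ha
    · have hc : ∀ z ∈ H, r₀ * z * r₀ ∈ H := fun z hz => by
        refine ⟨?_, ?_⟩
        · show (((r₀ * z * r₀ : Orth (Fin k) F) : GL (Fin k) F) : Matrix (Fin k) (Fin k) F).det = 1
          rw [Subgroup.coe_mul, Subgroup.coe_mul, Units.val_mul, Units.val_mul, Matrix.det_mul, Matrix.det_mul, hz.1,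
            show (r₀ : GL (Fin k) F) = rf a₀ from rfl, hdet a₀ ha₀]
          ring
        · show inr β k F (r₀ * z * r₀ : Orth (Fin k) F).1 ∈ _
          rw [Subgroup.coe_mul, Subgroup.coe_mul, map_mul, map_mul, show (r₀ : GL (Fin k) F) = rf a₀ from rfl]
          nth_rewrite 2 [← rf_inv a₀]
          rw [map_inv]
          exact conj_mem_om (inr_orth h2 (rf_mem a₀)) hz.2
      rcases hx with hx | hx <;> rcases hy with hy | hy
      · exact Or.inl (mul_mem hx hy)
      · refine Or.inr ?_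
        rw [show r₀ * (x * y) = (r₀ * x * r₀) * (r₀ * y) by simp [mul_assoc, ← mul_assoc r₀ r₀, hr₀]]
        exact mul_mem (hc x hx) hy
      · exact Or.inr (by rw [← mul_assoc]; exact mul_mem hx hy)
      · refine Or.inl ?_
        rw [show x * y = (r₀ * (r₀ * x) * r₀) * (r₀ * y) by simp [mul_assoc, ← mul_assoc r₀ r₀, hr₀]]
        exact mul_mem (hc _ hx) hy
    · rcases hx with hx | hx
      · exact Or.inl (inv_mem hx)
      · refine Or.inr ?_
        have e : r₀ * x⁻¹ = r₀ * (r₀ * x)⁻¹ * r₀ := by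
          rw [_root_.mul_inv_rev, inv_eq_of_mul_eq_one_right hr₀, mul_assoc, mul_assoc, hr₀, mul_one]
        rw [e]
        have hz := inv_mem hx
        refine ⟨?_, ?_⟩
        · show (((r₀ * (r₀ * x)⁻¹ * r₀ : Orth (Fin k) F) : GL (Fin k) F) : Matrix (Fin k) (Fin k) F).det = 1
          rw [Subgroup.coe_mul, Subgroup.coe_mul, Units.val_mul, Units.val_mul, Matrix.det_mul, Matrix.det_mul, hz.1,
            show (r₀ : GL (Fin k) F) = rf a₀ from rfl, hdet a₀ ha₀]
          ring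
        · show inr β k F (r₀ * (r₀ * x)⁻¹ * r₀ : Orth (Fin k) F).1 ∈ _
          rw [Subgroup.coe_mul, Subgroup.coe_mul, map_mul, map_mul, show (r₀ : GL (Fin k) F) = rf a₀ from rfl]
          nth_rewrite 2 [← rf_inv a₀]
          rw [map_inv]
          exact conj_mem_om (inr_orth h2 (rf_mem a₀)) hz.2
  rcases key with h | ⟨hd, ho⟩
  · exact Or.inl h
  · refine Or.inr ⟨?_, by rwa [Subgroup.coe_mul, map_mul] at ho⟩
    rw [Subgroup.coe_mul, Units.val_mul, Matrix.det_mul, show (r₀ : GL (Fin k) F) = rf a₀ from rfl, hdet a₀ ha₀] at hd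
    linear_combination -hd

end Two

/-! ### powers -/

variable {S : Type} [Fintype S] [DecidableEq S]

theorem pm_ad (f : S → Matrix (Fin k) (Fin k) F) : (pm f)† = pm fun s => (f s)† := by
  ext x y
  simp only [ad_apply, TW.pm_apply, w_pi, ← Finset.prod_inv_distrib, ← Finset.prod_mul_distrib]

theorem tk_orth (h2 : (2 : F) ≠ 0) {u : S → GL (Fin k) F} (hu : ∀ s, u s ∈ Orth (Fin k) F) :
    tk u ∈ Orth (S → Fin k) F := by
  rw [mem_orth_iff h2, TW.tk_val, pm_ad, ← map_mul,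
    show ((fun s => ((u s : GL (Fin k) F) : Matrix (Fin k) (Fin k) F)†) * fun s => (u s : Matrix (Fin k) (Fin k) F)) = 1
      from funext fun s => ad_mul_self h2 (hu s), map_one]

theorem pg_orth (σ : Equiv.Perm S) : (pg σ : GL (S → Fin k) F) ∈ Orth (S → Fin k) F :=
  (Orth.mem_iso _).2 fun z => by
    rw [dq_apply, dq_apply]
    exact Fintype.sum_equiv (Equiv.arrowCongr σ.symm (Equiv.refl _)) _ _ fun x => by
      have hw : (Wt.w (Equiv.arrowCongr σ.symm (Equiv.refl (Fin k)) x) : F) = Wt.w x := by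
        rw [w_pi, w_pi]
        exact Fintype.prod_equiv σ _ _ fun i => rfl
      rw [TW.act_pg, hw]
      rfl

theorem rt_orth (h2 : (2 : F) ≠ 0) (s : S) {u : GL (Fin k) F} (hu : u ∈ Orth (Fin k) F) :
    rt s u ∈ Orth (S → Fin k) F := by
  rw [TW.rt_eq]
  refine tk_orth h2 fun r => ?_
  rcases eq_or_ne r s with rfl | h
  · rwa [Pi.mulSingle_eq_same]
  · rw [Pi.mulSingle_eq_of_ne h]; exact one_mem _

theorem rt_om (h2 : (2 : F) ≠ 0) (s : S) {u : GL (Fin k) F} (hu : u ∈ Om (Fin k) F) :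
    rt s u ∈ Om (S → Fin k) F :=
  om_map_le (rt s) (fun _ h => rt_orth h2 s h) hu

theorem tk_om (h2 : (2 : F) ≠ 0) {u : S → GL (Fin k) F} (hu : ∀ s, u s ∈ Om (Fin k) F) :
    tk u ∈ Om (S → Fin k) F :=
  Subgroup.mem_comap.1 (Subgroup.pi_mem_of_mulSingle_mem (H := (Om (S → Fin k) F).comap tk) u fun s => by
    rw [Subgroup.mem_comap, ← TW.rt_eq]
    exact rt_om h2 s (hu s))

theorem w_spl (s : S) (p : {r // r ≠ s} → Fin k) (i : Fin k) :
    (Wt.w ((spl s).symm (p, i)) : F) = Wt.w (p, i) := by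
  have h1 := congrArg Prod.fst ((spl (m := k) s).apply_symm_apply (p, i))
  have h3 := congrArg Prod.snd ((spl (m := k) s).apply_symm_apply (p, i))
  simp only [TW.spl_apply] at h1 h3
  rw [w_prod, w_pi, w_pi, TW.prod_split s, mul_comm]
  exact congrArg₂ (· * ·) (Finset.prod_congr rfl fun r _ => congrArg Wt.w (congrFun h1 r)) (congrArg Wt.w h3)

theorem ad_submatrix (s : S) (A : Matrix (S → Fin k) (S → Fin k) F) :
    (A.submatrix (spl (m := k) s).symm (spl (m := k) s).symm)† =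
      A†.submatrix (spl (m := k) s).symm (spl (m := k) s).symm := by
  ext ⟨p, i⟩ ⟨q, j⟩
  simp only [ad_apply, Matrix.submatrix_apply, w_spl]

/-- splitting a slot preserves the isometries -/
theorem map_rid_orth (h2 : (2 : F) ≠ 0) (s : S) :
    (Orth (S → Fin k) F).map (rid s).toMonoidHom = Orth (({r // r ≠ s} → Fin k) × Fin k) F := by
  ext G
  obtain ⟨g, rfl⟩ := (rid (F := F) (m := k) s).surjective G
  have key : (rid s g : GL (({r // r ≠ s} → Fin k) × Fin k) F) ∈ Orth (({r // r ≠ s} → Fin k) × Fin k) F ↔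
      g ∈ Orth (S → Fin k) F := by
    rw [mem_orth_iff h2, mem_orth_iff h2, TW.rid_val, ad_submatrix, Matrix.submatrix_mul_equiv]
    rw [← Matrix.submatrix_one_equiv (spl (m := k) s).symm]
    exact ⟨fun h => Matrix.ext fun i j => by
      simpa [Matrix.submatrix_apply, -Matrix.submatrix_one_equiv, Matrix.one_apply] using congrFun (congrFun h (spl s i)) (spl s j), fun h => by rw [h]⟩
  exact ⟨fun ⟨g', hg', e⟩ => key.2 ((rid s).injective e ▸ hg'), fun h => ⟨g, key.1 h, rfl⟩⟩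

theorem rid_orth_iff (h2 : (2 : F) ≠ 0) (s : S) {g : GL (S → Fin k) F} :
    rid s g ∈ Orth (({r // r ≠ s} → Fin k) × Fin k) F ↔ g ∈ Orth (S → Fin k) F := by
  rw [← map_rid_orth h2 s]
  exact Subgroup.mem_map_iff_mem (rid (F := F) (m := k) s).injective

theorem rid_om_iff (h2 : (2 : F) ≠ 0) (s : S) {g : GL (S → Fin k) F} :
    rid s g ∈ Om (({r // r ≠ s} → Fin k) × Fin k) F ↔ g ∈ Om (S → Fin k) F := by
  rw [show Om (({r // r ≠ s} → Fin k) × Fin k) F = (Om (S → Fin k) F).map (rid s).toMonoidHom from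
    (om_map _ (map_rid_orth h2 s)).symm]
  exact Subgroup.mem_map_iff_mem (rid (F := F) (m := k) s).injective

theorem rid_rt' (s : S) (w : GL (Fin k) F) : rid s (rt s w) = inr _ k F w := TW.rid_rt s w

/-- isometries of determinant one of the factor -/
def SO (u : GL (Fin k) F) : Prop := u ∈ Orth (Fin k) F ∧ (u : Matrix (Fin k) (Fin k) F).det = 1

theorem SO.mul {u w : GL (Fin k) F} (h : SO u) (h' : SO w) : SO (u * w) :=
  ⟨mul_mem h.1 h'.1, by rw [Units.val_mul, Matrix.det_mul, h.2, h'.2, one_mul]⟩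

theorem SO.inv {u : GL (Fin k) F} (h : SO u) : SO u⁻¹ := ⟨inv_mem h.1, by
  have := congrArg Matrix.det (u.mul_inv)
  rwa [Matrix.det_mul, h.2, one_mul, Matrix.det_one] at this⟩

theorem so_one : SO (1 : GL (Fin k) F) := ⟨one_mem _, by rw [Units.val_one, Matrix.det_one]⟩

theorem so_of_om {u : GL (Fin k) F} (h2 : (2 : F) ≠ 0) [Finite F] (h : u ∈ Om (Fin k) F) : SO u :=
  ⟨om_le_orth h, det_one h2 h⟩

theorem det_rf [Finite F] {γ : Type} [Fintype γ] [DecidableEq γ] [Wt γ F] {a : γ → F} (ha : a ⬝ʷ a ≠ 0) :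
    (rf a : Matrix γ γ F).det = -1 := by
  rw [← qrefl_eq (by rwa [dq_apply])]
  exact QForm.det_reflectionMatrix (dq γ F) (by rwa [dq_apply])

theorem so_rf_mul [Finite F] {a b : Fin k → F} (ha : a ⬝ʷ a ≠ 0) (hb : b ⬝ʷ b ≠ 0) : SO (rf a * rf b) :=
  ⟨mul_mem (rf_mem a) (rf_mem b), by rw [Units.val_mul, Matrix.det_mul, det_rf ha, det_rf hb, neg_one_mul, neg_neg]⟩

theorem card_fun_even (hh : Hyp k F) (T : Type) [Fintype T] [DecidableEq T] [Nonempty T] :
    Even (Fintype.card (T → Fin k)) := by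
  rw [Fintype.card_fun, Fintype.card_fin]
  exact hh.even.pow_of_ne_zero Fintype.card_ne_zero

theorem nonempty_ne [Nontrivial S] (s : S) : Nonempty {r // r ≠ s} :=
  let ⟨q, hq⟩ := exists_ne s
  ⟨⟨q, hq⟩⟩

/-- special slot isometries lie in the derived group -/
theorem rt_so_om [Finite F] (hh : Hyp k F) [Nontrivial S] (s : S) {u : GL (Fin k) F} (hu : SO u) :
    rt s u ∈ Om (S → Fin k) F := by
  haveI := nonempty_ne (S := S) s
  have := hh.four
  obtain ⟨j₀, hj⟩ := hh.ones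
  rw [← rid_om_iff hh.h2 s, rid_rt']
  rcases inr_class (β := {r // r ≠ s} → Fin k) hh.h2 (card_fun_even hh _) (a₀ := Pi.single j₀ 1)
    (by simpa [bf_single] using Wt.ne j₀) hu.1 with h | h
  · exact h.2
  · exact absurd (hu.2.symm.trans h.1) fun e => hh.h2 (by linear_combination e)

theorem tk_so_om [Finite F] (hh : Hyp k F) [Nontrivial S] {u : S → GL (Fin k) F} (hu : ∀ s, SO (u s)) :
    tk u ∈ Om (S → Fin k) F :=
  Subgroup.mem_comap.1 (Subgroup.pi_mem_of_mulSingle_mem (H := (Om (S → Fin k) F).comap tk) u fun s => by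
    rw [Subgroup.mem_comap, ← TW.rt_eq]
    exact rt_so_om hh s (hu s))

/-- the discriminant of a tensor power of two or more factors is a square -/
theorem isSquare_prod_w (hh : Hyp k F) [Nontrivial S] : IsSquare (∏ x : S → Fin k, (Wt.w x : F)) := by
  obtain ⟨s⟩ := (inferInstance : Nonempty S)
  haveI := nonempty_ne (S := S) s
  rw [← (spl (m := k) s).symm.prod_comp fun x => (Wt.w x : F)]
  simp only [w_spl, w_prod, Fintype.prod_prod_type, Finset.prod_mul_distrib, Finset.prod_const, Finset.card_univ,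
    Fintype.card_fin, ← Finset.mul_prod_erase]
  rw [Finset.prod_pow]
  exact (hh.even.isSquare_pow _).mul ((card_fun_even hh {r // r ≠ s}).isSquare_pow _)

/-- with three slots every slot isometry lies in the derived group -/
theorem rt_orth_om [Finite F] (hh : Hyp k F) (hS : 3 ≤ Fintype.card S) (s : S) {u : GL (Fin k) F}
    (hu : u ∈ Orth (Fin k) F) : rt s u ∈ Om (S → Fin k) F := by
  haveI : Nontrivial {r // r ≠ s} := Fintype.one_lt_card_iff_nontrivial.1 (by
    simp only [Fintype.card_subtype_compl, Fintype.card_subtype_eq]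
    omega)
  obtain ⟨j₀, hj⟩ := hh.ones
  rw [← rid_om_iff hh.h2 s, rid_rt']
  have ha : (Pi.single j₀ (1 : F) : Fin k → F) ⬝ʷ Pi.single j₀ 1 ≠ 0 := by simpa [bf_single] using Wt.ne j₀
  have he := card_fun_even hh {r // r ≠ s}
  rcases inr_class (β := {r // r ≠ s} → Fin k) hh.h2 he ha hu with h | h
  · exact h.2
  · have hm := mul_mem (inr_rf_mem hh.h2 he (isSquare_prod_w hh) ha) h.2
    rwa [← mul_assoc, ← map_mul, rf_mul_self, map_one, one_mul] at hm

/-- similitudes -/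
def Sim {γ : Type} [Fintype γ] [DecidableEq γ] [Wt γ F] (u : GL γ F) : Prop :=
  ∃ c : F, c ≠ 0 ∧ (u : Matrix γ γ F)† * (u : Matrix γ γ F) = c • 1

section Sim

variable {γ : Type} [Fintype γ] [DecidableEq γ] [Wt γ F]

theorem sim_of_orth (h2 : (2 : F) ≠ 0) {u : GL γ F} (hu : u ∈ Orth γ F) : Sim u :=
  ⟨1, one_ne_zero, by rw [ad_mul_self h2 hu, one_smul]⟩

theorem Sim.mul {u v : GL γ F} (hu : Sim u) (hv : Sim v) : Sim (u * v) := by
  obtain ⟨c, hc, e⟩ := hu
  obtain ⟨d, hd, e'⟩ := hv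
  refine ⟨c * d, mul_ne_zero hc hd, ?_⟩
  rw [Units.val_mul, ad_mul, mul_assoc, ← mul_assoc (u : Matrix γ γ F)†, e, smul_mul_assoc, one_mul, mul_smul_comm,
    e', smul_smul]

theorem Sim.inv {u : GL γ F} (hu : Sim u) : Sim u⁻¹ := by
  obtain ⟨c, hc, e⟩ := hu
  refine ⟨c⁻¹, inv_ne_zero hc, ?_⟩
  set v := ((u⁻¹ : GL γ F) : Matrix γ γ F)
  have h1 : (u : Matrix γ γ F) * v = 1 := by rw [← Units.val_mul, mul_inv_cancel, Units.val_one]
  have h3 : v† * (u : Matrix γ γ F)† = 1 := by rw [← ad_mul, h1, ad_one]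
  have := congrArg (fun m => v† * m * v) e
  rw [show v† * ((u : Matrix γ γ F)† * (u : Matrix γ γ F)) * v = (v† * (u : Matrix γ γ F)†) * ((u : Matrix γ γ F) * v) by
    noncomm_ring, h1, h3, mul_one, mul_smul_comm, smul_mul_assoc, mul_one] at this
  rw [this, smul_smul, inv_mul_cancel₀ hc, one_smul]

theorem Sim.conj_orth (h2 : (2 : F) ≠ 0) {u g : GL γ F} (hu : Sim u) (hg : g ∈ Orth γ F) :
    u * g * u⁻¹ ∈ Orth γ F := by
  obtain ⟨c, hc, e⟩ := hu
  rw [mem_orth_iff h2, Units.val_mul, Units.val_mul]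
  set U := (u : Matrix γ γ F)
  set v := ((u⁻¹ : GL γ F) : Matrix γ γ F)
  have h1 : U * v = 1 := by rw [← Units.val_mul, mul_inv_cancel, Units.val_one]
  have h3 : v† * U† = 1 := by rw [← ad_mul, h1, ad_one]
  calc (U * (g : Matrix γ γ F) * v)† * (U * (g : Matrix γ γ F) * v)
      = v† * (g : Matrix γ γ F)† * (U† * U) * (g : Matrix γ γ F) * v := by rw [ad_mul, ad_mul]; noncomm_ring
    _ = c • (v† * v) := by
      rw [e, mul_smul_comm, mul_one, smul_mul_assoc, smul_mul_assoc, mul_assoc v† _ (g : Matrix γ γ F),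
        ad_mul_self h2 hg, mul_one]
    _ = v† * (U† * U) * v := by rw [e, mul_smul_comm, mul_one, smul_mul_assoc]
    _ = (v† * U†) * (U * v) := by noncomm_ring
    _ = 1 := by rw [h1, h3, mul_one]

theorem Sim.conj_om (h2 : (2 : F) ≠ 0) {u g : GL γ F} (hu : Sim u) (hg : g ∈ Om γ F) :
    u * g * u⁻¹ ∈ Om γ F :=
  om_map_le (MulAut.conj u).toMonoidHom (fun _ h => hu.conj_orth h2 h) hg

theorem Sim.conj_rf (h2 : (2 : F) ≠ 0) {u : GL γ F} (hu : Sim u) {a : γ → F} (ha : a ⬝ʷ a ≠ 0) :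
    u * rf a * u⁻¹ = rf (act u a) ∧ act u a ⬝ʷ act u a ≠ 0 := by
  obtain ⟨c, hc, e⟩ := hu
  have hv : act u a ⬝ʷ act u a = c * (a ⬝ʷ a) := by
    rw [act_apply, bf_mulVec, Matrix.mulVec_mulVec, e, Matrix.smul_mulVec, Matrix.one_mulVec, bf_smul, smul_eq_mul]
  have hne : act u a ⬝ʷ act u a ≠ 0 := by rw [hv]; exact mul_ne_zero hc ha
  refine ⟨?_, hne⟩
  rw [mul_inv_eq_iff_eq_mul]
  refine gl_ext fun x => ?_
  rw [act_mul, act_mul, act_rf hne, act_rf ha, map_sub, map_smul]
  have h' : act u a ⬝ʷ act u x = c * (a ⬝ʷ x) := by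
    rw [act_apply, act_apply, bf_mulVec, Matrix.mulVec_mulVec, e, Matrix.smul_mulVec, Matrix.one_mulVec, bf_smul,
      smul_eq_mul]
  rw [hv, h', show (c * (a ⬝ʷ a))⁻¹ * (2 * (c * (a ⬝ʷ x))) = (a ⬝ʷ a)⁻¹ * (2 * (a ⬝ʷ x)) by field_simp]

theorem Sim.conj_so (h2 : (2 : F) ≠ 0) {u g : GL (Fin k) F} (hu : Sim u) (hg : SO g) : SO (u * g * u⁻¹) :=
  ⟨hu.conj_orth h2 hg.1, by
    rw [Units.val_mul, Units.val_mul, Matrix.det_mul, Matrix.det_mul, mul_right_comm, ← Matrix.det_mul,
      ← Units.val_mul, mul_inv_cancel, Units.val_one, Matrix.det_one, one_mul, hg.2]⟩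

end Sim

/-- normal form in the wreath product -/
theorem norm_form (hh : Hyp k F) {g : GL (S → Fin k) F} (hg : g ∈ Wr S k F) (hO : g ∈ Orth (S → Fin k) F) :
    ∃ (σ : Equiv.Perm S) (u : S → GL (Fin k) F), (∀ s, Sim (u s)) ∧ g = pg σ * tk u := by
  have h2 := hh.h2
  obtain ⟨σ, v, rfl⟩ := TW.exists_of_mem_wr hg
  have hv : tk v ∈ Orth (S → Fin k) F := (Subgroup.mul_mem_cancel_left _ (pg_orth σ)).1 hO
  have h1 : pm (fun s => ((v s : GL (Fin k) F) : Matrix (Fin k) (Fin k) F)† * (v s : Matrix (Fin k) (Fin k) F)) = 1 := by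
    have e := ad_mul_self h2 hv
    rw [TW.tk_val, pm_ad, ← map_mul] at e
    exact e
  refine ⟨σ, v, fun s => ?_, rfl⟩
  obtain ⟨c, hc⟩ := pm_eq_one h1 s
  refine ⟨c, fun h0 => ?_, hc⟩
  haveI := hh.ne
  have := congrArg Matrix.det hc
  rw [Matrix.det_mul, det_ad, h0, zero_smul, Matrix.det_zero] at this
  exact mul_ne_zero ((Matrix.isUnit_iff_isUnit_det _).1 (v s).isUnit).ne_zero
    ((Matrix.isUnit_iff_isUnit_det _).1 (v s).isUnit).ne_zero this

/-- a matrix commuting with all pure derived elements is scalar -/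
theorem tk_commutant [Finite F] (hh : Hyp k F) {M : Matrix (S → Fin k) (S → Fin k) F}
    (h : ∀ u : S → GL (Fin k) F, (∀ s, u s ∈ Om (Fin k) F) → Commute M (tk u : Matrix (S → Fin k) (S → Fin k) F)) :
    ∃ c : F, M = c • 1 := by
  classical
  have h2 := hh.h2
  have hs : ∀ (s : S) (w : GL (Fin k) F), w ∈ Om (Fin k) F → Commute M (rt s w : Matrix (S → Fin k) (S → Fin k) F) :=
    fun s w hw => by
      rw [TW.rt_eq]
      exact h _ fun r => by
        rcases eq_or_ne r s with rfl | hr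
        · rwa [Pi.mulSingle_eq_same]
        · rw [Pi.mulSingle_eq_of_ne hr]; exact one_mem _
  have key : ∀ s, ∀ p q : {r // r ≠ s} → Fin k, ∃ c : F, ∀ i j, M ((spl s).symm (p, i)) ((spl s).symm (q, j)) =
      if i = j then c else 0 := by
    intro s p q
    obtain ⟨c, hc⟩ := hh.big.comm
      (Matrix.of fun i j => M ((spl s).symm (p, i)) ((spl s).symm (q, j))) fun w hw => by
        have e := congrArg (fun A => A.submatrix (spl (m := k) s).symm (spl (m := k) s).symm) (hs s w hw).eq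
        simp only [← Matrix.submatrix_mul_equiv _ _ _ (spl (m := k) s).symm] at e
        rw [← TW.rid_val, rid_rt', inr_val] at e
        refine Matrix.ext fun i j => ?_
        have e' := congrFun (congrFun e (p, i)) (q, j)
        simpa [Matrix.mul_apply, Fintype.sum_prod_type, Matrix.one_apply] using e'
    exact ⟨c, fun i j => by simpa [Matrix.one_apply] using congrFun (congrFun hc i) j⟩
  have hoff : ∀ x y, x ≠ y → M x y = 0 := fun x y hxy => by
    obtain ⟨s, hs'⟩ := Function.ne_iff.1 hxy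
    obtain ⟨c, hc⟩ := key s (spl s x).1 (spl s y).1
    have := hc (x s) (y s)
    rw [if_neg hs'] at this
    convert this using 2 <;> exact ((spl s).symm_apply_apply _).symm
  rcases Nat.eq_zero_or_pos k with hk0 | hkpos
  · have := hh.four; omega
  have hdiag : ∀ (x : S → Fin k) (s : S) (i : Fin k), M (Function.update x s i) (Function.update x s i) = M x x := by
    intro x s i
    obtain ⟨c, hc⟩ := key s (fun r => x r.1) (fun r => x r.1)
    have h1 := hc (x s) (x s)
    have h2' := hc i i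
    rw [if_pos rfl] at h1 h2'
    have e1 : (spl s).symm ((fun r : {r // r ≠ s} => x r.1), x s) = x := (spl s).symm_apply_apply x
    have e2 : (spl s).symm ((fun r : {r // r ≠ s} => x r.1), i) = Function.update x s i := by
      rw [Equiv.symm_apply_eq, TW.spl_apply]
      refine Prod.ext (funext fun r => ?_) ?_
      · simp [r.2]
      · simp
    rw [e1] at h1
    rw [e2] at h2'
    rw [h1, h2']
  let x₀ : S → Fin k := fun _ => ⟨0, hkpos⟩
  have hconst : ∀ (T : Finset S) (x : S → Fin k), (∀ s, s ∉ T → x s = x₀ s) → M x x = M x₀ x₀ := by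
    intro T
    induction T using Finset.induction with
    | empty => intro x hx; rw [show x = x₀ from funext fun s => hx s (Finset.notMem_empty s)]
    | insert s T hs ih =>
      intro x hx
      rw [← hdiag x s (x₀ s)]
      refine ih _ fun r hr => ?_
      rcases eq_or_ne r s with rfl | hrs
      · simp
      · rw [Function.update_of_ne hrs]
        exact hx r (by simp [hr, hrs])
  refine ⟨M x₀ x₀, Matrix.ext fun x y => ?_⟩
  rcases eq_or_ne x y with rfl | hxy
  · simp [hconst Finset.univ x (by simp)]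
  · simp [hoff x y hxy, hxy]

/-- the overgroups of the tensor structure -/
structure Ov (M : Subgroup (GL (S → Fin k) F)) : Prop where
  le : M ≤ Orth (S → Fin k) F
  wr : Wr S k F ⊓ Om (S → Fin k) F ≤ M

theorem Ov.rt_mem (h2 : (2 : F) ≠ 0) {M : Subgroup (GL (S → Fin k) F)} (h : Ov M) (s : S) {w : GL (Fin k) F}
    (hw : w ∈ Om (Fin k) F) : rt s w ∈ M :=
  h.wr ⟨TW.rt_mem s w, rt_om h2 s hw⟩

/-- the dichotomy -/
def Max (S : Type) [Fintype S] [DecidableEq S] (k : ℕ) (F : Type*) [Field F] [Wt (Fin k) F] : Prop :=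
  ∀ M : Subgroup (GL (S → Fin k) F), Ov M → M ≤ Wr S k F ∨ Om (S → Fin k) F ≤ M

theorem big_pow [Finite F] (hh : Hyp k F) [Nonempty S] : Big (S → Fin k) F := by
  have hc : ∀ M : Matrix (S → Fin k) (S → Fin k) F, (∀ g ∈ Om (S → Fin k) F, Commute M (g : Matrix _ _ F)) →
      ∃ c : F, M = c • 1 := fun M h => tk_commutant hh fun u hu => h _ (tk_om hh.h2 hu)
  by_cases h : Fintype.card S = 1 ∧ k = 4
  · obtain ⟨h1, h4⟩ := h
    haveI : Unique S := (Fintype.equivFinOfCardEq h1).unique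
    refine big_of_minus_four hh.h2 (by rw [Fintype.card_fun, Fintype.card_fin, h1, h4]; rfl) ?_ hc
    rw [← (Equiv.funUnique S (Fin k)).symm.prod_comp fun x => (Wt.w x : F)]
    simpa [w_pi, Equiv.funUnique] using hh.minus h4
  · refine big_of_five hh.h2 ?_ hc
    rw [Fintype.card_fun, Fintype.card_fin]
    have := hh.four
    have hS := Fintype.card_pos (α := S)
    by_cases h4 : k = 4
    · have hS2 : 2 ≤ Fintype.card S := by omega
      exact le_trans (by rw [h4]; norm_num) (Nat.pow_le_pow_right (by omega) hS2)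
    · have := hh.six h4
      exact le_trans (by omega) (Nat.le_self_pow Fintype.card_ne_zero k)

/-- non-scalar groups normalised by the wreath product contain a slot -/
theorem exists_slot [Finite F] (hh : Hyp k F) (hmax : Max S k F) {G : Subgroup (GL (S → Fin k) F)}
    (hG : G ≤ Orth (S → Fin k) F) (hnorm : ∀ a ∈ Wr S k F ⊓ Om (S → Fin k) F, ∀ g ∈ G, a * g * a⁻¹ ∈ G)
    {g : GL (S → Fin k) F} (hg : g ∈ G) (hsc : ∀ c : F, (g : Matrix (S → Fin k) (S → Fin k) F) ≠ c • 1) :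
    ∃ r, ∀ w ∈ Om (Fin k) F, rt r w ∈ G := by
  have h2 := hh.h2
  have hS : Nonempty S := by
    by_contra hS
    haveI := not_nonempty_iff.1 hS
    exact hsc _ (Matrix.ext fun x y => by
      obtain rfl := Subsingleton.elim x y
      obtain rfl := Subsingleton.elim x (fun s => isEmptyElim s)
      simp only [Matrix.smul_apply, Matrix.one_apply_eq, smul_eq_mul, mul_one]
      rfl)
  haveI := hh.ne
  let M' : Subgroup (GL (S → Fin k) F) := Orth (S → Fin k) F ⊓ Subgroup.normalizer (G : Set (GL (S → Fin k) F))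
  have hOv : Ov M' := ⟨inf_le_left, fun a ha => ⟨om_le_orth ha.2, Subgroup.mem_normalizer_iff_map_conj_eq.2 (by
    refine le_antisymm ?_ fun x hx => ?_
    · rintro _ ⟨x, hx, rfl⟩
      exact hnorm a ha x hx
    · exact ⟨a⁻¹ * x * a, by simpa using hnorm _ (inv_mem ha) x hx, by simp [mul_assoc]⟩)⟩⟩
  have hgM : g ∈ M' := ⟨hG hg, Subgroup.le_normalizer hg⟩
  rcases hmax M' hOv with hle | hom
  · obtain ⟨σ, u, hu, hguv⟩ := norm_form hh (hle hgM) (hG hg)
    obtain ⟨r₀, w₀, hw₀, hne⟩ : ∃ (r₀ : S) (w₀ : GL (Fin k) F), w₀ ∈ Om (Fin k) F ∧ ∀ c : F,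
        ((g * rt r₀ w₀ * g⁻¹ * (rt r₀ w₀)⁻¹ : GL (S → Fin k) F) : Matrix (S → Fin k) (S → Fin k) F) ≠ c • 1 := by
      by_contra hc
      push Not at hc
      obtain ⟨c, hcc⟩ := tk_commutant hh (M := (g : Matrix (S → Fin k) (S → Fin k) F)) fun h hh1 =>
        congrArg Units.val (Subgroup.mem_centralizer_singleton_iff.1 (Subgroup.mem_comap.1
          (Subgroup.pi_mem_of_mulSingle_mem (H := (Subgroup.centralizer {g}).comap tk) h fun s => by
            rw [Subgroup.mem_comap, ← TW.rt_eq, Subgroup.mem_centralizer_singleton_iff]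
            exact (comm_of_scalar_comm hh.big ((rt s).comp (Om (Fin k) F).subtype) (fun a => hc s a a.2)
              ⟨h s, hh1 s⟩).eq.symm))).symm
      exact hsc c hcc
    set h : S → GL (Fin k) F := Pi.mulSingle r₀ w₀ with hh0
    have hh1 : ∀ s, h s ∈ Om (Fin k) F := fun s => by
      rcases eq_or_ne s r₀ with rfl | hs
      · rwa [hh0, Pi.mulSingle_eq_same]
      · rw [hh0, Pi.mulSingle_eq_of_ne hs]; exact one_mem _
    rw [TW.rt_eq, ← hh0] at hne
    have hconj : g * tk h * g⁻¹ = tk (fun s => u (σ.symm s) * h (σ.symm s) * (u (σ.symm s))⁻¹) := by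
      rw [hguv, _root_.mul_inv_rev, ← mul_assoc, mul_assoc (pg σ), mul_assoc (pg σ), ← map_inv, ← map_mul, ← map_mul,
        TW.pg_conj]
      rfl
    set v : S → GL (Fin k) F := fun s => u (σ.symm s) * h (σ.symm s) * (u (σ.symm s))⁻¹ * (h s)⁻¹ with hv
    have hvO : ∀ s, v s ∈ Om (Fin k) F := fun s => mul_mem ((hu _).conj_om h2 (hh1 _)) (inv_mem (hh1 s))
    have hcomm : g * tk h * g⁻¹ * (tk h)⁻¹ = tk v := by
      rw [hconj, ← map_inv, ← map_mul]
      rfl
    have hvG : tk v ∈ G := by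
      rw [← hcomm, mul_assoc, mul_assoc, ← mul_assoc (tk h)]
      exact mul_mem hg (hnorm _ ⟨TW.tk_mem _, tk_om h2 hh1⟩ _ (inv_mem hg))
    obtain ⟨r, hr⟩ : ∃ r, ∀ c : F, (v r : Matrix (Fin k) (Fin k) F) ≠ c • 1 := by
      by_contra hc
      push Not at hc
      choose c hc using hc
      refine hne (∏ s, c s) ?_
      rw [hcomm, TW.tk_val, show (fun s => (v s : Matrix (Fin k) (Fin k) F)) = fun s => c s • 1 from funext hc,
        TW.pm_smul, ← Pi.one_def, map_one]
    obtain ⟨w, hw, hwne⟩ : ∃ w ∈ Om (Fin k) F, ∀ c : F,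
        ((v r * w * (v r)⁻¹ * w⁻¹ : GL (Fin k) F) : Matrix (Fin k) (Fin k) F) ≠ c • 1 := exists_comm_ne_smul hh.big hr
    have hx : rt r (v r * w * (v r)⁻¹ * w⁻¹) ∈ G := by
      have e : rt r (v r * w * (v r)⁻¹ * w⁻¹) = tk v * (rt r w * (tk v)⁻¹ * (rt r w)⁻¹) := by
        rw [TW.rt_eq, TW.rt_eq, ← map_inv, ← map_inv, ← map_mul, ← map_mul, ← map_mul]
        refine congrArg tk (funext fun s => ?_)
        rcases eq_or_ne s r with rfl | hs
        · simp [mul_assoc]
        · simp [hs]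
      rw [e]
      exact mul_mem hvG (hnorm _ ⟨TW.rt_mem r w, rt_om h2 r hw⟩ _ (inv_mem hvG))
    exact ⟨r, fun y hy => hh.big.norm (G.comap (rt r))
      (fun a ha x hx _ => by
        rw [Subgroup.mem_comap, map_mul, map_mul, map_inv]
        exact hnorm _ ⟨TW.rt_mem r a, rt_om h2 r ha⟩ _ hx) _ hx
      (mul_mem (mul_mem (mul_mem (hvO r) hw) (inv_mem (hvO r))) (inv_mem hw)) hwne hy⟩
  · have hb : Big (S → Fin k) F := big_pow hh
    obtain ⟨w, hw, hwne⟩ := exists_comm_ne_smul hb hsc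
    have hnormO : ∀ a ∈ Om (S → Fin k) F, ∀ x ∈ G, a * x * a⁻¹ ∈ G := fun a ha x hx => by
      have := Subgroup.mem_normalizer_iff_map_conj_eq.1 (hom ha).2
      rw [← this]
      exact ⟨x, hx, rfl⟩
    have hmem : g * w * g⁻¹ * w⁻¹ ∈ G := by
      rw [mul_assoc, mul_assoc, ← mul_assoc w]
      exact mul_mem hg (hnormO w hw _ (inv_mem hg))
    obtain ⟨r⟩ := hS
    exact ⟨r, fun y hy => hb.norm G (fun a ha x hx _ => hnormO a ha x hx) _
      hmem (mul_mem (conj_mem_om (hG hg) hw) (inv_mem hw)) hwne (rt_om h2 r hy)⟩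

end Cfsg.Agent.MaxCl.TEv
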