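/-
Groups of isometries of a product with a dot product factor: the context of the induction, operators that are pure
on a summand, intertwiners, square classes and ranks of conjugate projections.
-/
import Cfsg.Agent.Lib.MaxCl.TOrthSlot

set_option autoImplicit false
set_option linter.unusedSectionVars false

namespace Cfsg.Agent.MaxCl.TOrth

open Matrix
open TW (tk pm pg rt rid spl sl Wr)
open scoped MatrixGroups Kronecker

variable {F : Type*} [Field F] {k : ℕ}

section Factor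

variable {β : Type} [Fintype β] [DecidableEq β]

/-- an operator of the right factor -/
abbrev rgt (β : Type) [Fintype β] [DecidableEq β] {k : ℕ} {F : Type*} [Field F] (C : Matrix (Fin k) (Fin k) F) :
    Matrix (β × Fin k) (β × Fin k) F :=
  (1 : Matrix β β F) ⊗ₖ C

theorem rgt_mul (C D : Matrix (Fin k) (Fin k) F) : rgt β C * rgt β D = rgt β (C * D) := by
  rw [rgt, rgt, ← Matrix.mul_kronecker_mul, one_mul]

theorem rgt_add (C D : Matrix (Fin k) (Fin k) F) : rgt β (C + D) = rgt β C + rgt β D := Matrix.kronecker_add _ _ _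

theorem rgt_smul (c : F) (C : Matrix (Fin k) (Fin k) F) : rgt β (c • C) = c • rgt β C := Matrix.kronecker_smul _ _ _

theorem rgt_one : rgt β (1 : Matrix (Fin k) (Fin k) F) = 1 := Matrix.one_kronecker_one

theorem rgt_zero : rgt β (0 : Matrix (Fin k) (Fin k) F) = 0 := Matrix.kronecker_zero _

theorem rgt_sub (C D : Matrix (Fin k) (Fin k) F) : rgt β (C - D) = rgt β C - rgt β D := by
  rw [eq_sub_iff_add_eq, ← rgt_add, sub_add_cancel]

theorem rgt_transpose (C : Matrix (Fin k) (Fin k) F) : (rgt β C)ᵀ = rgt β Cᵀ := by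
  rw [rgt, rgt, ← Matrix.kroneckerMap_transpose, Matrix.transpose_one]

theorem rgt_inj [Nonempty β] {C D : Matrix (Fin k) (Fin k) F} (h : rgt β C = rgt β D) : C = D := by
  obtain ⟨p⟩ := ‹Nonempty β›
  ext i j
  simpa [rgt] using congrFun (congrFun h (p, i)) (p, j)

theorem inr_eq_rgt (u : GL (Fin k) F) :
    (inr β k F u : Matrix (β × Fin k) (β × Fin k) F) = rgt β (u : Matrix (Fin k) (Fin k) F) := rfl

/-- a block -/
def blk (g : Matrix (β × Fin k) (β × Fin k) F) (p q : β) : Matrix (Fin k) (Fin k) F :=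
  Matrix.of fun i j => g (p, i) (q, j)

theorem blk_ext {g h : Matrix (β × Fin k) (β × Fin k) F} (H : ∀ p q, blk g p q = blk h p q) : g = h :=
  Matrix.ext fun x y => congrFun (congrFun (H x.1 y.1) x.2) y.2

theorem blk_mul_rgt (g : Matrix (β × Fin k) (β × Fin k) F) (C : Matrix (Fin k) (Fin k) F) (p q : β) :
    blk (g * rgt β C) p q = blk g p q * C := by
  ext i j
  simp [blk, rgt, Matrix.mul_apply, Fintype.sum_prod_type, Matrix.one_apply]

theorem blk_rgt_mul (g : Matrix (β × Fin k) (β × Fin k) F) (C : Matrix (Fin k) (Fin k) F) (p q : β) :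
    blk (rgt β C * g) p q = C * blk g p q := by
  ext i j
  simp [blk, rgt, Matrix.mul_apply, Fintype.sum_prod_type, Matrix.one_apply]

theorem blk_kronecker (A : Matrix β β F) (C : Matrix (Fin k) (Fin k) F) (p q : β) :
    blk (A ⊗ₖ C) p q = A p q • C := rfl

/-- the dot product of vectors with images in one line -/
theorem class_of_conj (hh : Hyp k F) (hβ : Odd (Fintype.card β)) {g : GL (β × Fin k) F}
    (hg : g ∈ Orth (β × Fin k) F) {a c : Fin k → F} (ha : a ⬝ᵥ a ≠ 0) (hc : c ⬝ᵥ c ≠ 0)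
    (h : (g : Matrix (β × Fin k) (β × Fin k) F) * rgt β (pj a) =
      rgt β (pj c) * (g : Matrix (β × Fin k) (β × Fin k) F)) :
    IsSquare ((a ⬝ᵥ a) * (c ⬝ᵥ c)) := by
  have h2 := hh.h2
  have hex : ∀ p q, ∃ lam : F, blk (g : Matrix (β × Fin k) (β × Fin k) F) p q *ᵥ a = lam • c := fun p q => by
    have e := congrArg (fun m => blk m p q *ᵥ a) h
    simp only [blk_mul_rgt, blk_rgt_mul, ← Matrix.mulVec_mulVec, pj_self ha] at e
    rw [pj_mulVec] at e
    exact ⟨_, e⟩
  choose lam hlam using hex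
  have key : ∀ q q', (∑ p, lam p q * lam p q') * (c ⬝ᵥ c) = if q = q' then a ⬝ᵥ a else 0 := by
    intro q q'
    have e : TP.pv (Pi.single q (1 : F)) a ⬝ᵥ TP.pv (Pi.single q' (1 : F)) a = if q = q' then a ⬝ᵥ a else 0 := by
      simp only [dotProduct, TP.pv_apply, Fintype.sum_prod_type]
      rcases eq_or_ne q q' with rfl | hq
      · simp [Pi.single_apply]
      · rw [if_neg hq]
        exact Finset.sum_eq_zero fun x _ => Finset.sum_eq_zero fun y _ => by
          rcases eq_or_ne x q with rfl | hx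
          · simp [hq]
          · simp [hx]
    have himg : ∀ q, act g (TP.pv (Pi.single q (1 : F)) a) = fun x => lam x.1 q * c x.2 := fun q => by
      funext ⟨p, i⟩
      have e := congrFun (hlam p q) i
      simp only [blk, Matrix.mulVec, dotProduct, Matrix.of_apply, Pi.smul_apply, smul_eq_mul] at e
      rw [← e, act_apply]
      simp [Matrix.mulVec, dotProduct, TP.pv_apply, Fintype.sum_prod_type, Pi.single_apply]
    rw [← e, ← dot_act h2 hg, himg, himg]
    simp only [dotProduct, Fintype.sum_prod_type, Finset.sum_mul_sum]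
    exact Finset.sum_congr rfl fun _ _ => Finset.sum_congr rfl fun _ _ => by ring
  set L : Matrix β β F := Matrix.of lam with hL
  have hm : (c ⬝ᵥ c) • (Lᵀ * L) = (a ⬝ᵥ a) • 1 := by
    ext q q'
    simp only [Matrix.smul_apply, Matrix.mul_apply, Matrix.transpose_apply, hL, Matrix.of_apply, smul_eq_mul,
      Matrix.one_apply, mul_ite, mul_one, mul_zero]
    rw [mul_comm, key q q']
  have hd := congrArg Matrix.det hm
  rw [Matrix.det_smul, Matrix.det_smul, Matrix.det_mul, Matrix.det_transpose, Matrix.det_one, mul_one] at hd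
  obtain ⟨r, hr⟩ := hβ
  rw [hr] at hd
  have hca : ((a ⬝ᵥ a) * (c ⬝ᵥ c)) ^ (2 * r + 1) = ((c ⬝ᵥ c) ^ (2 * r + 1) * L.det) ^ 2 := by
    rw [mul_pow, ← hd]; ring
  have hne : ((a ⬝ᵥ a) * (c ⬝ᵥ c)) ^ r ≠ 0 := pow_ne_zero _ (mul_ne_zero ha hc)
  refine ⟨(c ⬝ᵥ c) ^ (2 * r + 1) * L.det / ((a ⬝ᵥ a) * (c ⬝ᵥ c)) ^ r, ?_⟩
  rw [div_mul_div_comm, eq_div_iff (mul_ne_zero hne hne)]
  calc (a ⬝ᵥ a) * (c ⬝ᵥ c) * (((a ⬝ᵥ a) * (c ⬝ᵥ c)) ^ r * ((a ⬝ᵥ a) * (c ⬝ᵥ c)) ^ r)
      = ((a ⬝ᵥ a) * (c ⬝ᵥ c)) ^ (2 * r + 1) := by ring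
    _ = _ := by rw [hca]; ring

/-- ranks of conjugate summands -/
theorem rk_of_conj [Nonempty β] {g : GL (β × Fin k) F} {π σ : Matrix (Fin k) (Fin k) F}
    (h : (g : Matrix (β × Fin k) (β × Fin k) F) * rgt β π =
      rgt β σ * (g : Matrix (β × Fin k) (β × Fin k) F)) : rk π = rk σ := by
  have hr : ∀ τ : Matrix (Fin k) (Fin k) F, rk (rgt β τ) = Fintype.card β * rk τ := by
    intro τ
    let f : (β → LinearMap.range τ.mulVecLin) →ₗ[F] (β × Fin k → F) :=
      { toFun := fun v x => (v x.1 : Fin k → F) x.2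
        map_add' := fun v w => funext fun x => rfl
        map_smul' := fun c v => funext fun x => rfl }
    have hf : Function.Injective f := fun v w e =>
      funext fun p => Subtype.ext (funext fun i => congrFun e (p, i))
    have hrange : LinearMap.range (rgt β τ).mulVecLin = LinearMap.range f := by
      apply le_antisymm
      · rintro _ ⟨z, rfl⟩
        refine ⟨fun p => ⟨τ *ᵥ fun j => z (p, j), fun j => z (p, j), rfl⟩, funext fun x => ?_⟩
        obtain ⟨p, i⟩ := x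
        simp [f, rgt, Matrix.mulVec, dotProduct, Fintype.sum_prod_type, Matrix.one_apply]
      · rintro _ ⟨v, rfl⟩
        choose w hw using fun p => (v p).2
        refine ⟨fun x => w x.1 x.2, funext fun x => ?_⟩
        obtain ⟨p, i⟩ := x
        show _ = (v p : Fin k → F) i
        rw [← hw p]
        simp [rgt, Matrix.mulVec, dotProduct, Fintype.sum_prod_type, Matrix.one_apply]
    rw [rk, rk, hrange, LinearMap.finrank_range_of_inj hf, Module.finrank_pi_fintype, Finset.sum_const,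
      Finset.card_univ, smul_eq_mul]
  have e : rk (rgt β π) = rk (rgt β σ) := by
    have h' : rgt β σ = (g : Matrix (β × Fin k) (β × Fin k) F) * rgt β π *
        ((g⁻¹ : GL (β × Fin k) F) : Matrix (β × Fin k) (β × Fin k) F) := by
      rw [h, mul_assoc, ← Units.val_mul, mul_inv_cancel, Units.val_one, mul_one]
    have hunit : ∀ u : GL (β × Fin k) F, IsUnit (u : Matrix (β × Fin k) (β × Fin k) F).det := fun u =>
      (Matrix.isUnit_iff_isUnit_det _).1 u.isUnit
    show Matrix.rank (rgt β π) = Matrix.rank (rgt β σ)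
    rw [h', Matrix.rank_mul_eq_left_of_isUnit_det _ _ (hunit _), Matrix.rank_mul_eq_right_of_isUnit_det _ _ (hunit _)]
  rw [hr, hr] at e
  exact Nat.eq_of_mul_eq_mul_left Fintype.card_pos e

/-- an operator intertwining all of `End W` is pure on `B ⊗ W` -/
theorem pure_part {g : Matrix (β × Fin k) (β × Fin k) F} {π : Matrix (Fin k) (Fin k) F} (hπ : π * π = π)
    (hc : Commute g (rgt β π))
    (h : ∀ Y, ∃ Z, g * rgt β (π * Y * π) = rgt β Z * g) :
    ∃ (A : Matrix β β F) (C : Matrix (Fin k) (Fin k) F), g * rgt β π = A ⊗ₖ C ∧ π * C = C ∧ C * π = C := by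
  set G := fun p q => blk g p q * π with hG
  have hblk : ∀ p q, blk (g * rgt β π) p q = G p q := fun p q => blk_mul_rgt g π p q
  have hπG : ∀ p q, π * G p q = G p q := fun p q => by
    rw [← hblk, ← blk_rgt_mul, ← mul_assoc, ← hc.eq, mul_assoc, rgt_mul, hπ]
  have hGπ : ∀ p q, G p q * π = G p q := fun p q => by simp only [hG, mul_assoc, hπ]
  have hZ : ∀ Y, ∃ Z, ∀ p q, G p q * (π * Y * π) = Z * G p q := fun Y => by
    obtain ⟨Z, hZ⟩ := h Y
    refine ⟨Z, fun p q => ?_⟩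
    have e := congrArg (fun m => blk m p q * π) hZ
    simp only [blk_mul_rgt, blk_rgt_mul] at e
    simp only [hG]
    rw [← mul_assoc Z, ← e]
    simp only [mul_assoc]
    rw [← mul_assoc π π, hπ]
  by_cases hall : ∀ p q, G p q = 0
  · exact ⟨0, 0, blk_ext fun p q => by rw [hblk, hall, blk_kronecker, smul_zero], mul_zero _, zero_mul _⟩
  push Not at hall
  obtain ⟨p₀, q₀, hK⟩ := hall
  set K := G p₀ q₀ with hKdef
  -- K is injective on the image of π
  have hinj : ∀ z, π *ᵥ z = z → K *ᵥ z = 0 → z = 0 := by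
    intro z hz hKz
    by_contra hz0
    obtain ⟨i, hi⟩ := Function.ne_iff.1 hz0
    refine hK (Matrix.ext_iff_mulVec.2 fun x => ?_)
    obtain ⟨Z, hZ⟩ := hZ (vecMulVec x (Pi.single i (z i)⁻¹))
    have e := congrArg (· *ᵥ z) (hZ p₀ q₀)
    simp only [← Matrix.mulVec_mulVec, hz, Matrix.vecMulVec_mulVec, op_smul_eq_smul] at e
    rw [single_dotProduct, inv_mul_cancel₀ hi, one_smul, ← hKdef, hKz, Matrix.mulVec_zero] at e
    rw [Matrix.zero_mulVec, ← show K * π = K from hGπ p₀ q₀, ← Matrix.mulVec_mulVec]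
    exact e
  have hLinj : Function.Injective (K + (1 - π)).mulVec := by
    intro v w hvw
    rw [← sub_eq_zero]
    have e : (K + (1 - π)) *ᵥ (v - w) = 0 := by rw [Matrix.mulVec_sub, sub_eq_zero]; exact hvw
    set d := v - w
    have e1 := congrArg (π *ᵥ ·) e
    simp only [Matrix.mulVec_mulVec, mul_add, mul_sub, mul_one, hπ, sub_self, add_zero, Matrix.mulVec_zero] at e1
    rw [show π * K = K from hπG p₀ q₀] at e1
    have hπd : π *ᵥ d = 0 := hinj _ (by rw [Matrix.mulVec_mulVec, hπ]) (by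
      rw [Matrix.mulVec_mulVec, show K * π = K from hGπ p₀ q₀, e1])
    rw [Matrix.add_mulVec, Matrix.sub_mulVec, Matrix.one_mulVec, e1, hπd, zero_add, sub_zero] at e
    exact e
  have hKne := hK
  obtain ⟨z₀, hz₀, hz₀0⟩ : ∃ z, π *ᵥ z = z ∧ z ≠ 0 := by
    by_contra hc'
    push Not at hc'
    refine hKne (Matrix.ext_iff_mulVec.2 fun x => ?_)
    rw [← show K * π = K from hGπ p₀ q₀, ← Matrix.mulVec_mulVec,
      hc' _ (show π *ᵥ (π *ᵥ x) = π *ᵥ x by rw [Matrix.mulVec_mulVec, hπ]), Matrix.mulVec_zero, Matrix.zero_mulVec]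
  obtain ⟨i, hi⟩ := Function.ne_iff.1 hz₀0
  have hlin : ∀ p q, ∃ c : F, G p q = c • K := fun p q => by
    obtain ⟨w, hw⟩ := (Matrix.mulVec_surjective_iff_isUnit.2 (Matrix.mulVec_injective_iff_isUnit.1 hLinj))
      (G p q *ᵥ z₀)
    set y : Fin k → F := Pi.single i (z₀ i)⁻¹ with hy
    have hyz : y ⬝ᵥ z₀ = 1 := by rw [hy, single_dotProduct, inv_mul_cancel₀ hi]
    have hKw : K *ᵥ (π *ᵥ w) = G p q *ᵥ z₀ := by
      have e1 := congrArg (π *ᵥ ·) hw
      simp only [Matrix.mulVec_mulVec, mul_add, mul_sub, mul_one, hπ, sub_self, add_zero] at e1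
      rw [show π * K = K from hπG p₀ q₀, show π * G p q = G p q from hπG p q] at e1
      rw [Matrix.mulVec_mulVec, show K * π = K from hGπ p₀ q₀, e1]
    refine ⟨y ⬝ᵥ (π *ᵥ w), Matrix.ext_iff_mulVec.2 fun x => ?_⟩
    obtain ⟨Z, hZ⟩ := hZ (vecMulVec x y)
    have e1 := congrArg (· *ᵥ z₀) (hZ p q)
    have e2 := congrArg (· *ᵥ (π *ᵥ w)) (hZ p₀ q₀)
    simp only [← Matrix.mulVec_mulVec, hz₀, Matrix.vecMulVec_mulVec, op_smul_eq_smul, hyz, one_smul] at e1
    simp only [← Matrix.mulVec_mulVec, ← hKdef] at e2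
    rw [hKw, ← e1, Matrix.mulVec_mulVec w π π, hπ, Matrix.vecMulVec_mulVec, op_smul_eq_smul] at e2
    simp only [Matrix.mulVec_smul, Matrix.mulVec_mulVec, hGπ, show K * π = K from hGπ p₀ q₀] at e2
    rw [Matrix.smul_mulVec, e2]
  choose A hA using hlin
  exact ⟨Matrix.of A, K, blk_ext fun p q => by rw [hblk, blk_kronecker, Matrix.of_apply, ← hA], hπG p₀ q₀, hGπ p₀ q₀⟩

/-- the pure part of an isometry -/
theorem orth_part (hh : Hyp k F) (hβ : Odd (Fintype.card β)) {g : GL (β × Fin k) F}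
    (hg : g ∈ Orth (β × Fin k) F) {π : Matrix (Fin k) (Fin k) F} (hπ : Pr π)
    (hc : Commute (g : Matrix (β × Fin k) (β × Fin k) F) (rgt β π))
    (h : ∀ Y, ∃ Z, (g : Matrix (β × Fin k) (β × Fin k) F) * rgt β (π * Y * π) =
      rgt β Z * (g : Matrix (β × Fin k) (β × Fin k) F)) :
    ∃ (A : GL β F) (C : Matrix (Fin k) (Fin k) F), A ∈ Orth β F ∧
      (g : Matrix (β × Fin k) (β × Fin k) F) * rgt β π = (A : Matrix β β F) ⊗ₖ C ∧
      Cᵀ * C = π ∧ C * Cᵀ = π ∧ π * C = C ∧ C * π = C := by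
  have h2 := hh.h2
  haveI : Nonempty β := Fintype.card_pos_iff.1 hβ.pos
  obtain ⟨A, C, hAC, h1, h1'⟩ := pure_part hπ.idem hc h
  by_cases hπ0 : π = 0
  · subst hπ0
    exact ⟨1, 0, one_mem _, by rw [rgt_zero, mul_zero, Matrix.kronecker_zero], by simp, by simp, by simp, by simp⟩
  set G := (g : Matrix (β × Fin k) (β × Fin k) F)
  have e1 : (Aᵀ * A) ⊗ₖ (Cᵀ * C) = rgt β π := by
    have : (G * rgt β π)ᵀ * (G * rgt β π) = rgt β π := by
      rw [Matrix.transpose_mul, rgt_transpose, hπ.symm, mul_assoc, ← mul_assoc Gᵀ, transpose_mul h2 hg, one_mul,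
        rgt_mul, hπ.idem]
    rwa [hAC, ← Matrix.kroneckerMap_transpose, ← Matrix.mul_kronecker_mul] at this
  have e2 : (A * Aᵀ) ⊗ₖ (C * Cᵀ) = rgt β π := by
    have : (G * rgt β π) * (G * rgt β π)ᵀ = rgt β π := by
      rw [Matrix.transpose_mul, rgt_transpose, hπ.symm, mul_assoc, ← mul_assoc (rgt β π), rgt_mul, hπ.idem,
        ← mul_assoc, hc.eq, mul_assoc, mul_transpose h2 hg, mul_one]
    rwa [hAC, ← Matrix.kroneckerMap_transpose, ← Matrix.mul_kronecker_mul] at this
  obtain ⟨a, b, hab⟩ : ∃ a b, π a b ≠ 0 := by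
    by_contra hn
    push Not at hn
    exact hπ0 (Matrix.ext hn)
  have sep : ∀ (X : Matrix β β F) (Y : Matrix (Fin k) (Fin k) F), X ⊗ₖ Y = rgt β π →
      ∃ c : F, c ≠ 0 ∧ X = c • 1 ∧ π = c • Y := by
    intro X Y e
    have ent : ∀ p q i j, X p q * Y i j = (1 : Matrix β β F) p q * π i j := fun p q i j =>
      congrFun (congrFun e (p, i)) (q, j)
    obtain ⟨p⟩ := ‹Nonempty β›
    have h0 := ent p p a b
    rw [Matrix.one_apply_eq, one_mul] at h0
    have hY : Y a b ≠ 0 := fun e' => hab (by rw [← h0, e', mul_zero])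
    refine ⟨X p p, fun e' => hab (by rw [← h0, e', zero_mul]), Matrix.ext fun q r => ?_, Matrix.ext fun i j => ?_⟩
    · have := ent q r a b
      rw [← h0] at this
      rw [Matrix.smul_apply, smul_eq_mul]
      exact mul_right_cancel₀ hY (this.trans (by ring))
    · have := ent p p i j
      rw [Matrix.one_apply_eq, one_mul] at this
      rw [Matrix.smul_apply, smul_eq_mul, this]
  obtain ⟨c, hc0, hA, hC⟩ := sep _ _ e1
  obtain ⟨c', -, hA', hC'⟩ := sep _ _ e2
  obtain ⟨r, hr⟩ := hβ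
  have hd := congrArg Matrix.det hA
  rw [Matrix.det_mul, Matrix.det_transpose, Matrix.det_smul, Matrix.det_one, mul_one, hr] at hd
  set s := A.det / c ^ r
  have hs : s * s = c := by
    simp only [s]
    rw [div_mul_div_comm, hd, div_eq_iff (mul_ne_zero (pow_ne_zero _ hc0) (pow_ne_zero _ hc0))]
    ring
  have hs0 : s ≠ 0 := fun e => hc0 (by rw [← hs, e, mul_zero])
  have hl : (s⁻¹ • A)ᵀ * (s⁻¹ • A) = 1 := by
    rw [Matrix.transpose_smul, smul_mul_smul_comm, hA, smul_smul, ← mul_inv, hs, inv_mul_cancel₀ hc0, one_smul]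
  have hr' : (s⁻¹ • A) * (s⁻¹ • A)ᵀ = 1 := mul_eq_one_comm.1 hl
  have hcc' : c' = c := by
    obtain ⟨p⟩ := ‹Nonempty β›
    rw [Matrix.transpose_smul, smul_mul_smul_comm, hA', smul_smul, ← mul_inv, hs] at hr'
    have := congrFun (congrFun hr' p) p
    rw [Matrix.smul_apply, Matrix.one_apply_eq, smul_eq_mul, mul_one] at this
    field_simp at this
    exact this
  let Au : GL β F := ⟨s⁻¹ • A, (s⁻¹ • A)ᵀ, hr', hl⟩
  refine ⟨Au, s • C, (mem_orth_iff h2).2 hl, ?_, ?_, ?_, by rw [mul_smul_comm, h1], by rw [smul_mul_assoc, h1']⟩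
  · show _ = (s⁻¹ • A) ⊗ₖ (s • C)
    rw [hAC, Matrix.smul_kronecker, Matrix.kronecker_smul, smul_smul, inv_mul_cancel₀ hs0, one_smul]
  · rw [Matrix.transpose_smul, smul_mul_smul_comm, hs, hC]
  · rw [Matrix.transpose_smul, smul_mul_smul_comm, hs, ← hcc', hC']

end Factor

/-! ### the context -/

variable {T : Type} [Fintype T] [DecidableEq T]

/-- the element of a slot acting on one summand -/
def el (r : T) (π : Matrix (Fin k) (Fin k) F) (y : GL (Fin k) F) : Matrix ((T → Fin k) × Fin k) ((T → Fin k) × Fin k) F :=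
  rgt (T → Fin k) (1 - π) + (rt r y : Matrix (T → Fin k) (T → Fin k) F) ⊗ₖ π

/-- the context of the induction -/
structure Ctx (T : Type) [Fintype T] [DecidableEq T] (k : ℕ) (F : Type*) [Field F]
    (M : Subgroup (GL ((T → Fin k) × Fin k) F)) : Prop where
  hyp : Hyp k F
  le : M ≤ Orth ((T → Fin k) × Fin k) F
  wr : ∀ a ∈ Wr T k F, ∀ q : GL (Fin k) F, TP.kr (a, q) ∈ Om ((T → Fin k) × Fin k) F → TP.kr (a, q) ∈ M
  comp : ∀ q ∈ Orth (Fin k) F, ∃ a ∈ Wr T k F, a ∈ Orth (T → Fin k) F ∧ TP.kr (a, q) ∈ M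
  max : Max T k F
  noSeed : ∀ (r : T) (π : Matrix (Fin k) (Fin k) F) (y : GL (Fin k) F), Pr π → π ≠ 0 → π ≠ 1 →
    y ∈ Om (Fin k) F → y ≠ 1 → ∀ g ∈ M, (g : Matrix ((T → Fin k) × Fin k) ((T → Fin k) × Fin k) F) ≠ el r π y

variable {M : Subgroup (GL ((T → Fin k) × Fin k) F)}

theorem Ctx.inl_mem (hM : Ctx T k F M) {a : GL (T → Fin k) F} (ha : a ∈ Wr T k F) (ha' : a ∈ Om (T → Fin k) F) :
    inl _ k F a ∈ M :=
  hM.wr a ha 1 (inl_om hM.hyp.h2 ha')

theorem Ctx.tk_mem (hM : Ctx T k F M) {h : T → GL (Fin k) F} (hh : ∀ r, h r ∈ Om (Fin k) F) :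
    inl _ k F (tk h) ∈ M :=
  hM.inl_mem (TW.tk_mem h) (tk_om hM.hyp.h2 hh)

theorem Ctx.inr_mem (hM : Ctx T k F M) {w : GL (Fin k) F} (hw : w ∈ Om (Fin k) F) : inr _ k F w ∈ M :=
  hM.wr 1 (one_mem _) w (inr_om hM.hyp.h2 hw)

/-- pure on the complement of a summand -/
def InR (M : Subgroup (GL ((T → Fin k) × Fin k) F)) (π : Matrix (Fin k) (Fin k) F)
    (g : GL ((T → Fin k) × Fin k) F) : Prop :=
  g ∈ M ∧ Commute (g : Matrix ((T → Fin k) × Fin k) ((T → Fin k) × Fin k) F) (rgt _ π) ∧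
    ∃ C, (g : Matrix ((T → Fin k) × Fin k) ((T → Fin k) × Fin k) F) * rgt _ (1 - π) = rgt _ C

/-- only pure elements are pure on the complement -/
def Triv (M : Subgroup (GL ((T → Fin k) × Fin k) F)) (π : Matrix (Fin k) (Fin k) F) : Prop :=
  ∀ g, InR M π g → ∃ C, (g : Matrix ((T → Fin k) × Fin k) ((T → Fin k) × Fin k) F) = rgt _ C

theorem triv_zero : Triv M (0 : Matrix (Fin k) (Fin k) F) := by
  rintro g ⟨-, -, C, hC⟩
  rw [sub_zero, rgt_one, mul_one] at hC
  exact ⟨C, hC⟩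

theorem commute_one_sub {g : Matrix ((T → Fin k) × Fin k) ((T → Fin k) × Fin k) F} {π : Matrix (Fin k) (Fin k) F}
    (h : Commute g (rgt _ π)) : Commute g (rgt _ (1 - π)) := by
  rw [rgt_sub, rgt_one]
  exact (Commute.one_right _).sub_right h

/-- an operator commuting with the pure derived elements of the left factor belongs to the right factor -/
theorem rgt_of_commute [Finite F] (hh : Hyp k F) {G : Matrix ((T → Fin k) × Fin k) ((T → Fin k) × Fin k) F}
    (h : ∀ u : T → GL (Fin k) F, (∀ r, u r ∈ Om (Fin k) F) →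
      Commute G (inl _ k F (tk u) : Matrix ((T → Fin k) × Fin k) ((T → Fin k) × Fin k) F)) :
    ∃ C, G = rgt _ C := by
  have hex : ∀ i j, ∃ c : F, (Matrix.of fun p q => G (p, i) (q, j)) = c • (1 : Matrix (T → Fin k) (T → Fin k) F) :=
    fun i j => tk_commutant hh fun u hu => by
      refine Matrix.ext fun p q => ?_
      have e := congrFun (congrFun (h u hu).eq (p, i)) (q, j)
      simpa [inl_val, Matrix.mul_apply, Fintype.sum_prod_type, Matrix.one_apply] using e
  choose c hc using hex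
  refine ⟨Matrix.of c, blk_ext fun p q => Matrix.ext fun i j => ?_⟩
  have := congrFun (congrFun (hc i j) p) q
  simpa [blk, rgt, Matrix.one_apply] using this

end Cfsg.Agent.MaxCl.TOrth
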