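/-
Abelian groups normalised by the pure derived elements: their semisimple elements are centralised, and the pure
derived elements act irreducibly.
-/
import Cfsg.Agent.Lib.MaxCl.TOrthCtx

set_option autoImplicit false
set_option linter.unusedSectionVars false

namespace Cfsg.Agent.MaxCl.TOrth

open Matrix
open TW (tk pm pg rt rid spl sl Wr)
open scoped MatrixGroups Kronecker

variable {F : Type*} [Field F] {k : ℕ}

/-- the coefficients of a polynomial identity modulo a subspace -/
theorem coeff_mem [Finite F] (h5 : 5 ≤ Nat.card F) {W : Type*} [AddCommGroup W] [Module F W] {S : Submodule F W}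
    (a : Fin 5 → W) (h : ∀ c : F, ∑ i : Fin 5, c ^ (i : ℕ) • a i ∈ S) (j : Fin 5) : a j ∈ S := by
  haveI := Fintype.ofFinite F
  classical
  rw [← Submodule.Quotient.mk_eq_zero, ← Module.forall_dual_apply_eq_zero_iff F]
  intro φ
  let P : Polynomial F := ∑ i : Fin 5, Polynomial.C (φ (Submodule.Quotient.mk (a i))) * Polynomial.X ^ (i : ℕ)
  have heval : ∀ c : F, P.eval c = 0 := fun c => by
    have e := congrArg φ ((Submodule.Quotient.mk_eq_zero S).2 (h c))
    rw [← Submodule.mkQ_apply, map_sum, map_sum, map_zero] at e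
    simp only [P, Polynomial.eval_finsetSum, Polynomial.eval_mul, Polynomial.eval_C, Polynomial.eval_pow,
      Polynomial.eval_X]
    rw [← e]
    exact Finset.sum_congr rfl fun i _ => by
      rw [map_smul, map_smul, smul_eq_mul, mul_comm, Submodule.mkQ_apply]
  have hdeg : P.natDegree < Fintype.card F := by
    refine lt_of_le_of_lt (Polynomial.natDegree_sum_le_of_forall_le _ _ (n := 4) fun i _ => ?_)
      (by rw [← Nat.card_eq_fintype_card]; omega)
    exact (Polynomial.natDegree_C_mul_X_pow_le _ _).trans (by omega)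
  have hP : P = 0 := Polynomial.eq_zero_of_natDegree_lt_card_of_eval_eq_zero P (f := id) Function.injective_id
    heval hdeg
  have := congrArg (fun Q => Polynomial.coeff Q (j : ℕ)) hP
  simp only [P, Polynomial.finsetSum_coeff, Polynomial.coeff_C_mul, Polynomial.coeff_X_pow, Polynomial.coeff_zero,
    mul_ite, mul_one, mul_zero] at this
  rwa [Finset.sum_eq_single j (fun b _ hb => if_neg fun e => hb (Fin.ext e.symm)) (by simp), if_pos rfl] at this

/-- a commutative reduced family invariant under a one parameter unipotent group commutes with it -/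
theorem commute_unipotent [Finite F] {R : Type*} [Ring R] [Algebra F R] (h2 : (2 : F) ≠ 0) (S : Submodule F R)
    (hred : ∀ a ∈ S, a * a = 0 → a = 0) (hsq : ∀ a ∈ S, a * a ∈ S) {n m : R} (hn : n * n = (2 : F) • m)
    (hnm : n * m = 0) (hmn : m * n = 0) (hmm : m * m = 0) (hbig : 5 ≤ Nat.card F ∨ m = 0)
    (hinv : ∀ (c : F) a, a ∈ S → (1 + c • n + (c * c) • m) * a * (1 - c • n + (c * c) • m) ∈ S) {l : R}
    (hl : l ∈ S) : Commute n l ∧ Commute m l := by
  have coef : ∀ x ∈ S, n * x - x * n ∈ S ∧ m * x + x * m - n * x * n ∈ S ∧ n * x * m - m * x * n ∈ S ∧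
      m * x * m ∈ S := by
    intro x hx
    let a : Fin 5 → R := ![x, n * x - x * n, m * x + x * m - n * x * n, n * x * m - m * x * n, m * x * m]
    have hexp : ∀ c : F, (1 + c • n + (c * c) • m) * x * (1 - c • n + (c * c) • m) =
        ∑ i : Fin 5, c ^ (i : ℕ) • a i := fun c => by
      simp only [a, Fin.sum_univ_five, Matrix.cons_val_zero, Matrix.cons_val_one, Matrix.cons_val_two,
        Matrix.head_cons, Matrix.tail_cons, Fin.val_zero, Fin.val_one]
      simp only [show ((2 : Fin 5) : ℕ) = 2 from rfl, show ((3 : Fin 5) : ℕ) = 3 from rfl,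
        show ((4 : Fin 5) : ℕ) = 4 from rfl, Matrix.cons_val]
      simp only [add_mul, mul_add, sub_mul, mul_sub, smul_mul_assoc, mul_smul_comm, one_mul, mul_one, smul_smul,
        smul_add, smul_sub, pow_zero, one_smul, pow_one, mul_assoc]
      match_scalars <;> ring
    rcases hbig with h5 | hm0
    · have key : ∀ j, a j ∈ S := coeff_mem h5 a fun c => hexp c ▸ hinv c x hx
      exact ⟨key 1, key 2, key 3, key 4⟩
    · subst hm0
      have h1 := hinv 1 x hx
      have h1' := hinv (-1) x hx
      simp only [one_smul, neg_one_smul, smul_zero, add_zero] at h1 h1'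
      have d1 : (1 + n) * x * (1 - n) = x + (n * x - x * n) - n * x * n := by noncomm_ring
      have d2 : (1 + -n) * x * (1 - -n) = x - (n * x - x * n) - n * x * n := by noncomm_ring
      rw [d1] at h1
      rw [d2] at h1'
      have e1 : n * x - x * n ∈ S := by
        have := Submodule.smul_mem S (2 : F)⁻¹ (sub_mem h1 h1')
        rwa [show x + (n * x - x * n) - n * x * n - (x - (n * x - x * n) - n * x * n) = (2 : F) • (n * x - x * n) by
          module, inv_smul_smul₀ h2] at this
      have e2 : n * x * n ∈ S := by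
        have := sub_mem (add_mem hx e1) h1
        rwa [show x + (n * x - x * n) - (x + (n * x - x * n) - n * x * n) = n * x * n by abel] at this
      refine ⟨e1, ?_, ?_, ?_⟩
      · rw [zero_mul, mul_zero, add_zero, zero_sub]; exact neg_mem e2
      · rw [mul_zero, zero_mul, zero_mul, sub_zero]; exact zero_mem _
      · rw [mul_zero]; exact zero_mem _
  have hA : ∀ x ∈ S, m * x * m = 0 := fun x hx => hred _ (coef x hx).2.2.2 (by
    calc m * x * m * (m * x * m) = m * x * (m * m) * x * m := by noncomm_ring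
      _ = 0 := by rw [hmm]; simp)
  have hB : ∀ x ∈ S, n * x * m = m * x * n := fun x hx => sub_eq_zero.1 (hred _ (coef x hx).2.2.1 (by
    calc (n * x * m - m * x * n) * (n * x * m - m * x * n)
        = n * x * (m * n) * x * m - n * x * (m * m) * x * n - m * x * (n * n) * x * m + m * x * (n * m) * x * n := by
          noncomm_ring
      _ = -((2 : F) • (m * x * m * x * m)) := by
          rw [hmn, hmm, hnm, hn]
          simp only [mul_zero, zero_mul, sub_zero, zero_sub, add_zero, mul_smul_comm, smul_mul_assoc]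
      _ = 0 := by rw [hA x hx]; simp))
  have hX : ∀ x ∈ S, n * x * n = m * x + x * m := fun x hx => by
    have hx2 := hA _ (hsq x hx)
    refine (sub_eq_zero.1 (hred _ (coef x hx).2.1 ?_)).symm
    calc (m * x + x * m - n * x * n) * (m * x + x * m - n * x * n)
        = m * x * m * x + m * (x * x) * m + x * (m * m) * x + x * (m * x * m)
            - m * x * n * x * n - x * (m * n) * x * n
            - n * x * (n * m) * x - n * x * (n * x * m) + n * x * (n * n) * x * n := by noncomm_ring
      _ = -(m * x * n * x * n) - n * x * (n * x * m) + (2 : F) • (n * (x * m * x) * n) := by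
          rw [hA x hx, hx2, hmm, hmn, hnm, hn]
          simp only [mul_zero, zero_mul, sub_zero, zero_sub, add_zero, zero_add, mul_smul_comm, smul_mul_assoc,
            mul_assoc]
      _ = 0 := by
          rw [← hB x hx]
          have e : n * x * (n * x * m) = n * (x * m * x) * n := by
            rw [hB x hx]; noncomm_ring
          rw [e, show n * x * m * x * n = n * (x * m * x) * n by noncomm_ring]
          module
  have hC : n * l = l * n := by
    refine sub_eq_zero.1 (hred _ (coef l hl).1 ?_)
    calc (n * l - l * n) * (n * l - l * n)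
        = n * l * n * l - n * (l * l) * n - l * (n * n) * l + l * (n * l * n) := by noncomm_ring
      _ = (m * l + l * m) * l - (m * (l * l) + l * l * m) - (2 : F) • (l * m * l) + l * (m * l + l * m) := by
          rw [hX l hl, hX _ (hsq l hl), hn, mul_smul_comm, smul_mul_assoc]
      _ = 0 := by
          simp only [add_mul, mul_add, mul_assoc]
          module
  refine ⟨hC, ?_⟩
  show m * l = l * m
  have e : (2 : F) • (m * l) = (2 : F) • (l * m) := by
    rw [← smul_mul_assoc, ← mul_smul_comm, ← hn, mul_assoc, hC, ← mul_assoc, hC, mul_assoc]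
  exact smul_right_injective R h2 e

/-- a unipotent element of the derived group with a one parameter group -/
theorem exists_unipotent [Finite F] (hh : Hyp k F) : ∃ n m : Matrix (Fin k) (Fin k) F,
    n * n = (2 : F) • m ∧ n * m = 0 ∧ m * n = 0 ∧ m * m = 0 ∧ (5 ≤ Nat.card F ∨ m = 0) ∧
      (∀ c : F, ∃ h ∈ Om (Fin k) F, (h : Matrix (Fin k) (Fin k) F) = 1 + c • n + (c * c) • m ∧
        ((h⁻¹ : GL (Fin k) F) : Matrix (Fin k) (Fin k) F) = 1 - c • n + (c * c) • m) ∧ n ≠ 0 := by
  have h2 := hh.h2
  have hk := hh.three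
  obtain ⟨a, -, ha⟩ := exists_value_pr h2 pr_one (π := (1 : Matrix (Fin k) (Fin k) F))
    (by rw [rk_one, Fintype.card_fin]; omega) (1 : F)
  have ha0 : a ⬝ᵥ a ≠ 0 := by rw [ha]; exact one_ne_zero
  have hr := rk_one_sub (pr_pj ha0)
  rw [rk_pj ha0, Fintype.card_fin] at hr
  obtain ⟨b, hb', hb⟩ := exists_value_pr h2 (pr_pj ha0).one_sub (by omega) (-1 : F)
  have hab : a ⬝ᵥ b = 0 := by
    rw [← hb', ← (pr_pj ha0).one_sub.dot, Matrix.sub_mulVec, Matrix.one_mulVec, pj_self ha0, sub_self,
      zero_dotProduct]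
  have hb0 : b ⬝ᵥ b ≠ 0 := by rw [hb]; exact neg_ne_zero.2 one_ne_zero
  have hσ := (pr_pj ha0).one_sub.sub (pr_pj hb0) (mul_pj hb')
  have hr' := rk_sub_pj (pr_pj ha0).one_sub hb0 hb'
  obtain ⟨w, hw, hw0, hwbig⟩ : ∃ w, (1 - pj a - pj b) *ᵥ w = w ∧ w ≠ 0 ∧ (5 ≤ Nat.card F ∨ w ⬝ᵥ w = 0) := by
    rcases hh.big with h5 | hq
    · obtain ⟨c₁, hc₁', hc₁⟩ := exists_value_pr h2 hσ (by omega) (1 : F)
      have hc0 : c₁ ⬝ᵥ c₁ ≠ 0 := by rw [hc₁]; exact one_ne_zero
      have hσ' := hσ.sub (pr_pj hc0) (mul_pj hc₁')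
      have hr'' := rk_sub_pj hσ hc0 hc₁'
      obtain ⟨d, hd', hd⟩ := exists_value_pr h2 hσ' (by omega) (-1 : F)
      have hcd : c₁ ⬝ᵥ d = 0 := by
        rw [← hd', ← hσ'.dot, Matrix.sub_mulVec, hc₁', pj_self hc0, sub_self, zero_dotProduct]
      have hσd : (1 - pj a - pj b) *ᵥ d = d := by
        conv_lhs => rw [← hd', Matrix.mulVec_mulVec, mul_sub, hσ.idem, mul_pj hc₁']
        exact hd'
      refine ⟨c₁ + d, by rw [Matrix.mulVec_add, hc₁', hσd], fun e => ?_, Or.inr ?_⟩
      · have := congrArg (c₁ ⬝ᵥ ·) e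
        simp only [dotProduct_add, hcd, hc₁, add_zero, dotProduct_zero] at this
        exact one_ne_zero this
      · simp only [add_dotProduct, dotProduct_add, hc₁, hd, dotProduct_comm d c₁, hcd]; ring
    · obtain ⟨w, hw, hw0⟩ := exists_aniso h2 hσ (fun e => by rw [e, rk_zero] at hr'; omega)
      exact ⟨w, hw, fun e => hw0 (by simp [e]), Or.inl hq⟩
  have haw : a ⬝ᵥ w = 0 := by
    rw [← hw, ← hσ.dot]
    simp [Matrix.sub_mulVec, pj_self ha0, pj_mulVec, dotProduct_comm b a, hab]
  have hbw : b ⬝ᵥ w = 0 := by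
    rw [← hw, ← hσ.dot]
    simp [Matrix.sub_mulVec, pj_self hb0, pj_mulVec, hab]
  set u := a + b with hu
  have huu : u ⬝ᵥ u = 0 := by
    simp only [hu, add_dotProduct, dotProduct_add, ha, hb, dotProduct_comm b a, hab]; ring
  have huw : u ⬝ᵥ w = 0 := by rw [hu, add_dotProduct, haw, hbw, add_zero]
  set n : Matrix (Fin k) (Fin k) F := vecMulVec w u - vecMulVec u w with hn
  set m : Matrix (Fin k) (Fin k) F := (-(2 : F)⁻¹ * (w ⬝ᵥ w)) • vecMulVec u u with hm
  have hnn : n * n = (2 : F) • m := by
    simp only [hn, hm, mul_sub, sub_mul, Matrix.vecMulVec_mul_vecMulVec, huu, huw, dotProduct_comm w u,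
      Matrix.vecMulVec_smul, Matrix.vecMulVec_zero, zero_smul, smul_zero, sub_zero, zero_sub, smul_smul]
    rw [← neg_smul]
    congr 1
    field_simp
  have hnm : n * m = 0 := by
    simp [hn, hm, sub_mul, mul_sub, Matrix.vecMulVec_mul_vecMulVec, huu, dotProduct_comm w u, huw,
      Matrix.vecMulVec_smul]
  have hmn : m * n = 0 := by
    simp [hn, hm, sub_mul, mul_sub, Matrix.vecMulVec_mul_vecMulVec, huu, dotProduct_comm w u, huw,
      Matrix.vecMulVec_smul]
  have hmm : m * m = 0 := by
    simp [hm, Matrix.vecMulVec_mul_vecMulVec, huu, Matrix.vecMulVec_smul]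
  have hnT : nᵀ = -n := by
    rw [hn, Matrix.transpose_sub, Matrix.transpose_vecMulVec, Matrix.transpose_vecMulVec, neg_sub]
  have hmT : mᵀ = m := by rw [hm, Matrix.transpose_smul, Matrix.transpose_vecMulVec]
  have hmul : ∀ c d : F, (1 + c • n + (c * c) • m) * (1 + d • n + (d * d) • m) =
      1 + (c + d) • n + ((c + d) * (c + d)) • m := fun c d => by
    simp only [add_mul, mul_add, smul_mul_assoc, mul_smul_comm, one_mul, mul_one, hnn, hnm, hmn, hmm, smul_zero,
      add_zero, smul_smul]
    module
  have hmk : ∀ c : F, ∃ h : GL (Fin k) F, h ∈ Orth (Fin k) F ∧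
      (h : Matrix (Fin k) (Fin k) F) = 1 + c • n + (c * c) • m ∧
      ((h⁻¹ : GL (Fin k) F) : Matrix (Fin k) (Fin k) F) = 1 - c • n + (c * c) • m := fun c => by
    have e : (1 - c • n + (c * c) • m) = 1 + (-c) • n + ((-c) * (-c)) • m := by module
    have hu1 : (1 + c • n + (c * c) • m) * (1 - c • n + (c * c) • m) = 1 := by rw [e, hmul]; simp
    have hu2 : (1 - c • n + (c * c) • m) * (1 + c • n + (c * c) • m) = 1 := by rw [e, hmul]; simp
    refine ⟨⟨_, _, hu1, hu2⟩, (mem_orth_iff h2).2 ?_, rfl, rfl⟩
    show (1 + c • n + (c * c) • m)ᵀ * _ = 1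
    rw [Matrix.transpose_add, Matrix.transpose_add, Matrix.transpose_one, Matrix.transpose_smul,
      Matrix.transpose_smul, hnT, hmT, smul_neg, ← sub_eq_add_neg]
    exact hu2
  refine ⟨n, m, hnn, hnm, hmn, hmm, hwbig.imp_right fun h0 => by rw [hm, h0, mul_zero, zero_smul], fun c => ?_, ?_⟩
  · obtain ⟨h, hh', hv, hi⟩ := hmk c
    obtain ⟨r, hr2, hrv, -⟩ := hmk (c / 2)
    have e : r * r = h := Units.ext (by rw [Units.val_mul, hrv, hv, hmul, show c / 2 + c / 2 = c by field_simp; ring])
    exact ⟨h, e ▸ sq_mem_om h2 hr2, hv, hi⟩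
  · intro h0
    have := congrArg (· *ᵥ a) h0
    rw [hn, Matrix.sub_mulVec, Matrix.vecMulVec_mulVec, Matrix.vecMulVec_mulVec, Matrix.zero_mulVec,
      dotProduct_comm u a, dotProduct_comm w a, haw, hu, dotProduct_add, ha, hab] at this
    simp at this
    exact hw0 this

variable {T : Type} [Fintype T] [DecidableEq T]

/-- the pure derived elements act irreducibly -/
theorem irred [Finite F] (hh : Hyp k F) {W : Submodule F ((T → Fin k) → F)}
    (h : ∀ u : T → GL (Fin k) F, (∀ r, u r ∈ Om (Fin k) F) → ∀ v ∈ W, act (tk u) v ∈ W) {v : (T → Fin k) → F}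
    (hv : v ∈ W) (hv0 : v ≠ 0) : W = ⊤ := by
  have h2 := hh.h2
  have hr : ∀ (r : T) (w : GL (Fin k) F), w ∈ Om (Fin k) F → ∀ z ∈ W, act (rt r w) z ∈ W := fun r w hw => by
    rw [TW.rt_eq]
    refine h _ fun s => ?_
    rcases eq_or_ne s r with rfl | hs
    · rwa [Pi.mulSingle_eq_same]
    · rw [Pi.mulSingle_eq_of_ne hs]; exact one_mem _
  have hsingle : ∀ (r : T) (x : T → Fin k) (w : GL (Fin k) F) (j : Fin k),
      act w (Pi.single (x r) (1 : F)) = Pi.single j 1 →
      act (rt r w) (Pi.single x (1 : F)) = Pi.single (Function.update x r j) 1 := by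
    intro r x w j hw
    rw [← TW.tp_single, TW.act_rt, ← TW.tp_single]
    refine congrArg TW.tp (funext fun s => ?_)
    rcases eq_or_ne s r with rfl | hs
    · simp [hw]
    · simp [hs]
  obtain ⟨x₀, hx₀⟩ := Function.ne_iff.1 hv0
  have hcut : ∀ Tset : Finset T, (fun x => if ∀ r ∈ Tset, x r = x₀ r then v x else 0) ∈ W := by
    intro Tset
    induction Tset using Finset.induction with
    | empty => simpa using hv
    | insert r Tset _ ih =>
      set z := fun x => if ∀ s ∈ Tset, x s = x₀ s then v x else 0 with hz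
      have hZ := hr r _ (zz_single_mem h2 hh.odd' (F := F) (x₀ r)) _ ih
      have hact : ∀ y : T → Fin k, act (rt r (zz (Pi.single (x₀ r) (1 : F)))) z y =
          (if y r = x₀ r then 1 else -1) * z y := by
        have hdiag : ∀ y, act (rt r (zz (Pi.single (x₀ r) (1 : F)))) (Pi.single y (1 : F)) =
            (if y r = x₀ r then (1 : F) else -1) • (Pi.single y (1 : F) : (T → Fin k) → F) := by
          intro y
          rw [← TW.tp_single, TW.act_rt]
          funext q
          rw [TW.tp_apply, TW.prod_split r, Function.update_self, Pi.smul_apply, TW.tp_apply, TW.prod_split r,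
            smul_eq_mul, ← mul_assoc]
          congr 1
          · rw [act_apply, zz_val (by simp), Matrix.sub_mulVec, Matrix.one_mulVec, Matrix.smul_mulVec, pj_mulVec]
            rcases eq_or_ne (y r) (x₀ r) with he | he
            · simp [he, Pi.single_apply]; split_ifs <;> ring
            · simp [he, Ne.symm he, Pi.single_apply]; split_ifs <;> ring
          · exact Finset.prod_congr rfl fun s _ => by rw [Function.update_of_ne s.2]
        intro y
        conv_lhs => rw [pi_eq_sum_univ' z, map_sum]
        rw [Finset.sum_apply, Finset.sum_eq_single y]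
        · rw [map_smul, hdiag, Pi.smul_apply, Pi.smul_apply, Pi.single_eq_same, smul_eq_mul, smul_eq_mul]; ring
        · intro b _ hb
          rw [map_smul, hdiag, Pi.smul_apply, Pi.smul_apply, Pi.single_eq_of_ne (Ne.symm hb), smul_zero, smul_zero]
        · simp
      have := W.smul_mem (2 : F)⁻¹ (add_mem ih hZ)
      convert this using 1
      funext y
      simp only [Pi.smul_apply, Pi.add_apply, hact, smul_eq_mul]
      simp only [hz, Finset.forall_mem_insert]
      by_cases h1 : y r = x₀ r
      · by_cases h3 : ∀ s ∈ Tset, y s = x₀ s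
        · rw [if_pos ⟨h1, h3⟩, if_pos h3, if_pos h1]; field_simp; ring
        · rw [if_neg fun h => h3 h.2, if_neg h3]; ring
      · rw [if_neg fun h => h1 h.1, if_neg h1]; ring
  have hstart : (Pi.single x₀ (1 : F) : (T → Fin k) → F) ∈ W := by
    have := W.smul_mem (v x₀)⁻¹ (hcut Finset.univ)
    convert this using 1
    funext y
    simp only [Pi.smul_apply, smul_eq_mul]
    rcases eq_or_ne y x₀ with rfl | hy
    · rw [Pi.single_eq_same, if_pos fun _ _ => rfl, inv_mul_cancel₀ hx₀]
    · rw [Pi.single_eq_of_ne hy, if_neg fun h => hy (funext fun r => h r (Finset.mem_univ r)), mul_zero]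
  have hmove : ∀ (x : T → Fin k) (r : T) (j : Fin k), (Pi.single x (1 : F) : (T → Fin k) → F) ∈ W →
      (Pi.single (Function.update x r j) (1 : F) : (T → Fin k) → F) ∈ W := by
    intro x r j hx
    rcases eq_or_ne (x r) j with he | he
    · rw [← he, Function.update_eq_self]; exact hx
    obtain ⟨σ, hσ, hmem⟩ := exists_cycle h2 hh.three' he (F := F)
    rw [← hsingle r x (pmat σ) j (funext fun i => by
      rw [act_pmat]; simp [Pi.single_apply, Equiv.symm_apply_eq, hσ])]
    exact hr r _ hmem _ hx
  have hall : ∀ (Tset : Finset T) (x : T → Fin k), (∀ r, r ∉ Tset → x r = x₀ r) →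
      (Pi.single x (1 : F) : (T → Fin k) → F) ∈ W := by
    intro Tset
    induction Tset using Finset.induction with
    | empty => intro x hx; rw [show x = x₀ from funext fun r => hx r (Finset.notMem_empty r)]; exact hstart
    | insert r Tset _ ih =>
      intro x hx
      have h1 := hmove _ r (x r) (ih (Function.update x r (x₀ r)) fun s hs => by
        rcases eq_or_ne s r with rfl | hsr
        · simp
        · rw [Function.update_of_ne hsr]; exact hx s (by simp [hs, hsr]))
      rwa [Function.update_idem, Function.update_eq_self] at h1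
  rw [Submodule.eq_top_iff']
  intro z
  rw [pi_eq_sum_univ' z]
  exact sum_mem fun x _ => W.smul_mem _ (hall Finset.univ x (by simp))

/-- commuting nilpotents have a common kernel vector in any invariant non-zero subspace -/
theorem exists_common_kernel {W : Type*} [AddCommGroup W] [Module F W] {J : Type*} (s : Finset J)
    (N : J → Module.End F W) (hnil : ∀ j ∈ s, IsNilpotent (N j)) (hc : ∀ i ∈ s, ∀ j ∈ s, Commute (N i) (N j))
    {U : Submodule F W} (hU : ∀ j ∈ s, ∀ v ∈ U, N j v ∈ U) {v : W} (hv : v ∈ U) (hv0 : v ≠ 0) :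
    ∃ w ∈ U, w ≠ 0 ∧ ∀ j ∈ s, N j w = 0 := by
  classical
  induction s using Finset.induction with
  | empty => exact ⟨v, hv, hv0, by simp⟩
  | insert a s _ ih =>
    obtain ⟨w, hw, hw0, hws⟩ := ih (fun j hj => hnil j (Finset.mem_insert_of_mem hj))
      (fun i hi j hj => hc i (Finset.mem_insert_of_mem hi) j (Finset.mem_insert_of_mem hj))
      (fun j hj => hU j (Finset.mem_insert_of_mem hj))
    obtain ⟨e, he⟩ := hnil a (Finset.mem_insert_self a s)
    have hex : ∃ i, (N a ^ i) w = 0 := ⟨e, by rw [he]; rfl⟩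
    set i := Nat.find hex with hi
    have hi0 : i ≠ 0 := fun h => hw0 (by have := Nat.find_spec hex; rw [← hi, h] at this; simpa using this)
    have hpow : ∀ n, (N a ^ n) w ∈ U := fun n => by
      induction n with
      | zero => simpa using hw
      | succ n ihn => rw [pow_succ']; exact hU a (Finset.mem_insert_self a s) _ ihn
    refine ⟨(N a ^ (i - 1)) w, hpow _, Nat.find_min hex (by omega), fun j hj => ?_⟩
    rcases Finset.mem_insert.1 hj with rfl | hj'
    · rw [← Module.End.mul_apply, ← pow_succ', show i - 1 + 1 = i by omega]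
      exact Nat.find_spec hex
    · rw [← Module.End.mul_apply, ((hc j hj a (Finset.mem_insert_self a s)).pow_right _).eq, Module.End.mul_apply,
        hws j hj', map_zero]

/-- semisimple elements of an abelian group normalised by the pure derived elements commute with them -/
theorem commute_of_coprime [Finite F] (hh : Hyp k F) (p : ℕ) [Fact p.Prime] [CharP F p]
    {A : Subgroup (GL ((T → Fin k) × Fin k) F)} (hcomm : ∀ a ∈ A, ∀ b ∈ A, Commute a b)
    (hnorm : ∀ u : T → GL (Fin k) F, (∀ r, u r ∈ Om (Fin k) F) → ∀ a ∈ A,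
      inl _ k F (tk u) * a * (inl _ k F (tk u))⁻¹ ∈ A)
    {g : GL ((T → Fin k) × Fin k) F} (hg : g ∈ A) (hgp : (orderOf g).Coprime p)
    {u : T → GL (Fin k) F} (hu : ∀ r, u r ∈ Om (Fin k) F) : Commute g (inl _ k F (tk u)) := by
  classical
  haveI := Fintype.ofFinite F
  have h2 := hh.h2
  obtain ⟨f, -, hf⟩ := FiniteField.card F p
  let A' : Set (GL ((T → Fin k) × Fin k) F) := {a | a ∈ A ∧ (orderOf a).Coprime p}
  let mA := (A' : Set (GL ((T → Fin k) × Fin k) F)).toFinite.toFinset.lcm fun a => orderOf a
  have hmA : mA.Coprime p := by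
    have : ∀ s : Finset (GL ((T → Fin k) × Fin k) F), (∀ a ∈ s, (orderOf a).Coprime p) →
        (s.lcm fun a => orderOf a).Coprime p := by
      intro s
      induction s using Finset.induction with
      | empty => intro _; simp
      | insert a s _ ih =>
        intro hs
        rw [Finset.lcm_insert]
        exact Nat.Coprime.coprime_dvd_left (Nat.lcm_dvd_mul _ _)
          ((hs a (Finset.mem_insert_self a s)).mul_left (ih fun b hb => hs b (Finset.mem_insert_of_mem hb)))
    exact this _ fun a ha => ((Set.Finite.mem_toFinset _).1 ha).2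
  set E := (f : ℕ) * Nat.totient mA with hE
  have hmA0 : mA ≠ 0 := Finset.lcm_ne_zero_iff.2 fun a _ => (orderOf_pos a).ne'
  have hEpos : 0 < E := Nat.mul_pos f.pos (Nat.totient_pos.2 (Nat.pos_of_ne_zero hmA0))
  have hpow : ∀ a ∈ A', a ^ p ^ E = a := by
    intro a ha
    have hdvd : orderOf a ∣ mA := Finset.dvd_lcm ((Set.Finite.mem_toFinset _).2 ha)
    have h1 : p ^ E ≡ 1 [MOD mA] := by
      rw [hE, pow_mul]
      exact Nat.ModEq.pow_totient ((Nat.coprime_comm.1 hmA).pow_left _)
    conv_rhs => rw [← pow_one a]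
    rw [pow_eq_pow_iff_modEq]
    exact Nat.ModEq.of_dvd hdvd h1
  let S := Submodule.span F ((fun a : GL ((T → Fin k) × Fin k) F =>
    (a : Matrix ((T → Fin k) × Fin k) ((T → Fin k) × Fin k) F)) '' A')
  haveI : Nonempty ((T → Fin k) × Fin k) := ⟨(fun _ => ⟨0, hh.odd.pos⟩, ⟨0, hh.odd.pos⟩)⟩
  haveI : CharP (Matrix ((T → Fin k) × Fin k) ((T → Fin k) × Fin k) F) p := Matrix.charP p
  haveI : ExpChar (Matrix ((T → Fin k) × Fin k) ((T → Fin k) × Fin k) F) p := ExpChar.prime Fact.out
  have hScomm : ∀ x ∈ S, ∀ y ∈ S, Commute x y := by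
    intro x hx y hy
    induction hx using Submodule.span_induction with
    | mem x hx =>
      induction hy using Submodule.span_induction with
      | mem y hy =>
        obtain ⟨a, ha, rfl⟩ := hx
        obtain ⟨b, hb, rfl⟩ := hy
        exact congrArg Units.val (hcomm a ha.1 b hb.1).eq
      | zero => exact Commute.zero_right _
      | add a b _ _ ha hb => exact ha.add_right hb
      | smul c a _ ha => exact ha.smul_right c
    | zero => exact Commute.zero_left _
    | add a b _ _ ha hb => exact ha.add_left hb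
    | smul c a _ ha => exact ha.smul_left c
  have hfix : ∀ x ∈ S, x ^ p ^ E = x := by
    intro x hx
    induction hx using Submodule.span_induction with
    | mem x hx =>
      obtain ⟨a, ha, rfl⟩ := hx
      show (a : Matrix ((T → Fin k) × Fin k) ((T → Fin k) × Fin k) F) ^ _ = _
      rw [← Units.val_pow_eq_pow_val, hpow a ha]
    | zero => exact zero_pow (pow_ne_zero _ (Fact.out : p.Prime).ne_zero)
    | add a b ha hb ea eb => rw [add_pow_char_pow_of_commute (p := p) (h := hScomm a ha b hb), ea, eb]
    | smul c a _ ea =>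
      rw [smul_pow, ea, hE, pow_mul, ← hf, FiniteField.pow_card_pow]
  have hred : ∀ x ∈ S, x * x = 0 → x = 0 := by
    intro x hx hxx
    rw [← hfix x hx]
    obtain ⟨r, hr⟩ : ∃ r, p ^ E = 2 + r := ⟨p ^ E - 2, by
      have := Nat.one_lt_pow hEpos.ne' (Fact.out : p.Prime).one_lt
      omega⟩
    rw [hr, pow_add, pow_two, hxx, zero_mul]
  have hsq : ∀ x ∈ S, x * x ∈ S := by
    have hmul : ∀ x ∈ S, ∀ y ∈ S, x * y ∈ S := by
      intro x hx y hy
      induction hx using Submodule.span_induction with
      | mem x hx =>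
        induction hy using Submodule.span_induction with
        | mem y hy =>
          obtain ⟨a, ha, rfl⟩ := hx
          obtain ⟨b, hb, rfl⟩ := hy
          refine Submodule.subset_span ⟨a * b, ⟨mul_mem ha.1 hb.1, ?_⟩, rfl⟩
          exact Nat.Coprime.coprime_dvd_left ((hcomm a ha.1 b hb.1).orderOf_mul_dvd_mul_orderOf) (ha.2.mul_left hb.2)
        | zero => rw [mul_zero]; exact zero_mem _
        | add a b _ _ ha hb => rw [mul_add]; exact add_mem ha hb
        | smul c a _ ha => rw [mul_smul_comm]; exact Submodule.smul_mem _ _ ha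
      | zero => rw [zero_mul]; exact zero_mem _
      | add a b _ _ ha hb => rw [add_mul]; exact add_mem ha hb
      | smul c a _ ha => rw [smul_mul_assoc]; exact Submodule.smul_mem _ _ ha
    exact fun x hx => hmul x hx x hx
  have hA'inv : ∀ v : T → GL (Fin k) F, (∀ r, v r ∈ Om (Fin k) F) → ∀ a ∈ A',
      inl _ k F (tk v) * a * (inl _ k F (tk v))⁻¹ ∈ A' := fun v hv a ha => by
    refine ⟨hnorm v hv a ha.1, ?_⟩
    have := orderOf_injective (MulAut.conj (inl (T → Fin k) k F (tk v))).toMonoidHom (MulAut.conj _).injective a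
    rw [MulEquiv.coe_toMonoidHom, MulAut.conj_apply] at this
    rw [this]
    exact ha.2
  -- the elements commuting with all of A'
  let C : Subgroup (GL ((T → Fin k) × Fin k) F) := Subgroup.centralizer A'
  obtain ⟨n, m, hnn, hnm, hmn, hmm, hbig, hone, hn0⟩ := exists_unipotent hh
  have hmulS : ∀ r : T, ∀ w ∈ Om (Fin k) F, inl _ k F (rt r w) ∈ C := by
    intro r
    have hrv : ∀ w ∈ Om (Fin k) F, ∀ s, (Pi.mulSingle r w : T → GL (Fin k) F) s ∈ Om (Fin k) F := fun w hw s => by
      rcases eq_or_ne s r with rfl | hs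
      · rwa [Pi.mulSingle_eq_same]
      · rw [Pi.mulSingle_eq_of_ne hs]; exact one_mem _
    let L : Matrix (Fin k) (Fin k) F → Matrix ((T → Fin k) × Fin k) ((T → Fin k) × Fin k) F := fun X => sl r X ⊗ₖ 1
    have Lmul : ∀ X Y, L (X * Y) = L X * L Y := fun X Y => by
      simp only [L, map_mul, ← Matrix.mul_kronecker_mul, mul_one]
    have Ladd : ∀ X Y, L (X + Y) = L X + L Y := fun X Y => by
      simp only [L, TW.sl_add, Matrix.add_kronecker]
    have Lsmul : ∀ (c : F) X, L (c • X) = c • L X := fun c X => by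
      show sl r (c • X) ⊗ₖ 1 = c • (sl r X ⊗ₖ 1)
      rw [← Matrix.smul_kronecker]
      congr 1
      exact TW.pm_update_smul 1 r c X
    have L0 : L 0 = 0 := by simp only [L, TW.sl_zero, Matrix.zero_kronecker]
    have L1 : L 1 = 1 := by simp only [L, map_one, Matrix.one_kronecker_one]
    have Lrt : ∀ w : GL (Fin k) F, (inl _ k F (rt r w) : Matrix ((T → Fin k) × Fin k) ((T → Fin k) × Fin k) F) =
        L (w : Matrix (Fin k) (Fin k) F) := fun w => by
      rw [inl_val]
      show (tk (Pi.mulSingle r w) : Matrix (T → Fin k) (T → Fin k) F) ⊗ₖ 1 = _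
      rw [TW.tk_val]
      congr 1
      refine congrArg pm (funext fun s => ?_)
      rcases eq_or_ne s r with rfl | hs
      · simp
      · simp [hs]
    let K : Subgroup (GL (Fin k) F) := C.comap ((inl (T → Fin k) k F).comp (rt r))
    have hKnorm : ∀ a ∈ Om (Fin k) F, ∀ x ∈ K, x ∈ Om (Fin k) F → a * x * a⁻¹ ∈ K := by
      intro a ha x hx _
      rw [Subgroup.mem_comap, Subgroup.mem_centralizer_iff]
      intro b hb
      set a' : GL ((T → Fin k) × Fin k) F := inl _ k F (rt r a)
      have hb' : a'⁻¹ * b * a' ∈ A' := by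
        have := hA'inv (Pi.mulSingle r a⁻¹) (hrv _ (inv_mem ha)) b hb
        rwa [← TW.rt_eq, map_inv, map_inv, inv_inv] at this
      have hxc := Subgroup.mem_centralizer_iff.1 (Subgroup.mem_comap.1 hx) _ hb'
      simp only [MonoidHom.comp_apply, map_mul, map_inv] at hxc ⊢
      set x' := inl (T → Fin k) k F (rt r x)
      show b * (a' * x' * a'⁻¹) = a' * x' * a'⁻¹ * b
      calc b * (a' * x' * a'⁻¹) = a' * ((a'⁻¹ * b * a') * x') * a'⁻¹ := by group
        _ = a' * (x' * (a'⁻¹ * b * a')) * a'⁻¹ := by rw [hxc]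
        _ = _ := by group
    obtain ⟨c, hc⟩ : ∃ c : F, (1 : Matrix (Fin k) (Fin k) F) + c • n + (c * c) • m ≠ 1 := by
      by_contra hall
      push Not at hall
      have e1 := hall 1
      have e2 := hall (-1)
      refine hn0 ((smul_eq_zero.1 (show (2 : F) • n = 0 from ?_)).resolve_left h2)
      have := congrArg₂ (· - ·) e1 e2
      simp only [one_smul, neg_one_smul, mul_one, neg_mul_neg, sub_self] at this
      rw [← this]
      module
    obtain ⟨h, hhO, hhv, -⟩ := hone c
    have hh1 : h ≠ 1 := fun e => hc (by rw [← hhv, e, Units.val_one])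
    have hhK : h ∈ K := by
      rw [Subgroup.mem_comap, Subgroup.mem_centralizer_iff]
      intro b hb
      have hbS : (b : Matrix ((T → Fin k) × Fin k) ((T → Fin k) × Fin k) F) ∈ S :=
        Submodule.subset_span ⟨b, hb, rfl⟩
      obtain ⟨e1, e2⟩ := commute_unipotent h2 S hred hsq (n := L n) (m := L m) (by rw [← Lmul, hnn, Lsmul])
        (by rw [← Lmul, hnm, L0]) (by rw [← Lmul, hmn, L0]) (by rw [← Lmul, hmm, L0])
        (hbig.imp_right fun e => by rw [e, L0]) (fun d x hx => by
          obtain ⟨hd, hdO, hdv, hdi⟩ := hone d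
          have e : ∀ X : Matrix ((T → Fin k) × Fin k) ((T → Fin k) × Fin k) F,
              (1 + d • L n + (d * d) • L m) * X * (1 - d • L n + (d * d) • L m) =
              (inl _ k F (rt r hd) : Matrix ((T → Fin k) × Fin k) ((T → Fin k) × Fin k) F) * X *
                ((inl _ k F (rt r hd))⁻¹ : GL ((T → Fin k) × Fin k) F) := fun X => by
            rw [← map_inv, ← map_inv, Lrt, Lrt, hdv, hdi,
              show (1 : Matrix (Fin k) (Fin k) F) - d • n = 1 + (-d) • n by module]
            simp only [Ladd, Lsmul, L1]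
            simp only [neg_smul, ← sub_eq_add_neg]
          rw [e]
          induction hx using Submodule.span_induction with
          | mem x hx =>
            obtain ⟨a, ha, rfl⟩ := hx
            refine Submodule.subset_span ⟨inl _ k F (rt r hd) * a * (inl _ k F (rt r hd))⁻¹, ?_, rfl⟩
            rw [TW.rt_eq]
            exact hA'inv _ (hrv _ hdO) a ha
          | zero => rw [mul_zero, zero_mul]; exact zero_mem _
          | add a b _ _ ha hb => rw [mul_add, add_mul]; exact add_mem ha hb
          | smul c a _ ha => rw [mul_smul_comm, smul_mul_assoc]; exact Submodule.smul_mem _ _ ha) hbS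
      refine Units.ext ?_
      rw [MonoidHom.comp_apply, Units.val_mul, Units.val_mul, Lrt, hhv, Ladd, Ladd, Lsmul, Lsmul, L1]
      exact (((Commute.one_left _).add_left (e1.smul_left c)).add_left (e2.smul_left (c * c))).eq.symm
    intro w hw
    exact om_le_of_normal h2 hh.odd' hh.three' hh.big' hKnorm hhK hhO hh1 hw
  have hall : inl _ k F (tk u) ∈ C :=
    Subgroup.mem_comap.1 (Subgroup.pi_mem_of_mulSingle_mem (H := C.comap ((inl (T → Fin k) k F).comp tk)) u fun r => by
      rw [Subgroup.mem_comap, MonoidHom.comp_apply, ← TW.rt_eq]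
      exact hmulS r _ (hu r))
  exact Subgroup.mem_centralizer_iff.1 hall g ⟨hg, hgp⟩

end Cfsg.Agent.MaxCl.TOrth
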