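/-
The pure isometries available on a summand: when they span all its endomorphisms, and what remains otherwise.
-/
import Cfsg.Agent.Lib.MaxCl.TOrthCtx

set_option autoImplicit false
set_option linter.unusedSectionVars false

namespace Cfsg.Agent.MaxCl.TOrth

open Matrix
open TW (tk pm pg rt rid spl sl Wr)
open scoped MatrixGroups Kronecker

variable {F : Type*} [Field F] {k : ℕ} {T : Type} [Fintype T] [DecidableEq T]
  {M : Subgroup (GL ((T → Fin k) × Fin k) F)}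

/-- three orthogonal summands -/
structure Dec (π₁ π₂ π₃ : Matrix (Fin k) (Fin k) F) : Prop where
  p₁ : Pr π₁
  p₂ : Pr π₂
  p₃ : Pr π₃
  h12 : π₁ * π₂ = 0
  h13 : π₁ * π₃ = 0
  h23 : π₂ * π₃ = 0
  sum : π₁ + π₂ + π₃ = 1

theorem Dec.swap {π₁ π₂ π₃ : Matrix (Fin k) (Fin k) F} (h : Dec π₁ π₂ π₃) : Dec π₂ π₁ π₃ :=
  ⟨h.p₂, h.p₁, h.p₃, h.p₁.swap h.p₂ h.h12, h.h23, h.h13, by rw [add_comm π₂, h.sum]⟩

theorem Dec.one_sub {π₁ π₂ π₃ : Matrix (Fin k) (Fin k) F} (h : Dec π₁ π₂ π₃) : 1 - π₁ = π₂ + π₃ := by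
  rw [← h.sum]; abel

theorem Dec.third {π₁ π₂ π₃ : Matrix (Fin k) (Fin k) F} (h : Dec π₁ π₂ π₃) : π₃ = 1 - π₁ - π₂ := by
  rw [← h.sum]; abel

theorem dec_of {π σ : Matrix (Fin k) (Fin k) F} (hπ : Pr π) (hσ : Pr σ) (h : σ * π = π) :
    Dec π (σ - π) (1 - σ) := by
  have h' : π * σ = π := by
    have := congrArg Matrix.transpose h
    rwa [Matrix.transpose_mul, hπ.symm, hσ.symm] at this
  refine ⟨hπ, hσ.sub hπ h, hσ.one_sub, ?_, ?_, ?_, by abel⟩
  · rw [mul_sub, h', hπ.idem, sub_self]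
  · rw [mul_sub, mul_one, h', sub_self]
  · rw [sub_mul, mul_sub σ, mul_one, hσ.idem, sub_self, mul_sub, mul_one, h', sub_self, sub_self]

/-- the pure elements usable on `π₁` -/
def Um (M : Subgroup (GL ((T → Fin k) × Fin k) F)) (π₁ π₂ : Matrix (Fin k) (Fin k) F) (u : GL (Fin k) F) : Prop :=
  u ∈ Orth (Fin k) F ∧ inr _ k F u ∈ M ∧ Commute (u : Matrix (Fin k) (Fin k) F) π₁ ∧
    Commute (u : Matrix (Fin k) (Fin k) F) π₂ ∧
      ((u : Matrix (Fin k) (Fin k) F) * π₂ = π₂ ∨ (u : Matrix (Fin k) (Fin k) F) * π₂ = -π₂)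

theorem um_mul {π₁ π₂ : Matrix (Fin k) (Fin k) F} {u v : GL (Fin k) F} (hu : Um M π₁ π₂ u) (hv : Um M π₁ π₂ v) :
    Um M π₁ π₂ (u * v) := by
  obtain ⟨a, b, c, d, e⟩ := hu
  obtain ⟨a', b', c', d', e'⟩ := hv
  refine ⟨mul_mem a a', by rw [map_mul]; exact mul_mem b b', by rw [Units.val_mul]; exact c.mul_left c',
    by rw [Units.val_mul]; exact d.mul_left d', ?_⟩
  rw [Units.val_mul, mul_assoc]
  rcases e' with e' | e' <;> rw [e'] <;> rcases e with e | e <;> simp [e]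

theorem um_one (π₁ π₂ : Matrix (Fin k) (Fin k) F) : Um M π₁ π₂ 1 :=
  ⟨one_mem _, by rw [map_one]; exact one_mem _, by rw [Units.val_one]; exact Commute.one_left _,
    by rw [Units.val_one]; exact Commute.one_left _, Or.inl (by rw [Units.val_one, one_mul])⟩

theorem um_inv {π₁ π₂ : Matrix (Fin k) (Fin k) F} {u : GL (Fin k) F} (hu : Um M π₁ π₂ u) : Um M π₁ π₂ u⁻¹ := by
  obtain ⟨a, b, c, d, e⟩ := hu
  refine ⟨inv_mem a, by rw [map_inv]; exact inv_mem b, c.units_inv_left, d.units_inv_left, ?_⟩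
  have h : ((u⁻¹ : GL (Fin k) F) : Matrix (Fin k) (Fin k) F) * ((u : Matrix (Fin k) (Fin k) F) * π₂) = π₂ := by
    rw [← mul_assoc, ← Units.val_mul, inv_mul_cancel, Units.val_one, one_mul]
  rcases e with e | e
  · exact Or.inl (by rwa [e] at h)
  · exact Or.inr (by rw [e, mul_neg, neg_eq_iff_eq_neg] at h; exact h)

/-- the algebra they span on `π₁` -/
def Alg (M : Subgroup (GL ((T → Fin k) × Fin k) F)) (π₁ π₂ : Matrix (Fin k) (Fin k) F) :
    Submodule F (Matrix (Fin k) (Fin k) F) :=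
  Submodule.span F {X | ∃ u, Um M π₁ π₂ u ∧ X = (u : Matrix (Fin k) (Fin k) F) * π₁}

/-- everything is spanned -/
def Full (M : Subgroup (GL ((T → Fin k) × Fin k) F)) (π₁ π₂ : Matrix (Fin k) (Fin k) F) : Prop :=
  ∀ Y, π₁ * Y * π₁ ∈ Alg M π₁ π₂

theorem alg_mul {π₁ π₂ : Matrix (Fin k) (Fin k) F} (h : Pr π₁) {X Y : Matrix (Fin k) (Fin k) F}
    (hX : X ∈ Alg M π₁ π₂) (hY : Y ∈ Alg M π₁ π₂) : X * Y ∈ Alg M π₁ π₂ := by
  induction hX using Submodule.span_induction with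
  | mem X hX =>
    induction hY using Submodule.span_induction with
    | mem Y hY =>
      obtain ⟨u, hu, rfl⟩ := hX
      obtain ⟨v, hv, rfl⟩ := hY
      refine Submodule.subset_span ⟨u * v, um_mul hu hv, ?_⟩
      rw [Units.val_mul, mul_assoc, ← mul_assoc π₁, ← hv.2.2.1.eq, mul_assoc (v : Matrix (Fin k) (Fin k) F), h.idem,
        mul_assoc]
    | zero => rw [mul_zero]; exact zero_mem _
    | add a b _ _ ha hb => rw [mul_add]; exact add_mem ha hb
    | smul c a _ ha => rw [mul_smul_comm]; exact Submodule.smul_mem _ _ ha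
  | zero => rw [zero_mul]; exact zero_mem _
  | add a b _ _ ha hb => rw [add_mul]; exact add_mem ha hb
  | smul c a _ ha => rw [smul_mul_assoc]; exact Submodule.smul_mem _ _ ha

theorem alg_transpose (h2 : (2 : F) ≠ 0) {π₁ π₂ : Matrix (Fin k) (Fin k) F} (h : Pr π₁)
    {X : Matrix (Fin k) (Fin k) F} (hX : X ∈ Alg M π₁ π₂) : Xᵀ ∈ Alg M π₁ π₂ := by
  induction hX using Submodule.span_induction with
  | mem X hX =>
    obtain ⟨u, hu, rfl⟩ := hX
    refine Submodule.subset_span ⟨u⁻¹, um_inv hu, ?_⟩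
    rw [Matrix.transpose_mul, h.symm, ← inv_val h2 hu.1]
    exact (hu.2.2.1.units_inv_left).eq.symm
  | zero => rw [Matrix.transpose_zero]; exact zero_mem _
  | add a b _ _ ha hb => rw [Matrix.transpose_add]; exact add_mem ha hb
  | smul c a _ ha => rw [Matrix.transpose_smul]; exact Submodule.smul_mem _ _ ha

theorem self_mem_alg {π₁ π₂ : Matrix (Fin k) (Fin k) F} : π₁ ∈ Alg M π₁ π₂ :=
  Submodule.subset_span ⟨1, um_one _ _, by rw [Units.val_one, one_mul]⟩

theorem mul_pj_zero' {π₁ π₂ : Matrix (Fin k) (Fin k) F} (h2' : Pr π₂) (h : π₂ * π₁ = 0) {a : Fin k → F}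
    (ha : a ⬝ᵥ a ≠ 0) (hπ : π₁ *ᵥ a = a) : pj a * π₂ = 0 :=
  h2'.swap (pr_pj ha) (mul_pj_zero (by rw [← hπ, Matrix.mulVec_mulVec, h, Matrix.zero_mulVec]))

variable [Finite F] (hM : Ctx T k F M) {π₁ π₂ π₃ : Matrix (Fin k) (Fin k) F} (hd : Dec π₁ π₂ π₃)
include hM hd

/-- the involution of a unit vector -/
theorem um_zz {e : Fin k → F} (he : e ⬝ᵥ e = 1) (hπ : π₁ *ᵥ e = e) : Um M π₁ π₂ (zz e) := by
  have h2 := hM.hyp.h2
  have h0 : e ⬝ᵥ e ≠ 0 := by rw [he]; exact one_ne_zero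
  have hmem : zz e ∈ Om (Fin k) F := zz_mem h2 hM.hyp.odd' h0 (by rw [he]; exact IsSquare.one)
  have h1 : pj e * π₁ = π₁ * pj e := by
    have := congrArg Matrix.transpose (mul_pj hπ)
    rw [Matrix.transpose_mul, hd.p₁.symm, (pr_pj h0).symm] at this
    rw [this, mul_pj hπ]
  have h12 : pj e * π₂ = 0 := mul_pj_zero' hd.p₂ hd.swap.h12 h0 hπ
  have h21 : π₂ * pj e = 0 := (pr_pj h0).swap hd.p₂ h12
  refine ⟨om_le_orth hmem, hM.inr_mem hmem, ?_, ?_, Or.inr ?_⟩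
  · rw [zz_val h0]
    exact (Commute.smul_left h1 _).sub_left (Commute.one_left _)
  · rw [zz_val h0]
    exact (Commute.smul_left (h12.trans h21.symm) _).sub_left (Commute.one_left _)
  · rw [zz_val h0, sub_mul, smul_mul_assoc, h12, smul_zero, one_mul, zero_sub]

/-- a product of two reflections of one class in `π₁ + π₃` -/
theorem um_rf_rf {x y : Fin k → F} (hx : x ⬝ᵥ x ≠ 0) (hxy : IsSquare ((x ⬝ᵥ x) * (y ⬝ᵥ y))) (hy : y ⬝ᵥ y ≠ 0)
    (hπx : π₁ *ᵥ x = x) (hπy : π₁ *ᵥ y = y ∨ π₃ *ᵥ y = y) : Um M π₁ π₂ (rf x * rf y) := by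
  have h2 := hM.hyp.h2
  have hmem := rf_mul_rf_mem h2 hx hy hxy
  have aux : ∀ {z : Fin k → F} (_ : z ⬝ᵥ z ≠ 0), π₁ *ᵥ z = z ∨ π₃ *ᵥ z = z →
      Commute (rf z : Matrix (Fin k) (Fin k) F) π₁ ∧ (rf z : Matrix (Fin k) (Fin k) F) * π₂ = π₂ ∧
        Commute (rf z : Matrix (Fin k) (Fin k) F) π₂ := by
    intro z hz hπ
    have e1 : pj z * π₂ = 0 := by
      rcases hπ with h | h
      · exact mul_pj_zero' hd.p₂ hd.swap.h12 hz h
      · exact mul_pj_zero' hd.p₂ hd.h23 hz h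
    have e2 : π₂ * pj z = 0 := (pr_pj hz).swap hd.p₂ e1
    have e3 : pj z * π₁ = π₁ * pj z := by
      rcases hπ with h | h
      · have := congrArg Matrix.transpose (mul_pj h)
        rw [Matrix.transpose_mul, hd.p₁.symm, (pr_pj hz).symm] at this
        rw [this, mul_pj h]
      · have e := mul_pj_zero' hd.p₁ hd.h13 hz h
        rw [e, (pr_pj hz).swap hd.p₁ e]
    refine ⟨?_, ?_, ?_⟩
    · rw [rf_val hz]
      exact (Commute.one_left _).sub_left (Commute.smul_left e3 _)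
    · rw [rf_val hz, sub_mul, one_mul, smul_mul_assoc, e1, smul_zero, sub_zero]
    · rw [rf_val hz]
      exact (Commute.one_left _).sub_left (Commute.smul_left (e1.trans e2.symm) _)
  obtain ⟨a1, a2, a3⟩ := aux hx (Or.inl hπx)
  obtain ⟨b1, b2, b3⟩ := aux hy hπy
  exact ⟨om_le_orth hmem, hM.inr_mem hmem, by rw [Units.val_mul]; exact a1.mul_left b1,
    by rw [Units.val_mul]; exact a3.mul_left b3, Or.inl (by rw [Units.val_mul, mul_assoc, b2, a2])⟩

/-- if the orbit of a unit vector spans the summand, everything is spanned -/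
theorem full_of_orbit {e : Fin k → F} (he : e ⬝ᵥ e = 1) (hπ : π₁ *ᵥ e = e)
    (h : ∀ w, π₁ *ᵥ w = w → w ∈ Submodule.span F {v | ∃ u, Um M π₁ π₂ u ∧ v = act u e}) :
    Full M π₁ π₂ := by
  have h2 := hM.hyp.h2
  have h0 : e ⬝ᵥ e ≠ 0 := by rw [he]; exact one_ne_zero
  have hpe : pj e ∈ Alg M π₁ π₂ := by
    have h1 := Submodule.subset_span (R := F) (s := {X | ∃ u, Um M π₁ π₂ u ∧ X = (u : Matrix (Fin k) (Fin k) F) * π₁})
      ⟨zz e, um_zz hM hd he hπ, rfl⟩
    have e1 : pj e * π₁ = pj e := by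
      have := congrArg Matrix.transpose (mul_pj hπ)
      rwa [Matrix.transpose_mul, hd.p₁.symm, (pr_pj h0).symm] at this
    have : pj e = (2 : F)⁻¹ • ((zz e : Matrix (Fin k) (Fin k) F) * π₁ + π₁) := by
      rw [zz_val h0, sub_mul, one_mul, smul_mul_assoc, e1, sub_add_cancel, inv_smul_smul₀ h2]
    rw [this]
    exact Submodule.smul_mem _ _ (add_mem h1 self_mem_alg)
  have horb : ∀ w, w ∈ Submodule.span F {v | ∃ u, Um M π₁ π₂ u ∧ v = act u e} → vecMulVec e w ∈ Alg M π₁ π₂ := by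
    intro w hw
    induction hw using Submodule.span_induction with
    | mem v hv =>
      obtain ⟨u, hu, rfl⟩ := hv
      have hu' := um_inv hu
      have h3 := alg_mul hd.p₁ hpe (Submodule.subset_span ⟨u⁻¹, hu', rfl⟩)
      have he2 : pj e * (((u⁻¹ : GL (Fin k) F) : Matrix (Fin k) (Fin k) F) * π₁) = vecMulVec e (act u e) := by
        rw [pj, he, inv_one, one_smul, Matrix.vecMulVec_mul, ← Matrix.mulVec_transpose, Matrix.transpose_mul,
          inv_val h2 hu.1, Matrix.transpose_transpose, hd.p₁.symm, ← Matrix.mulVec_mulVec]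
        congr 1
        rw [act_apply, Matrix.mulVec_mulVec, ← hu.2.2.1.eq, ← Matrix.mulVec_mulVec, hπ]
      rwa [he2] at h3
    | zero => rw [Matrix.vecMulVec_zero]; exact zero_mem _
    | add a b _ _ ha hb => rw [Matrix.vecMulVec_add]; exact add_mem ha hb
    | smul c a _ ha => rw [Matrix.vecMulVec_smul]; exact Submodule.smul_mem _ _ ha
  intro Y
  have key : ∀ x y, vecMulVec (π₁ *ᵥ x) (π₁ *ᵥ y) ∈ Alg M π₁ π₂ := fun x y => by
    have hx := horb _ (h _ (hd.p₁.mulVec_self x))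
    have hy := horb _ (h _ (hd.p₁.mulVec_self y))
    have h3 := alg_mul hd.p₁ (alg_transpose h2 hd.p₁ hx) hy
    rwa [Matrix.transpose_vecMulVec, Matrix.vecMulVec_mul_vecMulVec, he, one_smul] at h3
  rw [Matrix.matrix_eq_sum_single Y, Finset.mul_sum, Finset.sum_mul]
  refine sum_mem fun i _ => ?_
  rw [Finset.mul_sum, Finset.sum_mul]
  refine sum_mem fun j _ => ?_
  have : π₁ * Matrix.single i j (Y i j) * π₁ = Y i j • vecMulVec (π₁ *ᵥ Pi.single i 1) (π₁ *ᵥ Pi.single j 1) := by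
    rw [show Matrix.single i j (Y i j) = Y i j • vecMulVec (Pi.single i (1 : F)) (Pi.single j 1) by
        ext a b; simp [Matrix.single_apply, Matrix.vecMulVec_apply, Pi.single_apply, ← ite_and, and_comm, eq_comm],
      mul_smul_comm, smul_mul_assoc, Matrix.mul_vecMulVec, Matrix.vecMulVec_mul, ← Matrix.mulVec_transpose, hd.p₁.symm]
  rw [this]
  exact Submodule.smul_mem _ _ (key _ _)

omit [Finite F] in
/-- lines are spanned -/
theorem full_line (h1 : rk π₁ = 1) : Full M π₁ π₂ := by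
  obtain ⟨a, ha, -, hπ⟩ := eq_pj_of_rk hM.hyp.h2 hd.p₁ h1
  intro Y
  have : π₁ * Y * π₁ = ((a ⬝ᵥ a)⁻¹ * (a ⬝ᵥ Y *ᵥ a)) • π₁ := by
    rw [hπ, pj, smul_mul_assoc, smul_mul_assoc, mul_smul_comm, Matrix.vecMulVec_mul, Matrix.vecMulVec_mul_vecMulVec,
      ← Matrix.dotProduct_mulVec, Matrix.vecMulVec_smul, smul_smul, smul_smul, smul_smul]
    congr 1
    ring
  rw [this]
  exact Submodule.smul_mem _ _ self_mem_alg

/-- summands of rank at least three are spanned -/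
theorem full_three (h3 : 3 ≤ rk π₁) : Full M π₁ π₂ := by
  have h2 := hM.hyp.h2
  obtain ⟨e, hπe, he⟩ := exists_value_pr h2 hd.p₁ (by omega) (1 : F)
  have h0 : e ⬝ᵥ e ≠ 0 := by rw [he]; exact one_ne_zero
  refine full_of_orbit hM hd he hπe fun w₀ hw₀ => ?_
  set S := Submodule.span F {v | ∃ u, Um M π₁ π₂ u ∧ v = act u e}
  have heS : e ∈ S := Submodule.subset_span ⟨1, um_one _ _, (act_one e).symm⟩
  have hσ := hd.p₁.sub (pr_pj h0) (mul_pj hπe)
  have hr := rk_sub_pj hd.p₁ h0 hπe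
  have hxS : ∀ x, π₁ *ᵥ x = x → x ⬝ᵥ x ≠ 0 → x ⬝ᵥ e ≠ 0 → x ∈ S := by
    intro x hπx hx hxe
    obtain ⟨y, hσy, hy⟩ := exists_value_pr h2 hσ (by omega) (x ⬝ᵥ x)
    have hπy : π₁ *ᵥ y = y := by
      conv_lhs => rw [← hσy, Matrix.mulVec_mulVec, mul_sub, hd.p₁.idem, mul_pj hπe]
      exact hσy
    have hey : y ⬝ᵥ e = 0 := by
      rw [← hσy, hσ.dot, Matrix.sub_mulVec, hπe, pj_self h0, sub_self, dotProduct_zero]
    have hu : act (rf x * rf y) e = e - ((x ⬝ᵥ x)⁻¹ * (2 * (x ⬝ᵥ e))) • x := by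
      rw [act_mul, act_rf (a := y) (by rw [hy]; exact hx), hey, mul_zero, mul_zero, zero_smul, sub_zero, act_rf hx]
    have hmem : e - ((x ⬝ᵥ x)⁻¹ * (2 * (x ⬝ᵥ e))) • x ∈ S :=
      Submodule.subset_span ⟨_, um_rf_rf hM hd hx (by rw [hy]; exact ⟨_, rfl⟩) (by rw [hy]; exact hx) hπx (Or.inl hπy),
        hu.symm⟩
    have hc : ((x ⬝ᵥ x)⁻¹ * (2 * (x ⬝ᵥ e))) ≠ 0 := mul_ne_zero (inv_ne_zero hx) (mul_ne_zero h2 hxe)
    have := Submodule.smul_mem S ((x ⬝ᵥ x)⁻¹ * (2 * (x ⬝ᵥ e)))⁻¹ (sub_mem heS hmem)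
    rwa [sub_sub_cancel, inv_smul_smul₀ hc] at this
  have hperp : ∀ w, π₁ *ᵥ w = w → w ⬝ᵥ e = 0 → w ∈ S := by
    intro w hπw hwe
    by_cases hn : (e + w) ⬝ᵥ (e + w) = 0
    · have hww : w ⬝ᵥ w = -1 := by
        simp only [add_dotProduct, dotProduct_add, dotProduct_comm e w, hwe, he] at hn
        linear_combination hn
      have hw0 : w ⬝ᵥ w ≠ 0 := by rw [hww]; exact neg_ne_zero.2 one_ne_zero
      have hσw : (π₁ - pj e) *ᵥ w = w := by
        rw [Matrix.sub_mulVec, hπw, pj_mulVec, dotProduct_comm e w, hwe, mul_zero, zero_smul, sub_zero]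
      have hr' := rk_sub_pj hσ hw0 hσw
      have hτ := hσ.sub (pr_pj hw0) (mul_pj hσw)
      obtain ⟨v, hv, hv0⟩ := exists_aniso h2 hτ (fun e' => by rw [e', rk_zero] at hr'; omega)
      have hev : e ⬝ᵥ v = 0 := by
        rw [← hv, ← hτ.dot, Matrix.sub_mulVec, Matrix.sub_mulVec, hπe, pj_self h0, sub_self, pj_mulVec, hwe,
          mul_zero, zero_smul, sub_zero, zero_dotProduct]
      have hwv : w ⬝ᵥ v = 0 := by
        rw [← hv, ← hτ.dot, Matrix.sub_mulVec, hσw, pj_self hw0, sub_self, zero_dotProduct]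
      have hπv : π₁ *ᵥ v = v := by
        conv_lhs => rw [← hv, Matrix.mulVec_mulVec, mul_sub, mul_sub, hd.p₁.idem, mul_pj hπe, mul_pj hπw]
        exact hv
      have key : ∀ s : F, (s = 1 ∨ s = -1) → e + w + s • v ∈ S := by
        intro s hs
        have hs2 : s * s = 1 := by rcases hs with rfl | rfl <;> ring
        refine hxS _ (by simp [Matrix.mulVec_add, Matrix.mulVec_smul, hπe, hπw, hπv]) ?_ ?_
        · simp only [add_dotProduct, dotProduct_add, smul_dotProduct, dotProduct_smul, smul_eq_mul,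
            dotProduct_comm e w, hwe, he, hww, dotProduct_comm v e, hev, dotProduct_comm v w, hwv]
          intro e'
          exact hv0 (by linear_combination e' - (v ⬝ᵥ v) * hs2)
        · simp only [add_dotProduct, smul_dotProduct, smul_eq_mul, he, hwe, dotProduct_comm v e, hev]
          simp
      have h3 := Submodule.smul_mem S (2 : F)⁻¹ (sub_mem (add_mem (key 1 (Or.inl rfl)) (key (-1) (Or.inr rfl)))
        (Submodule.smul_mem S (2 : F) heS))
      rwa [show e + w + (1 : F) • v + (e + w + (-1 : F) • v) - (2 : F) • e = (2 : F) • w by module,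
        inv_smul_smul₀ h2] at h3
    · have := sub_mem (hxS (e + w) (by rw [Matrix.mulVec_add, hπe, hπw]) hn
        (by rw [add_dotProduct, he, hwe, add_zero]; exact one_ne_zero)) heS
      rwa [add_sub_cancel_left] at this
  have := add_mem (Submodule.smul_mem S (w₀ ⬝ᵥ e) heS) (hperp (w₀ - (w₀ ⬝ᵥ e) • e)
    (by rw [Matrix.mulVec_sub, Matrix.mulVec_smul, hw₀, hπe])
    (by rw [sub_dotProduct, smul_dotProduct, he, smul_eq_mul, mul_one, sub_self]))
  rwa [add_sub_cancel] at this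

/-- a plane is spanned unless every available element fixes the line of a unit vector -/
theorem full_or_fix (h1 : rk π₁ = 2) {e : Fin k → F} (he : e ⬝ᵥ e = 1) (hπe : π₁ *ᵥ e = e) :
    Full M π₁ π₂ ∨ ∀ u, Um M π₁ π₂ u → Commute (u : Matrix (Fin k) (Fin k) F) (pj e) := by
  have h2 := hM.hyp.h2
  have h0 : e ⬝ᵥ e ≠ 0 := by rw [he]; exact one_ne_zero
  by_cases hall : ∀ u, Um M π₁ π₂ u → ∃ c : F, act u e = c • e
  · refine Or.inr fun u hu => ?_
    obtain ⟨c, hc⟩ := hall u hu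
    have hc0 : c ≠ 0 := fun h => by
      have := dot_act h2 hu.1 e e
      rw [hc, h, zero_smul, zero_dotProduct, he] at this
      exact zero_ne_one this
    have := conj_pj h2 hu.1 e
    rw [hc, pj_smul hc0] at this
    calc (u : Matrix (Fin k) (Fin k) F) * pj e
        = (u : Matrix (Fin k) (Fin k) F) * pj e * ((u : Matrix (Fin k) (Fin k) F)ᵀ * (u : Matrix (Fin k) (Fin k) F)) := by
          rw [transpose_mul h2 hu.1, mul_one]
      _ = _ := by rw [← mul_assoc, this]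
  · push Not at hall
    obtain ⟨u, hu, hne⟩ := hall
    refine Or.inl (full_of_orbit hM hd he hπe fun w hw => ?_)
    set S := Submodule.span F {v | ∃ u, Um M π₁ π₂ u ∧ v = act u e}
    have hr := rk_sub_pj hd.p₁ h0 hπe
    obtain ⟨f, hf0, hσf, hσ⟩ := eq_pj_of_rk h2 (hd.p₁.sub (pr_pj h0) (mul_pj hπe)) (by omega)
    have hdec : ∀ v, π₁ *ᵥ v = v → v = (v ⬝ᵥ e) • e + ((f ⬝ᵥ f)⁻¹ * (f ⬝ᵥ v)) • f := fun v hv => by
      have e1 : (π₁ - pj e) *ᵥ v = pj f *ᵥ v := by rw [hσ]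
      rw [Matrix.sub_mulVec, hv, pj_mulVec, pj_mulVec, he, inv_one, one_mul, dotProduct_comm e v] at e1
      rw [← e1]; abel
    have heS : e ∈ S := Submodule.subset_span ⟨1, um_one _ _, (act_one e).symm⟩
    have hue : π₁ *ᵥ act u e = act u e := by
      rw [act_apply, Matrix.mulVec_mulVec, ← hu.2.2.1.eq, ← Matrix.mulVec_mulVec, hπe]
    have hd1 := hdec _ hue
    have hc : (f ⬝ᵥ f)⁻¹ * (f ⬝ᵥ act u e) ≠ 0 := fun h => hne (act u e ⬝ᵥ e) (by
      conv_lhs => rw [hd1, h, zero_smul, add_zero])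
    have hfS : f ∈ S := by
      have := Submodule.smul_mem S ((f ⬝ᵥ f)⁻¹ * (f ⬝ᵥ act u e))⁻¹
        (sub_mem (Submodule.subset_span ⟨u, hu, rfl⟩ : act u e ∈ S) (Submodule.smul_mem S (act u e ⬝ᵥ e) heS))
      rwa [show act u e - (act u e ⬝ᵥ e) • e = ((f ⬝ᵥ f)⁻¹ * (f ⬝ᵥ act u e)) • f by
        conv_lhs => arg 1; rw [hd1]
        abel, inv_smul_smul₀ hc] at this
    rw [hdec w hw]
    exact add_mem (Submodule.smul_mem _ _ heS) (Submodule.smul_mem _ _ hfS)

/-- a plane with an orthogonal pair of square norms is spanned when the third summand has rank two -/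
theorem full_square (h1 : rk π₁ = 2) (h3 : 2 ≤ rk π₃) {e f : Fin k → F} (he : e ⬝ᵥ e = 1) (hπe : π₁ *ᵥ e = e)
    (hπf : π₁ *ᵥ f = f) (hef : e ⬝ᵥ f = 0) (hf : f ⬝ᵥ f = 1) : Full M π₁ π₂ := by
  have h2 := hM.hyp.h2
  refine (full_or_fix hM hd h1 he hπe).resolve_right fun hall => ?_
  obtain ⟨z, hz, hzz⟩ := exists_value_pr h2 hd.p₃ h3 (2 : F)
  have hx : (e + f) ⬝ᵥ (e + f) = 2 := by
    simp only [add_dotProduct, dotProduct_add, he, hf, dotProduct_comm f e, hef]; ring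
  have hu := um_rf_rf hM hd (x := e + f) (y := z) (by rw [hx]; exact h2) (by rw [hx, hzz]; exact ⟨2, rfl⟩)
    (by rw [hzz]; exact h2) (by rw [Matrix.mulVec_add, hπe, hπf]) (Or.inr hz)
  have hze : z ⬝ᵥ e = 0 := by
    rw [← hz, hd.p₃.dot, ← hπe, Matrix.mulVec_mulVec, hd.p₁.swap hd.p₃ hd.h13, Matrix.zero_mulVec, dotProduct_zero]
  have hact : act (rf (e + f) * rf z) e = -f := by
    rw [act_mul, act_rf (a := z) (by rw [hzz]; exact h2), hze, mul_zero, mul_zero, zero_smul, sub_zero,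
      act_rf (by rw [hx]; exact h2), hx, add_dotProduct, he, dotProduct_comm f e, hef, add_zero, mul_one,
      inv_mul_cancel₀ h2, one_smul]
    abel
  have h0 : e ⬝ᵥ e ≠ 0 := by rw [he]; exact one_ne_zero
  have e1 := congrArg (· *ᵥ e) (hall _ hu).eq
  simp only [← Matrix.mulVec_mulVec, pj_self h0] at e1
  rw [← act_apply, hact, pj_mulVec, dotProduct_neg, hef, neg_zero, mul_zero, zero_smul, neg_eq_zero] at e1
  exact one_ne_zero (α := F) (by rw [← hf, e1, dotProduct_zero])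

end Cfsg.Agent.MaxCl.TOrth
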