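/-
Elements that are pure on each of three summands: their parts are scalar.
-/
import Cfsg.Agent.Lib.MaxCl.TOrthFull

set_option autoImplicit false
set_option linter.unusedSectionVars false

namespace Cfsg.Agent.MaxCl.TOrth

open Matrix
open TW (tk pm pg rt rid spl sl Wr)
open scoped MatrixGroups Kronecker

variable {F : Type*} [Field F] {k : ℕ}

section Single

variable [Finite F] (hh : Hyp k F)
include hh

/-- an equivariant representation of the derived group into the special isometries -/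
theorem equiv_hom (ψ : ↥(Om (Fin k) F) →* GL (Fin k) F) (hSO : ∀ y, SO (ψ y))
    (heq : ∀ h y : ↥(Om (Fin k) F), ψ (h * y * h⁻¹) = (h : GL (Fin k) F) * ψ y * (h : GL (Fin k) F)⁻¹) :
    (∀ y, ψ y = 1) ∨ ∀ y, ψ y = y := by
  have h2 := hh.h2
  by_cases htriv : ∀ y, ψ y = 1
  · exact Or.inl htriv
  push Not at htriv
  obtain ⟨y, hy⟩ := htriv
  obtain ⟨h, hh'⟩ : ∃ h : ↥(Om (Fin k) F), (h : GL (Fin k) F) * ψ y * (h : GL (Fin k) F)⁻¹ * (ψ y)⁻¹ ≠ 1 := by
    by_contra hc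
    push Not at hc
    obtain ⟨c, hcc⟩ := commutant h2 hh.odd' hh.three' (M := (ψ y : Matrix (Fin k) (Fin k) F)) fun w hw =>
      (congrArg Units.val (mul_inv_eq_iff_eq_mul.1 (mul_inv_eq_one.1 (hc ⟨w, hw⟩)))).symm
    exact hy (so_eq_of_smul hh.odd h2 so_one (hSO y) (c := c) (by rw [Units.val_one]; exact hcc)).2.symm
  set N : Subgroup (GL (Fin k) F) := ψ.range
  have hN : ∀ a ∈ Om (Fin k) F, ∀ x ∈ N, a * x * a⁻¹ ∈ N := by
    rintro a ha _ ⟨z, rfl⟩
    let A : ↥(Om (Fin k) F) := ⟨a, ha⟩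
    exact MonoidHom.mem_range.2 ⟨A * z * A⁻¹, heq A z⟩
  have hmem : (h : GL (Fin k) F) * ψ y * (h : GL (Fin k) F)⁻¹ * (ψ y)⁻¹ ∈ N :=
    mul_mem (hN _ h.2 _ ⟨y, rfl⟩) (inv_mem ⟨y, rfl⟩)
  have hOm : (h : GL (Fin k) F) * ψ y * (h : GL (Fin k) F)⁻¹ * (ψ y)⁻¹ ∈ Om (Fin k) F :=
    commutator_mem_om (om_le_orth h.2) (hSO y).1
  have hall := om_le_of_normal h2 hh.odd' hh.three' hh.big' (fun a ha x hx _ => hN a ha x hx) hmem hOm hh'
  refine Or.inr fun g => ?_
  obtain ⟨c, hc⟩ := commutant h2 hh.odd' hh.three'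
    (M := (((g : GL (Fin k) F)⁻¹ * ψ g : GL (Fin k) F) : Matrix (Fin k) (Fin k) F)) fun w hw => by
      obtain ⟨z, rfl⟩ := hall hw
      refine congrArg Units.val (?_ : (g : GL (Fin k) F)⁻¹ * ψ g * ψ z = ψ z * ((g : GL (Fin k) F)⁻¹ * ψ g))
      have e : ψ g * ψ z * (ψ g)⁻¹ = (g : GL (Fin k) F) * ψ z * (g : GL (Fin k) F)⁻¹ := by
        rw [← heq, map_mul, map_mul, map_inv]
      calc (g : GL (Fin k) F)⁻¹ * ψ g * ψ z = (g : GL (Fin k) F)⁻¹ * (ψ g * ψ z * (ψ g)⁻¹) * ψ g := by group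
        _ = _ := by rw [e]; group
  have hso : SO ((g : GL (Fin k) F)⁻¹ * ψ g) := (so_of_om h2 g.2).inv.mul (hSO g)
  exact (inv_mul_eq_one.1 (so_eq_of_smul hh.odd h2 so_one hso (c := c) (by rw [Units.val_one]; exact hc)).2.symm).symm

omit hh [Finite F] in
theorem sl_eq_rt {T : Type} [Fintype T] [DecidableEq T] (r : T) (C : GL (Fin k) F) :
    (rt r C : Matrix (T → Fin k) (T → Fin k) F) = sl r (C : Matrix (Fin k) (Fin k) F) := by
  rw [TW.rt_eq, TW.tk_val]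
  refine congrArg pm (funext fun s => ?_)
  rcases eq_or_ne s r with rfl | h
  · simp
  · simp [h]

end Single

variable {T : Type} [Fintype T] [DecidableEq T] {M : Subgroup (GL ((T → Fin k) × Fin k) F)}

/-- three pure parts -/
def pel (π₁ π₂ π₃ : Matrix (Fin k) (Fin k) F) (A₁ A₂ : Matrix (T → Fin k) (T → Fin k) F) :
    Matrix ((T → Fin k) × Fin k) ((T → Fin k) × Fin k) F :=
  A₁ ⊗ₖ π₁ + A₂ ⊗ₖ π₂ + rgt _ π₃

variable {π₁ π₂ π₃ : Matrix (Fin k) (Fin k) F}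

theorem pel_mul (hd : Dec π₁ π₂ π₃) (A₁ A₂ B₁ B₂ : Matrix (T → Fin k) (T → Fin k) F) :
    pel π₁ π₂ π₃ A₁ A₂ * pel π₁ π₂ π₃ B₁ B₂ = pel π₁ π₂ π₃ (A₁ * B₁) (A₂ * B₂) := by
  have h21 := hd.p₁.swap hd.p₂ hd.h12
  have h31 := hd.p₁.swap hd.p₃ hd.h13
  have h32 := hd.p₂.swap hd.p₃ hd.h23
  simp only [pel, rgt, add_mul, mul_add, ← Matrix.mul_kronecker_mul, hd.p₁.idem, hd.p₂.idem, hd.p₃.idem, hd.h12,
    hd.h13, hd.h23, h21, h31, h32, Matrix.kronecker_zero, add_zero, zero_add, one_mul, mul_one]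

theorem pel_one (hd : Dec π₁ π₂ π₃) :
    pel π₁ π₂ π₃ (1 : Matrix (T → Fin k) (T → Fin k) F) 1 = 1 := by
  show rgt _ π₁ + rgt _ π₂ + rgt _ π₃ = _
  rw [← rgt_add, ← rgt_add, hd.sum, rgt_one]

theorem pel_transpose (hd : Dec π₁ π₂ π₃) (A₁ A₂ : Matrix (T → Fin k) (T → Fin k) F) :
    (pel π₁ π₂ π₃ A₁ A₂)ᵀ = pel π₁ π₂ π₃ A₁ᵀ A₂ᵀ := by
  simp only [pel, rgt, Matrix.transpose_add, ← Matrix.kroneckerMap_transpose, hd.p₁.symm, hd.p₂.symm, hd.p₃.symm,
    Matrix.transpose_one]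

theorem inl_mul_pel (a : GL (T → Fin k) F) (A₁ A₂ : Matrix (T → Fin k) (T → Fin k) F) :
    (inl _ k F a : Matrix ((T → Fin k) × Fin k) ((T → Fin k) × Fin k) F) * pel π₁ π₂ π₃ A₁ A₂ *
        (inl _ k F a⁻¹ : Matrix ((T → Fin k) × Fin k) ((T → Fin k) × Fin k) F) =
      pel π₁ π₂ π₃ ((a : Matrix (T → Fin k) (T → Fin k) F) * A₁ * ((a⁻¹ : GL (T → Fin k) F) : Matrix _ _ F))
        ((a : Matrix (T → Fin k) (T → Fin k) F) * A₂ * ((a⁻¹ : GL (T → Fin k) F) : Matrix _ _ F)) := by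
  simp only [pel, rgt, inl_val, add_mul, mul_add, ← Matrix.mul_kronecker_mul, one_mul, mul_one, ← Units.val_mul,
    mul_inv_cancel, Units.val_one]

/-- the pairs of parts -/
def Pel (M : Subgroup (GL ((T → Fin k) × Fin k) F)) (π₁ π₂ π₃ : Matrix (Fin k) (Fin k) F)
    (A₁ A₂ : GL (T → Fin k) F) : Prop :=
  A₁ ∈ Orth (T → Fin k) F ∧ A₂ ∈ Orth (T → Fin k) F ∧ ∃ g ∈ M,
    (g : Matrix ((T → Fin k) × Fin k) ((T → Fin k) × Fin k) F) = pel π₁ π₂ π₃ (A₁ : Matrix _ _ F) (A₂ : Matrix _ _ F)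

variable (hh : Hyp k F) (hd : Dec π₁ π₂ π₃)
include hh hd

theorem Pel.one : Pel M π₁ π₂ π₃ (1 : GL (T → Fin k) F) 1 :=
  ⟨one_mem _, one_mem _, 1, one_mem _, by rw [Units.val_one, Units.val_one, pel_one hd]⟩

theorem Pel.mul {A₁ A₂ B₁ B₂ : GL (T → Fin k) F} (h : Pel M π₁ π₂ π₃ A₁ A₂) (h' : Pel M π₁ π₂ π₃ B₁ B₂) :
    Pel M π₁ π₂ π₃ (A₁ * B₁) (A₂ * B₂) := by
  obtain ⟨a, b, g, hg, e⟩ := h
  obtain ⟨a', b', g', hg', e'⟩ := h'
  exact ⟨mul_mem a a', mul_mem b b', g * g', mul_mem hg hg', by rw [Units.val_mul, e, e', pel_mul hd]; rfl⟩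

variable (hle : M ≤ Orth ((T → Fin k) × Fin k) F)
include hle

theorem Pel.inv {A₁ A₂ : GL (T → Fin k) F} (h : Pel M π₁ π₂ π₃ A₁ A₂) : Pel M π₁ π₂ π₃ A₁⁻¹ A₂⁻¹ := by
  obtain ⟨a, b, g, hg, e⟩ := h
  exact ⟨inv_mem a, inv_mem b, g⁻¹, inv_mem hg, by
    rw [inv_val hh.h2 (hle hg), inv_val hh.h2 a, inv_val hh.h2 b, e, pel_transpose hd]⟩

theorem Pel.comm {A₁ A₂ B₁ B₂ : GL (T → Fin k) F} (h : Pel M π₁ π₂ π₃ A₁ A₂) (h' : Pel M π₁ π₂ π₃ B₁ B₂) :
    Pel M π₁ π₂ π₃ (A₁ * B₁ * A₁⁻¹ * B₁⁻¹) (A₂ * B₂ * A₂⁻¹ * B₂⁻¹) :=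
  Pel.mul hh hd (Pel.mul hh hd (Pel.mul hh hd h h') (h.inv hh hd hle)) (h'.inv hh hd hle)

variable [Finite F] (hM : Ctx T k F M)
include hM

omit hle in
theorem Pel.conj {A₁ A₂ : GL (T → Fin k) F} (h : Pel M π₁ π₂ π₃ A₁ A₂) {a : GL (T → Fin k) F}
    (ha : a ∈ Wr T k F) (ha' : a ∈ Om (T → Fin k) F) : Pel M π₁ π₂ π₃ (a * A₁ * a⁻¹) (a * A₂ * a⁻¹) := by
  obtain ⟨o₁, o₂, g, hg, e⟩ := h
  have haO := om_le_orth ha'
  refine ⟨mul_mem (mul_mem haO o₁) (inv_mem haO), mul_mem (mul_mem haO o₂) (inv_mem haO), _,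
    mul_mem (mul_mem (hM.inl_mem ha ha') hg) (inv_mem (hM.inl_mem ha ha')), ?_⟩
  rw [← map_inv, Units.val_mul, Units.val_mul, e, inl_mul_pel]
  rfl

omit hle in
/-- the first part is scalar -/
theorem pel_scalar (h1 : π₁ ≠ 0) (h3 : π₃ ≠ 0) (htriv : Triv M π₂) {A₁ A₂ : GL (T → Fin k) F}
    (hA : Pel M π₁ π₂ π₃ A₁ A₂) : ∃ c : F, (A₁ : Matrix (T → Fin k) (T → Fin k) F) = c • 1 := by
  have h2 := hh.h2
  have hle := hM.le
  by_contra hsc
  push Not at hsc
  let G₁ : Subgroup (GL (T → Fin k) F) :=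
    { carrier := {A | ∃ B, Pel M π₁ π₂ π₃ A B}
      one_mem' := ⟨1, Pel.one hh hd⟩
      mul_mem' := fun ⟨B, hB⟩ ⟨B', hB'⟩ => ⟨B * B', Pel.mul hh hd hB hB'⟩
      inv_mem' := fun ⟨B, hB⟩ => ⟨B⁻¹, hB.inv hh hd hle⟩ }
  obtain ⟨r, hr⟩ := exists_slot hh hM.max (G := G₁) (fun A ⟨B, hB⟩ => hB.1)
    (fun a ha A ⟨B, hB⟩ => ⟨a * B * a⁻¹, hB.conj hh hd hM ha.1 ha.2⟩) (⟨A₂, hA⟩ : A₁ ∈ G₁) hsc
  choose B hB using fun y : ↥(Om (Fin k) F) => hr y y.2
  haveI : Nonempty (T → Fin k) := ⟨fun _ => ⟨0, hh.odd.pos⟩⟩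
  -- a commutator of the factor
  obtain ⟨y, y', hyy⟩ : ∃ y y' : ↥(Om (Fin k) F),
      (y : GL (Fin k) F) * y' * (y : GL (Fin k) F)⁻¹ * (y' : GL (Fin k) F)⁻¹ ≠ 1 := by
    by_contra hc
    push Not at hc
    obtain ⟨i⟩ : Nonempty (Fin k) := ⟨⟨0, hh.odd.pos⟩⟩
    have hz := zz_single_mem h2 hh.odd' (F := F) i
    have e := eq_one_of_central h2 hh.odd' hh.three' hz fun w hw =>
      mul_inv_eq_iff_eq_mul.1 (mul_inv_eq_one.1 (hc ⟨_, hz⟩ ⟨w, hw⟩))
    obtain ⟨j, hj⟩ := Fintype.exists_ne_of_one_lt_card (by have := hh.three'; omega) i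
    have e' : (zz (Pi.single i (1 : F)) : Matrix (Fin k) (Fin k) F) j j =
        ((1 : GL (Fin k) F) : Matrix (Fin k) (Fin k) F) j j := by rw [e]
    rw [zz_val (by simp), Units.val_one] at e'
    simp [pj, Matrix.vecMulVec_apply, hj] at e'
    exact h2 (by linear_combination -e')
  set y'' : ↥(Om (Fin k) F) := y * y' * y⁻¹ * y'⁻¹ with hy''
  have hy1 : (y'' : GL (Fin k) F) ≠ 1 := hyy
  -- the seed
  have seed : ∀ π : Matrix (Fin k) (Fin k) F, Pr π → π ≠ 0 → π ≠ 1 → ∀ g ∈ M,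
      (g : Matrix ((T → Fin k) × Fin k) ((T → Fin k) × Fin k) F) ≠ el r π y'' :=
    fun π hπ h0 h1' => hM.noSeed r π y'' hπ h0 h1' y''.2 hy1
  have hπ1 : π₁ ≠ 1 := fun e => h3 (by have := hd.h13; rwa [e, one_mul] at this)
  by_cases hπ2 : π₂ = 0
  · obtain ⟨-, -, g, hg, e⟩ := hB y''
    refine seed π₁ hd.p₁ h1 hπ1 g hg ?_
    rw [e, el, pel, hπ2, Matrix.kronecker_zero, add_zero, hd.one_sub, hπ2, zero_add, add_comm]
  -- uniqueness of the second part up to a scalar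
  have uniq : ∀ {A B B' : GL (T → Fin k) F}, Pel M π₁ π₂ π₃ A B → Pel M π₁ π₂ π₃ A B' →
      ∃ c : F, (B' : Matrix (T → Fin k) (T → Fin k) F) = c • (B : Matrix (T → Fin k) (T → Fin k) F) := by
    intro A B B' hAB hAB'
    obtain ⟨-, oB, g, hg, e⟩ := Pel.mul hh hd (hAB.inv hh hd hle) hAB'
    rw [inv_mul_cancel, Units.val_one] at e
    have hInR : InR M π₂ g := by
      refine ⟨hg, ?_, π₁ + π₃, ?_⟩
      · rw [e]
        show pel π₁ π₂ π₃ _ _ * rgt _ π₂ = rgt _ π₂ * pel π₁ π₂ π₃ _ _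
        simp only [pel, rgt, add_mul, mul_add, ← Matrix.mul_kronecker_mul, hd.h12, hd.swap.h12,
          hd.p₃.swap hd.p₂ (hd.p₂.swap hd.p₃ hd.h23), hd.p₂.swap hd.p₃ hd.h23, hd.p₂.idem, Matrix.kronecker_zero,
          add_zero, zero_add, one_mul, mul_one]
      · rw [e, hd.swap.one_sub]
        simp only [pel, rgt, add_mul, mul_add, ← Matrix.mul_kronecker_mul, hd.h12, hd.h13, hd.h23, hd.swap.h12,
          hd.p₁.swap hd.p₃ hd.h13, hd.p₂.swap hd.p₃ hd.h23, hd.p₁.idem, hd.p₃.idem, Matrix.kronecker_zero,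
          add_zero, zero_add, one_mul, mul_one, Matrix.kronecker_add]
    obtain ⟨C, hC⟩ := htriv g hInR
    obtain ⟨a, b, hab⟩ : ∃ a b, π₂ a b ≠ 0 := by
      by_contra hn
      push Not at hn
      exact hπ2 (Matrix.ext hn)
    have e2 := congrArg (fun m => m * rgt _ π₂) (hC.symm.trans e)
    simp only [pel, rgt, add_mul, ← Matrix.mul_kronecker_mul, hd.h12, hd.p₂.swap hd.p₃ hd.h23, hd.p₂.idem,
      Matrix.kronecker_zero, add_zero, zero_add, one_mul, mul_one] at e2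
    refine ⟨(C * π₂) a b / π₂ a b, ?_⟩
    have hone : ((B⁻¹ * B' : GL (T → Fin k) F) : Matrix (T → Fin k) (T → Fin k) F) =
        ((C * π₂) a b / π₂ a b) • (1 : Matrix (T → Fin k) (T → Fin k) F) := by
      ext p q
      have e3 := congrFun (congrFun e2 (p, a)) (q, b)
      simp only [Matrix.kroneckerMap_apply] at e3
      rw [Matrix.smul_apply, smul_eq_mul, div_mul_eq_mul_div, eq_div_iff hab, mul_comm ((C * π₂) a b)]
      exact e3.symm
    calc (B' : Matrix (T → Fin k) (T → Fin k) F) = (B : Matrix (T → Fin k) (T → Fin k) F) *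
          ((B⁻¹ * B' : GL (T → Fin k) F) : Matrix (T → Fin k) (T → Fin k) F) := by
          rw [← Units.val_mul, mul_inv_cancel_left]
      _ = _ := by rw [hone, mul_smul_comm, mul_one]
  -- the second part of a slot element lies in that slot
  have hslot : ∀ y, ∃ (w : GL (Fin k) F) (ε : F), SO w ∧
      (B y : Matrix (T → Fin k) (T → Fin k) F) = ε • (rt r w : Matrix (T → Fin k) (T → Fin k) F) := by
    intro y
    have hBO := (hB y).2.1
    obtain ⟨C, hC⟩ := rgt_of_commute (T := {s // s ≠ r}) hh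
      (G := (rid r (B y) : Matrix (({s // s ≠ r} → Fin k) × Fin k) (({s // s ≠ r} → Fin k) × Fin k) F)) fun u hu => by
        let v : T → GL (Fin k) F := fun s => if hs : s = r then 1 else u ⟨s, hs⟩
        have hv : ∀ s, v s ∈ Om (Fin k) F := fun s => by
          simp only [v]; split_ifs
          · exact one_mem _
          · exact hu _
        have hcm : Commute (tk v) (rt r (y : GL (Fin k) F)) := by
          rw [TW.rt_eq]
          refine (Commute.map ?_ tk)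
          refine funext fun s => ?_
          rcases eq_or_ne s r with rfl | hs
          · simp [v]
          · simp [hs]
        have h' := (hB y).conj hh hd hM (TW.tk_mem v) (tk_om h2 hv)
        rw [hcm.eq, mul_inv_cancel_right] at h'
        obtain ⟨c, hc⟩ := uniq (hB y) h'
        set ψv : GL (T → Fin k) F := tk v * B y * (tk v)⁻¹ with hψv
        -- the scalar is one by a perfectness argument: compare determinants
        have hcomm : Commute (tk v) (B y) := by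
          have hscal : ∀ w : T → GL (Fin k) F, (∀ s, w s ∈ Om (Fin k) F) → (∀ s, s = r → w s = 1) →
              ∃ e : F, ((B y * tk w * (B y)⁻¹ * (tk w)⁻¹ : GL (T → Fin k) F) : Matrix (T → Fin k) (T → Fin k) F) =
                e • 1 := by
            intro w hw hwr
            have hcm' : Commute (tk w) (rt r (y : GL (Fin k) F)) := by
              rw [TW.rt_eq]
              refine (Commute.map ?_ tk)
              refine funext fun s => ?_
              rcases eq_or_ne s r with rfl | hs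
              · simp [hwr s rfl]
              · simp [hs]
            have h'' := (hB y).conj hh hd hM (TW.tk_mem w) (tk_om h2 hw)
            rw [hcm'.eq, mul_inv_cancel_right] at h''
            obtain ⟨e, he⟩ := uniq h'' (hB y)
            refine ⟨e, ?_⟩
            rw [show B y * tk w * (B y)⁻¹ * (tk w)⁻¹ = B y * (tk w * B y * (tk w)⁻¹)⁻¹ by group, Units.val_mul]
            rw [he, smul_mul_assoc, ← Units.val_mul, mul_inv_cancel, Units.val_one]
          have hdet : ∀ w : T → GL (Fin k) F, ∀ e : F,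
              ((B y * tk w * (B y)⁻¹ * (tk w)⁻¹ : GL (T → Fin k) F) : Matrix (T → Fin k) (T → Fin k) F) = e • 1 →
              (∀ s, w s ∈ Om (Fin k) F) → e = 1 := by
            intro w e he hw
            have hmem : B y * tk w * (B y)⁻¹ * (tk w)⁻¹ ∈ Om (T → Fin k) F :=
              commutator_mem_om hBO (om_le_orth (tk_om h2 hw))
            have hd1 := det_one h2 hmem
            rw [he, Matrix.det_smul, Matrix.det_one, mul_one] at hd1
            have htr := transpose_mul h2 (om_le_orth hmem)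
            rw [he, Matrix.transpose_smul, Matrix.transpose_one, smul_mul_smul_comm, mul_one] at htr
            obtain ⟨p⟩ := ‹Nonempty (T → Fin k)›
            have hee : e * e = 1 := by simpa using congrFun (congrFun htr p) p
            obtain ⟨m, hm⟩ := hh.card_odd T
            rwa [hm, pow_succ, pow_mul, pow_two, hee, one_pow, one_mul] at hd1
          obtain ⟨e, he⟩ := hscal v hv (fun s hs => by simp [v, hs])
          rw [hdet v e he hv, one_smul] at he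
          have : B y * tk v * (B y)⁻¹ * (tk v)⁻¹ = 1 := Units.ext (by rw [he, Units.val_one])
          exact (mul_inv_eq_iff_eq_mul.1 (mul_inv_eq_one.1 this)).symm
        have hkr : rid r (tk v) = inl _ k F (tk u) := by
          rw [TW.rid_tk]
          have e1 : (fun s : {s // s ≠ r} => v s.1) = u := funext fun s => dif_neg s.2
          have e2 : v r = 1 := dif_pos rfl
          rw [e1, e2]
          rfl
        show Commute _ _
        rw [← hkr]
        exact (congrArg Units.val (hcomm.symm.map (rid r).toMonoidHom).eq : _)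
    have hβ : Nonempty ({s // s ≠ r} → Fin k) := ⟨fun _ => ⟨0, hh.odd.pos⟩⟩
    have hOrth : (rid r (B y)) ∈ Orth (({s // s ≠ r} → Fin k) × Fin k) F := (rid_orth_iff h2 r).2 hBO
    have hCt : Cᵀ * C = 1 := rgt_inj (β := {s // s ≠ r} → Fin k) (by
      rw [← rgt_mul, ← rgt_transpose, ← hC, transpose_mul h2 hOrth, rgt_one])
    let Cu : GL (Fin k) F := ⟨C, Cᵀ, mul_eq_one_comm.1 hCt, hCt⟩
    have hCu : Cu ∈ Orth (Fin k) F := (mem_orth_iff h2).2 hCt
    have hBy : B y = rt r Cu := (rid r).injective (Units.ext (by rw [hC, rid_rt']; rfl))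
    rcases det_orth h2 hCu with hdC | hdC
    · exact ⟨Cu, 1, ⟨hCu, hdC⟩, by rw [hBy, one_smul]⟩
    · refine ⟨-Cu, -1, ⟨?_, ?_⟩, ?_⟩
      · rw [mem_orth_iff h2, Units.val_neg, Matrix.transpose_neg, neg_mul_neg]
        exact hCt
      · rw [Units.val_neg, Matrix.det_neg, hdC, Fintype.card_fin, hh.odd.neg_one_pow]; ring
      · rw [hBy, sl_eq_rt, sl_eq_rt, Units.val_neg, ← neg_one_smul F (Cu : Matrix (Fin k) (Fin k) F)]
        show sl r _ = (-1 : F) • pm (Function.update 1 r _)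
        rw [TW.pm_update_smul, smul_smul, neg_mul_neg, one_mul, one_smul]
        rfl
  choose w ε hw hBw using hslot
  -- it is a homomorphism and equivariant
  have hu' : ∀ {A : GL (T → Fin k) F} {B₁ : GL (T → Fin k) F} (y : ↥(Om (Fin k) F)) {v : GL (Fin k) F} {c : F},
      SO v → Pel M π₁ π₂ π₃ A B₁ → A = rt r (y : GL (Fin k) F) →
      (B₁ : Matrix (T → Fin k) (T → Fin k) F) = c • (rt r v : Matrix (T → Fin k) (T → Fin k) F) → w y = v := by
    intro A B₁ y v c hv hP hAy hB₁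
    subst hAy
    obtain ⟨d, hd'⟩ := uniq (hB y) hP
    rw [hB₁, hBw, smul_smul] at hd'
    have hεc : c ≠ 0 := fun h => by
      have hu := B₁.mul_inv
      rw [hB₁, h, zero_smul, zero_mul] at hu
      exact zero_ne_one hu
    rw [eq_comm, ← eq_inv_smul_iff₀ (by
      intro h0
      rw [h0, zero_smul, eq_comm, smul_eq_zero] at hd'
      rcases hd' with h | h
      · exact hεc h
      · exact (rt r v).ne_zero h), smul_smul] at hd'
    -- compare inside the slot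
    have e1 := congrArg (fun m => m.submatrix (spl (m := k) r).symm (spl (m := k) r).symm) hd'
    simp only [Matrix.submatrix_smul, Pi.smul_apply, ← TW.rid_val, rid_rt', inr_val] at e1
    haveI : Nonempty ({s // s ≠ r} → Fin k) := ⟨fun _ => ⟨0, hh.odd.pos⟩⟩
    have e2 := rgt_inj (β := {s // s ≠ r} → Fin k) (C := (w y : Matrix (Fin k) (Fin k) F))
      (D := ((d * ε y)⁻¹ * c) • (v : Matrix (Fin k) (Fin k) F)) (by rw [rgt_smul]; exact e1)
    exact (so_eq_of_smul hh.odd h2 hv (hw y) e2).2.symm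
  have hrt : ∀ a b : GL (Fin k) F, rt r (a * b) = rt r a * rt r b := fun a b => map_mul _ _ _
  let ψ : ↥(Om (Fin k) F) →* GL (Fin k) F :=
    MonoidHom.mk' w fun a b => hu' (a * b) ((hw a).mul (hw b)) (Pel.mul hh hd (hB a) (hB b)) (by rw [Subgroup.coe_mul, hrt])
      (c := ε a * ε b) (by rw [Units.val_mul, hBw, hBw, smul_mul_smul_comm, ← Units.val_mul, ← hrt])
  have heq : ∀ h y : ↥(Om (Fin k) F), ψ (h * y * h⁻¹) = (h : GL (Fin k) F) * ψ y * (h : GL (Fin k) F)⁻¹ := by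
    intro h y
    refine hu' (h * y * h⁻¹) (c := ε y) ((so_of_om h2 h.2).mul (hw y) |>.mul (so_of_om h2 h.2).inv)
      ((hB y).conj hh hd hM (TW.rt_mem r (h : GL (Fin k) F)) (rt_om h2 r h.2)) ?_ ?_
    · rw [Subgroup.coe_mul, Subgroup.coe_mul, hrt, hrt, Subgroup.coe_inv, map_inv]
    · rw [Units.val_mul, Units.val_mul, hBw, mul_smul_comm, smul_mul_assoc, ← Units.val_mul, ← Units.val_mul, hrt,
        hrt, map_inv]
      rfl
  -- commutators remove the signs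
  have hcom : ∀ a b : GL (T → Fin k) F, (B y : Matrix (T → Fin k) (T → Fin k) F) = ε y • (a : Matrix _ _ F) →
      (B y' : Matrix (T → Fin k) (T → Fin k) F) = ε y' • (b : Matrix _ _ F) →
      B y * B y' * (B y)⁻¹ * (B y')⁻¹ = a * b * a⁻¹ * b⁻¹ := by
    intro a b ha hb
    have hz : ∀ (X Y : GL (T → Fin k) F) (c : F), (X : Matrix (T → Fin k) (T → Fin k) F) = c • (Y : Matrix _ _ F) →
        ∀ Z : GL (T → Fin k) F, X * Z * X⁻¹ = Y * Z * Y⁻¹ := by
      intro X Y c hXY Z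
      have hc : c ≠ 0 := fun h => X.ne_zero (by rw [hXY, h, zero_smul])
      have hi : ((X⁻¹ : GL (T → Fin k) F) : Matrix (T → Fin k) (T → Fin k) F) =
          c⁻¹ • ((Y⁻¹ : GL (T → Fin k) F) : Matrix (T → Fin k) (T → Fin k) F) := by
        have h1 : (X : Matrix (T → Fin k) (T → Fin k) F) *
            (c⁻¹ • ((Y⁻¹ : GL (T → Fin k) F) : Matrix (T → Fin k) (T → Fin k) F)) = 1 := by
          rw [hXY, smul_mul_smul_comm, mul_inv_cancel₀ hc, one_smul, ← Units.val_mul, mul_inv_cancel, Units.val_one]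
        exact Units.inv_eq_of_mul_eq_one_right h1
      refine Units.ext ?_
      simp only [Units.val_mul, hXY, hi, smul_mul_assoc, mul_smul_comm, smul_smul]
      rw [inv_mul_cancel₀ hc, one_smul]
    have e1 := hz _ _ _ ha (B y')
    rw [e1]
    have e2 := hz _ _ _ hb a⁻¹
    calc a * B y' * a⁻¹ * (B y')⁻¹ = a * (B y' * a⁻¹ * (B y')⁻¹) := by group
      _ = _ := by rw [e2]; group
  have hP := Pel.comm hh hd hle (hB y) (hB y')
  rw [hcom _ _ (hBw y) (hBw y')] at hP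
  have e1 : rt r (y : GL (Fin k) F) * rt r (y' : GL (Fin k) F) * (rt r (y : GL (Fin k) F))⁻¹ * (rt r (y' : GL (Fin k) F))⁻¹ =
      rt r (y'' : GL (Fin k) F) := by
    simp only [hy'', Subgroup.coe_mul, Subgroup.coe_inv, map_mul, map_inv]
  rw [e1] at hP
  rcases equiv_hom hh ψ hw heq with htr | hid
  · rw [show w y = 1 from htr y, show w y' = 1 from htr y', map_one] at hP
    simp only [mul_one, inv_one] at hP
    obtain ⟨-, -, g, hg, e⟩ := hP
    refine seed π₁ hd.p₁ h1 hπ1 g hg ?_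
    rw [e, el, pel, hd.one_sub, Units.val_one, rgt_add]
    abel
  · rw [show w y = y from hid y, show w y' = y' from hid y', e1] at hP
    obtain ⟨-, -, g, hg, e⟩ := hP
    refine seed (π₁ + π₂) (hd.p₁.add hd.p₂ hd.h12) (fun h => h1 ?_) (fun h => h3 ?_) g hg ?_
    · have := congrArg (π₁ * ·) h
      simpa [mul_add, hd.p₁.idem, hd.h12] using this
    · have e' := congrArg (· * π₃) h
      simp only [add_mul, hd.h13, hd.h23, add_zero, one_mul] at e'
      exact e'.symm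
    · rw [e, el, pel, show 1 - (π₁ + π₂) = π₃ by rw [← hd.sum]; abel, Matrix.kronecker_add]
      abel

omit hle in
/-- an element pure on the three summands is pure -/
theorem pure_of_parts (h1 : π₁ ≠ 0) (h3 : π₃ ≠ 0) (ht1 : π₂ ≠ 0 → Triv M π₁) (ht2 : Triv M π₂)
    {g : GL ((T → Fin k) × Fin k) F} (hg : g ∈ M) {A₁ A₂ : GL (T → Fin k) F} {C₁ C₂ C₃ : Matrix (Fin k) (Fin k) F}
    (hA₁ : A₁ ∈ Orth (T → Fin k) F) (hA₂ : A₂ ∈ Orth (T → Fin k) F)
    (e1 : (g : Matrix ((T → Fin k) × Fin k) ((T → Fin k) × Fin k) F) * rgt _ π₁ = (A₁ : Matrix _ _ F) ⊗ₖ C₁)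
    (e2 : (g : Matrix ((T → Fin k) × Fin k) ((T → Fin k) × Fin k) F) * rgt _ π₂ = (A₂ : Matrix _ _ F) ⊗ₖ C₂)
    (e3 : (g : Matrix ((T → Fin k) × Fin k) ((T → Fin k) × Fin k) F) * rgt _ π₃ = rgt _ C₃)
    (hC1 : C₁ * C₁ᵀ = π₁) (hC2 : C₂ * C₂ᵀ = π₂) (hC3 : C₃ * C₃ᵀ = π₃) :
    ∃ C, (g : Matrix ((T → Fin k) × Fin k) ((T → Fin k) × Fin k) F) = rgt _ C := by
  have h2 := hh.h2
  have hle := hM.le
  have gsum : (g : Matrix ((T → Fin k) × Fin k) ((T → Fin k) × Fin k) F) =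
      (A₁ : Matrix _ _ F) ⊗ₖ C₁ + (A₂ : Matrix _ _ F) ⊗ₖ C₂ + rgt _ C₃ := by
    rw [← e1, ← e2, ← e3, ← mul_add, ← mul_add, ← rgt_add, ← rgt_add, hd.sum, rgt_one, mul_one]
  set G := (g : Matrix ((T → Fin k) × Fin k) ((T → Fin k) × Fin k) F)
  have hkey : ∀ h : GL (T → Fin k) F, h ∈ Wr T k F → h ∈ Om (T → Fin k) F →
      Pel M π₁ π₂ π₃ (A₁ * h * A₁⁻¹ * h⁻¹) (A₂ * h * A₂⁻¹ * h⁻¹) := by
    intro h hw hh'
    have hm := hM.inl_mem hw hh'
    refine ⟨om_le_orth (commutator_mem_om hA₁ (om_le_orth hh')), om_le_orth (commutator_mem_om hA₂ (om_le_orth hh')),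
      _, mul_mem (mul_mem (mul_mem hg hm) (inv_mem hg)) (inv_mem hm), ?_⟩
    have hmul : ∀ (A : GL (T → Fin k) F) (C π : Matrix (Fin k) (Fin k) F), A ∈ Orth (T → Fin k) F → π * π = π →
        (g : Matrix ((T → Fin k) × Fin k) ((T → Fin k) × Fin k) F) * rgt _ π = (A : Matrix _ _ F) ⊗ₖ C →
        C * Cᵀ = π → Pr π →
        G * (inl _ k F h : Matrix ((T → Fin k) × Fin k) ((T → Fin k) × Fin k) F) * rgt _ π * Gᵀ =
          ((A * h * A⁻¹ : GL (T → Fin k) F) : Matrix _ _ F) ⊗ₖ π := by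
      intro A C π hA hi eg hC hπ
      have ec : (inl _ k F h : Matrix ((T → Fin k) × Fin k) ((T → Fin k) × Fin k) F) * rgt _ π =
          rgt _ π * ((h : Matrix (T → Fin k) (T → Fin k) F) ⊗ₖ π) := by
        rw [inl_val, rgt, ← Matrix.mul_kronecker_mul, ← Matrix.mul_kronecker_mul, mul_one, one_mul, one_mul, hi]
      have et : rgt (T → Fin k) π * Gᵀ = ((A : Matrix (T → Fin k) (T → Fin k) F) ⊗ₖ C)ᵀ := by
        rw [← eg, Matrix.transpose_mul, rgt_transpose, hπ.symm]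
      rw [mul_assoc G, ec, ← mul_assoc G, eg]
      have : ((A : Matrix (T → Fin k) (T → Fin k) F) ⊗ₖ C) * ((h : Matrix (T → Fin k) (T → Fin k) F) ⊗ₖ π) * Gᵀ =
          ((A : Matrix (T → Fin k) (T → Fin k) F) ⊗ₖ C) * ((h : Matrix (T → Fin k) (T → Fin k) F) ⊗ₖ π) *
            (rgt (T → Fin k) π * Gᵀ) := by
        rw [← mul_assoc, mul_assoc _ _ (rgt (T → Fin k) π), rgt, ← Matrix.mul_kronecker_mul _ _ π π, mul_one, hi]
      rw [this, et, ← Matrix.kroneckerMap_transpose, ← Matrix.mul_kronecker_mul, ← Matrix.mul_kronecker_mul,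
        Units.val_mul, Units.val_mul, inv_val h2 hA]
      congr 1
      have hCπ : C * π = C := by
        have := congrArg (· * rgt (T → Fin k) π) eg
        simp only [mul_assoc, rgt_mul, hi] at this
        rw [eg] at this
        obtain ⟨p, q, hpq⟩ : ∃ p q, (A : Matrix (T → Fin k) (T → Fin k) F) p q ≠ 0 := by
          by_contra hn
          push Not at hn
          haveI : Nonempty (T → Fin k) := ⟨fun _ => ⟨0, hh.odd.pos⟩⟩
          exact A.ne_zero (Matrix.ext hn)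
        refine Matrix.ext fun i j => mul_left_cancel₀ hpq ?_
        rw [rgt, ← Matrix.mul_kronecker_mul, mul_one] at this
        exact (congrFun (congrFun this (p, i)) (q, j)).symm
      rw [hCπ, hC]
    have hc3 : G * (inl _ k F h : Matrix ((T → Fin k) × Fin k) ((T → Fin k) × Fin k) F) * rgt _ π₃ * Gᵀ =
        ((h : GL (T → Fin k) F) : Matrix _ _ F) ⊗ₖ π₃ := by
      have := hmul 1 C₃ π₃ (one_mem _) hd.p₃.idem (by rw [Units.val_one]; exact e3) hC3 hd.p₃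
      rwa [one_mul, inv_one, mul_one] at this
    rw [Units.val_mul, Units.val_mul, Units.val_mul, inv_val h2 (hle hg)]
    have hsplit : G * (inl _ k F h : Matrix ((T → Fin k) × Fin k) ((T → Fin k) × Fin k) F) * Gᵀ =
        ((A₁ * h * A₁⁻¹ : GL (T → Fin k) F) : Matrix _ _ F) ⊗ₖ π₁ +
          ((A₂ * h * A₂⁻¹ : GL (T → Fin k) F) : Matrix _ _ F) ⊗ₖ π₂ + (h : Matrix _ _ F) ⊗ₖ π₃ := by
      rw [← hmul A₁ C₁ π₁ hA₁ hd.p₁.idem e1 hC1 hd.p₁, ← hmul A₂ C₂ π₂ hA₂ hd.p₂.idem e2 hC2 hd.p₂, ← hc3,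
        ← add_mul, ← add_mul, ← mul_add, ← mul_add, ← rgt_add, ← rgt_add, hd.sum, rgt_one, mul_one]
    rw [hsplit, ← map_inv, inl_val, add_mul, add_mul]
    simp only [pel, rgt, ← Matrix.mul_kronecker_mul, mul_one, ← Units.val_mul, mul_inv_cancel, Units.val_one]
  have scal : ∀ A : GL (T → Fin k) F, A ∈ Orth (T → Fin k) F →
      (∀ h : GL (T → Fin k) F, h ∈ Wr T k F → h ∈ Om (T → Fin k) F →
        ∃ c : F, ((A * h * A⁻¹ * h⁻¹ : GL (T → Fin k) F) : Matrix (T → Fin k) (T → Fin k) F) = c • 1) →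
      ∃ c : F, (A : Matrix (T → Fin k) (T → Fin k) F) = c • 1 := by
    intro A hA hc
    refine tk_commutant hh fun u hu => ?_
    obtain ⟨c, hc⟩ := hc (tk u) (TW.tk_mem u) (tk_om h2 hu)
    have hmem := commutator_mem_om hA (om_le_orth (tk_om h2 hu))
    haveI : Nonempty (T → Fin k) := ⟨fun _ => ⟨0, hh.odd.pos⟩⟩
    obtain ⟨p⟩ := ‹Nonempty (T → Fin k)›
    have hd1 := det_one h2 hmem
    rw [hc, Matrix.det_smul, Matrix.det_one, mul_one] at hd1
    have htr := transpose_mul h2 (om_le_orth hmem)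
    rw [hc, Matrix.transpose_smul, Matrix.transpose_one, smul_mul_smul_comm, mul_one] at htr
    have hee : c * c = 1 := by simpa using congrFun (congrFun htr p) p
    obtain ⟨m, hm⟩ := hh.card_odd T
    rw [hm, pow_succ, pow_mul, pow_two, hee, one_pow, one_mul] at hd1
    rw [hd1, one_smul] at hc
    have : A * tk u * A⁻¹ * (tk u)⁻¹ = 1 := Units.ext (by rw [hc, Units.val_one])
    exact congrArg Units.val (mul_inv_eq_iff_eq_mul.1 (mul_inv_eq_one.1 this))
  obtain ⟨c₁, hc₁⟩ := scal A₁ hA₁ fun h hw hh' => pel_scalar hh hd hM h1 h3 ht2 (hkey h hw hh')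
  obtain ⟨c₂, hc₂⟩ : ∃ c : F, (A₂ : Matrix (T → Fin k) (T → Fin k) F) ⊗ₖ C₂ = rgt _ (c • C₂) := by
    by_cases hπ2 : π₂ = 0
    · refine ⟨1, ?_⟩
      have hC0 : C₂ = 0 := by
        rw [hπ2] at e2
        rw [rgt_zero, mul_zero] at e2
        haveI : Nonempty (T → Fin k) := ⟨fun _ => ⟨0, hh.odd.pos⟩⟩
        obtain ⟨p, q, hpq⟩ : ∃ p q, (A₂ : Matrix (T → Fin k) (T → Fin k) F) p q ≠ 0 := by
          by_contra hn
          push Not at hn
          exact A₂.ne_zero (Matrix.ext hn)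
        refine Matrix.ext fun i j => (mul_eq_zero.1 ?_).resolve_left hpq
        exact (congrFun (congrFun e2 (p, i)) (q, j)).symm
      rw [hC0, Matrix.kronecker_zero, smul_zero, rgt_zero]
    · obtain ⟨c, hc⟩ := scal A₂ hA₂ fun h hw hh' => by
        refine pel_scalar hh hd.swap hM hπ2 h3 (ht1 hπ2) (A₂ := A₁ * h * A₁⁻¹ * h⁻¹) ?_
        obtain ⟨o1, o2, x, hx, ex⟩ := hkey h hw hh'
        exact ⟨o2, o1, x, hx, by rw [ex]; simp only [pel]; abel⟩
      exact ⟨c, by rw [hc, Matrix.smul_kronecker, rgt_smul]⟩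
  exact ⟨c₁ • C₁ + c₂ • C₂ + C₃, by rw [gsum, hc₁, hc₂, Matrix.smul_kronecker, rgt_add, rgt_add, rgt_smul, rgt_smul]⟩

end Cfsg.Agent.MaxCl.TOrth
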