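/-
An element pure off a summand and commuting with a splitting of that summand is pure.
-/
import Cfsg.Agent.Lib.MaxCl.TOrthPel

set_option autoImplicit false
set_option linter.unusedSectionVars false

namespace Cfsg.Agent.MaxCl.TOrth

open Matrix
open TW (tk pm pg rt rid spl sl Wr)
open scoped MatrixGroups Kronecker

variable {F : Type*} [Field F] {k : ℕ} {T : Type} [Fintype T] [DecidableEq T] [Finite F]
  {M : Subgroup (GL ((T → Fin k) × Fin k) F)} (hM : Ctx T k F M)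
include hM

section Parts

variable {π₁ π₂ π₃ : Matrix (Fin k) (Fin k) F} (hd : Dec π₁ π₂ π₃) (ht : Triv M π₁)
  {g : GL ((T → Fin k) × Fin k) F} (hg : g ∈ M)
  (hc1 : Commute (g : Matrix ((T → Fin k) × Fin k) ((T → Fin k) × Fin k) F) (rgt _ π₁))
  (hc2 : Commute (g : Matrix ((T → Fin k) × Fin k) ((T → Fin k) × Fin k) F) (rgt _ π₂))
  {C₃ : Matrix (Fin k) (Fin k) F}
  (hC3 : (g : Matrix ((T → Fin k) × Fin k) ((T → Fin k) × Fin k) F) * rgt _ π₃ = rgt _ C₃)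

include hd hg hc1 hc2 hC3

omit hd hc1 hc2 in
theorem third_norm (hc3 : Commute (g : Matrix ((T → Fin k) × Fin k) ((T → Fin k) × Fin k) F) (rgt _ π₃))
    (h3 : Pr π₃) : C₃ * C₃ᵀ = π₃ := by
  haveI : Nonempty (T → Fin k) := ⟨fun _ => ⟨0, hM.hyp.odd.pos⟩⟩
  refine rgt_inj (β := T → Fin k) ?_
  rw [← rgt_mul, ← rgt_transpose, ← hC3, Matrix.transpose_mul, rgt_transpose, h3.symm, mul_assoc,
    ← mul_assoc (rgt (T → Fin k) π₃), rgt_mul, h3.idem, ← mul_assoc, hc3.eq, mul_assoc,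
    mul_transpose hM.hyp.h2 (hM.le hg), mul_one]

include ht

/-- conjugation permutes the usable pure elements -/
theorem conj_um {u : GL (Fin k) F} (hu : Um M π₁ π₂ u) :
    ∃ w, Um M π₁ π₂ w ∧ g * inr _ k F u = inr _ k F w * g := by
  have h2 := hM.hyp.h2
  haveI : Nonempty (T → Fin k) := ⟨fun _ => ⟨0, hM.hyp.odd.pos⟩⟩
  obtain ⟨huO, huM, hu1, hu2, hu2'⟩ := hu
  set h := g * inr _ k F u * g⁻¹ with hh
  have hhM : h ∈ M := mul_mem (mul_mem hg huM) (inv_mem hg)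
  have hc3 : Commute (g : Matrix ((T → Fin k) × Fin k) ((T → Fin k) × Fin k) F) (rgt _ π₃) := by
    rw [hd.third, rgt_sub, rgt_sub, rgt_one]
    exact ((Commute.one_right _).sub_right hc1).sub_right hc2
  have hu3 : Commute (u : Matrix (Fin k) (Fin k) F) π₃ := by
    rw [hd.third]; exact ((Commute.one_right _).sub_right hu1).sub_right hu2
  have hgo := hM.le hg
  have hinv := inv_val h2 hgo
  set G := (g : Matrix ((T → Fin k) × Fin k) ((T → Fin k) × Fin k) F)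
  have hcT : ∀ π : Matrix (Fin k) (Fin k) F, Pr π → Commute G (rgt _ π) → Commute Gᵀ (rgt _ π) := fun π hπ h => by
    show _ = _
    have := congrArg Matrix.transpose h.eq
    rw [Matrix.transpose_mul, Matrix.transpose_mul, rgt_transpose, hπ.symm] at this
    exact this.symm
  have hpart : ∀ π : Matrix (Fin k) (Fin k) F, Pr π → Commute G (rgt _ π) →
      (h : Matrix ((T → Fin k) × Fin k) ((T → Fin k) × Fin k) F) * rgt _ π =
        G * rgt _ ((u : Matrix (Fin k) (Fin k) F) * π) * Gᵀ := by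
    intro π hπ hc
    rw [hh, Units.val_mul, Units.val_mul, hinv, inr_eq_rgt, mul_assoc, (hcT π hπ hc).eq, mul_assoc G,
      ← mul_assoc (rgt (T → Fin k) (u : Matrix (Fin k) (Fin k) F)), rgt_mul, mul_assoc G]
  have hcomm : ∀ π : Matrix (Fin k) (Fin k) F, Pr π → Commute G (rgt _ π) → Commute (u : Matrix (Fin k) (Fin k) F) π →
      Commute (h : Matrix ((T → Fin k) × Fin k) ((T → Fin k) × Fin k) F) (rgt _ π) := by
    intro π hπ hc hu
    rw [hh, Units.val_mul, Units.val_mul, hinv, inr_eq_rgt]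
    refine (hc.mul_left ?_).mul_left (hcT π hπ hc)
    show _ = _
    rw [rgt_mul, rgt_mul, hu.eq]
  have hh1 := hcomm π₁ hd.p₁ hc1 hu1
  have hh2 := hcomm π₂ hd.p₂ hc2 hu2
  -- its part on π₃
  have h3 : (h : Matrix ((T → Fin k) × Fin k) ((T → Fin k) × Fin k) F) * rgt _ π₃ =
      rgt _ (C₃ * (u : Matrix (Fin k) (Fin k) F) * C₃ᵀ) := by
    rw [hpart π₃ hd.p₃ hc3, show (u : Matrix (Fin k) (Fin k) F) * π₃ = π₃ * (u : Matrix (Fin k) (Fin k) F) * π₃ by
      rw [← hu3.eq, mul_assoc, hd.p₃.idem]]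
    calc G * rgt _ (π₃ * (u : Matrix (Fin k) (Fin k) F) * π₃) * Gᵀ
        = G * rgt _ π₃ * rgt _ (u : Matrix (Fin k) (Fin k) F) * (G * rgt _ π₃)ᵀ := by
          rw [Matrix.transpose_mul, rgt_transpose, hd.p₃.symm, ← rgt_mul, ← rgt_mul]
          simp only [mul_assoc]
      _ = _ := by rw [hC3, rgt_transpose, rgt_mul, rgt_mul]
  obtain ⟨ε, hε, hε2⟩ : ∃ ε : F, ε * ε = 1 ∧ (u : Matrix (Fin k) (Fin k) F) * π₂ = ε • π₂ := by
    rcases hu2' with e | e
    · exact ⟨1, one_mul 1, by rw [e, one_smul]⟩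
    · exact ⟨-1, by ring, by rw [e, neg_one_smul]⟩
  have h2' : (h : Matrix ((T → Fin k) × Fin k) ((T → Fin k) × Fin k) F) * rgt _ π₂ = rgt _ (ε • π₂) := by
    rw [hpart π₂ hd.p₂ hc2, hε2, rgt_smul, mul_smul_comm, smul_mul_assoc, hc2.eq, mul_assoc,
      mul_transpose h2 hgo, mul_one]
  obtain ⟨W, hW⟩ := ht h ⟨hhM, hh1, ε • π₂ + C₃ * (u : Matrix (Fin k) (Fin k) F) * C₃ᵀ, by
    rw [hd.one_sub, rgt_add, mul_add, h2', h3, ← rgt_add]⟩
  have hWo : Wᵀ * W = 1 := rgt_inj (β := T → Fin k) (by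
    rw [← rgt_mul, ← rgt_transpose, ← hW, transpose_mul h2 (hM.le hhM), rgt_one])
  let w : GL (Fin k) F := ⟨W, Wᵀ, mul_eq_one_comm.1 hWo, hWo⟩
  have hwh : inr _ k F w = h := Units.ext hW.symm
  refine ⟨w, ⟨(mem_orth_iff h2).2 hWo, hwh ▸ hhM, ?_, ?_, ?_⟩, by rw [hwh, hh, inv_mul_cancel_right]⟩
  · exact rgt_inj (β := T → Fin k) (by rw [← rgt_mul, ← rgt_mul, ← hW]; exact hh1.eq)
  · exact rgt_inj (β := T → Fin k) (by rw [← rgt_mul, ← rgt_mul, ← hW]; exact hh2.eq)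
  · have e : W * π₂ = ε • π₂ := rgt_inj (β := T → Fin k) (by rw [← rgt_mul, ← hW, h2'])
    rcases mul_self_eq_one_iff.1 hε with rfl | rfl
    · exact Or.inl (by rw [one_smul] at e; exact e)
    · exact Or.inr (by rw [neg_one_smul] at e; exact e)

/-- on a spanned summand the element is pure -/
theorem part_of_full (hF : Full M π₁ π₂) : ∃ (A : GL (T → Fin k) F) (C : Matrix (Fin k) (Fin k) F),
    A ∈ Orth (T → Fin k) F ∧
      (g : Matrix ((T → Fin k) × Fin k) ((T → Fin k) × Fin k) F) * rgt _ π₁ = (A : Matrix _ _ F) ⊗ₖ C ∧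
      Cᵀ * C = π₁ ∧ C * Cᵀ = π₁ ∧ π₁ * C = C ∧ C * π₁ = C := by
  refine orth_part hM.hyp (hM.hyp.card_odd T) (hM.le hg) hd.p₁ hc1 fun Y => ?_
  have := hF Y
  generalize π₁ * Y * π₁ = X at this
  induction this using Submodule.span_induction with
  | mem X hX =>
    obtain ⟨u, hu, rfl⟩ := hX
    obtain ⟨w, hw, e⟩ := conj_um hM hd ht hg hc1 hc2 hC3 hu
    refine ⟨(w : Matrix (Fin k) (Fin k) F) * π₁, ?_⟩
    have e' := congrArg Units.val e
    rw [Units.val_mul, Units.val_mul, inr_eq_rgt, inr_eq_rgt] at e'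
    rw [← rgt_mul, ← rgt_mul, ← mul_assoc, e', mul_assoc, hc1.eq, mul_assoc]
  | zero => exact ⟨0, by rw [rgt_zero, mul_zero, zero_mul]⟩
  | add a b _ _ ha hb =>
    obtain ⟨Za, hZa⟩ := ha
    obtain ⟨Zb, hZb⟩ := hb
    exact ⟨Za + Zb, by rw [rgt_add, mul_add, hZa, hZb, rgt_add, add_mul]⟩
  | smul c a _ ha =>
    obtain ⟨Za, hZa⟩ := ha
    exact ⟨c • Za, by rw [rgt_smul, mul_smul_comm, hZa, rgt_smul, smul_mul_assoc]⟩

/-- on a plane where a line is fixed, the element fixes it or exchanges it with an orthogonal one -/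
theorem fix_or_swap (h1 : rk π₁ = 2) {e : Fin k → F} (he : e ⬝ᵥ e = 1) (hπe : π₁ *ᵥ e = e)
    (hfix : ∀ u, Um M π₁ π₂ u → Commute (u : Matrix (Fin k) (Fin k) F) (pj e)) :
    Commute (g : Matrix ((T → Fin k) × Fin k) ((T → Fin k) × Fin k) F) (rgt _ (pj e)) ∨
      ∃ f, π₁ *ᵥ f = f ∧ f ⬝ᵥ f = 1 ∧ e ⬝ᵥ f = 0 ∧
        (g : Matrix ((T → Fin k) × Fin k) ((T → Fin k) × Fin k) F) * rgt _ (pj e) =
          rgt _ (pj f) * (g : Matrix ((T → Fin k) × Fin k) ((T → Fin k) × Fin k) F) := by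
  have h2 := hM.hyp.h2
  haveI : Nonempty (T → Fin k) := ⟨fun _ => ⟨0, hM.hyp.odd.pos⟩⟩
  have h0 : e ⬝ᵥ e ≠ 0 := by rw [he]; exact one_ne_zero
  set G := (g : Matrix ((T → Fin k) × Fin k) ((T → Fin k) × Fin k) F)
  obtain ⟨w, hw, hwg⟩ := conj_um hM hd ht hg hc1 hc2 hC3 (um_zz hM hd he hπe)
  have hwe := hfix w hw
  have e1 : pj e * π₁ = pj e := by
    have := congrArg Matrix.transpose (mul_pj hπe)
    rwa [Matrix.transpose_mul, hd.p₁.symm, (pr_pj h0).symm] at this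
  set Z : Matrix (Fin k) (Fin k) F := (2 : F)⁻¹ • ((w : Matrix (Fin k) (Fin k) F) * π₁ + π₁) with hZ
  have hkey : G * rgt _ (pj e) = rgt _ Z * G := by
    have hv := congrArg Units.val hwg
    rw [Units.val_mul, Units.val_mul, inr_eq_rgt, inr_eq_rgt] at hv
    have he2 : pj e = (2 : F)⁻¹ • ((zz e : Matrix (Fin k) (Fin k) F) * π₁ + π₁) := by
      rw [zz_val h0, sub_mul, one_mul, smul_mul_assoc, e1, sub_add_cancel, inv_smul_smul₀ h2]
    conv_lhs => rw [he2]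
    rw [hZ, rgt_smul, rgt_smul, mul_smul_comm, smul_mul_assoc, rgt_add, rgt_add, mul_add, add_mul, hc1.eq,
      ← rgt_mul, ← rgt_mul, ← mul_assoc, hv, mul_assoc, hc1.eq, mul_assoc]
  obtain ⟨f, hf0, hσf, hσ⟩ : ∃ f, f ⬝ᵥ f ≠ 0 ∧ (π₁ - pj e) *ᵥ f = f ∧ π₁ - pj e = pj f := by
    have := rk_sub_pj hd.p₁ h0 hπe
    exact eq_pj_of_rk h2 (hd.p₁.sub (pr_pj h0) (mul_pj hπe)) (by omega)
  have hπ : π₁ = pj e + pj f := by rw [← hσ]; abel
  have hπf : π₁ *ᵥ f = f := by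
    conv_lhs => rw [← hσf, Matrix.mulVec_mulVec, mul_sub, hd.p₁.idem, mul_pj hπe]
    exact hσf
  have hef : e ⬝ᵥ f = 0 := by
    rw [← hσf, Matrix.sub_mulVec, hπf, pj_mulVec, dotProduct_sub, dotProduct_smul, he, smul_eq_mul, inv_one]
    ring
  have hwf : Commute (w : Matrix (Fin k) (Fin k) F) (pj f) := by
    rw [← hσ]; exact hw.2.2.1.sub_right hwe
  -- w has signs on both lines
  have hsign : ∀ a : Fin k → F, a ⬝ᵥ a ≠ 0 → Commute (w : Matrix (Fin k) (Fin k) F) (pj a) →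
      ∃ s : F, (s = 1 ∨ s = -1) ∧ (w : Matrix (Fin k) (Fin k) F) * pj a = s • pj a := by
    intro a ha hc
    have hwa : (w : Matrix (Fin k) (Fin k) F) *ᵥ a = ((a ⬝ᵥ a)⁻¹ * (a ⬝ᵥ act w a)) • a := by
      rw [← pj_mulVec, act_apply, Matrix.mulVec_mulVec, ← hc.eq, ← Matrix.mulVec_mulVec, pj_self ha]
    refine ⟨(a ⬝ᵥ a)⁻¹ * (a ⬝ᵥ act w a), mul_self_eq_one_iff.1 ?_, ?_⟩
    · have e := dot_act h2 hw.1 a a
      rw [act_apply, hwa, smul_dotProduct, dotProduct_smul, smul_eq_mul, smul_eq_mul, ← mul_assoc] at e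
      exact mul_right_cancel₀ ha (e.trans (one_mul _).symm)
    · rw [pj, mul_smul_comm, Matrix.mul_vecMulVec, hwa, Matrix.smul_vecMulVec, smul_comm]
  obtain ⟨s, hs, hse⟩ := hsign e h0 hwe
  obtain ⟨t, ht', htf⟩ := hsign f hf0 hwf
  have hZv : Z = ((2 : F)⁻¹ * (s + 1)) • pj e + ((2 : F)⁻¹ * (t + 1)) • pj f := by
    rw [hZ, hπ, mul_add, hse, htf]
    module
  have hgne : ∀ X : Matrix (Fin k) (Fin k) F, G * rgt _ (pj e) = G * rgt _ X → pj e = X := fun X hX => by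
    have := congrArg (Gᵀ * ·) hX
    simp only [← mul_assoc, G, transpose_mul h2 (hM.le hg), one_mul] at this
    exact rgt_inj this
  have hpe : pj e ≠ 0 := fun h => by have := rk_pj h0; rw [h, rk_zero] at this; omega
  rcases hs with rfl | rfl <;> rcases ht' with rfl | rfl
  · exfalso
    rw [show ((2 : F)⁻¹ * (1 + 1)) = 1 by field_simp; norm_num, one_smul, one_smul, ← hπ] at hZv
    rw [hZv] at hkey
    have := hgne π₁ (by rw [hkey, hc1.eq])
    rw [← this] at h1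
    rw [rk_pj h0] at h1
    omega
  · refine Or.inl ?_
    rw [show ((2 : F)⁻¹ * (1 + 1)) = 1 by field_simp; norm_num, one_smul,
      show ((2 : F)⁻¹ * (-1 + 1)) = 0 by ring, zero_smul, add_zero] at hZv
    rw [hZv] at hkey
    exact hkey
  · refine Or.inr ?_
    rw [show ((2 : F)⁻¹ * (1 + 1)) = 1 by field_simp; norm_num, one_smul,
      show ((2 : F)⁻¹ * (-1 + 1)) = 0 by ring, zero_smul, zero_add] at hZv
    rw [hZv] at hkey
    obtain ⟨c, hc⟩ := class_of_conj hM.hyp (hM.hyp.card_odd T) (hM.le hg) h0 hf0 hkey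
    rw [he, one_mul] at hc
    have hc0 : c ≠ 0 := fun h => hf0 (by rw [hc, h, mul_zero])
    refine ⟨c⁻¹ • f, by rw [Matrix.mulVec_smul, hπf], ?_, by rw [dotProduct_smul, hef, smul_zero],
      by rw [pj_smul (inv_ne_zero hc0)]; exact hkey⟩
    rw [smul_dotProduct, dotProduct_smul, hc, smul_eq_mul, smul_eq_mul]
    field_simp
  · exfalso
    rw [show ((2 : F)⁻¹ * (-1 + 1)) = 0 by ring, zero_smul, zero_smul, add_zero] at hZv
    rw [hZv] at hkey
    exact hpe (hgne 0 (by rw [hkey, rgt_zero, zero_mul, mul_zero]))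

end Parts

omit [Finite F] hM in
theorem InR.third {π : Matrix (Fin k) (Fin k) F} {g : GL ((T → Fin k) × Fin k) F} (hg : InR M π g) :
    Commute (g : Matrix ((T → Fin k) × Fin k) ((T → Fin k) × Fin k) F) (rgt _ (1 - π)) :=
  commute_one_sub hg.2.1

/-- a line has only pure elements -/
theorem triv_line {π : Matrix (Fin k) (Fin k) F} (hπ : Pr π) (h1 : rk π = 1) : Triv M π := by
  rintro g ⟨hg, hc, C, hC⟩
  have hd := dec_of hπ hπ hπ.idem
  rw [sub_self] at hd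
  obtain ⟨a, ha, -, hpa⟩ := eq_pj_of_rk hM.hyp.h2 hπ h1
  obtain ⟨A, C₁, hA, e1, -, h11, -, -⟩ := orth_part hM.hyp (hM.hyp.card_odd T) (hM.le hg) hπ hc fun Y => by
    refine ⟨π * Y * π, ?_⟩
    have : π * Y * π = ((a ⬝ᵥ a)⁻¹ * (a ⬝ᵥ Y *ᵥ a)) • π := by
      rw [hpa, pj, smul_mul_assoc, smul_mul_assoc, mul_smul_comm, Matrix.vecMulVec_mul,
        Matrix.vecMulVec_mul_vecMulVec, ← Matrix.dotProduct_mulVec, Matrix.vecMulVec_smul, smul_smul, smul_smul,
        smul_smul]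
      congr 1
      ring
    rw [this, rgt_smul, mul_smul_comm, hc.eq, smul_mul_assoc]
  have hne : π ≠ 0 := fun e => by rw [e, rk_zero] at h1; omega
  have hne3 : (1 : Matrix (Fin k) (Fin k) F) - π ≠ 0 := fun e => by
    have := rk_one_sub hπ
    rw [e, rk_zero, h1, Fintype.card_fin] at this
    have := hM.hyp.three
    omega
  exact pure_of_parts hM.hyp hd hM hne hne3 (fun h => absurd rfl h) triv_zero hg hA (one_mem _) e1
    (C₂ := 0) (by rw [rgt_zero, mul_zero, Matrix.kronecker_zero]) hC h11 (by simp)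
    (third_norm hM hg hC (commute_one_sub hc) hπ.one_sub)

section Split

variable {π₁ π₂ π₃ : Matrix (Fin k) (Fin k) F}

/-- spanned parts give a pure element -/
theorem split_full (hd : Dec π₁ π₂ π₃) (h1 : π₁ ≠ 0) (h3 : π₃ ≠ 0) (ht1 : Triv M π₁) (ht2 : Triv M π₂)
    (hF1 : Full M π₁ π₂) (hF2 : Full M π₂ π₁) {g : GL ((T → Fin k) × Fin k) F} (hg : g ∈ M)
    (hc1 : Commute (g : Matrix ((T → Fin k) × Fin k) ((T → Fin k) × Fin k) F) (rgt _ π₁))
    (hc2 : Commute (g : Matrix ((T → Fin k) × Fin k) ((T → Fin k) × Fin k) F) (rgt _ π₂))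
    {C₃ : Matrix (Fin k) (Fin k) F}
    (hC3 : (g : Matrix ((T → Fin k) × Fin k) ((T → Fin k) × Fin k) F) * rgt _ π₃ = rgt _ C₃) :
    ∃ C, (g : Matrix ((T → Fin k) × Fin k) ((T → Fin k) × Fin k) F) = rgt _ C := by
  obtain ⟨A₁, C₁, hA₁, e1, -, h11, -, -⟩ := part_of_full hM hd ht1 hg hc1 hc2 hC3 hF1
  obtain ⟨A₂, C₂, hA₂, e2, -, h22, -, -⟩ := part_of_full hM hd.swap ht2 hg hc2 hc1 hC3 hF2
  have hc3 : Commute (g : Matrix ((T → Fin k) × Fin k) ((T → Fin k) × Fin k) F) (rgt _ π₃) := by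
    rw [hd.third, rgt_sub, rgt_sub, rgt_one]
    exact ((Commute.one_right _).sub_right hc1).sub_right hc2
  exact pure_of_parts hM.hyp hd hM h1 h3 (fun _ => ht1) ht2 hg hA₁ hA₂ e1 e2 hC3 h11 h22
    (third_norm hM hg hC3 hc3 hd.p₃)

/-- an element fixing a line of the summand, whose complement in it is spanned -/
theorem split_line {π : Matrix (Fin k) (Fin k) F} (hπ : Pr π) (h1 : π ≠ 1) (ht : ∀ σ, Pr σ → rk σ < rk π → Triv M σ)
    {a : Fin k → F} (ha : a ⬝ᵥ a ≠ 0) (hπa : π *ᵥ a = a) (hF : Full M (π - pj a) (pj a))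
    {g : GL ((T → Fin k) × Fin k) F} (hg : InR M π g)
    (hc : Commute (g : Matrix ((T → Fin k) × Fin k) ((T → Fin k) × Fin k) F) (rgt _ (pj a))) :
    ∃ C, (g : Matrix ((T → Fin k) × Fin k) ((T → Fin k) × Fin k) F) = rgt _ C := by
  have hd := dec_of (pr_pj ha) hπ (mul_pj hπa)
  obtain ⟨hgM, hgc, C, hC⟩ := hg
  have hr := rk_sub_pj hπ ha hπa
  refine split_full hM hd (fun h => by have := rk_pj ha; rw [h, rk_zero] at this; omega) (sub_ne_zero.2 h1.symm)
    (triv_line hM (pr_pj ha) (rk_pj ha)) (ht _ hd.p₂ (by omega)) (full_line hM hd (rk_pj ha)) hF hgM hc ?_ hC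
  rw [rgt_sub]
  exact hgc.sub_right hc

/-- the case of a plane with a fixed line -/
theorem split_plane {π : Matrix (Fin k) (Fin k) F} (hd : Dec π₁ π₂ π₃) (hπ : π = π₁ + π₂) (h2π : π₂ ≠ 0) (h3 : π₃ ≠ 0)
    (ht : ∀ σ, Pr σ → rk σ < rk π → Triv M σ) (hr : rk π₁ = 2) (hnF : ¬ Full M π₁ π₂)
    {g : GL ((T → Fin k) × Fin k) F} (hg : InR M π g)
    (hc : Commute (g : Matrix ((T → Fin k) × Fin k) ((T → Fin k) × Fin k) F) (rgt _ π₁)) :
    ∃ C, (g : Matrix ((T → Fin k) × Fin k) ((T → Fin k) × Fin k) F) = rgt _ C := by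
  have h2 := hM.hyp.h2
  subst hπ
  have hP : Pr (π₁ + π₂) := hd.p₁.add hd.p₂ hd.h12
  have h3' : 1 - (π₁ + π₂) = π₃ := by rw [← hd.sum]; abel
  have hne1 : π₁ + π₂ ≠ 1 := fun h => h3 (by rw [← h3', h, sub_self])
  have hrs := rk_add hd.p₁ hd.p₂ hd.h12
  have hr2 : rk π₂ ≠ 0 := fun h => h2π (eq_zero_of_rk h)
  obtain ⟨hgM, hgc, C, hC⟩ := hg
  have hC' := hC
  rw [h3'] at hC'
  have hc2 : Commute (g : Matrix ((T → Fin k) × Fin k) ((T → Fin k) × Fin k) F) (rgt _ π₂) := by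
    rw [show π₂ = π₁ + π₂ - π₁ by abel, rgt_sub]
    exact hgc.sub_right hc
  have ht1 : Triv M π₁ := ht _ hd.p₁ (by omega)
  obtain ⟨e, hπe, he⟩ := exists_value_pr h2 hd.p₁ (by omega) (1 : F)
  have h0 : e ⬝ᵥ e ≠ 0 := by rw [he]; exact one_ne_zero
  have hfix := (full_or_fix hM hd hr he hπe).resolve_left hnF
  have hπ12e : (π₁ + π₂) *ᵥ e = e := by
    rw [Matrix.add_mulVec, hπe]
    conv_lhs => arg 2; rw [← hπe, Matrix.mulVec_mulVec, hd.swap.h12, Matrix.zero_mulVec]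
    rw [add_zero]
  have hf := fix_or_swap hM hd ht1 hgM hc hc2 hC' hr he hπe hfix
  by_cases hbig : 2 ≤ rk π₂
  · have hF : Full M (π₁ + π₂ - pj e) (pj e) := by
      have hd' := (dec_of (pr_pj h0) hP (mul_pj hπ12e)).swap
      refine full_three hM hd' ?_
      have := rk_sub_pj hP h0 hπ12e
      omega
    rcases hf with hf | ⟨f, hπf, hff, hef, hswap⟩
    · exact split_line hM hP hne1 ht h0 hπ12e hF ⟨hgM, hgc, C, hC⟩ hf
    -- compensate the exchange
    have hfne : (e - f) ⬝ᵥ (e - f) = 2 := by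
      simp only [sub_dotProduct, dotProduct_sub, he, hff, dotProduct_comm f e, hef]; ring
    set w₀ := rf (e - f)
    have hw₀ : SuppIn π₁ w₀ :=
      suppIn_rf hd.p₁ (by rw [hfne]; exact h2) (by rw [Matrix.mulVec_sub, hπe, hπf])
    obtain ⟨q, hq, hqw⟩ := exists_suppIn h2 hd.p₂ hbig hw₀.1
    set v := q⁻¹ * w₀
    have hq' : SuppIn π₂ q⁻¹ := by
      refine ⟨inv_mem hq.1, ?_, hq.2.2.units_inv_left⟩
      conv_lhs => rw [← hq.2.1, ← mul_assoc, ← Units.val_mul, inv_mul_cancel, Units.val_one, one_mul]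
    have hf0 : f ⬝ᵥ f ≠ 0 := by rw [hff]; exact one_ne_zero
    have hact : act w₀ f = e := by
      rw [act_rf (by rw [hfne]; exact h2), hfne, sub_dotProduct, hef, hff, zero_sub, show (2 : F)⁻¹ * (2 * -1) = -1 by
        field_simp, neg_one_smul]
      abel
    have hve : (v : Matrix (Fin k) (Fin k) F) * pj f = pj e * (v : Matrix (Fin k) (Fin k) F) := by
      have hqe : act q⁻¹ e = e := by
        have := congrArg (· *ᵥ e) hq'.2.1
        have h1e : (1 - π₂) *ᵥ e = e := by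
          rw [Matrix.sub_mulVec, Matrix.one_mulVec]
          conv_lhs => arg 2; rw [← hπe, Matrix.mulVec_mulVec, hd.swap.h12, Matrix.zero_mulVec]
          rw [sub_zero]
        simp only [← Matrix.mulVec_mulVec, h1e] at this
        rw [act_apply]
        exact this
      have := conj_pj h2 (mul_mem (inv_mem hq.1) hw₀.1) f
      rw [act_mul, hact, hqe] at this
      rw [← this, mul_assoc, transpose_mul h2 (mul_mem (inv_mem hq.1) hw₀.1), mul_one]
    have hvM : inr _ k F v ∈ M := hM.inr_mem hqw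
    set G := (g : Matrix ((T → Fin k) × Fin k) ((T → Fin k) × Fin k) F)
    have hv1 : Commute (v : Matrix (Fin k) (Fin k) F) π₁ := by
      rw [Units.val_mul]
      refine Commute.mul_left ?_ hw₀.2.2
      have e1 : ((q⁻¹ : GL (Fin k) F) : Matrix (Fin k) (Fin k) F) * π₁ = π₁ := by
        conv_lhs => rw [show π₁ = (1 - π₂) * π₁ by rw [sub_mul, one_mul, hd.swap.h12, sub_zero], ← mul_assoc, hq'.2.1,
          sub_mul, one_mul, hd.swap.h12, sub_zero]
      have e2 : π₁ * ((q⁻¹ : GL (Fin k) F) : Matrix (Fin k) (Fin k) F) = π₁ := by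
        have hq2 : (1 - π₂) * ((q⁻¹ : GL (Fin k) F) : Matrix (Fin k) (Fin k) F) = 1 - π₂ := by
          rw [← ((Commute.one_right _).sub_right hq'.2.2).eq, hq'.2.1]
        conv_lhs => rw [show π₁ = π₁ * (1 - π₂) by rw [mul_sub, mul_one, hd.h12, sub_zero], mul_assoc, hq2,
          mul_sub, mul_one, hd.h12, sub_zero]
      exact e1.trans e2.symm
    have hv2 : Commute (v : Matrix (Fin k) (Fin k) F) π₂ := by
      rw [Units.val_mul]
      refine hq'.2.2.mul_left ?_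
      have e1 : (w₀ : Matrix (Fin k) (Fin k) F) * π₂ = π₂ := by
        conv_lhs => rw [show π₂ = (1 - π₁) * π₂ by rw [sub_mul, one_mul, hd.h12, sub_zero], ← mul_assoc, hw₀.2.1,
          sub_mul, one_mul, hd.h12, sub_zero]
      have e2 : π₂ * (w₀ : Matrix (Fin k) (Fin k) F) = π₂ := by
        have hw2 : (1 - π₁) * (w₀ : Matrix (Fin k) (Fin k) F) = 1 - π₁ := by
          rw [← ((Commute.one_right _).sub_right hw₀.2.2).eq, hw₀.2.1]
        conv_lhs => rw [show π₂ = π₂ * (1 - π₁) by rw [mul_sub, mul_one, hd.swap.h12, sub_zero], mul_assoc, hw2,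
          mul_sub, mul_one, hd.swap.h12, sub_zero]
      exact e1.trans e2.symm
    have hg' : InR M (π₁ + π₂) (inr _ k F v * g) := by
      refine ⟨mul_mem hvM hgM, ?_, (v : Matrix (Fin k) (Fin k) F) * C, ?_⟩
      · rw [Units.val_mul, inr_eq_rgt]
        refine Commute.mul_left ?_ hgc
        show _ = _
        rw [rgt_mul, rgt_mul, (hv1.add_right hv2).eq]
      · rw [Units.val_mul, inr_eq_rgt, mul_assoc, hC, rgt_mul]
    have hge : Commute ((inr _ k F v * g : GL ((T → Fin k) × Fin k) F) : Matrix ((T → Fin k) × Fin k) ((T → Fin k) × Fin k) F)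
        (rgt _ (pj e)) := by
      show _ = _
      rw [Units.val_mul, inr_eq_rgt, mul_assoc, hswap, ← mul_assoc, rgt_mul, hve, ← rgt_mul, mul_assoc]
    obtain ⟨D, hD⟩ := split_line hM hP hne1 ht h0 hπ12e hF hg' hge
    refine ⟨(v : Matrix (Fin k) (Fin k) F)ᵀ * D, ?_⟩
    rw [← rgt_mul, ← hD, Units.val_mul (inr _ k F v) g, inr_eq_rgt, ← mul_assoc, rgt_mul,
      transpose_mul h2 (mul_mem (inv_mem hq.1) hw₀.1), rgt_one, one_mul]
  -- the complement is a line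
  obtain ⟨h, hh0, hπh, hπ2⟩ := eq_pj_of_rk h2 hd.p₂ (by omega)
  have h3r : 2 ≤ rk π₃ := by
    have := rk_one_sub hP
    rw [h3', Fintype.card_fin] at this
    obtain ⟨r, hkr⟩ := hM.hyp.odd
    have h3pos : rk π₃ ≠ 0 := fun hh' => h3 (eq_zero_of_rk hh')
    omega
  obtain ⟨f, hf0, hσf, hσ⟩ : ∃ f, f ⬝ᵥ f ≠ 0 ∧ (π₁ - pj e) *ᵥ f = f ∧ π₁ - pj e = pj f := by
    have := rk_sub_pj hd.p₁ h0 hπe
    exact eq_pj_of_rk h2 (hd.p₁.sub (pr_pj h0) (mul_pj hπe)) (by omega)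
  have hπf : π₁ *ᵥ f = f := by
    conv_lhs => rw [← hσf, Matrix.mulVec_mulVec, mul_sub, hd.p₁.idem, mul_pj hπe]
    exact hσf
  have hef : e ⬝ᵥ f = 0 := by
    rw [← hσf, Matrix.sub_mulVec, hπf, pj_mulVec, dotProduct_sub, dotProduct_smul, he, smul_eq_mul, inv_one]
    ring
  have hnsq : ¬ IsSquare (f ⬝ᵥ f) := by
    rintro ⟨c, hc'⟩
    have hc0 : c ≠ 0 := fun hh' => hf0 (by rw [hc', hh', mul_zero])
    exact hnF (full_square hM hd hr h3r (f := c⁻¹ • f) he hπe (by rw [Matrix.mulVec_smul, hπf])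
      (by rw [dotProduct_smul, hef, smul_zero])
      (by rw [smul_dotProduct, dotProduct_smul, hc', smul_eq_mul, smul_eq_mul]; field_simp))
  have hce : Commute (g : Matrix ((T → Fin k) × Fin k) ((T → Fin k) × Fin k) F) (rgt _ (pj e)) := by
    refine hf.resolve_right ?_
    rintro ⟨f', hπf', hff', hef', -⟩
    exact hnF (full_square hM hd hr h3r he hπe hπf' hef' hff')
  have hcf : Commute (g : Matrix ((T → Fin k) × Fin k) ((T → Fin k) × Fin k) F) (rgt _ (pj f)) := by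
    rw [← hσ, rgt_sub]; exact hc.sub_right hce
  have heh : e ⬝ᵥ h = 0 := by
    rw [← hπe, hd.p₁.dot, ← hπh, Matrix.mulVec_mulVec, hd.h12, Matrix.zero_mulVec, dotProduct_zero]
  have hfh : f ⬝ᵥ h = 0 := by
    rw [← hπf, hd.p₁.dot, ← hπh, Matrix.mulVec_mulVec, hd.h12, Matrix.zero_mulVec, dotProduct_zero]
  have hmem : ∀ {x : Fin k → F}, π₁ *ᵥ x = x → (π₁ + π₂) *ᵥ x = x := fun {x} hx => by
    rw [Matrix.add_mulVec, hx]
    conv_lhs => arg 2; rw [← hx, Matrix.mulVec_mulVec, hd.swap.h12, Matrix.zero_mulVec]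
    rw [add_zero]
  have hmem2 : (π₁ + π₂) *ᵥ h = h := by
    rw [Matrix.add_mulVec, hπh]
    conv_lhs => arg 1; rw [← hπh, Matrix.mulVec_mulVec, hd.h12, Matrix.zero_mulVec]
    rw [zero_add]
  -- a spanned plane: the complement of a line containing two orthogonal vectors of square norm
  have mk : ∀ (a : Fin k → F) (x y : Fin k → F), a ⬝ᵥ a ≠ 0 → (π₁ + π₂) *ᵥ a = a → (π₁ + π₂) *ᵥ x = x →
      (π₁ + π₂) *ᵥ y = y → a ⬝ᵥ x = 0 → a ⬝ᵥ y = 0 → x ⬝ᵥ x = 1 → x ⬝ᵥ y = 0 → IsSquare (y ⬝ᵥ y) → y ⬝ᵥ y ≠ 0 →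
      Commute (g : Matrix ((T → Fin k) × Fin k) ((T → Fin k) × Fin k) F) (rgt _ (pj a)) →
      ∃ C, (g : Matrix ((T → Fin k) × Fin k) ((T → Fin k) × Fin k) F) = rgt _ C := by
    intro a x y ha hπa hπx hπy hax hay hxx hxy hsq hy hca
    obtain ⟨c, hc'⟩ := hsq
    have hc0 : c ≠ 0 := fun hh' => hy (by rw [hc', hh', mul_zero])
    have hd' := (dec_of (pr_pj ha) hP (mul_pj hπa)).swap
    have hsub : ∀ {z : Fin k → F}, (π₁ + π₂) *ᵥ z = z → a ⬝ᵥ z = 0 → (π₁ + π₂ - pj a) *ᵥ z = z := fun {z} hz haz => by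
      rw [Matrix.sub_mulVec, hz, pj_mulVec, haz, mul_zero, zero_smul, sub_zero]
    refine split_line hM hP hne1 ht ha hπa ?_ ⟨hgM, hgc, C, hC⟩ hca
    refine full_square hM hd' ?_ (by rw [h3']; exact h3r) (f := c⁻¹ • y) hxx (hsub hπx hax)
      (by rw [Matrix.mulVec_smul, hsub hπy hay]) (by rw [dotProduct_smul, hxy, smul_zero])
      (by rw [smul_dotProduct, dotProduct_smul, hc', smul_eq_mul, smul_eq_mul]; field_simp)
    have := rk_sub_pj hP ha hπa
    omega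
  by_cases hsq : IsSquare (h ⬝ᵥ h)
  · exact mk f e h hf0 (hmem hπf) (hmem hπe) hmem2 (by rw [dotProduct_comm]; exact hef) hfh he heh hsq hh0 hcf
  · obtain ⟨x, y, hxy⟩ := exists_value h2 hf0 hh0 hfh (1 : F)
    refine mk e (x • f + y • h) ((-y * (h ⬝ᵥ h)) • f + (x * (f ⬝ᵥ f)) • h) h0 (hmem hπe)
      (by rw [Matrix.mulVec_add, Matrix.mulVec_smul, Matrix.mulVec_smul, hmem hπf, hmem2])
      (by rw [Matrix.mulVec_add, Matrix.mulVec_smul, Matrix.mulVec_smul, hmem hπf, hmem2])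
      (by rw [dotProduct_add, dotProduct_smul, dotProduct_smul, hef, heh, smul_zero, smul_zero, add_zero])
      (by rw [dotProduct_add, dotProduct_smul, dotProduct_smul, hef, heh, smul_zero, smul_zero, add_zero])
      hxy ?_ ?_ ?_ hce
    · simp only [add_dotProduct, dotProduct_add, smul_dotProduct, dotProduct_smul, smul_eq_mul, dotProduct_comm h f,
        hfh]
      ring
    all_goals
      simp only [add_dotProduct, dotProduct_add, smul_dotProduct, dotProduct_smul, smul_eq_mul, dotProduct_comm h f,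
        hfh] at hxy ⊢
      have key : -y * (h ⬝ᵥ h) * (-y * (h ⬝ᵥ h) * (f ⬝ᵥ f)) + x * (f ⬝ᵥ f) * (-y * (h ⬝ᵥ h) * 0) +
          (-y * (h ⬝ᵥ h) * (x * (f ⬝ᵥ f) * 0) + x * (f ⬝ᵥ f) * (x * (f ⬝ᵥ f) * (h ⬝ᵥ h))) =
          (f ⬝ᵥ f) * (h ⬝ᵥ h) := by linear_combination ((f ⬝ᵥ f) * (h ⬝ᵥ h)) * hxy
      ring_nf at key ⊢
      rw [key]
    · haveI := Fintype.ofFinite F
      classical
      rw [← quadraticChar_one_iff_isSquare (mul_ne_zero hh0 hf0), map_mul,
        quadraticChar_neg_one_iff_not_isSquare.2 hnsq, quadraticChar_neg_one_iff_not_isSquare.2 hsq]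
      rfl
    · exact mul_ne_zero hh0 hf0

/-- **splitting**: an element pure off a summand and commuting with a splitting of it is pure -/
theorem split {π : Matrix (Fin k) (Fin k) F} (hd : Dec π₁ π₂ π₃) (hπ : π = π₁ + π₂) (h1 : π₁ ≠ 0) (h2π : π₂ ≠ 0)
    (h3 : π₃ ≠ 0) (ht : ∀ σ, Pr σ → rk σ < rk π → Triv M σ) {g : GL ((T → Fin k) × Fin k) F} (hg : InR M π g)
    (hc : Commute (g : Matrix ((T → Fin k) × Fin k) ((T → Fin k) × Fin k) F) (rgt _ π₁)) :
    ∃ C, (g : Matrix ((T → Fin k) × Fin k) ((T → Fin k) × Fin k) F) = rgt _ C := by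
  have hc2 : Commute (g : Matrix ((T → Fin k) × Fin k) ((T → Fin k) × Fin k) F) (rgt _ π₂) := by
    rw [show π₂ = π - π₁ by rw [hπ]; abel, rgt_sub]
    exact hg.2.1.sub_right hc
  by_cases hF1 : Full M π₁ π₂
  · by_cases hF2 : Full M π₂ π₁
    · obtain ⟨hgM, -, C, hC⟩ := hg
      have h3' : 1 - π = π₃ := by rw [hπ, ← hd.sum]; abel
      rw [h3'] at hC
      have hr := rk_add hd.p₁ hd.p₂ hd.h12
      have hr1 : rk π₁ ≠ 0 := fun h => h1 (eq_zero_of_rk h)
      have hr2 : rk π₂ ≠ 0 := fun h => h2π (eq_zero_of_rk h)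
      exact split_full hM hd h1 h3 (ht _ hd.p₁ (by rw [hπ]; omega)) (ht _ hd.p₂ (by rw [hπ]; omega)) hF1 hF2 hgM hc
        hc2 hC
    · have hr : rk π₂ = 2 := by
        by_contra hne
        have h0 : rk π₂ ≠ 0 := fun h => h2π (eq_zero_of_rk h)
        rcases Nat.lt_or_ge (rk π₂) 2 with hlt | hge
        · exact hF2 (full_line hM hd.swap (by omega))
        · exact hF2 (full_three hM hd.swap (by omega))
      exact split_plane hM hd.swap (by rw [hπ, add_comm]) h1 h3 ht hr hF2 hg hc2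
  · have hr : rk π₁ = 2 := by
      by_contra hne
      have h0 : rk π₁ ≠ 0 := fun h => h1 (eq_zero_of_rk h)
      rcases Nat.lt_or_ge (rk π₁) 2 with hlt | hge
      · exact hF1 (full_line hM hd (by omega))
      · exact hF1 (full_three hM hd (by omega))
    exact split_plane hM hd hπ h2π h3 ht hr hF1 hg hc

end Split

end Cfsg.Agent.MaxCl.TOrth
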