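/-
The isometries of a plane: reflections, rotations, involutions.
-/
import Cfsg.Agent.Lib.MaxCl.TOrthKernel

set_option autoImplicit false
set_option linter.unusedSectionVars false

namespace Cfsg.Agent.MaxCl.TOrth

open Matrix
open scoped MatrixGroups

variable {F : Type*} [Field F] {k : ℕ} (h2 : (2 : F) ≠ 0) {π : Matrix (Fin k) (Fin k) F} (hπ : Pr π)
  {e f : Fin k → F} (he : e ⬝ᵥ e = 1) (hf : f ⬝ᵥ f ≠ 0) (hef : e ⬝ᵥ f = 0) (hsum : π = pj e + pj f)
include h2 hπ he hf hef hsum

theorem plane_left : π *ᵥ e = e := by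
  rw [hsum, Matrix.add_mulVec, pj_self (by rw [he]; exact one_ne_zero), pj_mulVec, dotProduct_comm f e, hef, mul_zero,
    zero_smul, add_zero]

theorem plane_right : π *ᵥ f = f := by
  rw [hsum, Matrix.add_mulVec, pj_self hf, pj_mulVec, hef, mul_zero, zero_smul, zero_add]

theorem plane_dec {v : Fin k → F} (hv : π *ᵥ v = v) :
    v = (e ⬝ᵥ v) • e + ((f ⬝ᵥ f)⁻¹ * (f ⬝ᵥ v)) • f := by
  conv_lhs => rw [← hv, hsum, Matrix.add_mulVec, pj_mulVec, pj_mulVec, he, inv_one, one_mul]

theorem plane_act {C : GL (Fin k) F} (hC : SuppIn π C) {v : Fin k → F} (hv : π *ᵥ v = v) :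
    π *ᵥ act C v = act C v := by
  rw [act_apply, Matrix.mulVec_mulVec, ← hC.2.2.eq, ← Matrix.mulVec_mulVec, hv]

/-- fixing the unit vector -/
theorem plane_fix {C : GL (Fin k) F} (hC : SuppIn π C) (hCe : act C e = e) : C = 1 ∨ C = rf f := by
  have he0 : e ⬝ᵥ e ≠ 0 := by rw [he]; exact one_ne_zero
  have hπf := plane_right h2 hπ he hf hef hsum
  set v := act C f with hv
  have hev : e ⬝ᵥ v = 0 := by
    have := dot_act h2 hC.1 e f
    rwa [hCe, hef] at this
  have hvf : v = ((f ⬝ᵥ f)⁻¹ * (f ⬝ᵥ v)) • f := by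
    have := plane_dec h2 hπ he hf hef hsum (plane_act h2 hπ he hf hef hsum hC hπf)
    rwa [← hv, hev, zero_smul, zero_add] at this
  generalize ((f ⬝ᵥ f)⁻¹ * (f ⬝ᵥ v)) = β at hvf
  have hβ : β * β = 1 := by
    have := dot_act h2 hC.1 f f
    rw [← hv, hvf, smul_dotProduct, dotProduct_smul, smul_eq_mul, smul_eq_mul, ← mul_assoc] at this
    exact mul_right_cancel₀ hf (this.trans (one_mul _).symm)
  have e1 : (C : Matrix (Fin k) (Fin k) F) * pj e = pj e := by
    rw [pj, mul_smul_comm, Matrix.mul_vecMulVec, ← act_apply, hCe]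
  have e2 : (C : Matrix (Fin k) (Fin k) F) * pj f = β • pj f := by
    rw [pj, mul_smul_comm, Matrix.mul_vecMulVec, ← act_apply, ← hv, hvf, Matrix.smul_vecMulVec, smul_comm]
  have e3 : (C : Matrix (Fin k) (Fin k) F) = pj e + β • pj f + (1 - π) := by
    rw [← e1, ← e2, ← hC.2.1, hsum, ← mul_add, ← mul_add, add_sub_cancel, mul_one]
  rcases mul_self_eq_one_iff.1 hβ with rfl | rfl
  · exact Or.inl (Units.ext (by rw [e3, Units.val_one, hsum]; module))
  · exact Or.inr (Units.ext (by rw [e3, rf_val hf, hsum]; module))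

/-- the isometries of the plane -/
theorem plane_class {C : GL (Fin k) F} (hC : SuppIn π C) :
    C = 1 ∨ C = rf f ∨ ∃ w, w ⬝ᵥ w ≠ 0 ∧ π *ᵥ w = w ∧ (C = rf w ∨ C = rf w * rf f) := by
  by_cases hCe : act C e = e
  · rcases plane_fix h2 hπ he hf hef hsum hC hCe with h | h
    · exact Or.inl h
    · exact Or.inr (Or.inl h)
  have hπe := plane_left h2 hπ he hf hef hsum
  set v := act C e with hv
  have hπv := plane_act h2 hπ he hf hef hsum hC hπe
  rw [← hv] at hπv
  have hvv : v ⬝ᵥ v = 1 := by rw [hv, dot_act h2 hC.1, he]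
  set w := e - v with hw
  have hww : w ⬝ᵥ w = 2 * (1 - e ⬝ᵥ v) := by
    simp only [hw, sub_dotProduct, dotProduct_sub, he, hvv, dotProduct_comm v e]; ring
  have hw0 : w ⬝ᵥ w ≠ 0 := by
    rw [hww]
    refine mul_ne_zero h2 fun h => hCe ?_
    have h1 : e ⬝ᵥ v = 1 := (sub_eq_zero.1 h).symm
    have hd := plane_dec h2 hπ he hf hef hsum hπv
    rw [h1, one_smul] at hd
    generalize (f ⬝ᵥ f)⁻¹ * (f ⬝ᵥ v) = β at hd
    rw [hd] at hvv
    simp only [add_dotProduct, dotProduct_add, smul_dotProduct, dotProduct_smul, smul_eq_mul, he, hef,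
      dotProduct_comm f e, mul_zero, add_zero, zero_add] at hvv
    have hβ : β = 0 := by
      have : β * β * (f ⬝ᵥ f) = 0 := by linear_combination hvv
      exact mul_self_eq_zero.1 ((mul_eq_zero.1 this).resolve_right hf)
    rw [hd, hβ, zero_smul, add_zero]
  have hπw : π *ᵥ w = w := by rw [hw, Matrix.mulVec_sub, hπe, hπv]
  have hfix : act (rf w * C) e = e := by
    have hwv : w ⬝ᵥ v = -(1 - e ⬝ᵥ v) := by
      simp only [hw, sub_dotProduct, hvv]; ring
    rw [act_mul, ← hv, act_rf hw0, hwv, mul_neg, mul_neg, ← hww, inv_mul_cancel₀ hw0, hw]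
    module
  refine Or.inr (Or.inr ⟨w, hw0, hπw, ?_⟩)
  have hsup := suppIn_mul (suppIn_rf hπ hw0 hπw) hC
  rcases plane_fix h2 hπ he hf hef hsum hsup hfix with h | h
  · exact Or.inl (by rw [← rf_inv w]; exact eq_inv_of_mul_eq_one_right h)
  · exact Or.inr (by rw [← h, ← mul_assoc, rf_mul_self, one_mul])

/-- isometries of determinant minus one are involutions -/
theorem plane_det_neg {C : GL (Fin k) F} (hC : SuppIn π C) (hd : (C : Matrix (Fin k) (Fin k) F).det = -1) :
    C * C = 1 := by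
  rcases plane_class h2 hπ he hf hef hsum hC with rfl | rfl | ⟨w, hw0, -, rfl | rfl⟩
  · exact one_mul 1
  · exact rf_mul_self f
  · exact rf_mul_self w
  · exfalso
    rw [Units.val_mul, Matrix.det_mul, det_rf h2 hw0, det_rf h2 hf] at hd
    exact h2 (by linear_combination hd)

/-- rotations of order two -/
theorem plane_invol {C : GL (Fin k) F} (hC : SuppIn π C) (hd : (C : Matrix (Fin k) (Fin k) F).det = 1)
    (hCC : C * C = 1) : C = 1 ∨ C = zp hπ := by
  have he0 : e ⬝ᵥ e ≠ 0 := by rw [he]; exact one_ne_zero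
  have hπe := plane_left h2 hπ he hf hef hsum
  have hπf := plane_right h2 hπ he hf hef hsum
  have hinv : C * rf f * (C * rf f) = 1 :=
    plane_det_neg h2 hπ he hf hef hsum (suppIn_mul hC (suppIn_rf hπ hf hπf))
      (by rw [Units.val_mul, Matrix.det_mul, hd, det_rf h2 hf, one_mul])
  have hcomm : rf f * C = C * rf f := by
    calc rf f * C = C⁻¹ * (C * rf f * (C * rf f)) * (rf f)⁻¹ := by group
      _ = C * rf f := by rw [hinv, mul_one, rf_inv, inv_eq_of_mul_eq_one_right hCC]
  have hfv : f ⬝ᵥ act C e = 0 := by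
    have h1 := congrArg (fun g => act g e) hcomm
    simp only [act_mul] at h1
    have hfix : act (rf f) e = e := by
      rw [act_rf hf, dotProduct_comm f e, hef, mul_zero, mul_zero, zero_smul, sub_zero]
    rw [hfix, act_rf hf] at h1
    have h3 := sub_eq_self.1 h1
    rcases smul_eq_zero.1 h3 with h | h
    · exact (mul_eq_zero.1 ((mul_eq_zero.1 h).resolve_left (inv_ne_zero hf))).resolve_left h2
    · exact absurd (by rw [h, dotProduct_zero]) hf
  have hα := plane_dec h2 hπ he hf hef hsum (plane_act h2 hπ he hf hef hsum hC hπe)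
  rw [hfv, mul_zero, zero_smul, add_zero] at hα
  generalize e ⬝ᵥ act C e = α at hα
  have hαα : α * α = 1 := by
    have := dot_act h2 hC.1 e e
    rwa [hα, smul_dotProduct, dotProduct_smul, he, smul_eq_mul, smul_eq_mul, mul_one] at this
  rcases mul_self_eq_one_iff.1 hαα with rfl | rfl
  · rw [one_smul] at hα
    refine Or.inl ((plane_fix h2 hπ he hf hef hsum hC hα).resolve_right fun h => ?_)
    rw [h, det_rf h2 hf] at hd
    exact h2 (by linear_combination -hd)
  · have hfix : act (rf e * C) e = e := by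
      rw [act_mul, hα, map_smul, act_rf he0, he]
      module
    rcases plane_fix h2 hπ he hf hef hsum (suppIn_mul (suppIn_rf hπ he0 hπe) hC) hfix with h | h
    · exfalso
      rw [eq_inv_of_mul_eq_one_right h, rf_inv, det_rf h2 he0] at hd
      exact h2 (by linear_combination -hd)
    · refine Or.inr ?_
      rw [show C = rf e * rf f by rw [← h, ← mul_assoc, rf_mul_self, one_mul]]
      refine Units.ext ?_
      rw [Units.val_mul, rf_val he0, rf_val hf, zp_val, mir, hsum]
      simp only [sub_mul, mul_sub, one_mul, mul_one, smul_mul_smul_comm, pj_mul_pj hef, smul_zero, sub_zero]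
      module

end Cfsg.Agent.MaxCl.TOrth
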