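/-
Every summand other than everything has only pure elements: summands of rank at least three by pairs of
non-conjugate pure involutions, planes by counting the elements inverted by a reflection.
-/
import Cfsg.Agent.Lib.MaxCl.TOrthPlane
import Cfsg.Agent.Lib.MaxCl.TOrthAbelian
import Cfsg.Agent.Lib.Invol.Basic

set_option autoImplicit false
set_option linter.unusedSectionVars false

namespace Cfsg.Agent.MaxCl.TOrth

open Matrix
open TW (tk pm pg rt rid spl sl Wr)
open scoped MatrixGroups Kronecker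

/-- involutions with product of odd order are conjugate inside a subgroup -/
theorem conj_of_odd {G : Type*} [Group G] (L : Subgroup G) {s t : G} (hs : s ∈ L) (ht : t ∈ L) (hss : s * s = 1)
    (htt : t * t = 1) (h : Odd (orderOf (s * t))) : ∃ c ∈ L, c * s * c⁻¹ = t := by
  have h' : Odd (orderOf ((⟨s, hs⟩ : L) * ⟨t, ht⟩)) := by
    rw [← Subgroup.orderOf_coe]
    exact h
  obtain ⟨c, hc⟩ := isConj_iff.1 (Invol.isConj_of_odd_orderOf_mul (s := (⟨s, hs⟩ : L)) (t := ⟨t, ht⟩)
    (Subtype.ext hss) (Subtype.ext htt) h')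
  exact ⟨c, c.2, congrArg Subtype.val hc⟩

variable {F : Type*} [Field F] {k : ℕ} {T : Type} [Fintype T] [DecidableEq T] [Finite F]
  {M : Subgroup (GL ((T → Fin k) × Fin k) F)} (hM : Ctx T k F M) {π : Matrix (Fin k) (Fin k) F} (hπ : Pr π)
include hM hπ

/-- the restriction group is pure for rank at least three -/
theorem triv_big (hπ1 : π ≠ 1) (ht : ∀ σ, Pr σ → rk σ < rk π → Triv M σ) (h3 : 3 ≤ rk π) : Triv M π := by
  classical
  have h2 := hM.hyp.h2
  haveI : Nonempty (T → Fin k) := ⟨fun _ => ⟨0, hM.hyp.odd.pos⟩⟩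
  haveI := Fintype.ofFinite F
  set L := kerGrp hM hπ
  obtain ⟨e, hπe, he⟩ := exists_value_pr h2 hπ (by omega) (1 : F)
  have he0 : e ⬝ᵥ e ≠ 0 := by rw [he]; exact one_ne_zero
  have hσx := hπ.sub (pr_pj he0) (mul_pj hπe)
  have hrx := rk_sub_pj hπ he0 hπe
  have hπσx : π * (π - pj e) = π - pj e := by rw [mul_sub, hπ.idem, mul_pj hπe]
  have hpjπ : pj e * π = pj e := by
    have := congrArg Matrix.transpose (mul_pj hπe)
    rwa [Matrix.transpose_mul, hπ.symm, (pr_pj he0).symm] at this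
  have hze : Commute (zz e : Matrix (Fin k) (Fin k) F) π := by
    rw [zz_val he0]
    exact (Commute.smul_left (hpjπ.trans (mul_pj hπe).symm) _).sub_left (Commute.one_left _)
  have hxL : inr _ k F (zp hσx) ∈ L :=
    zp_mem_ker hM hπ hσx hπσx (u := zz e)
      (hM.inr_mem (zz_mem h2 hM.hyp.odd' he0 (by rw [he]; exact IsSquare.one))) hze (Or.inl (by
        rw [zz_val he0, sub_mul, smul_mul_assoc, hpjπ, one_mul]; module))
  have hz0 := z0_mem hM hπ
  set x := inr (T → Fin k) k F (zp hσx) with hx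
  set z₀ := inr (T → Fin k) k F (zp hπ) with hz
  have hzx : ((z₀ * x : GL _ F) : Mx T k F) = rgt _ (mir (pj e)) := by
    rw [Units.val_mul, hz, hx, inr_eq_rgt, inr_eq_rgt, rgt_mul, zp_val, zp_val, mir_mul, hπσx]
    congr 2
    module
  -- the second involution
  obtain ⟨σy, hσy, hπσy, hyL, hy0, hyπ, hNCx, hNCz⟩ : ∃ (σy : Matrix (Fin k) (Fin k) F) (h : Pr σy),
      π * σy = σy ∧ inr _ k F (zp h) ∈ L ∧ σy ≠ 0 ∧ σy ≠ π ∧
      (∀ g ∈ L, (g : Mx T k F) * rgt _ (π - pj e) ≠ rgt _ σy * (g : Mx T k F)) ∧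
      (∀ g ∈ L, (g : Mx T k F) * rgt _ (pj e) ≠ rgt _ σy * (g : Mx T k F)) := by
    rcases Nat.lt_or_ge 3 (rk π) with h4 | h4
    · obtain ⟨a, hπa, ha⟩ := exists_value_pr h2 hπ (by omega) (1 : F)
      have ha0 : a ⬝ᵥ a ≠ 0 := by rw [ha]; exact one_ne_zero
      have hσa := hπ.sub (pr_pj ha0) (mul_pj hπa)
      have hra := rk_sub_pj hπ ha0 hπa
      obtain ⟨b, hb', hb⟩ := exists_value_pr h2 hσa (by omega) (1 : F)
      have hb0 : b ⬝ᵥ b ≠ 0 := by rw [hb]; exact one_ne_zero
      have hab : a ⬝ᵥ b = 0 := by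
        rw [← hb', ← hσa.dot, Matrix.sub_mulVec, hπa, pj_self ha0, sub_self, zero_dotProduct]
      have hπb : π *ᵥ b = b := by
        conv_lhs => rw [← hb', Matrix.mulVec_mulVec, mul_sub, hπ.idem, mul_pj hπa]
        exact hb'
      have hσ := (pr_pj ha0).add (pr_pj hb0) (pj_mul_pj hab)
      have hr : rk (pj a + pj b) = 2 := by
        rw [rk_add (pr_pj ha0) (pr_pj hb0) (pj_mul_pj hab), rk_pj ha0, rk_pj hb0]
      have hs := suppIn_mul (suppIn_rf hπ ha0 hπa) (suppIn_rf hπ hb0 hπb)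
      have hπσ : π * (pj a + pj b) = pj a + pj b := by rw [mul_add, mul_pj hπa, mul_pj hπb]
      have hσπ : (pj a + pj b) * π = pj a + pj b := by
        have := congrArg Matrix.transpose hπσ
        rwa [Matrix.transpose_mul, hπ.symm, hσ.symm] at this
      refine ⟨pj a + pj b, hσ, hπσ,
        zp_mem_ker hM hπ hσ hπσ (hM.inr_mem (rf_mul_rf_mem h2 ha0 hb0 (by rw [ha, hb, one_mul]; exact IsSquare.one)))
          hs.2.2 (Or.inl ?_),
        fun h => by rw [h, rk_zero] at hr; omega, fun h => by rw [h] at hr; omega,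
        fun g _ h => ?_, fun g _ h => ?_⟩
      · rw [Units.val_mul, rf_val ha0, rf_val hb0]
        simp only [sub_mul, mul_sub, one_mul, mul_one, smul_mul_smul_comm, pj_mul_pj hab, smul_zero, sub_zero]
        rw [add_mul] at hσπ
        simp only [smul_mul_assoc]
        have e1 : pj a * π = pj a := by
          have := congrArg Matrix.transpose (mul_pj hπa)
          rwa [Matrix.transpose_mul, hπ.symm, (pr_pj ha0).symm] at this
        have e2 : pj b * π = pj b := by
          have := congrArg Matrix.transpose (mul_pj hπb)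
          rwa [Matrix.transpose_mul, hπ.symm, (pr_pj hb0).symm] at this
        rw [e1, e2]
        module
      · have := rk_of_conj h
        omega
      · have := rk_of_conj h
        rw [rk_pj he0] at this
        omega
    · have hd : rk π = 3 := by omega
      obtain ⟨c, hc⟩ := exists_nonsquare h2
      obtain ⟨v, hπv, hv⟩ := exists_value_pr h2 hπ (by omega) c
      have hv0 : v ⬝ᵥ v ≠ 0 := by rw [hv]; exact fun e => hc (e ▸ ⟨0, (mul_zero 0).symm⟩)
      have hσ := hπ.sub (pr_pj hv0) (mul_pj hπv)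
      have hr := rk_sub_pj hπ hv0 hπv
      have hk : 2 ≤ rk (1 - π) := by
        have e1 := rk_one_sub hπ
        rw [Fintype.card_fin, hd] at e1
        have : rk (1 - π) ≠ 0 := fun h => hπ1 (sub_eq_zero.1 (eq_zero_of_rk h)).symm
        obtain ⟨m, hm⟩ := hM.hyp.odd
        omega
      obtain ⟨s, hs, hsm⟩ := exists_suppIn h2 hπ.one_sub hk (rf_mem v)
      have hsπ : (s : Matrix (Fin k) (Fin k) F) * π = π := by
        have := hs.2.1
        rwa [sub_sub_cancel] at this
      have hsc : Commute (s : Matrix (Fin k) (Fin k) F) π := by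
        have := (Commute.one_right (s : Matrix (Fin k) (Fin k) F)).sub_right hs.2.2
        rwa [sub_sub_cancel] at this
      have hsi : ((s⁻¹ : GL (Fin k) F) : Matrix (Fin k) (Fin k) F) * π = π := by
        conv_lhs => rw [← hsπ, ← mul_assoc, ← Units.val_mul, inv_mul_cancel, Units.val_one, one_mul]
      have hvs := suppIn_rf hπ hv0 hπv
      have hvπ : pj v * π = pj v := by
        have := congrArg Matrix.transpose (mul_pj hπv)
        rwa [Matrix.transpose_mul, hπ.symm, (pr_pj hv0).symm] at this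
      have hπσ : π * (π - pj v) = π - pj v := by rw [mul_sub, hπ.idem, mul_pj hπv]
      refine ⟨π - pj v, hσ, hπσ, zp_mem_ker hM hπ hσ hπσ (hM.inr_mem hsm)
          (by rw [Units.val_mul]; exact hsc.units_inv_left.mul_left hvs.2.2) (Or.inr ?_),
        fun h => by rw [h, rk_zero] at hr; omega, fun h => by rw [h] at hr; omega,
        fun g hg h => ?_, fun g _ h => ?_⟩
      · rw [Units.val_mul, mul_assoc, hvs.2.2.eq, ← mul_assoc, hsi, ← hvs.2.2.eq, rf_val hv0, sub_mul, one_mul,
          smul_mul_assoc, hvπ]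
        module
      · have h' : (g : Mx T k F) * rgt _ (pj e) = rgt _ (pj v) * (g : Mx T k F) := by
          rw [rgt_sub, rgt_sub, mul_sub, sub_mul, hg.2.2.1.eq, sub_right_inj] at h
          exact h
        have := class_of_conj hM.hyp (hM.hyp.card_odd T) hg.1 he0 hv0 h'
        rw [he, hv, one_mul] at this
        exact hc this
      · have := rk_of_conj h
        rw [rk_pj he0] at this
        omega
  have hNC0 : ∀ g ∈ L, (g : Mx T k F) * rgt _ (π - pj e) ≠ rgt _ (pj e) * (g : Mx T k F) := fun g _ h => by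
    have := rk_of_conj h
    rw [rk_pj he0] at this
    omega
  set y := inr (T → Fin k) k F (zp hσy) with hy
  refine triv_of_pure hM hπ fun r hr => ?_
  refine principle hM hπ hπ1 ht hσy hπσy hy0 hyπ (j := y) (inr_eq_rgt _) hr ?_
  set v := r * y * r⁻¹ with hv
  have hvL : v ∈ L := mul_mem (mul_mem hr hyL) (inv_mem hr)
  have hyy : y * y = 1 := by rw [hy, ← map_mul, zp_mul_self, map_one]
  have hxx : x * x = 1 := by rw [hx, ← map_mul, zp_mul_self, map_one]
  have hzz : z₀ * z₀ = 1 := by rw [hz, ← map_mul, zp_mul_self, map_one]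
  have hvv : v * v = 1 := by
    rw [hv, show r * y * r⁻¹ * (r * y * r⁻¹) = r * (y * y) * r⁻¹ by group, hyy]
    group
  have hσx0 : π - pj e ≠ 0 := fun h => by rw [h, rk_zero] at hrx; omega
  have hσxπ : π - pj e ≠ π := fun h => by rw [h] at hrx; omega
  have hzc : ∀ g ∈ L, Commute z₀ g := fun g hg => Units.ext (by
    rw [Units.val_mul, Units.val_mul, hz, inr_eq_rgt, zp_val, mir, rgt_sub, rgt_one, rgt_smul]
    exact ((Commute.one_left _).sub_left (hg.2.2.1.symm.smul_left _)).eq)
  rcases Nat.even_or_odd' (orderOf (x * v)) with ⟨m, hm | hm⟩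
  · have hm0 : m ≠ 0 := fun h => by
      have := orderOf_pos (x * v)
      omega
    obtain ⟨hj2, hjx, hjv⟩ := Invol.commute_pow_half hxx hvv hm0 hm
    set j := (x * v) ^ m with hj
    have hjL : j ∈ L := pow_mem (mul_mem hxL hvL) m
    have hjj : j * j = 1 := by rw [← pow_two, ← hj2, pow_orderOf_eq_one]
    have hj1 : j ≠ 1 := fun h => by rw [h, orderOf_one] at hj2; omega
    have hjp : Pur j := cent_pure hM hπ hπ1 ht hjL hσx hπσx hσx0 hσxπ
      (mir_conj hM hπ (mul_inv_eq_iff_eq_mul.2 hjx.eq) (inr_eq_rgt _) (inr_eq_rgt _))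
    by_cases hjz : j = z₀
    · exfalso
      rcases Nat.even_or_odd' m with ⟨l, hl | hl⟩
      · set w := (x * v) ^ l with hw
        have e1 : x * w = w⁻¹ * x := Invol.pow_mul_inv_eq' hxx hvv l
        have e2 : w * x * w⁻¹ = z₀ * x := by
          rw [← hjz, hj, hl, two_mul, pow_add, ← hw]
          calc w * x * w⁻¹ = w * (w * (w⁻¹ * x)) * w⁻¹ := by group
            _ = _ := by rw [← e1]; group
        exact hNC0 w (pow_mem (mul_mem hxL hvL) l) (mir_conj hM hπ e2 (inr_eq_rgt _) hzx)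
      · have hodd : Odd (orderOf (z₀ * x * v)) := by
          refine Odd.of_dvd_nat (⟨l, hl⟩ : Odd m) (orderOf_dvd_of_pow_eq_one ?_)
          rw [mul_assoc, (hzc _ (mul_mem hxL hvL)).mul_pow, ← hj, hjz, hl, pow_succ, pow_mul, pow_two, hzz, one_pow,
            one_mul, hzz]
        obtain ⟨c, hc, hce⟩ := conj_of_odd L (mul_mem hz0 hxL) hvL
          (by rw [mul_assoc z₀, ← mul_assoc x, ← (hzc x hxL).eq, mul_assoc z₀ x, hxx, mul_one, hzz]) hvv hodd
        refine hNCz (r⁻¹ * c) (mul_mem (inv_mem hr) hc) (mir_conj hM hπ (j := z₀ * x) (j' := y) ?_ hzx (inr_eq_rgt _))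
        rw [show r⁻¹ * c * (z₀ * x) * (r⁻¹ * c)⁻¹ = r⁻¹ * (c * (z₀ * x) * c⁻¹) * r by group, hce, hv]
        group
    · exact cent_pure' hM hπ hπ1 ht hvL hjL hjp hjj hj1 hjz hjv.symm
  · exfalso
    obtain ⟨c, hc, hce⟩ := conj_of_odd L hxL hvL hxx hvv ⟨m, hm⟩
    refine hNCx (r⁻¹ * c) (mul_mem (inv_mem hr) hc) (mir_conj hM hπ (j := x) (j' := y) ?_ (inr_eq_rgt _) (inr_eq_rgt _))
    rw [show r⁻¹ * c * x * (r⁻¹ * c)⁻¹ = r⁻¹ * (c * x * c⁻¹) * r by group, hce, hv]
    group

/-- the restriction group is pure for planes -/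
theorem triv_two (hπ1 : π ≠ 1) (ht : ∀ σ, Pr σ → rk σ < rk π → Triv M σ) (hd : rk π = 2) : Triv M π := by
  classical
  have h2 := hM.hyp.h2
  haveI : Nonempty (T → Fin k) := ⟨fun _ => ⟨0, hM.hyp.odd.pos⟩⟩
  haveI := Fintype.ofFinite F
  set L := kerGrp hM hπ
  obtain ⟨e, hπe, he⟩ := exists_value_pr h2 hπ (by omega) (1 : F)
  have he0 : e ⬝ᵥ e ≠ 0 := by rw [he]; exact one_ne_zero
  have hrx := rk_sub_pj hπ he0 hπe
  obtain ⟨f, hf, hσf, hσ⟩ := eq_pj_of_rk h2 (hπ.sub (pr_pj he0) (mul_pj hπe)) (by omega)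
  have hsum : π = pj e + pj f := by rw [← hσ]; abel
  have hef : e ⬝ᵥ f = 0 := by
    rw [← hσf, ← (hπ.sub (pr_pj he0) (mul_pj hπe)).dot, Matrix.sub_mulVec, hπe, pj_self he0, sub_self, zero_dotProduct]
  have hπf := plane_right h2 hπ he hf hef hsum
  have hπpf : π * pj f = pj f := mul_pj hπf
  have hf0 : pj f ≠ 0 := fun h => by have := rk_pj hf; rw [h, rk_zero] at this; omega
  have hfπ : pj f ≠ π := fun h => by have := rk_pj hf; rw [h] at this; omega
  have hpjπ : pj e * π = pj e := by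
    have := congrArg Matrix.transpose (mul_pj hπe)
    rwa [Matrix.transpose_mul, hπ.symm, (pr_pj he0).symm] at this
  have hze : Commute (zz e : Matrix (Fin k) (Fin k) F) π := by
    rw [zz_val he0]
    exact (Commute.smul_left (hpjπ.trans (mul_pj hπe).symm) _).sub_left (Commute.one_left _)
  have hxL : inr _ k F (rf f) ∈ L := by
    rw [rf_eq_zp hf]
    exact zp_mem_ker hM hπ (pr_pj hf) hπpf (u := zz e)
      (hM.inr_mem (zz_mem h2 hM.hyp.odd' he0 (by rw [he]; exact IsSquare.one))) hze (Or.inl (by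
        rw [zz_val he0, sub_mul, smul_mul_assoc, hpjπ, one_mul, hsum]; module))
  have hzL := z0_mem hM hπ
  set x := inr (T → Fin k) k F (rf f) with hx
  set z₀ := inr (T → Fin k) k F (zp hπ) with hz
  have hxv : (x : Mx T k F) = rgt _ (mir (pj f)) := by rw [hx, rf_eq_zp hf]; rfl
  -- determinants
  have hdetinr : ∀ C : GL (Fin k) F, C ∈ Orth (Fin k) F →
      (inr (T → Fin k) k F C : Mx T k F).det = (C : Matrix (Fin k) (Fin k) F).det := by
    intro C hC
    rw [inr_eq_rgt, rgt, Matrix.det_kronecker, Matrix.det_one, one_pow, one_mul]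
    obtain ⟨n, hn⟩ := hM.hyp.card_odd T
    rw [hn, pow_succ, pow_mul]
    rcases det_orth h2 hC with h | h <;> rw [h] <;> norm_num
  have hdx : (x : Mx T k F).det = -1 := by rw [hx, hdetinr _ (rf_mem f), det_rf h2 hf]
  have hdz : (z₀ : Mx T k F).det = 1 := by
    rw [hz, hdetinr _ (zp_mem h2 hπ), show zp hπ = rf e * rf f from Units.ext (by
        rw [Units.val_mul, rf_val he0, rf_val hf, zp_val, mir, hsum]
        simp only [sub_mul, mul_sub, one_mul, mul_one, smul_mul_smul_comm, pj_mul_pj hef, smul_zero, sub_zero]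
        module), Units.val_mul, Matrix.det_mul, det_rf h2 he0, det_rf h2 hf]
    norm_num
  have hne : (1 : F) ≠ -1 := fun h => h2 (by linear_combination h)
  have hxx : x * x = 1 := by rw [hx, ← map_mul, rf_mul_self, map_one]
  have hxi : x⁻¹ = x := inv_eq_of_mul_eq_one_right hxx
  have hz1 : z₀ ≠ 1 := fun h => by
    have h' : mir π = 1 := rgt_inj (β := T → Fin k) (by rw [rgt_one, ← zp_val hπ, ← inr_eq_rgt, ← hz, h, Units.val_one])
    have hπ0 : π = 0 := (smul_eq_zero.1 (sub_eq_self.1 h')).resolve_left h2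
    rw [hπ0, rk_zero] at hd
    omega
  have hzz : z₀ * z₀ = 1 := by rw [hz, ← map_mul, zp_mul_self, map_one]
  -- pure elements
  have hneg : ∀ g ∈ L, Pur g → (g : Mx T k F).det = -1 → g * g = 1 := by
    intro g hg hp hdg
    obtain ⟨C, hC, rfl⟩ := exists_suppIn_of_pur hM hπ hg hp
    rw [hdetinr C hC.1] at hdg
    rw [← map_mul, plane_det_neg h2 hπ he hf hef hsum hC hdg, map_one]
  let Lp : Subgroup (GL ((T → Fin k) × Fin k) F) :=
    { carrier := {g | g ∈ L ∧ (g : Mx T k F).det = 1}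
      one_mem' := ⟨one_mem _, by rw [Units.val_one, Matrix.det_one]⟩
      mul_mem' := fun ha hb => ⟨mul_mem ha.1 hb.1, by rw [Units.val_mul, Matrix.det_mul, ha.2, hb.2, one_mul]⟩
      inv_mem' := fun {a} ha => ⟨inv_mem ha.1, by
        have := congrArg Matrix.det a.inv_mul
        rw [Matrix.det_mul, Matrix.det_one, ha.2, mul_one] at this
        exact this⟩ }
  have hconj_det : ∀ a b : GL ((T → Fin k) × Fin k) F, ((a * b * a⁻¹ : GL _ F) : Mx T k F).det = (b : Mx T k F).det :=
    fun a b => by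
      have h1 : (a : Mx T k F).det * ((a⁻¹ : GL _ F) : Mx T k F).det = 1 := by
        rw [← Matrix.det_mul, ← Units.val_mul, mul_inv_cancel, Units.val_one, Matrix.det_one]
      rw [Units.val_mul, Units.val_mul, Matrix.det_mul, Matrix.det_mul, mul_right_comm, h1, one_mul]
  have hinvT : ∀ a ∈ L, Pur a → (a : Mx T k F).det = -1 → ∀ t ∈ Lp, Pur t → a * t * a = t⁻¹ := by
    intro a ha hap had t htL htp
    have h := hneg (t * a) (mul_mem htL.1 ha) (htp.mul hap)
      (by rw [Units.val_mul, Matrix.det_mul, htL.2, had, one_mul])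
    calc a * t * a = t⁻¹ * (t * a * (t * a)) := by group
      _ = _ := by rw [h, mul_one]
  have hinvol : ∀ t ∈ Lp, Pur t → t * t = 1 → t = 1 ∨ t = z₀ := by
    intro t htL htp htt
    obtain ⟨C, hC, rfl⟩ := exists_suppIn_of_pur hM hπ htL.1 htp
    have hdC : (C : Matrix (Fin k) (Fin k) F).det = 1 := (hdetinr C hC.1).symm.trans htL.2
    have hCC : C * C = 1 := Units.ext (rgt_inj (β := T → Fin k) (by
      rw [← inr_eq_rgt, map_mul, htt, Units.val_one, Units.val_one, rgt_one]))
    rcases plane_invol h2 hπ he hf hef hsum hC hdC hCC with rfl | rfl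
    · exact Or.inl (map_one _)
    · exact Or.inr rfl
  have hxp : Pur x := pur_inr _
  obtain ⟨t, htL, htp, htns⟩ : ∃ t, t ∈ Lp ∧ Pur t ∧ ∀ s ∈ Lp, Pur s → s * s ≠ t := by
    by_contra hc
    push Not at hc
    let sq : {t // t ∈ Lp ∧ Pur t} → {t // t ∈ Lp ∧ Pur t} := fun t =>
      ⟨t.1 * t.1, mul_mem t.2.1 t.2.1, t.2.2.mul t.2.2⟩
    have hs : Function.Surjective sq := fun t => by
      obtain ⟨s, hs, hsp, he⟩ := hc t.1 t.2.1 t.2.2
      exact ⟨⟨s, hs, hsp⟩, Subtype.ext he⟩
    have := Finite.injective_iff_surjective.2 hs (a₁ := ⟨z₀, ⟨hzL, hdz⟩, pur_inr _⟩) (a₂ := ⟨1, one_mem _, pur_one⟩)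
      (Subtype.ext (show z₀ * z₀ = 1 * 1 by rw [hzz, one_mul]))
    exact hz1 (congrArg Subtype.val this)
  have hcent : ∀ a ∈ L, Pur a → (a : Mx T k F).det = -1 → ∀ s ∈ Lp, Commute s a → s = 1 ∨ s = z₀ := by
    intro a ha hap had s hs hc
    have haa := hneg a ha hap had
    have hsp : Pur s := cent_pure' hM hπ hπ1 ht hs.1 ha hap haa
      (fun h => hne (by rw [← had, h, Units.val_one, Matrix.det_one]))
      (fun h => hne (hdz.symm.trans ((congrArg (fun z : GL _ F => (z : Mx T k F).det) h.symm).trans had))) hc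
    refine hinvol s hs hsp ?_
    have h := hinvT a ha hap had s hs hsp
    rw [← hc.eq, mul_assoc, haa, mul_one] at h
    exact mul_eq_one_iff_eq_inv.2 h
  -- every rotation is inverted
  have hInv : ∀ g ∈ Lp, x * g * x = g⁻¹ := by
    set A := (Lp : Set (GL ((T → Fin k) × Fin k) F)).toFinite.toFinset with hA
    have memA : ∀ g, g ∈ A ↔ g ∈ Lp := fun g => by rw [hA, Set.Finite.mem_toFinset]; rfl
    set I := A.filter (fun g => x * g * x = g⁻¹) with hI
    have hLz : z₀ ∈ Lp := ⟨hzL, hdz⟩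
    have himage : ∀ a ∈ L, Pur a → (a : Mx T k F).det = -1 →
        A.card ≤ 2 * (A.image fun r => r * a * r⁻¹ * x).card ∧ (A.image fun r => r * a * r⁻¹ * x) ⊆ I := by
      intro a ha hap had
      refine ⟨Finset.card_le_mul_card_image A 2 fun b hb => ?_, fun b hb => ?_⟩
      · obtain ⟨r₀, hr₀, rfl⟩ := Finset.mem_image.1 hb
        refine (Finset.card_le_card (t := {r₀, r₀ * z₀}) fun r hr => ?_).trans Finset.card_le_two
        obtain ⟨hrA, hre⟩ := Finset.mem_filter.1 hr
        have hc : Commute (r₀⁻¹ * r) a := by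
          have e1 := mul_right_cancel hre
          calc r₀⁻¹ * r * a = r₀⁻¹ * (r * a * r⁻¹) * r := by group
            _ = a * (r₀⁻¹ * r) := by rw [e1]; group
        rcases hcent a ha hap had _ (mul_mem (inv_mem ((memA _).1 hr₀)) ((memA _).1 hrA)) hc with h | h
        · rw [inv_mul_eq_one.1 h]; simp
        · rw [show r = r₀ * z₀ by rw [← h, mul_inv_cancel_left]]; simp
      · obtain ⟨r, hr, rfl⟩ := Finset.mem_image.1 hb
        have hr' := (memA _).1 hr
        have hy : (r * a * r⁻¹) * (r * a * r⁻¹) = 1 := by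
          rw [show r * a * r⁻¹ * (r * a * r⁻¹) = r * (a * a) * r⁻¹ by group, hneg a ha hap had]
          group
        refine Finset.mem_filter.2 ⟨(memA _).2 ⟨mul_mem (mul_mem (mul_mem hr'.1 ha) (inv_mem hr'.1)) hxL, ?_⟩, ?_⟩
        · rw [Units.val_mul, Matrix.det_mul, hconj_det, had, hdx]; ring
        · have hi : (r * a * r⁻¹)⁻¹ = r * a * r⁻¹ := inv_eq_of_mul_eq_one_right hy
          rw [_root_.mul_inv_rev, hxi, hi, ← mul_assoc x, mul_assoc (x * _), hxx, mul_one]
    have hax : t * x ∈ L := mul_mem htL.1 hxL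
    have hap : Pur (t * x) := htp.mul hxp
    have had : ((t * x : GL _ F) : Mx T k F).det = -1 := by rw [Units.val_mul, Matrix.det_mul, htL.2, hdx, one_mul]
    obtain ⟨hc1, hs1⟩ := himage x hxL hxp hdx
    obtain ⟨hc2, hs2⟩ := himage (t * x) hax hap had
    have hdisj : Disjoint (A.image fun r => r * x * r⁻¹ * x) (A.image fun r => r * (t * x) * r⁻¹ * x) := by
      rw [Finset.disjoint_left]
      intro b hb hb'
      obtain ⟨r, hr, rfl⟩ := Finset.mem_image.1 hb
      obtain ⟨r', hr', he'⟩ := Finset.mem_image.1 hb'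
      have hcL : r'⁻¹ * r ∈ Lp := mul_mem (inv_mem ((memA _).1 hr')) ((memA _).1 hr)
      have hce : r'⁻¹ * r * x * (r'⁻¹ * r)⁻¹ = t * x := by
        have e1 := mul_right_cancel he'
        calc r'⁻¹ * r * x * (r'⁻¹ * r)⁻¹ = r'⁻¹ * (r * x * r⁻¹) * r' := by group
          _ = t * x := by rw [← e1]; group
      have hcp : Pur (r'⁻¹ * r) := principle hM hπ hπ1 ht (pr_pj hf) hπpf hf0 hfπ hxv hcL.1 (hce ▸ hap)
      have hi := hinvT x hxL hxp hdx _ hcL hcp
      refine htns _ hcL hcp (mul_right_cancel (b := x) ?_)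
      rw [← hce, ← hi]
      calc r'⁻¹ * r * (r'⁻¹ * r) * x = r'⁻¹ * r * (1 * (r'⁻¹ * r) * x) := by group
        _ = _ := by rw [← hxx]; group
    have hu := Finset.card_union_of_disjoint hdisj
    have hsub := Finset.union_subset hs1 hs2
    have hIA : I = A := Finset.eq_of_subset_of_card_le (Finset.filter_subset _ _) (by
      have := Finset.card_le_card hsub
      omega)
    intro g hg
    have : g ∈ I := hIA ▸ (memA g).2 hg
    exact (Finset.mem_filter.1 this).2
  have hcomm : ∀ g ∈ Lp, ∀ h ∈ Lp, Commute g h := by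
    intro g hg h hh
    have e1 : x * (g * h) * x = g⁻¹ * h⁻¹ := by
      calc x * (g * h) * x = x * g * 1 * h * x := by group
        _ = x * g * (x * x) * h * x := by rw [hxx]
        _ = (x * g * x) * (x * h * x) := by group
        _ = _ := by rw [hInv g hg, hInv h hh]
    rw [hInv _ (mul_mem hg hh)] at e1
    show g * h = h * g
    rw [← inv_inv (g * h), e1, _root_.mul_inv_rev, inv_inv, inv_inv]
  -- the characteristic
  obtain ⟨p, hp⟩ := CharP.exists F
  haveI := hp
  have hprime : p.Prime := CharP.char_is_prime F p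
  haveI : Fact p.Prime := ⟨hprime⟩
  have hp2 : p ≠ 2 := fun h => h2 (by
    subst h
    exact CharTwo.two_eq_zero)
  haveI : Nonempty ((T → Fin k) × Fin k) := ⟨(fun _ => ⟨0, hM.hyp.odd.pos⟩, ⟨0, hM.hyp.odd.pos⟩)⟩
  haveI : CharP (Mx T k F) p := Matrix.charP p
  haveI : ExpChar (Mx T k F) p := ExpChar.prime hprime
  have hnorm : ∀ u : T → GL (Fin k) F, (∀ r, u r ∈ Om (Fin k) F) → ∀ a ∈ Lp,
      inl _ k F (tk u) * a * (inl _ k F (tk u))⁻¹ ∈ Lp := fun u hu a ha =>
    ⟨conj_inl_mem hM hπ hu ha.1, (hconj_det _ _).trans ha.2⟩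
  have hcop : ∀ g ∈ Lp, (orderOf g).Coprime p → Pur g := fun g hg hgp =>
    rgt_of_commute hM.hyp fun u hu => congrArg Units.val (commute_of_coprime hM.hyp p hcomm hnorm hg hgp hu).eq
  -- unipotent rotations
  have huni : ∀ g ∈ Lp, (∃ i, g ^ p ^ i = 1) → g = 1 := by
    set P := ((Lp : Set (GL ((T → Fin k) × Fin k) F)).toFinite.toFinset).filter (fun g => ∃ i, g ^ p ^ i = 1) with hP
    have memP : ∀ g, g ∈ P ↔ g ∈ Lp ∧ ∃ i, g ^ p ^ i = 1 := fun g => by
      rw [hP, Finset.mem_filter, Set.Finite.mem_toFinset]; rfl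
    let N : GL ((T → Fin k) × Fin k) F → Module.End F (((T → Fin k) × Fin k) → F) :=
      fun g => Matrix.toLinAlgEquiv' ((g : Mx T k F) - 1)
    have hN : ∀ g v, N g v = (g : Mx T k F) *ᵥ v - v := fun g v => by
      simp only [N, Matrix.toLinAlgEquiv'_apply, Matrix.sub_mulVec, Matrix.one_mulVec]
    let U := LinearMap.range (rgt (T → Fin k) π).mulVecLin
    have memU : ∀ v, v ∈ U ↔ rgt (T → Fin k) π *ᵥ v = v := fun v => by
      refine ⟨?_, fun h => ⟨v, h⟩⟩
      rintro ⟨w, rfl⟩
      rw [Matrix.mulVecLin_apply, Matrix.mulVec_mulVec, rgt_mul, hπ.idem]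
    have hpv : ∀ (C : Matrix (Fin k) (Fin k) F) (y : (T → Fin k) → F) (v : Fin k → F),
        rgt (T → Fin k) C *ᵥ TP.pv y v = TP.pv y (C *ᵥ v) := fun C y v => by
      funext ⟨i, j⟩
      simp only [rgt, Matrix.mulVec, dotProduct, Matrix.kroneckerMap_apply, Fintype.sum_prod_type, TP.pv_apply,
        Matrix.one_apply, ite_mul, one_mul, zero_mul, Finset.mul_sum]
      rw [Finset.sum_eq_single i]
      · exact Finset.sum_congr rfl fun _ _ => by simp only [if_true]; ring
      · intro b _ hb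
        exact Finset.sum_eq_zero fun _ _ => if_neg (Ne.symm hb)
      · simp
    obtain ⟨w, hwU, hw0, hwN⟩ := exists_common_kernel P N (fun g hg => by
        obtain ⟨i, hi⟩ := ((memP g).1 hg).2
        refine IsNilpotent.map (r := ((g : Mx T k F) - 1)) ⟨p ^ i, ?_⟩ _
        rw [sub_pow_char_pow_of_commute (p := p) (h := Commute.one_right _), one_pow, ← Units.val_pow_eq_pow_val, hi,
          Units.val_one, sub_self])
      (fun a ha b hb => by
        have h1 : Commute ((a : Mx T k F) - 1) ((b : Mx T k F) - 1) :=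
          ((show Commute (a : Mx T k F) b from congrArg Units.val (hcomm a ((memP a).1 ha).1 b ((memP b).1 hb).1).eq).sub_left
            (Commute.one_left _)).sub_right ((Commute.one_right _))
        exact h1.map _)
      (U := U) (fun g hg v hv => by
        rw [hN]
        refine sub_mem ((memU _).2 ?_) hv
        rw [Matrix.mulVec_mulVec, ← (((memP g).1 hg).1.1).2.2.1.eq, ← Matrix.mulVec_mulVec, (memU v).1 hv])
      (v := TP.pv (Pi.single (fun _ => ⟨0, hM.hyp.odd.pos⟩) (1 : F)) e)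
      ((memU _).2 (by rw [hpv, hπe]))
      (fun h => by
        rcases TP.pv_eq_zero.1 h with h' | h'
        · exact absurd (congrFun h' (fun _ => ⟨0, hM.hyp.odd.pos⟩)) (by simp)
        · rw [h', zero_dotProduct] at he; exact zero_ne_one he)
    let W : Submodule F (((T → Fin k) × Fin k) → F) := U ⊓ ⨅ g ∈ P, LinearMap.ker (N g)
    have memW : ∀ v, v ∈ W ↔ rgt (T → Fin k) π *ᵥ v = v ∧ ∀ g ∈ P, (g : Mx T k F) *ᵥ v = v := fun v => by
      simp only [W, Submodule.mem_inf, Submodule.mem_iInf, LinearMap.mem_ker, hN, sub_eq_zero, memU]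
    have hwW : w ∈ W := (memW w).2 ⟨(memU w).1 hwU, fun g hg => sub_eq_zero.1 ((hN g w).symm.trans (hwN g hg))⟩
    have hxW : (x : Mx T k F) *ᵥ w ∈ W := by
      refine (memW _).2 ⟨?_, fun g hg => ?_⟩
      · rw [Matrix.mulVec_mulVec, ← hxL.2.2.1.eq, ← Matrix.mulVec_mulVec, ((memW w).1 hwW).1]
      · obtain ⟨hgL, i, hi⟩ := (memP g).1 hg
        have hgi : g⁻¹ ∈ P := (memP _).2 ⟨inv_mem hgL, i, by rw [inv_pow, hi, inv_one]⟩
        have e1 : g * x = x * g⁻¹ := by
          rw [← hInv g hgL]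
          calc g * x = 1 * g * x := by group
            _ = _ := by rw [← hxx]; group
        rw [Matrix.mulVec_mulVec, ← Units.val_mul, e1, Units.val_mul, ← Matrix.mulVec_mulVec, ((memW w).1 hwW).2 _ hgi]
    obtain ⟨a, ha, haa, haW, ha0⟩ : ∃ a, (a = e ∨ a = f) ∧ a ⬝ᵥ a ≠ 0 ∧
        rgt (T → Fin k) (pj a) *ᵥ w ∈ W ∧ rgt (T → Fin k) (pj a) *ᵥ w ≠ 0 := by
      have hfw : rgt (T → Fin k) (pj f) *ᵥ w = (2 : F)⁻¹ • (w - (x : Mx T k F) *ᵥ w) := by
        rw [hxv, mir, rgt_sub, rgt_one, rgt_smul, Matrix.sub_mulVec, Matrix.one_mulVec, Matrix.smul_mulVec,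
          sub_sub_cancel, inv_smul_smul₀ h2]
      have hfW : rgt (T → Fin k) (pj f) *ᵥ w ∈ W := hfw ▸ W.smul_mem _ (sub_mem hwW hxW)
      have hew : rgt (T → Fin k) (pj e) *ᵥ w = w - rgt (T → Fin k) (pj f) *ᵥ w := by
        rw [eq_sub_iff_add_eq, ← Matrix.add_mulVec, ← rgt_add, ← hsum, ((memW w).1 hwW).1]
      by_cases h0 : rgt (T → Fin k) (pj f) *ᵥ w = 0
      · exact ⟨e, Or.inl rfl, he0, hew ▸ sub_mem hwW hfW, by rw [hew, h0, sub_zero]; exact hw0⟩
      · exact ⟨f, Or.inr rfl, hf, hfW, h0⟩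
    have hrow : ∀ z, rgt (T → Fin k) (pj a) *ᵥ z = TP.pv (fun i => (a ⬝ᵥ a)⁻¹ * (a ⬝ᵥ TP.row z i)) a := fun z => by
      funext ⟨i, j⟩
      have e1 := congrFun (pj_mulVec a (TP.row z i)) j
      simp only [Matrix.mulVec, dotProduct, TP.row, Pi.smul_apply, smul_eq_mul] at e1
      simp only [rgt, Matrix.mulVec, dotProduct, Matrix.kroneckerMap_apply, Fintype.sum_prod_type, TP.pv_apply,
        Matrix.one_apply, ite_mul, one_mul, zero_mul, TP.row]
      rw [Finset.sum_eq_single i]
      · simp only [if_true]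
        exact e1
      · intro b _ hb
        exact Finset.sum_eq_zero fun _ _ => if_neg (Ne.symm hb)
      · simp
    let Y : Submodule F ((T → Fin k) → F) :=
      { carrier := {y | TP.pv y a ∈ W}
        add_mem' := fun {y y'} hy hy' => show TP.pv (y + y') a ∈ W by rw [TP.pv_add_left]; exact add_mem hy hy'
        zero_mem' := show TP.pv (0 : (T → Fin k) → F) a ∈ W by rw [TP.pv_zero_left]; exact zero_mem _
        smul_mem' := fun c y hy => show TP.pv (c • y) a ∈ W by rw [TP.pv_smul_left]; exact W.smul_mem _ hy }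
    have hY : Y = ⊤ := irred hM.hyp (fun u hu y hy => show TP.pv (act (tk u) y) a ∈ W by
        have e1 : TP.pv (act (tk u) y) a = (inl _ k F (tk u) : Mx T k F) *ᵥ TP.pv y a := by
          rw [← act_apply, inl, MonoidHom.comp_apply]
          exact ((TP.act_kr_pv (tk u) 1 y a).trans (by rw [act_one])).symm
        rw [e1]
        refine (memW _).2 ⟨?_, fun g hg => ?_⟩
        · rw [Matrix.mulVec_mulVec, ← (inl_commute_rgt _ _).eq, ← Matrix.mulVec_mulVec, ((memW _).1 hy).1]
        · obtain ⟨hgL, i, hi⟩ := (memP g).1 hg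
          set h := inl (T → Fin k) k F (tk u) with hh
          have hg' : h⁻¹ * g * h ∈ P := by
            refine (memP _).2 ⟨?_, i, ?_⟩
            · have := hnorm (fun r => (u r)⁻¹) (fun r => inv_mem (hu r)) g hgL
              rwa [show (fun r => (u r)⁻¹) = u⁻¹ from rfl, map_inv, map_inv, inv_inv] at this
            · have := conj_pow (a := h⁻¹) (b := g) (i := p ^ i)
              rw [inv_inv] at this
              rw [this, hi, mul_one, inv_mul_cancel]
          rw [Matrix.mulVec_mulVec, ← Units.val_mul, show g * h = h * (h⁻¹ * g * h) by group, Units.val_mul,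
            ← Matrix.mulVec_mulVec, ((memW _).1 hy).2 _ hg'])
      (v := fun i => (a ⬝ᵥ a)⁻¹ * (a ⬝ᵥ TP.row w i)) (show TP.pv _ a ∈ W by rw [← hrow]; exact haW)
      (fun h => ha0 (by rw [hrow, h, TP.pv_zero_left]))
    intro g hgL hgi
    have hgP : g ∈ P := (memP g).2 ⟨hgL, hgi⟩
    have e1 : (g : Mx T k F) * rgt _ (pj a) = rgt _ (pj a) := by
      refine Matrix.ext_iff_mulVec.2 fun z => ?_
      rw [← Matrix.mulVec_mulVec, hrow]
      exact ((memW _).1 (show (fun i => (a ⬝ᵥ a)⁻¹ * (a ⬝ᵥ TP.row z i)) ∈ Y from hY ▸ Submodule.mem_top)).2 g hgP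
    have hcg : Commute (g : Mx T k F) (rgt _ (pj a)) := by
      have e2 := congrArg (fun m => ((g : Mx T k F)ᵀ * m)ᵀ) e1
      simp only [← mul_assoc, transpose_mul h2 hgL.1.1, one_mul, Matrix.transpose_mul, Matrix.transpose_transpose,
        rgt_transpose, (pr_pj haa).symm] at e2
      exact e1.trans e2
    have hcf : Commute (g : Mx T k F) (rgt _ (pj f)) := by
      rcases ha with rfl | rfl
      · rw [show pj f = π - pj a by rw [hsum]; abel, rgt_sub]
        exact hgL.1.2.2.1.sub_right hcg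
      · exact hcg
    have hcx : Commute g x := Units.ext (by
      rw [Units.val_mul, Units.val_mul, hxv, mir, rgt_sub, rgt_one, rgt_smul]
      exact ((Commute.one_right _).sub_right (hcf.smul_right _)).eq)
    have hg2 : g * g = 1 := by
      have := hInv g hgL
      rw [← hcx.eq, mul_assoc, hxx, mul_one] at this
      exact mul_eq_one_iff_eq_inv.2 this
    obtain ⟨i, hi⟩ := hgi
    obtain ⟨m, hm⟩ : Odd (p ^ i) := (hprime.odd_of_ne_two hp2).pow
    rw [hm, pow_succ, pow_mul, pow_two, hg2, one_pow, one_mul] at hi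
    exact hi
  have hLp : ∀ g ∈ Lp, Pur g := by
    intro g hg
    obtain ⟨i, m, hm, hn⟩ := Nat.exists_eq_pow_mul_and_not_dvd (orderOf_pos g).ne' p hprime.ne_one
    have hgm : g ^ m = 1 := huni _ (pow_mem hg m) ⟨i, by rw [← pow_mul, mul_comm, ← hn, pow_orderOf_eq_one]⟩
    refine hcop g hg (Nat.Coprime.coprime_dvd_left (orderOf_dvd_of_pow_eq_one hgm) ?_)
    exact (hprime.coprime_iff_not_dvd.2 hm).symm
  refine triv_of_pure hM hπ fun g hg => ?_
  rcases det_orth h2 hg.1 with h | h
  · exact hLp g ⟨hg, h⟩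
  · have h' := hLp (g * x) ⟨mul_mem hg hxL, by rw [Units.val_mul, Matrix.det_mul, h, hdx]; ring⟩
    have := h'.mul hxp
    rwa [mul_assoc, hxx, mul_one] at this

omit hπ in
/-- **every proper summand has only pure elements** -/
theorem triv_all {π : Matrix (Fin k) (Fin k) F} (hπ : Pr π) (hπ1 : π ≠ 1) : Triv M π := by
  induction hn : rk π using Nat.strong_induction_on generalizing π with
  | _ n ih =>
    subst hn
    have ht : ∀ σ, Pr σ → rk σ < rk π → Triv M σ := fun σ hσ hlt => ih _ hlt hσ (fun e => by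
      have h1 := rk_le π
      rw [e, rk_one, Fintype.card_fin] at hlt
      rw [Fintype.card_fin] at h1
      omega) rfl
    by_cases h3 : 3 ≤ rk π
    · exact triv_big hM hπ hπ1 ht h3
    rcases Nat.lt_trichotomy (rk π) 1 with h | h | h
    · rw [eq_zero_of_rk (show rk π = 0 by omega)]
      exact triv_zero
    · exact triv_line hM hπ h
    · exact triv_two hM hπ hπ1 ht (by omega)

end Cfsg.Agent.MaxCl.TOrth
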