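/-
Tensor products separate, parts of isometries on lines, operators of one slot, slot elements acting on a summand,
and the classes of diagonal pairs.
-/
import Cfsg.Agent.Lib.MaxCl.TOrthTriv

set_option autoImplicit false
set_option linter.unusedSectionVars false

namespace Cfsg.Agent.MaxCl.TOrth

open Matrix
open TW (tk pm pg rt rid spl sl Wr)
open scoped MatrixGroups Kronecker

variable {F : Type*} [Field F] {k : ℕ}

section Factor

variable {β : Type} [Fintype β] [DecidableEq β]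

/-- tensor products separate -/
theorem kron_eq {X Y : Matrix β β F} {σ τ : Matrix (Fin k) (Fin k) F} (h : X ⊗ₖ σ = Y ⊗ₖ τ) (hσ : σ ≠ 0)
    (hX : X ≠ 0) : ∃ c : F, c ≠ 0 ∧ Y = c • X := by
  obtain ⟨i, j, hij⟩ : ∃ i j, σ i j ≠ 0 := by
    by_contra hn
    push Not at hn
    exact hσ (Matrix.ext hn)
  have e : ∀ p q, X p q * σ i j = Y p q * τ i j := fun p q => congrFun (congrFun h (p, i)) (q, j)
  have hτ : τ i j ≠ 0 := fun h0 => hX (Matrix.ext fun p q => (mul_eq_zero.1 (by rw [e p q, h0, mul_zero])).resolve_right hij)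
  refine ⟨σ i j / τ i j, div_ne_zero hij hτ, Matrix.ext fun p q => ?_⟩
  rw [Matrix.smul_apply, smul_eq_mul, div_mul_eq_mul_div, mul_comm, e p q, mul_div_cancel_right₀ _ hτ]

/-- a tensor product with a fixed summand has a left part one -/
theorem kron_inj {X Y : Matrix β β F} {σ : Matrix (Fin k) (Fin k) F} (h : X ⊗ₖ σ = Y ⊗ₖ σ) (hσ : σ ≠ 0) : X = Y := by
  obtain ⟨i, j, hij⟩ : ∃ i j, σ i j ≠ 0 := by
    by_contra hn
    push Not at hn
    exact hσ (Matrix.ext hn)
  exact Matrix.ext fun p q => mul_right_cancel₀ hij (congrFun (congrFun h (p, i)) (q, j))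

/-- isometries do not differ by other scalars than signs -/
theorem smul_orth [Nonempty β] (h2 : (2 : F) ≠ 0) {A B : GL β F} (hA : A ∈ Orth β F) (hB : B ∈ Orth β F) {c : F}
    (h : (B : Matrix β β F) = c • (A : Matrix β β F)) : c * c = 1 := by
  obtain ⟨p⟩ := ‹Nonempty β›
  have e := transpose_mul h2 hB
  rw [h, Matrix.transpose_smul, smul_mul_smul_comm, transpose_mul h2 hA] at e
  simpa using congrFun (congrFun e p) p

/-- isometries of determinant one differing by a scalar are equal -/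
theorem eq_of_smul (h2 : (2 : F) ≠ 0) (hβ : Odd (Fintype.card β)) {A B : GL β F} (hA : A ∈ Orth β F)
    (hB : B ∈ Orth β F) (hd : (A : Matrix β β F).det = (B : Matrix β β F).det) {c : F}
    (h : (B : Matrix β β F) = c • (A : Matrix β β F)) : A = B := by
  haveI : Nonempty β := Fintype.card_pos_iff.1 hβ.pos
  have hc := smul_orth h2 hA hB h
  have hA0 : (A : Matrix β β F).det ≠ 0 := ((Matrix.isUnit_iff_isUnit_det _).1 A.isUnit).ne_zero
  obtain ⟨n, hn⟩ := hβ
  have e := congrArg Matrix.det h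
  rw [Matrix.det_smul, hn, pow_succ, pow_mul, pow_two, hc, one_pow, one_mul, ← hd] at e
  exact Units.ext (by rw [h, show c = 1 from mul_right_cancel₀ hA0 (e.symm.trans (one_mul _).symm), one_smul])

theorem eq_of_smul_om [Finite F] (h2 : (2 : F) ≠ 0) (hβ : Odd (Fintype.card β)) {A B : GL β F}
    (hA : A ∈ Om β F) (hB : B ∈ Om β F) {c : F} (h : (B : Matrix β β F) = c • (A : Matrix β β F)) : A = B :=
  eq_of_smul h2 hβ (om_le_orth hA) (om_le_orth hB) ((det_one h2 hA).trans (det_one h2 hB).symm) h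

theorem neg_mem_orth (h2 : (2 : F) ≠ 0) {A : GL β F} (hA : A ∈ Orth β F) : -A ∈ Orth β F := by
  rw [mem_orth_iff h2, Units.val_neg, Matrix.transpose_neg, neg_mul_neg]
  exact transpose_mul h2 hA

/-- the part of an isometry on a line -/
theorem part_line (hh : Hyp k F) (hβ : Odd (Fintype.card β)) {g : GL (β × Fin k) F} (hg : g ∈ Orth (β × Fin k) F)
    {a : Fin k → F} (ha : a ⬝ᵥ a ≠ 0) (hc : Commute (g : Matrix (β × Fin k) (β × Fin k) F) (rgt β (pj a))) :
    ∃ A ∈ Orth β F, (g : Matrix (β × Fin k) (β × Fin k) F) * rgt β (pj a) = (A : Matrix β β F) ⊗ₖ pj a := by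
  have hπ := pr_pj ha
  have hline : ∀ Y, pj a * Y * pj a = ((a ⬝ᵥ a)⁻¹ * (a ⬝ᵥ Y *ᵥ a)) • pj a := fun Y => by
    rw [pj, smul_mul_assoc, smul_mul_assoc, mul_smul_comm, Matrix.vecMulVec_mul, Matrix.vecMulVec_mul_vecMulVec,
      ← Matrix.dotProduct_mulVec, Matrix.vecMulVec_smul, smul_smul, smul_smul, smul_smul]
    congr 1
    ring
  obtain ⟨A, C, hA, e, -, hCC, h1, h1'⟩ := orth_part hh hβ hg hπ hc fun Y => ⟨pj a * Y * pj a, by
    rw [hline, rgt_smul, mul_smul_comm, hc.eq, smul_mul_assoc]⟩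
  have hC : C = ((a ⬝ᵥ a)⁻¹ * (a ⬝ᵥ C *ᵥ a)) • pj a := by rw [← hline, mul_assoc, h1', h1]
  generalize (a ⬝ᵥ a)⁻¹ * (a ⬝ᵥ C *ᵥ a) = α at hC
  have hαα : α * α = 1 := by
    rw [hC, Matrix.transpose_smul, hπ.symm, smul_mul_smul_comm, hπ.idem] at hCC
    have h0 : pj a ≠ 0 := fun h => by have := rk_pj ha; rw [h, rk_zero] at this; omega
    exact smul_left_injective F h0 (hCC.trans (one_smul F (pj a)).symm)
  rcases mul_self_eq_one_iff.1 hαα with rfl | rfl
  · exact ⟨A, hA, by rw [e, hC, one_smul]⟩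
  · exact ⟨-A, neg_mem_orth hh.h2 hA, by
      rw [e, hC, Matrix.kronecker_smul, neg_one_smul, Units.val_neg, ← neg_one_smul F (A : Matrix β β F),
        Matrix.smul_kronecker, neg_one_smul]⟩

end Factor

/-! ### one slot -/

variable {T : Type} [Fintype T] [DecidableEq T]

theorem rid_rt_ne {c r : T} (h : r ≠ c) (w : GL (Fin k) F) :
    rid c (rt r w) = inl _ k F (rt (⟨r, h⟩ : {s // s ≠ c}) w) := by
  rw [TW.rt_eq, TW.rid_tk, Pi.mulSingle_eq_of_ne h.symm]
  refine congrArg (fun z => TP.kr (z, (1 : GL (Fin k) F))) ?_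
  rw [TW.rt_eq]
  refine congrArg tk (funext fun s => ?_)
  rcases eq_or_ne s ⟨r, h⟩ with rfl | hs
  · simp
  · have : s.1 ≠ r := fun e => hs (Subtype.ext e)
    simp [hs, this]

/-- an isometry commuting with the other slots lives in one slot -/
theorem slot_of_commute [Finite F] (hh : Hyp k F) (r : T) {A : GL (T → Fin k) F} (hA : A ∈ Orth (T → Fin k) F)
    (h : ∀ v : T → GL (Fin k) F, (∀ s, v s ∈ Om (Fin k) F) → v r = 1 → Commute A (tk v)) :
    ∃ P ∈ Orth (Fin k) F, A = rt r P := by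
  have h2 := hh.h2
  haveI : Nonempty ({s // s ≠ r} → Fin k) := ⟨fun _ => ⟨0, hh.odd.pos⟩⟩
  obtain ⟨D, hD⟩ := rgt_of_commute hh
    (G := (rid r A : Mx {s // s ≠ r} k F)) fun u hu => by
    let v : T → GL (Fin k) F := fun s => if hs : s = r then 1 else u ⟨s, hs⟩
    have hv : ∀ s, v s ∈ Om (Fin k) F := fun s => by
      by_cases hs : s = r
      · simp only [v, dif_pos hs]; exact one_mem _
      · simp only [v, dif_neg hs]; exact hu _
    have e : rid r (tk v) = inl _ k F (tk u) := by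
      rw [TW.rid_tk, show (fun s : {s // s ≠ r} => v s.1) = u from funext fun s => dif_neg s.2,
        show v r = 1 from dif_pos rfl]
      rfl
    rw [← e]
    exact (congrArg Units.val ((h v hv (dif_pos rfl)).map (rid r).toMonoidHom).eq : _)
  have hDt : Dᵀ * D = 1 := rgt_inj (β := {s // s ≠ r} → Fin k) (by
    rw [← rgt_mul, ← rgt_transpose, ← hD, transpose_mul h2 ((rid_orth_iff h2 r).2 hA), rgt_one])
  refine ⟨⟨D, Dᵀ, mul_eq_one_comm.1 hDt, hDt⟩, (mem_orth_iff h2).2 hDt, (rid r).injective (Units.ext ?_)⟩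
  rw [hD, rid_rt']
  rfl

/-- the matrices of the slot elements acting on a summand -/
def elMat (r : T) {π : Matrix (Fin k) (Fin k) F} (hπ : Pr π) : GL (Fin k) F →* Mx T k F where
  toFun := el r π
  map_one' := by
    rw [el, map_one, Units.val_one, ← rgt_add, sub_add_cancel, rgt_one]
  map_mul' y z := by
    simp only [el, rgt, map_mul, Units.val_mul, add_mul, mul_add, ← Matrix.mul_kronecker_mul, one_mul, mul_one,
      hπ.idem, hπ.mul_one_sub, hπ.one_sub_mul, hπ.one_sub.idem, Matrix.kronecker_zero, add_zero, zero_add]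

/-- the slot elements acting on a summand -/
def elHom (r : T) {π : Matrix (Fin k) (Fin k) F} (hπ : Pr π) :
    GL (Fin k) F →* GL ((T → Fin k) × Fin k) F := (elMat r hπ).toHomUnits

theorem elHom_val (r : T) {π : Matrix (Fin k) (Fin k) F} (hπ : Pr π) (y : GL (Fin k) F) :
    (elHom r hπ y : Mx T k F) = el r π y := rfl

theorem el_orth (h2 : (2 : F) ≠ 0) (r : T) {π : Matrix (Fin k) (Fin k) F} (hπ : Pr π) {y : GL (Fin k) F}
    (hy : y ∈ Orth (Fin k) F) : elHom r hπ y ∈ Orth ((T → Fin k) × Fin k) F := by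
  rw [mem_orth_iff h2, elHom_val, el, Matrix.transpose_add, rgt_transpose, hπ.one_sub.symm,
    ← Matrix.kroneckerMap_transpose, hπ.symm]
  simp only [rgt, add_mul, mul_add, ← Matrix.mul_kronecker_mul, one_mul, mul_one, hπ.idem, hπ.mul_one_sub,
    hπ.one_sub_mul, hπ.one_sub.idem, Matrix.kronecker_zero, add_zero, zero_add,
    transpose_mul h2 (rt_orth h2 r hy)]
  rw [← Matrix.kronecker_add, sub_add_cancel, Matrix.one_kronecker_one]

theorem el_om [Finite F] (h2 : (2 : F) ≠ 0) (r : T) {π : Matrix (Fin k) (Fin k) F} (hπ : Pr π) {y : GL (Fin k) F}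
    (hy : y ∈ Om (Fin k) F) : elHom r hπ y ∈ Om ((T → Fin k) × Fin k) F :=
  om_map_le (elHom r hπ) (fun _ h => el_orth h2 r hπ h) hy

/-- exchanging the distinguished slot with another one -/
def xslot (r : T) : Equiv.Perm ((T → Fin k) × Fin k) where
  toFun p := (Function.update p.1 r p.2, p.1 r)
  invFun p := (Function.update p.1 r p.2, p.1 r)
  left_inv p := by simp
  right_inv p := by simp

/-- an isometry of one slot and itself in the distinguished slot -/
theorem pair_om [Finite F] (h2 : (2 : F) ≠ 0) (r : T) {w : GL (Fin k) F} (hw : w ∈ Orth (Fin k) F) :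
    TP.kr (rt r w, w) ∈ Om ((T → Fin k) × Fin k) F := by
  set P : GL ((T → Fin k) × Fin k) F := pmat (xslot r) with hPdef
  have hP : P ∈ Orth ((T → Fin k) × Fin k) F := pmat_mem h2 (xslot r)
  have hmat : ∀ p q, (inl _ k F (rt r w) : Mx T k F) (xslot r p) (xslot r q) =
      (inr (T → Fin k) k F w : Mx T k F) p q := by
    rintro ⟨x, i⟩ ⟨y, j⟩
    rw [inl_val, inr_val, TW.rt_eq, TW.tk_val]
    simp only [xslot, Equiv.coe_fn_mk, Matrix.kroneckerMap_apply, TW.pm_apply]
    rw [TW.prod_split r, Pi.mulSingle_eq_same, Function.update_self, Function.update_self]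
    by_cases hxy : x = y
    · subst hxy
      rw [Finset.prod_eq_one fun s _ => ?_]
      · simp
      · rw [Pi.mulSingle_eq_of_ne s.2, Units.val_one, Function.update_of_ne s.2, Function.update_of_ne s.2,
          Matrix.one_apply_eq]
    · obtain ⟨t, ht⟩ := Function.ne_iff.1 hxy
      rw [Matrix.one_apply_ne hxy, zero_mul]
      by_cases htr : t = r
      · subst htr
        rw [Matrix.one_apply_ne ht, mul_zero]
      · rw [Finset.prod_eq_zero (Finset.mem_univ ⟨t, htr⟩), mul_zero, zero_mul]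
        rw [Pi.mulSingle_eq_of_ne htr, Units.val_one, Function.update_of_ne htr, Function.update_of_ne htr,
          Matrix.one_apply_ne ht]
  have e : P * inr _ k F w * P⁻¹ = inl _ k F (rt r w) := by
    rw [mul_inv_eq_iff_eq_mul]
    refine Units.ext (Matrix.ext fun a b => ?_)
    obtain ⟨a, rfl⟩ := (xslot (k := k) r).surjective a
    rw [Units.val_mul, Units.val_mul, Matrix.mul_apply, Matrix.mul_apply, Finset.sum_eq_single a,
      Finset.sum_eq_single (xslot r b)]
    · rw [hmat]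
      simp [hPdef, pmat]
    · intro q _ hq; simp [hPdef, pmat, Ne.symm hq]
    · simp
    · intro q _ hq; simp [hPdef, pmat, hq]
    · simp
  have h1 := mul_mem (commutator_mem_om hP (inr_orth (β := T → Fin k) h2 hw))
    (sq_mem_om h2 (inr_orth (β := T → Fin k) h2 hw))
  rw [← mul_assoc, inv_mul_cancel_right, e] at h1
  rwa [show TP.kr (rt r w, w) = inl _ k F (rt r w) * inr _ k F w by
    show _ = TP.kr (rt r w, (1 : GL (Fin k) F)) * TP.kr ((1 : GL (T → Fin k) F), w)
    rw [← map_mul, Prod.mk_mul_mk, mul_one, one_mul]]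

theorem pair_mem [Finite F] {M : Subgroup (GL ((T → Fin k) × Fin k) F)} (hM : Ctx T k F M) (r : T)
    {w : GL (Fin k) F} (hw : w ∈ Orth (Fin k) F) : TP.kr (rt r w, w) ∈ M :=
  hM.wr _ (TW.rt_mem r w) w (pair_om hM.hyp.h2 r hw)

end Cfsg.Agent.MaxCl.TOrth
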