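/-
Groups of isometries of a product with an even dimensional factor: the context of the induction, pure parts, and
the elements of the wreath product it contains.
-/
import Cfsg.Agent.Lib.MaxCl.TEvSlot
import Cfsg.Agent.Lib.MaxCl.TOrthParts

set_option autoImplicit false
set_option linter.unusedSectionVars false

namespace Cfsg.Agent.MaxCl.TEv

open Matrix
open TOrth (binary_value exists_nonsquare rk rk_zero rk_one pmat inl inr kr_val inl_val inr_val rgt rgt_mul rgt_add
  rgt_smul rgt_one rgt_zero rgt_sub rgt_inj inr_eq_rgt blk blk_ext blk_kronecker el InR Triv xslot pure_part)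
open TW (tk pm pg rt rid spl sl Wr)
open scoped MatrixGroups Kronecker

variable {F : Type*} [Field F] {k : ℕ} [Wt (Fin k) F]

section Factor

variable {β : Type} [Fintype β] [DecidableEq β] [Wt β F]

theorem rgt_ad (C : Matrix (Fin k) (Fin k) F) : (rgt β C)† = rgt β C† := by
  rw [rgt, rgt, ad_kronecker, ad_one]

/-- the pure part of an isometry: a similitude -/
theorem orth_part (h2 : (2 : F) ≠ 0) [Nonempty β] {g : GL (β × Fin k) F}
    (hg : g ∈ Orth (β × Fin k) F) {π : Matrix (Fin k) (Fin k) F} (hπ : Pr π)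
    (hc : Commute (g : Matrix (β × Fin k) (β × Fin k) F) (rgt β π))
    (h : ∀ Y, ∃ Z, (g : Matrix (β × Fin k) (β × Fin k) F) * rgt β (π * Y * π) =
      rgt β Z * (g : Matrix (β × Fin k) (β × Fin k) F)) :
    ∃ (A : GL β F) (C : Matrix (Fin k) (Fin k) F) (c : F), c ≠ 0 ∧
      (A : Matrix β β F)† * (A : Matrix β β F) = c • 1 ∧
      (g : Matrix (β × Fin k) (β × Fin k) F) * rgt β π = (A : Matrix β β F) ⊗ₖ C ∧
      C† * C = c⁻¹ • π ∧ C * C† = c⁻¹ • π ∧ π * C = C ∧ C * π = C := by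
  obtain ⟨A, C, hAC, h1, h1'⟩ := pure_part hπ.idem hc h
  by_cases hπ0 : π = 0
  · subst hπ0
    exact ⟨1, 0, 1, one_ne_zero, by simp [ad_one],
      by rw [rgt_zero, mul_zero, Matrix.kronecker_zero], by simp, by simp, by simp, by simp⟩
  set G := (g : Matrix (β × Fin k) (β × Fin k) F)
  have e1 : (A† * A) ⊗ₖ (C† * C) = rgt β π := by
    have : (G * rgt β π)† * (G * rgt β π) = rgt β π := by
      rw [ad_mul, rgt_ad, hπ.symm, mul_assoc, ← mul_assoc G†, ad_mul_self h2 hg, one_mul,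
        rgt_mul, hπ.idem]
    rwa [hAC, ad_kronecker, ← Matrix.mul_kronecker_mul] at this
  have e2 : (A * A†) ⊗ₖ (C * C†) = rgt β π := by
    have : (G * rgt β π) * (G * rgt β π)† = rgt β π := by
      rw [ad_mul, rgt_ad, hπ.symm, mul_assoc, ← mul_assoc (rgt β π), rgt_mul, hπ.idem,
        ← mul_assoc, hc.eq, mul_assoc, mul_ad_self h2 hg, mul_one]
    rwa [hAC, ad_kronecker, ← Matrix.mul_kronecker_mul] at this
  obtain ⟨a, b, hab⟩ : ∃ a b, π a b ≠ 0 := by
    by_contra hn
    push Not at hn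
    exact hπ0 (Matrix.ext hn)
  obtain ⟨p⟩ := ‹Nonempty β›
  have sep : ∀ (X : Matrix β β F) (Y : Matrix (Fin k) (Fin k) F), X ⊗ₖ Y = rgt β π →
      ∃ c : F, c ≠ 0 ∧ X = c • 1 ∧ Y = c⁻¹ • π := by
    intro X Y e
    have ent : ∀ p q i j, X p q * Y i j = (1 : Matrix β β F) p q * π i j := fun p q i j =>
      congrFun (congrFun e (p, i)) (q, j)
    have h0 := ent p p a b
    rw [Matrix.one_apply_eq, one_mul] at h0
    have hY : Y a b ≠ 0 := fun e' => hab (by rw [← h0, e', mul_zero])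
    have hX : X p p ≠ 0 := fun e' => hab (by rw [← h0, e', zero_mul])
    refine ⟨X p p, hX, Matrix.ext fun q r => ?_, Matrix.ext fun i j => ?_⟩
    · have := ent q r a b
      rw [← h0] at this
      rw [Matrix.smul_apply, smul_eq_mul]
      exact mul_right_cancel₀ hY (this.trans (by ring))
    · have := ent p p i j
      rw [Matrix.one_apply_eq, one_mul] at this
      rw [Matrix.smul_apply, smul_eq_mul, ← this, inv_mul_cancel_left₀ hX]
  obtain ⟨c, hc0, hA, hC⟩ := sep _ _ e1
  obtain ⟨c', -, hA', hC'⟩ := sep _ _ e2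
  have hl : (c⁻¹ • A†) * A = 1 := by rw [smul_mul_assoc, hA, smul_smul, inv_mul_cancel₀ hc0, one_smul]
  have hr : A * (c⁻¹ • A†) = 1 := mul_eq_one_comm.1 hl
  obtain rfl : c' = c := by
    rw [mul_smul_comm, hA', smul_smul] at hr
    have := congrFun (congrFun hr p) p
    rw [Matrix.smul_apply, Matrix.one_apply_eq, smul_eq_mul, mul_one] at this
    field_simp at this
    exact this
  exact ⟨⟨A, c'⁻¹ • A†, hr, hl⟩, C, c', hc0, hA, hAC, hC, hC', h1, h1'⟩

end Factor

/-! ### the context -/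

variable {T : Type} [Fintype T] [DecidableEq T]

/-- the context of the induction -/
structure Ctx (T : Type) [Fintype T] [DecidableEq T] (k : ℕ) (F : Type*) [Field F] [Wt (Fin k) F]
    (M : Subgroup (GL ((T → Fin k) × Fin k) F)) : Prop where
  hyp : Hyp k F
  ne : Nonempty T
  le : M ≤ Orth ((T → Fin k) × Fin k) F
  wr : ∀ a ∈ Wr T k F, ∀ q : GL (Fin k) F, TP.kr (a, q) ∈ Om ((T → Fin k) × Fin k) F → TP.kr (a, q) ∈ M
  max : Max T k F
  noSeed : ∀ (r : T) (π : Matrix (Fin k) (Fin k) F) (y : GL (Fin k) F), Pr π → π ≠ 0 → π ≠ 1 →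
    y ∈ Om (Fin k) F → (∀ c : F, (y : Matrix (Fin k) (Fin k) F) ≠ c • 1) → ∀ g ∈ M, (g : Matrix ((T → Fin k) × Fin k) ((T → Fin k) × Fin k) F) ≠ el r π y

theorem w_xslot (r : T) (p : (T → Fin k) × Fin k) : (Wt.w (xslot r p) : F) = Wt.w p := by
  obtain ⟨x, i⟩ := p
  show (Wt.w (Function.update x r i, x r) : F) = _
  rw [w_prod, w_prod, w_pi, w_pi, TW.prod_split r (fun s => (Wt.w (Function.update x r i s) : F)),
    TW.prod_split r (fun s => (Wt.w (x s) : F)), Function.update_self,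
    Finset.prod_congr rfl fun (s : {s // s ≠ r}) _ => congrArg (Wt.w (F := F)) (Function.update_of_ne s.2 i x)]
  ring

theorem pair_om [Finite F] (h2 : (2 : F) ≠ 0) (r : T) {w : GL (Fin k) F} (hw : w ∈ Orth (Fin k) F) :
    TP.kr (rt r w, w) ∈ Om ((T → Fin k) × Fin k) F := by
  set P : GL ((T → Fin k) × Fin k) F := pmat (xslot r) with hPdef
  have hP : P ∈ Orth ((T → Fin k) × Fin k) F := pmat_mem h2 (w_xslot r)
  have hmat : ∀ p q, (inl _ k F (rt r w) : Matrix ((T → Fin k) × Fin k) ((T → Fin k) × Fin k) F) (xslot r p) (xslot r q) =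
      (inr (T → Fin k) k F w : Matrix ((T → Fin k) × Fin k) ((T → Fin k) × Fin k) F) p q := by
    rintro ⟨x, i⟩ ⟨y, j⟩
    rw [inl_val, inr_val, TW.rt_eq, TW.tk_val]
    simp only [xslot, Equiv.coe_fn_mk, Matrix.kroneckerMap_apply, TW.pm_apply]
    rw [TW.prod_split r, Pi.mulSingle_eq_same, Function.update_self, Function.update_self]
    by_cases hxy : x = y
    · subst hxy
      rw [Finset.prod_eq_one fun s _ => ?_]
      · simp
      · rw [Pi.mulSingle_eq_of_ne s.2, Units.val_one, Function.update_of_ne s.2, Function.update_of_ne s.2,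
          Matrix.one_apply_eq]
    · obtain ⟨t, ht⟩ := Function.ne_iff.1 hxy
      rw [Matrix.one_apply_ne hxy, zero_mul]
      by_cases htr : t = r
      · subst htr
        rw [Matrix.one_apply_ne ht, mul_zero]
      · rw [Finset.prod_eq_zero (Finset.mem_univ ⟨t, htr⟩), mul_zero, zero_mul]
        rw [Pi.mulSingle_eq_of_ne htr, Units.val_one, Function.update_of_ne htr, Function.update_of_ne htr,
          Matrix.one_apply_ne ht]
  have e : P * inr _ k F w * P⁻¹ = inl _ k F (rt r w) := by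
    rw [mul_inv_eq_iff_eq_mul]
    refine Units.ext (Matrix.ext fun a b => ?_)
    obtain ⟨a, rfl⟩ := (xslot (k := k) r).surjective a
    rw [Units.val_mul, Units.val_mul, Matrix.mul_apply, Matrix.mul_apply, Finset.sum_eq_single a,
      Finset.sum_eq_single (xslot r b)]
    · rw [hmat]
      simp [hPdef, pmat]
    · intro q _ hq; simp [hPdef, pmat, Ne.symm hq]
    · simp
    · intro q _ hq; simp [hPdef, pmat, hq]
    · simp
  have h1 := mul_mem (commutator_mem_om hP (inr_orth (β := T → Fin k) h2 hw))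
    (sq_mem_om h2 (inr_orth (β := T → Fin k) h2 hw))
  rw [← mul_assoc, inv_mul_cancel_right, e] at h1
  rwa [show TP.kr (rt r w, w) = inl _ k F (rt r w) * inr _ k F w by
    show _ = TP.kr (rt r w, (1 : GL (Fin k) F)) * TP.kr ((1 : GL (T → Fin k) F), w)
    rw [← map_mul, Prod.mk_mul_mk, mul_one, one_mul]]

variable {M : Subgroup (GL ((T → Fin k) × Fin k) F)}

theorem Ctx.pair_mem [Finite F] (hM : Ctx T k F M) (r : T) {w : GL (Fin k) F} (hw : w ∈ Orth (Fin k) F) :
    TP.kr (rt r w, w) ∈ M :=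
  hM.wr _ (TW.rt_mem r w) w (pair_om hM.hyp.h2 r hw)

theorem Ctx.comp [Finite F] (hM : Ctx T k F M) {q : GL (Fin k) F} (hq : q ∈ Orth (Fin k) F) :
    ∃ a ∈ Wr T k F, a ∈ Orth (T → Fin k) F ∧ TP.kr (a, q) ∈ M :=
  let ⟨r⟩ := hM.ne
  ⟨rt r q, TW.rt_mem r q, rt_orth hM.hyp.h2 r hq, hM.pair_mem r hq⟩

theorem Ctx.nonempty (hM : Ctx T k F M) : Nonempty (T → Fin k) :=
  haveI := hM.hyp.ne
  inferInstance

theorem Ctx.inl_mem (hM : Ctx T k F M) {a : GL (T → Fin k) F} (ha : a ∈ Wr T k F) (ha' : a ∈ Om (T → Fin k) F) :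
    inl _ k F a ∈ M :=
  hM.wr a ha 1 (inl_om hM.hyp.h2 ha')

theorem Ctx.tk_mem (hM : Ctx T k F M) {h : T → GL (Fin k) F} (hh : ∀ r, h r ∈ Om (Fin k) F) :
    inl _ k F (tk h) ∈ M :=
  hM.inl_mem (TW.tk_mem h) (tk_om hM.hyp.h2 hh)

/-- the distinguished slot contributes all its special isometries -/
theorem Ctx.inr_so [Finite F] (hM : Ctx T k F M) {w : GL (Fin k) F} (hw : SO w) : inr _ k F w ∈ M := by
  haveI := hM.ne
  have := hM.hyp.four
  obtain ⟨j₀, -⟩ := hM.hyp.ones
  refine hM.wr 1 (one_mem _) w ?_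
  rcases inr_class (β := T → Fin k) hM.hyp.h2 (card_fun_even hM.hyp T) (a₀ := Pi.single j₀ 1)
    (by simpa [bf_single] using Wt.ne j₀) hw.1 with h | h
  · exact h.2
  · exact absurd (hw.2.symm.trans h.1) fun e => hM.hyp.h2 (by linear_combination e)

theorem Ctx.inr_mem [Finite F] (hM : Ctx T k F M) {w : GL (Fin k) F} (hw : w ∈ Om (Fin k) F) : inr _ k F w ∈ M :=
  hM.inr_so (so_of_om hM.hyp.h2 hw)

theorem Ctx.inr_rf_rf [Finite F] (hM : Ctx T k F M) {a b : Fin k → F} (ha : a ⬝ʷ a ≠ 0) (hb : b ⬝ʷ b ≠ 0) :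
    inr _ k F (rf a * rf b) ∈ M :=
  hM.inr_so (so_rf_mul ha hb)

/-- every other slot contributes all its special isometries -/
theorem Ctx.rt_so [Finite F] (hM : Ctx T k F M) (r : T) {w : GL (Fin k) F} (hw : SO w) :
    inl _ k F (rt r w) ∈ M := by
  have h := mul_mem (hM.pair_mem r hw.1) (inv_mem (hM.inr_so hw))
  rwa [show TP.kr (rt r w, w) * (inr (T → Fin k) k F w)⁻¹ = inl _ k F (rt r w) by
    show _ * (TP.kr ((1 : GL (T → Fin k) F), w))⁻¹ = TP.kr (rt r w, (1 : GL (Fin k) F))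
    rw [← map_inv, ← map_mul, Prod.inv_mk, Prod.mk_mul_mk, inv_one, mul_one, mul_inv_cancel]] at h

theorem Ctx.tk_so [Finite F] (hM : Ctx T k F M) {h : T → GL (Fin k) F} (hh : ∀ r, SO (h r)) :
    inl _ k F (tk h) ∈ M :=
  Subgroup.mem_comap.1 (Subgroup.pi_mem_of_mulSingle_mem (H := M.comap ((inl _ k F).comp tk)) h fun r => by
    rw [Subgroup.mem_comap, MonoidHom.comp_apply, ← TW.rt_eq]
    exact hM.rt_so r (hh r))

/-- an operator commuting with the pure derived elements of the left factor belongs to the right factor -/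
theorem rgt_of_commute [Finite F] (hh : Hyp k F) {G : Matrix ((T → Fin k) × Fin k) ((T → Fin k) × Fin k) F}
    (h : ∀ u : T → GL (Fin k) F, (∀ r, u r ∈ Om (Fin k) F) →
      Commute G (inl _ k F (tk u) : Matrix ((T → Fin k) × Fin k) ((T → Fin k) × Fin k) F)) :
    ∃ C, G = rgt _ C := by
  have hex : ∀ i j, ∃ c : F, (Matrix.of fun p q => G (p, i) (q, j)) = c • (1 : Matrix (T → Fin k) (T → Fin k) F) :=
    fun i j => tk_commutant hh fun u hu => by
      refine Matrix.ext fun p q => ?_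
      have e := congrFun (congrFun (h u hu).eq (p, i)) (q, j)
      simpa [inl_val, Matrix.mul_apply, Fintype.sum_prod_type, Matrix.one_apply] using e
  choose c hc using hex
  refine ⟨Matrix.of c, blk_ext fun p q => Matrix.ext fun i j => ?_⟩
  have := congrFun (congrFun (hc i j) p) q
  simpa [blk, rgt, Matrix.one_apply] using this

/-- an isometry commuting with the other slots lives in one slot -/
theorem slot_of_commute [Finite F] (hh : Hyp k F) (r : T) {A : GL (T → Fin k) F} (hA : A ∈ Orth (T → Fin k) F)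
    (h : ∀ v : T → GL (Fin k) F, (∀ s, v s ∈ Om (Fin k) F) → v r = 1 → Commute A (tk v)) :
    ∃ P ∈ Orth (Fin k) F, A = rt r P := by
  have h2 := hh.h2
  haveI := hh.ne
  obtain ⟨D, hD⟩ := rgt_of_commute hh
    (G := (rid r A : Matrix (({s // s ≠ r} → Fin k) × Fin k) (({s // s ≠ r} → Fin k) × Fin k) F)) fun u hu => by
    let v : T → GL (Fin k) F := fun s => if hs : s = r then 1 else u ⟨s, hs⟩
    have hv : ∀ s, v s ∈ Om (Fin k) F := fun s => by
      by_cases hs : s = r
      · simp only [v, dif_pos hs]; exact one_mem _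
      · simp only [v, dif_neg hs]; exact hu _
    have e : rid r (tk v) = inl _ k F (tk u) := by
      rw [TW.rid_tk, show (fun s : {s // s ≠ r} => v s.1) = u from funext fun s => dif_neg s.2,
        show v r = 1 from dif_pos rfl]
      rfl
    rw [← e]
    exact (congrArg Units.val ((h v hv (dif_pos rfl)).map (rid r).toMonoidHom).eq : _)
  have hDt : D† * D = 1 := rgt_inj (β := {s // s ≠ r} → Fin k) (by
    rw [← rgt_mul, ← rgt_ad, ← hD, ad_mul_self h2 ((rid_orth_iff h2 r).2 hA), rgt_one])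
  refine ⟨⟨D, D†, mul_eq_one_comm.1 hDt, hDt⟩, (mem_orth_iff h2).2 hDt, (rid r).injective (Units.ext ?_)⟩
  rw [hD, rid_rt']
  rfl

end Cfsg.Agent.MaxCl.TEv
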