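/-
A reduced commutative family normalised by an element of prime order with a monic relation of smaller degree is
centralised by it.
-/
import Mathlib

set_option autoImplicit false
set_option linter.unusedSectionVars false

namespace Cfsg.Agent.MaxCl.TEv

variable {F : Type*} [Field F] {R : Type*} [Ring R] [Algebra F R]

/-- the conjugate by a power -/
def cj (h : Rˣ) (i : ℕ) (x : R) : R := ((h ^ i : Rˣ) : R) * x * ((h ^ i)⁻¹ : Rˣ)

theorem cj_zero (h : Rˣ) (x : R) : cj h 0 x = x := by simp [cj]

theorem cj_add (h : Rˣ) (i j : ℕ) (x : R) : cj h (i + j) x = cj h i (cj h j x) := by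
  simp [cj, pow_add, mul_assoc]

theorem cj_sum (h : Rˣ) (i : ℕ) {J : Type*} (T : Finset J) (f : J → R) :
    cj h i (∑ j ∈ T, f j) = ∑ j ∈ T, cj h i (f j) := by
  simp [cj, Finset.mul_sum, Finset.sum_mul]

theorem cj_period (h : Rˣ) {r : ℕ} (hr : h ^ r = 1) (i : ℕ) (x : R) : cj h i x = cj h (i % r) x := by
  have e : h ^ i = h ^ (i % r) := by
    conv_lhs => rw [← Nat.div_add_mod i r, pow_add, pow_mul, hr, one_pow, one_mul]
  rw [cj, cj, e]

theorem mul_cj (h : Rˣ) (i : ℕ) (x : R) : (h : R) ^ i * x = cj h i x * (h : R) ^ i := by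
  rw [cj, mul_assoc, ← Units.val_pow_eq_pow_val, Units.inv_mul, mul_one]

theorem cj_mem {S : Submodule F R} (h : Rˣ) (hS : ∀ x ∈ S, (h : R) * x * ((h⁻¹ : Rˣ) : R) ∈ S) {x : R} (hx : x ∈ S) :
    ∀ i, cj h i x ∈ S
  | 0 => by rwa [cj_zero]
  | i + 1 => by
    rw [add_comm, cj_add]
    have := hS _ (cj_mem h hS hx i)
    simpa [cj] using this

/-- the elimination products -/
def elim (h : Rˣ) (a : ℕ → R) : ℕ → ℕ → R
  | 0, _ => 1
  | m + 1, i => elim h a m i * (cj h i (a m) - cj h m (a m))

theorem elim_zero (h : Rˣ) (a : ℕ → R) : ∀ {m i : ℕ}, i < m → elim h a m i = 0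
  | m + 1, i, hi => by
    rcases Nat.lt_succ_iff_lt_or_eq.1 hi with hi' | rfl
    · rw [elim, elim_zero h a hi', zero_mul]
    · rw [elim, sub_self, mul_zero]

/-- **an element of prime order with a short relation centralises** -/
theorem commute_of_rel {S : Submodule F R} (hcomm : ∀ x ∈ S, ∀ y ∈ S, Commute x y) (hmul : ∀ x ∈ S, ∀ y ∈ S, x * y ∈ S)
    (hred : ∀ x ∈ S, x * x = 0 → x = 0) (h : Rˣ) (hS : ∀ x ∈ S, (h : R) * x * ((h⁻¹ : Rˣ) : R) ∈ S) {r : ℕ}
    (hr : r.Prime) (hpow : h ^ r = 1) {d : ℕ} (hd : d < r) (c : ℕ → F) (hc : c d = 1)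
    (hrel : ∑ i ∈ Finset.range (d + 1), c i • (h : R) ^ i = 0) {x : R} (hx : x ∈ S) : Commute (h : R) x := by
  have hmem : ∀ {y : R}, y ∈ S → ∀ i, cj h i y ∈ S := fun {y} hy i => cj_mem h hS hy i
  set D := x - cj h 1 x with hD
  have hDS : D ∈ S := sub_mem hx (hmem hx 1)
  -- the choices
  have hex : ∀ j, ∃ a ∈ S, j < d → cj h d a - cj h j a = D := by
    intro j
    by_cases hj : j < d
    · set s := r - d + j with hs
      haveI : Fact r.Prime := ⟨hr⟩
      have hs0 : (s : ZMod r) ≠ 0 := fun e => by
        have := Nat.le_of_dvd (by omega) ((ZMod.natCast_eq_zero_iff s r).1 e)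
        omega
      set l := ((s : ZMod r)⁻¹).val with hl
      set u := ∑ i ∈ Finset.range l, cj h (i * s) x with hu
      have huS : u ∈ S := sum_mem fun i _ => hmem hx _
      have hus : u - cj h s u = D := by
        rw [hu, cj_sum, ← Finset.sum_sub_distrib, Finset.sum_congr rfl fun i _ => by
          rw [← cj_add, show s + i * s = (i + 1) * s by ring]]
        rw [Finset.sum_range_sub' fun i => cj h (i * s) x, zero_mul, cj_zero, hD, cj_period h hpow (l * s)]
        congr 2
        have h1 : ((l * s : ℕ) : ZMod r) = ((1 : ℕ) : ZMod r) := by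
          rw [Nat.cast_mul, hl, ZMod.natCast_zmod_val, inv_mul_cancel₀ hs0, Nat.cast_one]
        rw [ZMod.natCast_eq_natCast_iff', Nat.mod_eq_of_lt hr.one_lt] at h1
        exact h1
      refine ⟨cj h (r - d) u, hmem huS _, fun _ => ?_⟩
      rw [← cj_add, ← cj_add, show d + (r - d) = r by omega, cj_period h hpow r, Nat.mod_self, cj_zero,
        show j + (r - d) = s by omega, hus]
    · exact ⟨0, zero_mem _, fun h => absurd h hj⟩
  choose a haS ha using hex
  have hEcomm : ∀ y ∈ S, ∀ m i, Commute y (elim h a m i) := by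
    intro y hy m i
    induction m with
    | zero => exact Commute.one_right y
    | succ m ih => exact ih.mul_right (hcomm _ hy _ (sub_mem (hmem (haS m) i) (hmem (haS m) m)))
  have hE : ∀ m, ∑ i ∈ Finset.range (d + 1), c i • (elim h a m i * (h : R) ^ i) = 0 := by
    intro m
    induction m with
    | zero => simpa [elim] using hrel
    | succ m ih =>
      have e : ∀ i, c i • (elim h a (m + 1) i * (h : R) ^ i) =
          c i • (elim h a m i * (h : R) ^ i) * a m - cj h m (a m) * (c i • (elim h a m i * (h : R) ^ i)) := fun i => by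
        rw [elim, smul_mul_assoc, mul_smul_comm, ← smul_sub, mul_assoc (elim h a m i) _ (a m), mul_cj,
          ← mul_assoc (cj h m (a m)), (hEcomm _ (hmem (haS m) m) m i).eq]
        congr 1
        noncomm_ring
      rw [Finset.sum_congr rfl fun i _ => e i, Finset.sum_sub_distrib, ← Finset.sum_mul, ← Finset.mul_sum, ih,
        zero_mul, mul_zero, sub_zero]
  have hpow' : ∀ m, m ≤ d → elim h a m d = D ^ m := by
    intro m
    induction m with
    | zero => intro _; rw [pow_zero]; rfl
    | succ m ih => intro hm; rw [elim, ih (by omega), ha m (by omega), pow_succ]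
  have hDd : D ^ d = 0 := by
    have e := hE d
    rw [Finset.sum_range_succ, Finset.sum_eq_zero fun i hi => by
      rw [elim_zero h a (Finset.mem_range.1 hi), zero_mul, smul_zero], zero_add, hc, one_smul, hpow' d le_rfl] at e
    have := congrArg (fun y : R => y * (((h ^ d)⁻¹ : Rˣ) : R)) e
    rwa [mul_assoc, ← Units.val_pow_eq_pow_val, Units.mul_inv, mul_one, zero_mul] at this
  have hD0 : D = 0 := by
    have : ∀ n, D ^ (n + 1) = 0 → D = 0 := by
      intro n
      induction n with
      | zero => intro e; simpa using e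
      | succ n ih =>
        intro e
        refine ih (hred _ ?_ ?_)
        · clear ih e
          induction n with
          | zero => simpa using hDS
          | succ n ih => rw [pow_succ]; exact hmul _ ih _ hDS
        · rw [← pow_add, show n + 1 + (n + 1) = n + 1 + 1 + n by ring, pow_add, e, zero_mul]
    rcases d with _ | d
    · rw [pow_zero] at hDd
      rw [← mul_one D, hDd, mul_zero]
    · exact this d hDd
  rw [hD, sub_eq_zero] at hD0
  show (h : R) * x = x * h
  conv_rhs => rw [hD0]
  rw [cj, pow_one, mul_assoc, Units.inv_mul, mul_one]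

end Cfsg.Agent.MaxCl.TEv
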