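/-
The derived group of the factor: elements that are not scalar, and triviality of representations of dimension at
most n - 2 by counting commuting sign changes against determinant one.
-/
import Cfsg.Agent.Lib.MaxCl.TEvSlot
import Cfsg.Agent.Lib.MaxCl.TOrthSimple

set_option autoImplicit false
set_option linter.unusedSectionVars false

namespace Cfsg.Agent.MaxCl.TEv

open Matrix
open TOrth (eigen_span)
open scoped MatrixGroups

variable {F : Type*} [Field F] {k : ℕ} [Wt (Fin k) F]

theorem Hyp.rf_single (hh : Hyp k F) (i : Fin k) :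
    (Pi.single i (1 : F) : Fin k → F) ⬝ʷ Pi.single i 1 ≠ 0 := by
  simpa [bf_single] using Wt.ne i

variable [Finite F]

/-- two sign changes off the odd weight lie in the derived group and are not scalar -/
theorem exists_pair (hh : Hyp k F) : ∃ y ∈ Om (Fin k) F, ∀ c : F, (y : Matrix (Fin k) (Fin k) F) ≠ c • 1 := by
  classical
  obtain ⟨j₀, hj⟩ := hh.ones
  have h4 := hh.four'
  obtain ⟨a, -, ha⟩ := Finset.exists_mem_notMem_of_card_lt_card (s := ({j₀} : Finset (Fin k))) (t := Finset.univ)
    (by rw [Finset.card_univ, Finset.card_singleton]; omega)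
  obtain ⟨b, -, hb⟩ := Finset.exists_mem_notMem_of_card_lt_card (s := ({j₀, a} : Finset (Fin k))) (t := Finset.univ)
    (by have := Finset.card_le_two (a := j₀) (b := a); rw [Finset.card_univ]; omega)
  simp only [Finset.mem_singleton, Finset.mem_insert, not_or] at ha hb
  refine ⟨_, rf_single_mul_mem hh.h2 (show (Wt.w a : F) = Wt.w b by rw [hj a ha, hj b hb.1]), fun c e => ?_⟩
  rw [Units.val_mul, rf_single_val hh.h2, rf_single_val hh.h2, Matrix.diagonal_mul_diagonal] at e
  have e1 := congrFun (congrFun e a) a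
  have e2 := congrFun (congrFun e j₀) j₀
  simp [Ne.symm ha, hb.1, Ne.symm hb.1, hb.2, Ne.symm hb.2] at e1 e2
  exact hh.h2 (by linear_combination e2 - e1)

/-- two elements with a commutator that is not scalar -/
theorem exists_noncomm (hh : Hyp k F) : ∃ y ∈ Om (Fin k) F, ∃ y' ∈ Om (Fin k) F,
    ∀ c : F, ((y * y' * y⁻¹ * y'⁻¹ : GL (Fin k) F) : Matrix (Fin k) (Fin k) F) ≠ c • 1 := by
  obtain ⟨y, hy, hsc⟩ := exists_pair hh
  obtain ⟨w, hw, h⟩ := exists_comm_ne_smul hh.big hsc
  exact ⟨y, hy, w, hw, h⟩


set_option maxHeartbeats 1000000 in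
/-- representations of dimension at most `n - 2` are trivial -/
theorem hom_small (hh : Hyp k F) {W : Type*} [AddCommGroup W] [Module F W] [FiniteDimensional F W]
    (hW : Module.finrank F W + 2 ≤ k) (φ : ↥(Om (Fin k) F) →* Module.End F W) (g : ↥(Om (Fin k) F)) :
    φ g = 1 := by
  classical
  have h2 := hh.h2
  by_contra hg
  -- the kernel consists of scalars
  have hker : ∀ x : ↥(Om (Fin k) F), φ x = 1 → ∃ c : F, ((x : GL (Fin k) F) : Matrix (Fin k) (Fin k) F) = c • 1 := by
    intro x hx
    by_contra hsc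
    push Not at hsc
    refine hg ?_
    let K : Subgroup (GL (Fin k) F) := φ.ker.map (Om (Fin k) F).subtype
    have hK : ∀ a ∈ Om (Fin k) F, ∀ z ∈ K, z ∈ Om (Fin k) F → a * z * a⁻¹ ∈ K := by
      intro a ha z hz _
      obtain ⟨z', hz', rfl⟩ := Subgroup.mem_map.1 hz
      have hm : φ ((⟨a, ha⟩ : Om (Fin k) F) * z' * (⟨a, ha⟩ : Om (Fin k) F)⁻¹) = 1 := by
        rw [map_mul, map_mul, MonoidHom.mem_ker.1 hz', mul_one, ← map_mul, mul_inv_cancel, map_one]
      refine Subgroup.mem_map.2 ⟨(⟨a, ha⟩ : Om (Fin k) F) * z' * (⟨a, ha⟩ : Om (Fin k) F)⁻¹,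
        MonoidHom.mem_ker.2 hm, ?_⟩
      rw [map_mul, map_mul, map_inv, Subgroup.subtype_apply, Subgroup.subtype_apply]
    have hxK : (x : GL (Fin k) F) ∈ K := Subgroup.mem_map.2 ⟨x, hx, Subgroup.subtype_apply _⟩
    have hle : Om (Fin k) F ≤ K := hh.big.norm K hK (x : GL (Fin k) F) hxK x.2 hsc
    obtain ⟨z, hz, e⟩ := hle g.2
    rwa [← show z = g from Subtype.ext e]
  have hdet : ∀ x, LinearMap.det (φ x) = 1 := fun x => by
    have := hom_comm_trivial hh.big ((LinearMap.det.comp φ).toHomUnits) x
    exact congrArg Units.val this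
  obtain ⟨j₀, hj⟩ := hh.ones
  have h4 := hh.four'
  obtain ⟨i₁, -, hi₁⟩ := Finset.exists_mem_notMem_of_card_lt_card (s := ({j₀} : Finset (Fin k))) (t := Finset.univ)
    (by rw [Finset.card_univ, Finset.card_singleton]; omega)
  rw [Finset.mem_singleton] at hi₁
  let J := {i : Fin k // i ≠ j₀ ∧ i ≠ i₁}
  have hJ : Fintype.card J = k - 2 := by
    rw [Fintype.card_subtype, show (Finset.univ.filter fun i : Fin k => i ≠ j₀ ∧ i ≠ i₁) = ({j₀, i₁} : Finset (Fin k))ᶜ by
      ext i; simp, Finset.card_compl, Finset.card_pair (Ne.symm hi₁), Fintype.card_fin]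
  let d : J → Fin k → F := fun j i => (if i = j.1 then -1 else 1) * (if i = i₁ then -1 else 1)
  obtain ⟨z, zval⟩ : ∃ z : J → ↥(Om (Fin k) F),
      ∀ j, ((z j : GL (Fin k) F) : Matrix (Fin k) (Fin k) F) = Matrix.diagonal (d j) :=
    ⟨fun j => ⟨_, rf_single_mul_mem h2 (show (Wt.w j.1 : F) = Wt.w i₁ by rw [hj j.1 j.2.1, hj i₁ hi₁])⟩, fun j => by
      show ((rf _ * rf _ : GL (Fin k) F) : Matrix (Fin k) (Fin k) F) = _
      rw [Units.val_mul, rf_single_val h2, rf_single_val h2, Matrix.diagonal_mul_diagonal]⟩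
  have zcomm : ∀ i j, Commute (z i) (z j) := fun i j => by
    refine Subtype.ext (Units.ext ?_)
    rw [Subgroup.coe_mul, Subgroup.coe_mul, Units.val_mul, Units.val_mul, zval, zval, Matrix.diagonal_mul_diagonal,
      Matrix.diagonal_mul_diagonal]
    exact congrArg Matrix.diagonal (funext fun a => mul_comm _ _)
  have zinv : ∀ j, z j * z j = 1 := fun j => Subtype.ext (Units.ext (by
    rw [Subgroup.coe_mul, Units.val_mul, zval, Matrix.diagonal_mul_diagonal, OneMemClass.coe_one, Units.val_one,
      ← Matrix.diagonal_one]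
    refine congrArg Matrix.diagonal (funext fun a => ?_)
    simp only [d]
    split_ifs <;> ring))
  let ε : J → Module.End F W := fun j => φ (z j)
  obtain ⟨b, hb, hspan, hli⟩ := exists_linearIndependent F {w | ∀ j ∈ (Finset.univ : Finset J), ε j w = w ∨ ε j w = -w}
  rw [eigen_span h2 ε (fun j => by rw [← map_mul, zinv, map_one])
    (fun i j => (zcomm i j).map φ) Finset.univ] at hspan
  haveI : Finite b := hli.finite
  haveI := Fintype.ofFinite b
  have hbcard : Fintype.card b ≤ Module.finrank F W := hli.fintype_card_le_finrank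
  let prodz : Finset J → ↥(Om (Fin k) F) := fun T => T.noncommProd z fun i _ j _ _ => zcomm i j
  have pins : ∀ (j : J) (T : Finset J), j ∉ T → prodz (insert j T) = z j * prodz T := fun j T hj' =>
    Finset.noncommProd_insert_of_notMem _ _ _ _ hj'
  have pemp : prodz ∅ = 1 := Finset.noncommProd_empty _ _
  have pval : ∀ T, ((prodz T : GL (Fin k) F) : Matrix (Fin k) (Fin k) F) =
      Matrix.diagonal fun i => ∏ j ∈ T, d j i := by
    intro T
    induction T using Finset.induction with
    | empty => simp [pemp]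
    | insert j T hj ih =>
      rw [pins j T hj, Subgroup.coe_mul, Units.val_mul, ih, zval, Matrix.diagonal_mul_diagonal]
      simp [Finset.prod_insert hj]
  let sg : b → J → F := fun w j => if ε j (w : W) = (w : W) then 1 else -1
  have peig : ∀ T (w : b), φ (prodz T) (w : W) = (∏ j ∈ T, sg w j) • (w : W) := by
    intro T w
    induction T using Finset.induction with
    | empty => simp [pemp]
    | insert j T hj ih =>
      rw [pins j T hj, map_mul, Module.End.mul_apply, ih, map_smul, Finset.prod_insert hj, mul_comm, mul_smul]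
      congr 1
      rcases hb w.2 j (Finset.mem_univ j) with h | h
      · simp only [sg, if_pos h, one_smul]; exact h
      · by_cases h' : ε j (w : W) = w
        · simp only [sg, if_pos h', one_smul]; exact h'
        · simp only [sg, if_neg h', neg_smul, one_smul]; exact h
  let B : Module.Basis b F W := Module.Basis.mk hli (by simpa using hspan.ge)
  have hprod1 : ∀ T, ∏ w : b, ∏ j ∈ T, sg w j = 1 := fun T => by
    have hM : LinearMap.toMatrix B B (φ (prodz T)) = Matrix.diagonal fun w => ∏ j ∈ T, sg w j := by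
      ext u v
      rw [LinearMap.toMatrix_apply, show B v = (v : W) by simp [B], peig, map_smul,
        show (v : W) = B v by simp [B], Module.Basis.repr_self, Finsupp.smul_apply, Finsupp.single_apply,
        Matrix.diagonal_apply, smul_eq_mul]
      rcases eq_or_ne u v with rfl | huv
      · simp
      · simp [huv, huv.symm]
    have := hdet (prodz T)
    rwa [← LinearMap.det_toMatrix B, hM, Matrix.det_diagonal] at this
  have hbne : Nonempty b := by
    by_contra hbe
    haveI := not_nonempty_iff.1 hbe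
    refine hg (LinearMap.ext_on hspan fun w hw => isEmptyElim (⟨w, hw⟩ : b))
  obtain ⟨w₀⟩ := hbne
  let pat : Finset J → {w : b // w ≠ w₀} → Bool := fun T w => decide ((∏ j ∈ T, sg w.1 j) = 1)
  obtain ⟨T, T', hne, hpat⟩ := Fintype.exists_ne_map_eq_of_card_lt pat (by
    rw [Fintype.card_fun, Fintype.card_bool, Fintype.card_finset, Fintype.card_subtype_compl,
      Fintype.card_subtype_eq, hJ]
    have := Fintype.card_pos_iff.2 ⟨w₀⟩
    exact Nat.pow_lt_pow_right (by norm_num) (by omega))
  have hpm : ∀ (U : Finset J) (w : b), (∏ j ∈ U, sg w j) = 1 ∨ (∏ j ∈ U, sg w j) = -1 := fun U w => by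
    refine mul_self_eq_one_iff.1 ?_
    rw [← Finset.prod_mul_distrib]
    exact Finset.prod_eq_one fun j _ => by simp only [sg]; split_ifs <;> simp
  have hsame : ∀ w, w ≠ w₀ → (∏ j ∈ T, sg w j) = ∏ j ∈ T', sg w j := fun w hw => by
    have h := congrFun hpat ⟨w, hw⟩
    simp only [pat, decide_eq_decide] at h
    rcases hpm T w with e | e <;> rcases hpm T' w with e' | e'
    · rw [e, e']
    · exact absurd (h.1 e) (by rw [e']; exact fun e'' => h2 (by linear_combination -e''))
    · exact absurd (h.2 e') (by rw [e]; exact fun e'' => h2 (by linear_combination -e''))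
    · rw [e, e']
  have heq : φ (prodz T) = φ (prodz T') := by
    refine LinearMap.ext_on hspan fun w hw => ?_
    rw [peig T ⟨w, hw⟩, peig T' ⟨w, hw⟩]
    congr 1
    by_cases hw₀ : (⟨w, hw⟩ : b) = w₀
    · rw [hw₀]
      have e1 := hprod1 T
      have e2 := hprod1 T'
      rw [← Finset.mul_prod_erase _ _ (Finset.mem_univ w₀)] at e1 e2
      rw [Finset.prod_congr rfl fun w hw => hsame w (Finset.ne_of_mem_erase hw)] at e1
      exact mul_right_cancel₀ (right_ne_zero_of_mul_eq_one e2) (e1.trans e2.symm)
    · exact hsame _ hw₀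
  obtain ⟨c, hc⟩ := hker (prodz T * (prodz T')⁻¹) (by
    rw [map_mul, heq, ← map_mul, mul_inv_cancel, map_one])
  have hc' : ((prodz T : GL (Fin k) F) : Matrix (Fin k) (Fin k) F) = c • ((prodz T' : GL (Fin k) F) : Matrix (Fin k) (Fin k) F) := by
    have e : prodz T = (prodz T * (prodz T')⁻¹) * prodz T' := by group
    conv_lhs => rw [e]
    rw [Subgroup.coe_mul, Units.val_mul, hc, smul_mul_assoc, one_mul]
  rw [pval, pval] at hc'
  have hd : ∀ i, ∏ j ∈ T, d j i = c * ∏ j ∈ T', d j i := fun i => by
    simpa using congrFun (congrFun hc' i) i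
  have hd0 : ∀ U : Finset J, ∏ j ∈ U, d j j₀ = 1 := fun U => Finset.prod_eq_one fun j _ => by
    simp [d, Ne.symm j.2.1, Ne.symm hi₁]
  have hc1 : c = 1 := by
    have := hd j₀
    rw [hd0, hd0, mul_one] at this
    exact this.symm
  have hdj : ∀ (U : Finset J) (j : J), ∏ j' ∈ U, d j' j.1 = if j ∈ U then -1 else 1 := fun U j => by
    rw [← Finset.prod_ite_eq U j fun _ => (-1 : F)]
    exact Finset.prod_congr rfl fun j' _ => by
      simp only [d, if_neg j.2.2, mul_one]
      by_cases h : j = j'
      · subst h; simp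
      · rw [if_neg h, if_neg fun e => h (Subtype.ext e)]
  refine hne (Finset.ext fun j => ?_)
  have := hd j.1
  rw [hc1, one_mul, hdj, hdj] at this
  by_cases h : j ∈ T <;> by_cases h' : j ∈ T' <;> simp only [h, h', if_true, if_false] at this ⊢
  · exact absurd (by linear_combination -this : (2 : F) = 0) h2
  · exact absurd (by linear_combination this : (2 : F) = 0) h2

end Cfsg.Agent.MaxCl.TEv
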