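/-
Abelian groups normalised by the pure derived elements: their semisimple elements are centralised, and the special
slot isometries act irreducibly.
-/
import Cfsg.Agent.Lib.MaxCl.TEvSmall
import Cfsg.Agent.Lib.MaxCl.TEvCtx
import Cfsg.Agent.Lib.MaxCl.TEvRel
import Cfsg.Agent.Lib.CharInt.Burnside

set_option autoImplicit false
set_option linter.unusedSectionVars false

namespace Cfsg.Agent.MaxCl.TEv

open Matrix
open TOrth (binary_value rk rk_zero rk_one inl inr inl_val inr_val rgt)
open TW (tk pm pg rt rid spl sl Wr)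
open scoped MatrixGroups Kronecker

variable {F : Type*} [Field F] {k : ℕ} [Wt (Fin k) F]

theorem not_scalar_of_order (hh : Hyp k F) {h : GL (Fin k) F} (hO : h ∈ Orth (Fin k) F) {q : ℕ} (hq : Odd q)
    (hhq : h ^ q = 1) (h1 : h ≠ 1) (c : F) : (h : Matrix (Fin k) (Fin k) F) ≠ c • 1 := by
  intro e
  refine h1 ?_
  obtain ⟨i⟩ := hh.ne
  have hcc : c * c = 1 := by
    have := congrFun (congrFun (ad_mul_self hh.h2 hO) i) i
    rw [e, ad_smul, ad_one, smul_mul_smul_comm, one_mul] at this
    simpa using this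
  have hh2 : h * h = 1 := Units.ext (by rw [Units.val_mul, e, smul_mul_smul_comm, one_mul, hcc, one_smul, Units.val_one])
  obtain ⟨m, hm⟩ := hq
  rwa [hm, pow_succ, pow_mul, pow_two, hh2, one_pow, one_mul] at hhq

variable [Finite F]

/-- the order of the derived group has a prime divisor above three -/
theorem exists_prime_five (hh : Hyp k F) : ∃ q : ℕ, q.Prime ∧ 5 ≤ q ∧ q ∣ Nat.card ↥(Om (Fin k) F) := by
  by_contra hc
  push Not at hc
  set n := Nat.card ↥(Om (Fin k) F) with hn
  have hn0 : n ≠ 0 := Nat.card_pos.ne'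
  obtain ⟨a, m, hm2, hm⟩ := Nat.exists_eq_pow_mul_and_not_dvd hn0 2 (by norm_num)
  obtain ⟨b, l, hl3, hl⟩ := Nat.exists_eq_pow_mul_and_not_dvd (n := m) (fun e => hn0 (by rw [hm, e, mul_zero])) 3
    (by norm_num)
  have hl1 : l = 1 := by
    by_contra h
    obtain ⟨p, hp, hpl⟩ := Nat.exists_prime_and_dvd h
    have hpm : p ∣ m := hl ▸ dvd_mul_of_dvd_right hpl _
    have hpn : p ∣ n := hm ▸ dvd_mul_of_dvd_right hpm _
    have h5 : p < 5 := by
      by_contra h5
      exact hc p hp (not_lt.1 h5) hpn
    interval_cases p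
    · exact absurd hp (by norm_num)
    · exact absurd hp (by norm_num)
    · exact hm2 hpm
    · exact hl3 hpl
    · exact absurd hp (by norm_num)
  have hsol : Group.IsSolvable ↥(Om (Fin k) F) :=
    CharInt.isSolvable_of_card_eq (a := a) (b := b) Nat.prime_two Nat.prime_three
      (by rw [← hn, hm, hl, hl1, mul_one])
  obtain ⟨y, hy, hsc⟩ := exists_pair hh
  obtain ⟨w, -, -⟩ := exists_comm_ne_smul hh.big hsc
  obtain ⟨i, hi⟩ := hsol.solvable
  have htop : ∀ j, derivedSeries ↥(Om (Fin k) F) j = ⊤ := fun j => by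
    induction j with
    | zero => exact derivedSeries_zero _
    | succ j ih => rw [derivedSeries_succ, ih]; exact hh.big.perf
  rw [htop i] at hi
  have : (⟨y, hy⟩ : Om (Fin k) F) = 1 := (Subgroup.eq_bot_iff_forall _).1 hi.symm.symm _ (Subgroup.mem_top _)
  exact hsc 1 (by rw [one_smul]; exact congrArg (fun z : Om (Fin k) F => ((z : GL (Fin k) F) : Matrix (Fin k) (Fin k) F)) this)

/-- an element of prime order with a monic relation of smaller degree -/
theorem exists_short (hh : Hyp k F) : ∃ h ∈ Om (Fin k) F, (∀ c : F, (h : Matrix (Fin k) (Fin k) F) ≠ c • 1) ∧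
    ∃ q : ℕ, q.Prime ∧ h ^ q = 1 ∧ ∃ d : ℕ, d < q ∧ ∃ c : ℕ → F, c d = 1 ∧
      ∑ i ∈ Finset.range (d + 1), c i • (h : Matrix (Fin k) (Fin k) F) ^ i = 0 := by
  have h2 := hh.h2
  by_cases h4 : k = 4
  · obtain ⟨q, hq, h5, hdvd⟩ := exists_prime_five hh
    haveI : Fact q.Prime := ⟨hq⟩
    obtain ⟨h, hh'⟩ := exists_prime_orderOf_dvd_card' q hdvd
    have hpow : (h : GL (Fin k) F) ^ q = 1 := by
      rw [← Subgroup.coe_pow, ← hh', pow_orderOf_eq_one]; rfl
    refine ⟨h, h.2, not_scalar_of_order hh (om_le_orth h.2) (hq.odd_of_ne_two (by omega)) hpow ?_, q, hq, hpow, k,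
      by omega, fun i => ((h : GL (Fin k) F) : Matrix (Fin k) (Fin k) F).charpoly.coeff i, ?_, ?_⟩
    · intro e
      rw [show h = 1 from Subtype.ext e, orderOf_one] at hh'
      omega
    · have := (Matrix.charpoly_monic ((h : GL (Fin k) F) : Matrix (Fin k) (Fin k) F)).coeff_natDegree
      rwa [Matrix.charpoly_natDegree_eq_dim, Fintype.card_fin] at this
    · have := Matrix.aeval_self_charpoly ((h : GL (Fin k) F) : Matrix (Fin k) (Fin k) F)
      rwa [Polynomial.aeval_eq_sum_range, Matrix.charpoly_natDegree_eq_dim, Fintype.card_fin] at this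
  have h6 := hh.six h4
  obtain ⟨a, -, ha⟩ := exists_value_pr h2 pr_one (π := (1 : Matrix (Fin k) (Fin k) F))
    (by rw [rk_one, Fintype.card_fin]; omega) (1 : F)
  have ha0 : a ⬝ʷ a ≠ 0 := by rw [ha]; exact one_ne_zero
  have hr := rk_one_sub (pr_pj ha0)
  rw [rk_pj ha0, Fintype.card_fin] at hr
  obtain ⟨b, hb', hb⟩ := exists_value_pr h2 (pr_pj ha0).one_sub (by omega) (-1 : F)
  have hb0 : b ⬝ʷ b ≠ 0 := by rw [hb]; exact neg_ne_zero.2 one_ne_zero
  obtain ⟨-, hab⟩ := fix_sub_pj pr_one ha0 (Matrix.one_mulVec a) hb'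
  have hσ := (pr_pj ha0).one_sub.sub (pr_pj hb0) (mul_pj hb')
  have hr' := rk_sub_pj (pr_pj ha0).one_sub hb0 hb'
  obtain ⟨e, he', he⟩ := exists_value_pr h2 hσ (by omega) (1 : F)
  have he0 : e ⬝ʷ e ≠ 0 := by rw [he]; exact one_ne_zero
  have hr'' := rk_sub_pj hσ he0 he'
  obtain ⟨f, hf', hf⟩ := exists_value_pr h2 (hσ.sub (pr_pj he0) (mul_pj he')) (by omega) (-1 : F)
  obtain ⟨hσf, hef⟩ := fix_sub_pj hσ he0 he' hf'
  obtain ⟨h1e, hbe⟩ := fix_sub_pj (pr_pj ha0).one_sub hb0 hb' he'
  obtain ⟨h1f, hbf⟩ := fix_sub_pj (pr_pj ha0).one_sub hb0 hb' hσf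
  obtain ⟨-, hae⟩ := fix_sub_pj pr_one ha0 (Matrix.one_mulVec a) h1e
  obtain ⟨-, haf⟩ := fix_sub_pj pr_one ha0 (Matrix.one_mulVec a) h1f
  set u := a + b with hu
  set w := e + f with hw
  have huu : u ⬝ʷ u = 0 := by
    simp only [hu, add_bf, bf_add, ha, hb, bf_comm b a, hab]; ring
  have hww : w ⬝ʷ w = 0 := by
    simp only [hw, add_bf, bf_add, he, hf, bf_comm f e, hef]; ring
  have huw : u ⬝ʷ w = 0 := by simp only [hu, hw, add_bf, bf_add, hae, haf, hbe, hbf]; ring
  set n : Matrix (Fin k) (Fin k) F := ov w u - ov u w with hn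
  have hnn : n * n = 0 := by
    simp only [hn, mul_sub, sub_mul, ov_mul_ov, huu, huw, bf_comm w u, hww, zero_smul]
    have h0 : ∀ z : Fin k → F, ov z (0 : Fin k → F) = 0 := fun z => by ext i j; simp [ov_apply]
    simp [h0]
  have hn0 : n ≠ 0 := fun h0 => by
    have := congrArg (fun m => a ⬝ʷ ((m : Matrix (Fin k) (Fin k) F) *ᵥ e)) h0
    rw [hn, Matrix.sub_mulVec, ov_mulVec, ov_mulVec, Matrix.zero_mulVec, bf_zero, bf_sub, bf_smul, bf_smul] at this
    have hfe : f ⬝ʷ e = 0 := by rwa [bf_comm]
    simp only [hu, hw, add_bf, bf_add, hae, haf, ha, hab, he, hfe, hbe] at this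
    simp at this
  have hnad : n† = -n := by rw [hn, ad_sub, ad_ov, ad_ov, neg_sub]
  have hmk : ∀ t : F, ∃ g : GL (Fin k) F, g ∈ Orth (Fin k) F ∧ (g : Matrix (Fin k) (Fin k) F) = 1 + t • n := by
    intro t
    have e1 : (1 + t • n) * (1 - t • n) = 1 := by
      simp only [add_mul, mul_sub, one_mul, mul_one, smul_mul_smul_comm, hnn, smul_zero, sub_zero]; abel
    refine ⟨⟨_, _, e1, mul_eq_one_comm.1 e1⟩, (mem_orth_iff h2).2 ?_, rfl⟩
    show (1 + t • n)† * (1 + t • n) = 1
    rw [ad_add, ad_one, ad_smul, hnad, smul_neg, ← sub_eq_add_neg]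
    exact mul_eq_one_comm.1 e1
  obtain ⟨g, hgO, hgv⟩ := hmk (2 : F)⁻¹
  have hhv : ((g * g : GL (Fin k) F) : Matrix (Fin k) (Fin k) F) = 1 + n := by
    rw [Units.val_mul, hgv]
    simp only [add_mul, mul_add, one_mul, mul_one, smul_mul_smul_comm, hnn, smul_zero, add_zero]
    rw [add_assoc, ← add_smul, ← two_mul, mul_inv_cancel₀ h2, one_smul]
  obtain ⟨p, hp⟩ := CharP.exists F
  haveI := hp
  have hprime : p.Prime := CharP.char_is_prime F p
  have hp3 : 3 ≤ p := by
    rcases Nat.lt_or_ge p 3 with h | h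
    · exfalso
      interval_cases p
      · exact absurd hprime (by norm_num)
      · exact absurd hprime (by norm_num)
      · exact h2 (by simpa using CharP.cast_eq_zero F 2)
    · exact h
  have hpow : ∀ i : ℕ, ((g * g : GL (Fin k) F) : Matrix (Fin k) (Fin k) F) ^ i = 1 + (i : F) • n := fun i => by
    induction i with
    | zero => simp
    | succ i ih =>
      rw [pow_succ, ih, hhv]
      simp only [add_mul, mul_add, one_mul, mul_one, smul_mul_assoc, hnn, smul_zero, add_zero, Nat.cast_succ, add_smul,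
        one_smul]
      abel
  have hq : (g * g) ^ p = 1 := Units.ext (by
    rw [Units.val_pow_eq_pow_val, hpow, CharP.cast_eq_zero, zero_smul, add_zero, Units.val_one])
  refine ⟨g * g, sq_mem_om h2 hgO, not_scalar_of_order hh (mul_mem hgO hgO) (hprime.odd_of_ne_two (by omega)) hq
    (fun e => hn0 ?_), p, hprime, hq, 2, by omega, fun i => if i = 0 then 1 else if i = 1 then -2 else 1, by simp, ?_⟩
  · have := congrArg Units.val e
    rw [hhv, Units.val_one, add_eq_left] at this
    exact this
  · rw [Finset.sum_range_succ, Finset.sum_range_succ, Finset.sum_range_one, hpow, hpow, hpow]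
    simp
    module

variable {T : Type} [Fintype T] [DecidableEq T]

/-- the special slot isometries act irreducibly -/
theorem irred (hh : Hyp k F) {W : Submodule F ((T → Fin k) → F)}
    (h : ∀ u : T → GL (Fin k) F, (∀ r, SO (u r)) → ∀ v ∈ W, act (tk u) v ∈ W) {v : (T → Fin k) → F}
    (hv : v ∈ W) (hv0 : v ≠ 0) : W = ⊤ := by
  classical
  have h2 := hh.h2
  have hr : ∀ (r : T) (w : GL (Fin k) F), SO w → ∀ z ∈ W, act (rt r w) z ∈ W := fun r w hw => by
    rw [TW.rt_eq]
    refine h _ fun s => ?_
    rcases eq_or_ne s r with rfl | hs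
    · rwa [Pi.mulSingle_eq_same]
    · rw [Pi.mulSingle_eq_of_ne hs]; exact so_one
  -- keep one value in one slot
  have hkeep : ∀ (r : T) (j : Fin k), ∀ z ∈ W, (fun x : T → Fin k => if x r = j then z x else 0) ∈ W := by
    intro r j z hz
    obtain ⟨l, -, hl⟩ := Finset.exists_mem_notMem_of_card_lt_card (s := ({j} : Finset (Fin k))) (t := Finset.univ)
      (by have := hh.four'; rw [Finset.card_univ, Finset.card_singleton]; omega)
    obtain ⟨l', -, hl'⟩ := Finset.exists_mem_notMem_of_card_lt_card (s := ({j, l} : Finset (Fin k))) (t := Finset.univ)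
      (by have := hh.four'; have := Finset.card_le_two (a := j) (b := l); rw [Finset.card_univ]; omega)
    simp only [Finset.mem_singleton, Finset.mem_insert, not_or] at hl hl'
    have hcut : ∀ b : Fin k, b ≠ j → ∀ z ∈ W,
        (fun x : T → Fin k => if x r = j ∨ x r = b then z x else 0) ∈ W := by
      intro b hb z hz
      have hso : SO (rf (Pi.single j (1 : F) : Fin k → F) * rf (Pi.single b (1 : F))) :=
        so_rf_mul (hh.rf_single j) (hh.rf_single b)
      have hZ := hr r _ hso _ hz
      set g := rf (Pi.single j (1 : F) : Fin k → F) * rf (Pi.single b (1 : F)) with hg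
      let ε : Fin k → F := fun i => (if i = j then -1 else 1) * (if i = b then -1 else 1)
      have hdiag : ∀ y : T → Fin k, act (rt r g) (Pi.single y (1 : F)) =
          ε (y r) • (Pi.single y (1 : F) : (T → Fin k) → F) := by
        intro y
        rw [← TW.tp_single, TW.act_rt]
        funext q
        rw [TW.tp_apply, TW.prod_split r, Function.update_self, Pi.smul_apply, TW.tp_apply, TW.prod_split r,
          smul_eq_mul, ← mul_assoc]
        congr 1
        · rw [act_apply, hg, Units.val_mul, rf_single_val h2, rf_single_val h2, Matrix.diagonal_mul_diagonal,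
            Matrix.mulVec_diagonal]
          rcases eq_or_ne (q r) (y r) with he | he
          · simp only [ε, he]
          · simp [Pi.single_eq_of_ne he]
        · exact Finset.prod_congr rfl fun s _ => by rw [Function.update_of_ne s.2]
      have hact : ∀ y : T → Fin k, act (rt r g) z y = ε (y r) * z y := by
        intro y
        conv_lhs => rw [pi_eq_sum_univ' z, map_sum]
        rw [Finset.sum_apply, Finset.sum_eq_single y]
        · rw [map_smul, hdiag, Pi.smul_apply, Pi.smul_apply, Pi.single_eq_same, smul_eq_mul, smul_eq_mul]; ring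
        · intro b _ hb
          rw [map_smul, hdiag, Pi.smul_apply, Pi.smul_apply, Pi.single_eq_of_ne (Ne.symm hb), smul_zero, smul_zero]
        · simp
      have := W.smul_mem (2 : F)⁻¹ (sub_mem hz hZ)
      convert this using 1
      funext y
      simp only [Pi.smul_apply, Pi.sub_apply, hact, smul_eq_mul, ε]
      by_cases h1 : y r = j
      · rw [if_pos (Or.inl h1), if_pos h1, if_neg (fun e : y r = b => hb (e.symm.trans h1))]; field_simp; ring
      · by_cases h3 : y r = b
        · rw [if_pos (Or.inr h3), if_neg h1, if_pos h3]; field_simp; ring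
        · rw [if_neg (not_or.2 ⟨h1, h3⟩), if_neg h1, if_neg h3]; ring
    have := hcut l' hl'.1 _ (hcut l hl _ hz)
    convert this using 1
    funext y
    by_cases h1 : y r = j
    · simp [h1]
    · by_cases h3 : y r = l
      · simp [h3, hl, Ne.symm hl'.2]
      · simp [h1, h3]
  obtain ⟨x₀, hx₀⟩ := Function.ne_iff.1 hv0
  have hcut : ∀ Tset : Finset T, (fun x => if ∀ r ∈ Tset, x r = x₀ r then v x else 0) ∈ W := by
    intro Tset
    induction Tset using Finset.induction with
    | empty => simpa using hv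
    | insert r Tset _ ih =>
      have := hkeep r (x₀ r) _ ih
      convert this using 1
      funext y
      simp only [Finset.forall_mem_insert]
      by_cases h1 : y r = x₀ r
      · simp [h1]
      · simp [h1]
  have hstart : (Pi.single x₀ (1 : F) : (T → Fin k) → F) ∈ W := by
    have := W.smul_mem (v x₀)⁻¹ (hcut Finset.univ)
    convert this using 1
    funext y
    simp only [Pi.smul_apply, smul_eq_mul]
    rcases eq_or_ne y x₀ with rfl | hy
    · rw [Pi.single_eq_same, if_pos fun _ _ => rfl, inv_mul_cancel₀ hx₀]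
    · rw [Pi.single_eq_of_ne hy, if_neg fun h => hy (funext fun r => h r (Finset.mem_univ r)), mul_zero]
  have hmove : ∀ (x : T → Fin k) (r : T) (j : Fin k), (Pi.single x (1 : F) : (T → Fin k) → F) ∈ W →
      (Pi.single (Function.update x r j) (1 : F) : (T → Fin k) → F) ∈ W := by
    intro x r j hx
    set i := x r
    obtain ⟨a, -, ha⟩ := Finset.exists_mem_notMem_of_card_lt_card (s := ({j} : Finset (Fin k))) (t := Finset.univ)
      (by have := hh.four'; rw [Finset.card_univ, Finset.card_singleton]; omega)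
    obtain ⟨b, -, hb⟩ := Finset.exists_mem_notMem_of_card_lt_card (s := ({j, a} : Finset (Fin k))) (t := Finset.univ)
      (by have := hh.four'; have := Finset.card_le_two (a := j) (b := a); rw [Finset.card_univ]; omega)
    simp only [Finset.mem_singleton, Finset.mem_insert, not_or] at ha hb
    obtain ⟨s, t, hst⟩ := binary_value h2 (Wt.ne (F := F) a) (Wt.ne b) ((Wt.w i : F) - Wt.w j)
    obtain ⟨g, hg, hga⟩ := exists_om_act h2 (by have := hh.four'; omega) (a := Pi.single i (1 : F))
      (b := Pi.single j 1 + s • Pi.single a 1 + t • Pi.single b 1)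
      (hh.rf_single i) (by
        simp [add_bf, bf_add, smul_bf, bf_smul, bf_single, ha, Ne.symm ha, hb.1, Ne.symm hb.1, hb.2, Ne.symm hb.2]
        linear_combination -hst)
    have him := hr r g (so_of_om h2 hg) _ hx
    have hcomp : ∀ y : T → Fin k, act (rt r g) (Pi.single x (1 : F)) y =
        act g (Pi.single i (1 : F)) (y r) * ∏ q : {q // q ≠ r}, (Pi.single (x q.1) (1 : F) : Fin k → F) (y q.1) := by
      intro y
      rw [← TW.tp_single, TW.act_rt, TW.tp_apply, TW.prod_split r, Function.update_self]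
      congr 1
      exact Finset.prod_congr rfl fun q _ => by rw [Function.update_of_ne q.2]
    have := hkeep r j _ him
    convert this using 1
    funext y
    by_cases h1 : y r = j
    · rw [if_pos h1, hcomp, hga]
      simp only [Pi.add_apply, Pi.smul_apply, h1, Pi.single_eq_same, Pi.single_eq_of_ne (Ne.symm ha),
        Pi.single_eq_of_ne (Ne.symm hb.1), smul_zero, add_zero, one_mul]
      rw [← TW.tp_single, TW.tp_apply, TW.prod_split r, Function.update_self, h1, Pi.single_eq_same, one_mul]
      exact Finset.prod_congr rfl fun q _ => by rw [Function.update_of_ne q.2]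
    · rw [if_neg h1, Pi.single_eq_of_ne]
      exact fun e => h1 (by rw [e, Function.update_self])
  have hall : ∀ (Tset : Finset T) (x : T → Fin k), (∀ r, r ∉ Tset → x r = x₀ r) →
      (Pi.single x (1 : F) : (T → Fin k) → F) ∈ W := by
    intro Tset
    induction Tset using Finset.induction with
    | empty => intro x hx; rw [show x = x₀ from funext fun r => hx r (Finset.notMem_empty r)]; exact hstart
    | insert r Tset _ ih =>
      intro x hx
      have h1 := hmove _ r (x r) (ih (Function.update x r (x₀ r)) fun s hs => by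
        rcases eq_or_ne s r with rfl | hsr
        · simp
        · rw [Function.update_of_ne hsr]; exact hx s (by simp [hs, hsr]))
      rwa [Function.update_idem, Function.update_eq_self] at h1
  rw [Submodule.eq_top_iff']
  intro z
  rw [pi_eq_sum_univ' z]
  exact sum_mem fun x _ => W.smul_mem _ (hall Finset.univ x (by simp))

/-- semisimple elements of an abelian group normalised by the pure derived elements commute with them -/
theorem commute_of_coprime (hh : Hyp k F) (p : ℕ) [Fact p.Prime] [CharP F p]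
    {A : Subgroup (GL ((T → Fin k) × Fin k) F)} (hcomm : ∀ a ∈ A, ∀ b ∈ A, Commute a b)
    (hnorm : ∀ u : T → GL (Fin k) F, (∀ r, u r ∈ Om (Fin k) F) → ∀ a ∈ A,
      inl _ k F (tk u) * a * (inl _ k F (tk u))⁻¹ ∈ A)
    {g : GL ((T → Fin k) × Fin k) F} (hg : g ∈ A) (hgp : (orderOf g).Coprime p)
    {u : T → GL (Fin k) F} (hu : ∀ r, u r ∈ Om (Fin k) F) : Commute g (inl _ k F (tk u)) := by
  classical
  haveI := Fintype.ofFinite F
  have h2 := hh.h2
  obtain ⟨f, -, hf⟩ := FiniteField.card F p
  let A' : Set (GL ((T → Fin k) × Fin k) F) := {a | a ∈ A ∧ (orderOf a).Coprime p}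
  let mA := (A' : Set (GL ((T → Fin k) × Fin k) F)).toFinite.toFinset.lcm fun a => orderOf a
  have hmA : mA.Coprime p := by
    have : ∀ s : Finset (GL ((T → Fin k) × Fin k) F), (∀ a ∈ s, (orderOf a).Coprime p) →
        (s.lcm fun a => orderOf a).Coprime p := by
      intro s
      induction s using Finset.induction with
      | empty => intro _; simp
      | insert a s _ ih =>
        intro hs
        rw [Finset.lcm_insert]
        exact Nat.Coprime.coprime_dvd_left (Nat.lcm_dvd_mul _ _)
          ((hs a (Finset.mem_insert_self a s)).mul_left (ih fun b hb => hs b (Finset.mem_insert_of_mem hb)))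
    exact this _ fun a ha => ((Set.Finite.mem_toFinset _).1 ha).2
  set E := (f : ℕ) * Nat.totient mA with hE
  have hmA0 : mA ≠ 0 := Finset.lcm_ne_zero_iff.2 fun a _ => (orderOf_pos a).ne'
  have hEpos : 0 < E := Nat.mul_pos f.pos (Nat.totient_pos.2 (Nat.pos_of_ne_zero hmA0))
  have hpow : ∀ a ∈ A', a ^ p ^ E = a := by
    intro a ha
    have hdvd : orderOf a ∣ mA := Finset.dvd_lcm ((Set.Finite.mem_toFinset _).2 ha)
    have h1 : p ^ E ≡ 1 [MOD mA] := by
      rw [hE, pow_mul]
      exact Nat.ModEq.pow_totient ((Nat.coprime_comm.1 hmA).pow_left _)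
    conv_rhs => rw [← pow_one a]
    rw [pow_eq_pow_iff_modEq]
    exact Nat.ModEq.of_dvd hdvd h1
  let S := Submodule.span F ((fun a : GL ((T → Fin k) × Fin k) F =>
    (a : Matrix ((T → Fin k) × Fin k) ((T → Fin k) × Fin k) F)) '' A')
  haveI := hh.ne
  haveI : Nonempty ((T → Fin k) × Fin k) := inferInstance
  haveI : CharP (Matrix ((T → Fin k) × Fin k) ((T → Fin k) × Fin k) F) p := Matrix.charP p
  haveI : ExpChar (Matrix ((T → Fin k) × Fin k) ((T → Fin k) × Fin k) F) p := ExpChar.prime Fact.out
  have hScomm : ∀ x ∈ S, ∀ y ∈ S, Commute x y := by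
    intro x hx y hy
    induction hx using Submodule.span_induction with
    | mem x hx =>
      induction hy using Submodule.span_induction with
      | mem y hy =>
        obtain ⟨a, ha, rfl⟩ := hx
        obtain ⟨b, hb, rfl⟩ := hy
        exact congrArg Units.val (hcomm a ha.1 b hb.1).eq
      | zero => exact Commute.zero_right _
      | add a b _ _ ha hb => exact ha.add_right hb
      | smul c a _ ha => exact ha.smul_right c
    | zero => exact Commute.zero_left _
    | add a b _ _ ha hb => exact ha.add_left hb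
    | smul c a _ ha => exact ha.smul_left c
  have hfix : ∀ x ∈ S, x ^ p ^ E = x := by
    intro x hx
    induction hx using Submodule.span_induction with
    | mem x hx =>
      obtain ⟨a, ha, rfl⟩ := hx
      show (a : Matrix ((T → Fin k) × Fin k) ((T → Fin k) × Fin k) F) ^ _ = _
      rw [← Units.val_pow_eq_pow_val, hpow a ha]
    | zero => exact zero_pow (pow_ne_zero _ (Fact.out : p.Prime).ne_zero)
    | add a b ha hb ea eb => rw [add_pow_char_pow_of_commute (p := p) (h := hScomm a ha b hb), ea, eb]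
    | smul c a _ ea =>
      rw [smul_pow, ea, hE, pow_mul, ← hf, FiniteField.pow_card_pow]
  have hred : ∀ x ∈ S, x * x = 0 → x = 0 := by
    intro x hx hxx
    rw [← hfix x hx]
    obtain ⟨r, hr⟩ : ∃ r, p ^ E = 2 + r := ⟨p ^ E - 2, by
      have := Nat.one_lt_pow hEpos.ne' (Fact.out : p.Prime).one_lt
      omega⟩
    rw [hr, pow_add, pow_two, hxx, zero_mul]
  have hmul : ∀ x ∈ S, ∀ y ∈ S, x * y ∈ S := by
    intro x hx y hy
    induction hx using Submodule.span_induction with
    | mem x hx =>
      induction hy using Submodule.span_induction with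
      | mem y hy =>
        obtain ⟨a, ha, rfl⟩ := hx
        obtain ⟨b, hb, rfl⟩ := hy
        refine Submodule.subset_span ⟨a * b, ⟨mul_mem ha.1 hb.1, ?_⟩, rfl⟩
        exact Nat.Coprime.coprime_dvd_left ((hcomm a ha.1 b hb.1).orderOf_mul_dvd_mul_orderOf) (ha.2.mul_left hb.2)
      | zero => rw [mul_zero]; exact zero_mem _
      | add a b _ _ ha hb => rw [mul_add]; exact add_mem ha hb
      | smul c a _ ha => rw [mul_smul_comm]; exact Submodule.smul_mem _ _ ha
    | zero => rw [zero_mul]; exact zero_mem _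
    | add a b _ _ ha hb => rw [add_mul]; exact add_mem ha hb
    | smul c a _ ha => rw [smul_mul_assoc]; exact Submodule.smul_mem _ _ ha
  have hA'inv : ∀ v : T → GL (Fin k) F, (∀ r, v r ∈ Om (Fin k) F) → ∀ a ∈ A',
      inl _ k F (tk v) * a * (inl _ k F (tk v))⁻¹ ∈ A' := fun v hv a ha => by
    refine ⟨hnorm v hv a ha.1, ?_⟩
    have := orderOf_injective (MulAut.conj (inl (T → Fin k) k F (tk v))).toMonoidHom (MulAut.conj _).injective a
    rw [MulEquiv.coe_toMonoidHom, MulAut.conj_apply] at this
    rw [this]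
    exact ha.2
  -- the elements commuting with all of A'
  let C : Subgroup (GL ((T → Fin k) × Fin k) F) := Subgroup.centralizer A'
  obtain ⟨h, hhO, hhsc, q, hq, hhq, d, hd, c, hcd, hrel⟩ := exists_short hh
  have hmulS : ∀ r : T, ∀ w ∈ Om (Fin k) F, inl _ k F (rt r w) ∈ C := by
    intro r
    have hrv : ∀ w ∈ Om (Fin k) F, ∀ s, (Pi.mulSingle r w : T → GL (Fin k) F) s ∈ Om (Fin k) F := fun w hw s => by
      rcases eq_or_ne s r with rfl | hs
      · rwa [Pi.mulSingle_eq_same]
      · rw [Pi.mulSingle_eq_of_ne hs]; exact one_mem _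
    let L : Matrix (Fin k) (Fin k) F → Matrix ((T → Fin k) × Fin k) ((T → Fin k) × Fin k) F := fun X => sl r X ⊗ₖ 1
    have Lmul : ∀ X Y, L (X * Y) = L X * L Y := fun X Y => by
      simp only [L, map_mul, ← Matrix.mul_kronecker_mul, mul_one]
    have Ladd : ∀ X Y, L (X + Y) = L X + L Y := fun X Y => by
      simp only [L, TW.sl_add, Matrix.add_kronecker]
    have Lsmul : ∀ (c : F) X, L (c • X) = c • L X := fun c X => by
      show sl r (c • X) ⊗ₖ 1 = c • (sl r X ⊗ₖ 1)
      rw [← Matrix.smul_kronecker]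
      congr 1
      exact TW.pm_update_smul 1 r c X
    have L0 : L 0 = 0 := by simp only [L, TW.sl_zero, Matrix.zero_kronecker]
    have L1 : L 1 = 1 := by simp only [L, map_one, Matrix.one_kronecker_one]
    have Lrt : ∀ w : GL (Fin k) F, (inl _ k F (rt r w) : Matrix ((T → Fin k) × Fin k) ((T → Fin k) × Fin k) F) =
        L (w : Matrix (Fin k) (Fin k) F) := fun w => by
      rw [inl_val]
      show (tk (Pi.mulSingle r w) : Matrix (T → Fin k) (T → Fin k) F) ⊗ₖ 1 = _
      rw [TW.tk_val]
      congr 1
      refine congrArg pm (funext fun s => ?_)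
      rcases eq_or_ne s r with rfl | hs
      · simp
      · simp [hs]
    let K : Subgroup (GL (Fin k) F) := C.comap ((inl (T → Fin k) k F).comp (rt r))
    have hKnorm : ∀ a ∈ Om (Fin k) F, ∀ x ∈ K, x ∈ Om (Fin k) F → a * x * a⁻¹ ∈ K := by
      intro a ha x hx _
      rw [Subgroup.mem_comap, Subgroup.mem_centralizer_iff]
      intro b hb
      set a' : GL ((T → Fin k) × Fin k) F := inl _ k F (rt r a)
      have hb' : a'⁻¹ * b * a' ∈ A' := by
        have := hA'inv (Pi.mulSingle r a⁻¹) (hrv _ (inv_mem ha)) b hb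
        rwa [← TW.rt_eq, map_inv, map_inv, inv_inv] at this
      have hxc := Subgroup.mem_centralizer_iff.1 (Subgroup.mem_comap.1 hx) _ hb'
      simp only [MonoidHom.comp_apply, map_mul, map_inv] at hxc ⊢
      set x' := inl (T → Fin k) k F (rt r x)
      show b * (a' * x' * a'⁻¹) = a' * x' * a'⁻¹ * b
      calc b * (a' * x' * a'⁻¹) = a' * ((a'⁻¹ * b * a') * x') * a'⁻¹ := by group
        _ = a' * (x' * (a'⁻¹ * b * a')) * a'⁻¹ := by rw [hxc]
        _ = _ := by group
    have hhK : h ∈ K := by
      rw [Subgroup.mem_comap, Subgroup.mem_centralizer_iff]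
      intro b hb
      have hbS : (b : Matrix ((T → Fin k) × Fin k) ((T → Fin k) × Fin k) F) ∈ S :=
        Submodule.subset_span ⟨b, hb, rfl⟩
      have hS : ∀ x ∈ S, (inl _ k F (rt r h) : Matrix ((T → Fin k) × Fin k) ((T → Fin k) × Fin k) F) * x *
          (((inl _ k F (rt r h))⁻¹ : GL ((T → Fin k) × Fin k) F) : Matrix ((T → Fin k) × Fin k) ((T → Fin k) × Fin k) F) ∈ S := by
        intro x hx
        induction hx using Submodule.span_induction with
        | mem x hx =>
          obtain ⟨a, ha, rfl⟩ := hx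
          refine Submodule.subset_span ⟨inl _ k F (rt r h) * a * (inl _ k F (rt r h))⁻¹, ?_, rfl⟩
          rw [TW.rt_eq]
          exact hA'inv _ (hrv _ hhO) a ha
        | zero => rw [mul_zero, zero_mul]; exact zero_mem _
        | add a b _ _ ha hb => rw [mul_add, add_mul]; exact add_mem ha hb
        | smul c a _ ha => rw [mul_smul_comm, smul_mul_assoc]; exact Submodule.smul_mem _ _ ha
      have hrelL : ∑ i ∈ Finset.range (d + 1), c i •
          (inl _ k F (rt r h) : Matrix ((T → Fin k) × Fin k) ((T → Fin k) × Fin k) F) ^ i = 0 := by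
        have hpw : ∀ i : ℕ, (inl _ k F (rt r h) : Matrix ((T → Fin k) × Fin k) ((T → Fin k) × Fin k) F) ^ i =
            L ((h : Matrix (Fin k) (Fin k) F) ^ i) := fun i => by
          rw [← Units.val_pow_eq_pow_val, ← map_pow, ← map_pow, Lrt, Units.val_pow_eq_pow_val]
        have hsum : ∀ s : Finset ℕ, L (∑ i ∈ s, c i • (h : Matrix (Fin k) (Fin k) F) ^ i) =
            ∑ i ∈ s, c i • L ((h : Matrix (Fin k) (Fin k) F) ^ i) := fun s => by
          induction s using Finset.induction with
          | empty => simp [L0]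
          | insert i s hi ih => rw [Finset.sum_insert hi, Finset.sum_insert hi, Ladd, Lsmul, ih]
        simp only [hpw]
        rw [← hsum, hrel, L0]
      refine Units.ext ?_
      rw [MonoidHom.comp_apply, Units.val_mul, Units.val_mul]
      exact (commute_of_rel hScomm hmul hred (inl _ k F (rt r h)) hS hq (by rw [← map_pow, ← map_pow, hhq, map_one, map_one])
        hd c hcd hrelL hbS).eq.symm
    intro w hw
    exact hh.big.norm K hKnorm h hhK hhO hhsc hw
  have hall : inl _ k F (tk u) ∈ C :=
    Subgroup.mem_comap.1 (Subgroup.pi_mem_of_mulSingle_mem (H := C.comap ((inl (T → Fin k) k F).comp tk)) u fun r => by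
      rw [Subgroup.mem_comap, MonoidHom.comp_apply, ← TW.rt_eq]
      exact hmulS r _ (hu r))
  exact Subgroup.mem_centralizer_iff.1 hall g ⟨hg, hgp⟩

end Cfsg.Agent.MaxCl.TEv
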