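/-
The pure isometries available on a summand: they span all its endomorphisms, apart from planes over the field of
three elements.
-/
import Cfsg.Agent.Lib.MaxCl.TEvCtx

set_option autoImplicit false
set_option linter.unusedSectionVars false

namespace Cfsg.Agent.MaxCl.TEv

open Matrix
open TOrth (rk rk_zero rk_one inl inr rgt)
open TW (tk pm pg rt rid spl sl Wr)
open scoped MatrixGroups Kronecker

variable {F : Type*} [Field F] {k : ℕ} [Wt (Fin k) F] {T : Type} [Fintype T] [DecidableEq T]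
  {M : Subgroup (GL ((T → Fin k) × Fin k) F)}

/-- three orthogonal summands -/
structure Dec (π₁ π₂ π₃ : Matrix (Fin k) (Fin k) F) : Prop where
  p₁ : Pr π₁
  p₂ : Pr π₂
  p₃ : Pr π₃
  h12 : π₁ * π₂ = 0
  h13 : π₁ * π₃ = 0
  h23 : π₂ * π₃ = 0
  sum : π₁ + π₂ + π₃ = 1

theorem Dec.swap {π₁ π₂ π₃ : Matrix (Fin k) (Fin k) F} (h : Dec π₁ π₂ π₃) : Dec π₂ π₁ π₃ :=
  ⟨h.p₂, h.p₁, h.p₃, h.p₁.swap h.p₂ h.h12, h.h23, h.h13, by rw [add_comm π₂, h.sum]⟩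

theorem Dec.one_sub {π₁ π₂ π₃ : Matrix (Fin k) (Fin k) F} (h : Dec π₁ π₂ π₃) : 1 - π₁ = π₂ + π₃ := by
  rw [← h.sum]; abel

theorem Dec.third {π₁ π₂ π₃ : Matrix (Fin k) (Fin k) F} (h : Dec π₁ π₂ π₃) : π₃ = 1 - π₁ - π₂ := by
  rw [← h.sum]; abel

theorem dec_of {π σ : Matrix (Fin k) (Fin k) F} (hπ : Pr π) (hσ : Pr σ) (h : σ * π = π) :
    Dec π (σ - π) (1 - σ) := by
  have h' : π * σ = π := by
    have := congrArg ad h
    rwa [ad_mul, hπ.symm, hσ.symm] at this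
  refine ⟨hπ, hσ.sub hπ h, hσ.one_sub, ?_, ?_, ?_, by abel⟩
  · rw [mul_sub, h', hπ.idem, sub_self]
  · rw [mul_sub, mul_one, h', sub_self]
  · rw [sub_mul, mul_sub σ, mul_one, hσ.idem, sub_self, mul_sub, mul_one, h', sub_self, sub_self]

/-- the pure elements usable on `π₁` -/
def Um (M : Subgroup (GL ((T → Fin k) × Fin k) F)) (π₁ π₂ : Matrix (Fin k) (Fin k) F) (u : GL (Fin k) F) : Prop :=
  u ∈ Orth (Fin k) F ∧ inr _ k F u ∈ M ∧ Commute (u : Matrix (Fin k) (Fin k) F) π₁ ∧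
    Commute (u : Matrix (Fin k) (Fin k) F) π₂ ∧
      ((u : Matrix (Fin k) (Fin k) F) * π₂ = π₂ ∨ (u : Matrix (Fin k) (Fin k) F) * π₂ = -π₂)

theorem um_mul {π₁ π₂ : Matrix (Fin k) (Fin k) F} {u v : GL (Fin k) F} (hu : Um M π₁ π₂ u) (hv : Um M π₁ π₂ v) :
    Um M π₁ π₂ (u * v) := by
  obtain ⟨a, b, c, d, e⟩ := hu
  obtain ⟨a', b', c', d', e'⟩ := hv
  refine ⟨mul_mem a a', by rw [map_mul]; exact mul_mem b b', by rw [Units.val_mul]; exact c.mul_left c',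
    by rw [Units.val_mul]; exact d.mul_left d', ?_⟩
  rw [Units.val_mul, mul_assoc]
  rcases e' with e' | e' <;> rw [e'] <;> rcases e with e | e <;> simp [e]

theorem um_one (π₁ π₂ : Matrix (Fin k) (Fin k) F) : Um M π₁ π₂ 1 :=
  ⟨one_mem _, by rw [map_one]; exact one_mem _, by rw [Units.val_one]; exact Commute.one_left _,
    by rw [Units.val_one]; exact Commute.one_left _, Or.inl (by rw [Units.val_one, one_mul])⟩

theorem um_inv {π₁ π₂ : Matrix (Fin k) (Fin k) F} {u : GL (Fin k) F} (hu : Um M π₁ π₂ u) : Um M π₁ π₂ u⁻¹ := by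
  obtain ⟨a, b, c, d, e⟩ := hu
  refine ⟨inv_mem a, by rw [map_inv]; exact inv_mem b, c.units_inv_left, d.units_inv_left, ?_⟩
  have h : ((u⁻¹ : GL (Fin k) F) : Matrix (Fin k) (Fin k) F) * ((u : Matrix (Fin k) (Fin k) F) * π₂) = π₂ := by
    rw [← mul_assoc, ← Units.val_mul, inv_mul_cancel, Units.val_one, one_mul]
  rcases e with e | e
  · exact Or.inl (by rwa [e] at h)
  · exact Or.inr (by rw [e, mul_neg, neg_eq_iff_eq_neg] at h; exact h)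

/-- the algebra they span on `π₁` -/
def Alg (M : Subgroup (GL ((T → Fin k) × Fin k) F)) (π₁ π₂ : Matrix (Fin k) (Fin k) F) :
    Submodule F (Matrix (Fin k) (Fin k) F) :=
  Submodule.span F {X | ∃ u, Um M π₁ π₂ u ∧ X = (u : Matrix (Fin k) (Fin k) F) * π₁}

/-- everything is spanned -/
def Full (M : Subgroup (GL ((T → Fin k) × Fin k) F)) (π₁ π₂ : Matrix (Fin k) (Fin k) F) : Prop :=
  ∀ Y, π₁ * Y * π₁ ∈ Alg M π₁ π₂

theorem alg_mul {π₁ π₂ : Matrix (Fin k) (Fin k) F} (h : Pr π₁) {X Y : Matrix (Fin k) (Fin k) F}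
    (hX : X ∈ Alg M π₁ π₂) (hY : Y ∈ Alg M π₁ π₂) : X * Y ∈ Alg M π₁ π₂ := by
  induction hX using Submodule.span_induction with
  | mem X hX =>
    induction hY using Submodule.span_induction with
    | mem Y hY =>
      obtain ⟨u, hu, rfl⟩ := hX
      obtain ⟨v, hv, rfl⟩ := hY
      refine Submodule.subset_span ⟨u * v, um_mul hu hv, ?_⟩
      rw [Units.val_mul, mul_assoc, ← mul_assoc π₁, ← hv.2.2.1.eq, mul_assoc (v : Matrix (Fin k) (Fin k) F), h.idem,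
        mul_assoc]
    | zero => rw [mul_zero]; exact zero_mem _
    | add a b _ _ ha hb => rw [mul_add]; exact add_mem ha hb
    | smul c a _ ha => rw [mul_smul_comm]; exact Submodule.smul_mem _ _ ha
  | zero => rw [zero_mul]; exact zero_mem _
  | add a b _ _ ha hb => rw [add_mul]; exact add_mem ha hb
  | smul c a _ ha => rw [smul_mul_assoc]; exact Submodule.smul_mem _ _ ha

theorem alg_ad (h2 : (2 : F) ≠ 0) {π₁ π₂ : Matrix (Fin k) (Fin k) F} (h : Pr π₁)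
    {X : Matrix (Fin k) (Fin k) F} (hX : X ∈ Alg M π₁ π₂) : X† ∈ Alg M π₁ π₂ := by
  induction hX using Submodule.span_induction with
  | mem X hX =>
    obtain ⟨u, hu, rfl⟩ := hX
    refine Submodule.subset_span ⟨u⁻¹, um_inv hu, ?_⟩
    rw [ad_mul, h.symm, ← inv_val h2 hu.1]
    exact (hu.2.2.1.units_inv_left).eq.symm
  | zero => rw [ad_zero]; exact zero_mem _
  | add a b _ _ ha hb => rw [ad_add]; exact add_mem ha hb
  | smul c a _ ha => rw [ad_smul]; exact Submodule.smul_mem _ _ ha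

theorem self_mem_alg {π₁ π₂ : Matrix (Fin k) (Fin k) F} : π₁ ∈ Alg M π₁ π₂ :=
  Submodule.subset_span ⟨1, um_one _ _, by rw [Units.val_one, one_mul]⟩

theorem mul_pj_zero' {π₁ π₂ : Matrix (Fin k) (Fin k) F} (h2' : Pr π₂) (h : π₂ * π₁ = 0) {a : Fin k → F}
    (ha : a ⬝ʷ a ≠ 0) (hπ : π₁ *ᵥ a = a) : pj a * π₂ = 0 :=
  h2'.swap (pr_pj ha) (mul_pj_zero (by rw [← hπ, Matrix.mulVec_mulVec, h, Matrix.zero_mulVec]))

variable [Finite F] (hM : Ctx T k F M) {π₁ π₂ π₃ : Matrix (Fin k) (Fin k) F} (hd : Dec π₁ π₂ π₃)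
include hM hd

/-- a product of two reflections in `π₁ + π₃` -/
theorem um_rf_rf {x y : Fin k → F} (hx : x ⬝ʷ x ≠ 0) (hy : y ⬝ʷ y ≠ 0)
    (hπx : π₁ *ᵥ x = x) (hπy : π₁ *ᵥ y = y ∨ π₃ *ᵥ y = y) : Um M π₁ π₂ (rf x * rf y) := by
  have aux : ∀ {z : Fin k → F} (_ : z ⬝ʷ z ≠ 0), π₁ *ᵥ z = z ∨ π₃ *ᵥ z = z →
      Commute (rf z : Matrix (Fin k) (Fin k) F) π₁ ∧ (rf z : Matrix (Fin k) (Fin k) F) * π₂ = π₂ ∧
        Commute (rf z : Matrix (Fin k) (Fin k) F) π₂ := by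
    intro z hz hπ
    have e1 : pj z * π₂ = 0 := by
      rcases hπ with h | h
      · exact mul_pj_zero' hd.p₂ hd.swap.h12 hz h
      · exact mul_pj_zero' hd.p₂ hd.h23 hz h
    have e2 : π₂ * pj z = 0 := (pr_pj hz).swap hd.p₂ e1
    have e3 : pj z * π₁ = π₁ * pj z := by
      rcases hπ with h | h
      · have := congrArg ad (mul_pj h)
        rw [ad_mul, hd.p₁.symm, (pr_pj hz).symm] at this
        rw [this, mul_pj h]
      · have e := mul_pj_zero' hd.p₁ hd.h13 hz h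
        rw [e, (pr_pj hz).swap hd.p₁ e]
    refine ⟨?_, ?_, ?_⟩
    · rw [rf_val hz]
      exact (Commute.one_left _).sub_left (Commute.smul_left e3 _)
    · rw [rf_val hz, sub_mul, one_mul, smul_mul_assoc, e1, smul_zero, sub_zero]
    · rw [rf_val hz]
      exact (Commute.one_left _).sub_left (Commute.smul_left (e1.trans e2.symm) _)
  obtain ⟨a1, a2, a3⟩ := aux hx (Or.inl hπx)
  obtain ⟨b1, b2, b3⟩ := aux hy hπy
  exact ⟨mul_mem (rf_mem x) (rf_mem y), hM.inr_rf_rf hx hy, by rw [Units.val_mul]; exact a1.mul_left b1,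
    by rw [Units.val_mul]; exact a3.mul_left b3, Or.inl (by rw [Units.val_mul, mul_assoc, b2, a2])⟩

omit [Finite F] in
/-- lines are spanned -/
theorem full_line (h1 : rk π₁ = 1) : Full M π₁ π₂ := by
  obtain ⟨a, ha, -, hπ⟩ := eq_pj_of_rk hM.hyp.h2 hd.p₁ h1
  intro Y
  have : π₁ * Y * π₁ = ((a ⬝ʷ a)⁻¹ * (a ⬝ʷ Y *ᵥ a)) • π₁ := by
    rw [hπ, pj, smul_mul_assoc, smul_mul_assoc, mul_smul_comm, ov_mul, ov_mul_ov,
      bf_mulVec, ad_ad, ov_smul, smul_smul, smul_smul, smul_smul]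
    congr 1
    ring
  rw [this]
  exact Submodule.smul_mem _ _ self_mem_alg

omit [Finite F] hM in
/-- the projection of a vector of `π₁` from the left -/
theorem pj_mul_p₁ {x : Fin k → F} (hx : x ⬝ʷ x ≠ 0) (hπ : π₁ *ᵥ x = x) : pj x * π₁ = pj x := by
  have := congrArg ad (mul_pj hπ)
  rwa [ad_mul, hd.p₁.symm, (pr_pj hx).symm] at this

/-- with a third summand the projections on lines are spanned -/
theorem pj_mem_alg_of_third (h3 : π₃ ≠ 0) {x : Fin k → F} (hx : x ⬝ʷ x ≠ 0) (hπ : π₁ *ᵥ x = x) :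
    pj x ∈ Alg M π₁ π₂ := by
  obtain ⟨z, hzπ, hz⟩ := exists_aniso hM.hyp.h2 hd.p₃ h3
  have e : ((rf x * rf z : GL (Fin k) F) : Matrix (Fin k) (Fin k) F) * π₁ = π₁ - (2 : F) • pj x := by
    rw [Units.val_mul, rf_val hx, rf_val hz, mul_assoc, sub_mul 1 _ π₁, smul_mul_assoc,
      mul_pj_zero' hd.p₁ hd.h13 hz hzπ, smul_zero, sub_zero, one_mul, sub_mul, one_mul, smul_mul_assoc,
      pj_mul_p₁ hd hx hπ]
  have h1 : π₁ - (2 : F) • pj x ∈ Alg M π₁ π₂ :=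
    Submodule.subset_span ⟨rf x * rf z, um_rf_rf hM hd hx hz hπ (Or.inr hzπ), e.symm⟩
  have := Submodule.smul_mem (Alg M π₁ π₂) (2 : F)⁻¹ (sub_mem self_mem_alg h1)
  rwa [sub_sub_cancel, inv_smul_smul₀ hM.hyp.h2] at this

/-- a pair of orthogonal lines -/
theorem pj_add_pj_mem {x y : Fin k → F} (hx : x ⬝ʷ x ≠ 0) (hy : y ⬝ʷ y ≠ 0) (hxy : x ⬝ʷ y = 0)
    (hπx : π₁ *ᵥ x = x) (hπy : π₁ *ᵥ y = y) : pj x + pj y ∈ Alg M π₁ π₂ := by
  have e : ((rf x * rf y : GL (Fin k) F) : Matrix (Fin k) (Fin k) F) * π₁ = π₁ - (2 : F) • (pj x + pj y) := by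
    rw [Units.val_mul, rf_val hx, rf_val hy]
    simp only [sub_mul, mul_sub, one_mul, mul_one, smul_mul_assoc, mul_smul_comm, pj_mul_p₁ hd hx hπx,
      pj_mul_p₁ hd hy hπy, pj_mul_pj hxy, smul_zero, zero_mul]
    module
  have h1 : π₁ - (2 : F) • (pj x + pj y) ∈ Alg M π₁ π₂ :=
    Submodule.subset_span ⟨rf x * rf y, um_rf_rf hM hd hx hy hπx (Or.inl hπy), e.symm⟩
  have := Submodule.smul_mem (Alg M π₁ π₂) (2 : F)⁻¹ (sub_mem self_mem_alg h1)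
  rwa [sub_sub_cancel, inv_smul_smul₀ hM.hyp.h2] at this

/-- in rank at least three the projections on lines are spanned -/
theorem pj_mem_alg_of_three (h3 : 3 ≤ rk π₁) {x : Fin k → F} (hx : x ⬝ʷ x ≠ 0) (hπ : π₁ *ᵥ x = x) :
    pj x ∈ Alg M π₁ π₂ := by
  obtain ⟨y, w, hy, hw, hπy, hπw, hxy, hxw, hyw⟩ := exists_two_perp hM.hyp.h2 hd.p₁ h3 hx hπ
  have h := sub_mem (add_mem (pj_add_pj_mem hM hd hx hy hxy hπ hπy) (pj_add_pj_mem hM hd hx hw hxw hπ hπw))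
    (pj_add_pj_mem hM hd hy hw hyw hπy hπw)
  have := Submodule.smul_mem (Alg M π₁ π₂) (2 : F)⁻¹ h
  rwa [show pj x + pj y + (pj x + pj w) - (pj y + pj w) = (2 : F) • pj x by module,
    inv_smul_smul₀ hM.hyp.h2] at this

/-- everything is spanned once the lines are, provided orthogonal lines are linked -/
theorem full_of_pj (hpj : ∀ x, x ⬝ʷ x ≠ 0 → π₁ *ᵥ x = x → pj x ∈ Alg M π₁ π₂)
    (hlink : ∀ x y, x ⬝ʷ x ≠ 0 → y ⬝ʷ y ≠ 0 → π₁ *ᵥ x = x → π₁ *ᵥ y = y → x ⬝ʷ y = 0 →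
      ∃ z, π₁ *ᵥ z = z ∧ z ⬝ʷ z ≠ 0 ∧ x ⬝ʷ z ≠ 0 ∧ z ⬝ʷ y ≠ 0) : Full M π₁ π₂ := by
  have h2 := hM.hyp.h2
  have hne : ∀ x y, x ⬝ʷ x ≠ 0 → y ⬝ʷ y ≠ 0 → π₁ *ᵥ x = x → π₁ *ᵥ y = y → x ⬝ʷ y ≠ 0 →
      ov x y ∈ Alg M π₁ π₂ := fun x y hx hy hπx hπy hxy => by
    have h := Submodule.smul_mem (Alg M π₁ π₂) ((x ⬝ʷ x) * (y ⬝ʷ y) * (x ⬝ʷ y)⁻¹)
      (alg_mul hd.p₁ (hpj x hx hπx) (hpj y hy hπy))
    rwa [pj, pj, smul_mul_smul_comm, ov_mul_ov, ov_smul, smul_smul, smul_smul,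
      show (x ⬝ʷ x) * (y ⬝ʷ y) * (x ⬝ʷ y)⁻¹ * ((x ⬝ʷ x)⁻¹ * (y ⬝ʷ y)⁻¹) * (x ⬝ʷ y) = 1 by field_simp,
      one_smul] at h
  have hani : ∀ x y, x ⬝ʷ x ≠ 0 → y ⬝ʷ y ≠ 0 → π₁ *ᵥ x = x → π₁ *ᵥ y = y → ov x y ∈ Alg M π₁ π₂ := by
    intro x y hx hy hπx hπy
    by_cases hxy : x ⬝ʷ y = 0
    · obtain ⟨z, hπz, hz, hxz, hzy⟩ := hlink x y hx hy hπx hπy hxy
      have h := Submodule.smul_mem (Alg M π₁ π₂) (z ⬝ʷ z)⁻¹
        (alg_mul hd.p₁ (hne x z hx hz hπx hπz hxz) (hne z y hz hy hπz hπy hzy))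
      rwa [ov_mul_ov, ov_smul, inv_smul_smul₀ hz] at h
    · exact hne x y hx hy hπx hπy hxy
  rcases eq_or_ne π₁ 0 with h0 | h0
  · intro Y
    rw [h0, zero_mul, zero_mul]
    exact zero_mem _
  obtain ⟨a, hπa, ha⟩ := exists_aniso h2 hd.p₁ h0
  have hdec : ∀ x, π₁ *ᵥ x = x → ∃ u v, u ⬝ʷ u ≠ 0 ∧ π₁ *ᵥ u = u ∧ v ⬝ʷ v ≠ 0 ∧ π₁ *ᵥ v = v ∧
      ∃ c d : F, x = c • u + d • v := fun x hx => by
    by_cases hxx : x ⬝ʷ x = 0
    · obtain ⟨s, hs, hne'⟩ : ∃ s : F, s * s = 1 ∧ (x + s • a) ⬝ʷ (x + s • a) ≠ 0 := by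
        by_contra hc
        push Not at hc
        have e1 := hc 1 (one_mul 1)
        have e2 := hc (-1) (by ring)
        simp only [add_bf, bf_add, smul_bf, bf_smul, smul_eq_mul, hxx, bf_comm a x] at e1 e2
        exact mul_ne_zero h2 ha (by linear_combination e1 + e2)
      exact ⟨x + s • a, a, hne', by rw [Matrix.mulVec_add, Matrix.mulVec_smul, hx, hπa], ha, hπa, 1, -s,
        by rw [one_smul, neg_smul, add_neg_cancel_right]⟩
    · exact ⟨x, a, hxx, hx, ha, hπa, 1, 0, by rw [one_smul, zero_smul, add_zero]⟩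
  have key : ∀ x y, ov (π₁ *ᵥ x) (π₁ *ᵥ y) ∈ Alg M π₁ π₂ := fun x y => by
    obtain ⟨u, v, hu, hπu, hv, hπv, c, d, e⟩ := hdec _ (hd.p₁.mulVec_self x)
    obtain ⟨u', v', hu', hπu', hv', hπv', c', d', e'⟩ := hdec _ (hd.p₁.mulVec_self y)
    rw [e, e', add_ov, smul_ov, smul_ov, ov_add, ov_add, ov_smul, ov_smul, ov_smul, ov_smul]
    exact add_mem
      (Submodule.smul_mem _ _ (add_mem (Submodule.smul_mem _ _ (hani u u' hu hu' hπu hπu'))
        (Submodule.smul_mem _ _ (hani u v' hu hv' hπu hπv'))))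
      (Submodule.smul_mem _ _ (add_mem (Submodule.smul_mem _ _ (hani v u' hv hu' hπv hπu'))
        (Submodule.smul_mem _ _ (hani v v' hv hv' hπv hπv'))))
  intro Y
  rw [Matrix.matrix_eq_sum_single Y, Finset.mul_sum, Finset.sum_mul]
  refine sum_mem fun i _ => ?_
  rw [Finset.mul_sum, Finset.sum_mul]
  refine sum_mem fun j _ => ?_
  have : π₁ * Matrix.single i j (Y i j) * π₁ =
      (Y i j * (Wt.w j)⁻¹) • ov (π₁ *ᵥ Pi.single i 1) (π₁ *ᵥ Pi.single j 1) := by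
    rw [show Matrix.single i j (Y i j) = (Y i j * (Wt.w j)⁻¹) • ov (Pi.single i (1 : F)) (Pi.single j 1) by
        ext a b
        simp only [Matrix.single_apply, Matrix.smul_apply, ov_apply, Pi.single_apply, smul_eq_mul]
        rcases eq_or_ne i a with rfl | ha
        · rcases eq_or_ne j b with rfl | hb
          · simp [Wt.ne]
          · simp [hb, hb.symm]
        · simp [ha, ha.symm],
      mul_smul_comm, smul_mul_assoc, mul_ov, ov_mul, hd.p₁.symm]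
  rw [this]
  exact Submodule.smul_mem _ _ (key _ _)

/-- summands of rank at least three are spanned -/
theorem full_three (h3 : 3 ≤ rk π₁) : Full M π₁ π₂ := by
  refine full_of_pj hM hd (fun x hx hπ => pj_mem_alg_of_three hM hd h3 hx hπ) fun x y hx hy hπx hπy hxy => ?_
  have hyx : y ⬝ʷ x = 0 := by rwa [bf_comm]
  by_cases hs : x ⬝ʷ x + y ⬝ʷ y = 0
  · obtain ⟨w, hw, hπw, hwx, hwy⟩ := exists_perp_pair hM.hyp.h2 hd.p₁ h3 hx hy hπx hπy hxy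
    have hxw : x ⬝ʷ w = 0 := by rwa [bf_comm]
    have hyw : y ⬝ʷ w = 0 := by rwa [bf_comm]
    refine ⟨x + y + w, by rw [Matrix.mulVec_add, Matrix.mulVec_add, hπx, hπy, hπw], ?_, ?_, ?_⟩
    · simp only [add_bf, bf_add, hxy, hyx, hxw, hyw, hwx, hwy, add_zero, zero_add, hs]; exact hw
    · simp only [bf_add, hxy, hxw, add_zero]; exact hx
    · simp only [add_bf, hxy, hwy, add_zero, zero_add]; exact hy
  · refine ⟨x + y, by rw [Matrix.mulVec_add, hπx, hπy], ?_, ?_, ?_⟩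
    · simp only [add_bf, bf_add, hxy, hyx, add_zero, zero_add]; exact hs
    · simp only [bf_add, hxy, add_zero]; exact hx
    · simp only [add_bf, hxy, zero_add]; exact hy

/-- a plane with a third summand is spanned over fields of more than three elements -/
theorem full_plane (h3 : π₃ ≠ 0)
    (hlink : ∀ x y, x ⬝ʷ x ≠ 0 → y ⬝ʷ y ≠ 0 → π₁ *ᵥ x = x → π₁ *ᵥ y = y → x ⬝ʷ y = 0 →
      ∃ s : F, s ≠ 0 ∧ x ⬝ʷ x + s * s * (y ⬝ʷ y) ≠ 0) : Full M π₁ π₂ := by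
  refine full_of_pj hM hd (fun x hx hπ => pj_mem_alg_of_third hM hd h3 hx hπ) fun x y hx hy hπx hπy hxy => ?_
  obtain ⟨s, hs, hne⟩ := hlink x y hx hy hπx hπy hxy
  have hyx : y ⬝ʷ x = 0 := by rwa [bf_comm]
  refine ⟨x + s • y, by rw [Matrix.mulVec_add, Matrix.mulVec_smul, hπx, hπy], ?_, ?_, ?_⟩
  · simp only [add_bf, bf_add, smul_bf, bf_smul, smul_eq_mul, hxy, hyx, mul_zero, add_zero, zero_add]
    rwa [← mul_assoc]
  · simp only [bf_add, bf_smul, hxy, smul_zero, add_zero]; exact hx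
  · simp only [add_bf, smul_bf, hxy, zero_add, smul_eq_mul]; exact mul_ne_zero hs hy

end Cfsg.Agent.MaxCl.TEv
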