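/-
Elements that are pure on each of three summands: their parts are scalar.
-/
import Cfsg.Agent.Lib.MaxCl.TEvFull
import Cfsg.Agent.Lib.MaxCl.TEvSmall

set_option autoImplicit false
set_option linter.unusedSectionVars false

namespace Cfsg.Agent.MaxCl.TEv

open Matrix
open TOrth (rk rk_zero rk_one inl inr inl_val inr_val kr_val rgt rgt_mul rgt_add rgt_smul rgt_one rgt_zero rgt_sub
  rgt_inj inr_eq_rgt el InR Triv commute_one_sub kron_inj kron_eq inl_commute_rgt rid_rt_ne)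
open TW (tk pm pg rt rid spl sl Wr)
open scoped MatrixGroups Kronecker

variable {F : Type*} [Field F] {k : ℕ} [Wt (Fin k) F]

/-- the part of an element on a summand -/
structure Part {β : Type} [Fintype β] [DecidableEq β] [Wt β F] (g : Matrix (β × Fin k) (β × Fin k) F)
    (π : Matrix (Fin k) (Fin k) F) (A : GL β F) (C : Matrix (Fin k) (Fin k) F) : Prop where
  sim : ∃ c : F, c ≠ 0 ∧ (A : Matrix β β F)† * (A : Matrix β β F) = c • 1 ∧ C * C† = c⁻¹ • π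
  eq : g * rgt β π = (A : Matrix β β F) ⊗ₖ C
  right : C * π = C

theorem Part.isSim {β : Type} [Fintype β] [DecidableEq β] [Wt β F] {g : Matrix (β × Fin k) (β × Fin k) F}
    {π : Matrix (Fin k) (Fin k) F} {A : GL β F} {C : Matrix (Fin k) (Fin k) F} (h : Part g π A C) : Sim A :=
  let ⟨c, hc, e, _⟩ := h.sim
  ⟨c, hc, e⟩

theorem part_of_orth_part {β : Type} [Fintype β] [DecidableEq β] [Wt β F] (h2 : (2 : F) ≠ 0) [Nonempty β]
    {g : GL (β × Fin k) F} (hg : g ∈ Orth (β × Fin k) F) {π : Matrix (Fin k) (Fin k) F} (hπ : Pr π)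
    (hc : Commute (g : Matrix (β × Fin k) (β × Fin k) F) (rgt β π))
    (h : ∀ Y, ∃ Z, (g : Matrix (β × Fin k) (β × Fin k) F) * rgt β (π * Y * π) =
      rgt β Z * (g : Matrix (β × Fin k) (β × Fin k) F)) :
    ∃ A C, Part (g : Matrix (β × Fin k) (β × Fin k) F) π A C := by
  obtain ⟨A, C, c, hc0, hA, e, -, hCC, -, hr⟩ := orth_part h2 hg hπ hc h
  exact ⟨A, C, ⟨c, hc0, hA, hCC⟩, e, hr⟩

variable {T : Type} [Fintype T] [DecidableEq T] {M : Subgroup (GL ((T → Fin k) × Fin k) F)}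

/-- an element with scalar commutators against a slot commutes with it -/
theorem commute_rt_of_scalar (hh : Hyp k F) [Finite F] [Nonempty (T → Fin k)] {g : GL (T → Fin k) F} (s : T)
    (h : ∀ a ∈ Om (Fin k) F, ∃ c : F,
      ((g * rt s a * g⁻¹ * (rt s a)⁻¹ : GL (T → Fin k) F) : Matrix (T → Fin k) (T → Fin k) F) = c • 1)
    {w : GL (Fin k) F} (hw : w ∈ Om (Fin k) F) : Commute g (rt s w) := by
  have := comm_of_scalar_comm hh.big ((rt s).comp (Om (Fin k) F).subtype) (g := g)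
    (fun a => by rw [MonoidHom.comp_apply, Subgroup.subtype_apply]; exact h a.1 a.2) ⟨w, hw⟩
  rwa [MonoidHom.comp_apply, Subgroup.subtype_apply] at this

/-- the part of a commutator with a left element -/
theorem part_commutator (h2 : (2 : F) ≠ 0) {g : GL ((T → Fin k) × Fin k) F}
    (hg : g ∈ Orth ((T → Fin k) × Fin k) F) {σ C : Matrix (Fin k) (Fin k) F} (hσ : Pr σ)
    (hc : Commute (g : Matrix ((T → Fin k) × Fin k) ((T → Fin k) × Fin k) F) (rgt _ σ)) {A : GL (T → Fin k) F}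
    (hP : Part (g : Matrix ((T → Fin k) × Fin k) ((T → Fin k) × Fin k) F) σ A C) (x : GL (T → Fin k) F) :
    ((g * inl _ k F x * g⁻¹ * (inl _ k F x)⁻¹ : GL ((T → Fin k) × Fin k) F) :
        Matrix ((T → Fin k) × Fin k) ((T → Fin k) × Fin k) F) * rgt _ σ =
      ((A * x * A⁻¹ * x⁻¹ : GL (T → Fin k) F) : Matrix (T → Fin k) (T → Fin k) F) ⊗ₖ σ := by
  obtain ⟨⟨c, hc0, hA, hCC⟩, e, hCσ⟩ := hP
  have hAi : ((A⁻¹ : GL (T → Fin k) F) : Matrix (T → Fin k) (T → Fin k) F) =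
      c⁻¹ • (A : Matrix (T → Fin k) (T → Fin k) F)† := by
    have := congrArg (fun m => c⁻¹ • (m * ((A⁻¹ : GL (T → Fin k) F) : Matrix (T → Fin k) (T → Fin k) F))) hA
    simp only [mul_assoc, ← Units.val_mul, mul_inv_cancel, Units.val_one, mul_one, smul_mul_assoc, one_mul,
      smul_smul, inv_mul_cancel₀ hc0, one_smul] at this
    exact this.symm
  set G := (g : Matrix ((T → Fin k) × Fin k) ((T → Fin k) × Fin k) F)
  have et : rgt (T → Fin k) σ * G† = (A : Matrix (T → Fin k) (T → Fin k) F)† ⊗ₖ C† := by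
    rw [← ad_kronecker, ← e, ad_mul, rgt_ad, hσ.symm]
  have hcT : G† * rgt _ σ = rgt _ σ * G† := by
    have := congrArg ad hc.eq
    rw [ad_mul, ad_mul, rgt_ad, hσ.symm] at this
    exact this.symm
  have hσσ : rgt (T → Fin k) σ = rgt _ σ * rgt _ σ := by rw [rgt_mul, hσ.idem]
  rw [← map_inv, Units.val_mul, Units.val_mul, Units.val_mul, inv_val h2 hg, mul_assoc,
    (inl_commute_rgt x⁻¹ σ).eq, ← mul_assoc, mul_assoc (G * _) G†, hcT, hσσ, mul_assoc (rgt _ σ), et,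
    ← mul_assoc (G * _), mul_assoc G _ (rgt _ σ), (inl_commute_rgt x σ).eq, ← mul_assoc G, e, inl_val, inl_val,
    ← Matrix.mul_kronecker_mul, ← Matrix.mul_kronecker_mul, ← Matrix.mul_kronecker_mul, mul_one, mul_one, hCC,
    Units.val_mul, Units.val_mul, Units.val_mul, hAi]
  rw [Matrix.kronecker_smul, mul_smul_comm, smul_mul_assoc, Matrix.smul_kronecker]

/-- three pure parts -/
def pel (π₁ π₂ π₃ : Matrix (Fin k) (Fin k) F) (A₁ A₂ : Matrix (T → Fin k) (T → Fin k) F) :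
    Matrix ((T → Fin k) × Fin k) ((T → Fin k) × Fin k) F :=
  A₁ ⊗ₖ π₁ + A₂ ⊗ₖ π₂ + rgt _ π₃

variable {π₁ π₂ π₃ : Matrix (Fin k) (Fin k) F}

theorem pel_mul (hd : Dec π₁ π₂ π₃) (A₁ A₂ B₁ B₂ : Matrix (T → Fin k) (T → Fin k) F) :
    pel π₁ π₂ π₃ A₁ A₂ * pel π₁ π₂ π₃ B₁ B₂ = pel π₁ π₂ π₃ (A₁ * B₁) (A₂ * B₂) := by
  have h21 := hd.p₁.swap hd.p₂ hd.h12
  have h31 := hd.p₁.swap hd.p₃ hd.h13
  have h32 := hd.p₂.swap hd.p₃ hd.h23
  simp only [pel, rgt, add_mul, mul_add, ← Matrix.mul_kronecker_mul, hd.p₁.idem, hd.p₂.idem, hd.p₃.idem, hd.h12,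
    hd.h13, hd.h23, h21, h31, h32, Matrix.kronecker_zero, add_zero, zero_add, one_mul, mul_one]

theorem pel_one (hd : Dec π₁ π₂ π₃) :
    pel π₁ π₂ π₃ (1 : Matrix (T → Fin k) (T → Fin k) F) 1 = 1 := by
  show rgt _ π₁ + rgt _ π₂ + rgt _ π₃ = _
  rw [← rgt_add, ← rgt_add, hd.sum, rgt_one]

theorem pel_ad (hd : Dec π₁ π₂ π₃) (A₁ A₂ : Matrix (T → Fin k) (T → Fin k) F) :
    (pel π₁ π₂ π₃ A₁ A₂)† = pel π₁ π₂ π₃ A₁† A₂† := by
  simp only [pel, rgt, ad_add, ad_kronecker, hd.p₁.symm, hd.p₂.symm, hd.p₃.symm, ad_one]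

theorem inl_mul_pel (a : GL (T → Fin k) F) (A₁ A₂ : Matrix (T → Fin k) (T → Fin k) F) :
    (inl _ k F a : Matrix ((T → Fin k) × Fin k) ((T → Fin k) × Fin k) F) * pel π₁ π₂ π₃ A₁ A₂ *
        (inl _ k F a⁻¹ : Matrix ((T → Fin k) × Fin k) ((T → Fin k) × Fin k) F) =
      pel π₁ π₂ π₃ ((a : Matrix (T → Fin k) (T → Fin k) F) * A₁ * ((a⁻¹ : GL (T → Fin k) F) : Matrix _ _ F))
        ((a : Matrix (T → Fin k) (T → Fin k) F) * A₂ * ((a⁻¹ : GL (T → Fin k) F) : Matrix _ _ F)) := by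
  simp only [pel, rgt, inl_val, add_mul, mul_add, ← Matrix.mul_kronecker_mul, one_mul, mul_one, ← Units.val_mul,
    mul_inv_cancel, Units.val_one]

/-- the pairs of parts -/
def Pel (M : Subgroup (GL ((T → Fin k) × Fin k) F)) (π₁ π₂ π₃ : Matrix (Fin k) (Fin k) F)
    (A₁ A₂ : GL (T → Fin k) F) : Prop :=
  A₁ ∈ Orth (T → Fin k) F ∧ A₂ ∈ Orth (T → Fin k) F ∧ ∃ g ∈ M,
    (g : Matrix ((T → Fin k) × Fin k) ((T → Fin k) × Fin k) F) = pel π₁ π₂ π₃ (A₁ : Matrix _ _ F) (A₂ : Matrix _ _ F)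

variable (hh : Hyp k F) (hd : Dec π₁ π₂ π₃)
include hh hd

theorem Pel.one : Pel M π₁ π₂ π₃ (1 : GL (T → Fin k) F) 1 :=
  ⟨one_mem _, one_mem _, 1, one_mem _, by rw [Units.val_one, Units.val_one, pel_one hd]⟩

theorem Pel.mul {A₁ A₂ B₁ B₂ : GL (T → Fin k) F} (h : Pel M π₁ π₂ π₃ A₁ A₂) (h' : Pel M π₁ π₂ π₃ B₁ B₂) :
    Pel M π₁ π₂ π₃ (A₁ * B₁) (A₂ * B₂) := by
  obtain ⟨a, b, g, hg, e⟩ := h
  obtain ⟨a', b', g', hg', e'⟩ := h'
  exact ⟨mul_mem a a', mul_mem b b', g * g', mul_mem hg hg', by rw [Units.val_mul, e, e', pel_mul hd]; rfl⟩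

variable (hle : M ≤ Orth ((T → Fin k) × Fin k) F)
include hle

theorem Pel.inv {A₁ A₂ : GL (T → Fin k) F} (h : Pel M π₁ π₂ π₃ A₁ A₂) : Pel M π₁ π₂ π₃ A₁⁻¹ A₂⁻¹ := by
  obtain ⟨a, b, g, hg, e⟩ := h
  exact ⟨inv_mem a, inv_mem b, g⁻¹, inv_mem hg, by
    rw [inv_val hh.h2 (hle hg), inv_val hh.h2 a, inv_val hh.h2 b, e, pel_ad hd]⟩

theorem Pel.comm {A₁ A₂ B₁ B₂ : GL (T → Fin k) F} (h : Pel M π₁ π₂ π₃ A₁ A₂) (h' : Pel M π₁ π₂ π₃ B₁ B₂) :
    Pel M π₁ π₂ π₃ (A₁ * B₁ * A₁⁻¹ * B₁⁻¹) (A₂ * B₂ * A₂⁻¹ * B₂⁻¹) :=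
  Pel.mul hh hd (Pel.mul hh hd (Pel.mul hh hd h h') (h.inv hh hd hle)) (h'.inv hh hd hle)

variable [Finite F] (hM : Ctx T k F M)
include hM

omit hle in
theorem Pel.conj {A₁ A₂ : GL (T → Fin k) F} (h : Pel M π₁ π₂ π₃ A₁ A₂) {a : GL (T → Fin k) F}
    (ha : a ∈ Wr T k F) (ha' : a ∈ Om (T → Fin k) F) : Pel M π₁ π₂ π₃ (a * A₁ * a⁻¹) (a * A₂ * a⁻¹) := by
  obtain ⟨o₁, o₂, g, hg, e⟩ := h
  have haO := om_le_orth ha'
  refine ⟨mul_mem (mul_mem haO o₁) (inv_mem haO), mul_mem (mul_mem haO o₂) (inv_mem haO), _,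
    mul_mem (mul_mem (hM.inl_mem ha ha') hg) (inv_mem (hM.inl_mem ha ha')), ?_⟩
  rw [← map_inv, Units.val_mul, Units.val_mul, e, inl_mul_pel]
  rfl

set_option maxHeartbeats 800000 in
omit hle in
/-- the first part is scalar -/
theorem pel_scalar (h1 : π₁ ≠ 0) (h3 : π₃ ≠ 0) (htriv : Triv M π₂) {A₁ A₂ : GL (T → Fin k) F}
    (hA : Pel M π₁ π₂ π₃ A₁ A₂) : ∃ c : F, (A₁ : Matrix (T → Fin k) (T → Fin k) F) = c • 1 := by
  classical
  have h2 := hh.h2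
  have hle := hM.le
  haveI := hM.nonempty
  haveI := hh.ne
  by_contra hsc
  push Not at hsc
  let G₁ : Subgroup (GL (T → Fin k) F) :=
    { carrier := {A | ∃ B, Pel M π₁ π₂ π₃ A B}
      one_mem' := ⟨1, Pel.one hh hd⟩
      mul_mem' := fun ⟨B, hB⟩ ⟨B', hB'⟩ => ⟨B * B', Pel.mul hh hd hB hB'⟩
      inv_mem' := fun ⟨B, hB⟩ => ⟨B⁻¹, hB.inv hh hd hle⟩ }
  obtain ⟨r, hr⟩ := exists_slot hh hM.max (G := G₁) (fun A ⟨B, hB⟩ => hB.1)
    (fun a ha A ⟨B, hB⟩ => ⟨a * B * a⁻¹, hB.conj hh hd hM ha.1 ha.2⟩) (⟨A₂, hA⟩ : A₁ ∈ G₁) hsc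
  choose B hB using fun y : ↥(Om (Fin k) F) => hr y y.2
  obtain ⟨y₀, hy₀, y₀', hy₀', hnc⟩ := exists_noncomm hh
  have hπ1 : π₁ ≠ 1 := fun e => h3 (by have := hd.h13; rwa [e, one_mul] at this)
  set y'' := y₀ * y₀' * y₀⁻¹ * y₀'⁻¹ with hy''
  have hy''O : y'' ∈ Om (Fin k) F := mul_mem (mul_mem (mul_mem hy₀ hy₀') (inv_mem hy₀)) (inv_mem hy₀')
  by_cases hπ2 : π₂ = 0
  · obtain ⟨-, -, g, hg, e⟩ := hB ⟨y'', hy''O⟩
    refine hM.noSeed r π₁ y'' hd.p₁ h1 hπ1 hy''O hnc g hg ?_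
    rw [e, el, pel, hπ2, Matrix.kronecker_zero, add_zero, hd.one_sub, hπ2, zero_add, add_comm]
  -- the second part is determined up to a scalar
  have uniq : ∀ {A B B' : GL (T → Fin k) F}, Pel M π₁ π₂ π₃ A B → Pel M π₁ π₂ π₃ A B' →
      ∃ c : F, (B' : Matrix (T → Fin k) (T → Fin k) F) = c • (B : Matrix (T → Fin k) (T → Fin k) F) := by
    intro A B B' hAB hAB'
    obtain ⟨-, oB, g, hg, e⟩ := Pel.mul hh hd (hAB.inv hh hd hle) hAB'
    rw [inv_mul_cancel, Units.val_one] at e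
    have hInR : InR M π₂ g := by
      refine ⟨hg, ?_, π₁ + π₃, ?_⟩
      · rw [e]
        show pel π₁ π₂ π₃ _ _ * rgt _ π₂ = rgt _ π₂ * pel π₁ π₂ π₃ _ _
        simp only [pel, rgt, add_mul, mul_add, ← Matrix.mul_kronecker_mul, hd.h12, hd.swap.h12,
          hd.p₃.swap hd.p₂ (hd.p₂.swap hd.p₃ hd.h23), hd.p₂.swap hd.p₃ hd.h23, hd.p₂.idem, Matrix.kronecker_zero,
          add_zero, zero_add, one_mul, mul_one]
      · rw [e, hd.swap.one_sub]
        simp only [pel, rgt, add_mul, mul_add, ← Matrix.mul_kronecker_mul, hd.h12, hd.h13, hd.h23, hd.swap.h12,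
          hd.p₁.swap hd.p₃ hd.h13, hd.p₂.swap hd.p₃ hd.h23, hd.p₁.idem, hd.p₃.idem, Matrix.kronecker_zero,
          add_zero, zero_add, one_mul, mul_one, Matrix.kronecker_add]
    obtain ⟨C, hC⟩ := htriv g hInR
    have e2 := congrArg (fun m => m * rgt _ π₂) (hC.symm.trans e)
    simp only [pel, rgt, add_mul, ← Matrix.mul_kronecker_mul, hd.h12, hd.p₂.swap hd.p₃ hd.h23, hd.p₂.idem,
      Matrix.kronecker_zero, add_zero, zero_add, one_mul, mul_one] at e2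
    obtain ⟨c, -, hc⟩ := kron_eq e2.symm hπ2 ((B⁻¹ * B' : GL (T → Fin k) F)).ne_zero
    refine ⟨c⁻¹, ?_⟩
    have hc' : ((B⁻¹ * B' : GL (T → Fin k) F) : Matrix (T → Fin k) (T → Fin k) F) =
        c⁻¹ • (1 : Matrix (T → Fin k) (T → Fin k) F) := by
      rcases eq_or_ne c 0 with rfl | hc0
      · rw [zero_smul] at hc; exact absurd hc one_ne_zero
      · rw [hc, smul_smul, inv_mul_cancel₀ hc0, one_smul]
    rw [show B' = B * (B⁻¹ * B') by group, Units.val_mul, hc', mul_smul_comm, mul_one]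
  -- it lives in the slot
  have hslot : ∀ y, ∃ w ∈ Orth (Fin k) F, B y = rt r w := by
    intro y
    refine slot_of_commute hh r (hB y).2.1 fun v hv hvr => ?_
    refine Subgroup.mem_centralizer_singleton_iff.1 ?_ |>.symm
    refine Subgroup.mem_comap.1 (Subgroup.pi_mem_of_mulSingle_mem
      (H := (Subgroup.centralizer {B y}).comap tk) v fun s => ?_)
    rw [Subgroup.mem_comap, ← TW.rt_eq, Subgroup.mem_centralizer_singleton_iff]
    rcases eq_or_ne s r with rfl | hsr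
    · rw [hvr, map_one, one_mul, mul_one]
    refine ((commute_rt_of_scalar hh (g := B y) s (fun a ha => ?_) (hv s)).eq).symm
    have hcm : Commute (rt s a) (rt r (y : GL (Fin k) F)) := by
      rw [TW.rt_eq, TW.rt_eq]
      refine Commute.map ?_ tk
      refine funext fun x => ?_
      rcases eq_or_ne x r with rfl | hx
      · simp [Pi.mulSingle_eq_of_ne hsr.symm]
      · simp [Pi.mulSingle_eq_of_ne hx]
    have h'' := (hB y).conj hh hd hM (TW.rt_mem s a) (rt_om h2 s ha)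
    rw [hcm.eq, mul_inv_cancel_right] at h''
    obtain ⟨e, he⟩ := uniq h'' (hB y)
    refine ⟨e, ?_⟩
    rw [show B y * rt s a * (B y)⁻¹ * (rt s a)⁻¹ = B y * (rt s a * B y * (rt s a)⁻¹)⁻¹ by group, Units.val_mul]
    rw [he, smul_mul_assoc, ← Units.val_mul, mul_inv_cancel, Units.val_one]
  choose w hwO hw using hslot
  -- the pairs of slot elements
  let N : Subgroup (GL (Fin k) F) :=
    { carrier := {v | ∃ y ∈ Om (Fin k) F, Pel M π₁ π₂ π₃ (rt r y) (rt r v)}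
      one_mem' := ⟨1, one_mem _, by rw [map_one]; exact Pel.one hh hd⟩
      mul_mem' := fun {v v'} ⟨y, hy, h⟩ ⟨y', hy', h'⟩ => ⟨y * y', mul_mem hy hy', by
        rw [map_mul, map_mul]; exact Pel.mul hh hd h h'⟩
      inv_mem' := fun {v} ⟨y, hy, h⟩ => ⟨y⁻¹, inv_mem hy, by rw [map_inv, map_inv]; exact h.inv hh hd hle⟩ }
  have hP : ∀ y : ↥(Om (Fin k) F), Pel M π₁ π₂ π₃ (rt r (y : GL (Fin k) F)) (rt r (w y)) :=
    fun y => by have := hB y; rwa [hw y] at this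
  have hrs : ∀ {u v : GL (Fin k) F} {c : F}, (rt r u : Matrix (T → Fin k) (T → Fin k) F) =
      c • (rt r v : Matrix (T → Fin k) (T → Fin k) F) →
      (u : Matrix (Fin k) (Fin k) F) = c • (v : Matrix (Fin k) (Fin k) F) := by
    intro u v c e
    haveI : Nonempty ({s // s ≠ r} → Fin k) := inferInstance
    have e1 := congrArg (fun m => m.submatrix (spl (m := k) r).symm (spl (m := k) r).symm) e
    simp only [Matrix.submatrix_smul, Pi.smul_apply, ← TW.rid_val, rid_rt', inr_eq_rgt, ← rgt_smul] at e1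
    exact rgt_inj (β := {s // s ≠ r} → Fin k) e1
  have hseed : ∀ (π : Matrix (Fin k) (Fin k) F), Pr π → π ≠ 0 → π ≠ 1 → ∀ g ∈ M,
      (g : Matrix ((T → Fin k) × Fin k) ((T → Fin k) × Fin k) F) ≠ el r π y'' :=
    fun π hπ h0 h1' => hM.noSeed r π y'' hπ h0 h1' hy''O hnc
  have hcommP := Pel.comm hh hd hle (hP ⟨y₀, hy₀⟩) (hP ⟨y₀', hy₀'⟩)
  rw [← map_inv, ← map_inv, ← map_inv, ← map_inv, ← map_mul, ← map_mul, ← map_mul, ← map_mul, ← map_mul,
    ← map_mul] at hcommP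
  by_cases hall : ∀ v ∈ N, ∃ c : F, (v : Matrix (Fin k) (Fin k) F) = c • 1
  · -- the second parts of commutators are trivial
    obtain ⟨a, ha⟩ := hall _ ⟨y₀, hy₀, hP ⟨y₀, hy₀⟩⟩
    have hc : w ⟨y₀, hy₀⟩ * w ⟨y₀', hy₀'⟩ = w ⟨y₀', hy₀'⟩ * w ⟨y₀, hy₀⟩ := Units.ext (by
      rw [Units.val_mul, Units.val_mul, ha, smul_mul_assoc, one_mul, mul_smul_comm, mul_one])
    rw [show w ⟨y₀, hy₀⟩ * w ⟨y₀', hy₀'⟩ * (w ⟨y₀, hy₀⟩)⁻¹ * (w ⟨y₀', hy₀'⟩)⁻¹ = 1 by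
      rw [hc, mul_inv_cancel_right, mul_inv_cancel], map_one] at hcommP
    obtain ⟨-, -, g, hg, e⟩ := hcommP
    refine hseed π₁ hd.p₁ h1 hπ1 g hg ?_
    rw [e, el, pel, hd.one_sub, Units.val_one, rgt_add]
    abel
  push Not at hall
  obtain ⟨v, ⟨yv, hyv, hv⟩, hvsc⟩ := hall
  have hvO : v ∈ Orth (Fin k) F := by
    obtain ⟨c, hc⟩ := uniq (hP ⟨yv, hyv⟩) hv
    have hvc := hrs hc
    rw [mem_orth_iff h2]
    have hcc : c * c = 1 := by
      obtain ⟨i⟩ := hM.nonempty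
      have e := ad_mul_self h2 hv.2.1
      rw [hc, ad_smul, smul_mul_smul_comm, ad_mul_self h2 (rt_orth h2 r (hwO _))] at e
      simpa using congrFun (congrFun e i) i
    rw [hvc, ad_smul, smul_mul_smul_comm, hcc, one_smul, ad_mul_self h2 (hwO _)]
  obtain ⟨h, hh', hhne⟩ := exists_comm_ne_smul hh.big hvsc
  have hNconj : ∀ a ∈ Om (Fin k) F, ∀ x ∈ N, a * x * a⁻¹ ∈ N := by
    rintro a ha x ⟨y, hy, hxy⟩
    refine ⟨a * y * a⁻¹, mul_mem (mul_mem ha hy) (inv_mem ha), ?_⟩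
    simp only [map_mul, map_inv]
    exact hxy.conj hh hd hM (TW.rt_mem r a) (rt_om h2 r ha)
  have hOmN : Om (Fin k) F ≤ N := hh.big.norm N (fun a ha x hx _ => hNconj a ha x hx) (v * h * v⁻¹ * h⁻¹)
    (by
      rw [mul_assoc, mul_assoc, ← mul_assoc h]
      exact mul_mem (⟨yv, hyv, hv⟩ : v ∈ N) (hNconj h hh' _ (inv_mem (⟨yv, hyv, hv⟩ : v ∈ N))))
    (mul_mem (conj_mem_om hvO hh') (inv_mem hh')) hhne
  -- the second part is the first one, up to a sign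
  have hid : ∀ y : ↥(Om (Fin k) F), ∃ c : F, (w y : Matrix (Fin k) (Fin k) F) =
      c • ((y : GL (Fin k) F) : Matrix (Fin k) (Fin k) F) := by
    intro y
    set u := (y : GL (Fin k) F)⁻¹ * w y with hu
    by_contra hc
    push Not at hc
    obtain ⟨z, hz, hzne⟩ := exists_comm_ne_smul hh.big (g := u) fun c e => hc c (by
      rw [show w y = (y : GL (Fin k) F) * u by rw [hu, mul_inv_cancel_left], Units.val_mul, e, mul_smul_comm, mul_one])
    obtain ⟨x, hx, hxz⟩ := hOmN hz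
    have e1 := Pel.mul hh hd (Pel.mul hh hd (hP y) hxz) ((hP y).inv hh hd hle)
    have e2 := hxz.conj hh hd hM (TW.rt_mem r (y : GL (Fin k) F)) (rt_om h2 r y.2)
    simp only [← map_inv, ← map_mul] at e1 e2
    obtain ⟨c, hcc⟩ := uniq e2 e1
    refine hzne c ?_
    have e3 := hrs hcc
    rw [show u * z * u⁻¹ * z⁻¹ = (y : GL (Fin k) F)⁻¹ * (w y * z * (w y)⁻¹) * ((y : GL (Fin k) F) * z⁻¹) by
      rw [hu]; group, Units.val_mul, Units.val_mul, e3, mul_smul_comm, smul_mul_assoc, ← Units.val_mul, ← Units.val_mul,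
      show (y : GL (Fin k) F)⁻¹ * ((y : GL (Fin k) F) * z * (y : GL (Fin k) F)⁻¹) * ((y : GL (Fin k) F) * z⁻¹) = 1 by group,
      Units.val_one]
  obtain ⟨a, ha⟩ := hid ⟨y₀, hy₀⟩
  obtain ⟨b, hb⟩ := hid ⟨y₀', hy₀'⟩
  have hcm : w ⟨y₀, hy₀⟩ * w ⟨y₀', hy₀'⟩ * (w ⟨y₀, hy₀⟩)⁻¹ * (w ⟨y₀', hy₀'⟩)⁻¹ = y'' := by
    rw [mul_inv_eq_iff_eq_mul, mul_inv_eq_iff_eq_mul]
    refine Units.ext ?_
    simp only [Units.val_mul, ha, hb, smul_mul_assoc, mul_smul_comm, smul_smul]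
    rw [mul_comm b a, ← Units.val_mul, ← Units.val_mul, ← Units.val_mul, hy'']
    congr 2
    group
  rw [hcm] at hcommP
  obtain ⟨-, -, g, hg, e⟩ := hcommP
  refine hseed (π₁ + π₂) (hd.p₁.add hd.p₂ hd.h12) (fun h => h1 ?_) (fun h => h3 ?_) g hg ?_
  · have := congrArg (π₁ * ·) h
    simpa [mul_add, hd.p₁.idem, hd.h12] using this
  · have e' := congrArg (· * π₃) h
    simp only [add_mul, hd.h13, hd.h23, add_zero, one_mul] at e'
    exact e'.symm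
  · rw [e, el, pel, show 1 - (π₁ + π₂) = π₃ by rw [← hd.sum]; abel, Matrix.kronecker_add]
    abel

omit hle in
/-- an element pure on the three summands is pure -/
theorem pure_of_parts (h1 : π₁ ≠ 0) (h3 : π₃ ≠ 0) (ht1 : π₂ ≠ 0 → Triv M π₁) (ht2 : Triv M π₂)
    {g : GL ((T → Fin k) × Fin k) F} (hg : g ∈ M) {A₁ A₂ : GL (T → Fin k) F} {C₁ C₂ C₃ : Matrix (Fin k) (Fin k) F}
    (hc1 : Commute (g : Matrix ((T → Fin k) × Fin k) ((T → Fin k) × Fin k) F) (rgt _ π₁))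
    (hc2 : Commute (g : Matrix ((T → Fin k) × Fin k) ((T → Fin k) × Fin k) F) (rgt _ π₂))
    (P1 : Part (g : Matrix ((T → Fin k) × Fin k) ((T → Fin k) × Fin k) F) π₁ A₁ C₁)
    (P2 : π₂ ≠ 0 → Part (g : Matrix ((T → Fin k) × Fin k) ((T → Fin k) × Fin k) F) π₂ A₂ C₂)
    (e3 : (g : Matrix ((T → Fin k) × Fin k) ((T → Fin k) × Fin k) F) * rgt _ π₃ = rgt _ C₃) :
    ∃ C, (g : Matrix ((T → Fin k) × Fin k) ((T → Fin k) × Fin k) F) = rgt _ C := by
  have h2 := hh.h2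
  have hgO := hM.le hg
  haveI := hh.ne
  haveI := hM.nonempty
  have hc3 : Commute (g : Matrix ((T → Fin k) × Fin k) ((T → Fin k) × Fin k) F) (rgt _ π₃) := by
    rw [hd.third, rgt_sub, rgt_sub, rgt_one]
    exact ((Commute.one_right _).sub_right hc1).sub_right hc2
  have hC3 : C₃ * C₃† = π₃ := by
    refine rgt_inj (β := T → Fin k) ?_
    rw [← rgt_mul, ← rgt_ad, ← e3, ad_mul, rgt_ad, hd.p₃.symm, mul_assoc, ← mul_assoc (rgt (T → Fin k) π₃), rgt_mul,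
      hd.p₃.idem, ← mul_assoc, hc3.eq, mul_assoc, mul_ad_self h2 hgO, mul_one]
  have hC3r : C₃ * π₃ = C₃ := rgt_inj (β := T → Fin k) (by
    rw [← rgt_mul, ← e3, mul_assoc, rgt_mul, hd.p₃.idem])
  have P3 : Part (g : Matrix ((T → Fin k) × Fin k) ((T → Fin k) × Fin k) F) π₃ (1 : GL (T → Fin k) F) C₃ :=
    ⟨⟨1, one_ne_zero, by rw [Units.val_one, ad_one, one_mul, one_smul], by rw [inv_one, one_smul, hC3]⟩,
      by rw [Units.val_one]; exact e3, hC3r⟩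
  -- the second part, trivial when there is no second summand
  obtain ⟨A₂', C₂', P2', hA₂'⟩ : ∃ (A' : GL (T → Fin k) F) (C' : Matrix (Fin k) (Fin k) F),
      Part (g : Matrix ((T → Fin k) × Fin k) ((T → Fin k) × Fin k) F) π₂ A' C' ∧ (π₂ = 0 → A' = 1) := by
    by_cases hπ2 : π₂ = 0
    · exact ⟨1, 0, ⟨⟨1, one_ne_zero, by rw [Units.val_one, ad_one, one_mul, one_smul],
        by rw [zero_mul, hπ2, smul_zero]⟩, by rw [hπ2, rgt_zero, mul_zero, Matrix.kronecker_zero],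
        by rw [zero_mul]⟩, fun _ => rfl⟩
    · exact ⟨A₂, C₂, P2 hπ2, fun h => absurd h hπ2⟩
  have hkey : ∀ h : GL (T → Fin k) F, h ∈ Wr T k F → h ∈ Om (T → Fin k) F →
      Pel M π₁ π₂ π₃ (A₁ * h * A₁⁻¹ * h⁻¹) (A₂' * h * A₂'⁻¹ * h⁻¹) := by
    intro h hw hh'
    have hm := hM.inl_mem hw hh'
    have hO : ∀ A : GL (T → Fin k) F, Sim A → A * h * A⁻¹ * h⁻¹ ∈ Orth (T → Fin k) F := fun A hA =>
      mul_mem (hA.conj_orth h2 (om_le_orth hh')) (inv_mem (om_le_orth hh'))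
    refine ⟨hO _ P1.isSim, hO _ P2'.isSim, _,
      mul_mem (mul_mem (mul_mem hg hm) (inv_mem hg)) (inv_mem hm), ?_⟩
    have f1 := part_commutator h2 hgO hd.p₁ hc1 P1 h
    have f2 := part_commutator h2 hgO hd.p₂ hc2 P2' h
    have f3 := part_commutator h2 hgO hd.p₃ hc3 P3 h
    rw [one_mul, inv_one, mul_one, mul_inv_cancel, Units.val_one] at f3
    set g' := g * inl _ k F h * g⁻¹ * (inl _ k F h)⁻¹
    rw [← mul_one (g' : Matrix ((T → Fin k) × Fin k) ((T → Fin k) × Fin k) F), ← rgt_one, ← hd.sum, rgt_add, rgt_add,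
      mul_add, mul_add, f1, f2, f3]
    rfl
  have scal : ∀ A : GL (T → Fin k) F,
      (∀ h : GL (T → Fin k) F, h ∈ Wr T k F → h ∈ Om (T → Fin k) F →
        ∃ c : F, ((A * h * A⁻¹ * h⁻¹ : GL (T → Fin k) F) : Matrix (T → Fin k) (T → Fin k) F) = c • 1) →
      ∃ c : F, (A : Matrix (T → Fin k) (T → Fin k) F) = c • 1 := by
    intro A hc
    refine tk_commutant hh fun u hu => ?_
    refine congrArg Units.val (Subgroup.mem_centralizer_singleton_iff.1 (Subgroup.mem_comap.1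
      (Subgroup.pi_mem_of_mulSingle_mem (H := (Subgroup.centralizer {A}).comap tk) u fun s => ?_))).symm
    rw [Subgroup.mem_comap, ← TW.rt_eq, Subgroup.mem_centralizer_singleton_iff]
    exact ((commute_rt_of_scalar hh (g := A) s (fun a ha => hc _ (TW.rt_mem s a) (rt_om h2 s ha)) (hu s)).eq).symm
  obtain ⟨c₁, hc₁⟩ := scal A₁ fun h hw hh' => pel_scalar hh hd hM h1 h3 ht2 (hkey h hw hh')
  obtain ⟨c₂, hc₂⟩ : ∃ c : F, (A₂' : Matrix (T → Fin k) (T → Fin k) F) = c • 1 := by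
    by_cases hπ2 : π₂ = 0
    · exact ⟨1, by rw [hA₂' hπ2, Units.val_one, one_smul]⟩
    · refine scal A₂' fun h hw hh' => ?_
      refine pel_scalar hh hd.swap hM hπ2 h3 (ht1 hπ2) (A₂ := A₁ * h * A₁⁻¹ * h⁻¹) ?_
      obtain ⟨o1, o2, x, hx, ex⟩ := hkey h hw hh'
      exact ⟨o2, o1, x, hx, by rw [ex]; simp only [pel]; abel⟩
  refine ⟨c₁ • C₁ + c₂ • C₂' + C₃, ?_⟩
  rw [← mul_one (g : Matrix ((T → Fin k) × Fin k) ((T → Fin k) × Fin k) F), ← rgt_one, ← hd.sum, rgt_add, rgt_add,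
    mul_add, mul_add, P1.eq, P2'.eq, e3, hc₁, hc₂, Matrix.smul_kronecker, Matrix.smul_kronecker, rgt_add, rgt_add,
    rgt_smul, rgt_smul]

end Cfsg.Agent.MaxCl.TEv
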