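/-
An element pure off a summand and commuting with a splitting of that summand is pure.
-/
import Cfsg.Agent.Lib.MaxCl.TEvPel
import Cfsg.Agent.Lib.MaxCl.TOrthKernel

set_option autoImplicit false
set_option linter.unusedSectionVars false

namespace Cfsg.Agent.MaxCl.TEv

open Matrix
open TOrth (rk rk_zero rk_one eq_zero_of_rk inl inr inl_val inr_val kr_val rgt rgt_mul rgt_add rgt_smul rgt_one rgt_zero
  rgt_sub rgt_inj inr_eq_rgt el InR Triv triv_zero commute_one_sub kron_eq inl_commute_rgt rk_of_conj Pur Mx)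
open TW (tk pm pg rt rid spl sl Wr)
open scoped MatrixGroups Kronecker

variable {F : Type*} [Field F] {k : ℕ} [Wt (Fin k) F] {T : Type} [Fintype T] [DecidableEq T] [Finite F]
  {M : Subgroup (GL ((T → Fin k) × Fin k) F)} (hM : Ctx T k F M)
include hM

section Parts

variable {π₁ π₂ π₃ : Matrix (Fin k) (Fin k) F} (hd : Dec π₁ π₂ π₃) (ht : Triv M π₁)
  {g : GL ((T → Fin k) × Fin k) F} (hg : g ∈ M)
  (hc1 : Commute (g : Mx T k F) (rgt _ π₁)) (hc2 : Commute (g : Mx T k F) (rgt _ π₂))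
  {C₃ : Matrix (Fin k) (Fin k) F} (hC3 : (g : Mx T k F) * rgt _ π₃ = rgt _ C₃)

include hd hg hc1 hc2 hC3
include ht

/-- conjugation permutes the usable pure elements -/
theorem conj_um {u : GL (Fin k) F} (hu : Um M π₁ π₂ u) :
    ∃ w, Um M π₁ π₂ w ∧ g * inr _ k F u = inr _ k F w * g := by
  have h2 := hM.hyp.h2
  haveI := hM.nonempty
  obtain ⟨huO, huM, hu1, hu2, hu2'⟩ := hu
  set h := g * inr _ k F u * g⁻¹ with hh
  have hhM : h ∈ M := mul_mem (mul_mem hg huM) (inv_mem hg)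
  have hc3 : Commute (g : Matrix ((T → Fin k) × Fin k) ((T → Fin k) × Fin k) F) (rgt _ π₃) := by
    rw [hd.third, rgt_sub, rgt_sub, rgt_one]
    exact ((Commute.one_right _).sub_right hc1).sub_right hc2
  have hu3 : Commute (u : Matrix (Fin k) (Fin k) F) π₃ := by
    rw [hd.third]; exact ((Commute.one_right _).sub_right hu1).sub_right hu2
  have hgo := hM.le hg
  have hinv := inv_val h2 hgo
  set G := (g : Matrix ((T → Fin k) × Fin k) ((T → Fin k) × Fin k) F)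
  have hcT : ∀ π : Matrix (Fin k) (Fin k) F, Pr π → Commute G (rgt _ π) → Commute G† (rgt _ π) := fun π hπ h => by
    show _ = _
    have := congrArg ad h.eq
    rw [ad_mul, ad_mul, rgt_ad, hπ.symm] at this
    exact this.symm
  have hpart : ∀ π : Matrix (Fin k) (Fin k) F, Pr π → Commute G (rgt _ π) →
      (h : Matrix ((T → Fin k) × Fin k) ((T → Fin k) × Fin k) F) * rgt _ π =
        G * rgt _ ((u : Matrix (Fin k) (Fin k) F) * π) * G† := by
    intro π hπ hc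
    rw [hh, Units.val_mul, Units.val_mul, hinv, inr_eq_rgt, mul_assoc, (hcT π hπ hc).eq, mul_assoc G,
      ← mul_assoc (rgt (T → Fin k) (u : Matrix (Fin k) (Fin k) F)), rgt_mul, mul_assoc G]
  have hcomm : ∀ π : Matrix (Fin k) (Fin k) F, Pr π → Commute G (rgt _ π) → Commute (u : Matrix (Fin k) (Fin k) F) π →
      Commute (h : Matrix ((T → Fin k) × Fin k) ((T → Fin k) × Fin k) F) (rgt _ π) := by
    intro π hπ hc hu
    rw [hh, Units.val_mul, Units.val_mul, hinv, inr_eq_rgt]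
    refine (hc.mul_left ?_).mul_left (hcT π hπ hc)
    show _ = _
    rw [rgt_mul, rgt_mul, hu.eq]
  have hh1 := hcomm π₁ hd.p₁ hc1 hu1
  have hh2 := hcomm π₂ hd.p₂ hc2 hu2
  -- its part on π₃
  have h3 : (h : Matrix ((T → Fin k) × Fin k) ((T → Fin k) × Fin k) F) * rgt _ π₃ =
      rgt _ (C₃ * (u : Matrix (Fin k) (Fin k) F) * C₃†) := by
    rw [hpart π₃ hd.p₃ hc3, show (u : Matrix (Fin k) (Fin k) F) * π₃ = π₃ * (u : Matrix (Fin k) (Fin k) F) * π₃ by
      rw [← hu3.eq, mul_assoc, hd.p₃.idem]]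
    calc G * rgt _ (π₃ * (u : Matrix (Fin k) (Fin k) F) * π₃) * G†
        = G * rgt _ π₃ * rgt _ (u : Matrix (Fin k) (Fin k) F) * (G * rgt _ π₃)† := by
          rw [ad_mul, rgt_ad, hd.p₃.symm, ← rgt_mul, ← rgt_mul]
          simp only [mul_assoc]
      _ = _ := by rw [hC3, rgt_ad, rgt_mul, rgt_mul]
  obtain ⟨ε, hε, hε2⟩ : ∃ ε : F, ε * ε = 1 ∧ (u : Matrix (Fin k) (Fin k) F) * π₂ = ε • π₂ := by
    rcases hu2' with e | e
    · exact ⟨1, one_mul 1, by rw [e, one_smul]⟩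
    · exact ⟨-1, by ring, by rw [e, neg_one_smul]⟩
  have h2' : (h : Matrix ((T → Fin k) × Fin k) ((T → Fin k) × Fin k) F) * rgt _ π₂ = rgt _ (ε • π₂) := by
    rw [hpart π₂ hd.p₂ hc2, hε2, rgt_smul, mul_smul_comm, smul_mul_assoc, hc2.eq, mul_assoc,
      mul_ad_self h2 hgo, mul_one]
  obtain ⟨W, hW⟩ := ht h ⟨hhM, hh1, ε • π₂ + C₃ * (u : Matrix (Fin k) (Fin k) F) * C₃†, by
    rw [hd.one_sub, rgt_add, mul_add, h2', h3, ← rgt_add]⟩
  have hWo : W† * W = 1 := rgt_inj (β := T → Fin k) (by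
    rw [← rgt_mul, ← rgt_ad, ← hW, ad_mul_self h2 (hM.le hhM), rgt_one])
  let w : GL (Fin k) F := ⟨W, W†, mul_eq_one_comm.1 hWo, hWo⟩
  have hwh : inr _ k F w = h := Units.ext hW.symm
  refine ⟨w, ⟨(mem_orth_iff h2).2 hWo, hwh ▸ hhM, ?_, ?_, ?_⟩, by rw [hwh, hh, inv_mul_cancel_right]⟩
  · exact rgt_inj (β := T → Fin k) (by rw [← rgt_mul, ← rgt_mul, ← hW]; exact hh1.eq)
  · exact rgt_inj (β := T → Fin k) (by rw [← rgt_mul, ← rgt_mul, ← hW]; exact hh2.eq)
  · have e : W * π₂ = ε • π₂ := rgt_inj (β := T → Fin k) (by rw [← rgt_mul, ← hW, h2'])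
    rcases mul_self_eq_one_iff.1 hε with rfl | rfl
    · exact Or.inl (by rw [one_smul] at e; exact e)
    · exact Or.inr (by rw [neg_one_smul] at e; exact e)

/-- conjugation keeps the spanned operators in the right factor -/
theorem alg_conj {X : Matrix (Fin k) (Fin k) F} (hX : X ∈ Alg M π₁ π₂) :
    ∃ Z, (g : Mx T k F) * rgt _ X = rgt _ Z * (g : Mx T k F) := by
  induction hX using Submodule.span_induction with
  | mem X hX =>
    obtain ⟨u, hu, rfl⟩ := hX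
    obtain ⟨w, hw, e⟩ := conj_um hM hd ht hg hc1 hc2 hC3 hu
    refine ⟨(w : Matrix (Fin k) (Fin k) F) * π₁, ?_⟩
    have e' := congrArg Units.val e
    rw [Units.val_mul, Units.val_mul, inr_eq_rgt, inr_eq_rgt] at e'
    rw [← rgt_mul, ← rgt_mul, ← mul_assoc, e', mul_assoc, hc1.eq, mul_assoc]
  | zero => exact ⟨0, by rw [rgt_zero, mul_zero, zero_mul]⟩
  | add a b _ _ ha hb =>
    obtain ⟨Za, hZa⟩ := ha
    obtain ⟨Zb, hZb⟩ := hb
    exact ⟨Za + Zb, by rw [rgt_add, mul_add, hZa, hZb, rgt_add, add_mul]⟩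
  | smul c a _ ha =>
    obtain ⟨Za, hZa⟩ := ha
    exact ⟨c • Za, by rw [rgt_smul, mul_smul_comm, hZa, rgt_smul, smul_mul_assoc]⟩

/-- on a spanned summand the element is pure -/
theorem part_of_full (hF : Full M π₁ π₂) : ∃ A C, Part (g : Mx T k F) π₁ A C :=
  haveI := hM.nonempty
  part_of_orth_part hM.hyp.h2 (hM.le hg) hd.p₁ hc1 fun Y => alg_conj hM hd ht hg hc1 hc2 hC3 (hF Y)

end Parts

omit hM in
/-- the part on a line -/
theorem part_line {β : Type} [Fintype β] [DecidableEq β] [Wt β F] (h2 : (2 : F) ≠ 0) [Nonempty β]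
    {g : GL (β × Fin k) F} (hg : g ∈ Orth (β × Fin k) F) {a : Fin k → F} (ha : a ⬝ʷ a ≠ 0)
    (hc : Commute (g : Matrix (β × Fin k) (β × Fin k) F) (rgt β (pj a))) :
    ∃ A C, Part (g : Matrix (β × Fin k) (β × Fin k) F) (pj a) A C :=
  part_of_orth_part h2 hg (pr_pj ha) hc fun Y => ⟨pj a * Y * pj a, by
    have : pj a * Y * pj a = ((a ⬝ʷ a)⁻¹ * (a ⬝ʷ Y *ᵥ a)) • pj a := by
      rw [pj, smul_mul_assoc, smul_mul_assoc, mul_smul_comm, ov_mul, ov_mul_ov, bf_mulVec, ad_ad, ov_smul, smul_smul,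
        smul_smul, smul_smul]
      congr 1
      ring
    rw [this, rgt_smul, mul_smul_comm, hc.eq, smul_mul_assoc]⟩

/-- a line has only pure elements -/
theorem triv_line {π : Matrix (Fin k) (Fin k) F} (hπ : Pr π) (h1 : rk π = 1) : Triv M π := by
  rintro g ⟨hg, hc, C, hC⟩
  haveI := hM.nonempty
  have hd := dec_of hπ hπ hπ.idem
  rw [sub_self] at hd
  obtain ⟨a, ha, -, hpa⟩ := eq_pj_of_rk hM.hyp.h2 hπ h1
  obtain ⟨A, C₁, P1⟩ := part_line hM.hyp.h2 (hM.le hg) ha (hpa ▸ hc)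
  rw [← hpa] at P1
  have hne : π ≠ 0 := fun e => by rw [e, rk_zero] at h1; omega
  have hne3 : (1 : Matrix (Fin k) (Fin k) F) - π ≠ 0 := fun e => by
    have := rk_one_sub hπ
    rw [e, rk_zero, h1, Fintype.card_fin] at this
    have := hM.hyp.four
    omega
  exact pure_of_parts hM.hyp hd hM hne hne3 (fun h => absurd rfl h) triv_zero hg (A₂ := 1) (C₂ := 0) hc
    (by rw [rgt_zero]; exact Commute.zero_right _) P1 (fun h => absurd rfl h) hC

omit hM in
theorem inr_inj [Nonempty (T → Fin k)] {A B : GL (Fin k) F} (e : inr (T → Fin k) k F A = inr _ k F B) : A = B :=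
  Units.ext (rgt_inj (β := T → Fin k) (by rw [← inr_eq_rgt, ← inr_eq_rgt, e]))

/-- commutators with left slot elements that are pure and small make an element pure -/
theorem pure_of_small {g : GL ((T → Fin k) × Fin k) F} {τ₁ τ₂ : Matrix (Fin k) (Fin k) F} (hτ₁ : Pr τ₁) (hτ₂ : Pr τ₂)
    (hr₁ : rk τ₁ + 2 ≤ k) (hr₂ : rk τ₂ + 2 ≤ k)
    (h : ∀ (r : T), ∀ w ∈ Om (Fin k) F, ∃ C : GL (Fin k) F,
      g * inl _ k F (rt r w) * g⁻¹ * (inl _ k F (rt r w))⁻¹ = inr _ k F C ∧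
      Commute (C : Matrix (Fin k) (Fin k) F) τ₁ ∧ Commute (C : Matrix (Fin k) (Fin k) F) τ₂ ∧
      (C : Matrix (Fin k) (Fin k) F) * (1 - τ₁ - τ₂) = 1 - τ₁ - τ₂) : Pur g := by
  classical
  haveI := hM.nonempty
  have hsingle : ∀ (r : T) (w : GL (Fin k) F), w ∈ Om (Fin k) F → Commute g (inl _ k F (rt r w)) := by
    intro r w₀ hw₀
    choose C hCe hC1 hC2 hC3 using fun w : ↥(Om (Fin k) F) => h r w w.2
    have hmul : ∀ a b : ↥(Om (Fin k) F), C (a * b) = C a * C b := fun a b => inr_inj (T := T) (by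
      rw [map_mul (inr (T → Fin k) k F) (C a), ← hCe, Subgroup.coe_mul, map_mul, map_mul]
      have hcomm : Commute (inr (T → Fin k) k F (C b)) (inl _ k F (rt r (a : GL (Fin k) F))) :=
        Units.ext (by rw [Units.val_mul, Units.val_mul, inr_eq_rgt]; exact (inl_commute_rgt _ _).eq.symm)
      set A := inl (T → Fin k) k F (rt r (a : GL (Fin k) F)) with hA
      set B := inl (T → Fin k) k F (rt r (b : GL (Fin k) F)) with hB
      have e1 : g * B * g⁻¹ * B⁻¹ = inr _ k F (C b) := hCe b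
      have e2 : g * A * g⁻¹ * A⁻¹ = inr _ k F (C a) := hCe a
      calc g * (A * B) * g⁻¹ * (A * B)⁻¹ = g * A * g⁻¹ * ((g * B * g⁻¹ * B⁻¹) * A⁻¹) := by group
        _ = g * A * g⁻¹ * (A⁻¹ * inr _ k F (C b)) := by rw [e1, hcomm.inv_right.eq]
        _ = _ := by rw [← mul_assoc, e2])
    have hone : C 1 = 1 := by
      have := hmul 1 1
      rw [mul_one] at this
      exact mul_eq_left.1 this.symm
    have hrep : ∀ τ : Matrix (Fin k) (Fin k) F, rk τ + 2 ≤ k →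
        (∀ w, Commute (C w : Matrix (Fin k) (Fin k) F) τ) → ∀ w, (C w : Matrix (Fin k) (Fin k) F) * τ = τ := by
      intro τ hrk hcτ w
      let W := LinearMap.range τ.mulVecLin
      have hWinv : ∀ w, ∀ z ∈ W, (C w : Matrix (Fin k) (Fin k) F).mulVecLin z ∈ W := by
        rintro w _ ⟨z, rfl⟩
        exact ⟨(C w : Matrix (Fin k) (Fin k) F) *ᵥ z, by
          simp only [Matrix.mulVecLin_apply, Matrix.mulVec_mulVec, (hcτ w).eq]⟩
      let φ : ↥(Om (Fin k) F) →* Module.End F W :=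
        { toFun := fun w => (C w : Matrix (Fin k) (Fin k) F).mulVecLin.restrict (hWinv w)
          map_one' := LinearMap.ext fun z => Subtype.ext (by
            show (C 1 : Matrix (Fin k) (Fin k) F) *ᵥ (z : Fin k → F) = z
            rw [hone, Units.val_one, Matrix.one_mulVec])
          map_mul' := fun a b => LinearMap.ext fun z => Subtype.ext (by
            show (C (a * b) : Matrix (Fin k) (Fin k) F) *ᵥ (z : Fin k → F) =
              (C a : Matrix (Fin k) (Fin k) F) *ᵥ ((C b : Matrix (Fin k) (Fin k) F) *ᵥ (z : Fin k → F))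
            rw [hmul, Units.val_mul, Matrix.mulVec_mulVec]) }
      have h1' := hom_small hM.hyp (W := W) hrk φ w
      refine Matrix.ext_iff_mulVec.2 fun z => ?_
      rw [← Matrix.mulVec_mulVec]
      exact congrArg Subtype.val (LinearMap.congr_fun h1' ⟨τ *ᵥ z, z, rfl⟩)
    have hC : C ⟨w₀, hw₀⟩ = 1 := Units.ext (by
      rw [← mul_one (C ⟨w₀, hw₀⟩ : Matrix (Fin k) (Fin k) F),
        show (1 : Matrix (Fin k) (Fin k) F) = τ₁ + τ₂ + (1 - τ₁ - τ₂) by abel, mul_add, mul_add,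
        hrep τ₁ hr₁ hC1, hrep τ₂ hr₂ hC2, hC3, Units.val_one]
      abel)
    have e := hCe ⟨w₀, hw₀⟩
    rw [hC, map_one, mul_inv_eq_one, mul_inv_eq_iff_eq_mul] at e
    exact e
  refine rgt_of_commute hM.hyp fun u hu => ?_
  have : inl (T → Fin k) k F (tk u) ∈ Subgroup.centralizer {g} :=
    Subgroup.mem_comap.1 (Subgroup.pi_mem_of_mulSingle_mem
      (H := (Subgroup.centralizer {g}).comap ((inl (T → Fin k) k F).comp tk)) u fun t => by
        rw [Subgroup.mem_comap, MonoidHom.comp_apply, ← TW.rt_eq, Subgroup.mem_centralizer_singleton_iff]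
        exact (hsingle t (u t) (hu t)).eq.symm)
  exact (congrArg Units.val (Subgroup.mem_centralizer_singleton_iff.1 this) : _).symm

section Split

variable {π₁ π₂ π₃ : Matrix (Fin k) (Fin k) F}

/-- spanned parts give a pure element -/
theorem split_full (hd : Dec π₁ π₂ π₃) (h1 : π₁ ≠ 0) (h3 : π₃ ≠ 0) (ht1 : Triv M π₁) (ht2 : Triv M π₂)
    (hF1 : Full M π₁ π₂) (hF2 : Full M π₂ π₁) {g : GL ((T → Fin k) × Fin k) F} (hg : g ∈ M)
    (hc1 : Commute (g : Mx T k F) (rgt _ π₁)) (hc2 : Commute (g : Mx T k F) (rgt _ π₂))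
    {C₃ : Matrix (Fin k) (Fin k) F} (hC3 : (g : Mx T k F) * rgt _ π₃ = rgt _ C₃) : Pur g := by
  obtain ⟨A₁, C₁, P1⟩ := part_of_full hM hd ht1 hg hc1 hc2 hC3 hF1
  obtain ⟨A₂, C₂, P2⟩ := part_of_full hM hd.swap ht2 hg hc2 hc1 hC3 hF2
  exact pure_of_parts hM.hyp hd hM h1 h3 (fun _ => ht1) ht2 hg hc1 hc2 P1 (fun _ => P2) hC3

/-- an element fixing a line of the summand, whose complement in it is spanned -/
theorem split_line {π : Matrix (Fin k) (Fin k) F} (hπ : Pr π) (h1 : π ≠ 1) (ht : ∀ σ, Pr σ → rk σ < rk π → Triv M σ)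
    {a : Fin k → F} (ha : a ⬝ʷ a ≠ 0) (hπa : π *ᵥ a = a) (hF : Full M (π - pj a) (pj a))
    {g : GL ((T → Fin k) × Fin k) F} (hg : InR M π g) (hc : Commute (g : Mx T k F) (rgt _ (pj a))) : Pur g := by
  have hd := dec_of (pr_pj ha) hπ (mul_pj hπa)
  obtain ⟨hgM, hgc, C, hC⟩ := hg
  have hr := rk_sub_pj hπ ha hπa
  refine split_full hM hd (fun h => by have := rk_pj ha; rw [h, rk_zero] at this; omega) (sub_ne_zero.2 h1.symm)
    (triv_line hM (pr_pj ha) (rk_pj ha)) (ht _ hd.p₂ (by omega)) (full_line hM hd (rk_pj ha)) hF hgM hc ?_ hC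
  rw [rgt_sub]
  exact hgc.sub_right hc

omit hM in
/-- a bad plane: all squares are one and the values on two orthogonal lines are opposite -/
theorem bad_value {a c : F} (hsq : ∀ s : F, s ≠ 0 → s * s = 1) (ha : a ≠ 0) (hc : c ≠ 0) : c = a ∨ c = -a := by
  have h := (hsq a ha).trans (hsq c hc).symm
  exact (mul_self_eq_mul_self_iff.1 h.symm)

omit hM in
/-- in a plane, orthogonal pairs have the same discriminant -/
theorem plane_link (hsq : ∀ s : F, s ≠ 0 → s * s = 1) (h2 : (2 : F) ≠ 0) {σ : Matrix (Fin k) (Fin k) F} {p q : Fin k → F}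
    (hσ : σ = pj p + pj q) (hpq : p ⬝ʷ q = 0) (hv : q ⬝ʷ q = p ⬝ʷ p) {x y : Fin k → F}
    (hx : x ⬝ʷ x ≠ 0) (hy : y ⬝ʷ y ≠ 0) (hσx : σ *ᵥ x = x) (hσy : σ *ᵥ y = y) (hxy : x ⬝ʷ y = 0) :
    ∃ s : F, s ≠ 0 ∧ x ⬝ʷ x + s * s * (y ⬝ʷ y) ≠ 0 := by
  refine ⟨1, one_ne_zero, fun e => ?_⟩
  rw [one_mul, one_mul] at e
  obtain ⟨α, β, rfl⟩ : ∃ α β : F, x = α • p + β • q :=
    ⟨_, _, by conv_lhs => rw [← hσx, hσ, Matrix.add_mulVec, pj_mulVec, pj_mulVec]⟩
  obtain ⟨γ, δ, rfl⟩ : ∃ γ δ : F, y = γ • p + δ • q :=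
    ⟨_, _, by conv_lhs => rw [← hσy, hσ, Matrix.add_mulVec, pj_mulVec, pj_mulVec]⟩
  simp only [add_bf, bf_add, smul_bf, bf_smul, smul_eq_mul, bf_comm q p, hpq, hv] at hx hy hxy e
  -- the discriminant
  set c := p ⬝ʷ p
  have key : -((α * α + β * β) * c * ((α * α + β * β) * c)) = (c * (α * δ - β * γ)) * (c * (α * δ - β * γ)) := by
    linear_combination (-((α * α + β * β) * c)) * e + (c * (α * γ + β * δ)) * hxy
  have hX : (α * α + β * β) * c ≠ 0 := fun h0 => hx (by linear_combination h0)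
  rw [hsq _ hX] at key
  rcases eq_or_ne (c * (α * δ - β * γ)) 0 with h0 | h0
  · rw [h0, mul_zero] at key; exact one_ne_zero (neg_eq_zero.1 key)
  · rw [hsq _ h0] at key; exact h2 (by linear_combination -key)

/-- the case of a plane that is not spanned -/
theorem split_plane {π : Matrix (Fin k) (Fin k) F} (hd : Dec π₁ π₂ π₃) (hπ : π = π₁ + π₂) (h2π : π₂ ≠ 0) (h3 : π₃ ≠ 0)
    (ht : ∀ σ, Pr σ → rk σ < rk π → Triv M σ) (hr : rk π₁ = 2) (hnF : ¬ Full M π₁ π₂)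
    {g : GL ((T → Fin k) × Fin k) F} (hg : InR M π g) (hc : Commute (g : Mx T k F) (rgt _ π₁)) : Pur g := by
  classical
  have h2 := hM.hyp.h2
  haveI := hM.nonempty
  subst hπ
  have hP : Pr (π₁ + π₂) := hd.p₁.add hd.p₂ hd.h12
  have h3' : 1 - (π₁ + π₂) = π₃ := by rw [← hd.sum]; abel
  have hne1 : π₁ + π₂ ≠ 1 := fun h => h3 (by rw [← h3', h, sub_self])
  have hrs := rk_add hd.p₁ hd.p₂ hd.h12
  have hr2 : rk π₂ ≠ 0 := fun h => h2π (eq_zero_of_rk h)
  have ht1 : Triv M π₁ := ht _ hd.p₁ (by omega)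
  obtain ⟨x, y, hx, hy, hπx, hπy, hxy, hbad⟩ : ∃ x y, x ⬝ʷ x ≠ 0 ∧ y ⬝ʷ y ≠ 0 ∧ π₁ *ᵥ x = x ∧ π₁ *ᵥ y = y ∧
      x ⬝ʷ y = 0 ∧ ∀ s : F, s ≠ 0 → x ⬝ʷ x + s * s * (y ⬝ʷ y) = 0 := by
    by_contra hcon
    push Not at hcon
    exact hnF (full_plane hM hd h3 fun x y hx hy hπx hπy hxy => hcon x y hx hy hπx hπy hxy)
  have hsum0 : x ⬝ʷ x + y ⬝ʷ y = 0 := by simpa using hbad 1 one_ne_zero
  have hsq : ∀ s : F, s ≠ 0 → s * s = 1 := fun s hs => by
    refine mul_right_cancel₀ hy ?_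
    linear_combination hbad s hs - hsum0
  have hπ₁ : π₁ = pj x + pj y := by
    have hs := hd.p₁.sub (pr_pj hx) (mul_pj hπx)
    have hsy : (π₁ - pj x) *ᵥ y = y := by
      rw [Matrix.sub_mulVec, hπy, pj_mulVec, hxy, mul_zero, zero_smul, sub_zero]
    have hr1 := rk_sub_pj hd.p₁ hx hπx
    have hr2' := rk_sub_pj hs hy hsy
    have h0 : π₁ - pj x - pj y = 0 := eq_zero_of_rk (by omega)
    rw [sub_sub] at h0
    exact sub_eq_zero.1 h0
  have hlines : ∀ a, a ⬝ʷ a ≠ 0 → π₁ *ᵥ a = a → pj a = pj x ∨ pj a = pj y := by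
    intro a ha hπa
    obtain ⟨α, β, rfl⟩ : ∃ α β : F, a = α • x + β • y :=
      ⟨_, _, by conv_lhs => rw [← hπa, hπ₁, Matrix.add_mulVec, pj_mulVec, pj_mulVec]⟩
    simp only [add_bf, bf_add, smul_bf, bf_smul, smul_eq_mul, bf_comm y x, hxy] at ha
    rcases eq_or_ne β 0 with rfl | hβ
    · have hα : α ≠ 0 := fun e => ha (by rw [e]; ring)
      exact Or.inl (by rw [zero_smul, add_zero, pj_smul hα])
    rcases eq_or_ne α 0 with rfl | hα
    · exact Or.inr (by rw [zero_smul, zero_add, pj_smul hβ])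
    exact absurd (by linear_combination hsum0 + (x ⬝ʷ x) * hsq α hα + (y ⬝ʷ y) * hsq β hβ) ha
  have hp12 : ∀ {z : Fin k → F}, π₁ *ᵥ z = z → (π₁ + π₂) *ᵥ z = z := fun {z} hz => by
    rw [Matrix.add_mulVec, hz]
    conv_lhs => arg 2; rw [← hz, Matrix.mulVec_mulVec, hd.swap.h12, Matrix.zero_mulVec]
    rw [add_zero]
  have hother : ∀ {f : GL ((T → Fin k) × Fin k) F}, InR M (π₁ + π₂) f → Commute (f : Mx T k F) (rgt _ π₁) →
      Commute (f : Mx T k F) (rgt _ π₂) ∧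
        ∃ C, (f : Mx T k F) * rgt _ π₃ = rgt _ C := fun {f} hf hfc => by
    refine ⟨?_, ?_⟩
    · rw [show π₂ = π₁ + π₂ - π₁ by abel, rgt_sub]
      exact hf.2.1.sub_right hfc
    · rw [← h3']; exact hf.2.2
  -- fixing the lines
  have fixed : ∀ f, InR M (π₁ + π₂) f → Commute (f : Mx T k F) (rgt _ π₁) →
      Commute (f : Mx T k F) (rgt _ (pj x)) → Pur f := by
    intro f hf hfc hfx
    have hfy : Commute (f : Mx T k F) (rgt _ (pj y)) := by
      rw [show pj y = π₁ - pj x by rw [hπ₁]; abel, rgt_sub]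
      exact hfc.sub_right hfx
    have use : ∀ a, a ⬝ʷ a ≠ 0 → π₁ *ᵥ a = a → Commute (f : Mx T k F) (rgt _ (pj a)) →
        Full M (π₁ + π₂ - pj a) (pj a) → Pur f := fun a ha hπa hca hF =>
      split_line hM hP hne1 ht ha (hp12 hπa) hF hf hca
    by_cases hbig : 2 ≤ rk π₂
    · refine use x hx hπx hfx (full_three hM (dec_of (pr_pj hx) hP (mul_pj (hp12 hπx))).swap ?_)
      have := rk_sub_pj hP hx (hp12 hπx)
      omega
    obtain ⟨z, hz, hπz, hπ₂⟩ := eq_pj_of_rk h2 hd.p₂ (by omega)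
    have hperp : ∀ a, π₁ *ᵥ a = a → a ⬝ʷ z = 0 := fun a ha => by
      rw [← ha, hd.p₁.dot, ← hπz, Matrix.mulVec_mulVec, hd.h12, Matrix.zero_mulVec, bf_zero]
    have mk : ∀ a b, a ⬝ʷ a ≠ 0 → b ⬝ʷ b ≠ 0 → π₁ *ᵥ a = a → π₁ *ᵥ b = b → π₁ = pj a + pj b →
        Commute (f : Mx T k F) (rgt _ (pj a)) → z ⬝ʷ z = b ⬝ʷ b → Pur f := by
      intro a b ha hb hπa hπb hab hca hval
      refine use a ha hπa hca (full_plane hM (dec_of (pr_pj ha) hP (mul_pj (hp12 hπa))).swap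
        (sub_ne_zero.2 hne1.symm) fun p q hp hq hσp hσq hpq =>
          plane_link hsq h2 (σ := π₁ + π₂ - pj a) (p := b) (q := z) ?_ (hperp b hπb) hval hp hq hσp hσq hpq)
      rw [hab, hπ₂]; abel
    rcases bad_value hsq hy hz with hv | hv
    · exact mk x y hx hy hπx hπy hπ₁ hfx hv
    · exact mk y x hy hx hπy hπx (by rw [hπ₁, add_comm]) hfy (by linear_combination hv - hsum0)
  obtain ⟨hc2, C₃, hC3⟩ := hother hg hc
  obtain ⟨Z, hZ⟩ := alg_conj hM hd ht1 hg.1 hc hc2 hC3 (pj_mem_alg_of_third hM hd h3 hx hπx)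
  set G := (g : Mx T k F)
  have hgO := hM.le hg.1
  have hZe : rgt (T → Fin k) Z = G * rgt _ (pj x) * G† := by rw [hZ, mul_assoc, mul_ad_self h2 hgO, mul_one]
  have hZp : Pr Z := ⟨rgt_inj (β := T → Fin k) (by
      rw [← rgt_ad, hZe, ad_mul, ad_mul, ad_ad, rgt_ad, (pr_pj hx).symm, mul_assoc]),
    rgt_inj (β := T → Fin k) (by
      rw [← rgt_mul, hZe, show G * rgt _ (pj x) * G† * (G * rgt _ (pj x) * G†) =
        G * (rgt _ (pj x) * (G† * G) * rgt _ (pj x)) * G† by simp only [mul_assoc], ad_mul_self h2 hgO, mul_one,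
        rgt_mul, (pr_pj hx).idem])⟩
  have hπZ : π₁ * Z = Z := rgt_inj (β := T → Fin k) (by
    rw [← rgt_mul, hZe, ← mul_assoc, ← mul_assoc, ← hc.eq, mul_assoc G, rgt_mul, mul_pj hπx])
  obtain ⟨a, ha, hZa, rfl⟩ := eq_pj_of_rk h2 hZp ((rk_of_conj hZ).symm.trans (rk_pj hx))
  have hπa : π₁ *ᵥ a = a := by
    conv_lhs => rw [← pj_self ha, Matrix.mulVec_mulVec, hπZ]
    exact pj_self ha
  rcases hlines a ha hπa with hax | hay
  · rw [hax] at hZ
    exact fixed g hg hc hZ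
  rw [hay] at hZ
  -- the exchange: the commutators fix the lines
  obtain ⟨hgM, hgc, C, hC⟩ := hg
  refine pure_of_small hM hd.p₁ hd.p₂ (by have := hM.hyp.four; omega) (by
    have := rk_one_sub hP
    rw [h3', Fintype.card_fin] at this
    have : rk π₃ ≠ 0 := fun h => h3 (eq_zero_of_rk h)
    omega) fun r w hw => ?_
  set L := inl (T → Fin k) k F (rt r w) with hL
  have hLM : L ∈ M := hM.inl_mem (TW.rt_mem r w) (rt_om h2 r hw)
  have hLc : ∀ X, Commute (L : Mx T k F) (rgt _ X) := fun X => inl_commute_rgt _ X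
  have hci : ∀ {u : GL ((T → Fin k) × Fin k) F} {X : Matrix (Fin k) (Fin k) F}, Commute (u : Mx T k F) (rgt _ X) →
      Commute ((u⁻¹ : GL ((T → Fin k) × Fin k) F) : Mx T k F) (rgt _ X) := fun h => h.units_inv_left
  have hcomm : ∀ X, Commute G (rgt _ X) →
      Commute ((g * L * g⁻¹ * L⁻¹ : GL ((T → Fin k) × Fin k) F) : Mx T k F) (rgt _ X) := fun X h => by
    simp only [Units.val_mul]
    exact ((h.mul_left (hLc X)).mul_left (hci h)).mul_left (hci (hLc X))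
  have hx' : Commute ((g * L * g⁻¹ * L⁻¹ : GL ((T → Fin k) × Fin k) F) : Mx T k F) (rgt _ (pj y)) := by
    simp only [Units.val_mul]
    refine Commute.mul_left ?_ (hci (hLc _))
    show _ = _
    rw [inv_val h2 hgO]
    have hy' : rgt (T → Fin k) (pj y) = G * rgt _ (pj x) * G† := by rw [hZ, mul_assoc, mul_ad_self h2 hgO, mul_one]
    rw [hy']
    calc G * (L : Mx T k F) * G† * (G * rgt _ (pj x) * G†)
        = G * ((L : Mx T k F) * (G† * G) * rgt _ (pj x)) * G† := by simp only [mul_assoc]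
      _ = G * (rgt _ (pj x) * (G† * G) * (L : Mx T k F)) * G† := by
        rw [ad_mul_self h2 hgO, mul_one, mul_one, (hLc _).eq]
      _ = _ := by simp only [mul_assoc]; rfl
  have hx'' : Commute ((g * L * g⁻¹ * L⁻¹ : GL ((T → Fin k) × Fin k) F) : Mx T k F) (rgt _ (pj x)) := by
    rw [show pj x = π₁ - pj y by rw [hπ₁]; abel, rgt_sub]
    exact (hcomm _ hc).sub_right hx'
  have h3c : Commute G (rgt _ (1 - (π₁ + π₂))) := commute_one_sub hgc
  have htriv3 : ((g * L * g⁻¹ * L⁻¹ : GL ((T → Fin k) × Fin k) F) : Mx T k F) * rgt _ (1 - (π₁ + π₂)) =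
      rgt _ (1 - (π₁ + π₂)) := by
    have hC' : C * C† = 1 - (π₁ + π₂) := rgt_inj (β := T → Fin k) (by
      rw [← rgt_mul, ← rgt_ad, ← hC, ad_mul, rgt_ad, hP.one_sub.symm, mul_assoc,
        ← mul_assoc (rgt (T → Fin k) (1 - (π₁ + π₂))), rgt_mul, hP.one_sub.idem, ← mul_assoc, h3c.eq, mul_assoc,
        mul_ad_self h2 hgO, mul_one])
    have P3 : Part G (1 - (π₁ + π₂)) (1 : GL (T → Fin k) F) C :=
      ⟨⟨1, one_ne_zero, by rw [Units.val_one, ad_one, one_mul, one_smul], by rw [inv_one, one_smul, hC']⟩,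
        by rw [Units.val_one]; exact hC,
        rgt_inj (β := T → Fin k) (by rw [← rgt_mul, ← hC, mul_assoc, rgt_mul, hP.one_sub.idem])⟩
    have := part_commutator h2 hgO hP.one_sub h3c P3 (rt r w)
    rwa [one_mul, inv_one, mul_one, mul_inv_cancel, Units.val_one] at this
  have hpur := fixed _ ⟨mul_mem (mul_mem (mul_mem hgM hLM) (inv_mem hgM)) (inv_mem hLM), hcomm _ hgc, _, htriv3⟩
    (hcomm _ hc) hx''
  obtain ⟨D, hD⟩ := hpur
  have hDo : D† * D = 1 := rgt_inj (β := T → Fin k) (by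
    rw [← rgt_mul, ← rgt_ad, ← hD, rgt_one]
    exact ad_mul_self h2 (hM.le (mul_mem (mul_mem (mul_mem hgM hLM) (inv_mem hgM)) (inv_mem hLM))))
  refine ⟨⟨D, D†, mul_eq_one_comm.1 hDo, hDo⟩, Units.ext hD, ?_, ?_, ?_⟩
  · exact rgt_inj (β := T → Fin k) (by rw [← rgt_mul, ← rgt_mul, ← hD]; exact (hcomm _ hc).eq)
  · exact rgt_inj (β := T → Fin k) (by rw [← rgt_mul, ← rgt_mul, ← hD]; exact (hcomm _ hc2).eq)
  · refine rgt_inj (β := T → Fin k) ?_
    rw [sub_sub, ← rgt_mul, ← hD]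
    exact htriv3

/-- **splitting**: an element pure off a summand and commuting with a splitting of it is pure -/
theorem split {π : Matrix (Fin k) (Fin k) F} (hd : Dec π₁ π₂ π₃) (hπ : π = π₁ + π₂) (h1 : π₁ ≠ 0) (h2π : π₂ ≠ 0)
    (h3 : π₃ ≠ 0) (ht : ∀ σ, Pr σ → rk σ < rk π → Triv M σ) {g : GL ((T → Fin k) × Fin k) F} (hg : InR M π g)
    (hc : Commute (g : Mx T k F) (rgt _ π₁)) : Pur g := by
  have hc2 : Commute (g : Mx T k F) (rgt _ π₂) := by
    rw [show π₂ = π - π₁ by rw [hπ]; abel, rgt_sub]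
    exact hg.2.1.sub_right hc
  by_cases hF1 : Full M π₁ π₂
  · by_cases hF2 : Full M π₂ π₁
    · obtain ⟨hgM, -, C, hC⟩ := hg
      have h3' : 1 - π = π₃ := by rw [hπ, ← hd.sum]; abel
      rw [h3'] at hC
      have hr := rk_add hd.p₁ hd.p₂ hd.h12
      have hr1 : rk π₁ ≠ 0 := fun h => h1 (eq_zero_of_rk h)
      have hr2 : rk π₂ ≠ 0 := fun h => h2π (eq_zero_of_rk h)
      exact split_full hM hd h1 h3 (ht _ hd.p₁ (by rw [hπ]; omega)) (ht _ hd.p₂ (by rw [hπ]; omega)) hF1 hF2 hgM hc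
        hc2 hC
    · have hr : rk π₂ = 2 := by
        by_contra hne
        have h0 : rk π₂ ≠ 0 := fun h => h2π (eq_zero_of_rk h)
        rcases Nat.lt_or_ge (rk π₂) 2 with hlt | hge
        · exact hF2 (full_line hM hd.swap (by omega))
        · exact hF2 (full_three hM hd.swap (by omega))
      exact split_plane hM hd.swap (by rw [hπ, add_comm]) h1 h3 ht hr hF2 hg hc2
  · have hr : rk π₁ = 2 := by
      by_contra hne
      have h0 : rk π₁ ≠ 0 := fun h => h1 (eq_zero_of_rk h)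
      rcases Nat.lt_or_ge (rk π₁) 2 with hlt | hge
      · exact hF1 (full_line hM hd (by omega))
      · exact hF1 (full_three hM hd (by omega))
    exact split_plane hM hd hπ h2π h3 ht hr hF1 hg hc

end Split

end Cfsg.Agent.MaxCl.TEv
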