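/-
The restrictions to one summand of the elements pure off it: the group they form, and the principle that an element
conjugating a pure involution to a pure one is pure.
-/
import Cfsg.Agent.Lib.MaxCl.TEvSplit

set_option autoImplicit false
set_option linter.unusedSectionVars false

namespace Cfsg.Agent.MaxCl.TEv

open Matrix
open TOrth (rk rk_zero rk_one eq_zero_of_rk inl inr inl_val inr_val kr_val rgt rgt_mul rgt_add rgt_smul rgt_one rgt_zero
  rgt_sub rgt_inj inr_eq_rgt el InR Triv triv_zero commute_one_sub inl_commute_rgt rk_of_conj Pur Mx mir mir_mul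
  mir_mul_self pur_one pur_inr)
open TW (tk pm pg rt rid spl sl Wr)
open scoped MatrixGroups Kronecker

variable {F : Type*} [Field F] {k : ℕ} [Wt (Fin k) F]

/-- its isometry -/
def zp {σ : Matrix (Fin k) (Fin k) F} (h : Pr σ) : GL (Fin k) F :=
  ⟨mir σ, mir σ, mir_mul_self h.idem, mir_mul_self h.idem⟩

theorem zp_val {σ : Matrix (Fin k) (Fin k) F} (h : Pr σ) : (zp h : Matrix (Fin k) (Fin k) F) = mir σ := rfl

theorem mir_ad {σ : Matrix (Fin k) (Fin k) F} (h : Pr σ) : (mir σ)† = mir σ := by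
  rw [mir, ad_sub, ad_one, ad_smul, h.symm]

theorem zp_mem (h2 : (2 : F) ≠ 0) {σ : Matrix (Fin k) (Fin k) F} (h : Pr σ) : zp h ∈ Orth (Fin k) F := by
  rw [mem_orth_iff h2, zp_val, mir_ad h, mir_mul_self h.idem]

theorem zp_mul_self {σ : Matrix (Fin k) (Fin k) F} (h : Pr σ) : zp h * zp h = 1 :=
  Units.ext (mir_mul_self h.idem)

theorem rf_eq_zp {a : Fin k → F} (ha : a ⬝ʷ a ≠ 0) : rf a = zp (pr_pj ha) := Units.ext (rf_val ha)

variable {T : Type} [Fintype T] [DecidableEq T] {M : Subgroup (GL ((T → Fin k) × Fin k) F)}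

theorem inR_one (hM : Ctx T k F M) (π : Matrix (Fin k) (Fin k) F) : InR M π 1 :=
  ⟨one_mem _, by rw [Units.val_one]; exact Commute.one_left _, 1 - π, by rw [Units.val_one, one_mul]⟩

theorem inR_mul {π : Matrix (Fin k) (Fin k) F} (hπ : Pr π) {g h : GL ((T → Fin k) × Fin k) F}
    (hg : InR M π g) (hh : InR M π h) : InR M π (g * h) := by
  obtain ⟨hgM, hgc, C, hC⟩ := hg
  obtain ⟨hhM, hhc, D, hD⟩ := hh
  refine ⟨mul_mem hgM hhM, by rw [Units.val_mul]; exact hgc.mul_left hhc, C * D, ?_⟩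
  have e : (h : Mx T k F) * rgt _ (1 - π) = rgt _ (1 - π) * ((h : Mx T k F) * rgt _ (1 - π)) := by
    rw [← mul_assoc, ← (commute_one_sub hhc).eq, mul_assoc, rgt_mul, hπ.one_sub.idem]
  rw [Units.val_mul, mul_assoc, e, ← mul_assoc, hC, hD, rgt_mul]

theorem inR_inv (hM : Ctx T k F M) {π : Matrix (Fin k) (Fin k) F} (hπ : Pr π) {g : GL ((T → Fin k) × Fin k) F}
    (hg : InR M π g) : InR M π g⁻¹ := by
  obtain ⟨hgM, hgc, C, hC⟩ := hg
  refine ⟨inv_mem hgM, hgc.units_inv_left, C†, ?_⟩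
  rw [inv_val hM.hyp.h2 (hM.le hgM), ← rgt_ad, ← hC, (commute_one_sub hgc).eq, ad_mul,
    rgt_ad, hπ.one_sub.symm]

/-- the restrictions to the summand, up to sign -/
def kerGrp (hM : Ctx T k F M) {π : Matrix (Fin k) (Fin k) F} (hπ : Pr π) :
    Subgroup (GL ((T → Fin k) × Fin k) F) where
  carrier := {g | g ∈ Orth ((T → Fin k) × Fin k) F ∧ (g : Mx T k F) * rgt _ (1 - π) = rgt _ (1 - π) ∧
    Commute (g : Mx T k F) (rgt _ π) ∧ ∃ g₀, InR M π g₀ ∧ ∃ s : F, s * s = 1 ∧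
      (g₀ : Mx T k F) * rgt _ π = s • ((g : Mx T k F) * rgt _ π)}
  one_mem' := ⟨one_mem _, by rw [Units.val_one, one_mul], by rw [Units.val_one]; exact Commute.one_left _,
    1, inR_one hM π, 1, one_mul 1, by rw [one_smul]⟩
  mul_mem' := by
    rintro g h ⟨hgO, hg1, hgc, g₀, hg0, s, hs, es⟩ ⟨hhO, hh1, hhc, h₀, hh0, t, ht, et⟩
    refine ⟨mul_mem hgO hhO, by rw [Units.val_mul, mul_assoc, hh1, hg1],
      by rw [Units.val_mul]; exact hgc.mul_left hhc, g₀ * h₀, inR_mul hπ hg0 hh0, s * t, by rw [mul_mul_mul_comm, hs, ht, one_mul], ?_⟩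
    have e : (h : Mx T k F) * rgt _ π = rgt _ π * ((h : Mx T k F) * rgt _ π) := by
      rw [← mul_assoc, ← hhc.eq, mul_assoc, rgt_mul, hπ.idem]
    rw [Units.val_mul, mul_assoc, et, mul_smul_comm, e, ← mul_assoc, es, smul_mul_assoc, smul_smul, mul_assoc, ← e,
      Units.val_mul, mul_assoc, mul_comm t s]
  inv_mem' := by
    rintro g ⟨hgO, hg1, hgc, g₀, hg0, s, hs, es⟩
    refine ⟨inv_mem hgO, ?_, hgc.units_inv_left, g₀⁻¹, inR_inv hM hπ hg0, s, hs, ?_⟩
    · conv_lhs => rw [← hg1, ← mul_assoc, ← Units.val_mul, inv_mul_cancel, Units.val_one, one_mul]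
    · have e : rgt _ π = s • (((g₀⁻¹ : GL _ F) : Mx T k F) * rgt _ π * (g : Mx T k F)) := by
        rw [mul_assoc, ← hgc.eq, ← mul_smul_comm, ← es, ← mul_assoc, ← Units.val_mul, inv_mul_cancel, Units.val_one,
          one_mul]
      have e' := congrArg (fun m => s • (m * ((g⁻¹ : GL _ F) : Mx T k F))) e
      simp only [smul_mul_assoc, smul_smul, hs, one_smul, mul_assoc, ← Units.val_mul, mul_inv_cancel, Units.val_one,
        mul_one] at e'
      rw [← e', hgc.units_inv_left.eq]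

section Kernel

variable [Finite F] (hM : Ctx T k F M) {π : Matrix (Fin k) (Fin k) F} (hπ : Pr π)
include hM hπ

omit [Finite F] in
theorem kerGrp_le {g : GL ((T → Fin k) × Fin k) F} (hg : g ∈ kerGrp hM hπ) :
    g ∈ Orth ((T → Fin k) × Fin k) F := hg.1

omit [Finite F] in
/-- enough: all restrictions are pure -/
theorem triv_of_pure (h : ∀ g ∈ kerGrp hM hπ, Pur g) : Triv M π := by
  intro g hg
  have h2 := hM.hyp.h2
  obtain ⟨hgM, hgc, C, hC⟩ := hg
  set G := (g : Mx T k F)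
  have hgO := hM.le hgM
  have hc' : Commute G† (rgt _ π) := by rw [← inv_val h2 hgO]; exact hgc.units_inv_left
  set P := rgt (T → Fin k) π
  set P' := rgt (T → Fin k) (1 - π)
  have hPP : P * P = P := by rw [rgt_mul, hπ.idem]
  have hP' : P' * P' = P' := by rw [rgt_mul, hπ.one_sub.idem]
  have h0 : P * P' = 0 := by rw [rgt_mul, hπ.mul_one_sub, rgt_zero]
  have h0' : P' * P = 0 := by rw [rgt_mul, hπ.one_sub_mul, rgt_zero]
  have hsum : P + P' = 1 := by rw [← rgt_add, add_sub_cancel, rgt_one]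
  have hT : (G * P + P')† = G† * P + P' := by
    rw [ad_add, ad_mul, rgt_ad, rgt_ad, hπ.symm, hπ.one_sub.symm, hc'.eq]
  have e1 : (G† * P + P') * (G * P + P') = 1 := by
    rw [add_mul, mul_add, mul_add, mul_assoc G† P, mul_assoc G† P, h0, mul_zero, add_zero, ← mul_assoc P, ← hgc.eq,
      mul_assoc G, hPP, ← mul_assoc G†, ad_mul_self h2 hgO, one_mul, hgc.eq, ← mul_assoc P', h0', zero_mul,
      zero_add, hP', hsum]
  let g' : GL ((T → Fin k) × Fin k) F := ⟨G * P + P', G† * P + P', mul_eq_one_comm.1 e1, e1⟩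
  have hP : G * P = (g' : Mx T k F) * P := by
    show _ = (G * P + P') * P
    rw [add_mul, mul_assoc, hPP, h0', add_zero]
  have hg' : g' ∈ kerGrp hM hπ := by
    refine ⟨(mem_orth_iff h2).2 (show (G * P + P')† * (G * P + P') = 1 by rw [hT]; exact e1), ?_, ?_,
      g, ⟨hgM, hgc, C, hC⟩, 1, one_mul 1, by rw [one_smul]; exact hP⟩
    · show (G * P + P') * P' = P'
      rw [add_mul, mul_assoc, h0, mul_zero, zero_add, hP']
    · show (G * P + P') * P = P * (G * P + P')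
      rw [← hP, mul_add, h0, add_zero, ← mul_assoc, ← hgc.eq, mul_assoc, hPP]
  obtain ⟨D, hD⟩ := h g' hg'
  refine ⟨D * π + C, ?_⟩
  rw [rgt_add, ← rgt_mul, ← hD, ← hP, ← hC, ← mul_add, hsum, mul_one]

/-- the pure derived elements act -/
theorem conj_inl_mem {u : T → GL (Fin k) F} (hu : ∀ r, u r ∈ Om (Fin k) F) {g : GL ((T → Fin k) × Fin k) F}
    (hg : g ∈ kerGrp hM hπ) : inl _ k F (tk u) * g * (inl _ k F (tk u))⁻¹ ∈ kerGrp hM hπ := by
  have h2 := hM.hyp.h2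
  obtain ⟨hgO, hg1, hgc, g₀, hg0, s, hs, es⟩ := hg
  set h := inl (T → Fin k) k F (tk u)
  have hhM : h ∈ M := hM.tk_mem hu
  have hc : ∀ C, Commute (h : Mx T k F) (rgt _ C) := fun C => inl_commute_rgt _ C
  have hc' : ∀ C, Commute ((h⁻¹ : GL _ F) : Mx T k F) (rgt _ C) := fun C => (hc C).units_inv_left
  have key : ∀ (x : GL ((T → Fin k) × Fin k) F) C,
      ((h * x * h⁻¹ : GL _ F) : Mx T k F) * rgt _ C = (h : Mx T k F) * ((x : Mx T k F) * rgt _ C) * ((h⁻¹ : GL _ F) : Mx T k F) := by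
    intro x C
    rw [Units.val_mul, Units.val_mul, mul_assoc, (hc' C).eq]
    simp only [mul_assoc]
  have hfix : ∀ C, (h : Mx T k F) * rgt _ C * ((h⁻¹ : GL _ F) : Mx T k F) = rgt _ C := fun C => by
    rw [(hc C).eq, mul_assoc, ← Units.val_mul, mul_inv_cancel, Units.val_one, mul_one]
  refine ⟨mul_mem (mul_mem (hM.le hhM) hgO) (inv_mem (hM.le hhM)), by rw [key, hg1, hfix], ?_,
    h * g₀ * h⁻¹, ⟨mul_mem (mul_mem hhM hg0.1) (inv_mem hhM), ?_, ?_⟩, s, hs, ?_⟩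
  · rw [Units.val_mul, Units.val_mul]; exact ((hc π).mul_left hgc).mul_left (hc' π)
  · rw [Units.val_mul, Units.val_mul]; exact ((hc π).mul_left hg0.2.1).mul_left (hc' π)
  · obtain ⟨C, hC⟩ := hg0.2.2
    exact ⟨C, by rw [key, hC, hfix]⟩
  · rw [key, key, es, mul_smul_comm, smul_mul_assoc]

/-- the special pure elements act -/
theorem conj_inl_so {u : T → GL (Fin k) F} (hu : ∀ r, SO (u r)) {g : GL ((T → Fin k) × Fin k) F}
    (hg : g ∈ kerGrp hM hπ) : inl _ k F (tk u) * g * (inl _ k F (tk u))⁻¹ ∈ kerGrp hM hπ := by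
  have h2 := hM.hyp.h2
  obtain ⟨hgO, hg1, hgc, g₀, hg0, s, hs, es⟩ := hg
  set h := inl (T → Fin k) k F (tk u)
  have hhM : h ∈ M := hM.tk_so hu
  have hc : ∀ C, Commute (h : Mx T k F) (rgt _ C) := fun C => inl_commute_rgt _ C
  have hc' : ∀ C, Commute ((h⁻¹ : GL _ F) : Mx T k F) (rgt _ C) := fun C => (hc C).units_inv_left
  have key : ∀ (x : GL ((T → Fin k) × Fin k) F) C,
      ((h * x * h⁻¹ : GL _ F) : Mx T k F) * rgt _ C = (h : Mx T k F) * ((x : Mx T k F) * rgt _ C) * ((h⁻¹ : GL _ F) : Mx T k F) := by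
    intro x C
    rw [Units.val_mul, Units.val_mul, mul_assoc, (hc' C).eq]
    simp only [mul_assoc]
  have hfix : ∀ C, (h : Mx T k F) * rgt _ C * ((h⁻¹ : GL _ F) : Mx T k F) = rgt _ C := fun C => by
    rw [(hc C).eq, mul_assoc, ← Units.val_mul, mul_inv_cancel, Units.val_one, mul_one]
  refine ⟨mul_mem (mul_mem (hM.le hhM) hgO) (inv_mem (hM.le hhM)), by rw [key, hg1, hfix], ?_,
    h * g₀ * h⁻¹, ⟨mul_mem (mul_mem hhM hg0.1) (inv_mem hhM), ?_, ?_⟩, s, hs, ?_⟩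
  · rw [Units.val_mul, Units.val_mul]; exact ((hc π).mul_left hgc).mul_left (hc' π)
  · rw [Units.val_mul, Units.val_mul]; exact ((hc π).mul_left hg0.2.1).mul_left (hc' π)
  · obtain ⟨C, hC⟩ := hg0.2.2
    exact ⟨C, by rw [key, hC, hfix]⟩
  · rw [key, key, es, mul_smul_comm, smul_mul_assoc]

omit [Finite F] in
/-- a mirror of a summand, realised by a pure element of the group -/
theorem zp_mem_ker {σ : Matrix (Fin k) (Fin k) F} (hσ : Pr σ) (hπσ : π * σ = σ) {u : GL (Fin k) F}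
    (hu : inr _ k F u ∈ M) (huπ : Commute (u : Matrix (Fin k) (Fin k) F) π)
    (he : (u : Matrix (Fin k) (Fin k) F) * π = π - (2 : F) • σ ∨
      (u : Matrix (Fin k) (Fin k) F) * π = -(π - (2 : F) • σ)) : inr _ k F (zp hσ) ∈ kerGrp hM hπ := by
  have h2 := hM.hyp.h2
  have hσπ : σ * π = σ := by
    have := congrArg ad hπσ
    rwa [ad_mul, hπ.symm, hσ.symm] at this
  have e1 : mir σ * π = π - (2 : F) • σ := by rw [mir, sub_mul, one_mul, smul_mul_assoc, hσπ]
  refine ⟨inr_orth h2 (zp_mem h2 hσ), ?_, ?_, inr _ k F u, ⟨hu, ?_, (u : Matrix (Fin k) (Fin k) F) * (1 - π), ?_⟩, ?_⟩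
  · rw [inr_eq_rgt, zp_val, rgt_mul]
    congr 1
    rw [mul_sub, mul_one, e1, mir]
    abel
  · show _ = _
    rw [inr_eq_rgt, zp_val, rgt_mul, rgt_mul, e1, mir, mul_sub, mul_one, mul_smul_comm, hπσ]
  · show _ = _
    rw [inr_eq_rgt, rgt_mul, rgt_mul, huπ.eq]
  · rw [inr_eq_rgt, rgt_mul]
  · rcases he with e | e
    · exact ⟨1, one_mul 1, by rw [one_smul, inr_eq_rgt, inr_eq_rgt, zp_val, rgt_mul, rgt_mul, e, e1]⟩
    · exact ⟨-1, by ring, by rw [inr_eq_rgt, inr_eq_rgt, zp_val, rgt_mul, rgt_mul, e, e1, ← rgt_smul,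
        neg_one_smul]⟩

/-- the mirror of the whole summand -/
theorem z0_mem : inr _ k F (zp hπ) ∈ kerGrp hM hπ :=
  zp_mem_ker hM hπ hπ hπ.idem (u := 1) (by rw [map_one]; exact one_mem _) (by rw [Units.val_one]; exact Commute.one_left _)
    (Or.inr (by rw [Units.val_one, one_mul]; module))

omit [Finite F] in
/-- pure elements of the group live on the summand -/
theorem exists_suppIn_of_pur {g : GL ((T → Fin k) × Fin k) F} (hg : g ∈ kerGrp hM hπ) (hp : Pur g) :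
    ∃ C : GL (Fin k) F, SuppIn π C ∧ g = inr _ k F C := by
  have h2 := hM.hyp.h2
  haveI := hM.nonempty
  obtain ⟨C, hC⟩ := hp
  have hCt : C† * C = 1 := rgt_inj (β := T → Fin k) (by
    rw [← rgt_mul, ← rgt_ad, ← hC, ad_mul_self h2 hg.1, rgt_one])
  refine ⟨⟨C, C†, mul_eq_one_comm.1 hCt, hCt⟩, ⟨(mem_orth_iff h2).2 hCt, ?_, ?_⟩, Units.ext hC⟩
  · exact rgt_inj (β := T → Fin k) (by rw [← rgt_mul, ← hC]; exact hg.2.1)
  · refine rgt_inj (β := T → Fin k) ?_
    rw [← rgt_mul, ← rgt_mul, ← hC]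
    exact hg.2.2.1.eq

omit [Finite F] in
/-- pure involutions are mirrors -/
theorem exists_mir {g : GL ((T → Fin k) × Fin k) F} (hg : g ∈ kerGrp hM hπ) (hp : Pur g) (hgg : g * g = 1) :
    ∃ σ, Pr σ ∧ π * σ = σ ∧ (g : Mx T k F) = rgt _ (mir σ) := by
  have h2 := hM.hyp.h2
  haveI := hM.nonempty
  obtain ⟨C, ⟨hCO, hC1, hCc⟩, rfl⟩ := exists_suppIn_of_pur hM hπ hg hp
  set J := (C : Matrix (Fin k) (Fin k) F)
  have hJJ : J * J = 1 := rgt_inj (β := T → Fin k) (by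
    rw [← rgt_mul, ← inr_eq_rgt, ← Units.val_mul, hgg, Units.val_one, rgt_one])
  have hJT : J† = J := by
    calc J† = J† * (J * J) := by rw [hJJ, mul_one]
      _ = J := by rw [← mul_assoc, ad_mul_self h2 hCO, one_mul]
  refine ⟨(2 : F)⁻¹ • (1 - J), ⟨by rw [ad_smul, ad_sub, ad_one, hJT], ?_⟩, ?_, ?_⟩
  · simp only [smul_mul_smul_comm, sub_mul, mul_sub, one_mul, mul_one, hJJ]
    rw [
      show 1 - J - (J - 1) = (2 : F) • (1 - J) by module, smul_smul, mul_assoc, inv_mul_cancel₀ h2, mul_one]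
  · have e : J * π = π * J := hCc.eq
    rw [mul_smul_comm]
    congr 1
    rw [mul_sub, mul_one] at hC1 ⊢
    rw [← e]
    linear_combination (norm := abel) hC1
  · rw [inr_eq_rgt, mir, smul_smul, mul_inv_cancel₀ h2, one_smul, sub_sub_cancel]

/-- an element commuting with the mirror of a proper part is pure -/
theorem cent_pure (hπ1 : π ≠ 1) (ht : ∀ σ, Pr σ → rk σ < rk π → Triv M σ) {g : GL ((T → Fin k) × Fin k) F}
    (hg : g ∈ kerGrp hM hπ) {σ : Matrix (Fin k) (Fin k) F} (hσ : Pr σ) (hπσ : π * σ = σ) (h0 : σ ≠ 0) (h1 : σ ≠ π)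
    (hc : Commute (g : Mx T k F) (rgt _ σ)) : Pur g := by
  obtain ⟨-, hg1, hgc, g₀, hg0, s, hs, es⟩ := hg
  set P := rgt (T → Fin k) π
  set Q := rgt (T → Fin k) σ
  have hσπ : σ * π = σ := by
    have := congrArg ad hπσ
    rwa [ad_mul, hπ.symm, hσ.symm] at this
  have hPQ : P * Q = Q := by rw [rgt_mul, hπσ]
  have hQP : Q * P = Q := by rw [rgt_mul, hσπ]
  have hc0 : Commute (g₀ : Mx T k F) Q := by
    show _ = _
    calc (g₀ : Mx T k F) * Q = (g₀ : Mx T k F) * P * Q := by rw [mul_assoc, hPQ]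
      _ = Q * ((g₀ : Mx T k F) * P) := by
          rw [es, smul_mul_assoc, mul_smul_comm, mul_assoc, hPQ, ← mul_assoc, ← hc.eq, mul_assoc, hQP]
      _ = Q * (P * (g₀ : Mx T k F)) := by rw [hg0.2.1.eq]
      _ = Q * (g₀ : Mx T k F) := by rw [← mul_assoc, hQP]
  obtain ⟨D, hD⟩ := split hM (dec_of hσ hπ hπσ) (π := π) (by abel) h0 (sub_ne_zero.2 h1.symm)
    (sub_ne_zero.2 hπ1.symm) ht hg0 hc0
  refine ⟨s • (D * π) + (1 - π), ?_⟩
  rw [rgt_add, rgt_smul, ← rgt_mul, ← hD, es, smul_smul, hs, one_smul, ← hg1, ← mul_add, ← rgt_add, add_sub_cancel,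
    rgt_one, mul_one]

/-- an element commuting with a pure involution other than the mirror of the summand is pure -/
theorem cent_pure' (hπ1 : π ≠ 1) (ht : ∀ σ, Pr σ → rk σ < rk π → Triv M σ) {g j : GL ((T → Fin k) × Fin k) F}
    (hg : g ∈ kerGrp hM hπ) (hj : j ∈ kerGrp hM hπ) (hjp : Pur j) (hjj : j * j = 1) (hj1 : j ≠ 1)
    (hjz : j ≠ inr _ k F (zp hπ)) (hc : Commute g j) : Pur g := by
  have h2 := hM.hyp.h2
  obtain ⟨σ, hσ, hπσ, hv⟩ := exists_mir hM hπ hj hjp hjj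
  refine cent_pure hM hπ hπ1 ht hg hσ hπσ ?_ ?_ ?_
  · rintro rfl
    exact hj1 (Units.ext (by rw [hv, mir, smul_zero, sub_zero, rgt_one, Units.val_one]))
  · rintro rfl
    exact hjz (Units.ext hv)
  · have e : rgt (T → Fin k) σ = (2 : F)⁻¹ • (1 - (j : Mx T k F)) := by
      rw [hv, mir, rgt_sub, rgt_one, rgt_smul, sub_sub_cancel, inv_smul_smul₀ h2]
    rw [e]
    exact ((Commute.one_right _).sub_right (congrArg Units.val hc.eq : _)).smul_right _

omit [Finite F] in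
/-- conjugate mirrors intertwine their summands -/
theorem mir_conj {g : GL ((T → Fin k) × Fin k) F} {j j' : GL ((T → Fin k) × Fin k) F} (h : g * j * g⁻¹ = j')
    {σ σ' : Matrix (Fin k) (Fin k) F} (hj : (j : Mx T k F) = rgt _ (mir σ)) (hj' : (j' : Mx T k F) = rgt _ (mir σ')) :
    (g : Mx T k F) * rgt _ σ = rgt _ σ' * (g : Mx T k F) := by
  have h2 := hM.hyp.h2
  have e := congrArg Units.val (mul_inv_eq_iff_eq_mul.1 h)
  simp only [Units.val_mul, hj, hj', mir, rgt_sub, rgt_one, rgt_smul, mul_sub, sub_mul, mul_one, one_mul,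
    mul_smul_comm, smul_mul_assoc, sub_right_inj] at e
  exact smul_right_injective _ h2 e

omit [Finite F] in
/-- the rank of a proper part is small -/
theorem rk_part (hπ1 : π ≠ 1) {σ : Matrix (Fin k) (Fin k) F} (hσ : Pr σ) (hπσ : π * σ = σ) (h1 : σ ≠ π) :
    rk σ + 2 ≤ k := by
  have hsub := hπ.sub hσ hπσ
  have e := rk_add hsub hσ (by rw [sub_mul, hπσ, hσ.idem, sub_self])
  rw [sub_add_cancel] at e
  have e' := rk_one_sub hπ
  rw [Fintype.card_fin] at e'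
  have : rk (π - σ) ≠ 0 := fun h => h1 (sub_eq_zero.1 (eq_zero_of_rk h)).symm
  have : rk (1 - π) ≠ 0 := fun h => hπ1 (sub_eq_zero.1 (eq_zero_of_rk h)).symm
  omega

/-- **the principle**: conjugating a pure involution to a pure element only happens by pure elements -/
theorem principle (hπ1 : π ≠ 1) (ht : ∀ σ, Pr σ → rk σ < rk π → Triv M σ) {σ : Matrix (Fin k) (Fin k) F}
    (hσ : Pr σ) (hπσ : π * σ = σ) (h0 : σ ≠ 0) (h1 : σ ≠ π) {j r : GL ((T → Fin k) × Fin k) F}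
    (hj : (j : Mx T k F) = rgt _ (mir σ)) (hr : r ∈ kerGrp hM hπ) (hp : Pur (r * j * r⁻¹)) : Pur r := by
  classical
  have h2 := hM.hyp.h2
  haveI := hM.nonempty
  have hsub := hπ.sub hσ hπσ
  have hri : Pur r⁻¹ := by
    refine pure_of_small hM hσ hsub (rk_part hM hπ hπ1 hσ hπσ h1)
      (rk_part hM hπ hπ1 hsub (by rw [mul_sub, hπ.idem, hπσ]) fun e => h0 (sub_eq_self.1 e)) fun t w hw => ?_
    set h := inl (T → Fin k) k F (rt t w)
    have hcL : r⁻¹ * (h * r * h⁻¹) ∈ kerGrp hM hπ := by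
      refine mul_mem (inv_mem hr) ?_
      have := conj_inl_mem hM hπ (u := Pi.mulSingle t w) (fun s => by
        rcases eq_or_ne s t with rfl | hs
        · rwa [Pi.mulSingle_eq_same]
        · rw [Pi.mulSingle_eq_of_ne hs]; exact one_mem _) hr
      rwa [← TW.rt_eq] at this
    have hhj : Commute h j := Units.ext (by rw [Units.val_mul, Units.val_mul, hj]; exact (inl_commute_rgt _ _).eq)
    have hhy : Commute h (r * j * r⁻¹) := by
      obtain ⟨C, hC⟩ := hp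
      generalize r * j * r⁻¹ = y at hC ⊢
      exact Units.ext (by rw [Units.val_mul, Units.val_mul, hC]; exact (inl_commute_rgt _ C).eq)
    have hcj : r⁻¹ * (h * r * h⁻¹) * j * (r⁻¹ * (h * r * h⁻¹))⁻¹ = j := by
      calc r⁻¹ * (h * r * h⁻¹) * j * (r⁻¹ * (h * r * h⁻¹))⁻¹ = r⁻¹ * (h * (r * (h⁻¹ * j * h) * r⁻¹) * h⁻¹) * r := by
            group
        _ = r⁻¹ * (h * (r * j * r⁻¹) * h⁻¹) * r := by
            rw [show h⁻¹ * j * h = j by rw [mul_assoc, ← hhj.eq, inv_mul_cancel_left]]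
        _ = r⁻¹ * (r * j * r⁻¹) * r := by rw [hhy.eq, mul_inv_cancel_right]
        _ = j := by group
    have hcσ := mir_conj hM hπ hcj hj hj
    have hpc := cent_pure hM hπ hπ1 ht hcL hσ hπσ h0 h1 hcσ
    obtain ⟨C, hC, hCe⟩ := exists_suppIn_of_pur hM hπ hcL hpc
    have hCσ : Commute (C : Matrix (Fin k) (Fin k) F) σ := rgt_inj (β := T → Fin k) (by
      rw [← rgt_mul, ← rgt_mul, ← inr_eq_rgt, ← hCe]
      exact hcσ)
    refine ⟨C, ?_, hCσ, hC.2.2.sub_right hCσ, ?_⟩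
    · rw [inv_inv, ← hCe]; group
    · rw [sub_sub, add_sub_cancel, hC.2.1]
  obtain ⟨C, hC⟩ := hri
  refine ⟨C†, ?_⟩
  have := inv_val h2 (inv_mem hr.1 : r⁻¹ ∈ Orth ((T → Fin k) × Fin k) F)
  rw [inv_inv, hC, rgt_ad] at this
  exact this

end Kernel

end Cfsg.Agent.MaxCl.TEv
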