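/-
Every summand other than everything has only pure elements: summands of rank at least three by pairs of
non-conjugate pure involutions, planes by the set of conjugates of two reflections, which is half the group.
-/
import Cfsg.Agent.Lib.MaxCl.TEvKernel
import Cfsg.Agent.Lib.MaxCl.TEvAbelian
import Cfsg.Agent.Lib.MaxCl.TOrthTriv
import Cfsg.Agent.Lib.Invol.Basic

set_option autoImplicit false
set_option linter.unusedSectionVars false

namespace Cfsg.Agent.MaxCl.TEv

open Matrix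
open TOrth (rk rk_zero rk_one eq_zero_of_rk exists_nonsquare inl inr inl_val inr_val kr_val rgt rgt_mul rgt_add rgt_smul
  rgt_one rgt_zero rgt_sub rgt_inj inr_eq_rgt el InR Triv triv_zero commute_one_sub inl_commute_rgt rk_of_conj Pur Mx
  mir mir_mul pur_one pur_inr conj_of_odd exists_common_kernel)
open TW (tk pm pg rt rid spl sl Wr)
open scoped MatrixGroups Kronecker

variable {F : Type*} [Field F] {k : ℕ} [Wt (Fin k) F] {T : Type} [Fintype T] [DecidableEq T] [Finite F]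
  {M : Subgroup (GL ((T → Fin k) × Fin k) F)} (hM : Ctx T k F M) {π : Matrix (Fin k) (Fin k) F} (hπ : Pr π)
include hM hπ

/-- the mirror of a line of the summand is available -/
theorem line_mem_ker (hπ1 : π ≠ 1) {a : Fin k → F} (ha : a ⬝ʷ a ≠ 0) (hπa : π *ᵥ a = a) :
    inr _ k F (rf a) ∈ kerGrp hM hπ := by
  obtain ⟨z, hz', hz⟩ := exists_aniso hM.hyp.h2 hπ.one_sub (sub_ne_zero.2 (Ne.symm hπ1))
  have hπz : π *ᵥ z = 0 := by rw [← hz', Matrix.mulVec_mulVec, hπ.mul_one_sub, Matrix.zero_mulVec]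
  have hzπ : pj z * π = 0 := hπ.swap (pr_pj hz) (mul_pj_zero hπz)
  have haπ : pj a * π = pj a := by
    have := congrArg ad (mul_pj hπa)
    rwa [ad_mul, hπ.symm, (pr_pj ha).symm] at this
  rw [show rf a = zp (pr_pj ha) from rf_eq_zp ha]
  refine zp_mem_ker hM hπ (pr_pj ha) (mul_pj hπa) (u := rf a * rf z) (hM.inr_rf_rf ha hz) ?_ (Or.inl ?_)
  · rw [Units.val_mul, rf_val ha, rf_val hz]
    exact ((Commute.one_left _).sub_left (Commute.smul_left (haπ.trans (mul_pj hπa).symm) _)).mul_left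
      ((Commute.one_left _).sub_left (Commute.smul_left (hzπ.trans (mul_pj_zero hπz).symm) _))
  · rw [Units.val_mul, rf_val ha, rf_val hz, mul_assoc, sub_mul 1 _ π, smul_mul_assoc, hzπ, smul_zero, sub_zero,
      one_mul, sub_mul, one_mul, smul_mul_assoc, haπ]

/-- mirrors of lines of different classes are not conjugate -/
theorem line_not_conj (hπ1 : π ≠ 1) (ht : ∀ σ, Pr σ → rk σ < rk π → Triv M σ) (h2r : 2 ≤ rk π) {a b : Fin k → F}
    (ha : a ⬝ʷ a ≠ 0) (hb : b ⬝ʷ b ≠ 0) (hπa : π *ᵥ a = a) (hπb : π *ᵥ b = b)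
    (hsq : ¬ IsSquare ((a ⬝ʷ a) * (b ⬝ʷ b))) {g : GL ((T → Fin k) × Fin k) F} (hg : g ∈ kerGrp hM hπ) :
    g * inr _ k F (rf a) * g⁻¹ ≠ inr _ k F (rf b) := by
  intro e
  have h2 := hM.hyp.h2
  haveI := hM.nonempty
  have hja : (inr (T → Fin k) k F (rf a) : Mx T k F) = rgt _ (mir (pj a)) := by
    rw [inr_eq_rgt, rf_val ha]; rfl
  have hjb : (inr (T → Fin k) k F (rf b) : Mx T k F) = rgt _ (mir (pj b)) := by
    rw [inr_eq_rgt, rf_val hb]; rfl
  have ha0 : pj a ≠ 0 := fun h => by have := rk_pj ha; rw [h, rk_zero] at this; omega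
  have haπ : pj a ≠ π := fun h => by have := rk_pj ha; rw [h] at this; omega
  have hp := principle hM hπ hπ1 ht (pr_pj ha) (mul_pj hπa) ha0 haπ hja hg (by rw [e]; exact pur_inr _)
  obtain ⟨C, hC, rfl⟩ := exists_suppIn_of_pur hM hπ hg hp
  have e1 := mir_conj hM hπ e hja hjb
  rw [inr_eq_rgt, rgt_mul, rgt_mul] at e1
  have e2 := conj_pj h2 hC.1 a
  rw [rgt_inj e1, mul_assoc, mul_ad_self h2 hC.1, mul_one] at e2
  obtain ⟨c, hc⟩ := exists_eq_smul_of_pj_eq (a := b) (b := act C a) (by rw [dot_act h2 hC.1]; exact ha) e2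
  refine hsq ⟨(b ⬝ʷ b) * c, ?_⟩
  rw [← dot_act h2 hC.1 a a, ← hc, smul_bf, bf_smul, smul_eq_mul, smul_eq_mul]
  ring

/-- the restriction group is pure for rank at least three -/
theorem triv_big (hπ1 : π ≠ 1) (ht : ∀ σ, Pr σ → rk σ < rk π → Triv M σ) (h3 : 3 ≤ rk π) : Triv M π := by
  classical
  have h2 := hM.hyp.h2
  haveI := hM.nonempty
  set L := kerGrp hM hπ
  obtain ⟨e, hπe, he⟩ := exists_value_pr h2 hπ (by omega) (1 : F)
  have he0 : e ⬝ʷ e ≠ 0 := by rw [he]; exact one_ne_zero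
  obtain ⟨c, hc⟩ := exists_nonsquare h2
  obtain ⟨v, hπv, hv⟩ := exists_value_pr h2 hπ (by omega) c
  have hv0 : v ⬝ʷ v ≠ 0 := by rw [hv]; exact fun h => hc (h ▸ ⟨0, (mul_zero 0).symm⟩)
  have hxL := line_mem_ker hM hπ hπ1 he0 hπe
  have hyL := line_mem_ker hM hπ hπ1 hv0 hπv
  have hz0 := z0_mem hM hπ
  set x := inr (T → Fin k) k F (rf e) with hx
  set y := inr (T → Fin k) k F (rf v) with hy
  set z₀ := inr (T → Fin k) k F (zp hπ) with hz
  have hxv : (x : Mx T k F) = rgt _ (mir (pj e)) := by rw [hx, inr_eq_rgt, rf_val he0]; rfl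
  have hyv : (y : Mx T k F) = rgt _ (mir (pj v)) := by rw [hy, inr_eq_rgt, rf_val hv0]; rfl
  have hzx : ((z₀ * x : GL _ F) : Mx T k F) = rgt _ (mir (π - pj e)) := by
    rw [Units.val_mul, hxv, hz, inr_eq_rgt, rgt_mul, zp_val, mir_mul, mul_pj hπe]
    congr 2
    module
  have hrx := rk_sub_pj hπ he0 hπe
  have hNC0 : ∀ g ∈ L, (g : Mx T k F) * rgt _ (pj e) ≠ rgt _ (π - pj e) * (g : Mx T k F) := fun g _ h => by
    have := rk_of_conj h
    rw [rk_pj he0] at this
    omega
  have hNCz : ∀ g ∈ L, (g : Mx T k F) * rgt _ (π - pj e) ≠ rgt _ (pj v) * (g : Mx T k F) := fun g _ h => by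
    have := rk_of_conj h
    rw [rk_pj hv0] at this
    omega
  have hv1 : pj v ≠ 0 := fun h => by have := rk_pj hv0; rw [h, rk_zero] at this; omega
  have hvπ : pj v ≠ π := fun h => by have := rk_pj hv0; rw [h] at this; omega
  have he1 : pj e ≠ 0 := fun h => by have := rk_pj he0; rw [h, rk_zero] at this; omega
  have heπ : pj e ≠ π := fun h => by have := rk_pj he0; rw [h] at this; omega
  refine triv_of_pure hM hπ fun r hr => ?_
  refine principle hM hπ hπ1 ht (pr_pj hv0) (mul_pj hπv) hv1 hvπ (j := y) hyv hr ?_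
  set w := r * y * r⁻¹ with hw
  have hwL : w ∈ L := mul_mem (mul_mem hr hyL) (inv_mem hr)
  have hxx : x * x = 1 := by rw [hx, ← map_mul, rf_mul_self, map_one]
  have hyy : y * y = 1 := by rw [hy, ← map_mul, rf_mul_self, map_one]
  have hzz : z₀ * z₀ = 1 := by rw [hz, ← map_mul, zp_mul_self, map_one]
  have hww : w * w = 1 := by
    rw [hw, show r * y * r⁻¹ * (r * y * r⁻¹) = r * (y * y) * r⁻¹ by group, hyy]
    group
  have hzc : ∀ g ∈ L, Commute z₀ g := fun g hg => Units.ext (by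
    rw [Units.val_mul, Units.val_mul, hz, inr_eq_rgt, zp_val, mir, rgt_sub, rgt_one, rgt_smul]
    exact ((Commute.one_left _).sub_left (hg.2.2.1.symm.smul_left _)).eq)
  rcases Nat.even_or_odd' (orderOf (x * w)) with ⟨m, hm | hm⟩
  · have hm0 : m ≠ 0 := fun h => by
      have := orderOf_pos (x * w)
      omega
    obtain ⟨hj2, hjx, hjw⟩ := Invol.commute_pow_half hxx hww hm0 hm
    set j := (x * w) ^ m with hj
    have hjL : j ∈ L := pow_mem (mul_mem hxL hwL) m
    have hjj : j * j = 1 := by rw [← pow_two, ← hj2, pow_orderOf_eq_one]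
    have hj1 : j ≠ 1 := fun h => by rw [h, orderOf_one] at hj2; omega
    have hjp : Pur j := cent_pure hM hπ hπ1 ht hjL (pr_pj he0) (mul_pj hπe) he1 heπ
      (mir_conj hM hπ (mul_inv_eq_iff_eq_mul.2 hjx.eq) hxv hxv)
    by_cases hjz : j = z₀
    · exfalso
      rcases Nat.even_or_odd' m with ⟨l, hl | hl⟩
      · set u := (x * w) ^ l with hu
        have e1 : x * u = u⁻¹ * x := Invol.pow_mul_inv_eq' hxx hww l
        have e2 : u * x * u⁻¹ = z₀ * x := by
          rw [← hjz, hj, hl, two_mul, pow_add, ← hu]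
          calc u * x * u⁻¹ = u * (u * (u⁻¹ * x)) * u⁻¹ := by group
            _ = _ := by rw [← e1]; group
        exact hNC0 u (pow_mem (mul_mem hxL hwL) l) (mir_conj hM hπ e2 hxv hzx)
      · have hodd : Odd (orderOf (z₀ * x * w)) := by
          refine Odd.of_dvd_nat (⟨l, hl⟩ : Odd m) (orderOf_dvd_of_pow_eq_one ?_)
          rw [mul_assoc, (hzc _ (mul_mem hxL hwL)).mul_pow, ← hj, hjz, hl, pow_succ, pow_mul, pow_two, hzz, one_pow,
            one_mul, hzz]
        obtain ⟨c, hc', hce⟩ := conj_of_odd L (mul_mem hz0 hxL) hwL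
          (by rw [mul_assoc z₀, ← mul_assoc x, ← (hzc x hxL).eq, mul_assoc z₀ x, hxx, mul_one, hzz]) hww hodd
        refine hNCz (r⁻¹ * c) (mul_mem (inv_mem hr) hc') (mir_conj hM hπ (j := z₀ * x) (j' := y) ?_ hzx hyv)
        rw [show r⁻¹ * c * (z₀ * x) * (r⁻¹ * c)⁻¹ = r⁻¹ * (c * (z₀ * x) * c⁻¹) * r by group, hce, hw]
        group
    · exact cent_pure' hM hπ hπ1 ht hwL hjL hjp hjj hj1 hjz hjw.symm
  · exfalso
    obtain ⟨d, hd', hde⟩ := conj_of_odd L hxL hwL hxx hww ⟨m, hm⟩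
    refine line_not_conj hM hπ hπ1 ht (by omega) he0 hv0 hπe hπv (by rw [he, hv, one_mul]; exact hc)
      (mul_mem (inv_mem hr) hd') ?_
    rw [← hx, ← hy, show r⁻¹ * d * x * (r⁻¹ * d)⁻¹ = r⁻¹ * (d * x * d⁻¹) * r by group, hde, hw]
    group

omit hM in
/-- isometries of a plane fixing a line -/
theorem plane_signs (h2 : (2 : F) ≠ 0) {a b : Fin k → F} (ha : a ⬝ʷ a ≠ 0) (hb : b ⬝ʷ b ≠ 0) (hab : a ⬝ʷ b = 0)
    (hsum : π = pj a + pj b) {C : GL (Fin k) F} (hC : SuppIn π C)
    (hc : Commute (C : Matrix (Fin k) (Fin k) F) (pj a)) :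
    C = 1 ∨ C = rf a ∨ C = rf b ∨ C = rf a * rf b := by
  have hcb : Commute (C : Matrix (Fin k) (Fin k) F) (pj b) := by
    rw [show pj b = π - pj a by rw [hsum]; abel]; exact hC.2.2.sub_right hc
  have hsign : ∀ z : Fin k → F, z ⬝ʷ z ≠ 0 → Commute (C : Matrix (Fin k) (Fin k) F) (pj z) →
      ∃ s : F, (s = 1 ∨ s = -1) ∧ (C : Matrix (Fin k) (Fin k) F) * pj z = s • pj z := by
    intro z hz hcz
    have hza : (C : Matrix (Fin k) (Fin k) F) *ᵥ z = ((z ⬝ʷ z)⁻¹ * (z ⬝ʷ act C z)) • z := by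
      rw [← pj_mulVec, act_apply, Matrix.mulVec_mulVec, ← hcz.eq, ← Matrix.mulVec_mulVec, pj_self hz]
    refine ⟨(z ⬝ʷ z)⁻¹ * (z ⬝ʷ act C z), mul_self_eq_one_iff.1 ?_, ?_⟩
    · have e := dot_act h2 hC.1 z z
      rw [act_apply, hza, smul_bf, bf_smul, smul_eq_mul, smul_eq_mul, ← mul_assoc] at e
      exact mul_right_cancel₀ hz (e.trans (one_mul _).symm)
    · rw [pj, mul_smul_comm, mul_ov, hza, smul_ov, smul_comm]
  obtain ⟨s, hs, ea⟩ := hsign a ha hc
  obtain ⟨t, ht, eb⟩ := hsign b hb hcb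
  have e3 : (C : Matrix (Fin k) (Fin k) F) = s • pj a + t • pj b + (1 - π) := by
    rw [← ea, ← eb, ← hC.2.1, hsum, ← mul_add, ← mul_add, add_sub_cancel, mul_one]
  have eab : ((rf a * rf b : GL (Fin k) F) : Matrix (Fin k) (Fin k) F) = 1 - (2 : F) • pj a - (2 : F) • pj b := by
    rw [Units.val_mul, rf_val ha, rf_val hb]
    simp only [sub_mul, mul_sub, one_mul, mul_one, smul_mul_smul_comm, pj_mul_pj hab, smul_zero, sub_zero]
  rcases hs with rfl | rfl <;> rcases ht with rfl | rfl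
  · exact Or.inl (Units.ext (by rw [e3, Units.val_one, hsum]; module))
  · exact Or.inr (Or.inr (Or.inl (Units.ext (by rw [e3, rf_val hb, hsum]; module))))
  · exact Or.inr (Or.inl (Units.ext (by rw [e3, rf_val ha, hsum]; module)))
  · exact Or.inr (Or.inr (Or.inr (Units.ext (by rw [e3, eab, hsum]; module))))

/-- the restriction group is pure for planes -/
theorem triv_two (hπ1 : π ≠ 1) (ht : ∀ σ, Pr σ → rk σ < rk π → Triv M σ) (hd : rk π = 2) : Triv M π := by
  classical
  have h2 := hM.hyp.h2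
  haveI := hM.nonempty
  haveI := Fintype.ofFinite F
  set L := kerGrp hM hπ
  obtain ⟨e, hπe, he⟩ := exists_value_pr h2 hπ (by omega) (1 : F)
  have he0 : e ⬝ʷ e ≠ 0 := by rw [he]; exact one_ne_zero
  obtain ⟨c, hc⟩ := exists_nonsquare h2
  obtain ⟨v, hπv, hv⟩ := exists_value_pr h2 hπ (by omega) c
  have hv0 : v ⬝ʷ v ≠ 0 := by rw [hv]; exact fun h => hc (h ▸ ⟨0, (mul_zero 0).symm⟩)
  have hcompl : ∀ a, a ⬝ʷ a ≠ 0 → π *ᵥ a = a → ∃ b, b ⬝ʷ b ≠ 0 ∧ π *ᵥ b = b ∧ a ⬝ʷ b = 0 ∧ π = pj a + pj b := by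
    intro a ha hπa
    have := rk_sub_pj hπ ha hπa
    obtain ⟨b, hb, hσb, hσ⟩ := eq_pj_of_rk h2 (hπ.sub (pr_pj ha) (mul_pj hπa)) (by omega)
    obtain ⟨hπb, hab⟩ := fix_sub_pj hπ ha hπa hσb
    exact ⟨b, hb, hπb, hab, by rw [← hσ]; abel⟩
  obtain ⟨f, hf, hπf, hef, hsum⟩ := hcompl e he0 hπe
  have hxL := line_mem_ker hM hπ hπ1 he0 hπe
  have hyL := line_mem_ker hM hπ hπ1 hv0 hπv
  have hzL := z0_mem hM hπ
  set x := inr (T → Fin k) k F (rf e) with hx
  set y := inr (T → Fin k) k F (rf v) with hy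
  set z₀ := inr (T → Fin k) k F (zp hπ) with hz
  have hxv : (x : Mx T k F) = rgt _ (mir (pj e)) := by rw [hx, inr_eq_rgt, rf_val he0]; rfl
  have hxx : x * x = 1 := by rw [hx, ← map_mul, rf_mul_self, map_one]
  have hyy : y * y = 1 := by rw [hy, ← map_mul, rf_mul_self, map_one]
  have hxi : x⁻¹ = x := inv_eq_of_mul_eq_one_right hxx
  have hzz : z₀ * z₀ = 1 := by rw [hz, ← map_mul, zp_mul_self, map_one]
  have hzc : ∀ g ∈ L, Commute z₀ g := fun g hg => Units.ext (by
    rw [Units.val_mul, Units.val_mul, hz, inr_eq_rgt, zp_val, mir, rgt_sub, rgt_one, rgt_smul]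
    exact ((Commute.one_left _).sub_left (hg.2.2.1.symm.smul_left _)).eq)
  have hz1 : z₀ ≠ 1 := fun h => by
    have h' : mir π = 1 := rgt_inj (β := T → Fin k) (by rw [rgt_one, ← zp_val hπ, ← inr_eq_rgt, ← hz, h, Units.val_one])
    have hπ0 : π = 0 := (smul_eq_zero.1 (sub_eq_self.1 h')).resolve_left h2
    rw [hπ0, rk_zero] at hd
    omega
  -- centralisers of mirrors
  have hline : ∀ a, a ⬝ʷ a ≠ 0 → π *ᵥ a = a →
      inr (T → Fin k) k F (rf a) ≠ 1 ∧ inr (T → Fin k) k F (rf a) ≠ z₀ := by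
    intro a ha _
    have hval : (inr (T → Fin k) k F (rf a) : Mx T k F) = rgt _ (mir (pj a)) := by rw [inr_eq_rgt, rf_val ha]; rfl
    have h2' : ∀ σ : Matrix (Fin k) (Fin k) F, rgt (T → Fin k) (mir (pj a)) = rgt _ (mir σ) → pj a = σ := fun σ h => by
      have := rgt_inj (β := T → Fin k) h
      simp only [mir, sub_right_inj] at this
      exact smul_right_injective _ h2 this
    refine ⟨fun h => ?_, fun h => ?_⟩
    · have := h2' 0 (by rw [← hval, h, Units.val_one, mir, smul_zero, sub_zero, rgt_one])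
      have h' := rk_pj ha
      rw [this, rk_zero] at h'
      omega
    · have := h2' π (by rw [← hval, h, hz, inr_eq_rgt, zp_val])
      have h' := rk_pj ha
      rw [this] at h'
      omega
  have hcent : ∀ a, a ⬝ʷ a ≠ 0 → π *ᵥ a = a → ∀ g ∈ L, Commute g (inr _ k F (rf a)) →
      g = 1 ∨ g = z₀ ∨ g = inr _ k F (rf a) ∨ g = z₀ * inr _ k F (rf a) := by
    intro a ha hπa g hg hga
    obtain ⟨hj1, hjz⟩ := hline a ha hπa
    have hgp : Pur g := cent_pure' hM hπ hπ1 ht hg (line_mem_ker hM hπ hπ1 ha hπa) (pur_inr _)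
      (by rw [← map_mul, rf_mul_self, map_one]) hj1 hjz hga
    obtain ⟨C, hC, rfl⟩ := exists_suppIn_of_pur hM hπ hg hgp
    have hCa : Commute (C : Matrix (Fin k) (Fin k) F) (pj a) := by
      have e1 := congrArg Units.val hga.eq
      rw [Units.val_mul, Units.val_mul, inr_eq_rgt, inr_eq_rgt, rgt_mul, rgt_mul, rf_val ha] at e1
      have e2 := rgt_inj (β := T → Fin k) e1
      simp only [mul_sub, sub_mul, mul_one, one_mul, mul_smul_comm, smul_mul_assoc, sub_right_inj] at e2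
      exact smul_right_injective _ h2 e2
    obtain ⟨b, hb, -, hab, hab'⟩ := hcompl a ha hπa
    have hz' : zp hπ = rf a * rf b := Units.ext (by
      rw [Units.val_mul, rf_val ha, rf_val hb, zp_val, mir, hab']
      simp only [sub_mul, mul_sub, one_mul, mul_one, smul_mul_smul_comm, pj_mul_pj hab, smul_zero, sub_zero]
      module)
    rcases plane_signs hπ h2 ha hb hab hab' hC hCa with rfl | rfl | rfl | rfl
    · exact Or.inl (map_one _)
    · exact Or.inr (Or.inr (Or.inl rfl))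
    · refine Or.inr (Or.inr (Or.inr ?_))
      rw [hz, ← map_mul, hz', (rf_commute h2 hab).eq, mul_assoc, rf_mul_self, mul_one]
    · exact Or.inr (Or.inl (by rw [hz, hz']))
  -- the conjugates of the two mirrors
  let K : Set (GL ((T → Fin k) × Fin k) F) := {g | ∃ r ∈ L, g = r * x * r⁻¹ ∨ g = r * y * r⁻¹}
  have hKfacts : ∀ g ∈ K, g ∈ L ∧ g * g = 1 ∧ g ≠ 1 ∧ g ≠ z₀ ∧
      ∀ d ∈ L, Commute d g → d = 1 ∨ d = z₀ ∨ d = g ∨ d = z₀ * g := by
    have key : ∀ a, a ⬝ʷ a ≠ 0 → π *ᵥ a = a → ∀ r ∈ L, ∀ g, g = r * inr _ k F (rf a) * r⁻¹ →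
        g ∈ L ∧ g * g = 1 ∧ g ≠ 1 ∧ g ≠ z₀ ∧ ∀ d ∈ L, Commute d g → d = 1 ∨ d = z₀ ∨ d = g ∨ d = z₀ * g := by
      intro a ha hπa r hr g hg
      set j := inr (T → Fin k) k F (rf a) with hj
      have hjL := line_mem_ker hM hπ hπ1 ha hπa
      obtain ⟨hj1, hjz⟩ := hline a ha hπa
      have hzr : r * z₀ * r⁻¹ = z₀ := by rw [← (hzc r hr).eq, mul_inv_cancel_right]
      subst hg
      refine ⟨mul_mem (mul_mem hr hjL) (inv_mem hr), ?_, ?_, ?_, ?_⟩
      · rw [show r * j * r⁻¹ * (r * j * r⁻¹) = r * (j * j) * r⁻¹ by group, hj, ← map_mul, rf_mul_self, map_one]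
        group
      · intro h
        refine hj1 ?_
        calc j = r⁻¹ * (r * j * r⁻¹) * r := by group
          _ = 1 := by rw [h]; group
      · intro h
        rw [← hzr] at h
        exact hjz (mul_left_cancel (mul_right_cancel h))
      · intro d hd hdg
        have hc' : Commute (r⁻¹ * d * r) j := by
          show _ = _
          calc r⁻¹ * d * r * j = r⁻¹ * (d * (r * j * r⁻¹)) * r := by group
            _ = r⁻¹ * (r * j * r⁻¹ * d) * r := by rw [hdg.eq]
            _ = j * (r⁻¹ * d * r) := by group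
        have hd' : d = r * (r⁻¹ * d * r) * r⁻¹ := by group
        rcases hcent a ha hπa _ (mul_mem (mul_mem (inv_mem hr) hd) hr) hc' with h | h | h | h
        · exact Or.inl (by rw [hd', h]; group)
        · exact Or.inr (Or.inl (by rw [hd', h, hzr]))
        · exact Or.inr (Or.inr (Or.inl (by rw [hd', h])))
        · refine Or.inr (Or.inr (Or.inr ?_))
          conv_lhs => rw [hd', h]
          conv_rhs => rw [← hzr, hj]
          group
    rintro g ⟨r, hr, h | h⟩
    · exact key e he0 hπe r hr g h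
    · exact key v hv0 hπv r hr g h
  have hKconj : ∀ r ∈ L, ∀ g ∈ K, r * g * r⁻¹ ∈ K := by
    rintro r hr g ⟨s, hs, h | h⟩
    · exact ⟨r * s, mul_mem hr hs, Or.inl (by rw [h]; group)⟩
    · exact ⟨r * s, mul_mem hr hs, Or.inr (by rw [h]; group)⟩
  -- half of the group
  set A := (L : Set (GL ((T → Fin k) × Fin k) F)).toFinite.toFinset with hA
  have memA : ∀ g, g ∈ A ↔ g ∈ L := fun g => by rw [hA, Set.Finite.mem_toFinset]; rfl
  set KA := A.filter (fun g => g ∈ K) with hKA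
  have hhalf : A.card ≤ 2 * KA.card := by
    have himage : ∀ j, (j = x ∨ j = y) → A.card ≤ 4 * (A.image fun r => r * j * r⁻¹).card ∧
        (A.image fun r => r * j * r⁻¹) ⊆ KA := by
      intro j hj
      refine ⟨Finset.card_le_mul_card_image A 4 fun b hb => ?_, fun b hb => ?_⟩
      · obtain ⟨r₀, hr₀, rfl⟩ := Finset.mem_image.1 hb
        refine (Finset.card_le_card (t := {r₀, r₀ * z₀, r₀ * j, r₀ * (z₀ * j)}) fun r hr => ?_).trans
          Finset.card_le_four
        obtain ⟨hrA, hre⟩ := Finset.mem_filter.1 hr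
        have hc' : Commute (r₀⁻¹ * r) j := by
          show _ = _
          calc r₀⁻¹ * r * j = r₀⁻¹ * (r * j * r⁻¹) * r := by group
            _ = j * (r₀⁻¹ * r) := by rw [hre]; group
        have hrr := mul_mem (inv_mem ((memA _).1 hr₀)) ((memA _).1 hrA)
        have h4 : r₀⁻¹ * r = 1 ∨ r₀⁻¹ * r = z₀ ∨ r₀⁻¹ * r = j ∨ r₀⁻¹ * r = z₀ * j := by
          rcases hj with rfl | rfl
          · exact hcent e he0 hπe _ hrr hc'
          · exact hcent v hv0 hπv _ hrr hc'
        simp only [inv_mul_eq_iff_eq_mul, mul_one] at h4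
        simpa using h4
      · obtain ⟨r, hr, rfl⟩ := Finset.mem_image.1 hb
        have hjK : r * j * r⁻¹ ∈ K := by
          rcases hj with rfl | rfl
          · exact ⟨r, (memA r).1 hr, Or.inl rfl⟩
          · exact ⟨r, (memA r).1 hr, Or.inr rfl⟩
        exact Finset.mem_filter.2 ⟨(memA _).2 (hKfacts _ hjK).1, hjK⟩
    obtain ⟨hc1, hs1⟩ := himage x (Or.inl rfl)
    obtain ⟨hc2, hs2⟩ := himage y (Or.inr rfl)
    have hdisj : Disjoint (A.image fun r => r * x * r⁻¹) (A.image fun r => r * y * r⁻¹) := by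
      rw [Finset.disjoint_left]
      intro b hb hb'
      obtain ⟨r, hr, rfl⟩ := Finset.mem_image.1 hb
      obtain ⟨r', hr', he'⟩ := Finset.mem_image.1 hb'
      refine line_not_conj hM hπ hπ1 ht (by omega) he0 hv0 hπe hπv (by rw [he, hv, one_mul]; exact hc)
        (mul_mem (inv_mem ((memA _).1 hr')) ((memA _).1 hr)) ?_
      rw [← hx, ← hy, show r'⁻¹ * r * x * (r'⁻¹ * r)⁻¹ = r'⁻¹ * (r * x * r⁻¹) * r' by group, ← he']
      group
    have hu := Finset.card_union_of_disjoint hdisj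
    have := Finset.card_le_card (Finset.union_subset hs1 hs2)
    omega
  -- two mirrors never make a mirror
  have hcd : ∀ a ∈ K, ∀ b ∈ K, a * b ∉ K := by
    intro a ha b hb hab
    obtain ⟨-, haa, -, -, hcenta⟩ := hKfacts a ha
    obtain ⟨hbL, hbb, hb1, hbz, -⟩ := hKfacts b hb
    obtain ⟨-, habab, hab1, habz, -⟩ := hKfacts _ hab
    have hcomm : Commute b a := by
      show _ = _
      calc b * a = a * (a * b * (a * b)) * b := by
            rw [show a * (a * b * (a * b)) * b = a * a * (b * a) * (b * b) by group, haa, hbb, one_mul, mul_one]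
        _ = a * b := by rw [habab, mul_one]
    rcases hcenta b hbL hcomm with h | h | h | h
    · exact hb1 h
    · exact hbz h
    · exact hab1 (by rw [h, haa])
    · refine habz ?_
      rw [h, ← mul_assoc, ← (hzc a (hKfacts a ha).1).eq, mul_assoc, haa, mul_one]
  have hcover : ∀ a ∈ K, ∀ g ∈ L, g ∉ K → ∃ b ∈ K, g = a * b := by
    intro a ha g hg hgK
    have hinj : Function.Injective (fun b => a * b) := mul_right_injective a
    have hsub : KA.image (fun b => a * b) ⊆ A \ KA := fun u hu => by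
      obtain ⟨b, hb, rfl⟩ := Finset.mem_image.1 hu
      obtain ⟨hbA, hbK⟩ := Finset.mem_filter.1 hb
      exact Finset.mem_sdiff.2 ⟨(memA _).2 (mul_mem (hKfacts a ha).1 ((memA b).1 hbA)),
        fun h => hcd a ha b hbK (Finset.mem_filter.1 h).2⟩
    have heq : KA.image (fun b => a * b) = A \ KA := Finset.eq_of_subset_of_card_le hsub (by
      rw [Finset.card_image_of_injective _ hinj, Finset.card_sdiff_of_subset (show KA ⊆ A from Finset.filter_subset _ _)]
      omega)
    have : g ∈ KA.image (fun b => a * b) :=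
      heq ▸ Finset.mem_sdiff.2 ⟨(memA g).2 hg, fun h => hgK (Finset.mem_filter.1 h).2⟩
    obtain ⟨b, hb, rfl⟩ := Finset.mem_image.1 this
    exact ⟨b, (Finset.mem_filter.1 hb).2, rfl⟩
  have hxK : x ∈ K := ⟨1, one_mem _, Or.inl (by group)⟩
  have hconjx : ∀ b ∈ K, x * b * x ∈ K := fun b hb => by
    have := hKconj x hxL b hb
    rwa [hxi] at this
  let Lp : Subgroup (GL ((T → Fin k) × Fin k) F) :=
    { carrier := {g | g ∈ L ∧ g ∉ K}
      one_mem' := ⟨one_mem _, fun h => (hKfacts 1 h).2.2.1 rfl⟩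
      mul_mem' := fun {g g'} hg hg' => ⟨mul_mem hg.1 hg'.1, by
        obtain ⟨b, hb, rfl⟩ := hcover x hxK g hg.1 hg.2
        obtain ⟨b', hb', rfl⟩ := hcover x hxK g' hg'.1 hg'.2
        rw [show x * b * (x * b') = x * b * x * b' by group]
        exact hcd _ (hconjx b hb) b' hb'⟩
      inv_mem' := fun {g} hg => ⟨inv_mem hg.1, by
        obtain ⟨b, hb, rfl⟩ := hcover x hxK g hg.1 hg.2
        rw [_root_.mul_inv_rev, hxi, inv_eq_of_mul_eq_one_right (hKfacts b hb).2.1]
        exact hcd b hb x hxK⟩ }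
  -- every rotation is inverted
  have hInv : ∀ g ∈ Lp, x * g * x = g⁻¹ := by
    intro g hg
    obtain ⟨b, hb, rfl⟩ := hcover x hxK g hg.1 hg.2
    rw [_root_.mul_inv_rev, hxi, inv_eq_of_mul_eq_one_right (hKfacts b hb).2.1, ← mul_assoc x, hxx, one_mul]
  have hcomm : ∀ g ∈ Lp, ∀ h ∈ Lp, Commute g h := by
    intro g hg h hh
    have e1 : x * (g * h) * x = g⁻¹ * h⁻¹ := by
      calc x * (g * h) * x = x * g * 1 * h * x := by group
        _ = x * g * (x * x) * h * x := by rw [hxx]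
        _ = (x * g * x) * (x * h * x) := by group
        _ = _ := by rw [hInv g hg, hInv h hh]
    rw [hInv _ (mul_mem hg hh)] at e1
    show g * h = h * g
    rw [← inv_inv (g * h), e1, _root_.mul_inv_rev, inv_inv, inv_inv]
  -- the special slot isometries keep the rotations
  have hnormSO : ∀ u : T → GL (Fin k) F, (∀ r, SO (u r)) → ∀ a ∈ Lp,
      inl _ k F (tk u) * a * (inl _ k F (tk u))⁻¹ ∈ Lp := by
    intro u hu a ha
    set h := inl (T → Fin k) k F (tk u) with hh
    refine ⟨conj_inl_so hM hπ hu ha.1, fun hK => ha.2 ?_⟩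
    have hconj_h : ∀ j : GL (Fin k) F, h⁻¹ * inr _ k F j * h = inr _ k F j := fun j => by
      have hc' : Commute h (inr (T → Fin k) k F j) :=
        Units.ext (by rw [Units.val_mul, Units.val_mul, inr_eq_rgt]; exact (inl_commute_rgt _ _).eq)
      rw [mul_assoc, ← hc'.eq, inv_mul_cancel_left]
    have hback : ∀ r ∈ L, h⁻¹ * r * h ∈ L := fun r hr => by
      have := conj_inl_so hM hπ (u := fun s => (u s)⁻¹) (fun s => (hu s).inv) hr
      rwa [show (fun s => (u s)⁻¹) = u⁻¹ from rfl, map_inv, map_inv, inv_inv] at this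
    obtain ⟨r, hr, h' | h'⟩ := hK
    · refine ⟨h⁻¹ * r * h, hback r hr, Or.inl ?_⟩
      conv_rhs => rw [hx, ← hconj_h (rf e)]
      rw [show a = h⁻¹ * (h * a * h⁻¹) * h by group, h', hx]
      group
    · refine ⟨h⁻¹ * r * h, hback r hr, Or.inr ?_⟩
      conv_rhs => rw [hy, ← hconj_h (rf v)]
      rw [show a = h⁻¹ * (h * a * h⁻¹) * h by group, h', hy]
      group
  -- the characteristic
  obtain ⟨p, hp⟩ := CharP.exists F
  haveI := hp
  have hprime : p.Prime := CharP.char_is_prime F p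
  haveI : Fact p.Prime := ⟨hprime⟩
  have hp2 : p ≠ 2 := fun h => h2 (by
    subst h
    exact CharTwo.two_eq_zero)
  haveI := hM.hyp.ne
  haveI : Nonempty ((T → Fin k) × Fin k) := inferInstance
  haveI : CharP (Mx T k F) p := Matrix.charP p
  haveI : ExpChar (Mx T k F) p := ExpChar.prime hprime
  have hnorm : ∀ u : T → GL (Fin k) F, (∀ r, u r ∈ Om (Fin k) F) → ∀ a ∈ Lp,
      inl _ k F (tk u) * a * (inl _ k F (tk u))⁻¹ ∈ Lp := fun u hu => hnormSO u fun r => so_of_om h2 (hu r)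
  have hcop : ∀ g ∈ Lp, (orderOf g).Coprime p → Pur g := fun g hg hgp =>
    rgt_of_commute hM.hyp fun u hu => congrArg Units.val (commute_of_coprime hM.hyp p hcomm hnorm hg hgp hu).eq
  -- unipotent rotations
  have huni : ∀ g ∈ Lp, (∃ i, g ^ p ^ i = 1) → g = 1 := by
    set P := ((Lp : Set (GL ((T → Fin k) × Fin k) F)).toFinite.toFinset).filter (fun g => ∃ i, g ^ p ^ i = 1) with hP
    have memP : ∀ g, g ∈ P ↔ g ∈ Lp ∧ ∃ i, g ^ p ^ i = 1 := fun g => by
      rw [hP, Finset.mem_filter, Set.Finite.mem_toFinset]; rfl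
    let N : GL ((T → Fin k) × Fin k) F → Module.End F (((T → Fin k) × Fin k) → F) :=
      fun g => Matrix.toLinAlgEquiv' ((g : Mx T k F) - 1)
    have hN : ∀ g v, N g v = (g : Mx T k F) *ᵥ v - v := fun g v => by
      simp only [N, Matrix.toLinAlgEquiv'_apply, Matrix.sub_mulVec, Matrix.one_mulVec]
    obtain ⟨x₀⟩ := hM.nonempty
    let U := LinearMap.range (rgt (T → Fin k) π).mulVecLin
    have memU : ∀ v, v ∈ U ↔ rgt (T → Fin k) π *ᵥ v = v := fun v => by
      refine ⟨?_, fun h => ⟨v, h⟩⟩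
      rintro ⟨w, rfl⟩
      rw [Matrix.mulVecLin_apply, Matrix.mulVec_mulVec, rgt_mul, hπ.idem]
    have hpv : ∀ (C : Matrix (Fin k) (Fin k) F) (y : (T → Fin k) → F) (v : Fin k → F),
        rgt (T → Fin k) C *ᵥ TP.pv y v = TP.pv y (C *ᵥ v) := fun C y v => by
      funext ⟨i, j⟩
      simp only [rgt, Matrix.mulVec, dotProduct, Matrix.kroneckerMap_apply, Fintype.sum_prod_type, TP.pv_apply,
        Matrix.one_apply, ite_mul, one_mul, zero_mul, Finset.mul_sum]
      rw [Finset.sum_eq_single i]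
      · exact Finset.sum_congr rfl fun _ _ => by simp only [if_true]; ring
      · intro b _ hb
        exact Finset.sum_eq_zero fun _ _ => if_neg (Ne.symm hb)
      · simp
    obtain ⟨w, hwU, hw0, hwN⟩ := exists_common_kernel P N (fun g hg => by
        obtain ⟨i, hi⟩ := ((memP g).1 hg).2
        refine IsNilpotent.map (r := ((g : Mx T k F) - 1)) ⟨p ^ i, ?_⟩ _
        rw [sub_pow_char_pow_of_commute (p := p) (h := Commute.one_right _), one_pow, ← Units.val_pow_eq_pow_val, hi,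
          Units.val_one, sub_self])
      (fun a ha b hb => by
        have h1 : Commute ((a : Mx T k F) - 1) ((b : Mx T k F) - 1) :=
          ((show Commute (a : Mx T k F) b from congrArg Units.val (hcomm a ((memP a).1 ha).1 b ((memP b).1 hb).1).eq).sub_left
            (Commute.one_left _)).sub_right ((Commute.one_right _))
        exact h1.map _)
      (U := U) (fun g hg v hv => by
        rw [hN]
        refine sub_mem ((memU _).2 ?_) hv
        rw [Matrix.mulVec_mulVec, ← (((memP g).1 hg).1.1).2.2.1.eq, ← Matrix.mulVec_mulVec, (memU v).1 hv])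
      (v := TP.pv (Pi.single x₀ (1 : F)) e)
      ((memU _).2 (by rw [hpv, hπe]))
      (fun h => by
        rcases TP.pv_eq_zero.1 h with h' | h'
        · exact absurd (congrFun h' x₀) (by simp)
        · exact he0 (by rw [h', zero_bf]))
    let W : Submodule F (((T → Fin k) × Fin k) → F) := U ⊓ ⨅ g ∈ P, LinearMap.ker (N g)
    have memW : ∀ v, v ∈ W ↔ rgt (T → Fin k) π *ᵥ v = v ∧ ∀ g ∈ P, (g : Mx T k F) *ᵥ v = v := fun v => by
      simp only [W, Submodule.mem_inf, Submodule.mem_iInf, LinearMap.mem_ker, hN, sub_eq_zero, memU]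
    have hwW : w ∈ W := (memW w).2 ⟨(memU w).1 hwU, fun g hg => sub_eq_zero.1 ((hN g w).symm.trans (hwN g hg))⟩
    have hxW : (x : Mx T k F) *ᵥ w ∈ W := by
      refine (memW _).2 ⟨?_, fun g hg => ?_⟩
      · rw [Matrix.mulVec_mulVec, ← hxL.2.2.1.eq, ← Matrix.mulVec_mulVec, ((memW w).1 hwW).1]
      · obtain ⟨hgL, i, hi⟩ := (memP g).1 hg
        have hgi : g⁻¹ ∈ P := (memP _).2 ⟨inv_mem hgL, i, by rw [inv_pow, hi, inv_one]⟩
        have e1 : g * x = x * g⁻¹ := by
          rw [← hInv g hgL]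
          calc g * x = 1 * g * x := by group
            _ = _ := by rw [← hxx]; group
        rw [Matrix.mulVec_mulVec, ← Units.val_mul, e1, Units.val_mul, ← Matrix.mulVec_mulVec, ((memW w).1 hwW).2 _ hgi]
    obtain ⟨a, ha, haa, haW, ha0⟩ : ∃ a, (a = f ∨ a = e) ∧ a ⬝ʷ a ≠ 0 ∧
        rgt (T → Fin k) (pj a) *ᵥ w ∈ W ∧ rgt (T → Fin k) (pj a) *ᵥ w ≠ 0 := by
      have hew : rgt (T → Fin k) (pj e) *ᵥ w = (2 : F)⁻¹ • (w - (x : Mx T k F) *ᵥ w) := by
        rw [hxv, mir, rgt_sub, rgt_one, rgt_smul, Matrix.sub_mulVec, Matrix.one_mulVec, Matrix.smul_mulVec,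
          sub_sub_cancel, inv_smul_smul₀ h2]
      have heW : rgt (T → Fin k) (pj e) *ᵥ w ∈ W := hew ▸ W.smul_mem _ (sub_mem hwW hxW)
      have hfw : rgt (T → Fin k) (pj f) *ᵥ w = w - rgt (T → Fin k) (pj e) *ᵥ w := by
        rw [eq_sub_iff_add_eq, add_comm, ← Matrix.add_mulVec, ← rgt_add, ← hsum, ((memW w).1 hwW).1]
      by_cases h0 : rgt (T → Fin k) (pj e) *ᵥ w = 0
      · exact ⟨f, Or.inl rfl, hf, hfw ▸ sub_mem hwW heW, by rw [hfw, h0, sub_zero]; exact hw0⟩
      · exact ⟨e, Or.inr rfl, he0, heW, h0⟩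
    have hrow : ∀ z, rgt (T → Fin k) (pj a) *ᵥ z = TP.pv (fun i => (a ⬝ʷ a)⁻¹ * (a ⬝ʷ TP.row z i)) a := fun z => by
      funext ⟨i, j⟩
      have e1 := congrFun (pj_mulVec a (TP.row z i)) j
      simp only [Matrix.mulVec, dotProduct, TP.row, Pi.smul_apply, smul_eq_mul] at e1
      simp only [rgt, Matrix.mulVec, dotProduct, Matrix.kroneckerMap_apply, Fintype.sum_prod_type, TP.pv_apply,
        Matrix.one_apply, ite_mul, one_mul, zero_mul, TP.row]
      rw [Finset.sum_eq_single i]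
      · simp only [if_true]
        exact e1
      · intro b _ hb
        exact Finset.sum_eq_zero fun _ _ => if_neg (Ne.symm hb)
      · simp
    let Y : Submodule F ((T → Fin k) → F) :=
      { carrier := {y | TP.pv y a ∈ W}
        add_mem' := fun {y y'} hy hy' => show TP.pv (y + y') a ∈ W by rw [TP.pv_add_left]; exact add_mem hy hy'
        zero_mem' := show TP.pv (0 : (T → Fin k) → F) a ∈ W by rw [TP.pv_zero_left]; exact zero_mem _
        smul_mem' := fun c y hy => show TP.pv (c • y) a ∈ W by rw [TP.pv_smul_left]; exact W.smul_mem _ hy }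
    have hY : Y = ⊤ := irred hM.hyp (fun u hu y hy => show TP.pv (act (tk u) y) a ∈ W by
        have e1 : TP.pv (act (tk u) y) a = (inl _ k F (tk u) : Mx T k F) *ᵥ TP.pv y a := by
          rw [← act_apply, inl, MonoidHom.comp_apply]
          exact ((TP.act_kr_pv (tk u) 1 y a).trans (by rw [act_one])).symm
        rw [e1]
        refine (memW _).2 ⟨?_, fun g hg => ?_⟩
        · rw [Matrix.mulVec_mulVec, ← (inl_commute_rgt _ _).eq, ← Matrix.mulVec_mulVec, ((memW _).1 hy).1]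
        · obtain ⟨hgL, i, hi⟩ := (memP g).1 hg
          set h := inl (T → Fin k) k F (tk u) with hh
          have hg' : h⁻¹ * g * h ∈ P := by
            refine (memP _).2 ⟨?_, i, ?_⟩
            · have := hnormSO (fun r => (u r)⁻¹) (fun r => (hu r).inv) g hgL
              rwa [show (fun r => (u r)⁻¹) = u⁻¹ from rfl, map_inv, map_inv, inv_inv] at this
            · have := conj_pow (a := h⁻¹) (b := g) (i := p ^ i)
              rw [inv_inv] at this
              rw [this, hi, mul_one, inv_mul_cancel]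
          rw [Matrix.mulVec_mulVec, ← Units.val_mul, show g * h = h * (h⁻¹ * g * h) by group, Units.val_mul,
            ← Matrix.mulVec_mulVec, ((memW _).1 hy).2 _ hg'])
      (v := fun i => (a ⬝ʷ a)⁻¹ * (a ⬝ʷ TP.row w i)) (show TP.pv _ a ∈ W by rw [← hrow]; exact haW)
      (fun h => ha0 (by rw [hrow, h, TP.pv_zero_left]))
    intro g hgL hgi
    have hgP : g ∈ P := (memP g).2 ⟨hgL, hgi⟩
    have e1 : (g : Mx T k F) * rgt _ (pj a) = rgt _ (pj a) := by
      refine Matrix.ext_iff_mulVec.2 fun z => ?_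
      rw [← Matrix.mulVec_mulVec, hrow]
      exact ((memW _).1 (show (fun i => (a ⬝ʷ a)⁻¹ * (a ⬝ʷ TP.row z i)) ∈ Y from hY ▸ Submodule.mem_top)).2 g hgP
    have hcg : Commute (g : Mx T k F) (rgt _ (pj a)) := by
      have e2 := congrArg (fun m => ((g : Mx T k F)† * m)†) e1
      simp only [← mul_assoc, ad_mul_self h2 hgL.1.1, one_mul, ad_mul, ad_ad,
        rgt_ad, (pr_pj haa).symm] at e2
      exact e1.trans e2
    have hcf : Commute (g : Mx T k F) (rgt _ (pj e)) := by
      rcases ha with rfl | rfl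
      · rw [show pj e = π - pj a by rw [hsum]; abel, rgt_sub]
        exact hgL.1.2.2.1.sub_right hcg
      · exact hcg
    have hcx : Commute g x := Units.ext (by
      rw [Units.val_mul, Units.val_mul, hxv, mir, rgt_sub, rgt_one, rgt_smul]
      exact ((Commute.one_right _).sub_right (hcf.smul_right _)).eq)
    have hg2 : g * g = 1 := by
      have := hInv g hgL
      rw [← hcx.eq, mul_assoc, hxx, mul_one] at this
      exact mul_eq_one_iff_eq_inv.2 this
    obtain ⟨i, hi⟩ := hgi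
    obtain ⟨m, hm⟩ : Odd (p ^ i) := (hprime.odd_of_ne_two hp2).pow
    rw [hm, pow_succ, pow_mul, pow_two, hg2, one_pow, one_mul] at hi
    exact hi
  have hLp : ∀ g ∈ Lp, Pur g := by
    intro g hg
    obtain ⟨i, m, hm, hn⟩ := Nat.exists_eq_pow_mul_and_not_dvd (orderOf_pos g).ne' p hprime.ne_one
    have hgm : g ^ m = 1 := huni _ (pow_mem hg m) ⟨i, by rw [← pow_mul, mul_comm, ← hn, pow_orderOf_eq_one]⟩
    refine hcop g hg (Nat.Coprime.coprime_dvd_left (orderOf_dvd_of_pow_eq_one hgm) ?_)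
    exact (hprime.coprime_iff_not_dvd.2 hm).symm
  refine triv_of_pure hM hπ fun g hg => ?_
  by_cases hgK : g ∈ K
  · obtain ⟨C, hC⟩ := hLp (x * g) ⟨mul_mem hxL hg, hcd x hxK g hgK⟩
    refine ⟨mir (pj e) * C, ?_⟩
    rw [← rgt_mul, ← hxv, ← hC, ← Units.val_mul, ← mul_assoc, hxx, one_mul]
  · exact hLp g ⟨hg, hgK⟩

omit hπ in
/-- **every proper summand has only pure elements** -/
theorem triv_all {π : Matrix (Fin k) (Fin k) F} (hπ : Pr π) (hπ1 : π ≠ 1) : Triv M π := by
  induction hn : rk π using Nat.strong_induction_on generalizing π with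
  | _ n ih =>
    subst hn
    have ht : ∀ σ, Pr σ → rk σ < rk π → Triv M σ := fun σ hσ hlt => ih _ hlt hσ (fun e => by
      have h1 := rk_le π
      rw [e, rk_one, Fintype.card_fin] at hlt
      rw [Fintype.card_fin] at h1
      omega) rfl
    by_cases h3 : 3 ≤ rk π
    · exact triv_big hM hπ hπ1 ht h3
    rcases Nat.lt_trichotomy (rk π) 1 with h | h | h
    · rw [eq_zero_of_rk (show rk π = 0 by omega)]
      exact triv_zero
    · exact triv_line hM hπ h
    · exact triv_two hM hπ hπ1 ht (by omega)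

end Cfsg.Agent.MaxCl.TEv
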