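/-
The elements intertwining two projections of the distinguished slot lie in the wreath product.
-/
import Cfsg.Agent.Lib.MaxCl.TEvTriv

set_option autoImplicit false
set_option linter.unusedSectionVars false

namespace Cfsg.Agent.MaxCl.TEv

open Matrix
open TOrth (rk rk_zero rk_one eq_zero_of_rk rk_of_conj inl inr inl_val inr_val kr_val rgt rgt_mul rgt_add rgt_smul
  rgt_one rgt_zero rgt_sub rgt_inj inr_eq_rgt InR Triv Pur Mx)
open TW (tk pm pg rt rid spl sl Wr)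
open scoped MatrixGroups Kronecker

variable {F : Type*} [Field F] {k : ℕ} [Wt (Fin k) F] {T : Type} [Fintype T] [DecidableEq T]

/-- all the reflections of the distinguished slot are present -/
def Rf (M : Subgroup (GL ((T → Fin k) × Fin k) F)) : Prop :=
  ∀ a : Fin k → F, a ⬝ʷ a ≠ 0 → inr _ k F (rf a) ∈ M

/-- no full left factor -/
def NoLeft (M : Subgroup (GL ((T → Fin k) × Fin k) F)) : Prop :=
  Nontrivial T → ¬ ∀ B ∈ Om (T → Fin k) F, inl _ k F B ∈ M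

/-- split elements -/
def Spl (g : GL ((T → Fin k) × Fin k) F) : Prop :=
  ∃ (A : GL (T → Fin k) F) (C : GL (Fin k) F), Sim A ∧ g = TP.kr (A, C)

theorem dec_two {π : Matrix (Fin k) (Fin k) F} (hπ : Pr π) : Dec π (1 - π) 0 :=
  ⟨hπ, hπ.one_sub, pr_zero, hπ.mul_one_sub, mul_zero _, mul_zero _, by abel⟩

/-- an isometry intertwining a projection with a right operator intertwines it with a projection -/
theorem inter_pr (h2 : (2 : F) ≠ 0) [Nonempty (T → Fin k)] {g : GL ((T → Fin k) × Fin k) F}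
    (hg : g ∈ Orth ((T → Fin k) × Fin k) F) {σ Z : Matrix (Fin k) (Fin k) F} (hσ : Pr σ)
    (h : (g : Mx T k F) * rgt _ σ = rgt _ Z * (g : Mx T k F)) : Pr Z ∧ rk Z = rk σ := by
  have e : rgt (T → Fin k) Z = (g : Mx T k F) * rgt _ σ * (g : Mx T k F)† := by
    rw [h, mul_assoc, mul_ad_self h2 hg, mul_one]
  refine ⟨⟨rgt_inj (β := T → Fin k) ?_, rgt_inj (β := T → Fin k) ?_⟩, (rk_of_conj h).symm⟩
  · rw [← rgt_ad, e, ad_mul, ad_mul, ad_ad, rgt_ad, hσ.symm, mul_assoc]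
  · rw [← rgt_mul]
    nth_rw 2 [e]
    rw [← mul_assoc, ← mul_assoc, ← h, mul_assoc (g : Mx T k F), rgt_mul, hσ.idem, ← e]

/-- a scalar slot element comes from a scalar -/
theorem scalar_of_rt [Nonempty (Fin k)] (r : T) {w : GL (Fin k) F} {d : F}
    (e : ((rt r w : GL (T → Fin k) F) : Matrix (T → Fin k) (T → Fin k) F) = d • 1) :
    (w : Matrix (Fin k) (Fin k) F) = d • 1 := by
  refine rgt_inj (β := {x // x ≠ r} → Fin k) ?_
  rw [← inr_eq_rgt, ← rid_rt', rgt_smul, rgt_one, TW.rid_val, e]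
  ext x y
  simp [Matrix.one_apply]

variable [Finite F] {M M' : Subgroup (GL ((T → Fin k) × Fin k) F)} (hM : Ctx T k F M) (hM' : Ctx T k F M')
  {g : GL ((T → Fin k) × Fin k) F} (hgo : g ∈ Orth ((T → Fin k) × Fin k) F) (hgM : ∀ x ∈ M, g * x * g⁻¹ ∈ M')
include hM hM' hgo hgM

/-- intertwining passes to the operators spanned by pure elements -/
theorem alg_inter {σ σ' : Matrix (Fin k) (Fin k) F}
    (hσ' : Pr σ') (h1 : σ' ≠ 1) (h : (g : Mx T k F) * rgt _ σ = rgt _ σ' * (g : Mx T k F))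
    {X : Matrix (Fin k) (Fin k) F} (hX : X ∈ Alg M σ (1 - σ)) :
    ∃ Z, (g : Mx T k F) * rgt _ X = rgt _ Z * (g : Mx T k F) := by
  induction hX using Submodule.span_induction with
  | mem X hX =>
    obtain ⟨u, ⟨-, huM, hu1, -, hu2⟩, rfl⟩ := hX
    set G := g * inr _ k F u * g⁻¹ with hG
    have hGg : (G : Mx T k F) * (g : Mx T k F) = (g : Mx T k F) * rgt _ (u : Matrix (Fin k) (Fin k) F) := by
      rw [← Units.val_mul, hG, inv_mul_cancel_right, Units.val_mul, inr_eq_rgt]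
    have cancel : ∀ {A B : Mx T k F}, A * (g : Mx T k F) = B * (g : Mx T k F) → A = B := fun {A B} e =>
      g.isUnit.mul_right_cancel e
    have hGc : Commute (G : Mx T k F) (rgt _ σ') := cancel (by
      rw [mul_assoc, ← h, ← mul_assoc, hGg, mul_assoc (g : Mx T k F), rgt_mul, hu1.eq, ← rgt_mul, ← mul_assoc, h,
        mul_assoc, ← hGg, mul_assoc])
    have hc : (g : Mx T k F) * rgt _ (1 - σ) = rgt _ (1 - σ') * (g : Mx T k F) := by
      rw [rgt_sub, rgt_sub, rgt_one, mul_sub, sub_mul, h, one_mul, mul_one]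
    obtain ⟨ε, hε⟩ : ∃ ε : F, (u : Matrix (Fin k) (Fin k) F) * (1 - σ) = ε • (1 - σ) := by
      rcases hu2 with e | e
      · exact ⟨1, by rw [e, one_smul]⟩
      · exact ⟨-1, by rw [e, neg_one_smul]⟩
    obtain ⟨W, hW⟩ := triv_all hM' hσ' h1 G ⟨hgM _ huM, hGc, ε • (1 - σ'), cancel (by
      rw [mul_assoc, ← hc, ← mul_assoc, hGg, mul_assoc, rgt_mul, hε, rgt_smul, mul_smul_comm, hc, rgt_smul,
        smul_mul_assoc])⟩
    exact ⟨W * σ', by rw [← rgt_mul, ← mul_assoc, ← hGg, hW, mul_assoc, h, ← mul_assoc, rgt_mul]⟩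
  | zero => exact ⟨0, by rw [rgt_zero, mul_zero, zero_mul]⟩
  | add a b _ _ ha hb =>
    obtain ⟨Za, hZa⟩ := ha
    obtain ⟨Zb, hZb⟩ := hb
    exact ⟨Za + Zb, by rw [rgt_add, mul_add, hZa, hZb, rgt_add, add_mul]⟩
  | smul c a _ ha =>
    obtain ⟨Za, hZa⟩ := ha
    exact ⟨c • Za, by rw [rgt_smul, mul_smul_comm, hZa, rgt_smul, smul_mul_assoc]⟩

/-- the complement of an intertwined line is intertwined with everything in it -/
theorem perp_line {a : Fin k → F} (ha : a ⬝ʷ a ≠ 0)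
    (h : ∃ Z, (g : Mx T k F) * rgt _ (pj a) = rgt _ Z * (g : Mx T k F)) (Y : Matrix (Fin k) (Fin k) F) :
    ∃ Z, (g : Mx T k F) * rgt _ ((1 - pj a) * Y * (1 - pj a)) = rgt _ Z * (g : Mx T k F) := by
  have h2 := hM.hyp.h2
  haveI := hM.nonempty
  obtain ⟨Z, hZ⟩ := h
  obtain ⟨hZp, hZr⟩ := inter_pr h2 hgo (pr_pj ha) hZ
  have hr := rk_one_sub (pr_pj ha)
  rw [rk_pj ha, Fintype.card_fin] at hr
  have h4 := hM.hyp.four
  refine alg_inter hM hM' hgo hgM hZp.one_sub (fun e => ?_) (σ := 1 - pj a)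
    (by rw [rgt_sub, rgt_sub, rgt_one, mul_sub, sub_mul, hZ, one_mul, mul_one])
    (full_three hM (dec_two (pr_pj ha).one_sub) (by omega) Y)
  have h0 : Z = 0 := sub_eq_self.1 e
  rw [h0, rk_zero, rk_pj ha] at hZr
  omega

/-- commuting with a line up to the right factor -/
theorem loc_line {a : Fin k → F} (ha : a ⬝ʷ a ≠ 0)
    (h : ∃ Z, (g : Mx T k F) * rgt _ (pj a) = rgt _ Z * (g : Mx T k F)) : Spl g := by
  have h2 := hM.hyp.h2
  haveI := hM.nonempty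
  let S : Submodule F (Matrix (Fin k) (Fin k) F) :=
    { carrier := {Y | ∃ Z, (g : Mx T k F) * rgt _ Y = rgt _ Z * (g : Mx T k F)}
      zero_mem' := ⟨0, by rw [rgt_zero, mul_zero, zero_mul]⟩
      add_mem' := by
        rintro U V ⟨Zu, hu⟩ ⟨Zv, hv⟩
        exact ⟨Zu + Zv, by rw [rgt_add, mul_add, hu, hv, rgt_add, add_mul]⟩
      smul_mem' := by
        rintro c U ⟨Zu, hu⟩
        exact ⟨c • Zu, by rw [rgt_smul, mul_smul_comm, hu, rgt_smul, smul_mul_assoc]⟩ }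
  have hmul : ∀ {Y Y'}, Y ∈ S → Y' ∈ S → Y * Y' ∈ S := fun {Y Y'} ⟨Z, hZ⟩ ⟨Z', hZ'⟩ =>
    ⟨Z * Z', by rw [← rgt_mul, ← mul_assoc, hZ, mul_assoc, hZ', ← mul_assoc, rgt_mul]⟩
  have had : ∀ {Y}, Y ∈ S → Y† ∈ S := fun {Y} ⟨Z, hZ⟩ => by
    refine ⟨Z†, ?_⟩
    have e := congrArg ad hZ
    rw [ad_mul, ad_mul, rgt_ad, rgt_ad] at e
    calc (g : Mx T k F) * rgt _ Y† = (g : Mx T k F) * (rgt _ Y† * (g : Mx T k F)†) * (g : Mx T k F) := by
          rw [← mul_assoc, mul_assoc _ (g : Mx T k F)†, ad_mul_self h2 hgo, mul_one]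
      _ = rgt _ Z† * (g : Mx T k F) := by rw [e, ← mul_assoc, mul_ad_self h2 hgo, one_mul]
  have hP : pj a ∈ S := h
  have hπ : ∀ Y, (1 - pj a) * Y * (1 - pj a) ∈ S := perp_line hM hM' hgo hgM ha h
  have hr := rk_one_sub (pr_pj ha)
  rw [rk_pj ha, Fintype.card_fin] at hr
  have h4 := hM.hyp.four
  have hπp := (pr_pj ha).one_sub
  obtain ⟨e, hπe, he⟩ := exists_aniso h2 hπp (fun e => by rw [e, rk_zero] at hr; omega)
  have hρ : ∀ Y, (1 - pj e) * Y * (1 - pj e) ∈ S := by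
    refine perp_line hM hM' hgo hgM he (?_ : pj e ∈ S)
    have h' := hπ (pj e)
    have e' : pj e * (1 - pj a) = pj e := by
      have := congrArg ad (mul_pj hπe)
      rwa [ad_mul, hπp.symm, (pr_pj he).symm] at this
    rwa [mul_pj hπe, e'] at h'
  have hre := rk_sub_pj hπp he hπe
  obtain ⟨f, hf', hf⟩ := exists_aniso h2 (hπp.sub (pr_pj he) (mul_pj hπe))
    (fun e => by rw [e, rk_zero] at hre; omega)
  obtain ⟨hπf, hef⟩ := fix_sub_pj hπp he hπe hf'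
  have hae : a ⬝ʷ e = 0 := by
    rw [← hπe, ← hπp.dot, Matrix.sub_mulVec, Matrix.one_mulVec, pj_self ha, sub_self, zero_bf]
  have hρa : (1 - pj e) *ᵥ a = a := by
    rw [Matrix.sub_mulVec, Matrix.one_mulVec, pj_mulVec, bf_comm e a, hae, mul_zero, zero_smul, sub_zero]
  have hρf : (1 - pj e) *ᵥ f = f := by
    rw [Matrix.sub_mulVec, Matrix.one_mulVec, pj_mulVec, hef, mul_zero, zero_smul, sub_zero]
  have sandwich : ∀ {π : Matrix (Fin k) (Fin k) F}, Pr π → (∀ Y, π * Y * π ∈ S) →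
      ∀ x y, π *ᵥ x = x → π *ᵥ y = y → ov x y ∈ S := fun {π} hp hS x y hx hy => by
    have := hS (ov x y)
    rwa [mul_ov, hx, ov_mul, hp.symm, hy] at this
  have hza : ∀ z, (1 - pj a) *ᵥ z = z → ov z a ∈ S := fun z hz => by
    have := S.smul_mem (f ⬝ʷ f)⁻¹ (hmul (sandwich hπp hπ z f hz hπf) (sandwich (pr_pj he).one_sub hρ f a hρf hρa))
    rwa [ov_mul_ov, ov_smul, inv_smul_smul₀ hf] at this
  have hcross : ∀ Y, (1 - pj a) * Y * pj a ∈ S := fun Y => by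
    rw [show (1 - pj a) * Y * pj a = (a ⬝ʷ a)⁻¹ • ov ((1 - pj a) *ᵥ (Y *ᵥ a)) a by
      rw [pj, mul_smul_comm, mul_ov, ← Matrix.mulVec_mulVec]]
    exact S.smul_mem _ (hza _ (hπp.mulVec_self _))
  have hall : ∀ Y, Y ∈ S := fun Y => by
    have e1 : pj a * Y * (1 - pj a) ∈ S := by
      have := had (hcross Y†)
      rwa [ad_mul, ad_mul, hπp.symm, (pr_pj ha).symm, ad_ad, ← mul_assoc] at this
    have e2 : pj a * Y * pj a ∈ S := by
      rw [show pj a * Y * pj a = ((a ⬝ʷ a)⁻¹ * (a ⬝ʷ Y *ᵥ a)) • pj a by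
        rw [pj, smul_mul_assoc, smul_mul_assoc, mul_smul_comm, ov_mul, ov_mul_ov, bf_mulVec, ad_ad, ov_smul, smul_smul,
          smul_smul, smul_smul]
        congr 1
        ring]
      exact S.smul_mem _ hP
    have := add_mem (add_mem (hπ Y) (hcross Y)) (add_mem e1 e2)
    rwa [← mul_add, ← mul_add, sub_add_cancel, mul_one, mul_one, ← add_mul, sub_add_cancel, one_mul] at this
  obtain ⟨A, C, ⟨⟨c, hc0, hA, hCC⟩, eg, -⟩⟩ := part_of_orth_part h2 hgo pr_one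
    (by rw [rgt_one]; exact Commute.one_right _) (fun Y => by rw [one_mul, mul_one]; exact hall Y)
  have hC : C * (c • C†) = 1 := by rw [mul_smul_comm, hCC, smul_smul, mul_inv_cancel₀ hc0, one_smul]
  refine ⟨A, ⟨C, c • C†, hC, mul_eq_one_comm.1 hC⟩, ⟨c, hc0, hA⟩, Units.ext ?_⟩
  rw [kr_val, ← eg, rgt_one, mul_one]

/-- intertwining a projection, away from planes over four dimensions -/
theorem loc_spl {σ : Matrix (Fin k) (Fin k) F} (hσ : Pr σ) (h0 : σ ≠ 0) (h1 : σ ≠ 1)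
    (hk : k ≠ 4 ∨ rk σ ≠ 2 ∨ Rf M) {Z : Matrix (Fin k) (Fin k) F}
    (h : (g : Mx T k F) * rgt _ σ = rgt _ Z * (g : Mx T k F)) : Spl g := by
  have h2 := hM.hyp.h2
  haveI := hM.nonempty
  obtain ⟨hZp, hZr⟩ := inter_pr h2 hgo hσ h
  have hs0 : rk σ ≠ 0 := fun e => h0 (eq_zero_of_rk e)
  have hr := rk_one_sub hσ
  rw [Fintype.card_fin] at hr
  have hr0 : rk (1 - σ) ≠ 0 := fun e => h1 (sub_eq_zero.1 (eq_zero_of_rk e)).symm
  have hZ1 : Z ≠ 1 := fun e => by rw [e, rk_one, Fintype.card_fin] at hZr; omega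
  suffices ∃ e, e ⬝ʷ e ≠ 0 ∧ ∃ Z', (g : Mx T k F) * rgt _ (pj e) = rgt _ Z' * (g : Mx T k F) by
    obtain ⟨e, he, hZ'⟩ := this
    exact loc_line hM hM' hgo hgM he hZ'
  rcases Nat.lt_trichotomy (rk σ) 2 with hlt | heq | hgt
  · obtain ⟨e, he, -, rfl⟩ := eq_pj_of_rk h2 hσ (by omega)
    exact ⟨e, he, Z, h⟩
  · by_cases hRf : Rf M
    · obtain ⟨e, hσe, he⟩ := exists_aniso h2 hσ h0
      refine ⟨e, he, alg_inter hM hM' hgo hgM hZp hZ1 h ?_⟩
      have hce := suppIn_rf hσ he hσe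
      have hu : Um M σ (1 - σ) (rf e) := ⟨rf_mem e, hRf e he, hce.2.2,
        (Commute.one_right _).sub_right hce.2.2, Or.inl hce.2.1⟩
      have e' : (rf e : Matrix (Fin k) (Fin k) F) * σ = σ - (2 : F) • pj e := by
        rw [rf_val he, sub_mul, one_mul, smul_mul_assoc, pj_mul_p₁ (dec_two hσ) he hσe]
      have hm : σ - (2 : F) • pj e ∈ Alg M σ (1 - σ) := Submodule.subset_span ⟨rf e, hu, e'.symm⟩
      have := Submodule.smul_mem (Alg M σ (1 - σ)) (2 : F)⁻¹ (sub_mem self_mem_alg hm)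
      rwa [sub_sub_cancel, inv_smul_smul₀ h2] at this
    · have h6 := hM.hyp.six (hk.resolve_right (by simp [heq, hRf]))
      obtain ⟨e, hπe, he⟩ := exists_aniso h2 hσ.one_sub (sub_ne_zero.2 h1.symm)
      have hZ0 : (1 : Matrix (Fin k) (Fin k) F) - Z ≠ 1 := fun e => by
        rw [sub_eq_self.1 e, rk_zero] at hZr; omega
      exact ⟨e, he, alg_inter hM hM' hgo hgM hZp.one_sub hZ0 (σ := 1 - σ)
        (by rw [rgt_sub, rgt_sub, rgt_one, mul_sub, sub_mul, h, one_mul, mul_one])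
        (pj_mem_alg_of_three hM (dec_two hσ.one_sub) (by omega) he hπe)⟩
  · obtain ⟨e, hσe, he⟩ := exists_aniso h2 hσ h0
    exact ⟨e, he, alg_inter hM hM' hgo hgM hZp hZ1 h (pj_mem_alg_of_three hM (dec_two hσ) (by omega) he hσe)⟩

/-- **split elements lie in the wreath product** -/
theorem spl_wr [Nonempty T] (hNL : NoLeft M') {A : GL (T → Fin k) F} {C : GL (Fin k) F} (hA : Sim A)
    (hg : g = TP.kr (A, C)) : A ∈ Wr T k F := by
  subst hg
  classical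
  have h2 := hM.hyp.h2
  haveI := hM.hyp.ne
  rcases subsingleton_or_nontrivial T with hT | hT
  · rw [TW.wr_eq_top]; exact Subgroup.mem_top _
  obtain ⟨c, hc, hAA⟩ := hA
  haveI := hM.nonempty
  let G : Subgroup (GL (T → Fin k) F) :=
    { carrier := {A | A ∈ Orth (T → Fin k) F ∧ ∃ C, TP.kr (A, C) ∈ M'}
      one_mem' := ⟨one_mem _, 1, by rw [Prod.mk_one_one, map_one]; exact one_mem _⟩
      mul_mem' := by
        rintro A A' ⟨ho, C, hC⟩ ⟨ho', C', hC'⟩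
        exact ⟨mul_mem ho ho', C * C', by rw [← Prod.mk_mul_mk, map_mul]; exact mul_mem hC hC'⟩
      inv_mem' := by
        rintro A ⟨ho, C, hC⟩
        exact ⟨inv_mem ho, C⁻¹, by rw [← Prod.inv_mk, map_inv]; exact inv_mem hC⟩ }
  have hconj : ∀ (B : GL (T → Fin k) F) (D : GL (Fin k) F) (x : GL (T → Fin k) F),
      inl _ k F (B * x * B⁻¹) = TP.kr (B, D) * inl _ k F x * (TP.kr (B, D))⁻¹ := fun B D x => by
    show TP.kr (B * x * B⁻¹, (1 : GL (Fin k) F)) = TP.kr (B, D) * TP.kr (x, (1 : GL (Fin k) F)) * (TP.kr (B, D))⁻¹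
    rw [← map_inv, ← map_mul, ← map_mul, Prod.inv_mk, Prod.mk_mul_mk, Prod.mk_mul_mk, mul_one, mul_inv_cancel]
  have hfalse : Om (T → Fin k) F ≤ G → False := fun hom => by
    obtain ⟨r⟩ := ‹Nonempty T›
    obtain ⟨y, hy, hy1⟩ := exists_pair hM.hyp
    refine hNL hT fun B hB => Subgroup.mem_comap.1 ((big_pow hM.hyp).norm (M'.comap (inl _ k F))
      (fun B hB x hx _ => ?_) (rt r y) (hM'.inl_mem (TW.rt_mem r y) (rt_om h2 r hy)) (rt_om h2 r hy) (fun d e => ?_) hB)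
    · obtain ⟨-, D, hD⟩ := hom hB
      rw [Subgroup.mem_comap] at hx ⊢
      rw [hconj B D x]
      exact mul_mem (mul_mem hD hx) (inv_mem hD)
    · exact hy1 d (scalar_of_rt r e)
  let K : Subgroup (GL (T → Fin k) F) := Wr T k F ⊓ Om (T → Fin k) F
  rcases hM'.max G ⟨fun A h => h.1, fun A h => ⟨om_le_orth h.2, 1, hM'.inl_mem h.1 h.2⟩⟩ with hle | hom
  swap
  · exact (hfalse hom).elim
  obtain ⟨r⟩ := ‹Nonempty T›
  have hCC : (C : Matrix (Fin k) (Fin k) F)† * (C : Matrix (Fin k) (Fin k) F) = c⁻¹ • 1 := by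
    have e := ad_mul_self h2 hgo
    rw [kr_val, ad_kronecker, ← Matrix.mul_kronecker_mul, hAA, Matrix.smul_kronecker] at e
    refine rgt_inj (β := T → Fin k) ?_
    rw [rgt_smul, rgt_one, ← e, smul_smul, inv_mul_cancel₀ hc, one_smul]
  have hrt : ((rt r C : GL (T → Fin k) F) : Matrix (T → Fin k) (T → Fin k) F)† *
      (rt r C : Matrix (T → Fin k) (T → Fin k) F) = c⁻¹ • 1 := by
    rw [TW.rt_eq, TW.tk_val, pm_ad, ← map_mul, show ((fun s => ((Pi.mulSingle r C : T → GL (Fin k) F) s :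
        Matrix (Fin k) (Fin k) F)†) * fun s => ((Pi.mulSingle r C : T → GL (Fin k) F) s : Matrix (Fin k) (Fin k) F)) =
        fun s => (if s = r then c⁻¹ else 1) • (1 : Matrix (Fin k) (Fin k) F) from funext fun s => by
      rw [Pi.mul_apply]
      rcases eq_or_ne s r with rfl | hs
      · rw [Pi.mulSingle_eq_same, hCC, if_pos rfl]
      · rw [Pi.mulSingle_eq_of_ne hs, Units.val_one, ad_one, one_mul, if_neg hs, one_smul],
      TW.pm_smul, Finset.prod_ite_eq', if_pos (Finset.mem_univ r), ← Pi.one_def, map_one]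
  have hrS : Sim (rt r C) := ⟨c⁻¹, inv_ne_zero hc, hrt⟩
  set A₀ := rt r C * A with hA₀
  have hA₀o : A₀ ∈ Orth (T → Fin k) F := by
    rw [mem_orth_iff h2, hA₀, Units.val_mul, ad_mul, mul_assoc, ← mul_assoc _ (rt r C : Matrix (T → Fin k) (T → Fin k) F),
      hrt, smul_mul_assoc, one_mul, mul_smul_comm, hAA, smul_smul, inv_mul_cancel₀ hc, one_smul]
  have hnorm : ∀ {B : GL (T → Fin k) F}, Sim B → (∀ x ∈ K, B * x * B⁻¹ ∈ Wr T k F) → ∀ x ∈ K, B * x * B⁻¹ ∈ K :=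
    fun {B} hB h x hx => ⟨h x hx, hB.conj_om h2 hx.2⟩
  have hAK : ∀ x ∈ K, A * x * A⁻¹ ∈ K := hnorm ⟨c, hc, hAA⟩ fun x hx =>
    hle ⟨Sim.conj_orth h2 ⟨c, hc, hAA⟩ (om_le_orth hx.2), 1, by
      show inl _ k F _ ∈ M'
      rw [hconj A C x]
      exact hgM _ (hM.inl_mem hx.1 hx.2)⟩
  have hRK : ∀ x ∈ K, rt r C * x * (rt r C)⁻¹ ∈ K := hnorm hrS fun x hx =>
    mul_mem (mul_mem (TW.rt_mem r C) hx.1) (inv_mem (TW.rt_mem r C))
  let N' : Subgroup (GL (T → Fin k) F) := Orth (T → Fin k) F ⊓ Subgroup.normalizer (K : Set (GL (T → Fin k) F))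
  haveI : Finite ↥K := inferInstance
  have hmem : A₀ ∈ N' := ⟨hA₀o, Subgroup.mem_normalizer_fintype fun x hx => by
    have := hRK _ (hAK x hx)
    simpa [hA₀, mul_assoc] using this⟩
  rcases hM.max N' ⟨inf_le_left, fun a ha => ⟨om_le_orth ha.2, Subgroup.le_normalizer ha⟩⟩ with hw | ho
  · have := hw hmem
    rw [hA₀] at this
    simpa using mul_mem (inv_mem (TW.rt_mem r C)) this
  · exfalso
    obtain ⟨y, hy, hy1⟩ := exists_pair hM.hyp
    have hle' : Om (T → Fin k) F ≤ K := (big_pow hM.hyp).norm K (fun B hB x hx _ => by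
      exact ((Subgroup.mem_normalizer_iff.1 (ho hB).2) x).1 hx) (rt r y) ⟨TW.rt_mem r y, rt_om h2 r hy⟩
      (rt_om h2 r hy) (fun d e => hy1 d (scalar_of_rt r e))
    exact hfalse fun B hB => ⟨om_le_orth hB, 1, hM'.inl_mem (hle' hB).1 hB⟩

/-- **intertwining elements lie in the wreath product** -/
theorem loc [Nonempty T] (hNL : NoLeft M') {σ : Matrix (Fin k) (Fin k) F} (hσ : Pr σ) (h0 : σ ≠ 0) (h1 : σ ≠ 1)
    (hk : k ≠ 4 ∨ rk σ ≠ 2 ∨ Rf M) {Z : Matrix (Fin k) (Fin k) F}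
    (h : (g : Mx T k F) * rgt _ σ = rgt _ Z * (g : Mx T k F)) :
    ∃ A ∈ Wr T k F, Sim A ∧ ∃ C, g = TP.kr (A, C) := by
  obtain ⟨A, C, hA, e⟩ := loc_spl hM hM' hgo hgM hσ h0 h1 hk h
  exact ⟨A, spl_wr hM hM' hgo hgM hNL hA e, hA, C, e⟩

end Cfsg.Agent.MaxCl.TEv
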