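/-
What the induction gives at every slot of an overgroup, and the localisation between two slots.
-/
import Cfsg.Agent.Lib.MaxCl.TEvLoc

set_option autoImplicit false
set_option linter.unusedSectionVars false

namespace Cfsg.Agent.MaxCl.TEv

open Matrix
open TOrth (rk rk_zero rk_one inl inr rgt Mx sl_eq_rt)
open TW (tk pm pg rt rid spl sl Wr)
open scoped MatrixGroups Kronecker

variable {F : Type*} [Field F] {k : ℕ} [Wt (Fin k) F] {S : Type} [Fintype S] [DecidableEq S]

/-- all the slot reflections are present -/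
def RfS (M : Subgroup (GL (S → Fin k) F)) : Prop :=
  ∀ (s : S) (a : Fin k → F), a ⬝ʷ a ≠ 0 → rt s (rf a) ∈ M

/-- the group with its slots permuted -/
noncomputable def permGrp (M : Subgroup (GL (S → Fin k) F)) (π : Equiv.Perm S) : Subgroup (GL (S → Fin k) F) :=
  M.map (MulAut.conj (pg π : GL (S → Fin k) F)).toMonoidHom

theorem mem_permGrp {M : Subgroup (GL (S → Fin k) F)} {π : Equiv.Perm S} {x : GL (S → Fin k) F} (h : x ∈ M) :
    pg π * x * (pg π)⁻¹ ∈ permGrp M π :=
  ⟨x, h, rfl⟩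

theorem permGrp_one (M : Subgroup (GL (S → Fin k) F)) : permGrp M 1 = M := by
  have : (MulAut.conj (pg 1 : GL (S → Fin k) F)).toMonoidHom = MonoidHom.id _ :=
    MonoidHom.ext fun x => by simp [TW.pg_one]
  rw [permGrp, this, Subgroup.map_id]

/-- what the induction gives at every slot -/
structure Slots (M : Subgroup (GL (S → Fin k) F)) : Prop where
  hyp : Hyp k F
  ov : Ov M
  two : Nontrivial S
  ctx : ∀ (s : S) (π : Equiv.Perm S), Ctx {x // x ≠ s} k F ((permGrp M π).map (rid s).toMonoidHom)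
  nl : ∀ (s : S) (π : Equiv.Perm S), NoLeft ((permGrp M π).map (rid s).toMonoidHom)

theorem rid_sl (s : S) (A : Matrix (Fin k) (Fin k) F) :
    (sl s A : Matrix (S → Fin k) (S → Fin k) F).submatrix (spl s).symm (spl s).symm = rgt _ A := by
  show (pm (Pi.mulSingle s A)).submatrix (spl (m := k) s).symm (spl (m := k) s).symm = _
  rw [TW.pm_split, Pi.mulSingle_eq_same, show (fun r : {r // r ≠ s} => (Pi.mulSingle s A : S → _) r.1) = 1 from
    funext fun r => Pi.mulSingle_eq_of_ne r.2 _, map_one]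

theorem pg_sl_matrix (π : Equiv.Perm S) (r : S) (A : Matrix (Fin k) (Fin k) F) :
    ((pg π : GL (S → Fin k) F) : Matrix (S → Fin k) (S → Fin k) F) * sl r A =
      sl (π r) A * ((pg π : GL (S → Fin k) F) : Matrix (S → Fin k) (S → Fin k) F) := by
  ext x y
  show (∑ z, (if z = x ∘ π then 1 else 0) * _) = ∑ z, _ * (if y = z ∘ π then 1 else 0)
  rw [Finset.sum_eq_single (x ∘ π) (fun z _ hz => by rw [if_neg hz, zero_mul]) (by simp),
    Finset.sum_eq_single (y ∘ π.symm) (fun z _ hz => by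
      rw [if_neg fun e => hz (by rw [e]; ext q; simp), mul_zero]) (by simp),
    if_pos rfl, if_pos (by ext q; simp), one_mul, mul_one]
  show ∏ q, (Pi.mulSingle r A : S → Matrix (Fin k) (Fin k) F) q (x (π q)) (y q) =
    ∏ q, (Pi.mulSingle (π r) A : S → Matrix (Fin k) (Fin k) F) q (x q) (y (π.symm q))
  refine Fintype.prod_equiv π _ _ fun q => ?_
  rw [Equiv.symm_apply_apply]
  rcases eq_or_ne q r with rfl | hq
  · simp
  · rw [Pi.mulSingle_eq_of_ne hq, Pi.mulSingle_eq_of_ne (fun e => hq (π.injective e))]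

variable [Finite F]

/-- **intertwining between slots puts an element in the wreath product** -/
theorem Slots.loc {M : Subgroup (GL (S → Fin k) F)} (hT : Slots M) {s r : S} {σ Z : Matrix (Fin k) (Fin k) F}
    (hσ : Pr σ) (h0 : σ ≠ 0) (h1 : σ ≠ 1) (hk : k ≠ 4 ∨ rk σ ≠ 2 ∨ RfS M) {g : GL (S → Fin k) F} (hg : g ∈ M)
    (h : (g : Matrix (S → Fin k) (S → Fin k) F) * sl s σ = sl r Z * (g : Matrix (S → Fin k) (S → Fin k) F)) :
    g ∈ Wr S k F := by
  have h2 := hT.hyp.h2
  haveI := hT.two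
  haveI := nonempty_ne (S := S) s
  set π := Equiv.swap r s with hπ
  set g' := pg π * g with hg'
  have hC := hT.ctx s 1
  rw [permGrp_one] at hC
  have hgo : rid s g' ∈ Orth (({x // x ≠ s} → Fin k) × Fin k) F :=
    (rid_orth_iff h2 s).2 (mul_mem (pg_orth π) (hT.ov.le hg))
  have hgM : ∀ x ∈ M.map (rid s).toMonoidHom,
      rid s g' * x * (rid s g')⁻¹ ∈ (permGrp M π).map (rid s).toMonoidHom := by
    rintro _ ⟨x, hx, rfl⟩
    refine ⟨pg π * (g * x * g⁻¹) * (pg π)⁻¹, mem_permGrp (mul_mem (mul_mem hg hx) (inv_mem hg)), ?_⟩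
    show rid s _ = rid s g' * rid s x * (rid s g')⁻¹
    rw [← map_inv (rid s), ← map_mul (rid s), ← map_mul (rid s), hg']
    congr 1
    group
  have hg'σ : (g' : Matrix (S → Fin k) (S → Fin k) F) * sl s σ =
      sl s Z * (g' : Matrix (S → Fin k) (S → Fin k) F) := by
    rw [hg', Units.val_mul, mul_assoc, h, ← mul_assoc, pg_sl_matrix, hπ, Equiv.swap_apply_left, mul_assoc]
  have hR := congrArg (fun m => m.submatrix (spl (m := k) s).symm (spl (m := k) s).symm) hg'σ
  simp only [← Matrix.submatrix_mul_equiv _ _ _ (spl (m := k) s).symm, ← TW.rid_val, rid_sl] at hR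
  have hk' : k ≠ 4 ∨ rk σ ≠ 2 ∨ Rf (M.map (rid s).toMonoidHom) := by
    refine hk.imp_right (Or.imp_right fun hRf a ha => ⟨rt s (rf a), hRf s a ha, ?_⟩)
    exact rid_rt' s (rf a)
  obtain ⟨A, hA, -, C, e⟩ := TEv.loc hC (hT.ctx s π) hgo hgM (hT.nl s π) hσ h0 h1 hk' hR
  have hW := TW.mem_wr_of_rid s e hA
  rw [hg'] at hW
  simpa using mul_mem (inv_mem (TW.pg_mem π)) hW

end Cfsg.Agent.MaxCl.TEv
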