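/-
The distinguished slot involutions used by the endgame, abstractly.
-/
import Cfsg.Agent.Lib.MaxCl.TEvTop

set_option autoImplicit false
set_option linter.unusedSectionVars false

namespace Cfsg.Agent.MaxCl.TEv

open Matrix
open TW (tk pm pg rt rid spl sl Wr)
open scoped MatrixGroups

variable {F : Type*} [Field F] {k : ℕ} [Wt (Fin k) F] {S : Type} [Fintype S] [DecidableEq S]

/-- a matrix that is a multiple of the identity -/
def IsSc {ι : Type} [Fintype ι] [DecidableEq ι] (A : GL ι F) : Prop := ∃ c : F, (A : Matrix ι ι F) = c • 1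

/-- a class of slot involutions whose local centralisers and fusion are controlled -/
structure Mirrors (M : Subgroup (GL (S → Fin k) F)) (P : Set (GL (Fin k) F)) : Prop where
  orth : ∀ w ∈ P, w ∈ Orth (Fin k) F
  invol : ∀ w ∈ P, w * w = 1
  nsc : ∀ w ∈ P, ¬ IsSc w
  neg : ∀ w ∈ P, ∀ w' ∈ P, (w' : Matrix (Fin k) (Fin k) F) ≠ -(w : Matrix (Fin k) (Fin k) F)
  conj : ∀ u, Sim u → ∀ w ∈ P, u * w * u⁻¹ ∈ P
  mem : ∀ (s : S), ∀ w ∈ P, rt s w ∈ M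
  perp : ∀ w ∈ P, ∃ w' ∈ P, Commute w w' ∧ ¬ IsSc (w * w')
  ne : P.Nonempty
  loc : ∀ (s r : S) (w w' : GL (Fin k) F), w ∈ Orth (Fin k) F → w * w = 1 → ¬ IsSc w →
    ∀ g ∈ M, g * rt s w * g⁻¹ = rt r w' → g ∈ Wr S k F
  fusion : ∀ (s : S), ∀ w ∈ P, ∀ g ∈ M, g * rt s w * g⁻¹ ∈ Wr S k F → g ∈ Wr S k F
  frame : 3 ≤ Fintype.card S → ∃ E : Fin k → GL (Fin k) F,
    (∀ i, E i ∈ P) ∧ ∀ i j, i ≠ j → Commute (E i) (E j) ∧ ¬ IsSc (E i * E j)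
  pow : 3 ≤ Fintype.card S → ∀ w ∈ P, ∀ w' ∈ P, ∀ n : ℕ, IsSc ((w * w') ^ n) → (w * w') ^ n = 1

end Cfsg.Agent.MaxCl.TEv
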