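/-
Pairs of self-adjoint operators of a four dimensional space of non-square discriminant, stable under rotations and
isotropic for an anisotropic commutator pairing, are pairs of scalars.
-/
import Cfsg.Agent.Lib.MaxCl.TEvProj

set_option autoImplicit false
set_option linter.unusedSectionVars false

namespace Cfsg.Agent.MaxCl.TEv

open Matrix
open TOrth (binary_value rk rk_zero rk_one)
open scoped MatrixGroups

variable {ι : Type} [Fintype ι] [DecidableEq ι] {F : Type*} [Field F] [Wt ι F] [Finite F]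

/-- conjugation by an invertible matrix -/
def cjg (u : GL ι F) (B : Matrix ι ι F) : Matrix ι ι F := (u : Matrix ι ι F) * B * ((u⁻¹ : GL ι F) : Matrix ι ι F)

theorem cjg_smul (u : GL ι F) (c : F) (B : Matrix ι ι F) : cjg u (c • B) = c • cjg u B := by
  rw [cjg, cjg, mul_smul_comm, smul_mul_assoc]

/-- sets of pairs stable under the rotations -/
structure RPairs (R : Set (Matrix ι ι F × Matrix ι ι F)) (a₁ a₂ : F) : Prop where
  sub : ∀ B ∈ R, ∀ C ∈ R, B - C ∈ R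
  conj : ∀ f g : ι → F, f ⬝ʷ f ≠ 0 → g ⬝ʷ g ≠ 0 → ∀ B ∈ R, (cjg (rf f * rf g) B.1, cjg (rf f * rf g) B.2) ∈ R
  sym : ∀ B ∈ R, B.1† = B.1 ∧ B.2† = B.2
  comm : ∀ B ∈ R, ∀ C ∈ R, a₁ • (B.1 * C.1 - C.1 * B.1) + a₂ • (B.2 * C.2 - C.2 * B.2) = 0
  aniso : ∀ x y : F, a₁ * (x * x) + a₂ * (y * y) = 0 → x = 0 ∧ y = 0

/-- the symmetric operator interchanging two vectors -/
def xop (a d : ι → F) : Matrix ι ι F := ov a d + ov d a

theorem xop_mulVec (a d v : ι → F) : xop a d *ᵥ v = (d ⬝ʷ v) • a + (a ⬝ʷ v) • d := by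
  rw [xop, Matrix.add_mulVec, ov_mulVec, ov_mulVec]

/-- a swap of two orthogonal vectors of one value does not commute with all its conjugates -/
theorem exists_rot_xop (h2 : (2 : F) ≠ 0) (h4 : Fintype.card ι = 4) {a d : ι → F} (ha : a ⬝ʷ a ≠ 0)
    (had : a ⬝ʷ d = 0) (hda : d ⬝ʷ d = a ⬝ʷ a) :
    ∃ f g : ι → F, f ⬝ʷ f ≠ 0 ∧ g ⬝ʷ g ≠ 0 ∧
      xop a d * cjg (rf f * rf g) (xop a d) - cjg (rf f * rf g) (xop a d) * xop a d ≠ 0 := by
  set n := a ⬝ʷ a with hn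
  have hd : d ⬝ʷ d ≠ 0 := by rw [hda]; exact ha
  have hdP : d ⬝ʷ a = 0 := by rw [bf_comm]; exact had
  have hρ := (pr_pj ha).add (pr_pj hd) (pj_mul_pj had)
  have hr' := rk_one_sub hρ
  rw [rk_add (pr_pj ha) (pr_pj hd) (pj_mul_pj had), rk_pj ha, rk_pj hd, h4] at hr'
  have hperp : ∀ {z}, (1 - (pj a + pj d)) *ᵥ z = z → a ⬝ʷ z = 0 ∧ d ⬝ʷ z = 0 := fun {z} hz => by
    constructor <;>
    · rw [← hz, mulVec_bf, hρ.one_sub.symm, Matrix.sub_mulVec, Matrix.one_mulVec, Matrix.add_mulVec, pj_mulVec,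
        pj_mulVec]
      simp [had, hdP, ha, hd, zero_bf, ← hn]
  obtain ⟨b, hb', hb⟩ := exists_aniso h2 hρ.one_sub (fun e => by rw [e, rk_zero] at hr'; omega)
  obtain ⟨hab, hdb⟩ := hperp hb'
  obtain ⟨c, hc', hc⟩ := exists_aniso h2 (hρ.one_sub.sub (pr_pj hb) (mul_pj hb')) (fun e => by
    have := rk_sub_pj hρ.one_sub hb hb'
    rw [e, rk_zero] at this
    omega)
  obtain ⟨hc'', hbc⟩ := fix_sub_pj hρ.one_sub hb hb' hc'
  obtain ⟨hac, hdc⟩ := hperp hc''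
  have he : (a - d) ⬝ʷ (a - d) = 2 * n := by
    simp only [sub_bf, bf_sub, had, hdP, hda]; ring
  obtain ⟨x, y, hxy⟩ := binary_value h2 (a := 2 * n) (b := b ⬝ʷ b) (mul_ne_zero h2 ha) hb (-(c ⬝ʷ c))
  set z := x • (a - d) + y • b + c with hz
  set f := a + d with hf
  have hff : f ⬝ʷ f = 2 * n := by simp only [hf, add_bf, bf_add, had, hdP, hda]; ring
  have hf0 : f ⬝ʷ f ≠ 0 := by rw [hff]; exact mul_ne_zero h2 ha
  have hfz : f ⬝ʷ z = 0 := by
    simp only [hz, hf, add_bf, bf_add, bf_smul, bf_sub, had, hdP, hda, hab, hdb, hac, hdc, smul_eq_mul]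
    ring
  have hzf : z ⬝ʷ f = 0 := by rw [bf_comm]; exact hfz
  have hzz : z ⬝ʷ z = 0 := by
    simp only [hz, add_bf, bf_add, smul_bf, bf_smul, bf_sub, sub_bf, bf_comm b a, bf_comm b d, bf_comm c a,
      bf_comm c d, bf_comm c b, hab, hdb, hac, hdc, hbc, had, hdP, hda, ← hn, smul_eq_mul]
    linear_combination hxy
  have hzc : z ⬝ʷ c = c ⬝ʷ c := by
    simp only [hz, add_bf, smul_bf, sub_bf, hac, hdc, hbc, smul_eq_mul]
    ring
  set h := (2 : F) • f + z with hh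
  have hhh : h ⬝ʷ h = 4 * (2 * n) := by
    simp only [hh, add_bf, bf_add, smul_bf, bf_smul, hff, hfz, hzf, hzz, smul_eq_mul]; ring
  have h4' : (4 : F) ≠ 0 := by
    have : (4 : F) = 2 * 2 := by norm_num
    rw [this]; exact mul_ne_zero h2 h2
  have hh0 : h ⬝ʷ h ≠ 0 := by rw [hhh]; exact mul_ne_zero h4' (mul_ne_zero h2 ha)
  refine ⟨h, f, hh0, hf0, fun hcomm => ?_⟩
  set u := rf h * rf f with hu
  set X := xop a d with hX
  have huf : act u f = f + z := by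
    rw [hu, act_mul, show act (rf f) f = -f by
      rw [act_rf hf0, show (f ⬝ʷ f)⁻¹ * (2 * (f ⬝ʷ f)) = 2 by field_simp, two_smul]; abel, map_neg, act_rf hh0]
    have : (h ⬝ʷ h)⁻¹ * (2 * (h ⬝ʷ f)) = 1 := by
      rw [hhh, show h ⬝ʷ f = 2 * (2 * n) by simp only [hh, add_bf, smul_bf, hff, hzf, smul_eq_mul]; ring,
        show 2 * (2 * (2 * n)) = 4 * (2 * n) by ring, inv_mul_cancel₀ (mul_ne_zero h4' (mul_ne_zero h2 ha))]
    rw [this, one_smul, hh, two_smul]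
    abel
  have hXf : X *ᵥ f = n • f := by
    rw [hX, xop_mulVec, hf, bf_add, bf_add, had, hdP, hda, zero_add, add_zero, smul_add]
  have hvec : ∀ v, X *ᵥ v = n • v → ∃ t : F, v = t • f := fun v hv => by
    rw [hX, xop_mulVec] at hv
    have e1 := congrArg (fun w => a ⬝ʷ w) hv
    simp only [bf_add, bf_smul, had, ← hn, smul_eq_mul, mul_zero, add_zero] at e1
    have hdv : d ⬝ʷ v = a ⬝ʷ v := mul_right_cancel₀ ha (e1.trans (mul_comm _ _))
    refine ⟨n⁻¹ * (a ⬝ʷ v), ?_⟩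
    rw [← smul_smul, hf, smul_add]
    nth_rewrite 2 [← hdv]
    rw [hdv] at hv ⊢
    rw [hv, inv_smul_smul₀ ha]
  have hinv : ((u⁻¹ : GL ι F) : Matrix ι ι F) *ᵥ (f + z) = f := by
    rw [← huf, act_apply, Matrix.mulVec_mulVec, ← Units.val_mul, inv_mul_cancel, Units.val_one, Matrix.one_mulVec]
  obtain ⟨t, ht⟩ := hvec (((u⁻¹ : GL ι F) : Matrix ι ι F) *ᵥ (X *ᵥ (f + z))) (by
    have e := congrArg (fun m => m *ᵥ (f + z)) (sub_eq_zero.1 hcomm)
    simp only [← Matrix.mulVec_mulVec, cjg, hinv, hXf, Matrix.mulVec_smul] at e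
    rw [← act_apply u f, huf] at e
    have e' := congrArg (fun v => ((u⁻¹ : GL ι F) : Matrix ι ι F) *ᵥ v) e
    simp only [Matrix.mulVec_smul] at e'
    rw [Matrix.mulVec_mulVec _ ((u⁻¹ : GL ι F) : Matrix ι ι F) (u : Matrix ι ι F), ← Units.val_mul, inv_mul_cancel,
      Units.val_one, Matrix.one_mulVec] at e'
    exact e'.symm)
  have hXz : X *ᵥ (f + z) = t • (f + z) := by
    have e := congrArg (fun v => (u : Matrix ι ι F) *ᵥ v) ht
    simp only [Matrix.mulVec_smul] at e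
    rwa [Matrix.mulVec_mulVec _ (u : Matrix ι ι F) ((u⁻¹ : GL ι F) : Matrix ι ι F), ← Units.val_mul, mul_inv_cancel,
      Units.val_one, Matrix.one_mulVec, ← act_apply u f, huf] at e
  rw [Matrix.mulVec_add, hXf] at hXz
  have hfXz : f ⬝ʷ X *ᵥ z = 0 := by
    rw [mulVec_bf, show X† = X by rw [hX, xop, ad_add, ad_ov, ad_ov, add_comm], hXf, smul_bf, hfz, smul_zero]
  have et := congrArg (fun w => f ⬝ʷ w) hXz
  simp only [bf_add, bf_smul, hff, hfz, hfXz, smul_eq_mul, add_zero] at et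
  obtain rfl : n = t := mul_right_cancel₀ (mul_ne_zero h2 ha) et
  rw [smul_add n f z] at hXz
  obtain ⟨s, hs⟩ := hvec z (add_left_cancel hXz)
  have e := congrArg (fun w => w ⬝ʷ c) hs
  simp only [hzc, smul_bf, hf, add_bf, hac, hdc, add_zero, smul_zero] at e
  exact hc e

variable {R : Set (Matrix ι ι F × Matrix ι ι F)} {a₁ a₂ : F}

/-- the symmetrisation of a matrix onto one pair of lines -/
def swp (u w v : GL ι F) (B : Matrix ι ι F) : Matrix ι ι F :=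
  B + cjg u B - cjg w (B + cjg u B) - cjg v (B + cjg u B - cjg w (B + cjg u B))

theorem swp_eq (h2 : (2 : F) ≠ 0) {a d b : ι → F} (ha : a ⬝ʷ a ≠ 0) (hb : b ⬝ʷ b ≠ 0) (had : a ⬝ʷ d = 0)
    (hab : a ⬝ʷ b = 0) (hdb : d ⬝ʷ b = 0) (hda : d ⬝ʷ d = a ⬝ʷ a) {B : Matrix ι ι F} (hB : B† = B) :
    swp (rf a * rf d) (rf a * rf (a + d)) (rf a * rf b) B =
      (8 * (a ⬝ʷ B *ᵥ d) * ((a ⬝ʷ a)⁻¹ * (a ⬝ʷ a)⁻¹)) • xop a d := by
  set n := a ⬝ʷ a with hn
  have hd : d ⬝ʷ d ≠ 0 := by rw [hda]; exact ha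
  have hdP : d ⬝ʷ a = 0 := by rw [bf_comm]; exact had
  have hf : (a + d) ⬝ʷ (a + d) = 2 * n := by simp only [add_bf, bf_add, had, hdP, hda]; ring
  have hf0 : (a + d) ⬝ʷ (a + d) ≠ 0 := by rw [hf]; exact mul_ne_zero h2 ha
  set P := pj a
  set Q := pj d
  have hPQ : P * Q = 0 := pj_mul_pj had
  have hQP : Q * P = 0 := pj_mul_pj hdP
  have hρ : Pr (P + Q) := (pr_pj ha).add (pr_pj hd) hPQ
  set ρ := P + Q with hρd
  -- the three rotations
  set u := rf a * rf d with hu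
  have huv : (u : Matrix ι ι F) = 1 - (2 : F) • ρ := by
    rw [hu, Units.val_mul, rf_val ha, rf_val hd]
    rw [show pj a = P from rfl, show pj d = Q from rfl]
    simp only [sub_mul, mul_sub, one_mul, mul_one, smul_mul_smul_comm, hPQ, smul_zero, sub_zero, hρd, smul_add]
    abel
  have hui : u⁻¹ = u := by
    refine inv_eq_of_mul_eq_one_right (Units.ext ?_)
    rw [Units.val_mul, Units.val_one, huv]
    simp only [sub_mul, mul_sub, one_mul, mul_one, smul_mul_smul_comm, hρ.idem]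
    module
  set w := rf a * rf (a + d) with hw
  set v := rf a * rf b with hv
  have hwi : ((w⁻¹ : GL ι F) : Matrix ι ι F) = (w : Matrix ι ι F)† :=
    inv_val h2 (mul_mem (rf_mem a) (rf_mem (a + d)))
  have hrf : ∀ {z} (_ : z ⬝ʷ z ≠ 0) (x : ι → F), (rf z : Matrix ι ι F) *ᵥ x = x - ((z ⬝ʷ z)⁻¹ * (2 * (z ⬝ʷ x))) • z :=
    fun {z} hz x => by rw [← act_apply, act_rf hz]
  have hwa : (w : Matrix ι ι F) *ᵥ a = -d := by
    rw [hw, Units.val_mul, ← Matrix.mulVec_mulVec, hrf hf0, hf, show (a + d) ⬝ʷ a = n by simp [add_bf, hdP, ← hn],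
      show (2 * n)⁻¹ * (2 * n) = 1 by field_simp, one_smul, show a - (a + d) = -d by abel, hrf ha, bf_comm a (-d),
      neg_bf, hdP, neg_zero, mul_zero, mul_zero, zero_smul, sub_zero]
  have hwd : (w : Matrix ι ι F) *ᵥ d = a := by
    rw [hw, Units.val_mul, ← Matrix.mulVec_mulVec, hrf hf0, hf, show (a + d) ⬝ʷ d = n by simp [add_bf, had, hda],
      show (2 * n)⁻¹ * (2 * n) = 1 by field_simp, one_smul, show d - (a + d) = -a by abel, hrf ha, bf_comm a (-a),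
      neg_bf, ← hn, show n⁻¹ * (2 * -n) = -2 by field_simp]
    module
  have hwx : ∀ x, a ⬝ʷ x = 0 → d ⬝ʷ x = 0 → (w : Matrix ι ι F) *ᵥ x = x := fun x h h' => by
    rw [hw, Units.val_mul, ← Matrix.mulVec_mulVec, hrf hf0, show (a + d) ⬝ʷ x = 0 by simp [add_bf, h, h'], mul_zero,
      mul_zero, zero_smul, sub_zero, hrf ha, h, mul_zero, mul_zero, zero_smul, sub_zero]
  have hwρ' : (w : Matrix ι ι F) * (1 - ρ) = 1 - ρ := by
    refine Matrix.ext_iff_mulVec.2 fun x => ?_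
    rw [← Matrix.mulVec_mulVec]
    refine hwx _ ?_ ?_ <;>
    · rw [mulVec_bf, hρ.one_sub.symm, Matrix.sub_mulVec, Matrix.one_mulVec, hρd, Matrix.add_mulVec, pj_mulVec,
        pj_mulVec]
      simp [had, hdP, ha, hd, ← hn, zero_bf]
  have hwρ'' : (1 - ρ) * ((w⁻¹ : GL ι F) : Matrix ι ι F) = 1 - ρ := by
    have := congrArg ad hwρ'
    rwa [ad_mul, hρ.one_sub.symm, ← hwi] at this
  -- first step
  have e1 : B + cjg u B = (2 : F) • (ρ * B * ρ + (1 - ρ) * B * (1 - ρ)) := by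
    rw [cjg, hui, huv]
    simp only [sub_mul, mul_sub, one_mul, mul_one, smul_mul_assoc, mul_smul_comm]
    module
  have e2 : B + cjg u B - cjg w (B + cjg u B) = (2 : F) • (ρ * B * ρ - cjg w (ρ * B * ρ)) := by
    rw [e1, cjg_smul, ← smul_sub]
    congr 1
    have : cjg w ((1 - ρ) * B * (1 - ρ)) = (1 - ρ) * B * (1 - ρ) := by
      rw [cjg]
      calc _ = ((w : Matrix ι ι F) * (1 - ρ)) * B * ((1 - ρ) * ((w⁻¹ : GL ι F) : Matrix ι ι F)) := by noncomm_ring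
        _ = _ := by rw [hwρ', hwρ'']
    rw [show cjg w (ρ * B * ρ + (1 - ρ) * B * (1 - ρ)) = cjg w (ρ * B * ρ) + cjg w ((1 - ρ) * B * (1 - ρ)) by
      simp only [cjg, mul_add, add_mul], this]
    abel
  set Y := ρ * B * ρ - cjg w (ρ * B * ρ) with hY
  -- the entries
  have hdot : ∀ x y, (x ⬝ʷ B *ᵥ y) = (y ⬝ʷ B *ᵥ x) := fun x y => by
    rw [mulVec_bf, hB, bf_comm]
  have hρa : ρ *ᵥ a = a := by
    rw [hρd, Matrix.add_mulVec, pj_self ha, pj_mulVec, hdP, mul_zero, zero_smul, add_zero]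
  have hρd' : ρ *ᵥ d = d := by
    rw [hρd, Matrix.add_mulVec, pj_self hd, pj_mulVec, had, mul_zero, zero_smul, zero_add]
  have hwia : ((w⁻¹ : GL ι F) : Matrix ι ι F) *ᵥ a = d := by
    rw [← hwd, Matrix.mulVec_mulVec, ← Units.val_mul, inv_mul_cancel, Units.val_one, Matrix.one_mulVec]
  have hwid : ((w⁻¹ : GL ι F) : Matrix ι ι F) *ᵥ d = -a := by
    rw [eq_neg_iff_add_eq_zero, ← neg_eq_iff_add_eq_zero, ← Matrix.mulVec_neg, ← hwa, Matrix.mulVec_mulVec,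
      ← Units.val_mul, inv_mul_cancel, Units.val_one, Matrix.one_mulVec]
  have eY : ∀ x y, x ⬝ʷ Y *ᵥ y = (ρ *ᵥ x) ⬝ʷ B *ᵥ (ρ *ᵥ y) -
      (ρ *ᵥ (((w⁻¹ : GL ι F) : Matrix ι ι F) *ᵥ x)) ⬝ʷ B *ᵥ (ρ *ᵥ (((w⁻¹ : GL ι F) : Matrix ι ι F) *ᵥ y)) := fun x y => by
    rw [hY, Matrix.sub_mulVec, bf_sub, cjg]
    simp only [← Matrix.mulVec_mulVec]
    rw [mulVec_bf ρ x, hρ.symm, mulVec_bf (w : Matrix ι ι F) x, ← hwi, mulVec_bf ρ (_ *ᵥ x), hρ.symm]
  have eYad : a ⬝ʷ Y *ᵥ d = 2 * (a ⬝ʷ B *ᵥ d) := by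
    rw [eY, hwia, hwid, hρa, hρd', Matrix.mulVec_neg, hρa, Matrix.mulVec_neg, bf_comm _ (-(B *ᵥ a)), neg_bf,
      bf_comm _ d, hdot d a]
    ring
  have eYda : d ⬝ʷ Y *ᵥ a = 2 * (a ⬝ʷ B *ᵥ d) := by
    rw [eY, hwia, hwid, hρa, hρd', Matrix.mulVec_neg, hρa, neg_bf, hdot d a]
    ring
  -- last step
  have hYρ : Y = ρ * Y * ρ := by
    have hwc : ρ * (w : Matrix ι ι F) = (w : Matrix ι ι F) * ρ := by
      have h1 : (1 - ρ) * (w : Matrix ι ι F) = 1 - ρ := by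
        have h := congrArg (fun m => m * (w : Matrix ι ι F)) hwρ''
        simp only [mul_assoc, ← Units.val_mul, inv_mul_cancel, Units.val_one, mul_one] at h
        exact h.symm
      rw [sub_mul, one_mul] at h1
      have h3 := hwρ'
      rw [mul_sub, mul_one] at h3
      have h4 := h1.trans h3.symm
      rwa [sub_right_inj] at h4
    have hwc' : ((w⁻¹ : GL ι F) : Matrix ι ι F) * ρ = ρ * ((w⁻¹ : GL ι F) : Matrix ι ι F) := by
      have := congrArg ad hwc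
      rwa [ad_mul, ad_mul, hρ.symm, ← hwi] at this
    rw [hY, cjg, mul_sub, sub_mul]
    congr 1
    · simp only [mul_assoc, hρ.idem, ← mul_assoc ρ ρ]
    · symm
      calc ρ * ((w : Matrix ι ι F) * (ρ * B * ρ) * ((w⁻¹ : GL ι F) : Matrix ι ι F)) * ρ
          = (ρ * (w : Matrix ι ι F)) * (ρ * B * ρ) * (((w⁻¹ : GL ι F) : Matrix ι ι F) * ρ) := by noncomm_ring
        _ = (w : Matrix ι ι F) * ((ρ * ρ) * B * (ρ * ρ)) * ((w⁻¹ : GL ι F) : Matrix ι ι F) := by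
          rw [hwc, hwc']; noncomm_ring
        _ = _ := by rw [hρ.idem]
  have hvi : v⁻¹ = v := by
    rw [hv, _root_.mul_inv_rev, rf_inv, rf_inv]
    exact (rf_commute h2 hab).eq.symm
  have hbρ : pj b * ρ = 0 := by
    rw [hρd, mul_add, pj_mul_pj (by rw [bf_comm]; exact hab), pj_mul_pj (by rw [bf_comm]; exact hdb), add_zero]
  have hvρ : (v : Matrix ι ι F) * ρ = Q - P := by
    rw [hv, Units.val_mul, rf_val ha, rf_val hb, mul_assoc, sub_mul 1 _ ρ, smul_mul_assoc, hbρ, smul_zero, sub_zero,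
      one_mul, sub_mul, one_mul, smul_mul_assoc, hρd, mul_add, (pr_pj ha).idem, hPQ, add_zero]
    module
  have hρv : ρ * (v : Matrix ι ι F) = Q - P := by
    have := congrArg ad hvρ
    rwa [ad_mul, hρ.symm, ← inv_val h2 (mul_mem (rf_mem a) (rf_mem b)), show (rf a * rf b)⁻¹ = v from hvi, ad_sub,
      (pr_pj hd).symm, (pr_pj ha).symm] at this
  have e3 : Y - cjg v Y = (2 : F) • (P * Y * Q + Q * Y * P) := by
    rw [cjg, hvi]
    nth_rewrite 2 [hYρ]
    rw [show (v : Matrix ι ι F) * (ρ * Y * ρ) * (v : Matrix ι ι F) =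
      ((v : Matrix ι ι F) * ρ) * Y * (ρ * (v : Matrix ι ι F)) by noncomm_ring, hvρ, hρv]
    nth_rewrite 1 [hYρ]
    simp only [hρd, sub_mul, mul_sub, add_mul, mul_add]
    module
  rw [swp, e2, cjg_smul, ← smul_sub, e3]
  have eij : ∀ x y, pj x * Y * pj y = ((x ⬝ʷ x)⁻¹ * (y ⬝ʷ y)⁻¹ * (x ⬝ʷ Y *ᵥ y)) • ov x y := fun x y => by
    rw [pj, pj, smul_mul_assoc, smul_mul_assoc, mul_smul_comm, mul_assoc, mul_ov, ov_mul_ov, ov_smul, smul_smul,
      smul_smul]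
  rw [eij, eij, eYad, eYda, hda, ← smul_add, ← xop, smul_smul, smul_smul]
  congr 1
  ring

variable (hR : RPairs R a₁ a₂)
include hR

theorem RPairs.swp_mem {a d b : ι → F} (ha : a ⬝ʷ a ≠ 0) (hd : d ⬝ʷ d ≠ 0) (hf : (a + d) ⬝ʷ (a + d) ≠ 0)
    (hb : b ⬝ʷ b ≠ 0) {B : Matrix ι ι F × Matrix ι ι F} (hB : B ∈ R) :
    (swp (rf a * rf d) (rf a * rf (a + d)) (rf a * rf b) B.1,
      swp (rf a * rf d) (rf a * rf (a + d)) (rf a * rf b) B.2) ∈ R := by
  have hadd : ∀ {B C}, B ∈ R → C ∈ R → B + C ∈ R := fun {B C} hB hC => by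
    have h := hR.sub _ hB _ (hR.sub _ (hR.sub _ hC _ hC) _ hC)
    rwa [show B - (C - C - C) = B + C by abel] at h
  have h1 := hadd hB (hR.conj _ _ ha hd _ hB)
  have h2 := hR.sub _ h1 _ (hR.conj _ _ ha hf _ h1)
  exact hR.sub _ h2 _ (hR.conj _ _ ha hb _ h2)

/-- both members vanish between orthogonal vectors of one value -/
theorem RPairs.entry (h2 : (2 : F) ≠ 0) (h4 : Fintype.card ι = 4) {a d : ι → F} (ha : a ⬝ʷ a ≠ 0)
    (had : a ⬝ʷ d = 0) (hda : d ⬝ʷ d = a ⬝ʷ a) {B : Matrix ι ι F × Matrix ι ι F} (hB : B ∈ R) :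
    a ⬝ʷ B.1 *ᵥ d = 0 ∧ a ⬝ʷ B.2 *ᵥ d = 0 := by
  have hd : d ⬝ʷ d ≠ 0 := by rw [hda]; exact ha
  have hf : (a + d) ⬝ʷ (a + d) ≠ 0 := by
    rw [show (a + d) ⬝ʷ (a + d) = 2 * (a ⬝ʷ a) by
      simp only [add_bf, bf_add, had, bf_comm d a, hda]; ring]
    exact mul_ne_zero h2 ha
  have hdP : d ⬝ʷ a = 0 := by rw [bf_comm]; exact had
  have hρ := (pr_pj ha).add (pr_pj hd) (pj_mul_pj had)
  have hr' := rk_one_sub hρ
  rw [rk_add (pr_pj ha) (pr_pj hd) (pj_mul_pj had), rk_pj ha, rk_pj hd, h4] at hr'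
  obtain ⟨b, hb', hb⟩ := exists_aniso h2 hρ.one_sub (fun e => by rw [e, rk_zero] at hr'; omega)
  have hperp : a ⬝ʷ b = 0 ∧ d ⬝ʷ b = 0 := by
    constructor <;>
    · rw [← hb', mulVec_bf, hρ.one_sub.symm, Matrix.sub_mulVec, Matrix.one_mulVec, Matrix.add_mulVec, pj_mulVec,
        pj_mulVec]
      simp [had, hdP, ha, hd, zero_bf]
  have hm := hR.swp_mem ha hd hf hb hB
  rw [swp_eq h2 ha hb had hperp.1 hperp.2 hda (hR.sym B hB).1, swp_eq h2 ha hb had hperp.1 hperp.2 hda (hR.sym B hB).2]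
    at hm
  obtain ⟨f, g, hf', hg', hne⟩ := exists_rot_xop h2 h4 ha had hda
  have e := hR.comm _ hm _ (hR.conj f g hf' hg' _ hm)
  simp only [cjg_smul, smul_mul_smul_comm, ← smul_sub, smul_smul, ← add_smul] at e
  obtain ⟨e1, e2⟩ := hR.aniso _ _ ((smul_eq_zero.1 e).resolve_right hne)
  have h8 : (8 : F) ≠ 0 := by
    have : (8 : F) = 2 * 2 * 2 := by norm_num
    rw [this]
    exact mul_ne_zero (mul_ne_zero h2 h2) h2
  exact ⟨by simpa [h8, ha] using e1, by simpa [h8, ha] using e2⟩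

/-- **both members are scalar** -/
theorem RPairs.scalar (h2 : (2 : F) ≠ 0) (h4 : Fintype.card ι = 4) {j₀ : ι}
    (hw : ∀ i, i ≠ j₀ → (Wt.w i : F) = 1) {B : Matrix ι ι F × Matrix ι ι F} (hB : B ∈ R) :
    (∃ c : F, B.1 = c • 1) ∧ ∃ c : F, B.2 = c • 1 := by
  classical
  suffices key : ∀ (C : Matrix ι ι F), C† = C →
      (∀ a d, a ⬝ʷ a ≠ 0 → a ⬝ʷ d = 0 → d ⬝ʷ d = a ⬝ʷ a → a ⬝ʷ C *ᵥ d = 0) → ∃ c : F, C = c • 1 from
    ⟨key _ (hR.sym B hB).1 fun a d ha had hda => (hR.entry h2 h4 ha had hda hB).1,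
      key _ (hR.sym B hB).2 fun a d ha had hda => (hR.entry h2 h4 ha had hda hB).2⟩
  intro C hC h
  let e : ι → ι → F := fun i => Pi.single i 1
  have ee : ∀ i, e i ⬝ʷ e i = Wt.w i := fun i => by simp [e, bf_single]
  have eij : ∀ i j, i ≠ j → e i ⬝ʷ e j = 0 := fun i j hij => by simp [e, bf_single, hij]
  have ent : ∀ i j, e i ⬝ʷ C *ᵥ e j = Wt.w i * C i j := fun i j => by simp [e, bf_single]
  have hoff : ∀ i j, i ≠ j₀ → j ≠ j₀ → i ≠ j → C i j = 0 := fun i j hi hj hij => by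
    have := h (e i) (e j) (by rw [ee]; exact Wt.ne i) (eij i j hij) (by rw [ee, ee, hw i hi, hw j hj])
    rwa [ent, hw i hi, one_mul] at this
  have hdiag : ∀ i j, i ≠ j₀ → j ≠ j₀ → C i i = C j j := fun i j hi hj => by
    rcases eq_or_ne i j with rfl | hij
    · rfl
    have := h (e i + e j) (e i - e j)
      (by simp only [add_bf, bf_add, ee, eij i j hij, eij j i hij.symm, hw i hi, hw j hj, add_zero, zero_add]
          rw [one_add_one_eq_two]; exact h2)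
      (by simp only [add_bf, bf_sub, ee, eij i j hij, eij j i hij.symm, hw i hi, hw j hj]; ring)
      (by simp only [sub_bf, bf_sub, add_bf, bf_add, ee, eij i j hij, eij j i hij.symm, hw i hi, hw j hj]; ring)
    simp only [add_bf, Matrix.mulVec_sub, bf_sub, ent, hw i hi, hw j hj, hoff i j hi hj hij, hoff j i hj hi hij.symm,
      one_mul] at this
    linear_combination this
  obtain ⟨i, -, hi⟩ := Finset.exists_mem_notMem_of_card_lt_card (s := ({j₀} : Finset ι)) (t := Finset.univ)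
    (by rw [Finset.card_univ, Finset.card_singleton]; omega)
  obtain ⟨j, -, hj⟩ := Finset.exists_mem_notMem_of_card_lt_card (s := ({j₀, i} : Finset ι)) (t := Finset.univ)
    (by have := Finset.card_le_two (a := j₀) (b := i); rw [Finset.card_univ]; omega)
  simp only [Finset.mem_singleton, Finset.mem_insert, not_or] at hi hj
  obtain ⟨hj0, hji⟩ := hj
  set δ := (Wt.w j₀ : F) with hδ
  -- the odd weight
  have hvec : ∀ {p q : ι}, p ≠ j₀ → q ≠ j₀ → p ≠ q → ∀ x y : F, x * x + y * y = δ →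
      x * C p j₀ + y * C q j₀ = 0 ∧ δ * C p p = δ * C j₀ j₀ := by
    intro p q hp hq hpq x y hxy
    set v := x • e p + y • e q with hv
    have hvv : v ⬝ʷ v = δ := by
      simp only [hv, add_bf, bf_add, smul_bf, bf_smul, ee, eij p q hpq, eij q p hpq.symm, hw p hp, hw q hq,
        smul_eq_mul]
      linear_combination hxy
    have hv0 : v ⬝ʷ e j₀ = 0 := by
      simp only [hv, add_bf, smul_bf, eij p j₀ hp, eij q j₀ hq, smul_zero, add_zero]
    have h1 := h v (e j₀) (by rw [hvv]; exact Wt.ne j₀) hv0 (by rw [hvv, ee])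
    simp only [hv, add_bf, smul_bf, ent, hw p hp, hw q hq, smul_eq_mul, one_mul] at h1
    refine ⟨h1, ?_⟩
    have h3 := h (v + e j₀) (v - e j₀)
      (by simp only [add_bf, bf_add, hvv, hv0, bf_comm (e j₀) v, ee, add_zero, zero_add, ← hδ]
          rw [← two_mul]; exact mul_ne_zero h2 (Wt.ne j₀))
      (by simp only [add_bf, bf_sub, hvv, hv0, bf_comm (e j₀) v, ee, ← hδ]; ring)
      (by simp only [sub_bf, bf_sub, add_bf, bf_add, hvv, hv0, bf_comm (e j₀) v, ee, ← hδ]; ring)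
    have hs : e j₀ ⬝ʷ C *ᵥ v = v ⬝ʷ C *ᵥ e j₀ := by rw [mulVec_bf, hC, bf_comm]
    simp only [add_bf, Matrix.mulVec_sub, bf_sub, hs] at h3
    simp only [hv, Matrix.mulVec_add, Matrix.mulVec_smul, add_bf, bf_add, smul_bf, bf_smul, ent, smul_eq_mul, hw p hp,
      hw q hq, hoff p q hp hq hpq, hoff q p hq hp hpq.symm, hdiag q p hq hp, ← hδ] at h3
    linear_combination h3 - (C p p) * hxy
  obtain ⟨x, y, hxy⟩ := binary_value h2 (a := (1 : F)) (b := 1) one_ne_zero one_ne_zero δ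
  have hxy' : x * x + y * y = δ := by linear_combination hxy
  obtain ⟨f1, hd⟩ := hvec hi hj0 (Ne.symm hji) x y hxy'
  have hcol : ∀ {p q : ι}, p ≠ j₀ → q ≠ j₀ → p ≠ q → C p j₀ = 0 := fun {p q} hp hq hpq => by
    have g1 := (hvec hp hq hpq x y hxy').1
    have g2 := (hvec hp hq hpq (-y) x (by linear_combination hxy')).1
    have g3 : δ * C p j₀ = 0 := by rw [← hxy']; linear_combination x * g1 - y * g2
    exact (mul_eq_zero.1 g3).resolve_left (Wt.ne j₀)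
  refine ⟨C i i, Matrix.ext fun p q => ?_⟩
  rw [Matrix.smul_apply, smul_eq_mul, Matrix.one_apply]
  have hcol' : ∀ p, p ≠ j₀ → C p j₀ = 0 := fun p hp => by
    rcases eq_or_ne p i with rfl | hpi
    · exact hcol hp hj0 (Ne.symm hji)
    · exact hcol hp hi hpi
  rcases eq_or_ne p q with rfl | hpq
  · rw [if_pos rfl, mul_one]
    rcases eq_or_ne p j₀ with rfl | hp
    · exact (mul_left_cancel₀ (Wt.ne p) hd).symm
    · exact hdiag p i hp hi
  rw [if_neg hpq, mul_zero]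
  rcases eq_or_ne q j₀ with rfl | hq
  · exact hcol' p hpq
  rcases eq_or_ne p j₀ with rfl | hp
  · have := w_mul_ad C p q
    rw [hC, hcol' q hq, zero_mul] at this
    exact (mul_eq_zero.1 this).resolve_left (Wt.ne p)
  · exact hoff p q hp hq hpq

end Cfsg.Agent.MaxCl.TEv
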