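/-
Elements of the unipotent radical at a pure singular subspace of a product with a four dimensional factor: only the
pure ones are present in the group.
-/
import Cfsg.Agent.Lib.MaxCl.TEvLoc
import Cfsg.Agent.Lib.MaxCl.TEvSym

set_option autoImplicit false
set_option linter.unusedSectionVars false

namespace Cfsg.Agent.MaxCl.TEv

open Matrix
open TOrth (rk inl inr inl_val inr_val kr_val rgt rgt_mul rgt_add rgt_smul rgt_one rgt_zero rgt_sub rgt_inj inr_eq_rgt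
  kron_inj blk blk_ext blk_mul_rgt blk_rgt_mul blk_kronecker inl_commute_rgt Mx)
open TW (tk pm pg rt rid spl sl Wr)
open scoped MatrixGroups Kronecker

variable {F : Type*} [Field F] {k : ℕ} [Wt (Fin k) F]

/-- a frame with a hyperbolic pair and an elliptic plane -/
structure Fr4 (v w e₁ e₂ : Fin k → F) : Prop where
  vv : v ⬝ʷ v = 0
  ww : w ⬝ʷ w = 0
  vw : v ⬝ʷ w = 1
  ve₁ : v ⬝ʷ e₁ = 0
  ve₂ : v ⬝ʷ e₂ = 0
  we₁ : w ⬝ʷ e₁ = 0
  we₂ : w ⬝ʷ e₂ = 0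
  ee : e₁ ⬝ʷ e₂ = 0
  aniso : ∀ x y : F, (e₁ ⬝ʷ e₁) * (x * x) + (e₂ ⬝ʷ e₂) * (y * y) = 0 → x = 0 ∧ y = 0
  sum : ov v w + ov w v + pj e₁ + pj e₂ = 1

theorem Fr4.ne₁ {v w e₁ e₂ : Fin k → F} (h : Fr4 v w e₁ e₂) : e₁ ⬝ʷ e₁ ≠ 0 := fun e =>
  one_ne_zero (h.aniso 1 0 (by rw [e]; ring)).1

theorem Fr4.ne₂ {v w e₁ e₂ : Fin k → F} (h : Fr4 v w e₁ e₂) : e₂ ⬝ʷ e₂ ≠ 0 := fun e =>
  one_ne_zero (h.aniso 0 1 (by rw [e]; ring)).2

theorem Fr4.wv {v w e₁ e₂ : Fin k → F} (h : Fr4 v w e₁ e₂) : w ⬝ʷ v = 1 := by rw [bf_comm]; exact h.vw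

theorem Fr4.ovvw {v w e₁ e₂ : Fin k → F} (h : Fr4 v w e₁ e₂) : ov v w ≠ 0 := fun e => by
  have := congrArg (fun m => w ⬝ʷ (m *ᵥ v)) e
  simp only [ov_mulVec, h.wv, one_smul, Matrix.zero_mulVec, bf_zero] at this
  exact one_ne_zero this

theorem Fr4.ovvv {v w e₁ e₂ : Fin k → F} (h : Fr4 v w e₁ e₂) : ov v v ≠ 0 := fun e => by
  have := congrArg (fun m => w ⬝ʷ (m *ᵥ w)) e
  simp only [ov_mulVec, h.vw, one_smul, Matrix.zero_mulVec, bf_zero, h.wv] at this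
  exact one_ne_zero this

section Factor

variable {β : Type} [Fintype β] [DecidableEq β] [Wt β F]

/-- the right contraction of an operator at two vectors -/
def ctr (x y : Fin k → F) (G : Matrix (β × Fin k) (β × Fin k) F) : Matrix β β F :=
  Matrix.of fun p q => x ⬝ʷ blk G p q *ᵥ y

theorem sandwich_ctr (a b c d : Fin k → F) (G : Matrix (β × Fin k) (β × Fin k) F) :
    rgt β (ov a b) * G * rgt β (ov c d) = ctr b c G ⊗ₖ ov a d :=
  blk_ext fun p q => by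
    rw [blk_mul_rgt, blk_rgt_mul, blk_kronecker, mul_assoc, mul_ov, ov_mul_ov, ov_smul]
    rfl

theorem kron_ov_mul (A B : Matrix β β F) (a b c d : Fin k → F) :
    (A ⊗ₖ ov a b) * (B ⊗ₖ ov c d) = ((b ⬝ʷ c) • (A * B)) ⊗ₖ ov a d := by
  rw [← Matrix.mul_kronecker_mul, ov_mul_ov, ov_smul, Matrix.kronecker_smul, Matrix.smul_kronecker]

theorem kron_ov_ad (A : Matrix β β F) (a b : Fin k → F) : (A ⊗ₖ ov a b)† = A† ⊗ₖ ov b a := by
  rw [ad_kronecker, ad_ov]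

theorem kron_ov_rgt (A : Matrix β β F) (a b c d : Fin k → F) :
    (A ⊗ₖ ov a b) * rgt β (ov c d) = ((b ⬝ʷ c) • A) ⊗ₖ ov a d := by
  rw [show rgt β (ov c d) = (1 : Matrix β β F) ⊗ₖ ov c d from rfl, kron_ov_mul, mul_one]

theorem rgt_kron_ov (A : Matrix β β F) (a b c d : Fin k → F) :
    rgt β (ov a b) * (A ⊗ₖ ov c d) = ((b ⬝ʷ c) • A) ⊗ₖ ov a d := by
  rw [show rgt β (ov a b) = (1 : Matrix β β F) ⊗ₖ ov a b from rfl, kron_ov_mul, one_mul]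

/-- an element of the radical -/
def El (v e₁ e₂ : Fin k → F) (B₁ B₂ X : Matrix β β F) : Matrix (β × Fin k) (β × Fin k) F :=
  1 + (B₁ ⊗ₖ ov v e₁ - B₁† ⊗ₖ ov e₁ v) + (B₂ ⊗ₖ ov v e₂ - B₂† ⊗ₖ ov e₂ v) + X ⊗ₖ ov v v

variable {v w e₁ e₂ : Fin k → F}

theorem el_mul (h : Fr4 v w e₁ e₂) (B₁ B₂ X C₁ C₂ Y : Matrix β β F) :
    El v e₁ e₂ B₁ B₂ X * El v e₁ e₂ C₁ C₂ Y =
      El v e₁ e₂ (B₁ + C₁) (B₂ + C₂) (X + Y - (e₁ ⬝ʷ e₁) • (B₁ * C₁†) - (e₂ ⬝ʷ e₂) • (B₂ * C₂†)) := by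
  have h1 : e₁ ⬝ʷ v = 0 := by rw [bf_comm]; exact h.ve₁
  have h2' : e₂ ⬝ʷ v = 0 := by rw [bf_comm]; exact h.ve₂
  have h3 : e₂ ⬝ʷ e₁ = 0 := by rw [bf_comm]; exact h.ee
  simp only [El, add_mul, mul_add, sub_mul, mul_sub, one_mul, mul_one, kron_ov_mul, h.vv, h.ve₁, h.ve₂, h1, h2', h.ee,
    h3, zero_smul, Matrix.zero_kronecker, sub_zero, zero_sub, add_zero, zero_add, neg_zero]
  ext ⟨p, i⟩ ⟨q, j⟩
  simp only [Matrix.add_apply, Matrix.sub_apply, Matrix.neg_apply, Matrix.kroneckerMap_apply, Matrix.smul_apply,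
    smul_eq_mul, ad_add]
  ring

theorem el_ad (B₁ B₂ X : Matrix β β F) : (El v e₁ e₂ B₁ B₂ X)† = El v e₁ e₂ (-B₁) (-B₂) X† := by
  simp only [El, ad_add, ad_sub, kron_ov_ad, ad_ad, ad_one, ad_neg]
  ext ⟨p, i⟩ ⟨q, j⟩
  simp only [Matrix.add_apply, Matrix.sub_apply, Matrix.kroneckerMap_apply, Matrix.neg_apply]
  ring

theorem el_zero (X : Matrix β β F) : El v e₁ e₂ (0 : Matrix β β F) 0 X = 1 + X ⊗ₖ ov v v := by
  simp [El, ad_zero]

theorem inl_conj_el (u : GL β F) (hu : u ∈ Orth β F) (h2 : (2 : F) ≠ 0) (B₁ B₂ X : Matrix β β F) :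
    (inl β k F u : Matrix (β × Fin k) (β × Fin k) F) * El v e₁ e₂ B₁ B₂ X *
      ((inl β k F u)⁻¹ : GL (β × Fin k) F) = El v e₁ e₂ (cjg u B₁) (cjg u B₂) (cjg u X) := by
  rw [← map_inv, inl_val, inl_val]
  have e1 : ∀ (B : Matrix β β F), (cjg u B)† = cjg u B† := fun B => by
    rw [cjg, cjg, ad_mul, ad_mul, inv_val h2 hu, ad_ad, mul_assoc]
  have e2 : ((u : Matrix β β F) ⊗ₖ (1 : Matrix (Fin k) (Fin k) F)) * ((u⁻¹ : GL β F) : Matrix β β F) ⊗ₖ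
      (1 : Matrix (Fin k) (Fin k) F) = 1 := by
    rw [← Matrix.mul_kronecker_mul, ← Units.val_mul, mul_inv_cancel, Units.val_one, one_mul, Matrix.one_kronecker_one]
  simp only [El, add_mul, mul_add, sub_mul, mul_sub, mul_one, e2, ← Matrix.mul_kronecker_mul, one_mul, e1]
  rfl

/-- the pure radical elements -/
theorem el_scalar_rgt (c₁ c₂ x : F) :
    El v e₁ e₂ (c₁ • (1 : Matrix β β F)) (c₂ • 1) (x • 1) =
      rgt β (1 + c₁ • (ov v e₁ - ov e₁ v) + c₂ • (ov v e₂ - ov e₂ v) + x • ov v v) := by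
  simp only [El, ad_smul, ad_one, rgt_add, rgt_smul, rgt_sub, rgt_one, Matrix.smul_kronecker, smul_sub]

end Factor

variable {T : Type} [Fintype T] [DecidableEq T] [Finite F] {M : Subgroup (GL ((T → Fin k) × Fin k) F)}
  (hM : Ctx T k F M) {v w e₁ e₂ : Fin k → F} (h : Fr4 v w e₁ e₂)
include hM h

/-- central radical elements are trivial -/
theorem t_lemma {g : GL ((T → Fin k) × Fin k) F} (hg : g ∈ M) {X : Matrix (T → Fin k) (T → Fin k) F}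
    (e : (g : Mx T k F) = 1 + X ⊗ₖ ov v v) : X = 0 := by
  haveI := hM.nonempty
  have h2 := hM.hyp.h2
  have h1 : e₁ ⬝ʷ v = 0 := by rw [bf_comm]; exact h.ve₁
  have he : (g : Mx T k F) * rgt _ (pj e₁) = rgt _ (pj e₁) := by
    rw [e, add_mul, one_mul, pj, rgt_smul, mul_smul_comm, kron_ov_rgt, h.ve₁, zero_smul, Matrix.zero_kronecker,
      smul_zero, add_zero]
  have he' : rgt (T → Fin k) (pj e₁) * (g : Mx T k F) = rgt _ (pj e₁) := by
    rw [e, mul_add, mul_one, pj, rgt_smul, smul_mul_assoc, rgt_kron_ov, h1, zero_smul, Matrix.zero_kronecker,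
      smul_zero, add_zero]
  obtain ⟨A, C, -, rfl⟩ := loc_line hM hM (hM.le hg) (fun x hx => mul_mem (mul_mem hg hx) (inv_mem hg)) h.ne₁
    ⟨pj e₁, he.trans he'.symm⟩
  rw [kr_val] at e he
  have hP : pj e₁ ≠ 0 := fun h' => by
    have := rk_pj h.ne₁
    rw [h', TOrth.rk_zero] at this
    omega
  obtain ⟨c, -, hc⟩ := TOrth.kron_eq (X := (1 : Matrix (T → Fin k) (T → Fin k) F))
    (Y := (A : Matrix (T → Fin k) (T → Fin k) F)) (σ := pj e₁) (τ := (C : Matrix (Fin k) (Fin k) F) * pj e₁)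
    (by rw [rgt, ← Matrix.mul_kronecker_mul, mul_one] at he; exact he.symm) hP one_ne_zero
  have hA : (A : Matrix (T → Fin k) (T → Fin k) F) ⊗ₖ (C : Matrix (Fin k) (Fin k) F) =
      rgt _ (c • (C : Matrix (Fin k) (Fin k) F)) := by
    rw [rgt, Matrix.kronecker_smul, hc, Matrix.smul_kronecker]
  rw [hA] at e
  obtain ⟨x, hx⟩ : ∃ x : F, X = x • 1 := by
    refine ⟨w ⬝ʷ (c • (C : Matrix (Fin k) (Fin k) F) - 1) *ᵥ w, kron_inj (σ := ov v v) ?_ h.ovvv⟩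
    have e' : X ⊗ₖ ov v v = rgt (T → Fin k) (c • (C : Matrix (Fin k) (Fin k) F) - 1) := by
      rw [rgt_sub, rgt_one, e, add_sub_cancel_left]
    have e2 := congrArg (fun m => rgt (T → Fin k) (ov v w) * m * rgt (T → Fin k) (ov w v)) e'
    rw [rgt_kron_ov, kron_ov_rgt, h.wv, h.vw, one_smul, one_smul, rgt_mul, rgt_mul, mul_assoc, mul_ov, ov_mul_ov,
      ov_smul] at e2
    rw [e2, Matrix.smul_kronecker, rgt_smul]
  subst hx
  have hC : c • (C : Matrix (Fin k) (Fin k) F) = 1 + x • ov v v :=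
    rgt_inj (β := T → Fin k) (e.trans (by rw [rgt_add, rgt_one, rgt_smul, Matrix.smul_kronecker]))
  have ho := ad_mul_self h2 (hM.le hg)
  rw [kr_val, hA, hC, rgt_ad, rgt_mul, ad_add, ad_one, ad_smul, ad_ov, add_mul, mul_add, mul_add, one_mul, one_mul,
    mul_one, smul_mul_smul_comm, ov_mul_ov, h.vv, ov_smul, zero_smul, smul_zero, add_zero, ← rgt_one] at ho
  have h' : (2 * x) • ov v v = 0 := by
    have := rgt_inj (β := T → Fin k) ho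
    rw [add_assoc, add_eq_left, ← two_smul F (x • ov v v), smul_smul] at this
    exact this
  rw [((mul_eq_zero.1 ((smul_eq_zero.1 h').resolve_right h.ovvv)).resolve_left h2), zero_smul]

variable [Subsingleton T]

/-- rotations of the left factor are present -/
theorem inl_rf_rf_mem {f g : (T → Fin k) → F} (hf : f ⬝ʷ f ≠ 0) (hg : g ⬝ʷ g ≠ 0) :
    inl _ k F (rf f * rf g) ∈ M := by
  obtain ⟨r⟩ := hM.ne
  haveI : Unique T := uniqueOfSubsingleton r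
  let e : (T → Fin k) ≃ Fin k := Equiv.funUnique T (Fin k)
  have hd : ∀ x y : (T → Fin k) → F, x ⬝ʷ y = (x ∘ e.symm) ⬝ʷ (y ∘ e.symm) := fun x y => by
    refine Fintype.sum_equiv e _ _ fun i => ?_
    simp only [Function.comp_apply, Equiv.symm_apply_apply, w_pi, Fintype.prod_unique]
    rfl
  have hrf : ∀ {a : (T → Fin k) → F}, a ⬝ʷ a ≠ 0 →
      rt r (rf (a ∘ e.symm)) = rf a ∧ (a ∘ e.symm) ⬝ʷ (a ∘ e.symm) ≠ 0 := fun {a} ha => by
    have ha' : (a ∘ e.symm) ⬝ʷ (a ∘ e.symm) ≠ 0 := by rwa [← hd]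
    refine ⟨Units.ext ?_, ha'⟩
    rw [TOrth.sl_eq_rt, rf_val ha', rf_val ha, pj, pj, ← hd]
    ext x y
    show ∏ q, (Pi.mulSingle r _ : T → Matrix (Fin k) (Fin k) F) q (x q) (y q) = _
    rw [Fintype.prod_unique, show (default : T) = r from Subsingleton.elim _ _, Pi.mulSingle_eq_same]
    have hx : ∀ z : T → Fin k, e.symm (z r) = z := fun z => funext fun q => by
      simp [e, Equiv.funUnique, Subsingleton.elim q r]
    simp only [Matrix.sub_apply, Matrix.one_apply, Matrix.smul_apply, ov_apply, Function.comp_apply, hx, smul_eq_mul]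
    rw [show (Wt.w y : F) = Wt.w (y r) by rw [w_pi, Fintype.prod_unique, show (default : T) = r from Subsingleton.elim _ _]]
    congr 1
    exact if_congr ⟨fun h => funext fun q => by rw [Subsingleton.elim q r, h], fun h => by rw [h]⟩ rfl rfl
  obtain ⟨e1, h1⟩ := hrf hf
  obtain ⟨e2, h2'⟩ := hrf hg
  have := hM.rt_so r (so_rf_mul h1 h2')
  rwa [map_mul, e1, e2] at this

omit [Subsingleton T] in
/-- the pure radical elements are present -/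
theorem pure_el_mem (c₁ c₂ : F) : ∃ q ∈ M, ∃ x : F,
    (q : Mx T k F) = El v e₁ e₂ (c₁ • 1) (c₂ • 1) (x • 1) := by
  have hq : ∀ {e : Fin k → F}, e ⬝ʷ e ≠ 0 → v ⬝ʷ e = 0 → ∀ c : F, ∃ q ∈ M, ∃ x : F,
      (q : Mx T k F) = rgt _ (1 + c • (ov v e - ov e v) + x • ov v v) := by
    intro e he hve c
    set t : F := c * (e ⬝ʷ e) / 2 with ht
    have hev : e ⬝ʷ v = 0 := by rw [bf_comm]; exact hve
    set f := e + t • v with hf
    have hff : f ⬝ʷ f = e ⬝ʷ e := by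
      simp only [hf, add_bf, bf_add, smul_bf, bf_smul, hve, hev, h.vv, smul_zero, add_zero]
    have hfe : f ⬝ʷ e = e ⬝ʷ e := by simp only [hf, add_bf, smul_bf, hve, smul_zero, add_zero]
    have hf0 : f ⬝ʷ f ≠ 0 := by rw [hff]; exact he
    refine ⟨inr _ k F (rf f * rf e), hM.inr_rf_rf hf0 he, -(2 * (e ⬝ʷ e)⁻¹ * (t * t)), ?_⟩
    rw [inr_eq_rgt, Units.val_mul, rf_val he, rf_val hf0, pj, pj, hff]
    congr 1
    simp only [sub_mul, mul_sub, one_mul, mul_one, smul_mul_smul_comm, ov_mul_ov, hfe]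
    simp only [hf, ov_add, add_ov, ov_smul, smul_ov, smul_add, smul_sub, smul_smul, ht]
    have h2 := hM.hyp.h2
    match_scalars <;> (try field_simp) <;> ring
  obtain ⟨q₁, hq₁, x₁, e1⟩ := hq h.ne₁ h.ve₁ c₁
  obtain ⟨q₂, hq₂, x₂, e2⟩ := hq h.ne₂ h.ve₂ c₂
  refine ⟨q₁ * q₂, mul_mem hq₁ hq₂, x₁ + x₂, ?_⟩
  have p1 : rgt (T → Fin k) (1 + c₁ • (ov v e₁ - ov e₁ v) + x₁ • ov v v) =
      El v e₁ e₂ (c₁ • (1 : Matrix (T → Fin k) (T → Fin k) F)) ((0 : F) • 1) (x₁ • 1) := by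
    rw [el_scalar_rgt, zero_smul, add_zero]
  have p2 : rgt (T → Fin k) (1 + c₂ • (ov v e₂ - ov e₂ v) + x₂ • ov v v) =
      El v e₁ e₂ ((0 : F) • (1 : Matrix (T → Fin k) (T → Fin k) F)) (c₂ • 1) (x₂ • 1) := by
    rw [el_scalar_rgt, zero_smul, add_zero]
  rw [Units.val_mul, e1, e2, p1, p2, el_mul h]
  simp [ad_smul, ad_one, add_smul, ad_zero]

omit [Subsingleton T] in
/-- radical elements present commute, and their pairs are isotropic for the commutator pairing -/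
theorem el_pair {g g' : GL ((T → Fin k) × Fin k) F} (hg : g ∈ M) (hg' : g' ∈ M)
    {B₁ B₂ X C₁ C₂ Y : Matrix (T → Fin k) (T → Fin k) F} (e : (g : Mx T k F) = El v e₁ e₂ B₁ B₂ X)
    (e' : (g' : Mx T k F) = El v e₁ e₂ C₁ C₂ Y) :
    (e₁ ⬝ʷ e₁) • (B₁ * C₁† - C₁ * B₁†) + (e₂ ⬝ʷ e₂) • (B₂ * C₂† - C₂ * B₂†) = 0 := by
  set Z := X + Y - (e₁ ⬝ʷ e₁) • (B₁ * C₁†) - (e₂ ⬝ʷ e₂) • (B₂ * C₂†)
  set Z' := Y + X - (e₁ ⬝ʷ e₁) • (C₁ * B₁†) - (e₂ ⬝ʷ e₂) • (C₂ * B₂†)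
  have hm : g * g' * (g' * g)⁻¹ ∈ M := mul_mem (mul_mem hg hg') (inv_mem (mul_mem hg' hg))
  have hv : ((g * g' * (g' * g)⁻¹ : GL ((T → Fin k) × Fin k) F) : Mx T k F) = 1 + (Z - Z') ⊗ₖ ov v v := by
    refine (g' * g).isUnit.mul_right_cancel ?_
    rw [← Units.val_mul, inv_mul_cancel_right, Units.val_mul, Units.val_mul, e, e', el_mul h, el_mul h,
      ← el_zero (e₁ := e₁) (e₂ := e₂), el_mul h]
    congr 1 <;> simp [zero_add, add_comm, Z, Z']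
  have := t_lemma hM h hm hv
  rw [← neg_eq_zero, ← this]
  simp only [Z, Z', smul_sub]
  abel

/-- **radical elements of the group are pure** -/
theorem el_pure (hk : k = 4) {g : GL ((T → Fin k) × Fin k) F} (hg : g ∈ M)
    {B₁ B₂ X : Matrix (T → Fin k) (T → Fin k) F} (e : (g : Mx T k F) = El v e₁ e₂ B₁ B₂ X) :
    ∃ c₁ c₂ x : F, B₁ = c₁ • 1 ∧ B₂ = c₂ • 1 ∧ (g : Mx T k F) = El v e₁ e₂ (c₁ • 1) (c₂ • 1) (x • 1) := by
  classical
  have h2 := hM.hyp.h2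
  let R : Set (Matrix (T → Fin k) (T → Fin k) F × Matrix (T → Fin k) (T → Fin k) F) :=
    {B | ∃ g ∈ M, ∃ X, (g : Mx T k F) = El v e₁ e₂ B.1 B.2 X}
  have hR : RPairs R (e₁ ⬝ʷ e₁) (e₂ ⬝ʷ e₂) := by
    have hsym : ∀ B ∈ R, B.1† = B.1 ∧ B.2† = B.2 := by
      rintro B ⟨g, hg, X, eg⟩
      obtain ⟨q, hq, x, eq⟩ := pure_el_mem hM h 1 0
      obtain ⟨q', hq', x', eq'⟩ := pure_el_mem hM h 0 1
      have r1 := el_pair hM h hg hq eg eq
      have r2 := el_pair hM h hg hq' eg eq'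
      simp only [one_smul, zero_smul, ad_one, ad_zero, mul_one, one_mul, mul_zero, zero_mul, sub_zero, smul_zero,
        add_zero, zero_add] at r1 r2
      exact ⟨(sub_eq_zero.1 ((smul_eq_zero.1 r1).resolve_left h.ne₁)).symm,
        (sub_eq_zero.1 ((smul_eq_zero.1 r2).resolve_left h.ne₂)).symm⟩
    refine ⟨?_, ?_, hsym, ?_, h.aniso⟩
    · rintro B ⟨g, hg, X, eg⟩ C ⟨g', hg', Y, eg'⟩
      refine ⟨g * g'⁻¹, mul_mem hg (inv_mem hg'), ?_⟩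
      rw [Units.val_mul, inv_val h2 (hM.le hg'), eg, eg', el_ad, el_mul h, ← sub_eq_add_neg, ← sub_eq_add_neg]
      exact ⟨_, rfl⟩
    · rintro f f' hf hf' B ⟨g, hg, X, eg⟩
      have hu := inl_rf_rf_mem hM h hf hf'
      refine ⟨_, mul_mem (mul_mem hu hg) (inv_mem hu), cjg (rf f * rf f') X, ?_⟩
      rw [Units.val_mul, Units.val_mul, eg, inl_conj_el _ (mul_mem (rf_mem f) (rf_mem f')) h2]
    · rintro B hB C hC
      obtain ⟨g, hg, X, eg⟩ := hB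
      obtain ⟨g', hg', Y, eg'⟩ := hC
      have := el_pair hM h hg hg' eg eg'
      obtain ⟨s1, s2⟩ := hsym B ⟨g, hg, X, eg⟩
      obtain ⟨t1, t2⟩ := hsym C ⟨g', hg', Y, eg'⟩
      rwa [s1, s2, t1, t2] at this
  obtain ⟨r⟩ := hM.ne
  haveI : Unique T := uniqueOfSubsingleton r
  obtain ⟨j₀, hj⟩ := hM.hyp.ones
  obtain ⟨⟨c₁, hc₁⟩, ⟨c₂, hc₂⟩⟩ := hR.scalar h2 (by rw [Fintype.card_fun, Fintype.card_fin, Fintype.card_unique (α := T), pow_one, hk])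
    (j₀ := fun _ => j₀) (fun i hi => by
      rw [w_pi, Fintype.prod_unique]
      exact hj _ fun e' => hi (funext fun q => by rw [Unique.eq_default q, e']))
    (B := (B₁, B₂)) ⟨g, hg, X, e⟩
  simp only at hc₁ hc₂
  obtain ⟨q, hq, x, eq⟩ := pure_el_mem hM h c₁ c₂
  refine ⟨c₁, c₂, x, hc₁, hc₂, ?_⟩
  have hm : g * q⁻¹ ∈ M := mul_mem hg (inv_mem hq)
  have hq0 := ad_mul_self h2 (hM.le hq)
  have hv : ∃ Z, ((g * q⁻¹ : GL ((T → Fin k) × Fin k) F) : Mx T k F) = 1 + Z ⊗ₖ ov v v := by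
    rw [Units.val_mul, inv_val h2 (hM.le hq), e, eq, el_ad, el_mul h, hc₁, hc₂, add_neg_cancel, add_neg_cancel]
    exact ⟨_, el_zero _⟩
  obtain ⟨Z, hZ⟩ := hv
  have h1 : g * q⁻¹ = 1 := Units.ext (by
    rw [hZ, t_lemma hM h hm hZ, Matrix.zero_kronecker, add_zero, Units.val_one])
  rw [mul_inv_eq_one.1 h1, eq]

end Cfsg.Agent.MaxCl.TEv
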