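/-
A group containing the controlled slot elements of all pure unit lines contains the derived isometry group: its
Siegel groups at pure singular vectors are full.
-/
import Cfsg.Agent.Lib.MaxCl.TOrthParts

set_option autoImplicit false
set_option linter.unusedSectionVars false

namespace Cfsg.Agent.MaxCl.TOrth

open Matrix
open TW (tk pm pg rt rid spl sl Wr tp)
open scoped MatrixGroups Kronecker

variable {F : Type*} [Field F] {k : ℕ}

section Factor

variable {β : Type} [Fintype β] [DecidableEq β]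

/-- controlled elements of the right factor, as matrices -/
def lelMat {P : Matrix β β F} (hP : Pr P) : GL (Fin k) F →* Matrix (β × Fin k) (β × Fin k) F where
  toFun y := (1 - P) ⊗ₖ (1 : Matrix (Fin k) (Fin k) F) + P ⊗ₖ (y : Matrix (Fin k) (Fin k) F)
  map_one' := by rw [Units.val_one, ← Matrix.add_kronecker, sub_add_cancel, Matrix.one_kronecker_one]
  map_mul' y z := by
    simp only [add_mul, mul_add, ← Matrix.mul_kronecker_mul, one_mul, mul_one, hP.idem, hP.mul_one_sub,
      hP.one_sub_mul, hP.one_sub.idem, Matrix.zero_kronecker, add_zero, zero_add, Units.val_mul]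

/-- controlled elements of the right factor -/
def lelHom {P : Matrix β β F} (hP : Pr P) : GL (Fin k) F →* GL (β × Fin k) F := (lelMat hP).toHomUnits

theorem lelHom_val {P : Matrix β β F} (hP : Pr P) (y : GL (Fin k) F) :
    (lelHom hP y : Matrix (β × Fin k) (β × Fin k) F) =
      (1 - P) ⊗ₖ (1 : Matrix (Fin k) (Fin k) F) + P ⊗ₖ (y : Matrix (Fin k) (Fin k) F) := rfl

theorem kron_mulVec_pv (A : Matrix β β F) (C : Matrix (Fin k) (Fin k) F) (d : β → F) (z : Fin k → F) :
    (A ⊗ₖ C) *ᵥ TP.pv d z = TP.pv (A *ᵥ d) (C *ᵥ z) := by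
  funext ⟨p, i⟩
  simp only [Matrix.mulVec, dotProduct, Matrix.kroneckerMap_apply, Fintype.sum_prod_type, TP.pv_apply,
    Finset.sum_mul_sum]
  exact Finset.sum_congr rfl fun _ _ => Finset.sum_congr rfl fun _ _ => by ring

theorem act_lel {P : Matrix β β F} (hP : Pr P) (h : GL (Fin k) F) (d : β → F) (z : Fin k → F) :
    act (lelHom hP h) (TP.pv d z) = TP.pv d z + TP.pv (P *ᵥ d) (act h z - z) := by
  rw [act_apply, lelHom_val, Matrix.add_mulVec, kron_mulVec_pv, kron_mulVec_pv, Matrix.one_mulVec,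
    Matrix.sub_mulVec, Matrix.one_mulVec, ← act_apply]
  funext ⟨p, i⟩
  simp only [Pi.add_apply, TP.pv_apply, Pi.sub_apply]
  ring

theorem lel_orth (h2 : (2 : F) ≠ 0) {P : Matrix β β F} (hP : Pr P) {y : GL (Fin k) F} (hy : y ∈ Orth (Fin k) F) :
    lelHom hP y ∈ Orth (β × Fin k) F := by
  rw [mem_orth_iff h2, lelHom_val, Matrix.transpose_add, ← Matrix.kroneckerMap_transpose,
    ← Matrix.kroneckerMap_transpose, hP.one_sub.symm, hP.symm, Matrix.transpose_one]
  simp only [add_mul, mul_add, ← Matrix.mul_kronecker_mul, one_mul, mul_one, hP.idem, hP.mul_one_sub,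
    hP.one_sub_mul, hP.one_sub.idem, Matrix.zero_kronecker, add_zero, zero_add, transpose_mul h2 hy]
  rw [← Matrix.add_kronecker, sub_add_cancel, Matrix.one_kronecker_one]

theorem dot_pv (d d' : β → F) (z z' : Fin k → F) :
    TP.pv d z ⬝ᵥ TP.pv d' z' = (d ⬝ᵥ d') * (z ⬝ᵥ z') := by
  simp only [dotProduct, TP.pv_apply, Fintype.sum_prod_type, Finset.sum_mul_sum]
  exact Finset.sum_congr rfl fun _ _ => Finset.sum_congr rfl fun _ _ => by ring

end Factor

/-- unit vectors with two given non-zero coordinates -/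
theorem exists_two_coord [Finite F] (hh : Hyp k F) {i j : Fin k} (hij : i ≠ j) :
    ∃ b : Fin k → F, b ⬝ᵥ b = 1 ∧ b i ≠ 0 ∧ b j ≠ 0 := by
  classical
  haveI := Fintype.ofFinite F
  have h2 := hh.h2
  obtain ⟨l, hli, hlj⟩ := TW.exists_third hh.three i j
  have hval : ∀ x y z : F, (x • Pi.single i 1 + y • Pi.single j 1 + z • Pi.single l 1 : Fin k → F) ⬝ᵥ
      (x • Pi.single i 1 + y • Pi.single j 1 + z • Pi.single l 1) = x ^ 2 + y ^ 2 + z ^ 2 := by
    intro x y z
    simp [add_dotProduct, dotProduct_add, hij, hij.symm, hli, hli.symm, hlj, hlj.symm]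
    ring
  by_cases h5 : 5 ≤ Nat.card F
  · obtain ⟨α, hα0, hα1, hα2⟩ : ∃ α : F, α ≠ 0 ∧ α ≠ 1 ∧ α ≠ -1 := by
      by_contra hc
      push Not at hc
      have : Fintype.card F ≤ ({0, 1, -1} : Finset F).card := Finset.card_le_card fun x _ => by
        by_cases h0 : x = 0
        · simp [h0]
        by_cases h1 : x = 1
        · simp [h1]
        simp [hc x h0 h1]
      have := this.trans Finset.card_le_three
      rw [Nat.card_eq_fintype_card] at h5
      omega
    obtain ⟨y, z, hyz⟩ := binary_value h2 (a := (1 : F)) (b := 1) one_ne_zero one_ne_zero (1 - α ^ 2)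
    obtain ⟨y, z, hy, hyz⟩ : ∃ y z : F, y ≠ 0 ∧ y ^ 2 + z ^ 2 = 1 - α ^ 2 := by
      rcases eq_or_ne y 0 with rfl | hy
      · refine ⟨z, 0, fun hz => ?_, by linear_combination hyz⟩
        subst hz
        have : (α - 1) * (α + 1) = 0 := by linear_combination hyz
        rcases mul_eq_zero.1 this with h | h
        · exact hα1 (sub_eq_zero.1 h)
        · exact hα2 (eq_neg_of_add_eq_zero_left h)
      · exact ⟨y, z, hy, by linear_combination hyz⟩
    refine ⟨_, by rw [hval α y z]; linear_combination hyz, ?_, ?_⟩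
    · simp [hij, hli.symm, hα0]
    · simp [hij.symm, hlj.symm, hy]
  · have hk := hh.big.resolve_right h5
    have h3 : (3 : F) = 0 := by
      have hq := FiniteField.odd_card_of_char_ne_two (F := F) fun hc => h2 (by
        haveI := ringChar.of_eq hc
        exact CharTwo.two_eq_zero)
      have h1 := Fintype.one_lt_card (α := F)
      rw [Nat.card_eq_fintype_card] at h5
      have := FiniteField.cast_card_eq_zero F
      rw [show Fintype.card F = 3 by omega] at this
      exact_mod_cast this
    obtain ⟨l', hl'⟩ : ∃ l', l' ∉ ({i, j, l} : Finset (Fin k)) := by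
      by_contra hc
      push Not at hc
      have := (Finset.card_le_card (s := Finset.univ) fun x _ => hc x).trans
        (Finset.card_le_three (a := i) (b := j) (c := l))
      rw [Finset.card_univ, Fintype.card_fin] at this
      omega
    simp only [Finset.mem_insert, Finset.mem_singleton, not_or] at hl'
    obtain ⟨h1, h2', h3'⟩ := hl'
    refine ⟨Pi.single i 1 + Pi.single j 1 + Pi.single l 1 + Pi.single l' 1, ?_, ?_, ?_⟩
    · simp [add_dotProduct, dotProduct_add, hij, hij.symm, hli, hli.symm, hlj, hlj.symm, h1, Ne.symm h1, h2',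
        Ne.symm h2', h3', Ne.symm h3']
      linear_combination h3
    · simp [hij, hli.symm, Ne.symm h1]
    · simp [hij.symm, hlj.symm, Ne.symm h2']

/-- a subspace invariant under the derived group -/
theorem vec_irred [Finite F] (hh : Hyp k F) {W : Submodule F (Fin k → F)}
    (hW : ∀ g ∈ Om (Fin k) F, ∀ z ∈ W, act g z ∈ W) {x : Fin k → F} (hx : x ∈ W) (hx0 : x ≠ 0) : W = ⊤ := by
  have h2 := hh.h2
  obtain ⟨i, hi⟩ := Function.ne_iff.1 hx0
  have hstart : (Pi.single i (1 : F) : Fin k → F) ∈ W := by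
    have := W.smul_mem (2 * x i)⁻¹ (add_mem (hW _ (zz_single_mem h2 hh.odd' i) x hx) hx)
    convert this using 1
    funext j
    rw [act_apply, zz_val (by simp), Matrix.sub_mulVec, Matrix.one_mulVec, Matrix.smul_mulVec, pj_mulVec,
      sub_add_cancel]
    simp only [single_dotProduct, Pi.single_eq_same, mul_one, inv_one, one_mul, Pi.smul_apply, smul_eq_mul]
    rcases eq_or_ne j i with rfl | hj
    · rw [Pi.single_eq_same, mul_one, inv_mul_cancel₀ (mul_ne_zero h2 hi)]
    · rw [Pi.single_eq_of_ne hj]; ring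
  rw [Submodule.eq_top_iff']
  intro z
  rw [pi_eq_sum_univ' z]
  refine sum_mem fun j _ => W.smul_mem _ ?_
  rcases eq_or_ne i j with rfl | hij
  · exact hstart
  obtain ⟨σ, hσ, hmem⟩ := exists_cycle h2 hh.three' hij (F := F)
  convert hW _ hmem _ hstart using 1
  funext a
  rw [act_pmat]
  simp [Pi.single_apply, Equiv.symm_apply_eq, hσ]

/-- Siegel elements of the factor -/
theorem sg_mem_om (h2 : (2 : F) ≠ 0) [Finite F] {ι : Type} [Fintype ι] [DecidableEq ι] {u w : ι → F}
    (hu : u ⬝ᵥ u = 0) (h : u ⬝ᵥ w = 0) : Orth.sg (dq ι F) u w ∈ Om ι F := by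
  have hb : ∀ c : F, QuadraticMap.polar (⇑(dq ι F)) u (c • w) = 0 := fun c => by
    rw [polar_dq, dotProduct_smul, h, smul_zero, mul_zero]
  have := sq_mem_om h2 (Orth.sg_mem_iso (dq ι F) u ((2 : F)⁻¹ • w))
  rwa [Orth.sg_add (dq ι F) (by rw [dq_apply, hu]) (hb _) (hb _), ← add_smul,
    show (2 : F)⁻¹ + (2 : F)⁻¹ = 1 by field_simp; norm_num, one_smul] at this

variable {T : Type} [Fintype T] [DecidableEq T]

theorem pm_mulVec_tp (f : T → Matrix (Fin k) (Fin k) F) (a : T → Fin k → F) :
    pm f *ᵥ tp a = tp fun s => f s *ᵥ a s := by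
  funext x
  simp only [mulVec, dotProduct, TW.tp_apply, TW.pm_apply, Fintype.prod_sum, Finset.prod_mul_distrib]

theorem sl_mulVec_tp (s : T) (A : Matrix (Fin k) (Fin k) F) (a : T → Fin k → F) :
    sl s A *ᵥ tp a = tp (Function.update a s (A *ᵥ a s)) := by
  rw [show sl s A = pm (Pi.mulSingle s A) from rfl, pm_mulVec_tp]
  refine congrArg tp (funext fun r => ?_)
  rcases eq_or_ne r s with rfl | hr
  · simp
  · simp [hr]

theorem pr_sl (s : T) {π : Matrix (Fin k) (Fin k) F} (hπ : Pr π) : Pr (sl s π) := by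
  refine ⟨?_, by rw [← map_mul, hπ.idem]⟩
  rw [show sl s π = pm (Pi.mulSingle s π) from rfl, pm_transpose]
  refine congrArg pm (funext fun r => ?_)
  rcases eq_or_ne r s with rfl | hr
  · rw [Pi.mulSingle_eq_same]; exact hπ.symm
  · rw [Pi.mulSingle_eq_of_ne hr]; exact Matrix.transpose_one

/-- the coordinate projection of the left factor -/
abbrev cp (y : T → Fin k) : Matrix (T → Fin k) (T → Fin k) F := pj (Pi.single y (1 : F))

theorem pr_cp (y : T → Fin k) : Pr (cp (F := F) y) := pr_pj (by simp)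

theorem cp_mulVec (y : T → Fin k) (z : (T → Fin k) → F) :
    cp (F := F) y *ᵥ z = z y • Pi.single y 1 := by
  rw [cp, pj_mulVec]
  simp

variable [Finite F] (hh : Hyp k F) {M : Subgroup (GL ((T → Fin k) × Fin k) F)}
  (hC : ∀ y : T → Fin k, ∀ h ∈ Om (Fin k) F, lelHom (pr_cp (F := F) y) h ∈ M)
  (hS : ∀ (s : T) (b : Fin k → F) (hb : b ⬝ᵥ b = 1), ∀ h ∈ Om (Fin k) F,
    lelHom (pr_sl s (pr_pj (show b ⬝ᵥ b ≠ 0 by rw [hb]; exact one_ne_zero))) h ∈ M)
include hh hC hS

/-- the Siegel group at a pure singular vector is full -/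
theorem full_pure {x : Fin k → F} (hx0 : x ≠ 0) (hxx : x ⬝ᵥ x = 0) {v : Fin k → F} (hxv : x ⬝ᵥ v = 0)
    (hvv : v ⬝ᵥ v ≠ 0) (y₀ : T → Fin k) :
    Orth.Full (dq ((T → Fin k) × Fin k) F) M (TP.pv (Pi.single y₀ (1 : F)) x) := by
  classical
  have h2 := hh.h2
  set u := TP.pv (Pi.single y₀ (1 : F)) x with hu
  set Q := dq ((T → Fin k) × Fin k) F
  have huu : u ⬝ᵥ u = 0 := by rw [hu, dot_pv, hxx, mul_zero]
  have hQu : Q u = 0 := by rw [dq_apply, huu]
  let L : Submodule F (((T → Fin k) × Fin k) → F) :=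
    { carrier := {w | u ⬝ᵥ w = 0 ∧ ∀ c : F, Orth.sg Q u (c • w) ∈ M}
      add_mem' := fun {a b} ha hb => ⟨by rw [dotProduct_add, ha.1, hb.1, add_zero], fun c => by
        rw [smul_add, ← Orth.sg_add Q hQu (by rw [polar_dq, dotProduct_smul, ha.1, smul_zero, mul_zero])
          (by rw [polar_dq, dotProduct_smul, hb.1, smul_zero, mul_zero])]
        exact mul_mem (ha.2 c) (hb.2 c)⟩
      zero_mem' := ⟨dotProduct_zero u, fun c => by rw [smul_zero, Orth.sg_zero]; exact one_mem _⟩
      smul_mem' := fun a w hw => ⟨by rw [dotProduct_smul, hw.1, smul_zero], fun c => by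
        rw [smul_smul]; exact hw.2 _⟩ }
  have hstab : ∀ g ∈ M, g ∈ Orth ((T → Fin k) × Fin k) F → act g u = u → ∀ w ∈ L, act g w ∈ L := by
    intro g hgM hgO hfix w hw
    refine ⟨?_, fun c => ?_⟩
    · rw [← hfix, dot_act h2 hgO]; exact hw.1
    · rw [← map_smul, ← hfix, ← Orth.conj_sg Q hgO]
      exact mul_mem (mul_mem hgM (hw.2 c)) (inv_mem hgM)
  -- the line of u
  have hbase : ∀ w, x ⬝ᵥ w = 0 → TP.pv (Pi.single y₀ (1 : F)) w ∈ L := by
    intro w hw
    refine ⟨by rw [hu, dot_pv, hw, mul_zero], fun c => ?_⟩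
    have hcw : x ⬝ᵥ (c • w) = 0 := by rw [dotProduct_smul, hw, smul_zero]
    have hQx : dq (Fin k) F x = 0 := by rw [dq_apply, hxx]
    have hBx : QuadraticMap.polar (⇑(dq (Fin k) F)) x (c • w) = 0 := by rw [polar_dq, hcw, mul_zero]
    have hBu : QuadraticMap.polar (⇑Q) u (c • TP.pv (Pi.single y₀ (1 : F)) w) = 0 := by
      rw [polar_dq, ← TP.pv_smul_right, hu, dot_pv, hcw, mul_zero, mul_zero]
    have e : Orth.sg Q u (c • TP.pv (Pi.single y₀ (1 : F)) w) =
        lelHom (pr_cp (F := F) y₀) (Orth.sg (dq (Fin k) F) x (c • w)) := by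
      refine gl_ext fun X => funext fun p => ?_
      obtain ⟨p, i⟩ := p
      rw [Orth.act_sg Q hQu hBu]
      have hdot : ∀ z : Fin k → F, TP.pv (Pi.single y₀ (1 : F)) z ⬝ᵥ X = z ⬝ᵥ TP.row X y₀ := fun z => by
        simp [dotProduct, TP.pv_apply, Fintype.sum_prod_type, Pi.single_apply, TP.row]
      have hl : act (lelHom (pr_cp (F := F) y₀) (Orth.sg (dq (Fin k) F) x (c • w))) X (p, i) = X (p, i) +
          (Pi.single y₀ (1 : F) : (T → Fin k) → F) p *
            (act (Orth.sg (dq (Fin k) F) x (c • w)) (TP.row X y₀) i - X (y₀, i)) := by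
        have e1 : X = ∑ q, TP.pv (Pi.single q (1 : F)) (TP.row X q) := by
          funext ⟨q, j⟩
          simp [Finset.sum_apply, TP.pv_apply, Pi.single_apply, TP.row]
        conv_lhs => rw [e1, map_sum]
        rw [Finset.sum_apply]
        simp only [act_lel, cp_mulVec, Pi.add_apply, TP.pv_smul_left, Pi.smul_apply, TP.pv_apply, Pi.sub_apply,
          smul_eq_mul]
        rw [Finset.sum_add_distrib]
        congr 1
        · simp [Pi.single_apply, TP.row]
        · rw [Finset.sum_eq_single y₀]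
          · simp [TP.row]
          · intro q _ hq; simp [Pi.single_apply, Ne.symm hq]
          · simp
      rw [hl, Orth.act_sg _ hQx hBx]
      simp only [← TP.pv_smul_right, hu, polar_dq, dq_apply, dot_pv, hdot, Q, Pi.add_apply, Pi.sub_apply,
        Pi.smul_apply, TP.pv_apply, smul_eq_mul, single_dotProduct, Pi.single_eq_same, one_mul]
      simp only [TP.row]
      ring
    rw [e]
    exact hC y₀ _ (sg_mem_om h2 hxx hcw)
  -- a slot change
  set h₀ := Orth.sg (dq (Fin k) F) x v with hh₀
  have hh₀m : h₀ ∈ Om (Fin k) F := sg_mem_om h2 hxx hxv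
  have hQx : dq (Fin k) F x = 0 := by rw [dq_apply, hxx]
  have hBx : QuadraticMap.polar (⇑(dq (Fin k) F)) x v = 0 := by rw [polar_dq, hxv, mul_zero]
  have hx_fix : act h₀ x = x := Orth.act_sg_fix _ hQx hBx (by rw [polar_dq, hxx, mul_zero])
    (by rw [polar_dq, dotProduct_comm, hxv, mul_zero])
  have hv_img : act h₀ v - v = (-(2 * (v ⬝ᵥ v))) • x := by
    rw [hh₀, Orth.act_sg _ hQx hBx, hBx, polar_dq, zero_smul, add_zero, mul_zero, add_zero]
    module
  have hchange : ∀ (y : T → Fin k), TP.pv (Pi.single y (1 : F)) v ∈ L → ∀ (s : T) (j : Fin k),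
      TP.pv (Pi.single (Function.update y s j) (1 : F)) x ∈ L := by
    intro y hy s j
    let J : (Fin k → F) →ₗ[F] (((T → Fin k) × Fin k) → F) :=
      { toFun := fun b => TP.pv (tp (Function.update (fun r => Pi.single (y r) (1 : F)) s b)) x
        map_add' := fun b b' => by
          rw [← TP.pv_add_left]
          congr 1
          funext q
          simp only [TW.tp_apply, Pi.add_apply, TW.prod_split s, Function.update_self]
          rw [add_mul]
          congr 1 <;> · congr 1; exact Finset.prod_congr rfl fun r _ => by simp [r.2]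
        map_smul' := fun c b => by
          rw [RingHom.id_apply, ← TP.pv_smul_left]
          congr 1
          funext q
          simp only [TW.tp_apply, Pi.smul_apply, TW.prod_split s, Function.update_self, smul_eq_mul]
          rw [mul_assoc]
          congr 2
          exact Finset.prod_congr rfl fun r _ => by simp [r.2] }
    have hJ : ∀ b : Fin k → F, b ⬝ᵥ b = 1 → b (y s) ≠ 0 → b ∈ L.comap J := by
      intro b hb hbi
      have hb0 : b ⬝ᵥ b ≠ 0 := by rw [hb]; exact one_ne_zero
      set P := pr_sl s (pr_pj hb0)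
      have hfix : act (lelHom P h₀) u = u := by
        rw [hu, act_lel, hx_fix, sub_self, TP.pv_zero_right, add_zero]
      have := sub_mem (hstab _ (hS s b hb _ hh₀m) (lel_orth h2 P (om_le_orth hh₀m)) hfix _ hy) hy
      rw [act_lel, add_sub_cancel_left, hv_img, TP.pv_smul_right, ← TW.tp_single, sl_mulVec_tp, pj_mulVec, hb,
        inv_one, one_mul, dotProduct_single, mul_one] at this
      have e : TP.pv (tp (Function.update (fun r => Pi.single (y r) (1 : F)) s (b (y s) • b))) x =
          b (y s) • J b := by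
        rw [← map_smul]; rfl
      rw [e, smul_smul] at this
      have := L.smul_mem (-(2 * (v ⬝ᵥ v)) * b (y s))⁻¹ this
      rwa [inv_smul_smul₀ (mul_ne_zero (neg_ne_zero.2 (mul_ne_zero h2 hvv)) hbi)] at this
    have hj : (Pi.single j (1 : F) : Fin k → F) ∈ L.comap J := by
      rcases eq_or_ne (y s) j with rfl | hij
      · exact hJ _ (by simp) (by simp)
      obtain ⟨b, hb, hbi, hbj⟩ := exists_two_coord hh hij
      have h1 := hJ b hb hbi
      have h2' := hJ (b - (2 * b j) • Pi.single j 1) (by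
        simp only [sub_dotProduct, dotProduct_sub, smul_dotProduct, dotProduct_smul, single_dotProduct,
          dotProduct_single, smul_eq_mul, hb, Pi.sub_apply, Pi.smul_apply, Pi.single_eq_same, one_mul, mul_one]
        ring) (by simp [hij, hbi])
      have := (L.comap J).smul_mem (2 * b j)⁻¹ (sub_mem h1 h2')
      rwa [sub_sub_cancel, inv_smul_smul₀ (mul_ne_zero h2 hbj)] at this
    have e : Function.update (fun r => (Pi.single (y r) (1 : F) : Fin k → F)) s (Pi.single j 1) =
        fun r => Pi.single (Function.update y s j r) 1 := by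
      funext r
      rcases eq_or_ne r s with rfl | hr <;> simp [*]
    have hj' : TP.pv (tp (Function.update (fun r => Pi.single (y r) (1 : F)) s (Pi.single j 1))) x ∈ L := hj
    rwa [e, TW.tp_single] at hj'
  -- off the line of u everything
  have hfull : ∀ y, y ≠ y₀ → TP.pv (Pi.single y (1 : F)) x ∈ L → ∀ z, TP.pv (Pi.single y (1 : F)) z ∈ L := by
    intro y hy hmem z
    let J : (Fin k → F) →ₗ[F] (((T → Fin k) × Fin k) → F) :=
      { toFun := fun z => TP.pv (Pi.single y (1 : F)) z
        map_add' := TP.pv_add_right _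
        map_smul' := fun c z => TP.pv_smul_right c _ z }
    have hW : L.comap J = ⊤ := vec_irred hh (W := L.comap J) (fun g hg z hz => by
      have hfix : act (lelHom (pr_cp (F := F) y) g) u = u := by
        rw [hu, act_lel, cp_mulVec, Pi.single_eq_of_ne hy, zero_smul, TP.pv_zero_left, add_zero]
      have := hstab _ (hC y g hg) (lel_orth h2 _ (om_le_orth hg)) hfix _ hz
      show TP.pv (Pi.single y (1 : F)) (act g z) ∈ L
      have e : act (lelHom (pr_cp (F := F) y) g) (TP.pv (Pi.single y (1 : F)) z) =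
          TP.pv (Pi.single y (1 : F)) (act g z) := by
        rw [act_lel, cp_mulVec, Pi.single_eq_same, one_smul, ← TP.pv_add_right, add_sub_cancel]
      rw [← e]
      exact this) (x := x) hmem hx0
    exact (hW ▸ Submodule.mem_top : z ∈ L.comap J)
  have hreach : ∀ (U : Finset T) (y : T → Fin k), (∀ r, r ∉ U → y r = y₀ r) →
      ∀ z, (y = y₀ → x ⬝ᵥ z = 0) → TP.pv (Pi.single y (1 : F)) z ∈ L := by
    intro U
    induction U using Finset.induction with
    | empty =>
      intro y hy z hz
      have e : y = y₀ := funext fun r => hy r (Finset.notMem_empty r)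
      rw [e]; exact hbase z (hz e)
    | insert r U _ ih =>
      intro y hy z hz
      rcases eq_or_ne y y₀ with e | hne
      · rw [e]; exact hbase z (hz e)
      refine hfull y hne ?_ z
      have hprev := ih (Function.update y r (y₀ r)) (fun q hq => by
        rcases eq_or_ne q r with rfl | hqr
        · simp
        · rw [Function.update_of_ne hqr]; exact hy q (by simp [hq, hqr])) v (fun _ => hxv)
      have := hchange _ hprev r (y r)
      rwa [Function.update_idem, Function.update_eq_self] at this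
  intro w hw
  rw [polar_dq, mul_eq_zero] at hw
  have hw' : u ⬝ᵥ w = 0 := hw.resolve_left h2
  have hmem : w ∈ L := by
    have e1 : w = ∑ q, TP.pv (Pi.single q (1 : F)) (TP.row w q) := by
      funext ⟨q, j⟩
      simp [Finset.sum_apply, TP.pv_apply, Pi.single_apply, TP.row]
    rw [e1]
    refine sum_mem fun q _ => hreach Finset.univ q (fun r hr => absurd (Finset.mem_univ r) hr) _ fun hq => ?_
    subst hq
    rw [← hw', hu]
    simp [dotProduct, TP.pv_apply, Fintype.sum_prod_type, Pi.single_apply, TP.row]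
  simpa using hmem.2 1

/-- **controls of all lines generate** -/
theorem om_le_of_controls (h9 : 5 ≤ Fintype.card ((T → Fin k) × Fin k)) : Om ((T → Fin k) × Fin k) F ≤ M := by
  classical
  have h2 := hh.h2
  have h3 := hh.three
  obtain ⟨e, -, he⟩ := exists_value_pr h2 pr_one (π := (1 : Matrix (Fin k) (Fin k) F))
    (by rw [rk_one, Fintype.card_fin]; omega) (1 : F)
  have he0 : e ⬝ᵥ e ≠ 0 := by rw [he]; exact one_ne_zero
  have hσ := (pr_pj he0).one_sub
  have hr := rk_one_sub (pr_pj he0)
  rw [rk_pj he0, Fintype.card_fin] at hr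
  obtain ⟨f, hf', hf⟩ := exists_value_pr h2 hσ (by omega) (-1 : F)
  have hf0 : f ⬝ᵥ f ≠ 0 := by rw [hf]; exact neg_ne_zero.2 one_ne_zero
  have hρ := hσ.sub (pr_pj hf0) (mul_pj hf')
  have hr' := rk_sub_pj hσ hf0 hf'
  obtain ⟨v, hv', hv⟩ := exists_aniso h2 hρ (fun h => by rw [h, rk_zero] at hr'; omega)
  have hef : e ⬝ᵥ f = 0 := by
    rw [← hf', ← hσ.dot, Matrix.sub_mulVec, Matrix.one_mulVec, pj_self he0, sub_self, zero_dotProduct]
  have hev : e ⬝ᵥ v = 0 := by
    rw [← hv', ← hρ.dot]
    simp [Matrix.sub_mulVec, pj_self he0, pj_mulVec, dotProduct_comm f e, hef]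
  have hfv : f ⬝ᵥ v = 0 := by
    rw [← hv', ← hρ.dot]
    simp [Matrix.sub_mulVec, pj_self hf0, pj_mulVec, hef]
  have hx : ∀ s : F, s * s = 1 → (e + s • f) ⬝ᵥ (e + s • f) = 0 ∧ (e + s • f) ⬝ᵥ v = 0 ∧ e + s • f ≠ 0 := by
    intro s hs
    refine ⟨?_, ?_, fun h => ?_⟩
    · simp only [add_dotProduct, dotProduct_add, smul_dotProduct, dotProduct_smul, smul_eq_mul, he, hf, hef,
        dotProduct_comm f e]
      linear_combination -hs
    · simp only [add_dotProduct, smul_dotProduct, smul_eq_mul, hev, hfv]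
      ring
    · have := congrArg (e ⬝ᵥ ·) h
      simp [dotProduct_add, he, hef] at this
  obtain ⟨a1, a2, a3⟩ := hx 1 (one_mul 1)
  obtain ⟨b1, b2, b3⟩ := hx (-1) (by ring)
  let y₀ : T → Fin k := fun _ => ⟨0, hh.odd.pos⟩
  exact Orth.omega_le_of_full (polar_nondeg h2) h9
    (by rw [dq_apply, dot_pv, a1, mul_zero]) (by rw [dq_apply, dot_pv, b1, mul_zero])
    (by
      rw [polar_dq, dot_pv]
      simp only [add_dotProduct, dotProduct_add, smul_dotProduct, dotProduct_smul, smul_eq_mul, he, hf, hef,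
        dotProduct_comm f e, single_dotProduct, Pi.single_eq_same, one_mul, mul_zero, add_zero, mul_one]
      intro h
      exact h2 (mul_self_eq_zero.1 (by linear_combination h)))
    (full_pure hh hC hS a3 a1 a2 hv y₀) (full_pure hh hC hS b3 b1 b2 hv y₀)

end Cfsg.Agent.MaxCl.TOrth
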