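/-
A group containing the controlled slot elements of all pure anisotropic lines contains the derived isometry group:
its Siegel groups at pure singular vectors are full (diagonal forms, even factor dimension).
-/
import Cfsg.Agent.Lib.MaxCl.TEvCtx
import Cfsg.Agent.Lib.MaxCl.TEvSmall
import Cfsg.Agent.Lib.MaxCl.TOrthSiegel

set_option autoImplicit false
set_option linter.unusedSectionVars false

namespace Cfsg.Agent.MaxCl.TEv

open Matrix
open TOrth (rk rk_zero rk_one inl inr inl_val inr_val kr_val binary_value kron_mulVec_pv pm_mulVec_tp sl_mulVec_tp)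
open TW (tk pm pg rt rid spl sl Wr tp)
open scoped MatrixGroups Kronecker

variable {F : Type*} [Field F] {k : ℕ} [Wt (Fin k) F]

section Factor

variable {β : Type} [Fintype β] [DecidableEq β] [Wt β F]

/-- controlled elements of the right factor, as matrices -/
def lelMat {P : Matrix β β F} (hP : Pr P) : GL (Fin k) F →* Matrix (β × Fin k) (β × Fin k) F where
  toFun y := (1 - P) ⊗ₖ (1 : Matrix (Fin k) (Fin k) F) + P ⊗ₖ (y : Matrix (Fin k) (Fin k) F)
  map_one' := by rw [Units.val_one, ← Matrix.add_kronecker, sub_add_cancel, Matrix.one_kronecker_one]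
  map_mul' y z := by
    simp only [add_mul, mul_add, ← Matrix.mul_kronecker_mul, one_mul, mul_one, hP.idem, hP.mul_one_sub,
      hP.one_sub_mul, hP.one_sub.idem, Matrix.zero_kronecker, add_zero, zero_add, Units.val_mul]

/-- controlled elements of the right factor -/
def lelHom {P : Matrix β β F} (hP : Pr P) : GL (Fin k) F →* GL (β × Fin k) F := (lelMat hP).toHomUnits

theorem lelHom_val {P : Matrix β β F} (hP : Pr P) (y : GL (Fin k) F) :
    (lelHom hP y : Matrix (β × Fin k) (β × Fin k) F) =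
      (1 - P) ⊗ₖ (1 : Matrix (Fin k) (Fin k) F) + P ⊗ₖ (y : Matrix (Fin k) (Fin k) F) := rfl

theorem act_lel {P : Matrix β β F} (hP : Pr P) (h : GL (Fin k) F) (d : β → F) (z : Fin k → F) :
    act (lelHom hP h) (TP.pv d z) = TP.pv d z + TP.pv (P *ᵥ d) (act h z - z) := by
  rw [act_apply, lelHom_val, Matrix.add_mulVec, kron_mulVec_pv, kron_mulVec_pv, Matrix.one_mulVec,
    Matrix.sub_mulVec, Matrix.one_mulVec, ← act_apply]
  funext ⟨p, i⟩
  simp only [Pi.add_apply, TP.pv_apply, Pi.sub_apply]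
  ring

theorem lel_orth (h2 : (2 : F) ≠ 0) {P : Matrix β β F} (hP : Pr P) {y : GL (Fin k) F} (hy : y ∈ Orth (Fin k) F) :
    lelHom hP y ∈ Orth (β × Fin k) F := by
  rw [mem_orth_iff h2, lelHom_val, ad_add, ad_kronecker, ad_kronecker, hP.one_sub.symm, hP.symm, ad_one]
  simp only [add_mul, mul_add, ← Matrix.mul_kronecker_mul, one_mul, mul_one, hP.idem, hP.mul_one_sub,
    hP.one_sub_mul, hP.one_sub.idem, Matrix.zero_kronecker, add_zero, zero_add, ad_mul_self h2 hy]
  rw [← Matrix.add_kronecker, sub_add_cancel, Matrix.one_kronecker_one]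

theorem lel_om (h2 : (2 : F) ≠ 0) {P : Matrix β β F} (hP : Pr P) {y : GL (Fin k) F} (hy : y ∈ Om (Fin k) F) :
    lelHom hP y ∈ Om (β × Fin k) F :=
  om_map_le (lelHom hP) (fun _ h => lel_orth h2 hP h) hy

end Factor

/-- anisotropic vectors through two given coordinates, in pairs of one value -/
theorem exists_two_coord (hh : Hyp k F) {i j : Fin k} (hij : i ≠ j) :
    ∃ b b' : Fin k → F, b ⬝ʷ b ≠ 0 ∧ b' ⬝ʷ b' ≠ 0 ∧ b i ≠ 0 ∧ b' i ≠ 0 ∧
      b - b' = (2 : F) • Pi.single j (1 : F) := by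
  classical
  have h4 := hh.four'
  obtain ⟨l, -, hl⟩ := Finset.exists_mem_notMem_of_card_lt_card (s := ({i, j} : Finset (Fin k))) (t := Finset.univ)
    (by have := Finset.card_le_two (a := i) (b := j); rw [Finset.card_univ]; omega)
  simp only [Finset.mem_insert, Finset.mem_singleton, not_or] at hl
  obtain ⟨hli, hlj⟩ := hl
  replace hli : l ≠ i := hli
  replace hlj : l ≠ j := hlj
  set x : F := if (Wt.w i : F) + Wt.w j = 0 then 1 else 0 with hx
  set z : Fin k → F := x • Pi.single l 1 with hz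
  have hval : ∀ c : F, (Pi.single i 1 + c • Pi.single j 1 + z : Fin k → F) ⬝ʷ
      (Pi.single i 1 + c • Pi.single j 1 + z) = Wt.w i + c ^ 2 * Wt.w j + x ^ 2 * Wt.w l := by
    intro c
    simp [hz, add_bf, bf_add, smul_bf, bf_smul, bf_single, hij, hij.symm, hli, hli.symm, hlj, hlj.symm]
    ring
  have hne : (Wt.w i : F) + Wt.w j + x ^ 2 * Wt.w l ≠ 0 := by
    rw [hx]
    split_ifs with h
    · rw [h, zero_add, one_pow, one_mul]; exact Wt.ne l
    · rw [zero_pow (two_ne_zero : (2 : ℕ) ≠ 0), zero_mul, add_zero]; exact h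
  refine ⟨Pi.single i 1 + (1 : F) • Pi.single j 1 + z, Pi.single i 1 + (-1 : F) • Pi.single j 1 + z,
    by rwa [hval, one_pow, one_mul], by rwa [hval, neg_one_sq, one_mul], ?_, ?_, ?_⟩
  · simp [hz, hij, hli.symm]
  · simp [hz, hij, hli.symm]
  · rw [neg_one_smul, one_smul]
    module

variable [Finite F]

/-- a subspace invariant under the derived group -/
theorem vec_irred (hh : Hyp k F) {W : Submodule F (Fin k → F)}
    (hW : ∀ g ∈ Om (Fin k) F, ∀ z ∈ W, act g z ∈ W) {x : Fin k → F} (hx : x ∈ W) (hx0 : x ≠ 0) : W = ⊤ := by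
  classical
  have h2 := hh.h2
  obtain ⟨j₀, hj⟩ := hh.ones
  have h4 := hh.four'
  have hex : ∀ a b c : Fin k, ∃ l, l ≠ a ∧ l ≠ b ∧ l ≠ c := fun a b c => by
    obtain ⟨l, -, hl⟩ := Finset.exists_mem_notMem_of_card_lt_card (s := ({a, b, c} : Finset (Fin k)))
      (t := Finset.univ) (by
      have := Finset.card_le_three (a := a) (b := b) (c := c)
      rw [Finset.card_univ]; omega)
    simp only [Finset.mem_insert, Finset.mem_singleton, not_or] at hl
    exact ⟨l, hl.1, hl.2.1, hl.2.2⟩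
  -- two sign changes
  have hpair : ∀ z ∈ W, ∀ a b : Fin k, a ≠ j₀ → b ≠ j₀ → a ≠ b →
      (z a • Pi.single a (1 : F) + z b • Pi.single b 1 : Fin k → F) ∈ W := by
    intro z hz a b ha hb hab
    have := W.smul_mem (2 : F)⁻¹ (sub_mem hz (hW _ (rf_single_mul_mem h2
      (show (Wt.w a : F) = Wt.w b by rw [hj a ha, hj b hb])) z hz))
    convert this using 1
    funext q
    rw [act_apply, Units.val_mul, rf_single_val h2, rf_single_val h2, Matrix.diagonal_mul_diagonal,
      Pi.smul_apply, Pi.sub_apply, Matrix.mulVec_diagonal]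
    simp only [Pi.add_apply, Pi.smul_apply, Pi.single_apply, smul_eq_mul]
    rcases eq_or_ne q a with rfl | hqa
    · simp only [if_true, if_neg hab]
      field_simp
      ring
    rcases eq_or_ne q b with rfl | hqb
    · simp only [if_true, if_neg hqa]
      field_simp
      ring
    · simp [hqa, hqb]
  -- one coordinate off `j₀`
  have hone : ∀ z ∈ W, ∀ i, i ≠ j₀ → z i ≠ 0 → (Pi.single i (1 : F) : Fin k → F) ∈ W := by
    intro z hz i hi hzi
    obtain ⟨a, hai, ha0, -⟩ := hex i j₀ j₀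
    obtain ⟨b, hbi, hb0, hba⟩ := hex i j₀ a
    have := W.smul_mem (2 * z i)⁻¹
      (sub_mem (add_mem (hpair z hz i a hi ha0 hai.symm) (hpair z hz i b hi hb0 hbi.symm))
        (hpair z hz a b ha0 hb0 hba.symm))
    convert this using 1
    rw [show (z i • Pi.single i (1 : F) + z a • Pi.single a 1 + (z i • Pi.single i 1 + z b • Pi.single b 1) -
      (z a • Pi.single a 1 + z b • Pi.single b 1) : Fin k → F) = (2 * z i) • Pi.single i 1 by module,
      inv_smul_smul₀ (mul_ne_zero h2 hzi)]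
  obtain ⟨a, ha, -, -⟩ := hex j₀ j₀ j₀
  obtain ⟨b, hb, hba, -⟩ := hex j₀ a a
  have hta : ∀ z : Fin k → F, z ⬝ʷ z ≠ 0 → z ∈ W → ∀ y, y ⬝ʷ y = z ⬝ʷ z → y ∈ W := fun z hz0 hz y hy => by
    obtain ⟨g, hg, e⟩ := exists_om_act h2 hh.three' hz0 hy.symm
    exact e ▸ hW g hg z hz
  have hsa : ∀ i, i ≠ j₀ → ((Pi.single i (1 : F) : Fin k → F) ⬝ʷ Pi.single i 1 = 1) := fun i hi => by
    simp [bf_single, hj i hi]
  -- some unit coordinate vector
  obtain ⟨i, hi, hiW⟩ : ∃ i, i ≠ j₀ ∧ (Pi.single i (1 : F) : Fin k → F) ∈ W := by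
    by_cases hc : ∃ i, i ≠ j₀ ∧ x i ≠ 0
    · obtain ⟨i, hi, hxi⟩ := hc
      exact ⟨i, hi, hone x hx i hi hxi⟩
    push Not at hc
    have hx0' : x j₀ ≠ 0 := fun e => hx0 (funext fun q => by
      rcases eq_or_ne q j₀ with rfl | hq
      · exact e
      · exact hc q hq)
    have e0 : (Pi.single j₀ (1 : F) : Fin k → F) ∈ W := by
      convert W.smul_mem (x j₀)⁻¹ hx using 1
      funext q
      rcases eq_or_ne q j₀ with rfl | hq
      · simp [hx0']
      · simp [hq, hc q hq]
    obtain ⟨c, d, hcd⟩ := binary_value h2 (one_ne_zero (α := F)) one_ne_zero (Wt.w j₀ : F)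
    have hy := hta _ (by simpa [bf_single] using Wt.ne j₀) e0 (c • Pi.single a 1 + d • Pi.single b 1) (by
      simp [add_bf, bf_add, smul_bf, bf_smul, bf_single, hj a ha, hj b hb, hba, hba.symm]
      linear_combination hcd)
    rcases eq_or_ne c 0 with hc0 | hc0
    · refine ⟨b, hb, hone _ hy b hb ?_⟩
      have hd : d ≠ 0 := fun e => Wt.ne (F := F) j₀ (by rw [← hcd, hc0, e]; ring)
      simpa [hba] using hd
    · exact ⟨a, ha, hone _ hy a ha (by simpa [hba.symm] using hc0)⟩
  have hall : ∀ l, l ≠ j₀ → (Pi.single l (1 : F) : Fin k → F) ∈ W := fun l hl =>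
    hta _ (by rw [hsa i hi]; exact one_ne_zero) hiW _ (by rw [hsa i hi, hsa l hl])
  have hall0 : (Pi.single j₀ (1 : F) : Fin k → F) ∈ W := by
    obtain ⟨c, d, hcd⟩ := binary_value h2 (one_ne_zero (α := F)) one_ne_zero (1 - Wt.w j₀ : F)
    have hy := hta _ (by rw [hsa i hi]; exact one_ne_zero) hiW
      (Pi.single j₀ 1 + c • Pi.single a 1 + d • Pi.single b 1) (by
      simp [add_bf, bf_add, smul_bf, bf_smul, bf_single, hj a ha, hj b hb, hj i hi, ha, ha.symm, hb, hb.symm, hba,
        hba.symm]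
      linear_combination hcd)
    have := sub_mem (sub_mem hy (W.smul_mem c (hall a ha))) (W.smul_mem d (hall b hb))
    convert this using 1
    module
  rw [Submodule.eq_top_iff']
  intro z
  rw [pi_eq_sum_univ' z]
  refine sum_mem fun j _ => W.smul_mem _ ?_
  rcases eq_or_ne j j₀ with rfl | hj'
  · exact hall0
  · exact hall j hj'

/-- Siegel elements of the factor -/
theorem sg_mem_om (h2 : (2 : F) ≠ 0) {ι : Type} [Fintype ι] [DecidableEq ι] [Wt ι F] {u w : ι → F}
    (hu : u ⬝ʷ u = 0) (h : u ⬝ʷ w = 0) : Orth.sg (dq ι F) u w ∈ Om ι F := by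
  have hb : ∀ c : F, QuadraticMap.polar (⇑(dq ι F)) u (c • w) = 0 := fun c => by
    rw [polar_dq, bf_smul, h, smul_zero, mul_zero]
  have := sq_mem_om h2 (Orth.sg_mem_iso (dq ι F) u ((2 : F)⁻¹ • w))
  rwa [Orth.sg_add (dq ι F) (by rw [dq_apply, hu]) (hb _) (hb _), ← add_smul,
    show (2 : F)⁻¹ + (2 : F)⁻¹ = 1 by field_simp; norm_num, one_smul] at this

variable {T : Type} [Fintype T] [DecidableEq T]

omit [Finite F] in
theorem sl_ad (s : T) (A : Matrix (Fin k) (Fin k) F) : (sl s A)† = sl s A† := by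
  rw [show sl s A = pm (Pi.mulSingle s A) from rfl, pm_ad]
  refine congrArg pm (funext fun r => ?_)
  rcases eq_or_ne r s with rfl | hr
  · simp
  · simp [hr, ad_one]

omit [Finite F] in
theorem pr_sl (s : T) {π : Matrix (Fin k) (Fin k) F} (hπ : Pr π) : Pr (sl s π) :=
  ⟨by rw [sl_ad, hπ.symm], by rw [← map_mul, hπ.idem]⟩

/-- the coordinate projection of the left factor -/
abbrev cp (y : T → Fin k) : Matrix (T → Fin k) (T → Fin k) F := pj (Pi.single y (1 : F))

omit [Finite F] in
theorem pr_cp (y : T → Fin k) : Pr (cp (F := F) y) := pr_pj (by simpa [bf_single] using Wt.ne y)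

omit [Finite F] in
theorem cp_mulVec (y : T → Fin k) (z : (T → Fin k) → F) :
    cp (F := F) y *ᵥ z = z y • Pi.single y 1 := by
  rw [cp, pj_mulVec]
  simp [bf_single, Wt.ne]

variable (hh : Hyp k F) {M : Subgroup (GL ((T → Fin k) × Fin k) F)}
  (hC : ∀ y : T → Fin k, ∀ h ∈ Om (Fin k) F, lelHom (pr_cp (F := F) y) h ∈ M)
  (hS : ∀ (s : T) (b : Fin k → F) (hb : b ⬝ʷ b ≠ 0), ∀ h ∈ Om (Fin k) F,
    lelHom (pr_sl s (pr_pj hb)) h ∈ M)
include hh hC hS

/-- the Siegel group at a pure singular vector is full -/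
theorem full_pure {x : Fin k → F} (hx0 : x ≠ 0) (hxx : x ⬝ʷ x = 0) {v : Fin k → F} (hxv : x ⬝ʷ v = 0)
    (hvv : v ⬝ʷ v ≠ 0) (y₀ : T → Fin k) :
    Orth.Full (dq ((T → Fin k) × Fin k) F) M (TP.pv (Pi.single y₀ (1 : F)) x) := by
  classical
  have h2 := hh.h2
  set u := TP.pv (Pi.single y₀ (1 : F)) x with hu
  set Q := dq ((T → Fin k) × Fin k) F
  set ω : F := Wt.w y₀ with hω
  have hω0 : ω ≠ 0 := Wt.ne y₀
  have huu : u ⬝ʷ u = 0 := by rw [hu, bf_pv, hxx, mul_zero]
  have hQu : Q u = 0 := by rw [dq_apply, huu]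
  have hdot : ∀ (z : Fin k → F) (X : ((T → Fin k) × Fin k) → F),
      TP.pv (Pi.single y₀ (1 : F)) z ⬝ʷ X = ω * (z ⬝ʷ TP.row X y₀) := fun z X => by
    simp [bf, TP.pv_apply, w_prod, Fintype.sum_prod_type, Pi.single_apply, TP.row, Finset.mul_sum, hω, mul_assoc]
  let L : Submodule F (((T → Fin k) × Fin k) → F) :=
    { carrier := {w | u ⬝ʷ w = 0 ∧ ∀ c : F, Orth.sg Q u (c • w) ∈ M}
      add_mem' := fun {a b} ha hb => ⟨by rw [bf_add, ha.1, hb.1, add_zero], fun c => by
        rw [smul_add, ← Orth.sg_add Q hQu (by rw [polar_dq, bf_smul, ha.1, smul_zero, mul_zero])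
          (by rw [polar_dq, bf_smul, hb.1, smul_zero, mul_zero])]
        exact mul_mem (ha.2 c) (hb.2 c)⟩
      zero_mem' := ⟨bf_zero u, fun c => by rw [smul_zero, Orth.sg_zero]; exact one_mem _⟩
      smul_mem' := fun a w hw => ⟨by rw [bf_smul, hw.1, smul_zero], fun c => by
        rw [smul_smul]; exact hw.2 _⟩ }
  have hstab : ∀ g ∈ M, g ∈ Orth ((T → Fin k) × Fin k) F → act g u = u → ∀ w ∈ L, act g w ∈ L := by
    intro g hgM hgO hfix w hw
    refine ⟨?_, fun c => ?_⟩
    · rw [← hfix, dot_act h2 hgO]; exact hw.1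
    · rw [← map_smul, ← hfix, ← Orth.conj_sg Q hgO]
      exact mul_mem (mul_mem hgM (hw.2 c)) (inv_mem hgM)
  -- the line of u
  have hbase : ∀ w, x ⬝ʷ w = 0 → TP.pv (Pi.single y₀ (1 : F)) w ∈ L := by
    intro w hw
    refine ⟨by rw [hu, bf_pv, hw, mul_zero], fun c => ?_⟩
    have hcw : x ⬝ʷ ((ω * c) • w) = 0 := by rw [bf_smul, hw, smul_zero]
    have hQx : dq (Fin k) F x = 0 := by rw [dq_apply, hxx]
    have hBx : QuadraticMap.polar (⇑(dq (Fin k) F)) x ((ω * c) • w) = 0 := by rw [polar_dq, hcw, mul_zero]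
    have hBu : QuadraticMap.polar (⇑Q) u (c • TP.pv (Pi.single y₀ (1 : F)) w) = 0 := by
      rw [polar_dq, bf_smul, hu, bf_pv, hw, mul_zero, smul_zero, mul_zero]
    have e : Orth.sg Q u (c • TP.pv (Pi.single y₀ (1 : F)) w) =
        lelHom (pr_cp (F := F) y₀) (Orth.sg (dq (Fin k) F) x ((ω * c) • w)) := by
      refine gl_ext fun X => funext fun p => ?_
      obtain ⟨p, i⟩ := p
      rw [Orth.act_sg Q hQu hBu]
      have hl : act (lelHom (pr_cp (F := F) y₀) (Orth.sg (dq (Fin k) F) x ((ω * c) • w))) X (p, i) = X (p, i) +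
          (Pi.single y₀ (1 : F) : (T → Fin k) → F) p *
            (act (Orth.sg (dq (Fin k) F) x ((ω * c) • w)) (TP.row X y₀) i - X (y₀, i)) := by
        have e1 : X = ∑ q, TP.pv (Pi.single q (1 : F)) (TP.row X q) := by
          funext ⟨q, j⟩
          simp [Finset.sum_apply, TP.pv_apply, Pi.single_apply, TP.row]
        conv_lhs => rw [e1, map_sum]
        rw [Finset.sum_apply]
        simp only [act_lel, cp_mulVec, Pi.add_apply, TP.pv_smul_left, Pi.smul_apply, TP.pv_apply, Pi.sub_apply,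
          smul_eq_mul]
        rw [Finset.sum_add_distrib]
        congr 1
        · simp [Pi.single_apply, TP.row]
        · rw [Finset.sum_eq_single y₀]
          · simp [TP.row]
          · intro q _ hq; simp [Pi.single_apply, Ne.symm hq]
          · simp
      rw [hl, Orth.act_sg _ hQx hBx]
      simp only [hu, polar_dq, dq_apply, smul_bf, bf_smul, hdot, Q, Pi.add_apply, Pi.sub_apply,
        Pi.smul_apply, TP.pv_apply, smul_eq_mul]
      have hrow : TP.row (TP.pv (Pi.single y₀ (1 : F)) w) y₀ = w := funext fun j => by simp [TP.row, TP.pv_apply]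
      have hXi : TP.row X y₀ i = X (y₀, i) := rfl
      rw [hrow, hXi]
      ring
    rw [e]
    exact hC y₀ _ (sg_mem_om h2 hxx hcw)
  -- a slot change
  set h₀ := Orth.sg (dq (Fin k) F) x v with hh₀
  have hh₀m : h₀ ∈ Om (Fin k) F := sg_mem_om h2 hxx hxv
  have hQx : dq (Fin k) F x = 0 := by rw [dq_apply, hxx]
  have hBx : QuadraticMap.polar (⇑(dq (Fin k) F)) x v = 0 := by rw [polar_dq, hxv, mul_zero]
  have hx_fix : act h₀ x = x := Orth.act_sg_fix _ hQx hBx (by rw [polar_dq, hxx, mul_zero])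
    (by rw [polar_dq, bf_comm, hxv, mul_zero])
  have hv_img : act h₀ v - v = (-(2 * (v ⬝ʷ v))) • x := by
    rw [hh₀, Orth.act_sg _ hQx hBx, hBx, polar_dq, zero_smul, add_zero, mul_zero, add_zero]
    module
  have hchange : ∀ (y : T → Fin k), TP.pv (Pi.single y (1 : F)) v ∈ L → ∀ (s : T) (j : Fin k),
      TP.pv (Pi.single (Function.update y s j) (1 : F)) x ∈ L := by
    intro y hy s j
    let J : (Fin k → F) →ₗ[F] (((T → Fin k) × Fin k) → F) :=
      { toFun := fun b => TP.pv (tp (Function.update (fun r => Pi.single (y r) (1 : F)) s b)) x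
        map_add' := fun b b' => by
          rw [← TP.pv_add_left]
          congr 1
          funext q
          simp only [TW.tp_apply, Pi.add_apply, TW.prod_split s, Function.update_self]
          rw [add_mul]
          congr 1 <;> · congr 1; exact Finset.prod_congr rfl fun r _ => by simp [r.2]
        map_smul' := fun c b => by
          rw [RingHom.id_apply, ← TP.pv_smul_left]
          congr 1
          funext q
          simp only [TW.tp_apply, Pi.smul_apply, TW.prod_split s, Function.update_self, smul_eq_mul]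
          rw [mul_assoc]
          congr 2
          exact Finset.prod_congr rfl fun r _ => by simp [r.2] }
    have hJ : ∀ b : Fin k → F, b ⬝ʷ b ≠ 0 → b (y s) ≠ 0 → b ∈ L.comap J := by
      intro b hb0 hbi
      set P := pr_sl s (pr_pj hb0)
      have hfix : act (lelHom P h₀) u = u := by
        rw [hu, act_lel, hx_fix, sub_self, TP.pv_zero_right, add_zero]
      have := sub_mem (hstab _ (hS s b hb0 _ hh₀m) (lel_orth h2 P (om_le_orth hh₀m)) hfix _ hy) hy
      rw [act_lel, add_sub_cancel_left, hv_img, TP.pv_smul_right, ← TW.tp_single, sl_mulVec_tp, pj_mulVec,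
        bf_single', mul_one] at this
      set d : F := (b ⬝ʷ b)⁻¹ * (Wt.w (y s) * b (y s))
      have e : TP.pv (tp (Function.update (fun r => Pi.single (y r) (1 : F)) s (d • b))) x = d • J b := by
        rw [← map_smul]; rfl
      rw [e, smul_smul] at this
      have := L.smul_mem (-(2 * (v ⬝ʷ v)) * d)⁻¹ this
      rwa [inv_smul_smul₀ (mul_ne_zero (neg_ne_zero.2 (mul_ne_zero h2 hvv))
        (mul_ne_zero (inv_ne_zero hb0) (mul_ne_zero (Wt.ne _) hbi)))] at this
    have hj : (Pi.single j (1 : F) : Fin k → F) ∈ L.comap J := by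
      rcases eq_or_ne (y s) j with rfl | hij
      · exact hJ _ (hh.rf_single _) (by simp)
      obtain ⟨b, b', hb, hb', hbi, hbi', e⟩ := exists_two_coord hh hij
      have := (L.comap J).smul_mem (2 : F)⁻¹ (sub_mem (hJ b hb hbi) (hJ b' hb' hbi'))
      rwa [e, inv_smul_smul₀ h2] at this
    have e : Function.update (fun r => (Pi.single (y r) (1 : F) : Fin k → F)) s (Pi.single j 1) =
        fun r => Pi.single (Function.update y s j r) 1 := by
      funext r
      rcases eq_or_ne r s with rfl | hr <;> simp [*]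
    have hj' : TP.pv (tp (Function.update (fun r => Pi.single (y r) (1 : F)) s (Pi.single j 1))) x ∈ L := hj
    rwa [e, TW.tp_single] at hj'
  -- off the line of u everything
  have hfull : ∀ y, y ≠ y₀ → TP.pv (Pi.single y (1 : F)) x ∈ L → ∀ z, TP.pv (Pi.single y (1 : F)) z ∈ L := by
    intro y hy hmem z
    let J : (Fin k → F) →ₗ[F] (((T → Fin k) × Fin k) → F) :=
      { toFun := fun z => TP.pv (Pi.single y (1 : F)) z
        map_add' := TP.pv_add_right _
        map_smul' := fun c z => TP.pv_smul_right c _ z }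
    have hW : L.comap J = ⊤ := vec_irred hh (W := L.comap J) (fun g hg z hz => by
      have hfix : act (lelHom (pr_cp (F := F) y) g) u = u := by
        rw [hu, act_lel, cp_mulVec, Pi.single_eq_of_ne hy, zero_smul, TP.pv_zero_left, add_zero]
      have := hstab _ (hC y g hg) (lel_orth h2 _ (om_le_orth hg)) hfix _ hz
      show TP.pv (Pi.single y (1 : F)) (act g z) ∈ L
      have e : act (lelHom (pr_cp (F := F) y) g) (TP.pv (Pi.single y (1 : F)) z) =
          TP.pv (Pi.single y (1 : F)) (act g z) := by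
        rw [act_lel, cp_mulVec, Pi.single_eq_same, one_smul, ← TP.pv_add_right, add_sub_cancel]
      rw [← e]
      exact this) (x := x) hmem hx0
    exact (hW ▸ Submodule.mem_top : z ∈ L.comap J)
  have hreach : ∀ (U : Finset T) (y : T → Fin k), (∀ r, r ∉ U → y r = y₀ r) →
      ∀ z, (y = y₀ → x ⬝ʷ z = 0) → TP.pv (Pi.single y (1 : F)) z ∈ L := by
    intro U
    induction U using Finset.induction with
    | empty =>
      intro y hy z hz
      have e : y = y₀ := funext fun r => hy r (Finset.notMem_empty r)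
      rw [e]; exact hbase z (hz e)
    | insert r U _ ih =>
      intro y hy z hz
      rcases eq_or_ne y y₀ with e | hne
      · rw [e]; exact hbase z (hz e)
      refine hfull y hne ?_ z
      have hprev := ih (Function.update y r (y₀ r)) (fun q hq => by
        rcases eq_or_ne q r with rfl | hqr
        · simp
        · rw [Function.update_of_ne hqr]; exact hy q (by simp [hq, hqr])) v (fun _ => hxv)
      have := hchange _ hprev r (y r)
      rwa [Function.update_idem, Function.update_eq_self] at this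
  intro w hw
  rw [polar_dq, mul_eq_zero] at hw
  have hw' : u ⬝ʷ w = 0 := hw.resolve_left h2
  have hmem : w ∈ L := by
    have e1 : w = ∑ q, TP.pv (Pi.single q (1 : F)) (TP.row w q) := by
      funext ⟨q, j⟩
      simp [Finset.sum_apply, TP.pv_apply, Pi.single_apply, TP.row]
    rw [e1]
    refine sum_mem fun q _ => hreach Finset.univ q (fun r hr => absurd (Finset.mem_univ r) hr) _ fun hq => ?_
    subst hq
    rw [hu, hdot] at hw'
    exact (mul_eq_zero.1 hw').resolve_left hω0
  simpa using hmem.2 1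

/-- **controls of all lines generate** -/
theorem om_le_of_controls (h9 : 5 ≤ Fintype.card ((T → Fin k) × Fin k)) : Om ((T → Fin k) × Fin k) F ≤ M := by
  classical
  have h2 := hh.h2
  have h4 := hh.four
  obtain ⟨e, -, he⟩ := exists_value_pr h2 pr_one (π := (1 : Matrix (Fin k) (Fin k) F))
    (by rw [rk_one, Fintype.card_fin]; omega) (1 : F)
  have he0 : e ⬝ʷ e ≠ 0 := by rw [he]; exact one_ne_zero
  have hσ := (pr_pj he0).one_sub
  have hr := rk_one_sub (pr_pj he0)
  rw [rk_pj he0, Fintype.card_fin] at hr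
  obtain ⟨f, hf', hf⟩ := exists_value_pr h2 hσ (by omega) (-1 : F)
  have hf0 : f ⬝ʷ f ≠ 0 := by rw [hf]; exact neg_ne_zero.2 one_ne_zero
  have hρ := hσ.sub (pr_pj hf0) (mul_pj hf')
  have hr' := rk_sub_pj hσ hf0 hf'
  obtain ⟨v, hv', hv⟩ := exists_aniso h2 hρ (fun h => by rw [h, rk_zero] at hr'; omega)
  have hef : e ⬝ʷ f = 0 := by
    rw [← hf', ← hσ.dot, Matrix.sub_mulVec, Matrix.one_mulVec, pj_self he0, sub_self, zero_bf]
  obtain ⟨hσv, hfv⟩ := fix_sub_pj hσ hf0 hf' hv'
  have hev : e ⬝ʷ v = 0 := by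
    rw [← hσv, ← hσ.dot, Matrix.sub_mulVec, Matrix.one_mulVec, pj_self he0, sub_self, zero_bf]
  have hx : ∀ s : F, s * s = 1 → (e + s • f) ⬝ʷ (e + s • f) = 0 ∧ (e + s • f) ⬝ʷ v = 0 ∧ e + s • f ≠ 0 := by
    intro s hs
    refine ⟨?_, ?_, fun h => ?_⟩
    · simp only [add_bf, bf_add, smul_bf, bf_smul, smul_eq_mul, he, hf, hef, bf_comm f e]
      linear_combination -hs
    · simp only [add_bf, smul_bf, smul_eq_mul, hev, hfv]
      ring
    · have := congrArg (e ⬝ʷ ·) h
      simp [bf_add, bf_smul, bf_zero, he, hef] at this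
  obtain ⟨a1, a2, a3⟩ := hx 1 (one_mul 1)
  obtain ⟨b1, b2, b3⟩ := hx (-1) (by ring)
  let y₀ : T → Fin k := fun _ => ⟨0, by omega⟩
  exact Orth.omega_le_of_full (polar_nondeg h2) h9
    (by rw [dq_apply, bf_pv, a1, mul_zero]) (by rw [dq_apply, bf_pv, b1, mul_zero])
    (by
      rw [polar_dq, bf_pv]
      refine mul_ne_zero h2 (mul_ne_zero (by simpa [bf_single] using Wt.ne y₀) ?_)
      simp only [add_bf, bf_add, smul_bf, bf_smul, smul_eq_mul, he, hf, hef, bf_comm f e]
      intro h
      exact h2 (by linear_combination h))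
    (full_pure hh hC hS a3 a1 a2 hv y₀) (full_pure hh hC hS b3 b1 b2 hv y₀)

end Cfsg.Agent.MaxCl.TEv
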