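/-
Elements diagonal in an orthonormal frame of three vectors: their rules.
-/
import Cfsg.Agent.Lib.MaxCl.TOrthParts

set_option autoImplicit false
set_option linter.unusedSectionVars false

namespace Cfsg.Agent.MaxCl.TOrth

open Matrix
open TW (tk pm pg rt rid spl sl Wr)
open scoped MatrixGroups Kronecker

variable {F : Type*} [Field F] {k : ℕ}

/-- the reflection exchanging two orthonormal vectors -/
theorem rf_swap (h2 : (2 : F) ≠ 0) {x y : Fin k → F} (hx : x ⬝ᵥ x = 1) (hy : y ⬝ᵥ y = 1) (hxy : x ⬝ᵥ y = 0) :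
    (x - y) ⬝ᵥ (x - y) = 2 ∧ act (rf (x - y)) x = y ∧ act (rf (x - y)) y = x ∧
      ∀ z, x ⬝ᵥ z = 0 → y ⬝ᵥ z = 0 → act (rf (x - y)) z = z := by
  have hyx : y ⬝ᵥ x = 0 := by rw [dotProduct_comm]; exact hxy
  have n : (x - y) ⬝ᵥ (x - y) = 2 := by
    simp only [sub_dotProduct, dotProduct_sub, hx, hy, hxy, hyx]; ring
  have n0 : (x - y) ⬝ᵥ (x - y) ≠ 0 := by rw [n]; exact h2
  refine ⟨n, ?_, ?_, fun z hz hz' => ?_⟩
  · rw [act_rf n0, n, sub_dotProduct, hx, hyx, sub_zero, mul_one, inv_mul_cancel₀ h2, one_smul, sub_sub_cancel]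
  · rw [act_rf n0, n, sub_dotProduct, hxy, hy, zero_sub,
      show (2 : F)⁻¹ * (2 * -1) = -1 by rw [← mul_assoc, inv_mul_cancel₀ h2, one_mul], neg_one_smul, sub_neg_eq_add,
      add_sub_cancel]
  · rw [act_rf n0, n, sub_dotProduct, hz, hz', sub_zero, mul_zero, mul_zero, zero_smul, sub_zero]

/-- an orthonormal frame of three vectors -/
structure Tri (a b c : Fin k → F) : Prop where
  ha : a ⬝ᵥ a = 1
  hb : b ⬝ᵥ b = 1
  hc : c ⬝ᵥ c = 1
  hab : a ⬝ᵥ b = 0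
  hac : a ⬝ᵥ c = 0
  hbc : b ⬝ᵥ c = 0
  sum : pj a + pj b + pj c = 1

namespace Tri

variable {a b c : Fin k → F} (h : Tri a b c)
include h

theorem ha0 : a ⬝ᵥ a ≠ 0 := by rw [h.ha]; exact one_ne_zero
theorem hb0 : b ⬝ᵥ b ≠ 0 := by rw [h.hb]; exact one_ne_zero
theorem hc0 : c ⬝ᵥ c ≠ 0 := by rw [h.hc]; exact one_ne_zero

theorem rot : Tri b c a :=
  ⟨h.hb, h.hc, h.ha, h.hbc, by rw [dotProduct_comm]; exact h.hab, by rw [dotProduct_comm]; exact h.hac,
    by rw [← h.sum]; abel⟩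

theorem pa_ne : pj a ≠ 0 := fun e => by have := rk_pj h.ha0; rw [e, rk_zero] at this; omega

theorem card : k = 3 := by
  have e := rk_one (ι := Fin k) (F := F)
  rw [← h.sum, rk_add ((pr_pj h.ha0).add (pr_pj h.hb0) (pj_mul_pj h.hab)) (pr_pj h.hc0)
    (by rw [add_mul, pj_mul_pj h.hac, pj_mul_pj h.hbc, add_zero]),
    rk_add (pr_pj h.ha0) (pr_pj h.hb0) (pj_mul_pj h.hab), rk_pj h.ha0, rk_pj h.hb0, rk_pj h.hc0, Fintype.card_fin] at e
  exact e.symm

/-- the rotation of the frame -/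
theorem exists_rot [Finite F] (h2 : (2 : F) ≠ 0) :
    ∃ q ∈ Om (Fin k) F, act q a = b ∧ act q b = c ∧ act q c = a := by
  have hba : b ⬝ᵥ a = 0 := by rw [dotProduct_comm]; exact h.hab
  have hca : c ⬝ᵥ a = 0 := by rw [dotProduct_comm]; exact h.hac
  have hcb : c ⬝ᵥ b = 0 := by rw [dotProduct_comm]; exact h.hbc
  obtain ⟨n1, p1, p2, p3⟩ := rf_swap h2 h.ha h.hb h.hab
  obtain ⟨n2, q1, q2, q3⟩ := rf_swap h2 h.hb h.hc h.hbc
  refine ⟨rf (a - b) * rf (b - c),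
    rf_mul_rf_mem h2 (by rw [n1]; exact h2) (by rw [n2]; exact h2) (by rw [n1, n2]; exact ⟨2, rfl⟩), ?_, ?_, ?_⟩
  · rw [act_mul, q3 a hba hca, p1]
  · rw [act_mul, q1, p3 c h.hac h.hbc]
  · rw [act_mul, q2, p2]

end Tri

variable {T : Type} [Fintype T] [DecidableEq T] {a b c : Fin k → F}

/-- the matrix with given parts -/
def tri (a b c : Fin k → F) (A B C : Matrix (T → Fin k) (T → Fin k) F) : Mx T k F :=
  A ⊗ₖ pj a + B ⊗ₖ pj b + C ⊗ₖ pj c

theorem tri_rot (A B C : Matrix (T → Fin k) (T → Fin k) F) : tri b c a B C A = tri a b c A B C := by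
  simp only [tri]; abel

theorem tri_mul (h : Tri a b c) (A B C A' B' C' : Matrix (T → Fin k) (T → Fin k) F) :
    tri a b c A B C * tri a b c A' B' C' = tri a b c (A * A') (B * B') (C * C') := by
  have e1 := pj_mul_pj h.hab
  have e2 := pj_mul_pj h.hac
  have e3 := pj_mul_pj h.hbc
  simp only [tri, add_mul, mul_add, ← Matrix.mul_kronecker_mul, (pr_pj h.ha0).idem, (pr_pj h.hb0).idem,
    (pr_pj h.hc0).idem, e1, e2, e3, (pr_pj h.ha0).swap (pr_pj h.hb0) e1, (pr_pj h.ha0).swap (pr_pj h.hc0) e2,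
    (pr_pj h.hb0).swap (pr_pj h.hc0) e3, Matrix.kronecker_zero, add_zero, zero_add]

theorem tri_same (h : Tri a b c) (X : Matrix (T → Fin k) (T → Fin k) F) : tri a b c X X X = X ⊗ₖ 1 := by
  rw [tri, ← Matrix.kronecker_add, ← Matrix.kronecker_add, h.sum]

theorem tri_transpose (h : Tri a b c) (A B C : Matrix (T → Fin k) (T → Fin k) F) :
    (tri a b c A B C)ᵀ = tri a b c Aᵀ Bᵀ Cᵀ := by
  simp only [tri, Matrix.transpose_add, ← Matrix.kroneckerMap_transpose, (pr_pj h.ha0).symm, (pr_pj h.hb0).symm,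
    (pr_pj h.hc0).symm]

theorem tri_left (h : Tri a b c) (A B C : Matrix (T → Fin k) (T → Fin k) F) :
    tri a b c A B C * rgt _ (pj a) = A ⊗ₖ pj a ∧ rgt _ (pj a) * tri a b c A B C = A ⊗ₖ pj a := by
  have e1 := pj_mul_pj h.hab
  have e2 := pj_mul_pj h.hac
  constructor <;>
    simp only [tri, rgt, add_mul, mul_add, ← Matrix.mul_kronecker_mul, (pr_pj h.ha0).idem, e1, e2,
      (pr_pj h.ha0).swap (pr_pj h.hb0) e1, (pr_pj h.ha0).swap (pr_pj h.hc0) e2, Matrix.kronecker_zero, add_zero,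
      mul_one, one_mul]

theorem tri_inj (h : Tri a b c) {A B C A' B' C' : Matrix (T → Fin k) (T → Fin k) F}
    (e : tri a b c A B C = tri a b c A' B' C') : A = A' ∧ B = B' ∧ C = C' := by
  have key : ∀ {a b c : Fin k → F}, Tri a b c → ∀ {A B C A' B' C' : Matrix (T → Fin k) (T → Fin k) F},
      tri a b c A B C = tri a b c A' B' C' → A = A' := by
    intro a b c h A B C A' B' C' e
    have := congrArg (· * rgt _ (pj a)) e
    rw [(tri_left h A B C).1, (tri_left h A' B' C').1] at this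
    exact kron_inj this h.pa_ne
  exact ⟨key h e, key h.rot (A := B) (B := C) (C := A) (A' := B') (B' := C') (C' := A') ((tri_rot A B C).trans (e.trans (tri_rot A' B' C').symm)),
    key h.rot.rot (A := C) (B := A) (C := B) (A' := C') (B' := A') (C' := B') (((tri_rot B C A).trans (tri_rot A B C)).trans (e.trans ((tri_rot B' C' A').trans (tri_rot A' B' C')).symm))⟩

variable (M : Subgroup (GL ((T → Fin k) × Fin k) F))

/-- elements diagonal in a frame -/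
def Fr (a b c : Fin k → F) (A B C : GL (T → Fin k) F) : Prop :=
  ∃ g ∈ M, (g : Mx T k F) = tri a b c (A : Matrix (T → Fin k) (T → Fin k) F) (B : Matrix (T → Fin k) (T → Fin k) F)
    (C : Matrix (T → Fin k) (T → Fin k) F)

variable {M} [Finite F] (hM : Ctx T k F M) (h : Tri a b c) {A B C A' B' C' : GL (T → Fin k) F}
include hM h

theorem Fr.diag {x : GL (T → Fin k) F} (hx : x ∈ Wr T k F) (hx' : x ∈ Om (T → Fin k) F) : Fr M a b c x x x :=
  ⟨_, hM.inl_mem hx hx', by rw [inl_val, tri_same h]⟩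

theorem Fr.one : Fr M a b c 1 1 1 := Fr.diag hM h (one_mem _) (one_mem _)

theorem Fr.mul (hg : Fr M a b c A B C) (hg' : Fr M a b c A' B' C') : Fr M a b c (A * A') (B * B') (C * C') := by
  obtain ⟨g, hgM, eg⟩ := hg
  obtain ⟨g', hgM', eg'⟩ := hg'
  exact ⟨g * g', mul_mem hgM hgM', by rw [Units.val_mul, eg, eg', tri_mul h]; rfl⟩

theorem Fr.orth (hg : Fr M a b c A B C) :
    A ∈ Orth (T → Fin k) F ∧ B ∈ Orth (T → Fin k) F ∧ C ∈ Orth (T → Fin k) F := by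
  have h2 := hM.hyp.h2
  obtain ⟨g, hgM, eg⟩ := hg
  have e := transpose_mul h2 (hM.le hgM)
  rw [eg, tri_transpose h, tri_mul h, ← Matrix.one_kronecker_one, ← tri_same h] at e
  obtain ⟨e1, e2, e3⟩ := tri_inj h e
  exact ⟨(mem_orth_iff h2).2 e1, (mem_orth_iff h2).2 e2, (mem_orth_iff h2).2 e3⟩

theorem Fr.inv (hg : Fr M a b c A B C) : Fr M a b c A⁻¹ B⁻¹ C⁻¹ := by
  have h2 := hM.hyp.h2
  obtain ⟨hA, hB, hC⟩ := hg.orth hM h
  obtain ⟨g, hgM, eg⟩ := hg
  exact ⟨g⁻¹, inv_mem hgM, by rw [inv_val h2 (hM.le hgM), eg, tri_transpose h, inv_val h2 hA, inv_val h2 hB, inv_val h2 hC]⟩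

theorem Fr.commutator (hg : Fr M a b c A B C) (hg' : Fr M a b c A' B' C') :
    Fr M a b c (A * A' * A⁻¹ * A'⁻¹) (B * B' * B⁻¹ * B'⁻¹) (C * C' * C⁻¹ * C'⁻¹) :=
  ((hg.mul hM h hg').mul hM h (hg.inv hM h)).mul hM h (hg'.inv hM h)

/-- rotating the frame -/
theorem Fr.cyc (hg : Fr M a b c A B C) : Fr M a b c C A B := by
  have h2 := hM.hyp.h2
  obtain ⟨q, hq, qa, qb, qc⟩ := h.exists_rot h2
  obtain ⟨g, hgM, eg⟩ := hg
  have hqM := hM.inr_mem hq
  refine ⟨inr _ k F q * g * (inr _ k F q)⁻¹, mul_mem (mul_mem hqM hgM) (inv_mem hqM), ?_⟩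
  have e : ∀ v, (q : Matrix (Fin k) (Fin k) F) * pj v * ((q⁻¹ : GL (Fin k) F) : Matrix (Fin k) (Fin k) F) = pj (act q v) :=
    fun v => by rw [inv_val h2 (om_le_orth hq), conj_pj h2 (om_le_orth hq)]
  rw [Units.val_mul, Units.val_mul, ← map_inv, inr_val, inr_val, eg, tri]
  simp only [tri, mul_add, add_mul, ← Matrix.mul_kronecker_mul, one_mul, mul_one, e, qa, qb, qc]
  abel

/-- exchanging two frame vectors -/
theorem Fr.swap (r : T) : ∃ w ∈ Orth (Fin k) F, ∀ {A B C : GL (T → Fin k) F}, Fr M a b c A B C →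
    Fr M a b c (rt r w * A * (rt r w)⁻¹) (rt r w * C * (rt r w)⁻¹) (rt r w * B * (rt r w)⁻¹) := by
  have h2 := hM.hyp.h2
  obtain ⟨-, wb, wc, w3⟩ := rf_swap h2 h.hb h.hc h.hbc
  have wa : act (rf (b - c)) a = a :=
    w3 a (by rw [dotProduct_comm]; exact h.hab) (by rw [dotProduct_comm]; exact h.hac)
  refine ⟨rf (b - c), rf_mem _, fun {A B C} hg => ?_⟩
  obtain ⟨g, hgM, eg⟩ := hg
  have hkM := pair_mem hM r (rf_mem (b - c))
  refine ⟨TP.kr (rt r (rf (b - c)), rf (b - c)) * g * (TP.kr (rt r (rf (b - c)), rf (b - c)))⁻¹,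
    mul_mem (mul_mem hkM hgM) (inv_mem hkM), ?_⟩
  set w := rf (b - c)
  have e : ∀ v, (w : Matrix (Fin k) (Fin k) F) * pj v * ((w⁻¹ : GL (Fin k) F) : Matrix (Fin k) (Fin k) F) = pj (act w v) :=
    fun v => by rw [inv_val h2 (rf_mem _), conj_pj h2 (rf_mem _)]
  rw [Units.val_mul, Units.val_mul, ← map_inv, Prod.inv_mk, kr_val, kr_val, eg]
  simp only [tri, mul_add, add_mul, ← Matrix.mul_kronecker_mul, ← Units.val_mul, e, wa, wb, wc]
  abel

/-- one part determines the others up to scalars -/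
theorem Fr.uniq (hg : Fr M a b c A B C) (hg' : Fr M a b c A' B' C') {lam : F}
    (hA : (A' : Matrix (T → Fin k) (T → Fin k) F) = lam • (A : Matrix (T → Fin k) (T → Fin k) F)) :
    (∃ μ : F, (B' : Matrix (T → Fin k) (T → Fin k) F) = μ • (B : Matrix (T → Fin k) (T → Fin k) F)) ∧
      ∃ μ : F, (C' : Matrix (T → Fin k) (T → Fin k) F) = μ • (C : Matrix (T → Fin k) (T → Fin k) F) := by
  haveI : Nonempty (T → Fin k) := ⟨fun _ => ⟨0, hM.hyp.odd.pos⟩⟩
  obtain ⟨g, hgM, eg⟩ := (hg.inv hM h).mul hM h hg'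
  have eA : ((A⁻¹ * A' : GL (T → Fin k) F) : Matrix (T → Fin k) (T → Fin k) F) = lam • 1 := by
    rw [Units.val_mul, hA, mul_smul_comm, ← Units.val_mul, inv_mul_cancel, Units.val_one]
  have hπ := (pr_pj h.ha0).one_sub
  have hne : (1 : Matrix (Fin k) (Fin k) F) - pj a ≠ 1 := fun e => h.pa_ne (sub_eq_self.1 e)
  obtain ⟨t1, t2⟩ := tri_left h ((A⁻¹ * A' : GL (T → Fin k) F) : Matrix (T → Fin k) (T → Fin k) F)
    ((B⁻¹ * B' : GL (T → Fin k) F) : Matrix (T → Fin k) (T → Fin k) F)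
    ((C⁻¹ * C' : GL (T → Fin k) F) : Matrix (T → Fin k) (T → Fin k) F)
  rw [← eg] at t1 t2
  obtain ⟨D, hD⟩ := triv_all hM hπ hne g ⟨hgM, commute_one_sub (t1.trans t2.symm), lam • pj a, by
    rw [sub_sub_cancel, t1, eA, Matrix.smul_kronecker, rgt_smul]⟩
  have key : ∀ {a b c : Fin k → F}, Tri a b c → ∀ {X Y Z : GL (T → Fin k) F},
      (g : Mx T k F) = tri a b c (X : Matrix (T → Fin k) (T → Fin k) F) (Y : Matrix (T → Fin k) (T → Fin k) F)
        (Z : Matrix (T → Fin k) (T → Fin k) F) → ∀ {U V : GL (T → Fin k) F}, X = U⁻¹ * V →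
      ∃ μ : F, (V : Matrix (T → Fin k) (T → Fin k) F) = μ • (U : Matrix (T → Fin k) (T → Fin k) F) := by
    intro a b c h X Y Z e U V hX
    have e1 := (tri_left h (X : Matrix (T → Fin k) (T → Fin k) F) (Y : Matrix (T → Fin k) (T → Fin k) F)
      (Z : Matrix (T → Fin k) (T → Fin k) F)).1
    rw [← e, hD, rgt_mul] at e1
    obtain ⟨μ, hμ, hμe⟩ := kron_eq e1.symm h.pa_ne X.ne_zero
    refine ⟨μ⁻¹, ?_⟩
    rw [show V = U * X by rw [hX, mul_inv_cancel_left], Units.val_mul, eq_inv_smul_iff₀ hμ, ← mul_smul_comm, ← hμe,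
      mul_one]
  exact ⟨key h.rot (X := B⁻¹ * B') (Y := C⁻¹ * C') (Z := A⁻¹ * A') (eg.trans (tri_rot _ _ _).symm) rfl,
    key h.rot.rot (X := C⁻¹ * C') (Y := A⁻¹ * A') (Z := B⁻¹ * B')
      (eg.trans ((tri_rot _ _ _).symm.trans (tri_rot _ _ _).symm)) rfl⟩

end Cfsg.Agent.MaxCl.TOrth
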