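/-
The derived group of the factor: non-commuting commutators and elements of order above two; incidence tables
commuting with the rotation of three points.
-/
import Cfsg.Agent.Lib.MaxCl.TOrthTri

set_option autoImplicit false
set_option linter.unusedSectionVars false

namespace Cfsg.Agent.MaxCl.TOrth

open Matrix
open scoped MatrixGroups

variable {F : Type*} [Field F] {k : ℕ}

/-- a commutator of two elements of the derived group -/
def IsCm (y : GL (Fin k) F) : Prop :=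
  ∃ y₁ ∈ Om (Fin k) F, ∃ y₂ ∈ Om (Fin k) F, y = y₁ * y₂ * y₁⁻¹ * y₂⁻¹

theorem IsCm.mem {y : GL (Fin k) F} (h : IsCm y) : y ∈ Om (Fin k) F := by
  obtain ⟨a, ha, b, hb, rfl⟩ := h
  exact mul_mem (mul_mem (mul_mem ha hb) (inv_mem ha)) (inv_mem hb)

theorem IsCm.conj {y : GL (Fin k) F} (h : IsCm y) {w : GL (Fin k) F} (hw : w ∈ Orth (Fin k) F) :
    IsCm (w * y * w⁻¹) := by
  obtain ⟨a, ha, b, hb, rfl⟩ := h
  exact ⟨_, conj_mem_om hw ha, _, conj_mem_om hw hb, by group⟩

variable [Finite F]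

theorem eq_one_of_commute (hh : Hyp k F) {y : GL (Fin k) F} (hy : y ∈ Om (Fin k) F)
    (h : ∀ w ∈ Om (Fin k) F, Commute y w) : y = 1 :=
  eq_one_of_central hh.h2 hh.odd' hh.three' hy h

theorem exists_om_ne_one (hh : Hyp k F) : ∃ y ∈ Om (Fin k) F, y ≠ 1 := by
  let i : Fin k := ⟨0, hh.odd.pos⟩
  let j : Fin k := ⟨1, by have := hh.three; omega⟩
  have hij : i ≠ j := fun e => by simpa [i, j] using congrArg Fin.val e
  refine ⟨zz (Pi.single i (1 : F)), zz_single_mem hh.h2 hh.odd' i, fun e => hh.h2 ?_⟩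
  have e' : (zz (Pi.single i (1 : F)) : Matrix (Fin k) (Fin k) F) j j = 1 := by
    rw [e, Units.val_one, Matrix.one_apply_eq]
  rw [zz_val (by simp), Matrix.sub_apply, Matrix.smul_apply, Matrix.one_apply_eq] at e'
  simp [pj, Matrix.vecMulVec_apply, hij.symm] at e'
  linear_combination -e'

/-- an element of order above two -/
theorem exists_sq_ne (hh : Hyp k F) : ∃ y ∈ Om (Fin k) F, y ≠ 1 ∧ y * y ≠ 1 := by
  by_contra hc
  push Not at hc
  have hsq : ∀ y ∈ Om (Fin k) F, y * y = 1 := fun y hy => by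
    rcases eq_or_ne y 1 with rfl | h
    · exact one_mul 1
    · exact hc y hy h
  obtain ⟨y, hy, hy1⟩ := exists_om_ne_one hh
  refine hy1 (eq_one_of_commute hh hy fun w hw => ?_)
  have h1 := inv_eq_of_mul_eq_one_right (hsq _ (mul_mem hy hw))
  rw [_root_.mul_inv_rev, inv_eq_of_mul_eq_one_right (hsq y hy), inv_eq_of_mul_eq_one_right (hsq w hw)] at h1
  exact h1.symm

theorem exists_cm_ne_one (hh : Hyp k F) : ∃ y, IsCm y ∧ y ≠ (1 : GL (Fin k) F) := by
  by_contra hc
  push Not at hc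
  obtain ⟨y, hy, hy1⟩ := exists_om_ne_one hh
  exact hy1 (eq_one_of_commute hh hy fun w hw =>
    mul_inv_eq_iff_eq_mul.1 (mul_inv_eq_one.1 (hc _ ⟨y, hy, w, hw, rfl⟩)))

/-- two commutators that do not commute -/
theorem exists_cm_pair (hh : Hyp k F) :
    ∃ y₁ y₂ : GL (Fin k) F, IsCm y₁ ∧ IsCm y₂ ∧ y₁ * y₂ * y₁⁻¹ * y₂⁻¹ ≠ 1 := by
  by_contra hc
  push Not at hc
  obtain ⟨y, hy, hy1⟩ := exists_cm_ne_one hh
  let N : Subgroup (GL (Fin k) F) := ⨅ h ∈ Om (Fin k) F, Subgroup.centralizer {h * y * h⁻¹}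
  have memN : ∀ x, x ∈ N ↔ ∀ h ∈ Om (Fin k) F, Commute (h * y * h⁻¹) x := fun x => by
    simp only [N, Subgroup.mem_iInf, Subgroup.mem_centralizer_singleton_iff]
    exact ⟨fun H h hh => (H h hh).symm, fun H h hh => (H h hh).eq.symm⟩
  have hle : Om (Fin k) F ≤ N := by
    refine om_le_of_normal hh.h2 hh.odd' hh.three' hh.big' (fun g hg x hx _ => ?_) (x := y) ?_ hy.mem hy1
    · refine (memN _).2 fun h hh' => ?_
      have := ((memN x).1 hx (g⁻¹ * h) (mul_mem (inv_mem hg) hh')).map (MulAut.conj g).toMonoidHom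
      simpa [MulAut.conj_apply, mul_assoc] using this
    · refine (memN _).2 fun h hh' => ?_
      have := hc (h * y * h⁻¹) y (hy.conj (om_le_orth hh')) hy
      exact mul_inv_eq_iff_eq_mul.1 (mul_inv_eq_one.1 this)
  refine hy1 (eq_one_of_commute hh hy.mem fun w hw => ?_)
  have := (memN w).1 (hle hw) 1 (one_mem _)
  rwa [one_mul, inv_one, mul_one] at this

omit [Finite F] in
/-- a table commuting with the rotation, with one entry in each column -/
theorem table (b : Fin 3 → Fin 3 → Bool) (hrot : ∀ i j, b (i + 1) (j + 1) = b i j)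
    (hone : ∀ j, (b 0 j = true ∧ b 1 j = false ∧ b 2 j = false) ∨ (b 0 j = false ∧ b 1 j = true ∧ b 2 j = false) ∨
      (b 0 j = false ∧ b 1 j = false ∧ b 2 j = true)) :
    ∃ d : Fin 3, ∀ i j, b i j = decide (j = i + d) := by
  have e10 : b 1 0 = b 0 2 := hrot 0 2
  have e20 : b 2 0 = b 0 1 := by rw [show b 2 0 = b 1 2 from hrot 1 2, show b 1 2 = b 0 1 from hrot 0 1]
  have e11 : b 1 1 = b 0 0 := hrot 0 0
  have e12 : b 1 2 = b 0 1 := hrot 0 1
  have e21 : b 2 1 = b 0 2 := by rw [show b 2 1 = b 1 0 from hrot 1 0, e10]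
  have e22 : b 2 2 = b 0 0 := by rw [show b 2 2 = b 1 1 from hrot 1 1, e11]
  have h0 := hone 0
  rw [e10, e20] at h0
  rcases h0 with ⟨a, b', c⟩ | ⟨a, b', c⟩ | ⟨a, b', c⟩
  · refine ⟨0, fun i j => ?_⟩
    fin_cases i <;> fin_cases j <;> simp [a, b', c, e10, e20, e11, e12, e21, e22]
  · refine ⟨2, fun i j => ?_⟩
    fin_cases i <;> fin_cases j <;> simp [a, b', c, e10, e20, e11, e12, e21, e22]
  · refine ⟨1, fun i j => ?_⟩
    fin_cases i <;> fin_cases j <;> simp [a, b', c, e10, e20, e11, e12, e21, e22]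

end Cfsg.Agent.MaxCl.TOrth
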