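/-
Elements diagonal in an orthonormal frame are pure: the parts follow a slot permutation, which is trivial.
-/
import Cfsg.Agent.Lib.MaxCl.TOrthCombi

set_option autoImplicit false
set_option linter.unusedSectionVars false

namespace Cfsg.Agent.MaxCl.TOrth

open Matrix
open TW (tk pm pg rt rid spl sl Wr)
open scoped MatrixGroups Kronecker

variable {F : Type*} [Field F] {k : ℕ}

/-! ### slot elements -/

section Slot

variable {T : Type} [Fintype T] [DecidableEq T]

theorem el_left (r : T) {π : Matrix (Fin k) (Fin k) F} (hπ : Pr π) (y : GL (Fin k) F) :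
    el r π y * rgt _ π = (rt r y : Matrix (T → Fin k) (T → Fin k) F) ⊗ₖ π := by
  simp only [el, rgt, add_mul, ← Matrix.mul_kronecker_mul, one_mul, mul_one, hπ.one_sub_mul, hπ.idem,
    Matrix.kronecker_zero, zero_add]

theorem el_other (r : T) {π σ : Matrix (Fin k) (Fin k) F} (hπσ : π * σ = 0) (y : GL (Fin k) F) :
    el r π y * rgt _ σ = rgt _ σ := by
  simp only [el, rgt, add_mul, ← Matrix.mul_kronecker_mul, one_mul, mul_one, sub_mul, hπσ, sub_zero,
    Matrix.kronecker_zero, add_zero]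

theorem el_commute_rgt (r : T) {π D : Matrix (Fin k) (Fin k) F} (h : Commute π D) (y : GL (Fin k) F) :
    Commute (el r π y) (rgt _ D) := by
  show _ = _
  simp only [el, rgt, add_mul, mul_add, ← Matrix.mul_kronecker_mul, one_mul, mul_one, sub_mul, mul_sub, h.eq]

theorem inl_rt_eq (r : T) (h : GL (Fin k) F) : inl (T → Fin k) k F (rt r h) = elHom r pr_one h :=
  Units.ext (by rw [elHom_val, el, sub_self, rgt_zero, zero_add, inl_val])

theorem el_conj_inl (r : T) {π : Matrix (Fin k) (Fin k) F} (hπ : Pr π) (h y : GL (Fin k) F) :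
    inl _ k F (rt r h) * elHom r hπ y * (inl _ k F (rt r h))⁻¹ = elHom r hπ (h * y * h⁻¹) := by
  refine Units.ext ?_
  rw [← map_inv, ← map_inv, Units.val_mul, Units.val_mul, elHom_val, elHom_val, inl_val, inl_val]
  simp only [el, rgt, add_mul, mul_add, ← Matrix.mul_kronecker_mul, one_mul, mul_one, ← Units.val_mul, ← map_mul,
    mul_inv_cancel, map_one, Units.val_one]

theorem el_conj_inr (h2 : (2 : F) ≠ 0) (r : T) {π π' : Matrix (Fin k) (Fin k) F} (hπ : Pr π) (hπ' : Pr π')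
    {u : GL (Fin k) F} (hu : u ∈ Orth (Fin k) F)
    (e : (u : Matrix (Fin k) (Fin k) F) * π * (u : Matrix (Fin k) (Fin k) F)ᵀ = π') (y : GL (Fin k) F) :
    inr _ k F u * elHom r hπ y * (inr _ k F u)⁻¹ = elHom r hπ' y := by
  refine Units.ext ?_
  rw [← map_inv, Units.val_mul, Units.val_mul, elHom_val, elHom_val, inr_val, inr_val, inv_val h2 hu]
  simp only [el, rgt, add_mul, mul_add, ← Matrix.mul_kronecker_mul, one_mul, mul_one, mul_sub, sub_mul, e,
    mul_transpose h2 hu]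

theorem el_prod (r : T) {π σ : Matrix (Fin k) (Fin k) F} (hπ : Pr π) (hσ : Pr σ) (h : π * σ = 0) (y : GL (Fin k) F) :
    elHom r hπ y * elHom r hσ y = elHom r (hπ.add hσ h) y := by
  refine Units.ext ?_
  rw [Units.val_mul, elHom_val, elHom_val, elHom_val]
  simp only [el, rgt, add_mul, mul_add, ← Matrix.mul_kronecker_mul, one_mul, mul_one, sub_mul, mul_sub, h,
    hπ.swap hσ h, Matrix.kronecker_zero, add_zero, zero_add, sub_zero]
  rw [sub_sub, Matrix.kronecker_add]
  abel_nf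

theorem rt_neg (r : T) (P : GL (Fin k) F) :
    (rt r (-P) : Matrix (T → Fin k) (T → Fin k) F) = (-1 : F) • (rt r P : Matrix (T → Fin k) (T → Fin k) F) := by
  rw [sl_eq_rt, sl_eq_rt, Units.val_neg, ← neg_one_smul F (P : Matrix (Fin k) (Fin k) F)]
  exact TW.pm_update_smul 1 r _ _

theorem rt_smul_inj [Finite F] (hh : Hyp k F) (r : T) {P P' : GL (Fin k) F} (hP : SO P) (hP' : SO P') {c : F}
    (h : (rt r P' : Matrix (T → Fin k) (T → Fin k) F) = c • (rt r P : Matrix (T → Fin k) (T → Fin k) F)) : P = P' := by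
  haveI : Nonempty ({s // s ≠ r} → Fin k) := ⟨fun _ => ⟨0, hh.odd.pos⟩⟩
  have e := congrArg (fun m => m.submatrix (spl (m := k) r).symm (spl (m := k) r).symm) h
  simp only [Matrix.submatrix_smul, Pi.smul_apply, ← TW.rid_val, rid_rt', inr_val] at e
  refine (so_eq_of_smul hh.odd hh.h2 hP hP' (c := c) (rgt_inj (β := {s // s ≠ r} → Fin k) ?_)).2
  rw [rgt_smul]
  exact e

end Slot

/-! ### the frame -/

variable {T : Type} [Fintype T] [DecidableEq T] {M : Subgroup (GL ((T → Fin k) × Fin k) F)}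

theorem single_ne (i : Fin k) : (Pi.single i (1 : F) : Fin k → F) ⬝ᵥ Pi.single i 1 ≠ 0 := by simp

/-- the coordinate projection -/
abbrev cq (F : Type*) [Field F] {k : ℕ} (i : Fin k) : Matrix (Fin k) (Fin k) F := pj (Pi.single i (1 : F))

theorem pr_cq (i : Fin k) : Pr (cq F i) := pr_pj (single_ne i)

theorem cq_mul {i j : Fin k} (h : i ≠ j) : cq F i * cq F j = 0 := pj_mul_pj (by simp [h.symm])

theorem cq_ne (i : Fin k) : cq F i ≠ 0 := fun e => by
  have := rk_pj (single_ne (F := F) i); rw [show pj _ = cq F i from rfl, e, rk_zero] at this; omega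

/-- the operator of the slot `r` on the `i`-th line of the slot `s` -/
noncomputable def xel (s r : T) (hrs : r ≠ s) (i : Fin k) : GL (Fin k) F →* GL (T → Fin k) F :=
  (rid s).symm.toMonoidHom.comp (elHom (⟨r, hrs⟩ : {x // x ≠ s}) (pr_cq i))

theorem rid_xel (s r : T) (hrs : r ≠ s) (i : Fin k) (y : GL (Fin k) F) :
    rid s (xel s r hrs i y) = elHom (⟨r, hrs⟩ : {x // x ≠ s}) (pr_cq i) y :=
  (rid s).apply_symm_apply _

/-- no slot element of the left factor lies in the group -/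
def NoLeft (M : Subgroup (GL ((T → Fin k) × Fin k) F)) : Prop :=
  ∀ (s r : T) (hrs : r ≠ s) (π : Matrix (Fin k) (Fin k) F) (hπ : Pr π), π ≠ 0 → π ≠ 1 → ∀ y ∈ Om (Fin k) F, y ≠ 1 →
    inl _ k F ((rid s).symm (elHom (⟨r, hrs⟩ : {x // x ≠ s}) hπ y)) ∉ M

/-- the second part of a frame element, on a line of the slot `s` -/
def Part (M : Subgroup (GL ((T → Fin k) × Fin k) F)) (a b c : Fin k → F) (s r : T) (hrs : r ≠ s) (j : Fin k)
    (X : GL (T → Fin k) F) (P : GL (Fin k) F) : Prop :=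
  ∀ B C, Fr M a b c X B C → ∃ lam : F, lam ≠ 0 ∧ (rid s B : Mx {x // x ≠ s} k F) * rgt _ (cq F j) =
    lam • ((rt (⟨r, hrs⟩ : {x // x ≠ s}) P : Matrix ({x // x ≠ s} → Fin k) ({x // x ≠ s} → Fin k) F) ⊗ₖ cq F j)

variable [Finite F] (hM : Ctx T k F M) {a b c : Fin k → F} (h : Tri a b c) {s r : T} (hrs : r ≠ s)
include hM h

theorem part_unique {j : Fin k} {X : GL (T → Fin k) F} {P P' : GL (Fin k) F} (hP : Part M a b c s r hrs j X P)
    (hP' : Part M a b c s r hrs j X P') (hS : SO P) (hS' : SO P') (hX : ∃ B C, Fr M a b c X B C) : P = P' := by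
  obtain ⟨B, C, hF⟩ := hX
  obtain ⟨l, hl, e⟩ := hP B C hF
  obtain ⟨l', hl', e'⟩ := hP' B C hF
  rw [e, ← Matrix.smul_kronecker, ← Matrix.smul_kronecker] at e'
  have e'' := kron_inj e' (cq_ne j)
  refine rt_smul_inj hM.hyp (⟨r, hrs⟩ : {x // x ≠ s}) hS hS' (c := l'⁻¹ * l) ?_
  rw [mul_smul, e'', inv_smul_smul₀ hl']

theorem part_mul {j : Fin k} {X X' : GL (T → Fin k) F} {P P' : GL (Fin k) F} (hP : Part M a b c s r hrs j X P)
    (hP' : Part M a b c s r hrs j X' P') (hX : ∃ B C, Fr M a b c X B C) (hX' : ∃ B C, Fr M a b c X' B C) :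
    Part M a b c s r hrs j (X * X') (P * P') := by
  intro B C hF
  obtain ⟨B₁, C₁, hF₁⟩ := hX
  obtain ⟨B₂, C₂, hF₂⟩ := hX'
  obtain ⟨l, hl, e⟩ := hP B₁ C₁ hF₁
  obtain ⟨l', hl', e'⟩ := hP' B₂ C₂ hF₂
  obtain ⟨⟨μ, hμ⟩, -⟩ := (hF₁.mul hM h hF₂).uniq hM h hF (lam := 1) (one_smul _ _).symm
  have hμ0 : μ ≠ 0 := fun h0 => by
    haveI : Nonempty (T → Fin k) := ⟨fun _ => ⟨0, hM.hyp.odd.pos⟩⟩
    exact B.ne_zero (by rw [hμ, h0, zero_smul])
  refine ⟨μ * (l * l'), mul_ne_zero hμ0 (mul_ne_zero hl hl'), ?_⟩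
  have hBv : (rid s B : Mx {x // x ≠ s} k F) = μ • ((rid s B₁ : Mx {x // x ≠ s} k F) * (rid s B₂ : Mx {x // x ≠ s} k F)) := by
    rw [← Units.val_mul, ← map_mul, TW.rid_val, TW.rid_val, hμ, Matrix.submatrix_smul, Pi.smul_apply]
    rfl
  have hq : ∀ A : Matrix ({x // x ≠ s} → Fin k) ({x // x ≠ s} → Fin k) F,
      A ⊗ₖ cq F j = rgt _ (cq F j) * (A ⊗ₖ cq F j) := fun A => by
    rw [rgt, ← Matrix.mul_kronecker_mul, one_mul, (pr_cq j).idem]
  rw [hBv, smul_mul_assoc, mul_assoc, e', mul_smul_comm, hq, ← mul_assoc, e, smul_mul_assoc,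
    ← Matrix.mul_kronecker_mul, (pr_cq j).idem, ← Units.val_mul, ← map_mul, smul_smul, smul_smul]
  congr 1
  ring

theorem part_diag {j : Fin k} {y : GL (Fin k) F} (hy : y ∈ Om (Fin k) F) : Part M a b c s r hrs j (rt r y) y := by
  intro B C hF
  obtain ⟨⟨μ, hμ⟩, -⟩ := (Fr.diag hM h (TW.rt_mem r y) (rt_om hM.hyp.h2 r hy)).uniq hM h hF (lam := 1)
    (one_smul _ _).symm
  have hμ0 : μ ≠ 0 := fun h0 => by
    haveI : Nonempty (T → Fin k) := ⟨fun _ => ⟨0, hM.hyp.odd.pos⟩⟩
    exact B.ne_zero (by rw [hμ, h0, zero_smul])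
  refine ⟨μ, hμ0, ?_⟩
  have : (rid s B : Mx {x // x ≠ s} k F) = μ • (rid s (rt r y) : Mx {x // x ≠ s} k F) := by
    rw [TW.rid_val, TW.rid_val, hμ, Matrix.submatrix_smul]
    rfl
  rw [this, rid_rt_ne hrs, inl_val, smul_mul_assoc, rgt, ← Matrix.mul_kronecker_mul, mul_one, one_mul]

/-- an element of the diagonal group commuting with `X` commutes with the other parts -/
theorem commute_second {X B C H : GL (T → Fin k) F} (hF : Fr M a b c X B C) (hH : H ∈ Wr T k F)
    (hH' : H ∈ Om (T → Fin k) F) (hc : Commute H X) : Commute H B := by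
  have h2 := hM.hyp.h2
  have hd := Fr.diag hM h hH hH'
  have hF' := (hd.mul hM h hF).mul hM h (hd.inv hM h)
  obtain ⟨⟨μ, hμ⟩, -⟩ := hF.uniq hM h hF' (lam := 1) (by rw [hc.eq, mul_inv_cancel_right, one_smul])
  have hB := (hF.orth hM h).2.1
  have := eq_of_smul h2 (hM.hyp.card_odd T) hB (hF'.orth hM h).2.1 (by
    rw [Units.val_mul, Units.val_mul, Matrix.det_mul, Matrix.det_mul, mul_right_comm, ← Matrix.det_mul,
      ← Units.val_mul, mul_inv_cancel, Units.val_one, Matrix.det_one, one_mul]) hμ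
  exact mul_inv_eq_iff_eq_mul.1 this.symm

theorem xel_om (i : Fin k) {y : GL (Fin k) F} (hy : y ∈ Om (Fin k) F) : xel s r hrs i y ∈ Om (T → Fin k) F := by
  rw [← rid_om_iff hM.hyp.h2 s, rid_xel]
  exact el_om hM.hyp.h2 _ (pr_cq i) hy

theorem part_exists (i j : Fin k) {y : GL (Fin k) F} {B₀ C₀ : GL (T → Fin k) F}
    (hF : Fr M a b c (xel s r hrs i y) B₀ C₀) :
    ∃ P, SO P ∧ Part M a b c s r hrs j (xel s r hrs i y) P := by
  have h2 := hM.hyp.h2
  have hz : zz (Pi.single j (1 : F)) ∈ Om (Fin k) F := zz_single_mem h2 hM.hyp.odd' j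
  have hqc : Commute (cq F i) (cq F j) := by
    rcases eq_or_ne i j with rfl | hij
    · exact Commute.refl _
    · exact (cq_mul hij).trans (cq_mul hij.symm).symm
  have hzc : Commute (rt s (zz (Pi.single j (1 : F)))) (xel s r hrs i y) := by
    refine Commute.of_map (rid s).injective ?_
    rw [rid_rt', rid_xel]
    refine Units.ext ?_
    rw [Units.val_mul, Units.val_mul, elHom_val, inr_eq_rgt, zz_val (single_ne j)]
    exact ((el_commute_rgt _ ((hqc.smul_right (2 : F)).sub_right (Commute.one_right _)) y).eq).symm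
  have hB₀ : Commute (rid s B₀ : Mx {x // x ≠ s} k F) (rgt _ (cq F j)) := by
    have hb := congrArg Units.val (((commute_second hM h hF (TW.rt_mem s _) (rt_om h2 s hz) hzc).map
      (rid s).toMonoidHom).eq)
    simp only [MulEquiv.coe_toMonoidHom, rid_rt', Units.val_mul, inr_eq_rgt, zz_val (single_ne j)] at hb
    have e : rgt ({x // x ≠ s} → Fin k) (cq F j) =
        (2 : F)⁻¹ • (rgt _ ((2 : F) • pj (Pi.single j (1 : F)) - 1) + 1) := by
      rw [rgt_sub, rgt_one, sub_add_cancel, ← rgt_smul, inv_smul_smul₀ h2]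
    rw [e]
    exact ((show Commute (rid s B₀ : Mx {x // x ≠ s} k F) (rgt _ ((2 : F) • pj (Pi.single j (1 : F)) - 1)) from
      hb.symm).add_right (Commute.one_right _)).smul_right _
  obtain ⟨A, hA, hAe⟩ := part_line hM.hyp (hM.hyp.card_odd _) ((rid_orth_iff h2 s).2 (hF.orth hM h).2.1)
    (single_ne j) hB₀
  obtain ⟨P, hP, rfl⟩ := slot_of_commute hM.hyp (⟨r, hrs⟩ : {x // x ≠ s}) hA fun v hv hvr => by
    let v' : T → GL (Fin k) F := fun x => if hx : x = s then 1 else v ⟨x, hx⟩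
    have hv' : ∀ x, v' x ∈ Om (Fin k) F := fun x => by
      by_cases hx : x = s
      · simp only [v', dif_pos hx]; exact one_mem _
      · simp only [v', dif_neg hx]; exact hv _
    have hrid : rid s (tk v') = inl _ k F (tk v) := by
      rw [TW.rid_tk, show (fun x : {x // x ≠ s} => v' x.1) = v from funext fun x => dif_neg x.2,
        show v' s = 1 from dif_pos rfl]
      rfl
    have hc : Commute (tk v') (xel s r hrs i y) := by
      refine Commute.of_map (rid s).injective ?_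
      rw [hrid, rid_xel]
      refine Units.ext ?_
      rw [Units.val_mul, Units.val_mul, elHom_val, inl_val]
      have e : Commute (tk v) (rt (⟨r, hrs⟩ : {x // x ≠ s}) y) := by
        rw [TW.rt_eq]
        refine Commute.map (funext fun x => ?_) tk
        rcases eq_or_ne x ⟨r, hrs⟩ with rfl | hx
        · simp [hvr]
        · simp [hx]
      simp only [el, rgt, add_mul, mul_add, ← Matrix.mul_kronecker_mul, one_mul, mul_one, ← Units.val_mul, e.eq]
    have hb := congrArg Units.val (((commute_second hM h hF (TW.tk_mem v') (tk_om h2 hv') hc).map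
      (rid s).toMonoidHom).eq)
    simp only [MulEquiv.coe_toMonoidHom, hrid, Units.val_mul] at hb
    refine Units.ext (kron_inj ?_ (cq_ne (F := F) j))
    rw [Units.val_mul, Units.val_mul]
    have e1 := congrArg (· * rgt ({x // x ≠ s} → Fin k) (cq F j)) hb
    simp only [mul_assoc, hAe, (inl_commute_rgt (tk v) (cq F j)).eq] at e1
    rw [← mul_assoc (rid s B₀ : Mx {x // x ≠ s} k F), hAe, inl_val, ← Matrix.mul_kronecker_mul,
      ← Matrix.mul_kronecker_mul, one_mul, mul_one] at e1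
    exact e1.symm
  have key : ∀ (Q : GL (Fin k) F) (ε : F), ε ≠ 0 →
      (rt (⟨r, hrs⟩ : {x // x ≠ s}) P : Matrix ({x // x ≠ s} → Fin k) ({x // x ≠ s} → Fin k) F) =
        ε • (rt (⟨r, hrs⟩ : {x // x ≠ s}) Q : Matrix ({x // x ≠ s} → Fin k) ({x // x ≠ s} → Fin k) F) →
      Part M a b c s r hrs j (xel s r hrs i y) Q := by
    intro Q ε hε hεQ B C hF'
    obtain ⟨⟨μ, hμ⟩, -⟩ := hF.uniq hM h hF' (lam := 1) (one_smul _ _).symm
    have hμ0 : μ ≠ 0 := fun h0 => by
      haveI : Nonempty (T → Fin k) := ⟨fun _ => ⟨0, hM.hyp.odd.pos⟩⟩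
      exact B.ne_zero (by rw [hμ, h0, zero_smul])
    refine ⟨μ * ε, mul_ne_zero hμ0 hε, ?_⟩
    have : (rid s B : Mx {x // x ≠ s} k F) = μ • (rid s B₀ : Mx {x // x ≠ s} k F) := by
      rw [TW.rid_val, TW.rid_val, hμ, Matrix.submatrix_smul]
      rfl
    rw [this, smul_mul_assoc, hAe, hεQ, Matrix.smul_kronecker, smul_smul]
  rcases det_orth h2 hP with hd | hd
  · exact ⟨P, ⟨hP, hd⟩, key P 1 one_ne_zero (one_smul _ _).symm⟩
  · refine ⟨-P, ⟨neg_mem_orth h2 hP, ?_⟩, key (-P) (-1) (neg_ne_zero.2 one_ne_zero) ?_⟩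
    · rw [Units.val_neg, Matrix.det_neg, hd, Fintype.card_fin, hM.hyp.odd.neg_one_pow]; ring
    · rw [rt_neg, smul_smul, neg_one_mul, neg_neg, one_smul]

end Cfsg.Agent.MaxCl.TOrth
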