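/-
An element diagonal in an orthonormal frame is pure.
-/
import Cfsg.Agent.Lib.MaxCl.TOrthFrame

set_option autoImplicit false
set_option linter.unusedSectionVars false

namespace Cfsg.Agent.MaxCl.TOrth

open Matrix
open TW (tk pm pg rt rid spl sl Wr)
open scoped MatrixGroups Kronecker

variable {F : Type*} [Field F] {T : Type} [Fintype T] [DecidableEq T] [Finite F]

/-- parts multiply in commutators -/
theorem part_comm {β : Type} [Fintype β] [DecidableEq β] {k : ℕ} {σ : Matrix (Fin k) (Fin k) F} (hσ : σ * σ = σ)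
    {B B' : GL (β × Fin k) F} {A A' : GL β F} {l l' : F} (hl : l ≠ 0) (hl' : l' ≠ 0)
    (hB : (B : Matrix (β × Fin k) (β × Fin k) F) * rgt β σ = l • ((A : Matrix β β F) ⊗ₖ σ))
    (hB' : (B' : Matrix (β × Fin k) (β × Fin k) F) * rgt β σ = l' • ((A' : Matrix β β F) ⊗ₖ σ)) :
    ((B * B' * B⁻¹ * B'⁻¹ : GL (β × Fin k) F) : Matrix (β × Fin k) (β × Fin k) F) * rgt β σ =
      ((A * A' * A⁻¹ * A'⁻¹ : GL β F) : Matrix β β F) ⊗ₖ σ := by
  have hq : ∀ X : Matrix β β F, X ⊗ₖ σ = rgt β σ * (X ⊗ₖ σ) := fun X => by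
    rw [rgt, ← Matrix.mul_kronecker_mul, one_mul, hσ]
  have hmul : ∀ (P Q : GL (β × Fin k) F) (U V : GL β F) (u v : F),
      (P : Matrix (β × Fin k) (β × Fin k) F) * rgt β σ = u • ((U : Matrix β β F) ⊗ₖ σ) →
      (Q : Matrix (β × Fin k) (β × Fin k) F) * rgt β σ = v • ((V : Matrix β β F) ⊗ₖ σ) →
      ((P * Q : GL (β × Fin k) F) : Matrix (β × Fin k) (β × Fin k) F) * rgt β σ =
        (u * v) • (((U * V : GL β F) : Matrix β β F) ⊗ₖ σ) := by
    intro P Q U V u v hP hQ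
    rw [Units.val_mul, mul_assoc, hQ, mul_smul_comm, hq, ← mul_assoc, hP, smul_mul_assoc, ← Matrix.mul_kronecker_mul,
      hσ, smul_smul, ← Units.val_mul, mul_comm v u]
  have hinv : ∀ (P : GL (β × Fin k) F) (U : GL β F) (u : F), u ≠ 0 →
      (P : Matrix (β × Fin k) (β × Fin k) F) * rgt β σ = u • ((U : Matrix β β F) ⊗ₖ σ) →
      ((P⁻¹ : GL (β × Fin k) F) : Matrix (β × Fin k) (β × Fin k) F) * rgt β σ =
        u⁻¹ • (((U⁻¹ : GL β F) : Matrix β β F) ⊗ₖ σ) := by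
    intro P U u hu hP
    have e := congrArg (fun m => ((P⁻¹ : GL (β × Fin k) F) : Matrix (β × Fin k) (β × Fin k) F) * m *
      (u⁻¹ • (((U⁻¹ : GL β F) : Matrix β β F) ⊗ₖ σ))) hP
    simp only [← mul_assoc, ← Units.val_mul, inv_mul_cancel, Units.val_one, one_mul] at e
    rw [mul_smul_comm, ← hq] at e
    rw [e]
    simp only [mul_smul_comm, smul_mul_assoc, smul_smul, mul_assoc, ← Matrix.mul_kronecker_mul, ← Units.val_mul,
      mul_inv_cancel, Units.val_one, hσ, inv_mul_cancel₀ hu, mul_inv_cancel₀ hu, one_smul]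
  have := hmul _ _ _ _ _ _ (hmul _ _ _ _ _ _ (hmul _ _ _ _ _ _ hB hB') (hinv _ _ _ hl hB)) (hinv _ _ _ hl' hB')
  rw [this, show l * l' * l⁻¹ * l'⁻¹ = 1 by field_simp, one_smul]

variable {M : Subgroup (GL ((T → Fin 3) × Fin 3) F)} (hM : Ctx T 3 F M) (hNL : NoLeft M) {a b c : Fin 3 → F}
  (h : Tri a b c)
include hM hNL h

/-- with two slots, not everything is diagonal -/
theorem frame_false {s r : T} (hrs : r ≠ s)
    (hall : ∀ X ∈ Om (T → Fin 3) F, ∃ B C, Fr M a b c X B C) : False := by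
  classical
  have h2 := hM.hyp.h2
  set r' : {x // x ≠ s} := ⟨r, hrs⟩
  have hex : ∀ i, ∀ y ∈ Om (Fin 3) F, ∃ B C, Fr M a b c (xel s r hrs i y) B C := fun i y hy =>
    hall _ (xel_om hM h hrs i hy)
  have hpart : ∀ i j, ∀ y : ↥(Om (Fin 3) F), ∃ P, SO P ∧
      Part M a b c s r hrs j (xel s r hrs i (y : GL (Fin 3) F)) P := fun i j y => by
    obtain ⟨B, C, hF⟩ := hex i y y.2
    exact part_exists hM h hrs i j hF
  choose P hPso hP using hpart
  have huniq : ∀ i j (y : ↥(Om (Fin 3) F)) (Q : GL (Fin 3) F), SO Q →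
      Part M a b c s r hrs j (xel s r hrs i (y : GL (Fin 3) F)) Q → P i j y = Q := fun i j y Q hQ hQP =>
    part_unique hM h hrs (hP i j y) hQP (hPso i j y) hQ (hex i y y.2)
  -- homomorphisms
  let ψ : ∀ i j : Fin 3, ↥(Om (Fin 3) F) →* GL (Fin 3) F := fun i j => MonoidHom.mk' (P i j) fun y z =>
    huniq i j (y * z) _ ((hPso i j y).mul (hPso i j z)) (by
      rw [Subgroup.coe_mul, map_mul]
      exact part_mul hM h hrs (hP i j y) (hP i j z) (hex i y y.2) (hex i z z.2))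
  have hψ : ∀ i j, (∀ y, ψ i j y = 1) ∨ ∀ y, ψ i j y = y := by
    intro i j
    refine equiv_hom hM.hyp (ψ i j) (hPso i j) fun u y => huniq i j (u * y * u⁻¹) _
      (((so_of_om h2 u.2).mul (hPso i j y)).mul (so_of_om h2 u.2).inv) ?_
    intro B C hF
    obtain ⟨B₀, C₀, hF₀⟩ := hex i y y.2
    obtain ⟨l, hl, e⟩ := hP i j y B₀ C₀ hF₀
    have hd := Fr.diag hM h (TW.rt_mem r (u : GL (Fin 3) F)) (rt_om h2 r u.2)
    have hX : xel s r hrs i (((u * y * u⁻¹ : ↥(Om (Fin 3) F)) : GL (Fin 3) F)) =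
        rt r (u : GL (Fin 3) F) * xel s r hrs i (y : GL (Fin 3) F) * (rt r (u : GL (Fin 3) F))⁻¹ := by
      refine (rid s).injective ?_
      rw [map_mul, map_mul, map_inv, rid_rt_ne hrs, rid_xel, rid_xel, el_conj_inl]
      rfl
    obtain ⟨⟨μ, hμ⟩, -⟩ := ((hd.mul hM h hF₀).mul hM h (hd.inv hM h)).uniq hM h hF (lam := 1)
      (by rw [hX, one_smul])
    have hμ0 : μ ≠ 0 := fun h0 => by
      haveI : Nonempty (T → Fin 3) := ⟨fun _ => 0⟩
      exact B.ne_zero (by rw [hμ, h0, zero_smul])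
    refine ⟨μ * l, mul_ne_zero hμ0 hl, ?_⟩
    have hBv : (rid s B : Mx {x // x ≠ s} 3 F) = μ • ((inl _ 3 F (rt r' (u : GL (Fin 3) F)) * rid s B₀ *
        (inl _ 3 F (rt r' (u : GL (Fin 3) F)))⁻¹ : GL (({x // x ≠ s} → Fin 3) × Fin 3) F) :
          Mx {x // x ≠ s} 3 F) := by
      rw [← rid_rt_ne hrs, ← map_inv, ← map_mul, ← map_mul, TW.rid_val, TW.rid_val, hμ, Matrix.submatrix_smul]
      rfl
    rw [hBv, smul_mul_assoc, Units.val_mul, Units.val_mul, mul_assoc, ← map_inv, (inl_commute_rgt _ _).eq, ← mul_assoc,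
      mul_assoc (inl _ 3 F (rt r' (u : GL (Fin 3) F)) : Mx {x // x ≠ s} 3 F), e, mul_smul_comm, smul_mul_assoc,
      inl_val, inl_val, ← Matrix.mul_kronecker_mul, ← Matrix.mul_kronecker_mul, one_mul, mul_one, smul_smul,
      ← Units.val_mul, ← Units.val_mul, ← map_inv, ← map_mul, ← map_mul]
    rfl
  let bb : Fin 3 → Fin 3 → Bool := fun i j => decide (∀ y, ψ i j y = y)
  have hPb : ∀ i j (y : ↥(Om (Fin 3) F)), P i j y = if bb i j then (y : GL (Fin 3) F) else 1 := by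
    intro i j y
    by_cases hy : ∀ y, ψ i j y = y
    · simp only [bb, decide_eq_true hy, if_true]; exact hy y
    · simp only [bb, decide_eq_false hy, Bool.false_eq_true, if_false]
      exact (hψ i j).resolve_right hy y
  -- one entry in each column
  obtain ⟨y₁, hy₁, hy₁1, hy₁2⟩ := exists_sq_ne hM.hyp
  have hcol : ∀ j, (bb 0 j = true ∧ bb 1 j = false ∧ bb 2 j = false) ∨
      (bb 0 j = false ∧ bb 1 j = true ∧ bb 2 j = false) ∨ (bb 0 j = false ∧ bb 1 j = false ∧ bb 2 j = true) := by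
    intro j
    have hall' : ∀ i, ∃ B C, Fr M a b c (xel s r hrs i y₁) B C := fun i => hex i y₁ hy₁
    have hX : xel s r hrs 0 y₁ * xel s r hrs 1 y₁ * xel s r hrs 2 y₁ = rt r y₁ := by
      refine (rid s).injective ?_
      rw [map_mul, map_mul, rid_rt_ne hrs, rid_xel, rid_xel, rid_xel, el_prod _ _ _ (cq_mul (by decide)),
        el_prod _ _ _ (by rw [add_mul, cq_mul (by decide), cq_mul (by decide), add_zero]), inl_rt_eq]
      refine Units.ext ?_
      rw [elHom_val, elHom_val]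
      congr 1
      ext p q
      simp only [pj, Matrix.add_apply, Matrix.smul_apply, Matrix.vecMulVec_apply, single_dotProduct,
        Pi.single_eq_same, mul_one, inv_one, smul_eq_mul, one_mul, Pi.single_apply, Matrix.one_apply]
      fin_cases p <;> fin_cases q <;> simp
    have hm01 : ∃ B C, Fr M a b c (xel s r hrs 0 y₁ * xel s r hrs 1 y₁) B C := by
      obtain ⟨B, C, hF⟩ := hall' 0
      obtain ⟨B', C', hF'⟩ := hall' 1
      exact ⟨_, _, hF.mul hM h hF'⟩
    have h3 := part_mul hM h hrs (part_mul hM h hrs (hP 0 j ⟨y₁, hy₁⟩) (hP 1 j ⟨y₁, hy₁⟩) (hall' 0) (hall' 1))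
      (hP 2 j ⟨y₁, hy₁⟩) hm01 (hall' 2)
    rw [hX] at h3
    have hd := Fr.diag hM h (TW.rt_mem r y₁) (rt_om h2 r hy₁)
    have e := part_unique hM h hrs h3 (part_diag hM h hrs hy₁) (((hPso 0 j _).mul (hPso 1 j _)).mul (hPso 2 j _))
      (so_of_om h2 hy₁) ⟨_, _, hd⟩
    rw [hPb, hPb, hPb] at e
    generalize bb 0 j = p₀ at e ⊢
    generalize bb 1 j = p₁ at e ⊢
    generalize bb 2 j = p₂ at e ⊢
    have h11 : y₁ * y₁ ≠ y₁ := fun he => hy₁1 (mul_eq_left.1 he)
    have h111 : y₁ * y₁ * y₁ ≠ y₁ := fun he => hy₁2 (mul_eq_right.1 he)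
    cases p₀ <;> cases p₁ <;> cases p₂ <;>
      simp only [if_true, Bool.false_eq_true, if_false, one_mul, mul_one] at e <;> first
        | exact absurd e.symm hy₁1
        | exact absurd e h11
        | exact absurd e h111
        | simp
  -- the rotation of the lines
  have hrot : ∀ i j, bb (i + 1) (j + 1) = bb i j := by
    have hst : Tri (Pi.single 0 (1 : F) : Fin 3 → F) (Pi.single 1 1) (Pi.single 2 1) := by
      refine ⟨by simp, by simp, by simp, by simp, by simp, by simp, ?_⟩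
      ext p q
      simp only [pj, Matrix.add_apply, Matrix.smul_apply, Matrix.vecMulVec_apply, single_dotProduct,
        Pi.single_eq_same, mul_one, inv_one, smul_eq_mul, one_mul, Pi.single_apply, Matrix.one_apply]
      fin_cases p <;> fin_cases q <;> simp
    obtain ⟨q, hq, q0, q1, q2⟩ := hst.exists_rot h2
    have hqi : ∀ i : Fin 3, act q (Pi.single i (1 : F)) = Pi.single (i + 1) 1 := fun i => by
      fin_cases i
      · exact q0
      · exact q1
      · exact q2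
    have hqq : ∀ i : Fin 3, (q : Matrix (Fin 3) (Fin 3) F) * cq F i * (q : Matrix (Fin 3) (Fin 3) F)ᵀ = cq F (i + 1) :=
      fun i => by rw [cq, conj_pj h2 (om_le_orth hq), hqi]
    intro i j
    obtain ⟨y₀, hy₀, hy₀1⟩ := exists_om_ne_one hM.hyp
    have key : P (i + 1) (j + 1) ⟨y₀, hy₀⟩ = P i j ⟨y₀, hy₀⟩ := by
      refine huniq _ _ _ _ (hPso i j _) ?_
      intro B C hF
      obtain ⟨B₀, C₀, hF₀⟩ := hex i y₀ hy₀
      obtain ⟨l, hl, e⟩ := hP i j ⟨y₀, hy₀⟩ B₀ C₀ hF₀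
      have hd := Fr.diag hM h (TW.rt_mem s q) (rt_om h2 s hq)
      have hX : xel s r hrs (i + 1) y₀ = rt s q * xel s r hrs i y₀ * (rt s q)⁻¹ := by
        refine (rid s).injective ?_
        rw [map_mul, map_mul, map_inv, rid_rt', rid_xel, rid_xel,
          el_conj_inr h2 _ (pr_cq i) (pr_cq (i + 1)) (om_le_orth hq) (hqq i)]
      obtain ⟨⟨μ, hμ⟩, -⟩ := ((hd.mul hM h hF₀).mul hM h (hd.inv hM h)).uniq hM h hF (lam := 1)
        (by rw [hX, one_smul])
      have hμ0 : μ ≠ 0 := fun h0 => by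
        haveI : Nonempty (T → Fin 3) := ⟨fun _ => 0⟩
        exact B.ne_zero (by rw [hμ, h0, zero_smul])
      refine ⟨μ * l, mul_ne_zero hμ0 hl, ?_⟩
      have hBv : (rid s B : Mx {x // x ≠ s} 3 F) = μ • ((inr _ 3 F q * rid s B₀ *
          (inr _ 3 F q)⁻¹ : GL (({x // x ≠ s} → Fin 3) × Fin 3) F) : Mx {x // x ≠ s} 3 F) := by
        rw [← rid_rt', ← map_inv, ← map_mul, ← map_mul, TW.rid_val, TW.rid_val, hμ, Matrix.submatrix_smul]
        rfl
      have hshift : ((q⁻¹ : GL (Fin 3) F) : Matrix (Fin 3) (Fin 3) F) * cq F (j + 1) =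
          cq F j * (q : Matrix (Fin 3) (Fin 3) F)ᵀ := by
        rw [inv_val h2 (om_le_orth hq), ← hqq j, ← mul_assoc, ← mul_assoc, transpose_mul h2 (om_le_orth hq), one_mul]
      have h1 : (inr ({x // x ≠ s} → Fin 3) 3 F q⁻¹ : Mx {x // x ≠ s} 3 F) * rgt _ (cq F (j + 1)) =
          rgt _ (cq F j) * rgt _ (q : Matrix (Fin 3) (Fin 3) F)ᵀ := by rw [inr_eq_rgt, rgt_mul, hshift, rgt_mul]
      rw [hBv, smul_mul_assoc, Units.val_mul, Units.val_mul, ← map_inv, mul_assoc, h1, mul_assoc,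
        ← mul_assoc (rid s B₀ : Mx {x // x ≠ s} 3 F), e, smul_mul_assoc, mul_smul_comm, inr_eq_rgt, rgt, rgt,
        ← Matrix.mul_kronecker_mul, ← Matrix.mul_kronecker_mul, one_mul, mul_one,
        ← mul_assoc (q : Matrix (Fin 3) (Fin 3) F), hqq, smul_smul]
    rw [hPb, hPb] at key
    generalize bb (i + 1) (j + 1) = p at key ⊢
    generalize bb i j = p' at key ⊢
    cases p <;> cases p' <;> simp at key ⊢
    · exact hy₀1 key.symm
    · exact hy₀1 key
  obtain ⟨d, hd⟩ := table bb hrot hcol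
  -- on commutators the second part is a slot element
  have R1 : ∀ i, ∀ y, IsCm y → ∃ C, Fr M a b c (xel s r hrs i y) (xel s r hrs (i + d) y) C := by
    rintro i _ ⟨u, hu, v, hv, rfl⟩
    obtain ⟨B, C, hF⟩ := hex i u hu
    obtain ⟨B', C', hF'⟩ := hex i v hv
    have hF'' := hF.commutator hM h hF'
    rw [← map_inv, ← map_inv, ← map_mul, ← map_mul, ← map_mul] at hF''
    suffices e : B * B' * B⁻¹ * B'⁻¹ = xel s r hrs (i + d) (u * v * u⁻¹ * v⁻¹) from ⟨_, e ▸ hF''⟩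
    refine (rid s).injective (Units.ext ?_)
    rw [rid_xel, elHom_val, map_mul, map_mul, map_mul, map_inv, map_inv]
    have hj : ∀ j, ((rid s B * rid s B' * (rid s B)⁻¹ * (rid s B')⁻¹ : GL (({x // x ≠ s} → Fin 3) × Fin 3) F) :
        Mx {x // x ≠ s} 3 F) * rgt _ (cq F j) = el r' (cq F (i + d)) (u * v * u⁻¹ * v⁻¹) * rgt _ (cq F j) := by
      intro j
      obtain ⟨l, hl, e⟩ := hP i j ⟨u, hu⟩ B C hF
      obtain ⟨l', hl', e'⟩ := hP i j ⟨v, hv⟩ B' C' hF'
      rw [part_comm (pr_cq j).idem hl hl' e e', hPb, hPb, hd]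
      rcases eq_or_ne j (i + d) with rfl | hne
      · simp only [decide_true, if_true]
        rw [el_left _ (pr_cq _), map_mul, map_mul, map_mul, map_inv, map_inv]
      · simp only [decide_eq_false hne, Bool.false_eq_true, if_false, map_one, mul_one, inv_one, Units.val_one]
        rw [el_other _ (cq_mul hne.symm)]
    have hsum : rgt ({x // x ≠ s} → Fin 3) (cq F (0 : Fin 3)) + rgt _ (cq F (1 : Fin 3)) + rgt _ (cq F (2 : Fin 3)) = 1 := by
      rw [← rgt_add, ← rgt_add, ← rgt_one]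
      congr 1
      ext p q
      simp only [pj, Matrix.add_apply, Matrix.smul_apply, Matrix.vecMulVec_apply, single_dotProduct,
        Pi.single_eq_same, mul_one, inv_one, smul_eq_mul, one_mul, Pi.single_apply, Matrix.one_apply]
      fin_cases p <;> fin_cases q <;> simp
    calc _ = ((rid s B * rid s B' * (rid s B)⁻¹ * (rid s B')⁻¹ : GL (({x // x ≠ s} → Fin 3) × Fin 3) F) :
          Mx {x // x ≠ s} 3 F) * (rgt _ (cq F 0) + rgt _ (cq F 1) + rgt _ (cq F 2)) := by rw [hsum, mul_one]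
      _ = el r' (cq F (i + d)) (u * v * u⁻¹ * v⁻¹) * (rgt _ (cq F 0) + rgt _ (cq F 1) + rgt _ (cq F 2)) := by
          rw [mul_add, mul_add, mul_add, mul_add, hj, hj, hj]
      _ = _ := by rw [hsum, mul_one]
  -- the shift is trivial
  have hrid_inj : ∀ {i i' : Fin 3} {y : GL (Fin 3) F}, SO y → y ≠ 1 → i ≠ i' → ∀ μ : F,
      (xel s r hrs i y : Matrix (T → Fin 3) (T → Fin 3) F) ≠
        μ • (xel s r hrs i' y : Matrix (T → Fin 3) (T → Fin 3) F) := by
    intro i i' y hy hy1 hne μ e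
    have e1 : (rid s (xel s r hrs i y) : Mx {x // x ≠ s} 3 F) = μ • (rid s (xel s r hrs i' y) : Mx {x // x ≠ s} 3 F) := by
      rw [TW.rid_val, TW.rid_val, e, Matrix.submatrix_smul]
      rfl
    rw [rid_xel, rid_xel, elHom_val, elHom_val] at e1
    have e2 := congrArg (· * rgt _ (cq F i)) e1
    simp only [smul_mul_assoc, el_left _ (pr_cq _), el_other _ (cq_mul hne.symm)] at e2
    rw [rgt, ← Matrix.smul_kronecker] at e2
    have e3 := kron_inj e2 (cq_ne i)
    exact hy1 (rt_smul_inj hM.hyp r' (P := 1) (P' := y) so_one hy (c := μ) (by rw [map_one, Units.val_one]; exact e3)).symm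
  have hd0 : d = 0 := by
    by_contra hd0
    obtain ⟨y, hy, hy1⟩ := exists_cm_ne_one hM.hyp
    obtain ⟨C, hF⟩ := R1 0 y hy
    obtain ⟨C₂, hF₂⟩ := R1 (0 + d) y hy
    obtain ⟨⟨μ, hμ⟩, -⟩ := hF₂.uniq hM h ((hF.cyc hM h).cyc hM h) (lam := 1) (one_smul _ _).symm
    obtain ⟨w, hw, hswap⟩ := Fr.swap hM h r
    have hF' := hswap hF
    have hwy := hy.conj hw
    have hxw : ∀ i, rt r w * xel s r hrs i y * (rt r w)⁻¹ = xel s r hrs i (w * y * w⁻¹) := fun i => (rid s).injective (by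
      rw [map_mul, map_mul, map_inv, rid_rt_ne hrs, rid_xel, rid_xel, el_conj_inl])
    obtain ⟨C₃, hF₃⟩ := R1 0 _ hwy
    rw [hxw, hxw] at hF'
    obtain ⟨⟨ν, hν⟩, -⟩ := hF₃.uniq hM h hF' (lam := 1) (one_smul _ _).symm
    rw [Units.val_mul, Units.val_mul, hμ, mul_smul_comm, smul_mul_assoc, ← Units.val_mul, ← Units.val_mul, hxw] at hν
    have hμ0 : μ ≠ 0 := fun h0 => by
      haveI : Nonempty (T → Fin 3) := ⟨fun _ => 0⟩
      exact C.ne_zero (by rw [hμ, h0, zero_smul])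
    refine hrid_inj (i := 0 + d + d) (i' := 0 + d) (so_of_om h2 hwy.mem) ?_ ?_ (μ⁻¹ * ν) ?_
    · exact fun e => hy1 (conj_eq_one_iff.1 e)
    · exact fun e => hd0 (add_left_cancel (a := (0 : Fin 3) + d) (b := d) (c := 0) (by rw [add_zero]; exact e))
    · rw [← smul_smul, ← hν, inv_smul_smul₀ hμ0]
  -- a slot element of the left factor
  have hx : ∀ y, IsCm y → ∃ g ∈ M, ∃ C : GL (T → Fin 3) F, (C = xel s r hrs 0 y ∨ C = -xel s r hrs 0 y) ∧
      (g : Mx T 3 F) = tri a b c (xel s r hrs 0 y : Matrix (T → Fin 3) (T → Fin 3) F)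
        (xel s r hrs 0 y : Matrix (T → Fin 3) (T → Fin 3) F) (C : Matrix (T → Fin 3) (T → Fin 3) F) := by
    intro y hy
    obtain ⟨C, hF⟩ := R1 0 y hy
    obtain ⟨C₂, hF₂⟩ := R1 (0 + d) y hy
    obtain ⟨⟨μ, hμ⟩, -⟩ := hF₂.uniq hM h ((hF.cyc hM h).cyc hM h) (lam := 1) (one_smul _ _).symm
    haveI : Nonempty (T → Fin 3) := ⟨fun _ => 0⟩
    have hs := smul_orth h2 (om_le_orth (xel_om hM h hrs (0 + d + d) hy.mem)) (hF.orth hM h).2.2 hμ
    obtain ⟨g, hg, eg⟩ := hF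
    subst hd0
    simp only [add_zero] at eg hμ
    refine ⟨g, hg, C, ?_, eg⟩
    rcases mul_self_eq_one_iff.1 hs with rfl | rfl
    · exact Or.inl (Units.ext (by rw [hμ, one_smul]))
    · exact Or.inr (Units.ext (by rw [hμ, neg_one_smul, Units.val_neg]))
  obtain ⟨y₂, y₃, hy₂, hy₃, hne⟩ := exists_cm_pair hM.hyp
  obtain ⟨g, hg, C, hC, eg⟩ := hx y₂ hy₂
  obtain ⟨g', hg', C', hC', eg'⟩ := hx y₃ hy₃
  have hF : Fr M a b c (xel s r hrs 0 y₂) (xel s r hrs 0 y₂) C := ⟨g, hg, eg⟩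
  have hF' : Fr M a b c (xel s r hrs 0 y₃) (xel s r hrs 0 y₃) C' := ⟨g', hg', eg'⟩
  obtain ⟨g'', hg'', eg''⟩ := hF.commutator hM h hF'
  have hCC : C * C' * C⁻¹ * C'⁻¹ =
      xel s r hrs 0 y₂ * xel s r hrs 0 y₃ * (xel s r hrs 0 y₂)⁻¹ * (xel s r hrs 0 y₃)⁻¹ := by
    rcases hC with rfl | rfl <;> rcases hC' with rfl | rfl <;>
      simp [neg_mul, mul_neg]
  rw [hCC, tri_same h] at eg''
  refine hNL s r hrs (cq F 0) (pr_cq 0) (cq_ne 0) (fun e => ?_) _
    (mul_mem (mul_mem (mul_mem hy₂.mem hy₃.mem) (inv_mem hy₂.mem)) (inv_mem hy₃.mem)) hne ?_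
  · have := congrFun (congrFun e 1) 1
    simp [pj, Matrix.vecMulVec_apply] at this
  · convert hg''
    refine Units.ext ?_
    rw [eg'', inl_val, ← map_inv, ← map_inv, ← map_mul, ← map_mul, ← map_mul]
    rfl

/-- **elements diagonal in a frame are pure** -/
theorem frame_prop {A B C : GL (T → Fin 3) F} (hF : Fr M a b c A B C) :
    ∃ l m : F, (B : Matrix (T → Fin 3) (T → Fin 3) F) = l • (A : Matrix (T → Fin 3) (T → Fin 3) F) ∧
      (C : Matrix (T → Fin 3) (T → Fin 3) F) = m • (A : Matrix (T → Fin 3) (T → Fin 3) F) := by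
  classical
  have h2 := hM.hyp.h2
  have key : ∀ {A B C : GL (T → Fin 3) F}, Fr M a b c A B C → (∀ u, A * tk u * A⁻¹ ∈ Wr T 3 F) →
      ∃ l : F, (B : Matrix (T → Fin 3) (T → Fin 3) F) = l • (A : Matrix (T → Fin 3) (T → Fin 3) F) := by
    intro A B C hF hA
    obtain ⟨hAo, hBo, -⟩ := hF.orth hM h
    obtain ⟨l, hl⟩ := tk_commutant hM.hyp (M := ((A⁻¹ * B : GL (T → Fin 3) F) : Matrix (T → Fin 3) (T → Fin 3) F))
      fun u hu => by
        have hw := TW.tk_mem (F := F) (m := 3) u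
        have ho := tk_om h2 hu
        have hd := Fr.diag hM h hw ho
        have hF' := (hF.mul hM h hd).mul hM h (hF.inv hM h)
        obtain ⟨⟨μ, hμ⟩, -⟩ := (Fr.diag hM h (hA u) (conj_mem_om hAo ho)).uniq hM h hF'
          (lam := 1) (one_smul _ _).symm
        have e := eq_of_smul_om h2 (hM.hyp.card_odd T) (conj_mem_om hAo ho) (conj_mem_om hBo ho) hμ
        show _ = _
        rw [← Units.val_mul, ← Units.val_mul]
        refine congrArg Units.val ?_
        calc A⁻¹ * B * tk u = A⁻¹ * (B * tk u * B⁻¹) * B := by group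
          _ = tk u * (A⁻¹ * B) := by rw [← e]; group
    exact ⟨l, by rw [show B = A * (A⁻¹ * B) by group, Units.val_mul, hl, mul_smul_comm, mul_one]⟩
  let G : Subgroup (GL (T → Fin 3) F) :=
    { carrier := {A | ∃ B C, Fr M a b c A B C}
      one_mem' := ⟨1, 1, Fr.one hM h⟩
      mul_mem' := by
        rintro A A' ⟨B, C, hF⟩ ⟨B', C', hF'⟩
        exact ⟨_, _, hF.mul hM h hF'⟩
      inv_mem' := by
        rintro A ⟨B, C, hF⟩
        exact ⟨_, _, hF.inv hM h⟩ }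
  have hwr : ∀ A ∈ G, ∀ u, A * tk u * A⁻¹ ∈ Wr T 3 F := by
    intro A hA u
    rcases subsingleton_or_nontrivial T with hT | hT
    · rcases isEmpty_or_nonempty T with hT' | hT'
      · rw [show u = 1 from funext fun x => isEmptyElim x, map_one, mul_one, mul_inv_cancel]
        exact one_mem _
      · rw [TW.wr_eq_top]; exact Subgroup.mem_top _
    · rcases hM.max G ⟨fun A hA => by obtain ⟨B, C, hF'⟩ := hA; exact (hF'.orth hM h).1,
        fun A hA => ⟨A, A, Fr.diag hM h hA.1 hA.2⟩⟩ with hle | hom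
      · exact mul_mem (mul_mem (hle hA) (TW.tk_mem u)) (inv_mem (hle hA))
      · obtain ⟨s, r, hsr⟩ := exists_pair_ne T
        exact (frame_false hM hNL h hsr.symm fun X hX => hom hX).elim
  obtain ⟨l, hl⟩ := key hF (hwr A (show A ∈ G from ⟨B, C, hF⟩))
  obtain ⟨l', hl'⟩ := key (hF.cyc hM h) (hwr C (show C ∈ G from ⟨A, B, hF.cyc hM h⟩))
  haveI : Nonempty (T → Fin 3) := ⟨fun _ => 0⟩
  have hl'0 : l' ≠ 0 := fun h0 => A.ne_zero (by rw [hl', h0, zero_smul])
  exact ⟨l, l'⁻¹, hl, by rw [hl', inv_smul_smul₀ hl'0]⟩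

end Cfsg.Agent.MaxCl.TOrth
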