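/-
The elements commuting with a projection of the distinguished slot lie in the wreath product.
-/
import Cfsg.Agent.Lib.MaxCl.TOrthFrameEnd

set_option autoImplicit false
set_option linter.unusedSectionVars false

namespace Cfsg.Agent.MaxCl.TOrth

open Matrix
open TW (tk pm pg rt rid spl sl Wr)
open scoped MatrixGroups Kronecker

variable {F : Type*} [Field F] {k : ℕ} {T : Type} [Fintype T] [DecidableEq T]

/-- split elements -/
def Spl (g : GL ((T → Fin k) × Fin k) F) : Prop :=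
  ∃ A ∈ Orth (T → Fin k) F, ∃ C ∈ Orth (Fin k) F, g = TP.kr (A, C)

theorem spl_of_val (h2 : (2 : F) ≠ 0) [Nonempty (T → Fin k)] {g : GL ((T → Fin k) × Fin k) F}
    (hg : g ∈ Orth ((T → Fin k) × Fin k) F) {A : GL (T → Fin k) F} (hA : A ∈ Orth (T → Fin k) F)
    {D : Matrix (Fin k) (Fin k) F} (e : (g : Mx T k F) = (A : Matrix (T → Fin k) (T → Fin k) F) ⊗ₖ D) : Spl g := by
  have h := transpose_mul h2 hg
  rw [e, ← Matrix.kroneckerMap_transpose, ← Matrix.mul_kronecker_mul, transpose_mul h2 hA, ← rgt_one] at h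
  have hD : Dᵀ * D = 1 := rgt_inj h
  exact ⟨A, hA, ⟨D, Dᵀ, mul_eq_one_comm.1 hD, hD⟩, (mem_orth_iff h2).2 hD, Units.ext e⟩

theorem spl_cancel {a : GL (T → Fin k) F} (ha : a ∈ Orth (T → Fin k) F) {w : GL (Fin k) F}
    (hw : w ∈ Orth (Fin k) F) {g : GL ((T → Fin k) × Fin k) F} (h : Spl (TP.kr (a, w) * g)) : Spl g := by
  obtain ⟨A, hA, C, hC, e⟩ := h
  refine ⟨a⁻¹ * A, mul_mem (inv_mem ha) hA, w⁻¹ * C, mul_mem (inv_mem hw) hC, ?_⟩
  rw [show g = (TP.kr (a, w))⁻¹ * TP.kr (A, C) by rw [← e, inv_mul_cancel_left], ← map_inv, ← map_mul,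
    Prod.inv_mk, Prod.mk_mul_mk]

variable [Finite F] {M : Subgroup (GL ((T → Fin k) × Fin k) F)} (hM : Ctx T k F M)
include hM

theorem dec_two {π : Matrix (Fin k) (Fin k) F} (hπ : Pr π) : Dec π (1 - π) 0 :=
  ⟨hπ, hπ.one_sub, pr_zero, hπ.mul_one_sub, mul_zero _, mul_zero _, by abel⟩

/-- spanned summands go to spanned summands -/
theorem full_transport {a b : Fin k → F} (ha : a ⬝ᵥ a = 1) (hb : b ⬝ᵥ b = 1)
    (hF : Full M (1 - pj a) (pj a)) : Full M (1 - pj b) (pj b) := by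
  have h2 := hM.hyp.h2
  obtain ⟨q, hq, hqa⟩ := exists_om_act h2 hM.hyp.three' (by rw [ha]; exact one_ne_zero) (ha.trans hb.symm)
  have hqo := om_le_orth hq
  set Q := (q : Matrix (Fin k) (Fin k) F)
  have hqt : Q * Qᵀ = 1 := mul_transpose h2 hqo
  have htq : Qᵀ * Q = 1 := transpose_mul h2 hqo
  have e2 : Q * pj a * Qᵀ = pj b := by rw [conj_pj h2 hqo, hqa]
  have e1 : Q * (1 - pj a) * Qᵀ = 1 - pj b := by rw [mul_sub, sub_mul, mul_one, hqt, e2]
  have hconj : ∀ X Y : Matrix (Fin k) (Fin k) F, Q * X * Qᵀ * (Q * Y * Qᵀ) = Q * (X * Y) * Qᵀ := fun X Y => by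
    simp only [mul_assoc, ← mul_assoc Qᵀ Q, htq, one_mul]
  intro Y
  rw [show (1 - pj b) * Y * (1 - pj b) = Q * ((1 - pj a) * (Qᵀ * Y * Q) * (1 - pj a)) * Qᵀ by
    rw [← e1]; simp only [mul_assoc]]
  have := hF (Qᵀ * Y * Q)
  generalize (1 - pj a) * (Qᵀ * Y * Q) * (1 - pj a) = X at this
  induction this using Submodule.span_induction with
  | mem X hX =>
    obtain ⟨u, ⟨huO, huM, hu1, hu2, hu2'⟩, rfl⟩ := hX
    have hv : ((q * u * q⁻¹ : GL (Fin k) F) : Matrix (Fin k) (Fin k) F) = Q * (u : Matrix (Fin k) (Fin k) F) * Qᵀ := by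
      rw [Units.val_mul, Units.val_mul, inv_val h2 hqo]
    refine Submodule.subset_span ⟨q * u * q⁻¹, ⟨mul_mem (mul_mem hqo huO) (inv_mem hqo), ?_, ?_, ?_, ?_⟩, ?_⟩
    · rw [map_mul, map_mul, map_inv]
      exact mul_mem (mul_mem (hM.inr_mem hq) huM) (inv_mem (hM.inr_mem hq))
    · show _ = _
      rw [hv, ← e1, hconj, hconj, hu1.eq]
    · show _ = _
      rw [hv, ← e2, hconj, hconj, hu2.eq]
    · rw [hv, ← e2, hconj]
      rcases hu2' with e | e
      · exact Or.inl (by rw [e])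
      · exact Or.inr (by rw [e, mul_neg, neg_mul])
    · rw [hv, ← e1, hconj]
  | zero => rw [mul_zero, zero_mul]; exact zero_mem _
  | add x y _ _ hx hy => rw [mul_add, add_mul]; exact add_mem hx hy
  | smul c x _ hx => rw [mul_smul_comm, smul_mul_assoc]; exact Submodule.smul_mem _ _ hx

/-- the part on a spanned summand -/
theorem part_full {π : Matrix (Fin k) (Fin k) F} (hπ : Pr π) (hπ1 : π ≠ 1) (hF : Full M π (1 - π))
    {g : GL ((T → Fin k) × Fin k) F} (hg : g ∈ M) (hc : Commute (g : Mx T k F) (rgt _ π)) :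
    ∃ A ∈ Orth (T → Fin k) F, ∃ C : Matrix (Fin k) (Fin k) F,
      (g : Mx T k F) * rgt _ π = (A : Matrix (T → Fin k) (T → Fin k) F) ⊗ₖ C ∧ C * Cᵀ = π ∧ C * π = C := by
  obtain ⟨A, C, hA, e, -, h1, -, h3⟩ := part_of_full hM (dec_two hM hπ) (triv_all hM hπ hπ1) hg hc
    (commute_one_sub hc) (C₃ := 0) (by rw [rgt_zero, mul_zero]) hF
  exact ⟨A, hA, C, e, h1, h3⟩

/-- the part of a commutator with a pure derived element -/
theorem part_commutator {g : GL ((T → Fin k) × Fin k) F} (hg : g ∈ M) {σ C : Matrix (Fin k) (Fin k) F} (hσ : Pr σ)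
    (hc : Commute (g : Mx T k F) (rgt _ σ)) {A : GL (T → Fin k) F} (hA : A ∈ Orth (T → Fin k) F)
    (e : (g : Mx T k F) * rgt _ σ = (A : Matrix (T → Fin k) (T → Fin k) F) ⊗ₖ C) (hC : C * Cᵀ = σ)
    (hCσ : C * σ = C) (x : GL (T → Fin k) F) :
    ((g * inl _ k F x * g⁻¹ * (inl _ k F x)⁻¹ : GL _ F) : Mx T k F) * rgt _ σ =
      ((A * x * A⁻¹ * x⁻¹ : GL (T → Fin k) F) : Matrix (T → Fin k) (T → Fin k) F) ⊗ₖ σ := by
  have h2 := hM.hyp.h2
  set G := (g : Mx T k F)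
  have et : rgt (T → Fin k) σ * Gᵀ = (A : Matrix (T → Fin k) (T → Fin k) F)ᵀ ⊗ₖ Cᵀ := by
    rw [Matrix.kroneckerMap_transpose, ← e, Matrix.transpose_mul, rgt_transpose, hσ.symm]
  have hcT : Gᵀ * rgt _ σ = rgt _ σ * Gᵀ := by
    have := congrArg Matrix.transpose hc.eq
    rw [Matrix.transpose_mul, Matrix.transpose_mul, rgt_transpose, hσ.symm] at this
    exact this.symm
  have hσσ : rgt (T → Fin k) σ = rgt _ σ * rgt _ σ := by rw [rgt_mul, hσ.idem]
  rw [← map_inv, Units.val_mul, Units.val_mul, Units.val_mul, inv_val h2 (hM.le hg), mul_assoc,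
    (inl_commute_rgt x⁻¹ σ).eq, ← mul_assoc, mul_assoc (G * _) Gᵀ, hcT, hσσ, mul_assoc (rgt _ σ), et,
    ← mul_assoc (G * _), mul_assoc G _ (rgt _ σ), (inl_commute_rgt x σ).eq, ← mul_assoc G, e, inl_val, inl_val,
    ← Matrix.mul_kronecker_mul, ← Matrix.mul_kronecker_mul, ← Matrix.mul_kronecker_mul, mul_one, mul_one, hC,
    Units.val_mul, Units.val_mul, Units.val_mul, inv_val h2 hA]

/-- equal commutator parts give a split element -/
theorem join {g : GL ((T → Fin k) × Fin k) F} (hg : g ∈ M) {σ C₁ C₂ : Matrix (Fin k) (Fin k) F}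
    {A₁ A₂ : GL (T → Fin k) F} (hA₁ : A₁ ∈ Orth (T → Fin k) F)
    (e1 : (g : Mx T k F) * rgt _ σ = (A₁ : Matrix (T → Fin k) (T → Fin k) F) ⊗ₖ C₁)
    (e2 : (g : Mx T k F) * rgt _ (1 - σ) = (A₂ : Matrix (T → Fin k) (T → Fin k) F) ⊗ₖ C₂)
    (h : ∀ u : T → GL (Fin k) F, (∀ r, u r ∈ Om (Fin k) F) →
      A₁ * tk u * A₁⁻¹ * (tk u)⁻¹ = A₂ * tk u * A₂⁻¹ * (tk u)⁻¹) : Spl g := by
  haveI : Nonempty (T → Fin k) := ⟨fun _ => ⟨0, hM.hyp.odd.pos⟩⟩
  obtain ⟨l, hl⟩ := tk_commutant hM.hyp (M := ((A₁⁻¹ * A₂ : GL (T → Fin k) F) : Matrix (T → Fin k) (T → Fin k) F))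
    fun u hu => by
      show _ = _
      rw [← Units.val_mul, ← Units.val_mul]
      refine congrArg Units.val ?_
      have := mul_right_cancel (h u hu)
      calc A₁⁻¹ * A₂ * tk u = A₁⁻¹ * (A₂ * tk u * A₂⁻¹) * A₂ := by group
        _ = tk u * (A₁⁻¹ * A₂) := by rw [← this]; group
  refine spl_of_val hM.hyp.h2 (hM.le hg) hA₁ (D := C₁ + l • C₂) ?_
  have hA₂ : (A₂ : Matrix (T → Fin k) (T → Fin k) F) = l • (A₁ : Matrix (T → Fin k) (T → Fin k) F) := by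
    rw [show A₂ = A₁ * (A₁⁻¹ * A₂) by group, Units.val_mul, hl, mul_smul_comm, mul_one]
  rw [Matrix.kronecker_add, Matrix.kronecker_smul, ← Matrix.smul_kronecker, ← hA₂, ← e1, ← e2, ← mul_add, ← rgt_add,
    add_sub_cancel, rgt_one, mul_one]

/-- when all complements of unit vectors are spanned -/
theorem line_full (hall : ∀ b : Fin k → F, b ⬝ᵥ b = 1 → Full M (1 - pj b) (pj b)) {a : Fin k → F} (ha : a ⬝ᵥ a = 1)
    {g : GL ((T → Fin k) × Fin k) F} (hg : g ∈ M) (hc : Commute (g : Mx T k F) (rgt _ (pj a))) : Spl g := by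
  have h2 := hM.hyp.h2
  have ha0 : a ⬝ᵥ a ≠ 0 := by rw [ha]; exact one_ne_zero
  have hσ := pr_pj ha0
  have hσ' := hσ.one_sub
  have hr := rk_one_sub hσ
  rw [rk_pj ha0, Fintype.card_fin] at hr
  have h3 := hM.hyp.three
  have hpne : ∀ {v : Fin k → F}, v ⬝ᵥ v ≠ 0 → (1 : Matrix (Fin k) (Fin k) F) - pj v ≠ 1 := fun {v} hv e => by
    have := rk_pj hv; rw [sub_eq_self.1 e, rk_zero] at this; omega
  obtain ⟨A₁, hA₁, e1⟩ := part_line hM.hyp (hM.hyp.card_odd T) (hM.le hg) ha0 hc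
  obtain ⟨A₂, hA₂, C₂, e2, hC2, hC2'⟩ := part_full hM hσ' (hpne ha0) (by rw [sub_sub_cancel]; exact hall a ha) hg
    (commute_one_sub hc)
  refine join hM hg hA₁ e1 e2 fun u hu => ?_
  have f1 := part_commutator hM hg hσ hc hA₁ e1 (by rw [hσ.symm, hσ.idem]) hσ.idem (tk u)
  have f2 := part_commutator hM hg hσ' (commute_one_sub hc) hA₂ e2 hC2 hC2' (tk u)
  set g' := g * inl _ k F (tk u) * g⁻¹ * (inl _ k F (tk u))⁻¹
  have hg' : g' ∈ M := mul_mem (mul_mem (mul_mem hg (hM.tk_mem hu)) (inv_mem hg)) (inv_mem (hM.tk_mem hu))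
  have hX₁ : A₁ * tk u * A₁⁻¹ * (tk u)⁻¹ ∈ Om (T → Fin k) F := commutator_mem_om hA₁ (om_le_orth (tk_om h2 hu))
  have hX₂ : A₂ * tk u * A₂⁻¹ * (tk u)⁻¹ ∈ Om (T → Fin k) F := commutator_mem_om hA₂ (om_le_orth (tk_om h2 hu))
  set X₁ := A₁ * tk u * A₁⁻¹ * (tk u)⁻¹
  set X₂ := A₂ * tk u * A₂⁻¹ * (tk u)⁻¹
  obtain ⟨b, hb', hb⟩ := exists_value_pr h2 hσ' (by omega) (1 : F)
  have hb0 : b ⬝ᵥ b ≠ 0 := by rw [hb]; exact one_ne_zero
  have hab : pj a * pj b = 0 := by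
    refine pj_mul_pj ?_
    rw [← hb', ← hσ'.dot, Matrix.sub_mulVec, Matrix.one_mulVec, pj_self ha0, sub_self, zero_dotProduct]
  have hba := hσ.swap (pr_pj hb0) hab
  have gv : (g' : Mx T k F) = (X₁ : Matrix (T → Fin k) (T → Fin k) F) ⊗ₖ pj a + (X₂ : Matrix (T → Fin k) (T → Fin k) F) ⊗ₖ (1 - pj a) := by
    rw [← f1, ← f2, ← mul_add, ← rgt_add, add_sub_cancel, rgt_one, mul_one]
  have hcb : Commute (g' : Mx T k F) (rgt _ (pj b)) := by
    show _ = _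
    rw [gv]
    simp only [rgt, add_mul, mul_add, ← Matrix.mul_kronecker_mul, one_mul, mul_one, sub_mul, mul_sub, hab, hba,
      sub_zero]
  obtain ⟨A, -, C, e, -, -⟩ := part_full hM (pr_pj hb0).one_sub (hpne hb0) (by rw [sub_sub_cancel]; exact hall b hb)
    hg' (commute_one_sub hcb)
  haveI : Nonempty (T → Fin k) := ⟨fun _ => ⟨0, hM.hyp.odd.pos⟩⟩
  have ρ := hσ'.sub (pr_pj hb0) (mul_pj hb')
  have hrρ := rk_sub_pj hσ' hb0 hb'
  have hρ0 : (1 : Matrix (Fin k) (Fin k) F) - pj a - pj b ≠ 0 := fun h => by rw [h, rk_zero] at hrρ; omega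
  have ea : (X₁ : Matrix (T → Fin k) (T → Fin k) F) ⊗ₖ pj a = (A : Matrix (T → Fin k) (T → Fin k) F) ⊗ₖ (C * pj a) := by
    rw [← f1, show pj a = (1 - pj b) * pj a by rw [sub_mul, one_mul, hba, sub_zero], ← rgt_mul, ← mul_assoc, e, rgt,
      ← Matrix.mul_kronecker_mul, mul_one, ← show pj a = (1 - pj b) * pj a by rw [sub_mul, one_mul, hba, sub_zero]]
  have er : (X₂ : Matrix (T → Fin k) (T → Fin k) F) ⊗ₖ (1 - pj a - pj b) = (A : Matrix (T → Fin k) (T → Fin k) F) ⊗ₖ (C * (1 - pj a - pj b)) := by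
    have e3 : (1 - pj b) * (1 - pj a - pj b) = 1 - pj a - pj b := by
      simp only [sub_mul, mul_sub, one_mul, mul_one, hba, (pr_pj hb0).idem]; abel
    have e4 : (1 - pj a) * (1 - pj a - pj b) = 1 - pj a - pj b := by
      simp only [sub_mul, mul_sub, one_mul, mul_one, hab, hσ.idem]; abel
    calc (X₂ : Matrix (T → Fin k) (T → Fin k) F) ⊗ₖ (1 - pj a - pj b) = (g' : Mx T k F) * rgt _ (1 - pj a) * rgt _ (1 - pj a - pj b) := by
          rw [f2, rgt, ← Matrix.mul_kronecker_mul, mul_one, e4]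
      _ = (g' : Mx T k F) * rgt _ (1 - pj b) * rgt _ (1 - pj a - pj b) := by
          rw [mul_assoc, mul_assoc, rgt_mul, rgt_mul, e3, e4]
      _ = _ := by rw [e, rgt, ← Matrix.mul_kronecker_mul, mul_one]
  obtain ⟨l, hl, el⟩ := kron_eq ea (fun h => by have := rk_pj ha0; rw [h, rk_zero] at this; omega) X₁.ne_zero
  obtain ⟨m, hm, em⟩ := kron_eq er hρ0 X₂.ne_zero
  exact (eq_of_smul_om h2 (hM.hyp.card_odd T) hX₁ hX₂ (c := m⁻¹ * l) (by
    rw [mul_smul, ← el, em, inv_smul_smul₀ hm]))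

/-- an element commuting with a plane that is not spanned reduces to one fixing a line -/
theorem reduce_plane {π : Matrix (Fin k) (Fin k) F} (hπ : Pr π) (hr : rk π = 2) (hnF : ¬ Full M π (1 - π))
    {g : GL ((T → Fin k) × Fin k) F} (hg : g ∈ M) (hc : Commute (g : Mx T k F) (rgt _ π)) :
    ∃ e, π *ᵥ e = e ∧ e ⬝ᵥ e = 1 ∧
      ((∀ g' ∈ M, Commute (g' : Mx T k F) (rgt _ π) → Commute (g' : Mx T k F) (rgt _ (pj e)) → Spl g') → Spl g) := by
  have h2 := hM.hyp.h2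
  obtain ⟨e, hπe, he⟩ := exists_value_pr h2 hπ (by omega) (1 : F)
  have he0 : e ⬝ᵥ e ≠ 0 := by rw [he]; exact one_ne_zero
  have hπ1 : π ≠ 1 := fun h => by
    rw [h, rk_one, Fintype.card_fin] at hr; have := hM.hyp.three; omega
  refine ⟨e, hπe, he, fun H => ?_⟩
  have hfix := (full_or_fix hM (dec_two hM hπ) hr he hπe).resolve_left hnF
  rcases fix_or_swap hM (dec_two hM hπ) (triv_all hM hπ hπ1) hg hc (commute_one_sub hc) (C₃ := 0)
    (by rw [rgt_zero, mul_zero]) hr he hπe hfix with hce | ⟨f, hπf, hf, hef, hsw⟩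
  · exact H g hg hc hce
  obtain ⟨n, -, w2, -⟩ := rf_swap h2 he hf hef
  have hn : (e - f) ⬝ᵥ (e - f) ≠ 0 := by rw [n]; exact h2
  have hwπ := (suppIn_rf hπ hn (by rw [Matrix.mulVec_sub, hπe, hπf])).2.2
  obtain ⟨a, -, ha, hkM⟩ := hM.comp _ (rf_mem (e - f))
  refine spl_cancel ha (rf_mem (e - f)) (H _ (mul_mem hkM hg) ?_ ?_)
  · rw [Units.val_mul]
    refine Commute.mul_left ?_ hc
    show _ = _
    rw [kr_val, rgt, ← Matrix.mul_kronecker_mul, ← Matrix.mul_kronecker_mul, mul_one, one_mul, hwπ.eq]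
  · show _ = _
    have e3 : (rf (e - f) : Matrix (Fin k) (Fin k) F) * pj f = pj e * (rf (e - f) : Matrix (Fin k) (Fin k) F) := by
      have e4 := conj_pj h2 (rf_mem (e - f)) f
      rw [w2] at e4
      rw [← e4, mul_assoc, transpose_mul h2 (rf_mem _), mul_one]
    rw [Units.val_mul, mul_assoc, hsw, ← mul_assoc, ← mul_assoc, kr_val, rgt, rgt, ← Matrix.mul_kronecker_mul,
      ← Matrix.mul_kronecker_mul, mul_one, one_mul, e3]

variable (hNL : NoLeft M)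
include hNL

/-- commuting with a unit line -/
theorem loc_line {a : Fin k → F} (ha : a ⬝ᵥ a = 1) {g : GL ((T → Fin k) × Fin k) F} (hg : g ∈ M)
    (hc : Commute (g : Mx T k F) (rgt _ (pj a))) : Spl g := by
  classical
  have h2 := hM.hyp.h2
  by_cases hall : ∀ b : Fin k → F, b ⬝ᵥ b = 1 → Full M (1 - pj b) (pj b)
  · exact line_full hM hall ha hg hc
  push Not at hall
  obtain ⟨b, hb, hnb⟩ := hall
  have hna : ¬ Full M (1 - pj a) (pj a) := fun h => hnb (full_transport hM ha hb h)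
  have ha0 : a ⬝ᵥ a ≠ 0 := by rw [ha]; exact one_ne_zero
  have hσ := pr_pj ha0
  have hr := rk_one_sub hσ
  rw [rk_pj ha0, Fintype.card_fin] at hr
  have h3 := hM.hyp.three
  obtain rfl : k = 3 := by
    by_contra hne
    exact hna (full_three hM (dec_two hM hσ).swap (by omega))
  obtain ⟨e, hπe, he, hred⟩ := reduce_plane hM hσ.one_sub (by omega) (by rw [sub_sub_cancel]; exact hna) hg
    (commute_one_sub hc)
  refine hred fun g' hg' hc' hce => ?_
  have hca : Commute (g' : Mx T 3 F) (rgt _ (pj a)) := by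
    have := commute_one_sub hc'
    rwa [sub_sub_cancel] at this
  have he0 : e ⬝ᵥ e ≠ 0 := by rw [he]; exact one_ne_zero
  have hrf := rk_sub_pj hσ.one_sub he0 hπe
  have hρ := hσ.one_sub.sub (pr_pj he0) (mul_pj hπe)
  obtain ⟨f, hf0, hρf, hρe⟩ := eq_pj_of_rk h2 hρ (by omega)
  have hae : a ⬝ᵥ e = 0 := by
    rw [← hπe, ← hσ.one_sub.dot, Matrix.sub_mulVec, Matrix.one_mulVec, pj_self ha0, sub_self, zero_dotProduct]
  have hρa : (1 - pj a - pj e) *ᵥ a = 0 := by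
    rw [Matrix.sub_mulVec, Matrix.sub_mulVec, Matrix.one_mulVec, pj_self ha0, pj_mulVec, dotProduct_comm e a, hae,
      mul_zero, zero_smul, sub_self, sub_zero]
  have hρe' : (1 - pj a - pj e) *ᵥ e = 0 := by
    rw [Matrix.sub_mulVec, hπe, pj_self he0, sub_self]
  have haf : a ⬝ᵥ f = 0 := by rw [← hρf, ← hρ.dot, hρa, zero_dotProduct]
  have hef : e ⬝ᵥ f = 0 := by rw [← hρf, ← hρ.dot, hρe', zero_dotProduct]
  obtain ⟨d, hd⟩ : IsSquare (f ⬝ᵥ f) := by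
    let P : Matrix (Fin 3) (Fin 3) F := Matrix.of ![a, e, f]
    refine ⟨P.det, ?_⟩
    have e1 : (P * Pᵀ) = Matrix.diagonal ![1, 1, f ⬝ᵥ f] := by
      ext i j
      rw [show (P * Pᵀ) i j = (![a, e, f] i) ⬝ᵥ (![a, e, f] j) from rfl]
      fin_cases i <;> fin_cases j <;>
        simp [ha, he, hae, haf, hef, dotProduct_comm e a, dotProduct_comm f a, dotProduct_comm f e]
    have := congrArg Matrix.det e1
    rw [Matrix.det_mul, Matrix.det_transpose, Matrix.det_diagonal, Fin.prod_univ_three] at this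
    simpa using this.symm
  have hd0 : d ≠ 0 := fun h => hf0 (by rw [hd, h, mul_zero])
  have hT : Tri a e (d⁻¹ • f) := by
    refine ⟨ha, he, ?_, hae, by rw [dotProduct_smul, haf, smul_zero], by rw [dotProduct_smul, hef, smul_zero], ?_⟩
    · rw [smul_dotProduct, dotProduct_smul, hd, smul_eq_mul, smul_eq_mul]; field_simp
    · rw [pj_smul (inv_ne_zero hd0), ← hρe]; abel
  have hcf : Commute (g' : Mx T 3 F) (rgt _ (pj (d⁻¹ • f))) := by
    rw [pj_smul (inv_ne_zero hd0), ← hρe, rgt_sub]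
    exact hc'.sub_right hce
  obtain ⟨A, hA, e1⟩ := part_line hM.hyp (hM.hyp.card_odd T) (hM.le hg') ha0 hca
  obtain ⟨B, -, e2⟩ := part_line hM.hyp (hM.hyp.card_odd T) (hM.le hg') he0 hce
  obtain ⟨C, -, e3⟩ := part_line hM.hyp (hM.hyp.card_odd T) (hM.le hg') hT.hc0 hcf
  have hval : (g' : Mx T 3 F) = tri a e (d⁻¹ • f) (A : Matrix (T → Fin 3) (T → Fin 3) F) (B : Matrix (T → Fin 3) (T → Fin 3) F) (C : Matrix (T → Fin 3) (T → Fin 3) F) := by
    rw [tri, ← e1, ← e2, ← e3, ← mul_add, ← mul_add, ← rgt_add, ← rgt_add, hT.sum, rgt_one, mul_one]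
  obtain ⟨l, m, hl, hm⟩ := frame_prop hM hNL hT ⟨g', hg', hval⟩
  haveI : Nonempty (T → Fin 3) := ⟨fun _ => 0⟩
  refine spl_of_val h2 (hM.le hg') hA (D := pj a + l • pj e + m • pj (d⁻¹ • f)) ?_
  rw [hval, tri, hl, hm, Matrix.kronecker_add, Matrix.kronecker_add, Matrix.kronecker_smul, Matrix.kronecker_smul,
    Matrix.smul_kronecker, Matrix.smul_kronecker]

/-- commuting with a proper summand -/
theorem loc_spl {σ : Matrix (Fin k) (Fin k) F} (hσ : Pr σ) (h0 : σ ≠ 0) (h1 : σ ≠ 1)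
    {g : GL ((T → Fin k) × Fin k) F} (hg : g ∈ M) (hc : Commute (g : Mx T k F) (rgt _ σ)) : Spl g := by
  classical
  have h2 := hM.hyp.h2
  have hne : ∀ π : Matrix (Fin k) (Fin k) F, Pr π → π ≠ 0 → π ≠ 1 → Commute (g : Mx T k F) (rgt _ π) →
      Spl g ∨ Full M π (1 - π) := by
    intro π hπ hπ0 hπ1 hcπ
    by_cases hF : Full M π (1 - π)
    · exact Or.inr hF
    refine Or.inl ?_
    have hr : rk π = 2 := by
      by_contra hne
      have h0' : rk π ≠ 0 := fun h => hπ0 (eq_zero_of_rk h)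
      rcases Nat.lt_or_ge (rk π) 2 with hlt | hge
      · exact hF (full_line hM (dec_two hM hπ) (by omega))
      · exact hF (full_three hM (dec_two hM hπ) (by omega))
    obtain ⟨e, -, he, hred⟩ := reduce_plane hM hπ hr hF hg hcπ
    exact hred fun g' hg' _ hce => loc_line hM hNL he hg' hce
  rcases hne σ hσ h0 h1 hc with h | hF1
  · exact h
  rcases hne (1 - σ) hσ.one_sub (sub_ne_zero.2 h1.symm) (fun h => h0 (sub_eq_self.1 h)) (commute_one_sub hc) with h | hF2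
  · exact h
  obtain ⟨A₁, hA₁, C₁, e1, hC1, hC1'⟩ := part_full hM hσ h1 hF1 hg hc
  obtain ⟨A₂, hA₂, C₂, e2, hC2, hC2'⟩ := part_full hM hσ.one_sub (fun h => h0 (sub_eq_self.1 h)) hF2 hg
    (commute_one_sub hc)
  refine join hM hg hA₁ e1 e2 fun u hu => ?_
  have f1 := part_commutator hM hg hσ hc hA₁ e1 hC1 hC1' (tk u)
  have f2 := part_commutator hM hg hσ.one_sub (commute_one_sub hc) hA₂ e2 hC2 hC2' (tk u)
  set g' := g * inl _ k F (tk u) * g⁻¹ * (inl _ k F (tk u))⁻¹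
  have hg' : g' ∈ M := mul_mem (mul_mem (mul_mem hg (hM.tk_mem hu)) (inv_mem hg)) (inv_mem (hM.tk_mem hu))
  have hX₁ : A₁ * tk u * A₁⁻¹ * (tk u)⁻¹ ∈ Om (T → Fin k) F := commutator_mem_om hA₁ (om_le_orth (tk_om h2 hu))
  have hX₂ : A₂ * tk u * A₂⁻¹ * (tk u)⁻¹ ∈ Om (T → Fin k) F := commutator_mem_om hA₂ (om_le_orth (tk_om h2 hu))
  set X₁ := A₁ * tk u * A₁⁻¹ * (tk u)⁻¹
  set X₂ := A₂ * tk u * A₂⁻¹ * (tk u)⁻¹
  have gv : (g' : Mx T k F) = (X₁ : Matrix (T → Fin k) (T → Fin k) F) ⊗ₖ σ + (X₂ : Matrix (T → Fin k) (T → Fin k) F) ⊗ₖ (1 - σ) := by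
    rw [← f1, ← f2, ← mul_add, ← rgt_add, add_sub_cancel, rgt_one, mul_one]
  obtain ⟨e, he, hsp⟩ : ∃ e, e ⬝ᵥ e = 1 ∧ (σ * pj e = pj e ∧ pj e * σ = pj e ∨ σ * pj e = 0 ∧ pj e * σ = 0) := by
    have hr := rk_one_sub hσ
    rw [Fintype.card_fin] at hr
    have h3 := hM.hyp.three
    by_cases h2r : 2 ≤ rk σ
    · obtain ⟨e, hπe, he⟩ := exists_value_pr h2 hσ h2r (1 : F)
      have he0 : e ⬝ᵥ e ≠ 0 := by rw [he]; exact one_ne_zero
      refine ⟨e, he, Or.inl ⟨mul_pj hπe, ?_⟩⟩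
      have := congrArg Matrix.transpose (mul_pj hπe)
      rwa [Matrix.transpose_mul, hσ.symm, (pr_pj he0).symm] at this
    · obtain ⟨e, hπe, he⟩ := exists_value_pr h2 hσ.one_sub (by omega) (1 : F)
      have he0 : e ⬝ᵥ e ≠ 0 := by rw [he]; exact one_ne_zero
      have e' := mul_pj hπe
      rw [sub_mul, one_mul, sub_eq_self] at e'
      exact ⟨e, he, Or.inr ⟨e', hσ.swap (pr_pj he0) e'⟩⟩
  have hce : Commute (g' : Mx T k F) (rgt _ (pj e)) := by
    show _ = _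
    rw [gv]
    rcases hsp with ⟨p1, p2⟩ | ⟨p1, p2⟩ <;>
      simp only [rgt, add_mul, mul_add, ← Matrix.mul_kronecker_mul, one_mul, mul_one, sub_mul, mul_sub, p1, p2]
  obtain ⟨A, -, C, -, eg⟩ := loc_line hM hNL he hg' hce
  have egv : (g' : Mx T k F) = (A : Matrix (T → Fin k) (T → Fin k) F) ⊗ₖ (C : Matrix (Fin k) (Fin k) F) := by rw [eg, kr_val]
  obtain ⟨l, hl, el⟩ := kron_eq (X := (X₁ : Matrix (T → Fin k) (T → Fin k) F)) (Y := (A : Matrix (T → Fin k) (T → Fin k) F)) (σ := σ)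
    (τ := (C : Matrix (Fin k) (Fin k) F) * σ)
    (by rw [← f1, egv, rgt, ← Matrix.mul_kronecker_mul, mul_one]) h0
    (by haveI : Nonempty (T → Fin k) := ⟨fun _ => ⟨0, hM.hyp.odd.pos⟩⟩; exact X₁.ne_zero)
  obtain ⟨m, hm, em⟩ := kron_eq (X := (X₂ : Matrix (T → Fin k) (T → Fin k) F)) (Y := (A : Matrix (T → Fin k) (T → Fin k) F)) (σ := 1 - σ)
    (τ := (C : Matrix (Fin k) (Fin k) F) * (1 - σ))
    (by rw [← f2, egv, rgt, ← Matrix.mul_kronecker_mul, mul_one]) (sub_ne_zero.2 h1.symm)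
    (by haveI : Nonempty (T → Fin k) := ⟨fun _ => ⟨0, hM.hyp.odd.pos⟩⟩; exact X₂.ne_zero)
  exact (eq_of_smul_om h2 (hM.hyp.card_odd T) hX₁ hX₂ (c := m⁻¹ * l) (by
    rw [mul_smul, ← el, em, inv_smul_smul₀ hm]))

/-- **the centralisers of summands of the distinguished slot lie in the wreath product** -/
theorem loc [Nonempty T] {σ : Matrix (Fin k) (Fin k) F} (hσ : Pr σ) (h0 : σ ≠ 0) (h1 : σ ≠ 1)
    {g : GL ((T → Fin k) × Fin k) F} (hg : g ∈ M) (hc : Commute (g : Mx T k F) (rgt _ σ)) :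
    ∃ A ∈ Wr T k F, A ∈ Orth (T → Fin k) F ∧ ∃ C ∈ Orth (Fin k) F, g = TP.kr (A, C) := by
  classical
  have h2 := hM.hyp.h2
  obtain ⟨A, hA, C, hC, rfl⟩ := loc_spl hM hNL hσ h0 h1 hg hc
  refine ⟨A, ?_, hA, C, hC, rfl⟩
  rcases subsingleton_or_nontrivial T with hT | hT
  · rw [TW.wr_eq_top]; exact Subgroup.mem_top _
  let G : Subgroup (GL (T → Fin k) F) :=
    { carrier := {A | A ∈ Orth (T → Fin k) F ∧ ∃ C, TP.kr (A, C) ∈ M}
      one_mem' := ⟨one_mem _, 1, by rw [Prod.mk_one_one, map_one]; exact one_mem _⟩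
      mul_mem' := by
        rintro A A' ⟨ho, C, hC⟩ ⟨ho', C', hC'⟩
        exact ⟨mul_mem ho ho', C * C', by rw [← Prod.mk_mul_mk, map_mul]; exact mul_mem hC hC'⟩
      inv_mem' := by
        rintro A ⟨ho, C, hC⟩
        exact ⟨inv_mem ho, C⁻¹, by rw [← Prod.inv_mk, map_inv]; exact inv_mem hC⟩ }
  rcases hM.max G ⟨fun A h => h.1, fun A h => ⟨om_le_orth h.2, 1, hM.inl_mem h.1 h.2⟩⟩ with hle | hom
  · exact hle ⟨hA, C, hg⟩
  exfalso
  let N : Subgroup (GL (T → Fin k) F) := M.comap (inl _ k F)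
  have h3 : 3 ≤ Fintype.card (T → Fin k) := by
    rw [Fintype.card_fun, Fintype.card_fin]
    exact le_trans hM.hyp.three (Nat.le_self_pow Fintype.card_ne_zero k)
  have hbig : 5 ≤ Fintype.card (T → Fin k) ∨ 5 ≤ Nat.card F := hM.hyp.big.imp_left fun h5 => by
    rw [Fintype.card_fun, Fintype.card_fin]
    exact le_trans h5 (Nat.le_self_pow Fintype.card_ne_zero k)
  obtain ⟨s, r, hsr⟩ := exists_pair_ne T
  obtain ⟨y, hy, hy1⟩ := exists_om_ne_one hM.hyp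
  have hle : Om (T → Fin k) F ≤ N := by
    refine om_le_of_normal h2 (hM.hyp.card_odd T) h3 hbig (fun B hB x hx _ => ?_) (x := rt r y)
      (hM.inl_mem (TW.rt_mem r y) (rt_om h2 r hy)) (rt_om h2 r hy) (fun e => hy1 ?_)
    · obtain ⟨-, D, hD⟩ := hom hB
      rw [Subgroup.mem_comap] at hx ⊢
      have e : inl _ k F (B * x * B⁻¹) = TP.kr (B, D) * inl _ k F x * (TP.kr (B, D))⁻¹ := by
        show TP.kr (B * x * B⁻¹, (1 : GL (Fin k) F)) = TP.kr (B, D) * TP.kr (x, (1 : GL (Fin k) F)) * (TP.kr (B, D))⁻¹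
        rw [← map_inv, ← map_mul, ← map_mul, Prod.inv_mk, Prod.mk_mul_mk, Prod.mk_mul_mk, mul_one, mul_inv_cancel]
      rw [e]
      exact mul_mem (mul_mem hD hx) (inv_mem hD)
    · exact (rt_smul_inj hM.hyp r so_one (so_of_om h2 hy) (c := 1) (by rw [e, map_one, one_smul])).symm
  let i : Fin k := ⟨0, hM.hyp.odd.pos⟩
  refine hNL s r hsr.symm (cq F i) (pr_cq i) (cq_ne i) (fun e => ?_) y hy hy1 (hle ?_)
  · have := rk_pj (single_ne (F := F) i)
    rw [show pj (Pi.single i (1 : F)) = cq F i from rfl, e, rk_one, Fintype.card_fin] at this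
    have := hM.hyp.three
    omega
  · rw [← rid_om_iff h2 s, MulEquiv.apply_symm_apply]
    exact el_om h2 _ (pr_cq i) hy

end Cfsg.Agent.MaxCl.TOrth
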