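/-
Ranks of fixed spaces of involutions of tensor products, and the involutions of least fixed space in the wreath
product.
-/
import Cfsg.Agent.Lib.MaxCl.TOrthLoc

set_option autoImplicit false
set_option linter.unusedSectionVars false

namespace Cfsg.Agent.MaxCl.TOrth

open Matrix
open TW (tk pm pg rt rid spl sl Wr)
open scoped MatrixGroups Kronecker

variable {F : Type*} [Field F] {k : ℕ}

section Rank

variable {ι β : Type} [Fintype ι] [DecidableEq ι] [Fintype β] [DecidableEq β]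

/-- an idempotent factors through its rank -/
theorem exists_factor {E : Matrix ι ι F} (h : E * E = E) :
    ∃ (A : Matrix ι (Fin (rk E)) F) (B : Matrix (Fin (rk E)) ι F), E = A * B ∧ B * A = 1 := by
  let b : Module.Basis (Fin (rk E)) F (LinearMap.range E.mulVecLin) := Module.finBasis F _
  let f : (ι → F) →ₗ[F] (Fin (rk E) → F) := b.equivFun.toLinearMap ∘ₗ E.mulVecLin.rangeRestrict
  refine ⟨Matrix.of fun i j => (b j : ι → F) i, LinearMap.toMatrix' f, ?_, ?_⟩
  · refine Matrix.ext_iff_mulVec.2 fun x => ?_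
    rw [← Matrix.mulVec_mulVec, LinearMap.toMatrix'_mulVec]
    funext i
    have e := congrArg (fun v : LinearMap.range E.mulVecLin => (v : ι → F) i)
      (b.sum_equivFun (E.mulVecLin.rangeRestrict x))
    simp only [AddSubmonoidClass.coe_finset_sum, SetLike.val_smul, Finset.sum_apply, Pi.smul_apply,
      smul_eq_mul] at e
    rw [show (E *ᵥ x) i = _ from e.symm]
    simp only [Matrix.mulVec, dotProduct, Matrix.of_apply]
    exact Finset.sum_congr rfl fun j _ => mul_comm _ _
  · refine Matrix.ext_iff_mulVec.2 fun x => ?_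
    rw [← Matrix.mulVec_mulVec, LinearMap.toMatrix'_mulVec, Matrix.one_mulVec]
    set v : LinearMap.range E.mulVecLin := b.equivFun.symm x
    have hv : (Matrix.of fun i j => (b j : ι → F) i) *ᵥ x = (v : ι → F) := by
      funext i
      simp only [v, Module.Basis.equivFun_symm_apply, AddSubmonoidClass.coe_finset_sum, SetLike.val_smul,
        Finset.sum_apply, Pi.smul_apply, smul_eq_mul, Matrix.mulVec, dotProduct, Matrix.of_apply]
      exact Finset.sum_congr rfl fun j _ => mul_comm _ _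
    have hr : E.mulVecLin.rangeRestrict (v : ι → F) = v := by
      refine Subtype.ext ?_
      obtain ⟨y, hy⟩ := v.2
      rw [LinearMap.rangeRestrict, LinearMap.codRestrict_apply, ← hy, Matrix.mulVecLin_apply,
        Matrix.mulVecLin_apply, Matrix.mulVec_mulVec, h]
    show b.equivFun (E.mulVecLin.rangeRestrict _) = x
    rw [hv, hr, LinearEquiv.apply_symm_apply]

theorem factor_mul {m : Type} [Fintype m] [DecidableEq m] {E : Matrix ι ι F} {A : Matrix ι m F} {B : Matrix m ι F}
    (hAB : E = A * B) (hBA : B * A = 1) : E * A = A ∧ B * E = B := by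
  constructor
  · rw [hAB, Matrix.mul_assoc, hBA, Matrix.mul_one]
  · rw [hAB, ← Matrix.mul_assoc, hBA, Matrix.one_mul]

theorem rk_kron {Q : Matrix β β F} {P : Matrix (Fin k) (Fin k) F} (hQ : Q * Q = Q) (hP : P * P = P) :
    rk (Q ⊗ₖ P) = rk Q * rk P := by
  obtain ⟨A, B, hAB, hBA⟩ := exists_factor hQ
  obtain ⟨A', B', hAB', hBA'⟩ := exists_factor hP
  have e : Q ⊗ₖ P = (A ⊗ₖ A') * (B ⊗ₖ B') := by rw [← Matrix.mul_kronecker_mul, ← hAB, ← hAB']
  have e1 : (B ⊗ₖ B') * (A ⊗ₖ A') = 1 := by rw [← Matrix.mul_kronecker_mul, hBA, hBA', Matrix.one_kronecker_one]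
  have hc : Fintype.card (Fin (rk Q) × Fin (rk P)) = rk Q * rk P := by
    rw [Fintype.card_prod, Fintype.card_fin, Fintype.card_fin]
  refine le_antisymm ?_ ?_
  · show Matrix.rank (Q ⊗ₖ P) ≤ _
    rw [e, ← hc]
    exact (Matrix.rank_mul_le_left _ _).trans (Matrix.rank_le_card_width _)
  · show _ ≤ Matrix.rank (Q ⊗ₖ P)
    have : Matrix.rank ((B ⊗ₖ B') * (Q ⊗ₖ P) * (A ⊗ₖ A')) = rk Q * rk P := by
      rw [e, ← Matrix.mul_assoc, e1, Matrix.one_mul, e1, Matrix.rank_one, hc]
    rw [← this]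
    exact (Matrix.rank_mul_le_left _ _).trans (Matrix.rank_mul_le_right _ _)

/-- half of `1 + y` -/
def hf (y : Matrix ι ι F) : Matrix ι ι F := (2 : F)⁻¹ • (1 + y)

/-- the dimension of the fixed space of an involution -/
noncomputable def fxd (y : GL ι F) : ℕ := rk (hf (y : Matrix ι ι F))

theorem fxd_conj (g y : GL ι F) : fxd (g * y * g⁻¹) = fxd y := by
  have e : hf ((g * y * g⁻¹ : GL ι F) : Matrix ι ι F) =
      (g : Matrix ι ι F) * hf (y : Matrix ι ι F) * ((g⁻¹ : GL ι F) : Matrix ι ι F) := by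
    simp only [hf, mul_smul_comm, smul_mul_assoc, mul_add, add_mul, mul_one, Units.val_mul]
    rw [← Units.val_mul g g⁻¹, mul_inv_cancel, Units.val_one]
  have hunit : ∀ u : GL ι F, IsUnit (u : Matrix ι ι F).det := fun u =>
    (Matrix.isUnit_iff_isUnit_det _).1 u.isUnit
  show Matrix.rank _ = Matrix.rank _
  rw [e, Matrix.rank_mul_eq_left_of_isUnit_det _ _ (hunit _), Matrix.rank_mul_eq_right_of_isUnit_det _ _ (hunit _)]

theorem hf_idem (h2 : (2 : F) ≠ 0) {y : Matrix ι ι F} (hy : y * y = 1) : hf y * hf y = hf y := by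
  rw [hf, smul_mul_smul_comm, add_mul, one_mul, mul_add, mul_one, hy,
    show (1 : Matrix ι ι F) + y + (y + 1) = (2 : F) • (1 + y) by rw [two_smul]; abel, smul_smul]
  congr 1
  field_simp

theorem rk_add' {E E' : Matrix ι ι F} (h : E * E = E) (h' : E' * E' = E') (z : E * E' = 0) (z' : E' * E = 0) :
    rk (E + E') = rk E + rk E' := by
  obtain ⟨A, B, hAB, hBA⟩ := exists_factor h
  obtain ⟨A', B', hAB', hBA'⟩ := exists_factor h'
  obtain ⟨hEA, hBE⟩ := factor_mul hAB hBA
  obtain ⟨hEA', hBE'⟩ := factor_mul hAB' hBA'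
  have z1 : B * A' = 0 := by
    rw [← hBE, ← hEA', Matrix.mul_assoc, ← Matrix.mul_assoc E, z, Matrix.zero_mul, Matrix.mul_zero]
  have z2 : B' * A = 0 := by
    rw [← hBE', ← hEA, Matrix.mul_assoc, ← Matrix.mul_assoc E', z', Matrix.zero_mul, Matrix.mul_zero]
  let L : Matrix ι (Fin (rk E) ⊕ Fin (rk E')) F := Matrix.fromCols A A'
  let R : Matrix (Fin (rk E) ⊕ Fin (rk E')) ι F := Matrix.fromRows B B'
  have hLR : L * R = E + E' := by rw [Matrix.fromCols_mul_fromRows, ← hAB, ← hAB']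
  have hRL : R * L = 1 := by
    rw [Matrix.fromRows_mul_fromCols, hBA, hBA', z1, z2, Matrix.fromBlocks_one]
  refine le_antisymm ?_ ?_
  · show Matrix.rank (E + E') ≤ _
    have := (Matrix.rank_mul_le_left L R).trans (Matrix.rank_le_card_width L)
    rwa [hLR, Fintype.card_sum, Fintype.card_fin, Fintype.card_fin] at this
  · show _ ≤ Matrix.rank (E + E')
    have : Matrix.rank (R * (E + E') * L) = rk E + rk E' := by
      rw [← hLR, ← Matrix.mul_assoc, hRL, Matrix.one_mul, hRL, Matrix.rank_one, Fintype.card_sum, Fintype.card_fin,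
        Fintype.card_fin]
    rw [← this]
    exact (Matrix.rank_mul_le_left _ _).trans (Matrix.rank_mul_le_right _ _)

theorem rk_one_sub' {E : Matrix ι ι F} (h : E * E = E) : rk E + rk (1 - E) = Fintype.card ι := by
  rw [← rk_add' h (by simp [sub_mul, mul_sub, h]) (by rw [mul_sub, mul_one, h, sub_self])
    (by rw [sub_mul, one_mul, h, sub_self]), add_sub_cancel, rk_one]

/-- the fixed space of a tensor product -/
theorem fxd_kr (h2 : (2 : F) ≠ 0) {A : GL β F} {u : GL (Fin k) F} (hA : A * A = 1) (hu : u * u = 1) :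
    fxd (TP.kr (A, u)) = rk (hf (A : Matrix β β F)) * rk (hf (u : Matrix (Fin k) (Fin k) F)) +
      rk (1 - hf (A : Matrix β β F)) * rk (1 - hf (u : Matrix (Fin k) (Fin k) F)) := by
  set Q := hf (A : Matrix β β F) with hQdef
  set P := hf (u : Matrix (Fin k) (Fin k) F) with hPdef
  have hQ : Q * Q = Q := hf_idem h2 (by rw [← Units.val_mul, hA, Units.val_one])
  have hP : P * P = P := hf_idem h2 (by rw [← Units.val_mul, hu, Units.val_one])
  have hQ' : (1 - Q) * (1 - Q) = 1 - Q := by simp [sub_mul, mul_sub, hQ]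
  have hP' : (1 - P) * (1 - P) = 1 - P := by simp [sub_mul, mul_sub, hP]
  have e : hf (TP.kr (A, u) : Matrix (β × Fin k) (β × Fin k) F) = Q ⊗ₖ P + (1 - Q) ⊗ₖ (1 - P) := by
    have a1 : (1 : Matrix β β F) - Q = (2 : F)⁻¹ • (1 - (A : Matrix β β F)) := by
      rw [hQdef, hf, sub_eq_iff_eq_add, ← smul_add, show (1 : Matrix β β F) - A + (1 + A) = (2 : F) • 1 by
        rw [two_smul]; abel, smul_smul, inv_mul_cancel₀ h2, one_smul]
    have b1 : (1 : Matrix (Fin k) (Fin k) F) - P = (2 : F)⁻¹ • (1 - (u : Matrix (Fin k) (Fin k) F)) := by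
      rw [hPdef, hf, sub_eq_iff_eq_add, ← smul_add, show (1 : Matrix (Fin k) (Fin k) F) - u + (1 + u) = (2 : F) • 1 by
        rw [two_smul]; abel, smul_smul, inv_mul_cancel₀ h2, one_smul]
    rw [a1, b1, hQdef, hPdef, hf, hf, hf, kr_val]
    ext ⟨i, a⟩ ⟨j, b⟩
    simp only [Matrix.smul_apply, Matrix.add_apply, Matrix.sub_apply, Matrix.kroneckerMap_apply, Matrix.one_apply,
      smul_eq_mul, Prod.mk.injEq]
    have h4 : (2 : F)⁻¹ * (2⁻¹ * 2) = 2⁻¹ := by field_simp
    split_ifs <;> first | (exfalso; tauto) | linear_combination -(((1 : F) + (A : Matrix β β F) i j * (u : Matrix (Fin k) (Fin k) F) a b)) * h4 | linear_combination -((A : Matrix β β F) i j * (u : Matrix (Fin k) (Fin k) F) a b) * h4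
  show rk (hf (TP.kr (A, u) : Matrix (β × Fin k) (β × Fin k) F)) = _
  rw [e, rk_add' (by rw [← Matrix.mul_kronecker_mul, hQ, hP]) (by rw [← Matrix.mul_kronecker_mul, hQ', hP'])
    (by rw [← Matrix.mul_kronecker_mul, mul_sub, mul_one, hQ, sub_self, Matrix.zero_kronecker])
    (by rw [← Matrix.mul_kronecker_mul, sub_mul, one_mul, hQ, sub_self, Matrix.zero_kronecker]),
    rk_kron hQ hP, rk_kron hQ' hP']

/-- the least fixed space -/
theorem slot_of_fxd [Finite F] [Nonempty β] (hh : Hyp k F) {A : GL β F} {u : GL (Fin k) F} (hA : A * A = 1) (hu : u * u = 1)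
    (hs : SO u) (h1 : u ≠ 1) (hN : fxd (TP.kr (A, u)) = Fintype.card β) :
    A = 1 ∧ ∃ a, a ⬝ᵥ a ≠ 0 ∧ u = zz a := by
  have h2 := hh.h2
  have h3 := hh.three
  set Q := hf (A : Matrix β β F) with hQdef
  set P := hf (u : Matrix (Fin k) (Fin k) F) with hPdef
  have hQ : Q * Q = Q := hf_idem h2 (by rw [← Units.val_mul, hA, Units.val_one])
  have hP : P * P = P := hf_idem h2 (by rw [← Units.val_mul, hu, Units.val_one])
  have hut : (u : Matrix (Fin k) (Fin k) F)ᵀ = u := by
    rw [← inv_val h2 hs.1, inv_eq_of_mul_eq_one_right hu]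
  have hPr : Pr P := ⟨by rw [hPdef, hf, Matrix.transpose_smul, Matrix.transpose_add, Matrix.transpose_one, hut], hP⟩
  have q1 := rk_one_sub' hQ
  have p1 := rk_one_sub' hP
  rw [Fintype.card_fin] at p1
  rw [fxd_kr h2 hA hu, ← hQdef, ← hPdef] at hN
  have uval : (u : Matrix (Fin k) (Fin k) F) = (2 : F) • P - 1 := by
    rw [hPdef, hf, smul_smul, mul_inv_cancel₀ h2, one_smul, add_sub_cancel_left]
  have hp0 : rk P ≠ 0 := fun h => by
    have hd := hs.2
    rw [uval, eq_zero_of_rk h, smul_zero, zero_sub, Matrix.det_neg, Matrix.det_one, mul_one, Fintype.card_fin,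
      hh.odd.neg_one_pow] at hd
    exact h2 (by linear_combination -hd)
  have hm0 : rk (1 - P) ≠ 0 := fun h => h1 (Units.ext (by
    rw [uval, ← sub_eq_zero.1 (eq_zero_of_rk h), two_smul, add_sub_cancel_right, Units.val_one]))
  have hm1 : rk (1 - P) ≠ 1 := fun h => by
    obtain ⟨c, hc, -, hPc⟩ := eq_pj_of_rk h2 hPr.one_sub h
    have hur : u = rf c := Units.ext (by rw [uval, rf_val hc, ← hPc]; module)
    have hd := hs.2
    rw [hur, det_rf h2 hc] at hd
    exact h2 (by linear_combination -hd)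
  have hp : rk P = 1 := by
    by_contra hne
    have e1 : rk Q * 2 ≤ rk Q * rk P := Nat.mul_le_mul_left _ (by omega)
    have e2 : rk (1 - Q) * 2 ≤ rk (1 - Q) * rk (1 - P) := Nat.mul_le_mul_left _ (by omega)
    have := Fintype.card_pos (α := β)
    omega
  have hq : rk (1 - Q) = 0 := by
    by_contra hne
    have e2 : rk (1 - Q) * 2 ≤ rk (1 - Q) * rk (1 - P) := Nat.mul_le_mul_left _ (by omega)
    rw [hp, mul_one] at hN
    omega
  refine ⟨Units.ext ?_, ?_⟩
  · have e : Q = 1 := (sub_eq_zero.1 (eq_zero_of_rk hq)).symm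
    rw [hQdef, hf, inv_smul_eq_iff₀ h2, two_smul] at e
    rw [Units.val_one]
    exact add_left_cancel e
  · obtain ⟨a, ha, -, hPa⟩ := eq_pj_of_rk h2 hPr hp
    exact ⟨a, ha, Units.ext (by rw [uval, zz_val ha, hPa])⟩

end Rank

end Cfsg.Agent.MaxCl.TOrth
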