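/-
Normal forms in the wreath product: uniqueness of the components, conjugation of the components, involutions, and
the involutions with least fixed space.
-/
import Cfsg.Agent.Lib.MaxCl.TOrthRank

set_option autoImplicit false
set_option linter.unusedSectionVars false

namespace Cfsg.Agent.MaxCl.TOrth

open Matrix
open TW (tk pm pg rt rid spl sl Wr)
open scoped MatrixGroups Kronecker

variable {F : Type*} [Field F] {k : ℕ} {S : Type} [Fintype S] [DecidableEq S]

/-- components of determinant one are unique -/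
theorem tk_inj_so (hh : Hyp k F) {u v : S → GL (Fin k) F} (hu : ∀ s, SO (u s)) (hv : ∀ s, SO (v s)) {c : F}
    (h : (tk v : Matrix (S → Fin k) (S → Fin k) F) = c • (tk u : Matrix (S → Fin k) (S → Fin k) F)) : u = v := by
  funext s
  have e : (tk (u⁻¹ * v) : Matrix (S → Fin k) (S → Fin k) F) = c • (1 : Matrix (S → Fin k) (S → Fin k) F) := by
    rw [map_mul, map_inv, Units.val_mul, h, mul_smul_comm, ← Units.val_mul, inv_mul_cancel, Units.val_one]
  haveI : Nonempty (S → Fin k) := ⟨fun _ => ⟨0, hh.odd.pos⟩⟩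
  have hc : c ≠ 0 := fun h0 => (tk (u⁻¹ * v)).ne_zero (by rw [e, h0, zero_smul])
  rw [TW.tk_val] at e
  set f : S → Matrix (Fin k) (Fin k) F := fun r => ((u⁻¹ * v) r : Matrix (Fin k) (Fin k) F)
  have e1 : pm (Function.update f s (c⁻¹ • f s)) = 1 := by
    rw [TW.pm_update_smul, Function.update_eq_self, e, smul_smul, inv_mul_cancel₀ hc, one_smul]
  obtain ⟨d, hd⟩ := pm_eq_one e1 s
  rw [Function.update_self, inv_smul_eq_iff₀ hc, smul_smul] at hd
  refine (so_eq_of_smul hh.odd hh.h2 (hu s) (hv s) (c := c * d) ?_).2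
  have e2 := congrArg ((u s : Matrix (Fin k) (Fin k) F) * ·) hd
  simp only [f, Pi.mul_apply, Pi.inv_apply, Units.val_mul, ← mul_assoc] at e2
  rw [← Units.val_mul, mul_inv_cancel, Units.val_one, one_mul, mul_smul_comm, mul_one] at e2
  exact e2

theorem tk_inj_so' (hh : Hyp k F) {u v : S → GL (Fin k) F} (hu : ∀ s, SO (u s)) (hv : ∀ s, SO (v s))
    (h : tk u = tk v) : u = v :=
  tk_inj_so hh hu hv (c := 1) (by rw [h, one_smul])

theorem so_single (s : S) {w : GL (Fin k) F} (hw : SO w) : ∀ r, SO ((Pi.mulSingle s w : S → GL (Fin k) F) r) := by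
  intro r
  rcases eq_or_ne r s with rfl | hr
  · rwa [Pi.mulSingle_eq_same]
  · rw [Pi.mulSingle_eq_of_ne hr]; exact so_one

theorem so_zz [Finite F] (h2 : (2 : F) ≠ 0) (hk : Odd k) {a : Fin k → F} (ha : a ⬝ᵥ a ≠ 0) : SO (zz a) := by
  refine ⟨neg_mem_orth h2 (rf_mem a), ?_⟩
  rw [zz, Units.val_neg, Matrix.det_neg, det_rf h2 ha, Fintype.card_fin, hk.neg_one_pow]
  ring

theorem zz_ne_one [Finite F] (hh : Hyp k F) {a : Fin k → F} (ha : a ⬝ᵥ a ≠ 0) : zz a ≠ (1 : GL (Fin k) F) := by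
  intro e
  have e' := congrArg (fun g : GL (Fin k) F => (g : Matrix (Fin k) (Fin k) F)) e
  simp only [zz_val ha, Units.val_one] at e'
  have h1 : pj a = 1 := by
    refine smul_right_injective (Matrix (Fin k) (Fin k) F) hh.h2 ?_
    show (2 : F) • pj a = (2 : F) • 1
    rw [sub_eq_iff_eq_add.1 e', two_smul]
  have := rk_pj ha
  rw [h1, rk_one, Fintype.card_fin] at this
  have := hh.three
  omega

theorem rt_eq_rt [Finite F] (hh : Hyp k F) {s r : S} {w v : GL (Fin k) F} (hw : SO w) (hv : SO v) (h1 : w ≠ 1)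
    (h : rt s w = rt r v) : s = r ∧ w = v := by
  rw [TW.rt_eq, TW.rt_eq] at h
  have e := tk_inj_so' hh (so_single s hw) (so_single r hv) h
  have e1 := congrFun e s
  rw [Pi.mulSingle_eq_same] at e1
  rcases eq_or_ne s r with rfl | hsr
  · exact ⟨rfl, by rwa [Pi.mulSingle_eq_same] at e1⟩
  · rw [Pi.mulSingle_eq_of_ne hsr] at e1
    exact absurd e1 h1

theorem rt_commute {s r : S} (h : s ≠ r) (u v : GL (Fin k) F) : Commute (rt s u) (rt r v) := by
  rw [TW.rt_eq, TW.rt_eq]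
  refine Commute.map (funext fun x => ?_) tk
  rcases eq_or_ne x s with rfl | hx
  · simp [h]
  · simp [hx]

theorem rt_ne_one [Finite F] (hh : Hyp k F) (s : S) {w : GL (Fin k) F} (hw : SO w) (h1 : w ≠ 1) : rt s w ≠ 1 :=
  fun e => h1 (rt_eq_rt hh hw so_one h1 (e.trans (map_one (rt (F := F) s)).symm)).2

/-- conjugation by an element in normal form -/
theorem wr_conj {h : GL (S → Fin k) F} {σ : Equiv.Perm S} {u : S → GL (Fin k) F} {ε : F}
    (he : ε * ε = 1)
    (hv : (h : Matrix (S → Fin k) (S → Fin k) F) =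
      ε • ((pg σ * tk u : GL (S → Fin k) F) : Matrix (S → Fin k) (S → Fin k) F)) (f : S → GL (Fin k) F) :
    h * tk f * h⁻¹ = tk fun s => u (σ.symm s) * f (σ.symm s) * (u (σ.symm s))⁻¹ := by
  have hε : ε ≠ 0 := fun h0 => by rw [h0, mul_zero] at he; exact zero_ne_one he
  have e : h * tk f * h⁻¹ = pg σ * tk u * tk f * (pg σ * tk u)⁻¹ := by
    rw [mul_inv_eq_iff_eq_mul]
    refine Units.ext ?_
    simp only [Units.val_mul, hv, smul_mul_assoc, mul_smul_comm]
    congr 1
    rw [← Units.val_mul (pg σ) (tk u), ← Units.val_mul (pg σ * tk u) (tk f),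
      ← Units.val_mul _ (pg σ * tk u)⁻¹, ← Units.val_mul, inv_mul_cancel_right]
  rw [e, _root_.mul_inv_rev, ← mul_assoc, mul_assoc (pg σ), mul_assoc (pg σ), ← map_inv, ← map_mul, ← map_mul,
    TW.pg_conj]
  rfl

theorem exists_conj_form (hh : Hyp k F) {h : GL (S → Fin k) F} (hw : h ∈ Wr S k F)
    (hO : h ∈ Orth (S → Fin k) F) : ∃ (σ : Equiv.Perm S) (u : S → GL (Fin k) F), (∀ s, SO (u s)) ∧
      ∀ f : S → GL (Fin k) F, h * tk f * h⁻¹ = tk fun s => u (σ.symm s) * f (σ.symm s) * (u (σ.symm s))⁻¹ := by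
  obtain ⟨σ, u, ε, hε, hu, hv⟩ := norm_form hh hw hO
  exact ⟨σ, u, hu, wr_conj (by rcases hε with rfl | rfl <;> ring) hv⟩

theorem rt_conj_form {σ : Equiv.Perm S} {u : S → GL (Fin k) F} {h : GL (S → Fin k) F}
    (hc : ∀ f : S → GL (Fin k) F, h * tk f * h⁻¹ = tk fun s => u (σ.symm s) * f (σ.symm s) * (u (σ.symm s))⁻¹)
    (s : S) (w : GL (Fin k) F) : h * rt s w * h⁻¹ = rt (σ s) (u s * w * (u s)⁻¹) := by
  rw [TW.rt_eq, hc, TW.rt_eq]
  refine congrArg tk (funext fun r => ?_)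
  rcases eq_or_ne r (σ s) with rfl | hr
  · simp
  · rw [Pi.mulSingle_eq_of_ne hr, Pi.mulSingle_eq_of_ne fun e => hr (by rw [← e, Equiv.apply_symm_apply])]
    simp

/-- involutions in normal form -/
theorem invol_form (hh : Hyp k F) {y : GL (S → Fin k) F} (hyy : y * y = 1) {σ : Equiv.Perm S}
    {u : S → GL (Fin k) F} {ε : F} (hε : ε * ε = 1) (hu : ∀ s, SO (u s))
    (hv : (y : Matrix (S → Fin k) (S → Fin k) F) =
      ε • ((pg σ * tk u : GL (S → Fin k) F) : Matrix (S → Fin k) (S → Fin k) F)) :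
    σ * σ = 1 ∧ ∀ r, u (σ r) * u r = 1 := by
  have e : pg σ * tk u * (pg σ * tk u) = pg (σ * σ) * tk ((fun s => u (σ s)) * u) := by
    rw [TW.pg_mul, map_mul, mul_assoc, ← mul_assoc (tk u), TW.tk_pg]
    simp only [mul_assoc]
  have h1 : pg (σ * σ) * tk ((fun s => u (σ s)) * u) = pg (1 : Equiv.Perm S) * tk 1 := by
    rw [← e, TW.pg_one, map_one, one_mul]
    refine Units.ext ?_
    have := congrArg Units.val hyy
    rw [Units.val_mul, hv, smul_mul_smul_comm, hε, one_smul, ← Units.val_mul] at this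
    exact this
  have hσ := TW.perm_apply_of_eq (by have := hh.three; omega) h1
  refine ⟨hσ, fun r => ?_⟩
  rw [hσ, TW.pg_one, one_mul, one_mul] at h1
  exact congrFun (tk_inj_so' hh (fun s => (hu (σ s)).mul (hu s)) (fun _ => so_one) h1) r

theorem card_split (r : S) :
    Fintype.card (S → Fin k) = Fintype.card ({x // x ≠ r} → Fin k) * k := by
  rw [Fintype.card_congr (spl (m := k) r), Fintype.card_prod, Fintype.card_fin]

theorem card_rest (hh : Hyp k F) (r s : S) :
    Fintype.card ({x // x ≠ r} → Fin k) = Fintype.card ({x // x ≠ s} → Fin k) :=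
  Nat.eq_of_mul_eq_mul_right hh.odd.pos ((card_split r).symm.trans (card_split s))

theorem fxd_rid (s : S) (y : GL (S → Fin k) F) : fxd (rid s y) = fxd y := by
  show Matrix.rank _ = Matrix.rank _
  have e : hf (rid s y : Matrix _ _ F) = (hf (y : Matrix (S → Fin k) (S → Fin k) F)).submatrix
      (spl s).symm (spl s).symm := by
    rw [hf, hf, TW.rid_val, ← Matrix.submatrix_one_equiv (spl (m := k) (S := S) s).symm]
    simp only [Matrix.submatrix_one_equiv]
    ext a b
    simp [Matrix.one_apply]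
    split_ifs <;> ring
  rw [e, Matrix.rank_submatrix]

theorem fxd_rt [Finite F] (hh : Hyp k F) (s : S) {a : Fin k → F} (ha : a ⬝ᵥ a ≠ 0) :
    fxd (rt s (zz a)) = Fintype.card ({x // x ≠ s} → Fin k) := by
  have h2 := hh.h2
  rw [← fxd_rid s, TW.rid_rt, fxd_kr h2 (one_mul 1) (zz_mul_self a), Units.val_one]
  have e1 : hf (1 : Matrix ({x // x ≠ s} → Fin k) ({x // x ≠ s} → Fin k) F) = 1 := by
    rw [hf, inv_smul_eq_iff₀ h2, two_smul]
  have e2 : hf (zz a : Matrix (Fin k) (Fin k) F) = pj a := by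
    rw [hf, zz_val ha, add_sub_cancel, smul_smul, inv_mul_cancel₀ h2, one_smul]
  rw [e1, e2, rk_one, rk_pj ha, sub_self, rk_zero, zero_mul, add_zero, mul_one]

/-- the involutions with least fixed space, one fixed slot -/
theorem fixed_slot [Finite F] (hh : Hyp k F) {y : GL (S → Fin k) F} (hyy : y * y = 1)
    {σ : Equiv.Perm S} {u : S → GL (Fin k) F} {ε : F} (hε : ε * ε = 1) (hu : ∀ s, SO (u s))
    (hv : (y : Matrix (S → Fin k) (S → Fin k) F) =
      ε • ((pg σ * tk u : GL (S → Fin k) F) : Matrix (S → Fin k) (S → Fin k) F)) {q : S} (hq : σ q = q)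
    (huq : u q ≠ 1) (hN : fxd y = Fintype.card ({x // x ≠ q} → Fin k)) :
    ∃ a, a ⬝ᵥ a ≠ 0 ∧ y = rt q (zz a) := by
  obtain ⟨-, huu⟩ := invol_form hh hyy hε hu hv
  have hp : ∀ x, x ≠ q ↔ σ x ≠ q := fun x => by
    constructor
    · exact fun hx e => hx (σ.injective (e.trans hq.symm))
    · exact fun hx e => hx (by rw [e, hq])
  let A₀ : GL ({x // x ≠ q} → Fin k) F := pg (σ.subtypePerm fun x => (hp x).symm) * tk fun r => u r.1
  let eu : Fˣ := ⟨ε, ε, hε, hε⟩
  let A : GL ({x // x ≠ q} → Fin k) F :=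
    Units.map (Matrix.scalar ({x // x ≠ q} → Fin k) : F →+* _).toMonoidHom eu * A₀
  have hA : (A : Matrix ({x // x ≠ q} → Fin k) ({x // x ≠ q} → Fin k) F) =
      ε • (A₀ : Matrix ({x // x ≠ q} → Fin k) ({x // x ≠ q} → Fin k) F) := by
    simp [A, eu, ← Matrix.smul_eq_diagonal_mul]
  have hσ' : Equiv.Perm.ofSubtype (σ.subtypePerm fun x => (hp x).symm) = σ :=
    Equiv.Perm.ofSubtype_subtypePerm (p := fun x => x ≠ q) (fun x => (hp x).symm) fun x hx hxq => hx (by rw [hxq, hq])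
  have hr0 : rid q (pg σ * tk u) = TP.kr (A₀, u q) := by
    rw [map_mul, TW.rid_tk]
    conv_lhs => arg 1; rw [← hσ']
    rw [TW.rid_pg, ← map_mul, Prod.mk_mul_mk, one_mul]
  have hy : rid q y = TP.kr (A, u q) := by
    refine Units.ext ?_
    rw [TW.rid_val, hv, show (ε • ((pg σ * tk u : GL (S → Fin k) F) : Matrix (S → Fin k) (S → Fin k) F)).submatrix
      (spl (m := k) q).symm (spl (m := k) q).symm = ε • (rid q (pg σ * tk u) : Matrix _ _ F) from rfl, hr0, kr_val,
      kr_val, hA,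
      Matrix.smul_kronecker]
  have huqq : u q * u q = 1 := by simpa [hq] using huu q
  haveI : Nonempty ({x // x ≠ q} → Fin k) := ⟨fun _ => ⟨0, hh.odd.pos⟩⟩
  haveI : Nonempty (Fin k) := ⟨⟨0, hh.odd.pos⟩⟩
  have hAA : A * A = 1 := by
    refine Units.ext (kron_inj (σ := (1 : Matrix (Fin k) (Fin k) F)) ?_ one_ne_zero)
    have e : (rid q y) * (rid q y) = 1 := by rw [← map_mul, hyy, map_one]
    rw [hy, ← map_mul, Prod.mk_mul_mk, huqq] at e
    have e' := congrArg Units.val e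
    rw [kr_val, Units.val_one, Units.val_one] at e'
    rw [Units.val_one, Matrix.one_kronecker_one]
    exact e'
  obtain ⟨hA1, a, ha, hua⟩ := slot_of_fxd hh hAA huqq (hu q) huq (by rw [← hy, fxd_rid]; exact hN)
  refine ⟨a, ha, (rid q).injective ?_⟩
  rw [hy, TW.rid_rt, hA1, hua]

end Cfsg.Agent.MaxCl.TOrth
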