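/-
Involutions of the wreath product moving a slot have large fixed spaces, apart from transpositions for three
dimensional factors.
-/
import Cfsg.Agent.Lib.MaxCl.TOrthForm

set_option autoImplicit false
set_option linter.unusedSectionVars false

namespace Cfsg.Agent.MaxCl.TOrth

open Matrix
open TW (tk pm pg rt rid spl sl Wr)
open scoped MatrixGroups Kronecker

variable {F : Type*} [Field F] {k : ℕ} {S : Type} [Fintype S] [DecidableEq S]

/-- a set of coordinates without interaction bounds the fixed space from below -/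
theorem card_le_fxd (h2 : (2 : F) ≠ 0) {ι : Type} [Fintype ι] [DecidableEq ι] (g : GL ι F) (R : Finset ι)
    (h : ∀ x ∈ R, ∀ z ∈ R, (g : Matrix ι ι F) x z = 0) : R.card ≤ fxd g := by
  have e : (hf (g : Matrix ι ι F)).submatrix (fun x : R => (x : ι)) (fun x : R => (x : ι)) =
      (2 : F)⁻¹ • (1 : Matrix R R F) := by
    ext x z
    simp only [hf, Matrix.submatrix_apply, Matrix.smul_apply, Matrix.add_apply, h x x.2 z z.2, add_zero,
      Matrix.one_apply, Subtype.coe_inj]
  have hu : IsUnit ((2 : F)⁻¹ • (1 : Matrix R R F)) := by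
    rw [Matrix.isUnit_iff_isUnit_det, Matrix.det_smul, Matrix.det_one, mul_one]
    exact (isUnit_iff_ne_zero.2 (inv_ne_zero h2)).pow _
  have := Matrix.rank_submatrix_le (hf (g : Matrix ι ι F)) (fun x : R => (x : ι)) (fun x : R => (x : ι))
  rw [e, Matrix.rank_of_isUnit _ hu, Fintype.card_coe] at this
  exact this

theorem pg_tk_apply (σ : Equiv.Perm S) (u : S → GL (Fin k) F) (x z : S → Fin k) :
    ((pg σ * tk u : GL (S → Fin k) F) : Matrix (S → Fin k) (S → Fin k) F) x z =
      ∏ q, (u q : Matrix (Fin k) (Fin k) F) (x (σ q)) (z q) := by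
  rw [Units.val_mul, Matrix.mul_apply, Finset.sum_eq_single (x ∘ σ)]
  · simp [pg, TW.tk_val, TW.pm_apply]
  · intro b _ hb; simp [pg, hb]
  · simp

/-- coordinates without interaction after moving the factors -/
theorem card_le_of_norm (hh : Hyp k F) {y : GL (S → Fin k) F} {σ : Equiv.Perm S} {u : S → GL (Fin k) F} {ε : F}
    (hv : (y : Matrix (S → Fin k) (S → Fin k) F) =
      ε • ((pg σ * tk u : GL (S → Fin k) F) : Matrix (S → Fin k) (S → Fin k) F))
    (T : S → GL (Fin k) F) (R : Finset (S → Fin k))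
    (h : ∀ x ∈ R, ∀ z ∈ R, ∃ q, (T (σ q))⁻¹ * u q * T q = 1 ∧ x (σ q) ≠ z q) : R.card ≤ fxd y := by
  rw [← fxd_conj (tk T)⁻¹ y, inv_inv]
  refine card_le_fxd hh.h2 _ R fun x hx z hz => ?_
  obtain ⟨q, hq, hne⟩ := h x hx z hz
  set v : S → GL (Fin k) F := (fun q => (T (σ q))⁻¹) * u * T
  have e : (tk T)⁻¹ * (pg σ * tk u) * tk T = pg σ * tk v := by
    rw [← mul_assoc, ← map_inv, TW.tk_pg, mul_assoc (pg σ), mul_assoc, ← map_mul, ← map_mul]
    rfl
  have e' : (((tk T)⁻¹ * y * tk T : GL (S → Fin k) F) : Matrix (S → Fin k) (S → Fin k) F) =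
      ε • ((pg σ * tk v : GL (S → Fin k) F) : Matrix (S → Fin k) (S → Fin k) F) := by
    simp only [← e, Units.val_mul, hv, mul_smul_comm, smul_mul_assoc]
  rw [e', Matrix.smul_apply, pg_tk_apply, Finset.prod_eq_zero (Finset.mem_univ q), smul_zero]
  show (((T (σ q))⁻¹ * u q * T q : GL (Fin k) F) : Matrix (Fin k) (Fin k) F) (x (σ q)) (z q) = 0
  rw [hq, Units.val_one, Matrix.one_apply_ne hne]

/-- the number of strictly increasing pairs of coordinates -/
theorem card_lt_slots {r s : S} (hrs : r ≠ s) :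
    2 * (Finset.univ.filter fun x : S → Fin k => x r < x s).card + Fintype.card ({q // q ≠ r} → Fin k) =
      Fintype.card (S → Fin k) := by
  classical
  set A := Finset.univ.filter fun x : S → Fin k => x r < x s
  set B := Finset.univ.filter fun x : S → Fin k => x s < x r
  set C := Finset.univ.filter fun x : S → Fin k => x r = x s
  let c : (S → Fin k) ≃ (S → Fin k) := Equiv.arrowCongr (Equiv.swap r s) (Equiv.refl _)
  have hc : ∀ x q, c x q = x (Equiv.swap r s q) := fun x q => by simp [c]
  have hAB : A.card = B.card := Finset.card_bij' (fun x _ => c x) (fun x _ => c x)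
    (fun x hx => by simpa [A, B, hc] using hx) (fun x hx => by simpa [A, B, hc] using hx)
    (fun x _ => funext fun q => by simp [hc]) (fun x _ => funext fun q => by simp [hc])
  have hC : C.card = Fintype.card ({q // q ≠ r} → Fin k) := by
    rw [← Finset.card_univ]
    refine Finset.card_bij' (fun x _ q => x q.1)
      (fun w _ q => if h : q = r then w ⟨s, hrs.symm⟩ else w ⟨q, h⟩) (fun _ _ => Finset.mem_univ _)
      (fun w _ => by simp [C, hrs.symm]) (fun x hx => funext fun q => ?_) (fun w _ => funext fun q => by simp [q.2])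
    by_cases h : q = r
    · subst h
      simp only [dite_true]
      exact ((Finset.mem_filter.1 hx).2).symm
    · simp [h]
  have hdisj : Disjoint A B := Finset.disjoint_left.2 fun x hx hx' =>
    lt_asymm (Finset.mem_filter.1 hx).2 (Finset.mem_filter.1 hx').2
  have hdisj' : Disjoint (A ∪ B) C := Finset.disjoint_left.2 fun x hx hx' => by
    rcases Finset.mem_union.1 hx with h | h
    · exact (Finset.mem_filter.1 h).2.ne (Finset.mem_filter.1 hx').2
    · exact (Finset.mem_filter.1 h).2.ne (Finset.mem_filter.1 hx').2.symm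
  have hu : A ∪ B ∪ C = Finset.univ := by
    ext x
    simp only [A, B, C, Finset.mem_union, Finset.mem_filter, Finset.mem_univ, true_and, iff_true]
    rcases lt_trichotomy (x r) (x s) with h | h | h
    · exact Or.inl (Or.inl h)
    · exact Or.inr h
    · exact Or.inl (Or.inr h)
  rw [← hC, ← Finset.card_univ (α := S → Fin k), ← hu, Finset.card_union_of_disjoint hdisj',
    Finset.card_union_of_disjoint hdisj, ← hAB]
  ring

/-- moving involutions of least fixed space are transpositions -/
theorem swap_of_fxd [Finite F] (hh : Hyp k F) {y : GL (S → Fin k) F} (hyy : y * y = 1) {σ : Equiv.Perm S}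
    {u : S → GL (Fin k) F} {ε : F} (hε : ε * ε = 1) (hu : ∀ s, SO (u s))
    (hv : (y : Matrix (S → Fin k) (S → Fin k) F) =
      ε • ((pg σ * tk u : GL (S → Fin k) F) : Matrix (S → Fin k) (S → Fin k) F)) (hσ : σ ≠ 1) {p : S}
    (hN : fxd y = Fintype.card ({x // x ≠ p} → Fin k)) :
    k = 3 ∧ ∃ r s, r ≠ s ∧ σ = Equiv.swap r s ∧ ∀ q, q ≠ r → q ≠ s → u q = 1 := by
  classical
  have h3 := hh.three
  obtain ⟨hσσ, huu⟩ := invol_form hh hyy hε hu hv
  have hinv : ∀ q, σ (σ q) = q := fun q => congrArg (fun τ : Equiv.Perm S => τ q) hσσ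
  obtain ⟨r, hr⟩ : ∃ r, σ r ≠ r := by
    by_contra hc
    push Not at hc
    exact hσ (Equiv.ext hc)
  obtain ⟨s, hs⟩ : ∃ s, σ r = s := ⟨_, rfl⟩
  have hrs : r ≠ s := fun e => hr (hs.trans e.symm)
  have hsr : σ s = r := by rw [← hs, hinv]
  have hus : u s * u r = 1 := by rw [← hs]; exact huu r
  set A := Finset.univ.filter fun x : S → Fin k => x r < x s with hA
  have hzero : ∀ (T : S → GL (Fin k) F), T r = 1 → T s = u r →
      ∀ x z : S → Fin k, x r ≤ x s → z r ≤ z s → (x r < x s ∨ z r < z s) →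
      ∃ q, (T (σ q))⁻¹ * u q * T q = 1 ∧ x (σ q) ≠ z q := by
    intro T hTr hTs x z hx hz hlt
    by_cases h1 : x s = z r
    · refine ⟨s, by rw [hsr, hTr, hTs, inv_one, one_mul, hus], ?_⟩
      rw [hsr]
      intro h2'
      rcases hlt with h | h <;> omega
    · exact ⟨r, by rw [hs, hTr, hTs, mul_one, inv_mul_cancel], by rwa [hs]⟩
  have hAle : A.card ≤ fxd y := card_le_of_norm hh hv (fun x => if x = s then u r else 1) A fun x hx z hz =>
    hzero (fun x => if x = s then u r else 1) (if_neg hrs) (if_pos rfl) x z (Finset.mem_filter.1 hx).2.le (Finset.mem_filter.1 hz).2.le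
      (Or.inl (Finset.mem_filter.1 hx).2)
  have hcard := card_lt_slots (k := k) hrs
  rw [card_split r, ← hA] at hcard
  rw [hN, card_rest hh p r] at hAle
  set N := Fintype.card ({x // x ≠ r} → Fin k) with hNdef
  have hNpos : 0 < N := by
    haveI : Nonempty (Fin k) := ⟨⟨0, hh.odd.pos⟩⟩
    exact Fintype.card_pos
  have hk : k = 3 := by
    by_contra hne
    obtain ⟨m, hm⟩ := hh.odd
    have : N * 5 ≤ N * k := Nat.mul_le_mul_left _ (by omega)
    omega
  subst hk
  have hAN : A.card = N := by omega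
  have hswap : σ = Equiv.swap r s := by
    refine Equiv.ext fun q => ?_
    rcases eq_or_ne q r with rfl | hqr
    · rw [Equiv.swap_apply_left, hs]
    rcases eq_or_ne q s with rfl | hqs
    · rw [Equiv.swap_apply_right, hsr]
    rw [Equiv.swap_apply_of_ne_of_ne hqr hqs]
    by_contra hq
    obtain ⟨q', hq'⟩ : ∃ q', σ q = q' := ⟨_, rfl⟩
    have hq'r : q' ≠ r := fun e => hqs (σ.injective (by rw [hq', e, hsr]))
    have hq's : q' ≠ s := fun e => hqr (σ.injective (by rw [hq', e, hs]))
    have hq'q : q' ≠ q := fun e => hq (hq'.trans e)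
    set T : S → GL (Fin 3) F := fun x => if x = s then u r else if x = q' then u q else 1
    have hTr : T r = 1 := by simp [T, hrs, hq'r.symm]
    have hTs : T s = u r := by simp [T]
    let x₀ : S → Fin 3 := Function.update (fun _ => 0) q' 1
    have h0r : x₀ r = 0 := by simp [x₀, hq'r.symm]
    have h0s : x₀ s = 0 := by simp [x₀, hq's.symm]
    have hx₀ : x₀ ∉ A := by simp [A, h0r, h0s]
    have := card_le_of_norm hh hv T (insert x₀ A) fun x hx z hz => by
      rcases Finset.mem_insert.1 hx with hx | hx <;> rcases Finset.mem_insert.1 hz with hz | hz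
      · subst hx hz
        exact ⟨q, by simp [T, hq', hqs, hq's, hq'q.symm], by simp [x₀, hq', hq'q.symm]⟩
      · subst hx
        exact hzero T hTr hTs _ z (by rw [h0r, h0s]) (Finset.mem_filter.1 hz).2.le
          (Or.inr (Finset.mem_filter.1 hz).2)
      · subst hz
        exact hzero T hTr hTs x _ (Finset.mem_filter.1 hx).2.le (by rw [h0r, h0s])
          (Or.inl (Finset.mem_filter.1 hx).2)
      · exact hzero T hTr hTs x z (Finset.mem_filter.1 hx).2.le (Finset.mem_filter.1 hz).2.le
          (Or.inl (Finset.mem_filter.1 hx).2)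
    rw [Finset.card_insert_of_notMem hx₀, hAN, hN, card_rest hh p r] at this
    omega
  refine ⟨rfl, r, s, hrs, hswap, ?_⟩
  intro q hqr hqs
  by_contra huq
  have hq : σ q = q := by rw [hswap, Equiv.swap_apply_of_ne_of_ne hqr hqs]
  obtain ⟨a, ha, hy⟩ := fixed_slot hh hyy hε hu hv hq huq (by rw [hN]; exact card_rest hh p q)
  have e := rt_conj_form (wr_conj hε hv) r (zz (Pi.single 0 (1 : F)))
  rw [hy, (rt_commute hqr (zz a) _).eq, mul_inv_cancel_right, hs] at e
  have h0 : (Pi.single 0 (1 : F) : Fin 3 → F) ⬝ᵥ Pi.single 0 1 ≠ 0 := by simp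
  exact hrs (rt_eq_rt hh (so_zz hh.h2 hh.odd h0) (((hu r).mul (so_zz hh.h2 hh.odd h0)).mul (hu r).inv)
    (zz_ne_one hh h0) e).1

end Cfsg.Agent.MaxCl.TOrth
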