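/-
The slot involutions with a unit eigenvector have no fusion outside the wreath product.
-/
import Cfsg.Agent.Lib.MaxCl.TOrthSwap

set_option autoImplicit false
set_option linter.unusedSectionVars false

namespace Cfsg.Agent.MaxCl.TOrth

open Matrix
open TW (tk pm pg rt rid spl sl Wr)
open scoped MatrixGroups Kronecker

variable {F : Type*} [Field F] {k : ℕ} {S : Type} [Fintype S] [DecidableEq S]

/-- an overgroup whose summand centralisers lie in the wreath product -/
structure Top (M : Subgroup (GL (S → Fin k) F)) : Prop where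
  hyp : Hyp k F
  ov : Ov M
  loc : ∀ (s : S) (σ : Matrix (Fin k) (Fin k) F), Pr σ → σ ≠ 0 → σ ≠ 1 →
    ∀ g ∈ M, Commute (g : Matrix (S → Fin k) (S → Fin k) F) (sl s σ) → g ∈ Wr S k F

/-- the distinguished slot involutions -/
def IsX (y : GL (S → Fin k) F) : Prop := ∃ (s : S) (a : Fin k → F), a ⬝ᵥ a = 1 ∧ y = rt s (zz a)

theorem unit_ne {a : Fin k → F} (ha : a ⬝ᵥ a = 1) : a ⬝ᵥ a ≠ 0 := by rw [ha]; exact one_ne_zero

theorem sl_smul (s : S) (c : F) (A : Matrix (Fin k) (Fin k) F) :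
    sl s (c • A) = c • (sl s A : Matrix (S → Fin k) (S → Fin k) F) := TW.pm_update_smul 1 s c A

/-- rotations about one axis commute -/
theorem rot_commute [Finite F] (h2 : (2 : F) ≠ 0) {a : Fin 3 → F} (ha : a ⬝ᵥ a ≠ 0) {A B : GL (Fin 3) F}
    (hA : SuppIn (1 - pj a) A) (hAd : (A : Matrix (Fin 3) (Fin 3) F).det = 1)
    (hB : SuppIn (1 - pj a) B) (hBd : (B : Matrix (Fin 3) (Fin 3) F).det = 1) : Commute A B := by
  have hπ := (pr_pj ha).one_sub
  have hr := rk_one_sub (pr_pj ha)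
  rw [rk_pj ha, Fintype.card_fin] at hr
  obtain ⟨e, hπe, he⟩ := exists_value_pr h2 hπ (by omega) (1 : F)
  have he0 := unit_ne he
  have hρ := hπ.sub (pr_pj he0) (mul_pj hπe)
  have hrρ := rk_sub_pj hπ he0 hπe
  obtain ⟨f, hf, hρf, hρe⟩ := eq_pj_of_rk h2 hρ (by omega)
  have hρe0 : (1 - pj a - pj e) *ᵥ e = 0 := by rw [Matrix.sub_mulVec, hπe, pj_self he0, sub_self]
  have hef : e ⬝ᵥ f = 0 := by rw [← hρf, ← hρ.dot, hρe0, zero_dotProduct]
  have hsum : 1 - pj a = pj e + pj f := by rw [← hρe]; abel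
  have hπf := plane_right h2 hπ he hf hef hsum
  have hinv : ∀ C : GL (Fin 3) F, SuppIn (1 - pj a) C → (C : Matrix (Fin 3) (Fin 3) F).det = 1 →
      rf f * C * rf f = C⁻¹ := fun C hC hd => by
    have h1 := plane_det_neg h2 hπ he hf hef hsum (suppIn_mul hC (suppIn_rf hπ hf hπf))
      (by rw [Units.val_mul, Matrix.det_mul, hd, det_rf h2 hf, one_mul])
    refine eq_inv_of_mul_eq_one_right ?_
    simpa [mul_assoc] using h1
  have h := hinv (A * B) (suppIn_mul hA hB) (by rw [Units.val_mul, Matrix.det_mul, hAd, hBd, one_mul])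
  have h' : rf f * (A * B) * rf f = A⁻¹ * B⁻¹ := by
    rw [← hinv A hA hAd, ← hinv B hB hBd]
    simp only [mul_assoc]
    rw [← mul_assoc (rf f) (rf f), rf_mul_self, one_mul]
  have e2 := h.symm.trans h'
  rw [_root_.mul_inv_rev] at e2
  exact ((show Commute B⁻¹ A⁻¹ from e2).inv_inv).symm

variable [Finite F] {M : Subgroup (GL (S → Fin k) F)} (hT : Top M)
include hT

theorem Top.isX_mem {x : GL (S → Fin k) F} (hx : IsX x) : x ∈ M := by
  obtain ⟨s, a, ha, rfl⟩ := hx
  exact hT.ov.rt_mem hT.hyp.h2 s (zz_mem hT.hyp.h2 hT.hyp.odd' (unit_ne ha) (by rw [ha]; exact IsSquare.one))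

theorem Top.isX_om {x : GL (S → Fin k) F} (hx : IsX x) : x ∈ Om (S → Fin k) F := by
  obtain ⟨s, a, ha, rfl⟩ := hx
  exact rt_om hT.hyp.h2 s (zz_mem hT.hyp.h2 hT.hyp.odd' (unit_ne ha) (by rw [ha]; exact IsSquare.one))

/-- the centraliser of a slot involution -/
theorem Top.cent {s : S} {w : GL (Fin k) F} (hw : SO w) (hww : w * w = 1) (h1 : w ≠ 1)
    {g : GL (S → Fin k) F} (hg : g ∈ M) (hc : Commute g (rt s w)) : g ∈ Wr S k F := by
  have h2 := hT.hyp.h2
  have hut : (w : Matrix (Fin k) (Fin k) F)ᵀ = w := by rw [← inv_val h2 hw.1, inv_eq_of_mul_eq_one_right hww]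
  have hww' : (w : Matrix (Fin k) (Fin k) F) * (w : Matrix (Fin k) (Fin k) F) = 1 := by
    rw [← Units.val_mul, hww, Units.val_one]
  refine hT.loc s (hf (w : Matrix (Fin k) (Fin k) F))
    ⟨by rw [hf, Matrix.transpose_smul, Matrix.transpose_add, Matrix.transpose_one, hut], hf_idem h2 hww'⟩ ?_ ?_ g hg ?_
  · intro e
    have hw1 : (w : Matrix (Fin k) (Fin k) F) = -1 := by
      rw [hf, smul_eq_zero] at e
      exact eq_neg_of_add_eq_zero_right (e.resolve_left (inv_ne_zero h2))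
    have hd := hw.2
    rw [hw1, Matrix.det_neg, Matrix.det_one, mul_one, Fintype.card_fin, hT.hyp.odd.neg_one_pow] at hd
    exact h2 (by linear_combination -hd)
  · intro e
    rw [hf, inv_smul_eq_iff₀ h2, two_smul] at e
    exact h1 (Units.ext (by rw [Units.val_one]; exact add_left_cancel e))
  · rw [hf, sl_smul, TW.sl_add, map_one, ← sl_eq_rt]
    exact ((Commute.one_right _).add_right (congrArg Units.val hc.eq : _)).smul_right _

theorem Top.cent_x {x : GL (S → Fin k) F} (hx : IsX x) {g : GL (S → Fin k) F} (hg : g ∈ M) (hc : Commute g x) :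
    g ∈ Wr S k F := by
  obtain ⟨s, a, ha, rfl⟩ := hx
  exact hT.cent (so_zz hT.hyp.h2 hT.hyp.odd (unit_ne ha)) (zz_mul_self a) (zz_ne_one hT.hyp (unit_ne ha)) hg hc

theorem Top.isX_conj {h : GL (S → Fin k) F} (hh : h ∈ M) (hw : h ∈ Wr S k F) {x : GL (S → Fin k) F} (hx : IsX x) :
    IsX (h * x * h⁻¹) := by
  obtain ⟨σ, u, hu, hc⟩ := exists_conj_form hT.hyp hw (hT.ov.le hh)
  obtain ⟨s, a, ha, rfl⟩ := hx
  exact ⟨σ s, act (u s) a, by rw [dot_act hT.hyp.h2 (hu s).1, ha], by rw [rt_conj_form hc, conj_zz hT.hyp.h2 (hu s).1]⟩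

theorem Top.x_trans {x y : GL (S → Fin k) F} (hx : IsX x) (hy : IsX y) :
    ∃ h ∈ M, h ∈ Wr S k F ∧ h * x * h⁻¹ = y := by
  obtain ⟨s, a, ha, rfl⟩ := hx
  obtain ⟨r, b, hb, rfl⟩ := hy
  have h2 := hT.hyp.h2
  obtain ⟨w, hw, hwo⟩ := fix_class hT.hyp r (pg_orth (F := F) (k := k) (Equiv.swap s r))
  have h1 : rt r w * pg (Equiv.swap s r) ∈ M := hT.ov.wr ⟨mul_mem (TW.rt_mem r w) (TW.pg_mem _), hwo⟩
  obtain ⟨q, hq, hqa⟩ := exists_om_act h2 hT.hyp.three' (a := act w a) (b := b)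
    (by rw [dot_act h2 hw, ha]; exact one_ne_zero) (by rw [dot_act h2 hw, ha, hb])
  refine ⟨rt r q * (rt r w * pg (Equiv.swap s r)), mul_mem (hT.ov.rt_mem h2 r hq) h1,
    mul_mem (TW.rt_mem r q) (mul_mem (TW.rt_mem r w) (TW.pg_mem _)), ?_⟩
  have e : pg (Equiv.swap s r) * rt s (zz a) * (pg (Equiv.swap s r))⁻¹ = rt r (zz a) := by
    rw [TW.rt_eq, TW.pg_conj, TW.rt_eq]
    refine congrArg tk (funext fun x => ?_)
    rcases eq_or_ne x r with rfl | hx
    · simp
    · rw [Pi.mulSingle_eq_of_ne hx, Pi.mulSingle_eq_of_ne]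
      intro e
      exact hx (by rw [← (Equiv.swap s r).apply_symm_apply x, e, Equiv.swap_apply_left])
  rw [show rt r q * (rt r w * pg (Equiv.swap s r)) * rt s (zz a) * (rt r q * (rt r w * pg (Equiv.swap s r)))⁻¹ =
    rt r q * (rt r w * (pg (Equiv.swap s r) * rt s (zz a) * (pg (Equiv.swap s r))⁻¹) * (rt r w)⁻¹) * (rt r q)⁻¹ by
      simp only [_root_.mul_inv_rev, mul_assoc],
    e, ← map_inv, ← map_mul, ← map_mul, conj_zz h2 hw, ← map_inv, ← map_mul, ← map_mul, conj_zz h2 (om_le_orth hq), hqa]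

theorem Top.fusion_x {g x : GL (S → Fin k) F} (hg : g ∈ M) (hx : IsX x) (h : IsX (g * x * g⁻¹)) :
    g ∈ Wr S k F := by
  obtain ⟨a, haM, haW, e⟩ := hT.x_trans hx h
  have hc : Commute (a⁻¹ * g) x := by
    show a⁻¹ * g * x = x * (a⁻¹ * g)
    calc a⁻¹ * g * x = a⁻¹ * (g * x * g⁻¹) * g := by group
      _ = x * (a⁻¹ * g) := by rw [← e]; group
  have := mul_mem haW (hT.cent_x hx (mul_mem (inv_mem haM) hg) hc)
  rwa [mul_inv_cancel_left] at this

/-- a conjugate in the wreath product is distinguished or a transposition -/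
theorem Top.wr_or_swap {g x : GL (S → Fin k) F} (hg : g ∈ M) (hx : IsX x) (hy : g * x * g⁻¹ ∈ Wr S k F) :
    g ∈ Wr S k F ∨ k = 3 ∧ ∃ (r s : S) (u : S → GL (Fin k) F), r ≠ s ∧ (∀ q, SO (u q)) ∧
      (∀ q, q ≠ r → q ≠ s → u q = 1) ∧ u s * u r = 1 ∧
      ∀ f : S → GL (Fin k) F, g * x * g⁻¹ * tk f * (g * x * g⁻¹)⁻¹ =
        tk fun q => u (Equiv.swap r s q) * f (Equiv.swap r s q) * (u (Equiv.swap r s q))⁻¹ := by
  classical
  have hh := hT.hyp
  have h2 := hh.h2
  obtain ⟨s₀, a₀, ha₀, hxe⟩ := hx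
  have hx : IsX x := ⟨s₀, a₀, ha₀, hxe⟩
  have hgO := hT.ov.le hg
  have hyO : g * x * g⁻¹ ∈ Om (S → Fin k) F := conj_mem_om hgO (hT.isX_om hx)
  have hyy : g * x * g⁻¹ * (g * x * g⁻¹) = 1 := by
    rw [hxe, show g * rt s₀ (zz a₀) * g⁻¹ * (g * rt s₀ (zz a₀) * g⁻¹) = g * (rt s₀ (zz a₀) * rt s₀ (zz a₀)) * g⁻¹ by
      group, ← map_mul, zz_mul_self, map_one, mul_one, mul_inv_cancel]
  obtain ⟨σ, u, ε, hε, hu, hv⟩ := norm_form hh hy (om_le_orth hyO)
  have hεε : ε * ε = 1 := by rcases hε with rfl | rfl <;> ring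
  have hN : fxd (g * x * g⁻¹) = Fintype.card ({q // q ≠ s₀} → Fin k) := by
    rw [fxd_conj, hxe, fxd_rt hh s₀ (unit_ne ha₀)]
  by_cases hσ : σ = 1
  · left
    obtain ⟨q, hq⟩ : ∃ q, u q ≠ 1 := by
      by_contra hc
      push Not at hc
      rw [hσ, TW.pg_one, one_mul, show u = 1 from funext hc, map_one, Units.val_one] at hv
      have hd := det_one h2 hyO
      rw [hv, Matrix.det_smul, Matrix.det_one, mul_one] at hd
      obtain ⟨n, hn⟩ := hh.card_odd S
      rw [hn, pow_succ, pow_mul, pow_two, hεε, one_pow, one_mul] at hd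
      rw [hd, one_smul] at hv
      have hg1 : g * x * g⁻¹ = 1 := Units.ext (hv.trans Units.val_one.symm)
      exact rt_ne_one hh s₀ (so_zz h2 hh.odd (unit_ne ha₀)) (zz_ne_one hh (unit_ne ha₀))
        (hxe ▸ conj_eq_one_iff.1 hg1)
    obtain ⟨a, ha, hya⟩ := fixed_slot hh hyy hεε hu hv (by rw [hσ]; rfl) hq
      (by rw [hN]; exact card_rest hh s₀ q)
    obtain ⟨e, he⟩ : ∃ e : Fin k → F, e ⬝ᵥ e = 1 := ⟨a₀, ha₀⟩
    obtain ⟨h, hhM, -, hhe⟩ := hT.x_trans (x := rt q (zz e)) ⟨q, e, he, rfl⟩ hx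
    have hconj : (g * h) * rt q (zz e) = rt q (zz a) * (g * h) := by
      rw [← hya, ← hhe]; group
    have hR := congrArg (rid q) hconj
    rw [map_mul (rid q) (g * h), map_mul (rid q) (rt q (zz a)), rid_rt', rid_rt'] at hR
    replace hR := congrArg Units.val hR
    simp only [Units.val_mul, inr_eq_rgt, zz_val (unit_ne he), zz_val ha, rgt_sub, rgt_smul,
      rgt_one, mul_sub, sub_mul, mul_one, one_mul, mul_smul_comm, smul_mul_assoc, sub_left_inj] at hR
    have hsq := class_of_conj hh (hh.card_odd _) ((rid_orth_iff h2 q).2 (hT.ov.le (mul_mem hg hhM))) (unit_ne he) ha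
      (smul_right_injective _ h2 hR)
    rw [he, one_mul] at hsq
    obtain ⟨δ, hδ⟩ := hsq
    have hδ0 : δ ≠ 0 := fun h0 => ha (by rw [hδ, h0, mul_zero])
    have hu' : (δ⁻¹ • a) ⬝ᵥ (δ⁻¹ • a) = 1 := by
      rw [smul_dotProduct, dotProduct_smul, hδ, smul_eq_mul, smul_eq_mul]; field_simp
    refine hT.fusion_x hg hx ⟨q, δ⁻¹ • a, hu', ?_⟩
    rw [hya]
    exact congrArg (rt q) (Units.ext (by rw [zz_val ha, zz_val (unit_ne hu'), pj_smul (inv_ne_zero hδ0)]))
  · right
    obtain ⟨hk, r, s, hrs, rfl, hu1⟩ := swap_of_fxd hh hyy hεε hu hv hσ hN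
    obtain ⟨-, huu⟩ := invol_form hh hyy hεε hu hv
    refine ⟨hk, r, s, u, hrs, hu, hu1, by simpa using huu r, fun f => ?_⟩
    rw [wr_conj hεε hv, Equiv.symm_swap]

/-- conjugates moving a slot do not occur -/
theorem Top.swap_false {g x : GL (S → Fin k) F} (hg : g ∈ M) (hx : IsX x) (hk : k = 3) {r s : S}
    {u : S → GL (Fin k) F} (hrs : r ≠ s) (hu : ∀ q, SO (u q)) (hu1 : ∀ q, q ≠ r → q ≠ s → u q = 1)
    (hus : u s * u r = 1)
    (hy : ∀ f : S → GL (Fin k) F, g * x * g⁻¹ * tk f * (g * x * g⁻¹)⁻¹ =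
      tk fun q => u (Equiv.swap r s q) * f (Equiv.swap r s q) * (u (Equiv.swap r s q))⁻¹) : False := by
  classical
  subst hk
  have hh := hT.hyp
  have h2 := hh.h2
  set y := g * x * g⁻¹ with hydef
  have he : ∀ i : Fin 3, (Pi.single i (1 : F) : Fin 3 → F) ⬝ᵥ Pi.single i 1 = 1 := fun i => by simp
  have hzS : ∀ i : Fin 3, SO (zz (Pi.single i (1 : F) : Fin 3 → F)) := fun i => so_zz h2 hh.odd (unit_ne (he i))
  have hgW : g ∉ Wr S 3 F := fun hgw => by
    obtain ⟨q, a, ha, e⟩ := hT.isX_conj hg hgw hx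
    have hmv : ∀ p, p ≠ q → Equiv.swap r s p = p := by
      intro p hpq
      have e1 := rt_conj_form (σ := Equiv.swap r s) (u := u) (h := y)
        (fun f => by rw [hy f, Equiv.symm_swap]) p (zz (Pi.single 0 (1 : F)))
      rw [hydef, e, (rt_commute (Ne.symm hpq) (zz a) _).eq, mul_inv_cancel_right] at e1
      exact (rt_eq_rt hh (hzS 0) (((hu p).mul (hzS 0)).mul (hu p).inv) (zz_ne_one hh (unit_ne (he 0))) e1).1.symm
    rcases eq_or_ne q r with rfl | hqr
    · exact hrs (by simpa using hmv s hrs.symm)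
    · exact hrs.symm (by simpa using hmv r hqr.symm)
  -- conjugates of commuting slot involutions
  have hpre : ∀ z, IsX z → Commute z y → g⁻¹ * z * g ∈ M ∧ g⁻¹ * z * g ∈ Wr S 3 F := by
    intro z hz hc
    have hzM : g⁻¹ * z * g ∈ M := mul_mem (mul_mem (inv_mem hg) (hT.isX_mem hz)) hg
    refine ⟨hzM, hT.cent_x hx hzM ?_⟩
    have := hc.map (MulAut.conj g⁻¹).toMonoidHom
    simpa [MulAut.conj_apply, hydef, mul_assoc] using this
  by_cases hthird : ∃ q, q ≠ r ∧ q ≠ s
  · obtain ⟨q, hqr, hqs⟩ := hthird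
    have hcy : ∀ i, Commute (rt q (zz (Pi.single i (1 : F) : Fin 3 → F))) y := fun i => by
      have e1 := rt_conj_form (σ := Equiv.swap r s) (u := u) (h := y)
        (fun f => by rw [hy f, Equiv.symm_swap]) q (zz (Pi.single i (1 : F)))
      rw [Equiv.swap_apply_of_ne_of_ne hqr hqs, hu1 q hqr hqs, inv_one, one_mul, mul_one] at e1
      exact (mul_inv_eq_iff_eq_mul.1 e1).symm
    have hper : ∀ i : Fin 3, ∃ (τ : Equiv.Perm S) (v : S → GL (Fin 3) F), Equiv.Perm.sign τ = -1 ∧ (∀ p, SO (v p)) ∧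
        ∀ p w, g⁻¹ * rt q (zz (Pi.single i (1 : F) : Fin 3 → F)) * g * rt p w *
          (g⁻¹ * rt q (zz (Pi.single i (1 : F) : Fin 3 → F)) * g)⁻¹ = rt (τ p) (v p * w * (v p)⁻¹) := by
      intro i
      obtain ⟨-, hW⟩ := hpre _ ⟨q, _, he i, rfl⟩ (hcy i)
      rcases hT.wr_or_swap (inv_mem hg) (x := rt q (zz (Pi.single i (1 : F) : Fin 3 → F))) ⟨q, _, he i, rfl⟩
        (by rw [inv_inv]; exact hW) with hgw | ⟨-, r', s', v, hrs', hv, -, -, hc⟩
      · exact absurd ((Subgroup.inv_mem_iff _).1 hgw) hgW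
      · simp only [inv_inv] at hc
        exact ⟨Equiv.swap r' s', v, Equiv.Perm.sign_swap hrs', hv, fun p w =>
          rt_conj_form (fun f => by rw [hc f, Equiv.symm_swap]) p w⟩
    choose τ v hτ hv hc using hper
    have hprod : g⁻¹ * rt q (zz (Pi.single 0 (1 : F) : Fin 3 → F)) * g *
        (g⁻¹ * rt q (zz (Pi.single 1 (1 : F) : Fin 3 → F)) * g) *
        (g⁻¹ * rt q (zz (Pi.single 2 (1 : F) : Fin 3 → F)) * g) = 1 := by
      have e1 : zz (Pi.single 0 (1 : F) : Fin 3 → F) * zz (Pi.single 1 (1 : F) : Fin 3 → F) *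
          zz (Pi.single 2 (1 : F) : Fin 3 → F) = 1 := by
        refine Units.ext ?_
        simp only [Units.val_mul, zz_val (unit_ne (he _)), Units.val_one]
        ext a b
        fin_cases a <;> fin_cases b <;>
          simp [pj, Matrix.mul_apply, Fin.sum_univ_three, Matrix.vecMulVec_apply, Pi.single_apply] <;> norm_num
      calc _ = g⁻¹ * (rt q (zz (Pi.single 0 (1 : F) : Fin 3 → F)) * rt q (zz (Pi.single 1 (1 : F) : Fin 3 → F)) *
            rt q (zz (Pi.single 2 (1 : F) : Fin 3 → F))) * g := by group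
        _ = 1 := by rw [← map_mul, ← map_mul, e1, map_one, mul_one, inv_mul_cancel]
    have hperm : τ 0 * τ 1 * τ 2 = 1 := by
      refine Equiv.ext fun p => ?_
      have e1 : rt p (zz (Pi.single 0 (1 : F) : Fin 3 → F)) = _ := (by
        rw [hprod, one_mul, inv_one, mul_one] :
          _ = g⁻¹ * rt q (zz (Pi.single 0 (1 : F) : Fin 3 → F)) * g *
            (g⁻¹ * rt q (zz (Pi.single 1 (1 : F) : Fin 3 → F)) * g) *
            (g⁻¹ * rt q (zz (Pi.single 2 (1 : F) : Fin 3 → F)) * g) * rt p (zz (Pi.single 0 (1 : F) : Fin 3 → F)) *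
            (g⁻¹ * rt q (zz (Pi.single 0 (1 : F) : Fin 3 → F)) * g *
            (g⁻¹ * rt q (zz (Pi.single 1 (1 : F) : Fin 3 → F)) * g) *
            (g⁻¹ * rt q (zz (Pi.single 2 (1 : F) : Fin 3 → F)) * g))⁻¹)
      have assoc3 : ∀ a b c d : GL (S → Fin 3) F, a * b * c * d * (a * b * c)⁻¹ =
          a * (b * (c * d * c⁻¹) * b⁻¹) * a⁻¹ := fun a b c d => by group
      rw [assoc3, hc, hc, hc] at e1
      exact (rt_eq_rt hh (hzS 0) (((hv 0 _).mul (((hv 1 _).mul (((hv 2 _).mul (hzS 0)).mul (hv 2 _).inv)).mul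
        (hv 1 _).inv)).mul (hv 0 _).inv) (zz_ne_one hh (unit_ne (he 0))) e1).1.symm
    have := congrArg Equiv.Perm.sign hperm
    simp only [map_mul, map_one, hτ] at this
    exact absurd this (by decide)
  · push Not at hthird
    obtain ⟨s₀, a₀, ha₀, hxe⟩ := hx
    have hx : IsX x := ⟨s₀, a₀, ha₀, hxe⟩
    have ha₀' := unit_ne ha₀
    let Dg : GL (Fin 3) F →* (S → GL (Fin 3) F) :=
      { toFun := fun w q => if q = r then w else u r * w * (u r)⁻¹
        map_one' := funext fun q => by split <;> simp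
        map_mul' := fun w w' => funext fun q => by
          simp only [Pi.mul_apply]
          split <;> simp [mul_assoc] }
    have hus' : u s = (u r)⁻¹ := eq_inv_of_mul_eq_one_left hus
    have hDy : ∀ w, Commute (tk (Dg w)) y := fun w => by
      refine (mul_inv_eq_iff_eq_mul.1 ((hy (Dg w)).trans (congrArg tk (funext fun q => ?_)))).symm
      show u _ * (if _ = r then w else _) * _ = if q = r then w else _
      rcases eq_or_ne q r with rfl | hq
      · rw [Equiv.swap_apply_left, if_neg hrs.symm, if_pos rfl, hus']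
        group
      · rw [hthird q hq, Equiv.swap_apply_right, if_pos rfl, if_neg hrs.symm]
    have hDM : ∀ w ∈ Om (Fin 3) F, tk (Dg w) ∈ M ∧ tk (Dg w) ∈ Om (S → Fin 3) F := fun w hw => by
      have ho : ∀ q, Dg w q ∈ Om (Fin 3) F := fun q => by
        show (if q = r then w else _) ∈ _
        split
        · exact hw
        · exact conj_mem_om (hu r).1 hw
      exact ⟨hT.ov.wr ⟨TW.tk_mem _, tk_om h2 ho⟩, tk_om h2 ho⟩
    obtain ⟨s₁, hs₁, hcov⟩ : ∃ s₁, s₁ ≠ s₀ ∧ ∀ p, p = s₀ ∨ p = s₁ := by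
      rcases eq_or_ne s₀ r with e | hne
      · exact ⟨s, by rw [e]; exact hrs.symm, fun p => (eq_or_ne p r).imp (fun h => h.trans e.symm) (hthird p)⟩
      · exact ⟨r, hne.symm, fun p => (eq_or_ne p r).symm.imp (fun h => (hthird p h).trans (hthird s₀ hne).symm) id⟩
    have hform : ∀ w : ↥(Om (Fin 3) F), ∃ v : S → GL (Fin 3) F, (∀ q, SO (v q)) ∧
        g⁻¹ * tk (Dg w) * g = tk v ∧ Commute (v s₀) (zz a₀) := by
      intro w
      have hM' : g⁻¹ * tk (Dg w) * g ∈ M := mul_mem (mul_mem (inv_mem hg) (hDM w w.2).1) hg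
      have hcx : Commute (g⁻¹ * tk (Dg w) * g) x := by
        have := (hDy w).map (MulAut.conj g⁻¹).toMonoidHom
        simpa [MulAut.conj_apply, hydef, mul_assoc] using this
      have hW := hT.cent_x hx hM' hcx
      obtain ⟨τ, v, ε, hε, hv, hval⟩ := norm_form hh hW (hT.ov.le hM')
      have hεε : ε * ε = 1 := by rcases hε with rfl | rfl <;> ring
      have e1 := rt_conj_form (wr_conj hεε hval) s₀ (zz a₀)
      rw [← hxe, hcx.eq, mul_inv_cancel_right, hxe] at e1
      obtain ⟨hτ0, e2⟩ := rt_eq_rt hh (so_zz h2 hh.odd ha₀') (((hv s₀).mul (so_zz h2 hh.odd ha₀')).mul (hv s₀).inv)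
        (zz_ne_one hh ha₀') e1
      have hτ : τ = 1 := Equiv.ext fun p => by
        rcases hcov p with rfl | rfl
        · exact hτ0.symm
        · exact (hcov (τ p)).resolve_left fun e => hs₁ (τ.injective (e.trans hτ0))
      have hd : ε = 1 := by
        have hom : g⁻¹ * tk (Dg w) * g ∈ Om (S → Fin 3) F := by
          simpa using conj_mem_om (inv_mem (hT.ov.le hg)) (hDM w w.2).2
        have hd := det_one h2 hom
        rw [hval, hτ, TW.pg_one, one_mul, Matrix.det_smul, TW.det_tk_eq_one (fun q => (hv q).2), mul_one] at hd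
        obtain ⟨n, hn⟩ := hh.card_odd S
        rwa [hn, pow_succ, pow_mul, pow_two, hεε, one_pow, one_mul] at hd
      refine ⟨v, hv, Units.ext (by rw [hval, hτ, hd, TW.pg_one, one_mul, one_smul]), ?_⟩
      exact mul_inv_eq_iff_eq_mul.1 e2.symm
    choose v hv hval hcv using hform
    have hvmul : ∀ w w', v (w * w') = v w * v w' := fun w w' => tk_inj_so' hh (hv _)
      (fun q => (hv w q).mul (hv w' q)) (by
        rw [map_mul tk, ← hval, ← hval, ← hval, Subgroup.coe_mul, map_mul Dg, map_mul tk]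
        group)
    -- the axis
    have hpa : ∀ w, ∃ c : Fˣ, act (v w s₀) a₀ = (c : F) • a₀ := by
      intro w
      have e1 := conj_zz h2 (hv w s₀).1 a₀
      rw [(hcv w).eq, mul_inv_cancel_right] at e1
      have hn : act (v w s₀) a₀ ⬝ᵥ act (v w s₀) a₀ = 1 := by rw [dot_act h2 (hv w s₀).1, ha₀]
      have e2 : pj (act (v w s₀) a₀) = pj a₀ := by
        have e' := congrArg Units.val e1.symm
        rw [zz_val ha₀', zz_val (unit_ne hn), sub_left_inj] at e'
        exact smul_right_injective _ h2 e'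
      obtain ⟨c, hc⟩ := exists_eq_smul_of_pj_eq (unit_ne hn) e2.symm
      replace hc := hc.symm
      have hc0 : c ≠ 0 := fun h0 => by
        rw [hc, h0, zero_smul, zero_dotProduct] at hn
        exact zero_ne_one hn
      exact ⟨Units.mk0 c hc0, hc⟩
    choose c hc using hpa
    have ha₀0 : a₀ ≠ 0 := fun e => by rw [e, zero_dotProduct] at ha₀; exact zero_ne_one ha₀
    have hchom : ∀ w, c w = 1 := fun w => hom_comm_trivial h2 hh.odd' hh.three' hh.big'
      (MonoidHom.mk' c fun w w' => by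
        refine Units.ext (smul_left_injective F ha₀0 ?_)
        show (c (w * w') : F) • a₀ = ((c w * c w' : Fˣ) : F) • a₀
        rw [← hc, hvmul, Pi.mul_apply, act_mul, hc, map_smul, hc, smul_smul, Units.val_mul, mul_comm]) w
    have hfix : ∀ w, act (v w s₀) a₀ = a₀ := fun w => by rw [hc, hchom, Units.val_one, one_smul]
    have hsupp : ∀ w, SuppIn (1 - pj a₀) (v w s₀) := fun w => by
      have e1 : (v w s₀ : Matrix (Fin 3) (Fin 3) F) * pj a₀ = pj a₀ := by
        rw [pj, mul_smul_comm, Matrix.mul_vecMulVec, ← act_apply, hfix]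
      have e2 : (v w s₀ : Matrix (Fin 3) (Fin 3) F) * pj a₀ = pj a₀ * (v w s₀ : Matrix (Fin 3) (Fin 3) F) := by
        have e' := congrArg Units.val (hcv w).eq
        simp only [Units.val_mul, zz_val ha₀', mul_sub, sub_mul, mul_one, one_mul, sub_left_inj, mul_smul_comm,
          smul_mul_assoc] at e'
        exact smul_right_injective _ h2 e'
      exact ⟨(hv w s₀).1, by rw [sub_sub_cancel, e1], (Commute.one_right _).sub_right e2⟩
    let ψ : ↥(Om (Fin 3) F) →* GL (Fin 3) F := MonoidHom.mk' (fun w => v w s₀) fun w w' => congrFun (hvmul w w') s₀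
    letI : CommGroup ψ.range :=
      { (inferInstance : Group ψ.range) with
        mul_comm := by
          rintro ⟨_, w, rfl⟩ ⟨_, w', rfl⟩
          exact Subtype.ext (rot_commute h2 ha₀' (hsupp w) (hv w s₀).2 (hsupp w') (hv w' s₀).2).eq }
    have hv0 : ∀ w, v w s₀ = 1 := fun w => congrArg Subtype.val
      (hom_comm_trivial h2 hh.odd' hh.three' hh.big' ψ.rangeRestrict w)
    -- one frame element
    have hz := zz_single_mem (F := F) h2 hh.odd' (0 : Fin 3)
    set w₀ : ↥(Om (Fin 3) F) := ⟨_, hz⟩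
    have hd : g⁻¹ * tk (Dg w₀) * g = rt s₁ (v w₀ s₁) := by
      rw [hval, TW.rt_eq]
      refine congrArg tk (funext fun p => ?_)
      rcases hcov p with rfl | rfl
      · rw [hv0, Pi.mulSingle_eq_of_ne hs₁.symm]
      · rw [Pi.mulSingle_eq_same]
    have hvv : v w₀ s₁ * v w₀ s₁ = 1 := by
      have h11 : v 1 = 1 := tk_inj_so' hh (hv 1) (fun _ => so_one) (by
        rw [← hval, Subgroup.coe_one, map_one Dg, map_one tk, mul_one, inv_mul_cancel])
      have e1 := congrFun (hvmul w₀ w₀) s₁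
      rw [show w₀ * w₀ = 1 from Subtype.ext (zz_mul_self _), h11] at e1
      exact e1.symm
    have hv1 : v w₀ s₁ ≠ 1 := fun e => by
      rw [e, map_one] at hd
      have h1' : tk (Dg (w₀ : GL (Fin 3) F)) = 1 := by
        have := congrArg (fun d => g * d * g⁻¹) hd
        simpa [mul_assoc] using this
      have hD : ∀ q, SO (Dg (w₀ : GL (Fin 3) F) q) := fun q => by
        show SO (if q = r then _ else _)
        split
        · exact hzS 0
        · exact ((hu r).mul (hzS 0)).mul (hu r).inv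
      have := congrFun (tk_inj_so' hh hD (fun _ => so_one) (h1'.trans (map_one tk).symm)) r
      exact zz_ne_one hh (unit_ne (he 0)) (by simpa [Dg, w₀] using this)
    -- a slot involution of the swapped pair
    set z := rt r (zz (Pi.single 0 (1 : F) : Fin 3 → F))
    have hz' : IsX z := ⟨r, _, he 0, rfl⟩
    have hzD : Commute z (tk (Dg (w₀ : GL (Fin 3) F))) := by
      refine Commute.map (funext fun q => ?_) tk
      rcases eq_or_ne q r with rfl | hq
      · simp [Dg, w₀]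
      · simp [hq, Dg]
    have hnM : g⁻¹ * z * g ∈ M := mul_mem (mul_mem (inv_mem hg) (hT.isX_mem hz')) hg
    have hnd : Commute (g⁻¹ * z * g) (rt s₁ (v w₀ s₁)) := by
      rw [← hd]
      have := hzD.map (MulAut.conj g⁻¹).toMonoidHom
      simpa [MulAut.conj_apply] using this
    have hnW := hT.cent (hv w₀ s₁) hvv hv1 hnM hnd
    rcases hT.wr_or_swap (inv_mem hg) hz' (by rw [inv_inv]; exact hnW) with hgw | ⟨-, r', s', v', hrs', hv', -, -, hc'⟩
    · exact hgW ((Subgroup.inv_mem_iff _).1 hgw)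
    · simp only [inv_inv] at hc'
      have e1 := rt_conj_form (σ := Equiv.swap r' s') (u := v') (h := g⁻¹ * z * g)
        (fun f => by rw [hc' f, Equiv.symm_swap]) s₁ (v w₀ s₁)
      rw [hnd.eq, mul_inv_cancel_right] at e1
      have e2 := (rt_eq_rt hh (hv w₀ s₁) (((hv' s₁).mul (hv w₀ s₁)).mul (hv' s₁).inv) hv1 e1).1
      have : s₁ = r' ∨ s₁ = s' := by
        rcases eq_or_ne s₁ r' with h | h
        · exact Or.inl h
        · rcases hcov r' with e | e
          · rcases hcov s' with e' | e'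
            · exact absurd (e.trans e'.symm) hrs'
            · exact Or.inr e'.symm
          · exact absurd e.symm h
      rcases this with h | h
      · rw [h, Equiv.swap_apply_left] at e2; exact hrs' e2
      · rw [h, Equiv.swap_apply_right] at e2; exact hrs' e2.symm

/-- **no fusion** -/
theorem Top.fusion {g x : GL (S → Fin k) F} (hg : g ∈ M) (hx : IsX x) (hy : g * x * g⁻¹ ∈ Wr S k F) :
    g ∈ Wr S k F := by
  rcases hT.wr_or_swap hg hx hy with h | ⟨hk, r, s, u, hrs, hu, hu1, hus, hc⟩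
  · exact h
  · exact (hT.swap_false hg hx hk hrs hu hu1 hus hc).elim

theorem Top.isX_of_conj {g x : GL (S → Fin k) F} (hg : g ∈ M) (hx : IsX x) (hy : g * x * g⁻¹ ∈ Wr S k F) :
    IsX (g * x * g⁻¹) :=
  hT.isX_conj hg (hT.fusion hg hx hy) hx

end Cfsg.Agent.MaxCl.TOrth
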