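/-
The centralisers of products of two slot involutions, and the wreath product contains the overgroup.
-/
import Cfsg.Agent.Lib.MaxCl.TOrthFusion

set_option autoImplicit false
set_option linter.unusedSectionVars false

namespace Cfsg.Agent.MaxCl.TOrth

open Matrix
open TW (tk pm pg rt rid spl sl Wr)
open scoped MatrixGroups Kronecker

/-- two involutions are conjugate or centralise a common involution -/
theorem dihedral {G : Type*} [Group G] [Finite G] {a v : G} (ha : a * a = 1) (hv : v * v = 1) :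
    (∃ i : ℕ, (a * v) ^ i * v * ((a * v) ^ i)⁻¹ = a) ∨
      ∃ j : G, j * j = 1 ∧ j ≠ 1 ∧ Commute j a ∧ Commute j v ∧ (∃ i : ℕ, j = (a * v) ^ i) ∧
        ((∃ i : ℕ, (a * v) ^ i * a * ((a * v) ^ i)⁻¹ = j * a) ∧ (∃ i : ℕ, (a * v) ^ i * v * ((a * v) ^ i)⁻¹ = j * v) ∨
          (∃ i : ℕ, (a * v) ^ i * v * ((a * v) ^ i)⁻¹ = j * a) ∧
            ∃ i : ℕ, (a * v) ^ i * a * ((a * v) ^ i)⁻¹ = j * v) := by
  have ha' : a⁻¹ = a := inv_eq_of_mul_eq_one_right ha
  have hv' : v⁻¹ = v := inv_eq_of_mul_eq_one_right hv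
  set c := a * v with hc
  have hci : c⁻¹ = v * a := by rw [hc, _root_.mul_inv_rev, hv', ha']
  have hvc : ∀ i : ℕ, v * (c ^ i)⁻¹ = c ^ i * v := fun i => by
    have e1 : v * c⁻¹ * v⁻¹ = c := by
      rw [hci, hv', ← mul_assoc, hv, one_mul, hc]
    rw [← inv_pow, ← mul_inv_eq_iff_eq_mul, ← conj_pow, e1]
  have h1 : ∀ i : ℕ, c ^ i * v * (c ^ i)⁻¹ = c ^ (2 * i) * v := fun i => by
    rw [mul_assoc, hvc, ← mul_assoc, ← pow_add, two_mul]
  have hav : a = c * v := by rw [hc, mul_assoc, hv, mul_one]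
  have h1' : ∀ i : ℕ, c ^ i * a * (c ^ i)⁻¹ = c ^ (2 * i + 1) * v := fun i => by
    rw [hav, ← mul_assoc, mul_assoc _ v, hvc, ← mul_assoc, ← pow_succ, ← pow_add]
    congr 2
    omega
  have hn := orderOf_pos c
  rcases Nat.even_or_odd (orderOf c) with ⟨m, hm⟩ | ⟨i, hi⟩
  · refine Or.inr ⟨c ^ m, by rw [← pow_add, ← hm, pow_orderOf_eq_one], fun e => ?_, ?_, ?_, ⟨m, rfl⟩, ?_⟩
    · exact absurd (Nat.le_of_dvd (by omega) (orderOf_dvd_of_pow_eq_one e)) (by omega)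
    · have hm1 : (c ^ m)⁻¹ = c ^ m :=
        inv_eq_of_mul_eq_one_right (by rw [← pow_add, ← hm, pow_orderOf_eq_one])
      show c ^ m * a = a * c ^ m
      calc c ^ m * a = c * (c ^ m * v) := by rw [hav, ← mul_assoc, ← pow_succ, pow_succ', mul_assoc]
        _ = c * (v * c ^ m) := by rw [← hvc, hm1]
        _ = a * c ^ m := by rw [← mul_assoc, ← hav]
    · have hm1 : (c ^ m)⁻¹ = c ^ m :=
        inv_eq_of_mul_eq_one_right (by rw [← pow_add, ← hm, pow_orderOf_eq_one])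
      show c ^ m * v = v * c ^ m
      rw [← hvc, hm1]
    have ja : c ^ m * a = c ^ (m + 1) * v := by rw [hav, ← mul_assoc, ← pow_succ]
    rcases Nat.even_or_odd m with ⟨i, hi⟩ | ⟨i, hi⟩
    · exact Or.inl ⟨⟨i, by rw [h1', ja, hi, two_mul]⟩, ⟨i, by rw [h1, hi, two_mul]⟩⟩
    · exact Or.inr ⟨⟨i + 1, by rw [h1, ja, hi]; congr 2⟩, ⟨i, by rw [h1', hi]⟩⟩
  · refine Or.inl ⟨i + 1, ?_⟩
    rw [h1, show 2 * (i + 1) = orderOf c + 1 by omega, pow_succ, pow_orderOf_eq_one, one_mul, ← hav]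

theorem conj_comp {G : Type*} [Group G] (d g b : G) : d * g * b * (d * g)⁻¹ = d * (g * b * g⁻¹) * d⁻¹ := by
  group

variable {F : Type*} [Field F] {k : ℕ} {S : Type} [Fintype S] [DecidableEq S]

theorem zz_ne_zz (h2 : (2 : F) ≠ 0) {a b : Fin k → F} (ha : a ⬝ᵥ a = 1) (hb : b ⬝ᵥ b = 1) (hab : a ⬝ᵥ b = 0) :
    zz a ≠ zz b := by
  intro e
  have e' := congrArg (fun g : GL (Fin k) F => (g : Matrix (Fin k) (Fin k) F)) e
  simp only [zz_val (unit_ne ha), zz_val (unit_ne hb), sub_left_inj] at e'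
  have e1 : pj a = pj b := smul_right_injective _ h2 e'
  have := rk_pj (unit_ne ha)
  rw [← (pr_pj (unit_ne ha)).idem] at this
  nth_rewrite 2 [e1] at this
  rw [pj_mul_pj hab, rk_zero] at this
  omega

theorem zz_commute (h2 : (2 : F) ≠ 0) {a b : Fin k → F} (hab : a ⬝ᵥ b = 0) : Commute (zz a) (zz b) := by
  show -rf a * -rf b = -rf b * -rf a
  rw [neg_mul_neg, neg_mul_neg, (rf_commute h2 hab).eq]

theorem SO.pow {u : GL (Fin k) F} (h : SO u) : ∀ n : ℕ, SO (u ^ n)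
  | 0 => by rw [pow_zero]; exact so_one
  | n + 1 => by rw [pow_succ]; exact (h.pow n).mul h

theorem so_mulSingle_mul {s r : S} {u v : GL (Fin k) F} (hu : SO u) (hv : SO v) (q : S) :
    SO ((Pi.mulSingle s u * Pi.mulSingle r v : S → GL (Fin k) F) q) :=
  (so_single s hu q).mul (so_single r hv q)

variable [Finite F]

theorem rt_pair_inj (hh : Hyp k F) {a b c d : S} {u v p q : GL (Fin k) F} (hu : SO u) (hv : SO v) (hp : SO p)
    (hq : SO q) (hab : a ≠ b) (hcd : c ≠ d) (h1 : u ≠ 1) (h : rt a u * rt b v = rt c p * rt d q) :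
    rt a u = rt c p ∨ rt a u = rt d q := by
  rw [TW.rt_eq, TW.rt_eq, TW.rt_eq, TW.rt_eq, ← map_mul, ← map_mul] at h
  have e := congrFun (tk_inj_so' hh (so_mulSingle_mul hu hv) (so_mulSingle_mul hp hq) h) a
  rw [Pi.mul_apply, Pi.mul_apply, Pi.mulSingle_eq_same, Pi.mulSingle_eq_of_ne hab, mul_one] at e
  rcases eq_or_ne a c with rfl | hac
  · rw [Pi.mulSingle_eq_same, Pi.mulSingle_eq_of_ne hcd, mul_one] at e
    exact Or.inl (by rw [e])
  rcases eq_or_ne a d with rfl | had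
  · rw [Pi.mulSingle_eq_same, Pi.mulSingle_eq_of_ne hac, one_mul] at e
    exact Or.inr (by rw [e])
  rw [Pi.mulSingle_eq_of_ne hac, Pi.mulSingle_eq_of_ne had, one_mul] at e
  exact absurd e h1

theorem rt_pair_ne (hh : Hyp k F) {b c d : S} {w p q : GL (Fin k) F} (hw : SO w) (hp : SO p) (hq : SO q)
    (hcd : c ≠ d) (hp1 : p ≠ 1) (hq1 : q ≠ 1) : rt c p * rt d q ≠ rt b w := by
  intro h
  rw [TW.rt_eq, TW.rt_eq, TW.rt_eq, ← map_mul] at h
  have e := tk_inj_so' hh (so_mulSingle_mul hp hq) (so_single b hw) h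
  have ec := congrFun e c
  have ed := congrFun e d
  rw [Pi.mul_apply, Pi.mulSingle_eq_same, Pi.mulSingle_eq_of_ne hcd, mul_one] at ec
  rw [Pi.mul_apply, Pi.mulSingle_eq_same, Pi.mulSingle_eq_of_ne hcd.symm, one_mul] at ed
  by_cases hcb : c = b
  · rw [Pi.mulSingle_eq_of_ne fun e : d = b => hcd (hcb.trans e.symm)] at ed
    exact hq1 ed
  · rw [Pi.mulSingle_eq_of_ne hcb] at ec
    exact hp1 ec

variable {M : Subgroup (GL (S → Fin k) F)} (hT : Top M)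
include hT

theorem Top.isX_sq {x : GL (S → Fin k) F} (hx : IsX x) : x * x = 1 := by
  obtain ⟨s, a, -, rfl⟩ := hx
  rw [← map_mul, zz_mul_self, map_one]

/-- the centraliser of an involution that is a product in one slot -/
theorem Top.cent_same {s : S} {a c : Fin k → F} (ha : a ⬝ᵥ a = 1) (hc : c ⬝ᵥ c = 1)
    (hj : rt s (zz a) * rt s (zz c) * (rt s (zz a) * rt s (zz c)) = 1) (hj1 : rt s (zz a) * rt s (zz c) ≠ 1)
    {g : GL (S → Fin k) F} (hg : g ∈ M) (hgj : Commute g (rt s (zz a) * rt s (zz c))) : g ∈ Wr S k F := by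
  have hh := hT.hyp
  have hw : SO (zz a * zz c : GL (Fin k) F) :=
    (so_zz hh.h2 hh.odd (unit_ne ha)).mul (so_zz hh.h2 hh.odd (unit_ne hc))
  rw [← map_mul] at hj hj1 hgj
  rw [← map_mul] at hj
  refine hT.cent hw ?_ (fun e => hj1 (by rw [e, map_one])) hg hgj
  by_contra h1
  exact rt_ne_one hh s (hw.mul hw) h1 hj

/-- **the centraliser of a product of two distinguished involutions** -/
theorem Top.pairs {s₁ s₂ : S} (hs : s₁ ≠ s₂) {a₁ a₂ : Fin k → F} (ha₁ : a₁ ⬝ᵥ a₁ = 1) (ha₂ : a₂ ⬝ᵥ a₂ = 1)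
    {g : GL (S → Fin k) F} (hg : g ∈ M) (hc : Commute g (rt s₁ (zz a₁) * rt s₂ (zz a₂))) : g ∈ Wr S k F := by
  classical
  by_contra hgW
  have hh := hT.hyp
  have h2 := hh.h2
  have hS : ∀ {b : Fin k → F}, b ⬝ᵥ b = 1 → SO (zz b) := fun hb => so_zz h2 hh.odd (unit_ne hb)
  have hN : ∀ {b : Fin k → F}, b ⬝ᵥ b = 1 → zz b ≠ (1 : GL (Fin k) F) := fun hb => zz_ne_one hh (unit_ne hb)
  set x₁ := rt s₁ (zz a₁) with hx₁def
  set x₂ := rt s₂ (zz a₂) with hx₂def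
  have hx₁ : IsX x₁ := ⟨s₁, a₁, ha₁, rfl⟩
  have hx₂ : IsX x₂ := ⟨s₂, a₂, ha₂, rfl⟩
  set e := x₁ * x₂ with he
  have hx12 : Commute x₁ x₂ := rt_commute hs _ _
  have hx1e : Commute x₁ e := (Commute.refl x₁).mul_right hx12
  have hsq1 := hT.isX_sq hx₁
  have hcan : ∀ y, x₁ * (x₁ * y) = y := fun y => by rw [← mul_assoc, hsq1, one_mul]
  -- one slot involution commuting with the pair
  have key : ∀ (sb : S) (β : Fin k → F), β ⬝ᵥ β = 1 → Commute (rt sb (zz β)) e → rt sb (zz β) ≠ x₁ →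
      rt sb (zz β) ≠ x₂ → ∃ (r : S) (γ : Fin k → F) (f : S) (δ : Fin k → F), γ ⬝ᵥ γ = 1 ∧ δ ⬝ᵥ δ = 1 ∧
        r ≠ s₁ ∧ r ≠ s₂ ∧ f ≠ sb ∧
        g * (rt sb (zz β) * rt f (zz δ)) * g⁻¹ = x₁ * rt r (zz γ) := by
    intro sb β hβ hbe hb1 hb2
    set b := rt sb (zz β) with hbdef
    have hb : IsX b := ⟨sb, β, hβ, rfl⟩
    set v := g * b * g⁻¹ with hvdef
    have hve : Commute v e := (hc.mul_left hbe).mul_left hc.inv_left
    have hvM : v ∈ M := mul_mem (mul_mem hg (hT.isX_mem hb)) (inv_mem hg)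
    have hvv : v * v = 1 := by
      rw [hvdef, show g * b * g⁻¹ * (g * b * g⁻¹) = g * (b * b) * g⁻¹ by group, hT.isX_sq hb, mul_one, mul_inv_cancel]
    have hcM : ∀ i : ℕ, (x₁ * v) ^ i ∈ M := fun i => pow_mem (mul_mem (hT.isX_mem hx₁) hvM) i
    have hce : ∀ i : ℕ, Commute ((x₁ * v) ^ i) e := fun i => (hx1e.mul_left hve).pow_left i
    rcases dihedral hsq1 hvv with ⟨i, hi⟩ | ⟨j, hjj, hj1, hjx, hjv, ⟨i₀, hj⟩, hcase⟩
    · exfalso
      set h := (x₁ * v) ^ i * g with hhdef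
      have hhb : h * b * h⁻¹ = x₁ := (conj_comp _ g b).trans hi
      have hhM : h ∈ M := mul_mem (hcM i) hg
      have hhW : h ∈ Wr S k F := hT.fusion_x hhM hb (hhb ▸ hx₁)
      obtain ⟨σ, u, hu, hform⟩ := exists_conj_form hh (inv_mem hhW) (hT.ov.le (inv_mem hhM))
      have hhe : h⁻¹ * e * h⁻¹⁻¹ = e :=
        mul_inv_eq_iff_eq_mul.2 ((hce i).mul_left hc).inv_left.eq
      rw [he, ← conj_mul, hx₁def, hx₂def, rt_conj_form hform, rt_conj_form hform] at hhe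
      have hb' : b = rt (σ s₁) (u s₁ * zz a₁ * (u s₁)⁻¹) := by
        rw [← rt_conj_form hform, ← hx₁def, ← hhb]; group
      rcases rt_pair_inj hh (((hu s₁).mul (hS ha₁)).mul (hu s₁).inv) (((hu s₂).mul (hS ha₂)).mul (hu s₂).inv)
        (hS ha₁) (hS ha₂) (fun e => hs (σ.injective e)) hs (fun e => hN ha₁ (conj_eq_one_iff.1 e)) hhe with h' | h'
      · exact hb1 (hb'.trans h')
      · exact hb2 (hb'.trans h')
    have hjM : j ∈ M := hj ▸ hcM i₀
    have hje : Commute j e := hj ▸ hce i₀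
    have hjW : j ∈ Wr S k F := hT.cent_x hx₁ hjM hjx
    have hcW : j * x₁ ∈ Wr S k F := mul_mem hjW (by rw [hx₁def]; exact TW.rt_mem _ _)
    have hj'M : g⁻¹ * j * g ∈ M := mul_mem (mul_mem (inv_mem hg) hjM) hg
    have hj'b : Commute (g⁻¹ * j * g) b := by
      have := hjv.map (MulAut.conj g⁻¹).toMonoidHom
      simpa [MulAut.conj_apply, hvdef, mul_assoc] using this
    have hc'W : g⁻¹ * j * g * b ∈ Wr S k F :=
      mul_mem (hT.cent_x hb hj'M hj'b) (by rw [hbdef]; exact TW.rt_mem _ _)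
    obtain ⟨hC, hC'⟩ : IsX (j * x₁) ∧ IsX (g⁻¹ * j * g * b) := by
      rcases hcase with ⟨⟨i, hi⟩, ⟨i', hi'⟩⟩ | ⟨⟨i, hi⟩, ⟨i', hi'⟩⟩
      · refine ⟨hi ▸ hT.isX_of_conj (hcM i) hx₁ (by rw [hi]; exact hcW), ?_⟩
        have e1 : g⁻¹ * (x₁ * v) ^ i' * g * b * (g⁻¹ * (x₁ * v) ^ i' * g)⁻¹ = g⁻¹ * j * g * b := by
          calc _ = g⁻¹ * ((x₁ * v) ^ i' * v * ((x₁ * v) ^ i')⁻¹) * g := by rw [hvdef]; group
            _ = _ := by rw [hi', hvdef]; group
        exact e1 ▸ hT.isX_of_conj (mul_mem (mul_mem (inv_mem hg) (hcM i')) hg) hb (by rw [e1]; exact hc'W)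
      · constructor
        · have e1 : (x₁ * v) ^ i * g * b * ((x₁ * v) ^ i * g)⁻¹ = j * x₁ := by rw [← hi, hvdef]; group
          exact e1 ▸ hT.isX_of_conj (mul_mem (hcM i) hg) hb (by rw [e1]; exact hcW)
        · have e1 : g⁻¹ * (x₁ * v) ^ i' * x₁ * (g⁻¹ * (x₁ * v) ^ i')⁻¹ = g⁻¹ * j * g * b := by
            calc _ = g⁻¹ * ((x₁ * v) ^ i' * x₁ * ((x₁ * v) ^ i')⁻¹) * g := by group
              _ = _ := by rw [hi', hvdef]; group
          exact e1 ▸ hT.isX_of_conj (mul_mem (inv_mem hg) (hcM i')) hx₁ (by rw [e1]; exact hc'W)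
    obtain ⟨r, γ, hγ, hr⟩ := hC
    obtain ⟨f, δ, hδ, hf⟩ := hC'
    have hjc : j = x₁ * rt r (zz γ) := by rw [← hr, hjx.eq, hcan]
    have hj'c : g⁻¹ * j * g = b * rt f (zz δ) := by
      rw [← hf, hj'b.eq, ← mul_assoc, hT.isX_sq hb, one_mul]
    have hvW : v ∉ Wr S k F := fun h => hgW (hT.fusion hg hb h)
    have hrs1 : r ≠ s₁ := fun h => hvW (by
      rw [hx₁def, h] at hjc
      exact hT.cent_same ha₁ hγ (by rw [← hjc]; exact hjj) (by rw [← hjc]; exact hj1) hvM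
        (by rw [← hjc]; exact hjv.symm))
    have hfsb : f ≠ sb := fun h => hgW (by
      rw [hbdef, h] at hj'c
      have h1 : g⁻¹ * x₁ * g ∈ Wr S k F := hT.cent_same hβ hδ
        (by rw [← hj'c, show g⁻¹ * j * g * (g⁻¹ * j * g) = g⁻¹ * (j * j) * g by group, hjj]; group)
        (by rw [← hj'c]; exact fun h' => hj1 (by
          calc j = g * (g⁻¹ * j * g) * g⁻¹ := by group
            _ = 1 := by rw [h']; group))
        (mul_mem (mul_mem (inv_mem hg) (hT.isX_mem hx₁)) hg) (by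
          rw [← hj'c]
          have := hjx.symm.map (MulAut.conj g⁻¹).toMonoidHom
          simpa [MulAut.conj_apply, mul_assoc] using this)
      exact (Subgroup.inv_mem_iff _).1 (hT.fusion (inv_mem hg) hx₁ (by rwa [inv_inv])))
    have hrs2 : r ≠ s₂ := fun h => by
      rw [h] at hjc
      by_cases hx2 : rt s₂ (zz γ) = x₂
      · rw [hx2, ← he] at hjc
        rw [hjc, mul_assoc, hc.symm.eq, inv_mul_cancel_left, hbdef] at hj'c
        rcases rt_pair_inj hh (hS hβ) (hS hδ) (hS ha₁) (hS ha₂) hfsb.symm hs (hN hβ) hj'c.symm with h' | h'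
        · exact hb1 h'
        · exact hb2 h'
      · have hje' : j * e = rt s₂ (zz γ) * rt s₂ (zz a₂) := by
          rw [hjc, he, ← hx₂def, mul_assoc, ← mul_assoc (rt s₂ (zz γ)) x₁,
            show rt s₂ (zz γ) * x₁ = x₁ * rt s₂ (zz γ) from (rt_commute hs.symm _ _).eq, mul_assoc, hcan]
        refine hvW (hT.cent_same hγ ha₂ ?_ ?_ hvM (by rw [← hje']; exact hjv.symm.mul_right hve))
        · rw [← hje', hje.symm.mul_mul_mul_comm, hjj, one_mul, he, hx12.symm.mul_mul_mul_comm, hsq1, hT.isX_sq hx₂,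
            mul_one]
        · intro h'
          refine hx2 ?_
          rw [eq_inv_of_mul_eq_one_left h', ← map_inv, inv_eq_of_mul_eq_one_right (zz_mul_self a₂)]
    exact ⟨r, γ, f, δ, hγ, hδ, hrs1, hrs2, hfsb, by rw [← hj'c, ← hjc]; group⟩
  -- no other slot
  by_cases hthird : ∃ q, q ≠ s₁ ∧ q ≠ s₂
  swap
  · push Not at hthird
    have hσ := (pr_pj (unit_ne ha₁)).one_sub
    have hr := rk_one_sub (pr_pj (unit_ne ha₁))
    rw [rk_pj (unit_ne ha₁), Fintype.card_fin] at hr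
    have := hh.three
    obtain ⟨β, hβ', hβ⟩ := exists_value_pr h2 hσ (by omega) (1 : F)
    have hab : a₁ ⬝ᵥ β = 0 := by
      rw [← hβ', ← hσ.dot, Matrix.sub_mulVec, Matrix.one_mulVec, pj_self (unit_ne ha₁), sub_self, zero_dotProduct]
    obtain ⟨r, -, -, -, -, -, hr1, hr2, -⟩ := key s₁ β hβ
      (((zz_commute h2 hab).symm.map (rt s₁)).mul_right (rt_commute hs _ _))
      (fun e1 => zz_ne_zz h2 ha₁ hβ hab (rt_eq_rt hh (hS hβ) (hS ha₁) (hN hβ) e1).2.symm)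
      (fun e1 => hs (rt_eq_rt hh (hS hβ) (hS ha₂) (hN hβ) e1).1)
    exact hr2 (hthird r hr1)
  -- many other slots
  obtain ⟨q₀, hq₀⟩ := hthird
  let Q := {q : S // q ≠ s₁ ∧ q ≠ s₂}
  let E : Fin k → Fin k → F := fun l => Pi.single l 1
  have hE : ∀ l, E l ⬝ᵥ E l = 1 := fun l => by simp [E]
  have hk := fun p : Q × Fin k => key p.1.1 (E p.2) (hE p.2)
    ((rt_commute p.1.2.1 _ _).mul_right (rt_commute p.1.2.2 _ _))
    (fun e1 => p.1.2.1 (rt_eq_rt hh (hS (hE p.2)) (hS ha₁) (hN (hE p.2)) e1).1)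
    (fun e1 => p.1.2.2 (rt_eq_rt hh (hS (hE p.2)) (hS ha₂) (hN (hE p.2)) e1).1)
  choose R G Fs D hG hD hR1 hR2 hFs hrel using hk
  have hstep : ∀ p p' : Q × Fin k, p ≠ p' → R p = R p' → Fs p' ≠ p.1.1 → False := by
    intro p p' hpp hR hF
    set b := rt p.1.1 (zz (E p.2)) with hbdef
    set b' := rt p'.1.1 (zz (E p'.2)) with hb'def
    have hpz : p.1.1 = p'.1.1 → E p.2 ⬝ᵥ E p'.2 = 0 := fun h => by
      have : p.2 ≠ p'.2 := fun h' => hpp (Prod.ext (Subtype.ext h) h')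
      simp [E, this]
    have hbb : Commute b b' := by
      rcases eq_or_ne p.1.1 p'.1.1 with h | h
      · rw [hbdef, hb'def, h]
        exact (zz_commute h2 (hpz h)).map _
      · exact rt_commute h _ _
    set q := b * rt (Fs p) (zz (D p)) * (b' * rt (Fs p') (zz (D p'))) with hqdef
    have hbq : Commute b q := ((Commute.refl b).mul_right (rt_commute (hFs p).symm _ _)).mul_right
      (hbb.mul_right (rt_commute hF.symm _ _))
    have hgq : g * q * g⁻¹ = rt (R p) (zz (G p) * zz (G p')) := by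
      rw [hqdef, ← conj_mul, hrel, hrel, ← hR, map_mul]
      have : rt (R p) (zz (G p)) * x₁ = x₁ * rt (R p) (zz (G p)) := (rt_commute (hR1 p) _ _).eq
      rw [mul_assoc, ← mul_assoc (rt (R p) (zz (G p))) x₁, this, mul_assoc, hcan]
    set U : S → GL (Fin k) F := Pi.mulSingle p.1.1 (zz (E p.2)) * Pi.mulSingle (Fs p) (zz (D p)) *
      (Pi.mulSingle p'.1.1 (zz (E p'.2)) * Pi.mulSingle (Fs p') (zz (D p'))) with hUdef
    have hUS : ∀ x, SO (U x) := fun x =>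
      (so_mulSingle_mul (hS (hE p.2)) (hS (hD p)) x).mul (so_mulSingle_mul (hS (hE p'.2)) (hS (hD p')) x)
    have hqU : q = tk U := by
      rw [hqdef, hUdef, hbdef, hb'def, TW.rt_eq, TW.rt_eq, TW.rt_eq, TW.rt_eq, ← map_mul, ← map_mul, ← map_mul]
    obtain ⟨hW2, hW1⟩ : U p.1.1 * U p.1.1 = 1 ∧ U p.1.1 ≠ 1 := by
      have hU : U p.1.1 = zz (E p.2) * (Pi.mulSingle p'.1.1 (zz (E p'.2)) : S → GL (Fin k) F) p.1.1 := by
        simp [hUdef, (hFs p).symm, hF.symm]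
      rw [hU]
      rcases eq_or_ne p.1.1 p'.1.1 with h | h
      · rw [h, Pi.mulSingle_eq_same]
        refine ⟨?_, fun e1 => ?_⟩
        · rw [(zz_commute h2 (hpz h)).symm.mul_mul_mul_comm, zz_mul_self, zz_mul_self, mul_one]
        · exact zz_ne_zz h2 (hE p.2) (hE p'.2) (hpz h)
            ((eq_inv_of_mul_eq_one_left e1).trans (inv_eq_of_mul_eq_one_right (zz_mul_self _)))
      · rw [Pi.mulSingle_eq_of_ne h, mul_one]
        exact ⟨zz_mul_self _, hN (hE p.2)⟩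
    set n := orderOf q with hn
    have hWn : U p.1.1 ^ n = 1 := by
      have e1 : tk (U ^ n) = tk 1 := by rw [map_pow, ← hqU, hn, pow_orderOf_eq_one, map_one]
      have := congrFun (tk_inj_so' hh (fun x => by rw [Pi.pow_apply]; exact (hUS x).pow n) (fun _ => so_one) e1) p.1.1
      simpa using this
    obtain ⟨m, hm⟩ : 2 ∣ n := by
      rw [← orderOf_eq_prime (p := 2) (by rw [pow_two, hW2]) hW1]
      exact orderOf_dvd_of_pow_eq_one hWn
    have hwpow : ∀ l : ℕ, rt (R p) ((zz (G p) * zz (G p')) ^ l) = g * q ^ l * g⁻¹ := fun l => by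
      rw [map_pow, ← hgq, conj_pow]
    have hwS : SO (zz (G p) * zz (G p')) := (hS (hG p)).mul (hS (hG p'))
    have hbM : g * b * g⁻¹ ∈ M := mul_mem (mul_mem hg (hT.isX_mem ⟨p.1.1, E p.2, hE p.2, rfl⟩)) (inv_mem hg)
    refine hgW (hT.fusion hg (x := b) ⟨p.1.1, E p.2, hE p.2, rfl⟩
      (hT.cent (s := R p) (w := (zz (G p) * zz (G p')) ^ m) (hwS.pow m) ?_ ?_ hbM ?_))
    · rw [← pow_add, show m + m = n by omega]
      by_contra h1
      exact rt_ne_one hh (R p) (hwS.pow n) h1 (by rw [hwpow, hn, pow_orderOf_eq_one, mul_one, mul_inv_cancel])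
    · intro h1
      have h1' := hwpow m
      rw [h1, map_one] at h1'
      have hqm : q ^ m = 1 := conj_eq_one_iff.1 h1'.symm
      have hpos : 0 < n := hn ▸ orderOf_pos q
      exact absurd (Nat.le_of_dvd (by omega) (orderOf_dvd_of_pow_eq_one hqm)) (by omega)
    · rw [hwpow]
      exact (hbq.pow_right m).map (MulAut.conj g).toMonoidHom
  haveI : Nonempty Q := ⟨⟨q₀, hq₀⟩⟩
  obtain ⟨⟨r, hr⟩, hfib⟩ := Fintype.exists_lt_card_fiber_of_mul_lt_card
    (fun p : Q × Fin k => (⟨R p, hR1 p, hR2 p⟩ : Q)) (n := 2) (by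
      rw [Fintype.card_prod, Fintype.card_fin]
      have := hh.three
      have : 0 < Fintype.card Q := Fintype.card_pos
      nlinarith)
  obtain ⟨p₁, p₂, p₃, h1, h2', h3, h12, h13, h23⟩ := Finset.two_lt_card_iff.1 hfib
  simp only [Finset.mem_filter, Finset.mem_univ, true_and, Subtype.mk.injEq] at h1 h2' h3
  by_cases ha : Fs p₂ = p₁.1.1
  swap
  · exact hstep p₁ p₂ h12 (h1.trans h2'.symm) ha
  by_cases hb : Fs p₃ = p₁.1.1
  swap
  · exact hstep p₁ p₃ h13 (h1.trans h3.symm) hb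
  by_cases hc' : Fs p₁ = p₂.1.1
  swap
  · exact hstep p₂ p₁ h12.symm (h2'.trans h1.symm) hc'
  refine hstep p₂ p₃ h23 (h2'.trans h3.symm) fun hd => ?_
  exact hFs p₂ (by rw [ha, ← hb, hd])

/-- **the centraliser of an involution with a distinguished component** -/
theorem Top.goodz {U : S → GL (Fin k) F} (hU : ∀ q, SO (U q)) {s : S} {α : Fin k → F} (hα : α ⬝ᵥ α = 1)
    (hs : U s = zz α) {g : GL (S → Fin k) F} (hg : g ∈ M) (hc : Commute g (tk U)) : g ∈ Wr S k F := by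
  classical
  by_contra hgW
  have hh := hT.hyp
  have h2 := hh.h2
  have hσ := (pr_pj (unit_ne hα)).one_sub
  have hrk := rk_one_sub (pr_pj (unit_ne hα))
  rw [rk_pj (unit_ne hα), Fintype.card_fin] at hrk
  have := hh.three
  obtain ⟨β, hβ', hβ⟩ := exists_value_pr h2 hσ (by omega) (1 : F)
  have hab : α ⬝ᵥ β = 0 := by
    rw [← hβ', ← hσ.dot, Matrix.sub_mulVec, Matrix.one_mulVec, pj_self (unit_ne hα), sub_self, zero_dotProduct]
  set a := rt s (zz α) with hadef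
  set b := rt s (zz β) with hbdef
  have ha : IsX a := ⟨s, α, hα, rfl⟩
  have hb : IsX b := ⟨s, β, hβ, rfl⟩
  have hcomm : ∀ w, Commute w (zz α) → Commute (rt s w) (tk U) := fun w hw => by
    rw [TW.rt_eq]
    refine Commute.map (funext fun x => ?_) tk
    rcases eq_or_ne x s with rfl | hx
    · simp [hs, hw.eq]
    · simp [hx]
  have hae : Commute a (tk U) := hcomm _ (Commute.refl _)
  have hbe : Commute b (tk U) := hcomm _ (zz_commute h2 hab).symm
  set v := g * b * g⁻¹ with hvdef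
  have hve : Commute v (tk U) := (hc.mul_left hbe).mul_left hc.inv_left
  have hvM : v ∈ M := mul_mem (mul_mem hg (hT.isX_mem hb)) (inv_mem hg)
  have hvW : v ∉ Wr S k F := fun h => hgW (hT.fusion hg hb h)
  have hvv : v * v = 1 := by
    rw [hvdef, show g * b * g⁻¹ * (g * b * g⁻¹) = g * (b * b) * g⁻¹ by group, hT.isX_sq hb, mul_one, mul_inv_cancel]
  have hcM : ∀ i : ℕ, (a * v) ^ i ∈ M := fun i => pow_mem (mul_mem (hT.isX_mem ha) hvM) i
  rcases dihedral (hT.isX_sq ha) hvv with ⟨i, hi⟩ | ⟨j, hjj, hj1, hja, hjv, ⟨i₀, hj⟩, hcase⟩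
  · set h := (a * v) ^ i * g with hhdef
    have hhb : h * b * h⁻¹ = a := (conj_comp _ g b).trans hi
    have hhM : h ∈ M := mul_mem (hcM i) hg
    have hhW : h ∈ Wr S k F := hT.fusion_x hhM hb (hhb ▸ ha)
    obtain ⟨σ, u, hu, hform⟩ := exists_conj_form hh hhW (hT.ov.le hhM)
    rw [hbdef, rt_conj_form hform, hadef] at hhb
    obtain ⟨hσs, hu1⟩ := rt_eq_rt hh (((hu s).mul (so_zz h2 hh.odd (unit_ne hβ))).mul (hu s).inv)
      (so_zz h2 hh.odd (unit_ne hα)) (fun e1 => zz_ne_one hh (unit_ne hβ) (conj_eq_one_iff.1 e1)) hhb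
    have hhU : h * tk U * h⁻¹ = tk U := mul_inv_eq_iff_eq_mul.2 ((((hae.mul_left hve).pow_left i).mul_left hc).eq)
    rw [hform] at hhU
    have e1 := congrFun (tk_inj_so' hh (fun x => ((hu _).mul (hU _)).mul (hu _).inv) hU hhU) s
    rw [show σ.symm s = s from σ.symm_apply_eq.2 hσs.symm, hs] at e1
    exact zz_ne_zz h2 hα hβ hab (mul_left_cancel (mul_right_cancel (e1.trans hu1.symm)))
  have hjM : j ∈ M := hj ▸ hcM i₀
  have hjW : j ∈ Wr S k F := hT.cent_x ha hjM hja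
  have hcW : j * a ∈ Wr S k F := mul_mem hjW (by rw [hadef]; exact TW.rt_mem _ _)
  have hC : IsX (j * a) := by
    rcases hcase with ⟨⟨i, hi⟩, -⟩ | ⟨⟨i, hi⟩, -⟩
    · exact hi ▸ hT.isX_of_conj (hcM i) ha (by rw [hi]; exact hcW)
    · have e1 : (a * v) ^ i * g * b * ((a * v) ^ i * g)⁻¹ = j * a := by rw [← hi, hvdef]; group
      exact e1 ▸ hT.isX_of_conj (mul_mem (hcM i) hg) hb (by rw [e1]; exact hcW)
  obtain ⟨r, γ, hγ, hr⟩ := hC
  have hjc : j = a * rt r (zz γ) := by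
    rw [← hr, hja.eq, ← mul_assoc, hT.isX_sq ha, one_mul]
  rcases eq_or_ne r s with hrs | hrs
  · rw [hadef, hrs] at hjc
    exact hvW (hT.cent_same hα hγ (by rw [← hjc]; exact hjj) (by rw [← hjc]; exact hj1) hvM
      (by rw [← hjc]; exact hjv.symm))
  · exact hvW (hT.pairs hrs.symm hα hγ hvM (by rw [← hadef, ← hjc]; exact hjv.symm))

/-- **an overgroup with local wreath centralisers lies in the wreath product** -/
theorem Top.le_wr [Nontrivial S] : M ≤ Wr S k F := by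
  classical
  intro g₀ hg₀
  have hh := hT.hyp
  have h2 := hh.h2
  obtain ⟨s₁, s₂, hs⟩ := exists_pair_ne S
  set α : Fin k → F := Pi.single ⟨0, hh.odd.pos⟩ 1
  have hα : α ⬝ᵥ α = 1 := by simp [α]
  have hS := so_zz h2 hh.odd (unit_ne hα)
  have hN := zz_ne_one hh (unit_ne hα)
  set x₁ := rt s₁ (zz α) with hx₁def
  have hx₁ : IsX x₁ := ⟨s₁, α, hα, rfl⟩
  set x₂ := rt s₂ (zz α) with hx₂def
  set p := x₁ * x₂ with hpdef
  have hpM : p ∈ M := mul_mem (hT.isX_mem hx₁) (hT.isX_mem ⟨s₂, α, hα, rfl⟩)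
  by_cases hall : ∀ g ∈ M, g * p * g⁻¹ ∈ Wr S k F
  · -- a normal subgroup inside the wreath product
    let N : Subgroup (GL (S → Fin k) F) :=
      { carrier := {y | ∀ g ∈ M, g * y * g⁻¹ ∈ Wr S k F}
        one_mem' := fun g _ => by rw [mul_one, mul_inv_cancel]; exact one_mem _
        mul_mem' := fun {y z} hy hz g hg => by rw [← conj_mul]; exact mul_mem (hy g hg) (hz g hg)
        inv_mem' := fun {y} hy g hg => by rw [← conj_inv]; exact inv_mem (hy g hg) }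
    have hnorm : ∀ a ∈ M, ∀ y ∈ N, a * y * a⁻¹ ∈ N := fun a ha y hy g hg => by
      have := hy (g * a) (mul_mem hg ha)
      simpa [mul_assoc] using this
    have hpN : p ∈ N := hall
    obtain ⟨w, hw, hwne⟩ : ∃ w ∈ Om (Fin k) F, w * zz α * w⁻¹ * (zz α)⁻¹ ≠ 1 := by
      by_contra hc
      push Not at hc
      exact hN (eq_one_of_commute hh (zz_mem h2 hh.odd' (unit_ne hα) (by rw [hα]; exact IsSquare.one)) fun w hw =>
        (mul_inv_eq_iff_eq_mul.1 (mul_inv_eq_one.1 (hc w hw))).symm)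
    have hmem : rt s₁ (w * zz α * w⁻¹ * (zz α)⁻¹) ∈ N := by
      have hwM := hT.ov.rt_mem h2 s₁ hw
      have e1 : rt s₁ (w * zz α * w⁻¹ * (zz α)⁻¹) = rt s₁ w * p * (rt s₁ w)⁻¹ * p⁻¹ := by
        have hc : rt s₁ w * x₂ = x₂ * rt s₁ w := (rt_commute hs _ _).eq
        rw [map_mul, map_mul, map_mul, map_inv, map_inv, hpdef, _root_.mul_inv_rev, ← hx₁def]
        simp only [mul_assoc]
        rw [← mul_assoc x₂ (rt s₁ w)⁻¹, show x₂ * (rt s₁ w)⁻¹ = (rt s₁ w)⁻¹ * x₂ from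
          ((Commute.inv_left hc).eq).symm, mul_assoc, mul_inv_cancel_left]
      rw [e1]
      exact mul_mem (hnorm _ hwM _ hpN) (inv_mem hpN)
    have hzN : x₁ ∈ N :=
      om_le_of_normal h2 hh.odd' hh.three' hh.big' (N := N.comap (rt s₁))
        (fun a ha x hx _ => by
          rw [Subgroup.mem_comap, map_mul, map_mul, map_inv]
          exact hnorm _ (hT.ov.rt_mem h2 s₁ ha) _ hx) hmem
        (mul_mem (conj_mem_om (om_le_orth hw) (zz_mem h2 hh.odd' (unit_ne hα) (by rw [hα]; exact IsSquare.one)))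
          (inv_mem (zz_mem h2 hh.odd' (unit_ne hα) (by rw [hα]; exact IsSquare.one)))) hwne
        (zz_mem h2 hh.odd' (unit_ne hα) (by rw [hα]; exact IsSquare.one))
    exact hT.fusion hg₀ hx₁ (hzN g₀ hg₀)
  exfalso
  push Not at hall
  obtain ⟨g, hg, hvW⟩ := hall
  set v := g * p * g⁻¹ with hvdef
  have hvM : v ∈ M := mul_mem (mul_mem hg hpM) (inv_mem hg)
  have hvv : v * v = 1 := by
    rw [hvdef, show g * p * g⁻¹ * (g * p * g⁻¹) = g * (p * p) * g⁻¹ by group, hpdef,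
      (rt_commute hs (zz α) (zz α)).symm.mul_mul_mul_comm, hT.isX_sq hx₁, ← map_mul, zz_mul_self, map_one, mul_one,
      mul_one, mul_inv_cancel]
  have hcM : ∀ i : ℕ, (x₁ * v) ^ i ∈ M := fun i => pow_mem (mul_mem (hT.isX_mem hx₁) hvM) i
  have hpW : p ∈ Wr S k F := mul_mem (TW.rt_mem _ _) (TW.rt_mem _ _)
  rcases dihedral (hT.isX_sq hx₁) hvv with ⟨i, hi⟩ | ⟨j, hjj, hj1, hjx, hjv, ⟨i₀, hj⟩, hcase⟩
  · set h := (x₁ * v) ^ i * g with hhdef
    have hp' : h⁻¹ * x₁ * h⁻¹⁻¹ = p := by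
      calc h⁻¹ * x₁ * h⁻¹⁻¹ = h⁻¹ * (h * p * h⁻¹) * h⁻¹⁻¹ :=
            congrArg (fun y => h⁻¹ * y * h⁻¹⁻¹) ((conj_comp _ g p).trans hi).symm
        _ = p := by group
    obtain ⟨r, β, hβ, hr⟩ := hT.isX_of_conj (inv_mem (mul_mem (hcM i) hg)) hx₁ (by rw [hp']; exact hpW)
    rw [hp'] at hr
    exact rt_pair_ne hh (so_zz h2 hh.odd (unit_ne hβ)) hS hS hs hN hN hr
  have hjM : j ∈ M := hj ▸ hcM i₀
  have hjW : j ∈ Wr S k F := hT.cent_x hx₁ hjM hjx
  have hcW : j * x₁ ∈ Wr S k F := mul_mem hjW (by rw [hx₁def]; exact TW.rt_mem _ _)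
  have hjxx : j * x₁ * x₁ = j := by rw [mul_assoc, hT.isX_sq hx₁, mul_one]
  rcases hcase with ⟨⟨i, hi⟩, -⟩ | ⟨⟨i, hi⟩, -⟩
  · obtain ⟨r, γ, hγ, hr⟩ : IsX (j * x₁) := hi ▸ hT.isX_of_conj (hcM i) hx₁ (by rw [hi]; exact hcW)
    rw [hr, hx₁def] at hjxx
    rcases eq_or_ne r s₁ with hrs | hrs
    · rw [hrs] at hjxx
      exact hvW (hT.cent_same hγ hα (by rw [hjxx]; exact hjj) (by rw [hjxx]; exact hj1) hvM
        (by rw [hjxx]; exact hjv.symm))
    · exact hvW (hT.pairs hrs hγ hα hvM (by rw [hjxx]; exact hjv.symm))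
  · set h := (x₁ * v) ^ i * g with hhdef
    have hhp : h * p * h⁻¹ = j * x₁ := (conj_comp _ g p).trans hi
    have hhM : h ∈ M := mul_mem (hcM i) hg
    have hn : Commute (h⁻¹ * x₁ * h) p := by
      have h1 : Commute x₁ (j * x₁) := hjx.symm.mul_right (Commute.refl _)
      rw [← hhp] at h1
      have := h1.map (MulAut.conj h⁻¹).toMonoidHom
      simpa [MulAut.conj_apply, mul_assoc] using this
    have hnW : h⁻¹ * x₁ * h ∈ Wr S k F :=
      hT.pairs hs hα hα (mul_mem (mul_mem (inv_mem hhM) (hT.isX_mem hx₁)) hhM) hn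
    have hhW : h ∈ Wr S k F :=
      (Subgroup.inv_mem_iff _).1 (hT.fusion (inv_mem hhM) hx₁ (by rwa [inv_inv]))
    obtain ⟨σ, u, hu, hform⟩ := exists_conj_form hh hhW (hT.ov.le hhM)
    rw [hpdef, ← conj_mul, hx₁def, hx₂def, rt_conj_form hform, rt_conj_form hform, conj_zz h2 (hu s₁).1,
      conj_zz h2 (hu s₂).1, ← hx₁def] at hhp
    set β₁ := act (u s₁) α
    set β₂ := act (u s₂) α
    have hβ₁ : β₁ ⬝ᵥ β₁ = 1 := by rw [dot_act h2 (hu s₁).1, hα]
    have hβ₂ : β₂ ⬝ᵥ β₂ = 1 := by rw [dot_act h2 (hu s₂).1, hα]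
    set U : S → GL (Fin k) F := Pi.mulSingle (σ s₁) (zz β₁) * Pi.mulSingle (σ s₂) (zz β₂) * Pi.mulSingle s₁ (zz α)
    have hU : ∀ q, SO (U q) := fun q =>
      (so_mulSingle_mul (so_zz h2 hh.odd (unit_ne hβ₁)) (so_zz h2 hh.odd (unit_ne hβ₂)) q).mul (so_single s₁ hS q)
    have hjU : j = tk U := by
      rw [map_mul, map_mul, ← TW.rt_eq, ← TW.rt_eq, ← TW.rt_eq, hhp, ← hx₁def, hjxx]
    have hσ : σ s₁ ≠ σ s₂ := fun e1 => hs (σ.injective e1)
    rcases ne_or_eq (σ s₁) s₁ with h1 | h1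
    · exact hvW (hT.goodz (s := σ s₁) hU hβ₁ (by simp [U, hσ, h1]) hvM (by rw [← hjU]; exact hjv.symm))
    · have h2' : σ s₂ ≠ s₁ := fun e1 => hσ (h1.trans e1.symm)
      exact hvW (hT.goodz (s := σ s₂) hU hβ₂ (by simp [U, hσ.symm, h2']) hvM (by rw [← hjU]; exact hjv.symm))

end Cfsg.Agent.MaxCl.TOrth
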