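/-
An overgroup of the tensor structure containing one slot element acting on a proper summand of another slot
contains the derived isometry group.
-/
import Cfsg.Agent.Lib.MaxCl.TOrthSiegel
import Cfsg.Agent.Lib.MaxCl.TOrthCombi

set_option autoImplicit false
set_option linter.unusedSectionVars false

namespace Cfsg.Agent.MaxCl.TOrth

open Matrix
open TW (tk pm pg rt rid spl sl Wr tp)
open scoped MatrixGroups Kronecker

variable {F : Type*} [Field F] {k : ℕ}

section Factor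

variable {β : Type} [Fintype β] [DecidableEq β]

theorem lel_eq {P : Matrix β β F} (hP : Pr P) (y : GL (Fin k) F) :
    (lelHom hP y : Matrix (β × Fin k) (β × Fin k) F) = 1 + P ⊗ₖ ((y : Matrix (Fin k) (Fin k) F) - 1) := by
  have e : P ⊗ₖ ((y : Matrix (Fin k) (Fin k) F) - 1) + P ⊗ₖ (1 : Matrix (Fin k) (Fin k) F) =
      P ⊗ₖ (y : Matrix (Fin k) (Fin k) F) := by rw [← Matrix.kronecker_add, sub_add_cancel]
  have e1 : (1 - P) ⊗ₖ (1 : Matrix (Fin k) (Fin k) F) + P ⊗ₖ (1 : Matrix (Fin k) (Fin k) F) = 1 := by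
    rw [← Matrix.add_kronecker, sub_add_cancel, Matrix.one_kronecker_one]
  rw [lelHom_val, ← e, ← e1]
  abel

theorem lel_compl {P : Matrix β β F} (hP : Pr P) (y : GL (Fin k) F) :
    lelHom hP y * lelHom hP.one_sub y = inr β k F y := by
  refine Units.ext ?_
  rw [Units.val_mul, lelHom_val, lelHom_val, inr_val]
  simp only [sub_sub_cancel, add_mul, mul_add, ← Matrix.mul_kronecker_mul, one_mul, mul_one, hP.idem,
    hP.mul_one_sub, hP.one_sub_mul, hP.one_sub.idem, Matrix.zero_kronecker, add_zero, zero_add]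
  rw [← Matrix.add_kronecker, add_sub_cancel]

theorem lel_conj (h2 : (2 : F) ≠ 0) {P : Matrix β β F} (hP : Pr P) {a : GL β F} (ha : a ∈ Orth β F)
    (c y : GL (Fin k) F) (hP' : Pr ((a : Matrix β β F) * P * (a : Matrix β β F)ᵀ)) :
    TP.kr (a, c) * lelHom hP y * (TP.kr (a, c))⁻¹ = lelHom hP' (c * y * c⁻¹) := by
  refine Units.ext ?_
  rw [Units.val_mul, Units.val_mul, ← map_inv, Prod.inv_mk, kr_val, kr_val, lelHom_val, lelHom_val,
    inv_val h2 ha]
  simp only [add_mul, mul_add, ← Matrix.mul_kronecker_mul, mul_one, Units.val_mul, mul_sub, sub_mul,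
    mul_transpose h2 ha]
  rw [← Units.val_mul c c⁻¹, mul_inv_cancel, Units.val_one]

theorem lel_comm {P Q : Matrix β β F} (hP : Pr P) (hQ : Pr Q) (hPQ : Commute P Q) (hR : Pr (P * Q))
    (y z : GL (Fin k) F) :
    lelHom hP y * lelHom hQ z * (lelHom hP y)⁻¹ * (lelHom hQ z)⁻¹ = lelHom hR (y * z * y⁻¹ * z⁻¹) := by
  rw [mul_inv_eq_iff_eq_mul, mul_inv_eq_iff_eq_mul]
  refine Units.ext ?_
  simp only [Units.val_mul, lelHom_val]
  have hPP := hP.idem
  have hQQ := hQ.idem
  have eQP : Q * P = P * Q := hPQ.eq.symm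
  have e1 : P * (P * Q) = P * Q := by rw [← mul_assoc, hPP]
  have e2 : Q * (P * Q) = P * Q := by rw [← mul_assoc, eQP, mul_assoc, hQQ]
  have e3 : P * Q * P = P * Q := by rw [mul_assoc, eQP, e1]
  have e4 : P * Q * Q = P * Q := by rw [mul_assoc, hQQ]
  have e5 : P * Q * (P * Q) = P * Q := by rw [← mul_assoc, e3, e4]
  have hcz : ((y * z * y⁻¹ * z⁻¹ : GL (Fin k) F) : Matrix (Fin k) (Fin k) F) * (z : Matrix (Fin k) (Fin k) F) *
      (y : Matrix (Fin k) (Fin k) F) = (y : Matrix (Fin k) (Fin k) F) * (z : Matrix (Fin k) (Fin k) F) := by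
    rw [← Units.val_mul, ← Units.val_mul, ← Units.val_mul]
    congr 1
    group
  rw [← Units.val_mul, ← Units.val_mul, ← Units.val_mul]
  simp only [add_mul, mul_add, ← Matrix.mul_kronecker_mul, one_mul, mul_one, sub_mul, mul_sub, hPP, hQQ, eQP, e1,
    e2, e3, e4, e5, sub_self, sub_zero, Matrix.zero_kronecker, add_zero, zero_add, hcz]
  abel

end Factor

variable {S : Type} [Fintype S] [DecidableEq S]

/-- the slot element of the `π`-part of the slot `s` on the slot `r`, as a matrix -/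
def ctlMat (s r : S) (π : Matrix (Fin k) (Fin k) F) (A : Matrix (Fin k) (Fin k) F) : Matrix (S → Fin k) (S → Fin k) F :=
  1 + pm (Function.update (Function.update 1 s π) r (A - 1))

theorem lel_ctl {s r : S} (hrs : r ≠ s) {π : Matrix (Fin k) (Fin k) F} (hπ : Pr π) (y : GL (Fin k) F) :
    (((rid r).symm (lelHom (pr_sl (⟨s, hrs.symm⟩ : {x // x ≠ r}) hπ) y) : GL (S → Fin k) F) :
      Matrix (S → Fin k) (S → Fin k) F) = ctlMat s r π (y : Matrix (Fin k) (Fin k) F) := by
  have e : (rid r ((rid r).symm (lelHom (pr_sl (⟨s, hrs.symm⟩ : {x // x ≠ r}) hπ) y)) :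
      Matrix (({x // x ≠ r} → Fin k) × Fin k) (({x // x ≠ r} → Fin k) × Fin k) F) =
      (ctlMat s r π (y : Matrix (Fin k) (Fin k) F)).submatrix (spl r).symm (spl r).symm := by
    rw [MulEquiv.apply_symm_apply, lel_eq, ctlMat, Matrix.submatrix_add, Pi.add_apply, Pi.add_apply,
      Matrix.submatrix_one_equiv, TW.pm_split, Function.update_self]
    congr 2
    show pm (Pi.mulSingle _ π) = _
    refine congrArg pm (funext fun x => ?_)
    rw [Function.update_of_ne x.2]
    rcases eq_or_ne x ⟨s, hrs.symm⟩ with rfl | hx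
    · simp
    · rw [Pi.mulSingle_eq_of_ne hx, Function.update_of_ne fun e => hx (Subtype.ext e)]
      rfl
  rw [TW.rid_val] at e
  ext a b
  simpa using congrFun (congrFun e (spl r a)) (spl r b)

theorem el_ctl {s r : S} (hrs : r ≠ s) {π : Matrix (Fin k) (Fin k) F} (hπ : Pr π) (y : GL (Fin k) F) :
    (((rid s).symm (elHom (⟨r, hrs⟩ : {x // x ≠ s}) hπ y) : GL (S → Fin k) F) :
      Matrix (S → Fin k) (S → Fin k) F) = ctlMat s r π (y : Matrix (Fin k) (Fin k) F) := by
  set r' : {x // x ≠ s} := ⟨r, hrs⟩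
  have hel : el r' π y = 1 + sl r' ((y : Matrix (Fin k) (Fin k) F) - 1) ⊗ₖ π := by
    have e : sl r' ((y : Matrix (Fin k) (Fin k) F) - 1) + 1 =
        (rt r' y : Matrix ({x // x ≠ s} → Fin k) ({x // x ≠ s} → Fin k) F) := by
      rw [sl_eq_rt]
      conv_rhs => rw [← sub_add_cancel (y : Matrix (Fin k) (Fin k) F) 1, TW.sl_add, map_one]
    rw [el, ← e, Matrix.add_kronecker]
    have e1 : rgt ({x // x ≠ s} → Fin k) (1 - π) + (1 : Matrix _ _ F) ⊗ₖ π = 1 := by
      rw [← Matrix.kronecker_add, sub_add_cancel, Matrix.one_kronecker_one]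
    rw [← e1]
    abel
  have e : (rid s ((rid s).symm (elHom r' hπ y)) :
      Matrix (({x // x ≠ s} → Fin k) × Fin k) (({x // x ≠ s} → Fin k) × Fin k) F) =
      (ctlMat s r π (y : Matrix (Fin k) (Fin k) F)).submatrix (spl s).symm (spl s).symm := by
    rw [MulEquiv.apply_symm_apply, elHom_val, hel, ctlMat, Matrix.submatrix_add, Pi.add_apply, Pi.add_apply,
      Matrix.submatrix_one_equiv, TW.pm_split, Function.update_of_ne hrs.symm, Function.update_self]
    congr 2
    show pm (Pi.mulSingle _ _) = _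
    refine congrArg pm (funext fun x => ?_)
    rcases eq_or_ne x r' with rfl | hx
    · simp [r']
    · rw [Pi.mulSingle_eq_of_ne hx, Function.update_of_ne fun e => hx (Subtype.ext e), Function.update_of_ne x.2]
      rfl
  rw [TW.rid_val] at e
  ext a b
  simpa using congrFun (congrFun e (spl s a)) (spl s b)

variable (M : Subgroup (GL (S → Fin k) F))

/-- controlled elements in the group -/
def Ctl (r : S) (P : Matrix ({x // x ≠ r} → Fin k) ({x // x ≠ r} → Fin k) F) : Prop :=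
  ∃ hP : Pr P, ∀ y ∈ Om (Fin k) F, (rid r).symm (lelHom hP y) ∈ M

variable {M} [Finite F] (hh : Hyp k F) (hM : Ov M)
include hh hM

/-- one element gives all -/
theorem ctl_of_one {r : S} {P : Matrix ({x // x ≠ r} → Fin k) ({x // x ≠ r} → Fin k) F} (hP : Pr P)
    {y : GL (Fin k) F} (hy : y ∈ Om (Fin k) F) (hy1 : y ≠ 1) (hg : (rid r).symm (lelHom hP y) ∈ M) : Ctl M r P := by
  have h2 := hh.h2
  refine ⟨hP, fun z hz => ?_⟩
  let N : Subgroup (GL (Fin k) F) := M.comap ((rid r).symm.toMonoidHom.comp (lelHom hP))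
  refine om_le_of_normal h2 hh.odd' hh.three' hh.big' (N := N) (fun a ha x hx _ => ?_) (x := y) hg hy hy1 hz
  rw [Subgroup.mem_comap] at hx ⊢
  simp only [MonoidHom.comp_apply, MulEquiv.coe_toMonoidHom] at hx ⊢
  have e : (rid r).symm (lelHom hP (a * x * a⁻¹)) = rt r a * (rid r).symm (lelHom hP x) * (rt r a)⁻¹ := by
    refine (rid r).injective ?_
    rw [map_mul (rid r), map_mul (rid r), map_inv (rid r), MulEquiv.apply_symm_apply, MulEquiv.apply_symm_apply,
      rid_rt', show inr ({x // x ≠ r} → Fin k) k F a = TP.kr ((1 : GL _ F), a) from rfl,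
      lel_conj h2 hP (one_mem _) a x (by rw [Units.val_one, one_mul, Matrix.transpose_one, mul_one]; exact hP)]
    simp only [Units.val_one, Matrix.transpose_one, one_mul, mul_one]
  rw [e]
  exact mul_mem (mul_mem (hM.rt_mem h2 r ha) hx) (inv_mem (hM.rt_mem h2 r ha))

theorem Ctl.compl {r : S} {P : Matrix ({x // x ≠ r} → Fin k) ({x // x ≠ r} → Fin k) F} (h : Ctl M r P) :
    Ctl M r (1 - P) := by
  obtain ⟨hP, hmem⟩ := h
  refine ⟨hP.one_sub, fun y hy => ?_⟩
  have e : (rid r).symm (lelHom hP.one_sub y) = ((rid r).symm (lelHom hP y))⁻¹ * rt r y := by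
    refine (rid r).injective ?_
    rw [map_mul (rid r), map_inv (rid r), MulEquiv.apply_symm_apply, MulEquiv.apply_symm_apply, rid_rt',
      ← lel_compl hP y, inv_mul_cancel_left]
  rw [e]
  exact mul_mem (inv_mem (hmem y hy)) (hM.rt_mem hh.h2 r hy)

theorem Ctl.prod {r : S} {P Q : Matrix ({x // x ≠ r} → Fin k) ({x // x ≠ r} → Fin k) F} (h : Ctl M r P)
    (h' : Ctl M r Q) (hPQ : Commute P Q) : Ctl M r (P * Q) := by
  obtain ⟨hP, hmem⟩ := h
  obtain ⟨hQ, hmem'⟩ := h'
  have hR : Pr (P * Q) := ⟨by rw [Matrix.transpose_mul, hP.symm, hQ.symm, hPQ.eq], by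
    rw [mul_assoc, ← mul_assoc Q, ← hPQ.eq, mul_assoc, hQ.idem, ← mul_assoc, hP.idem]⟩
  obtain ⟨y, hy, hy1⟩ := exists_om_ne_one hh
  obtain ⟨z, hz, hne⟩ : ∃ z ∈ Om (Fin k) F, y * z * y⁻¹ * z⁻¹ ≠ 1 := by
    by_contra hc
    push Not at hc
    exact hy1 (eq_one_of_commute hh hy fun w hw => mul_inv_eq_iff_eq_mul.1 (mul_inv_eq_one.1 (hc w hw)))
  refine ctl_of_one hh hM hR (mul_mem (mul_mem (mul_mem hy hz) (inv_mem hy)) (inv_mem hz)) hne ?_
  rw [← lel_comm hP hQ hPQ hR y z]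
  simp only [map_mul, map_inv]
  exact mul_mem (mul_mem (mul_mem (hmem y hy) (hmem' z hz)) (inv_mem (hmem y hy))) (inv_mem (hmem' z hz))

theorem Ctl.conj {r : S} {P : Matrix ({x // x ≠ r} → Fin k) ({x // x ≠ r} → Fin k) F} (h : Ctl M r P)
    {a : GL ({x // x ≠ r} → Fin k) F} (ha : a ∈ Orth ({x // x ≠ r} → Fin k) F) {c : GL (Fin k) F}
    (hc : c ∈ Orth (Fin k) F) (hz : (rid r).symm (TP.kr (a, c)) ∈ M) :
    Ctl M r ((a : Matrix ({x // x ≠ r} → Fin k) ({x // x ≠ r} → Fin k) F) * P *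
      (a : Matrix ({x // x ≠ r} → Fin k) ({x // x ≠ r} → Fin k) F)ᵀ) := by
  obtain ⟨hP, hmem⟩ := h
  have h2 := hh.h2
  have hP' : Pr ((a : Matrix ({x // x ≠ r} → Fin k) ({x // x ≠ r} → Fin k) F) * P *
      (a : Matrix ({x // x ≠ r} → Fin k) ({x // x ≠ r} → Fin k) F)ᵀ) := by
    refine ⟨by rw [Matrix.transpose_mul, Matrix.transpose_mul, Matrix.transpose_transpose, hP.symm, mul_assoc], ?_⟩
    set A := (a : Matrix ({x // x ≠ r} → Fin k) ({x // x ≠ r} → Fin k) F)
    calc A * P * Aᵀ * (A * P * Aᵀ) = A * P * (Aᵀ * A) * P * Aᵀ := by simp only [mul_assoc]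
      _ = _ := by rw [transpose_mul h2 ha, mul_one, mul_assoc A P P, hP.idem]
  refine ⟨hP', fun y hy => ?_⟩
  have hy' := hmem (c⁻¹ * y * c) (by simpa using conj_mem_om (inv_mem hc) hy)
  have := mul_mem (mul_mem hz hy') (inv_mem hz)
  rwa [← map_inv, ← map_mul, ← map_mul, lel_conj h2 hP ha c _ hP',
    show c * (c⁻¹ * y * c) * c⁻¹ = y by group] at this

/-- projections of one slot -/
theorem ctl_conj_slot {s r : S} (hrs : r ≠ s) {π : Matrix (Fin k) (Fin k) F}
    (h : Ctl M r (sl (⟨s, hrs.symm⟩ : {x // x ≠ r}) π)) {q : GL (Fin k) F} (hq : q ∈ Orth (Fin k) F) :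
    Ctl M r (sl (⟨s, hrs.symm⟩ : {x // x ≠ r}) ((q : Matrix (Fin k) (Fin k) F) * π * (q : Matrix (Fin k) (Fin k) F)ᵀ)) := by
  have h2 := hh.h2
  set s' : {x // x ≠ r} := ⟨s, hrs.symm⟩
  have hrid : rid r (rt s q * rt r q) = TP.kr (rt s' q, q) := by
    rw [map_mul, rid_rt_ne hrs.symm, rid_rt']
    show TP.kr (rt s' q, (1 : GL (Fin k) F)) * TP.kr ((1 : GL ({x // x ≠ r} → Fin k) F), q) = _
    rw [← map_mul, Prod.mk_mul_mk, mul_one, one_mul]
  have hz : (rid r).symm (TP.kr (rt s' q, q)) ∈ M := by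
    rw [← hrid, MulEquiv.symm_apply_apply]
    refine hM.wr ⟨mul_mem (TW.rt_mem s q) (TW.rt_mem r q), (rid_om_iff h2 r).1 ?_⟩
    rw [hrid]
    exact pair_om h2 s' hq
  have := h.conj hh hM (rt_orth h2 s' hq) hq hz
  rwa [sl_eq_rt, show (sl s' (q : Matrix (Fin k) (Fin k) F))ᵀ = sl s' ((q : Matrix (Fin k) (Fin k) F)ᵀ) from by
    show (pm (Pi.mulSingle s' _))ᵀ = pm (Pi.mulSingle s' _)
    rw [pm_transpose]
    refine congrArg pm (funext fun x => ?_)
    rcases eq_or_ne x s' with rfl | hx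
    · simp
    · simp [hx], ← map_mul, ← map_mul] at this

/-- a unit line from any projection -/
theorem ctl_line {s r : S} (hrs : r ≠ s) {π : Matrix (Fin k) (Fin k) F} (hπ : Pr π) (h0 : π ≠ 0) (h1 : π ≠ 1)
    (h : Ctl M r (sl (⟨s, hrs.symm⟩ : {x // x ≠ r}) π)) {a : Fin k → F} (ha : a ⬝ᵥ a = 1) :
    Ctl M r (sl (⟨s, hrs.symm⟩ : {x // x ≠ r}) (pj a)) := by
  classical
  have h2 := hh.h2
  have h3 := hh.three
  set s' : {x // x ≠ r} := ⟨s, hrs.symm⟩
  have hcompl : ∀ σ, Ctl M r (sl s' σ) → Ctl M r (sl s' (1 - σ)) := fun σ hσ => by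
    have := hσ.compl hh hM
    rwa [show (1 : Matrix ({x // x ≠ r} → Fin k) ({x // x ≠ r} → Fin k) F) - sl s' σ = sl s' (1 - σ) by
      rw [sub_eq_iff_eq_add, ← TW.sl_add, sub_add_cancel, map_one]] at this
  have hprod : ∀ σ τ, Ctl M r (sl s' σ) → Ctl M r (sl s' τ) → Commute σ τ → Ctl M r (sl s' (σ * τ)) :=
    fun σ τ hσ hτ hc => by
      rw [map_mul]
      exact hσ.prod hh hM hτ (hc.map (sl s'))
  have hmove : ∀ {e f : Fin k → F}, e ⬝ᵥ e ≠ 0 → e ⬝ᵥ e = f ⬝ᵥ f → e ⬝ᵥ f = 0 → act (rf (e - f)) f = e ∧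
      (e - f) ⬝ᵥ (e - f) ≠ 0 := by
    intro e f he hv hef
    have hfe : f ⬝ᵥ e = 0 := by rw [dotProduct_comm]; exact hef
    have n : (e - f) ⬝ᵥ (e - f) = 2 * (e ⬝ᵥ e) := by
      simp only [sub_dotProduct, dotProduct_sub, hef, hfe, ← hv]; ring
    have n0 : (e - f) ⬝ᵥ (e - f) ≠ 0 := by rw [n]; exact mul_ne_zero h2 he
    refine ⟨?_, n0⟩
    rw [act_rf n0, n, sub_dotProduct, hef, ← hv, zero_sub, mul_neg, mul_neg, inv_mul_cancel₀ (mul_ne_zero h2 he),
      neg_one_smul, sub_neg_eq_add, add_sub_cancel]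
  have hstep : ∀ σ, Pr σ → Ctl M r (sl s' σ) → ∀ {e f : Fin k → F}, (1 - σ) *ᵥ e = e → σ *ᵥ f = f → e ⬝ᵥ e ≠ 0 →
      e ⬝ᵥ e = f ⬝ᵥ f → Ctl M r (sl s' (pj f)) := by
    intro σ hσ hc e f he hf he0 hv
    have hf0 : f ⬝ᵥ f ≠ 0 := hv ▸ he0
    have hσe : σ *ᵥ e = 0 := by rw [← he, Matrix.mulVec_mulVec, hσ.mul_one_sub, Matrix.zero_mulVec]
    have hef : e ⬝ᵥ f = 0 := by rw [← hf, ← hσ.dot, hσe, zero_dotProduct]
    obtain ⟨hq, n0⟩ := hmove he0 hv hef
    have hρ := hσ.sub (pr_pj hf0) (mul_pj hf)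
    have hρe : (σ - pj f) *ᵥ (e - f) = 0 := by
      rw [Matrix.sub_mulVec, Matrix.mulVec_sub, Matrix.mulVec_sub, hσe, hf, pj_self hf0, pj_mulVec,
        dotProduct_comm f e, hef, mul_zero, zero_smul]
      simp
    have e1 : (σ - pj f) * pj (e - f) = 0 := mul_pj_zero hρe
    have hconj : (rf (e - f) : Matrix (Fin k) (Fin k) F) * σ * (rf (e - f) : Matrix (Fin k) (Fin k) F)ᵀ =
        σ - pj f + pj e := by
      have e2 : (rf (e - f) : Matrix (Fin k) (Fin k) F) * (σ - pj f) = σ - pj f := by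
        rw [rf_val n0, sub_mul, one_mul, smul_mul_assoc, hρ.swap (pr_pj n0) e1, smul_zero, sub_zero]
      have e3 : (σ - pj f) * (rf (e - f) : Matrix (Fin k) (Fin k) F)ᵀ = σ - pj f := by
        have := congrArg Matrix.transpose e2
        rwa [Matrix.transpose_mul, hρ.symm] at this
      conv_lhs => rw [← sub_add_cancel σ (pj f), mul_add, add_mul, e2, e3, conj_pj h2 (rf_mem _), hq]
    have hc' := ctl_conj_slot hh hM hrs hc (rf_mem (e - f))
    rw [hconj] at hc'
    have p1 : σ * pj e = 0 := mul_pj_zero hσe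
    have p2 : pj e * σ = 0 := hσ.swap (pr_pj he0) p1
    have p3 : σ * pj f = pj f := mul_pj hf
    have p4 : pj f * σ = pj f := by
      have := congrArg Matrix.transpose p3
      rwa [Matrix.transpose_mul, hσ.symm, (pr_pj hf0).symm] at this
    have h5 := hprod _ _ hc hc' (by
      show σ * (σ - pj f + pj e) = (σ - pj f + pj e) * σ
      rw [mul_add, add_mul, mul_sub, sub_mul, p1, p2, p3, p4])
    rw [show σ * (σ - pj f + pj e) = σ - pj f by rw [mul_add, mul_sub, p1, p3, hσ.idem, add_zero]] at h5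
    have h6 := hprod _ _ hc (hcompl _ h5) ((Commute.one_right σ).sub_right (by
      show σ * (σ - pj f) = (σ - pj f) * σ
      rw [mul_sub, sub_mul, p3, p4]))
    rwa [show σ * (1 - (σ - pj f)) = pj f by rw [mul_sub, mul_one, mul_sub, p3, hσ.idem, sub_sub_cancel]] at h6
  -- some line
  obtain ⟨c, hc0, hc⟩ : ∃ c : Fin k → F, c ⬝ᵥ c ≠ 0 ∧ Ctl M r (sl s' (pj c)) := by
    have hr0 : rk π ≠ 0 := fun e => h0 (eq_zero_of_rk e)
    rcases Nat.lt_or_ge (rk π) 2 with hlt | hge
    · obtain ⟨c, hc0, -, hc⟩ := eq_pj_of_rk h2 hπ (by omega)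
      exact ⟨c, hc0, hc ▸ h⟩
    · obtain ⟨e, he, he0⟩ := exists_aniso h2 hπ.one_sub (sub_ne_zero.2 h1.symm)
      obtain ⟨f, hf, hv⟩ := exists_value_pr h2 hπ hge (e ⬝ᵥ e)
      exact ⟨f, hv ▸ he0, hstep π hπ h he hf he0 hv.symm⟩
  -- a unit line
  obtain ⟨d, hd, hdl⟩ : ∃ d : Fin k → F, d ⬝ᵥ d = 1 ∧ Ctl M r (sl s' (pj d)) := by
    have hσ := pr_pj hc0
    have hr := rk_one_sub hσ
    rw [rk_pj hc0, Fintype.card_fin] at hr
    obtain ⟨c', hc', hv⟩ := exists_value_pr h2 hσ.one_sub (by omega) (c ⬝ᵥ c)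
    have hc'0 : c' ⬝ᵥ c' ≠ 0 := hv ▸ hc0
    have hcc : c ⬝ᵥ c' = 0 := by
      rw [← hc', ← hσ.one_sub.dot, Matrix.sub_mulVec, Matrix.one_mulVec, pj_self hc0, sub_self, zero_dotProduct]
    have hc'c : c' ⬝ᵥ c = 0 := by rw [dotProduct_comm]; exact hcc
    obtain ⟨hq, -⟩ := hmove hc'0 hv hc'c
    have h2l := ctl_conj_slot hh hM hrs hc (rf_mem (c' - c))
    rw [conj_pj h2 (rf_mem _), hq] at h2l
    have e1 := pj_mul_pj hcc
    have e2 := hσ.swap (pr_pj hc'0) e1
    have hρ := hσ.one_sub.sub (pr_pj hc'0) (mul_pj hc')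
    have hrρ := rk_sub_pj hσ.one_sub hc'0 hc'
    have hρl := hprod _ _ (hcompl _ hc) (hcompl _ h2l) (by
      show (1 - pj c) * (1 - pj c') = (1 - pj c') * (1 - pj c)
      simp only [sub_mul, mul_sub, one_mul, mul_one, e1, e2]
      abel)
    rw [show (1 - pj c) * (1 - pj c') = 1 - pj c - pj c' by
      simp only [sub_mul, mul_sub, one_mul, mul_one, e1]; abel] at hρl
    rcases Nat.lt_or_ge (rk (1 - pj c - pj c')) 2 with hlt | hge
    · obtain rfl : k = 3 := by omega
      obtain ⟨f, hf0, hρf, hf⟩ := eq_pj_of_rk h2 hρ (by omega)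
      have hcf : c ⬝ᵥ f = 0 := by
        rw [← hρf, ← hρ.dot, Matrix.sub_mulVec, Matrix.sub_mulVec, Matrix.one_mulVec, pj_self hc0, pj_mulVec, hc'c]
        simp
      have hc'f : c' ⬝ᵥ f = 0 := by
        rw [← hρf, ← hρ.dot, Matrix.sub_mulVec, hc', pj_self hc'0]
        simp
      obtain ⟨δ, hδ⟩ : IsSquare (f ⬝ᵥ f) := by
        let P : Matrix (Fin 3) (Fin 3) F := Matrix.of ![c, c', f]
        refine ⟨P.det / (c ⬝ᵥ c), ?_⟩
        have e : (P * Pᵀ) = Matrix.diagonal ![c ⬝ᵥ c, c ⬝ᵥ c, f ⬝ᵥ f] := by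
          ext i j
          rw [show (P * Pᵀ) i j = (![c, c', f] i) ⬝ᵥ (![c, c', f] j) from rfl]
          fin_cases i <;> fin_cases j <;>
            simp [hv, hcc, hc'c, hcf, hc'f, dotProduct_comm f c, dotProduct_comm f c']
        have := congrArg Matrix.det e
        rw [Matrix.det_mul, Matrix.det_transpose, Matrix.det_diagonal, Fin.prod_univ_three] at this
        simp at this
        rw [div_mul_div_comm, this]
        field_simp
      have hδ0 : δ ≠ 0 := fun e => hf0 (by rw [hδ, e, mul_zero])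
      refine ⟨δ⁻¹ • f, ?_, ?_⟩
      · rw [smul_dotProduct, dotProduct_smul, hδ, smul_eq_mul, smul_eq_mul]; field_simp
      · rw [pj_smul (inv_ne_zero hδ0), ← hf]; exact hρl
    · have hτ := hσ.add (pr_pj hc'0) e1
      have hrτ : rk (pj c + pj c') = 2 := by rw [rk_add hσ (pr_pj hc'0) e1, rk_pj hc0, rk_pj hc'0]
      obtain ⟨e, he, hev⟩ := exists_value_pr h2 hτ (by omega) (1 : F)
      obtain ⟨f, hf, hfv⟩ := exists_value_pr h2 hρ hge (1 : F)
      exact ⟨f, hfv, hstep _ hρ hρl (e := e) (by rw [show (1 : Matrix (Fin k) (Fin k) F) - (1 - pj c - pj c') = pj c + pj c' by abel]; exact he) hf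
        (by rw [hev]; exact one_ne_zero) (by rw [hev, hfv])⟩
  obtain ⟨q, hq, hqa⟩ := exists_om_act h2 hh.three' (by rw [hd]; exact one_ne_zero) (hd.trans ha.symm)
  have := ctl_conj_slot hh hM hrs hdl (om_le_orth hq)
  rwa [conj_pj h2 (om_le_orth hq), hqa] at this

/-- **a slot element gives everything** -/
theorem om_le_of_seed {s r : S} (hrs : r ≠ s) {π : Matrix (Fin k) (Fin k) F} (hπ : Pr π) (h0 : π ≠ 0) (h1 : π ≠ 1)
    {y : GL (Fin k) F} (hy : y ∈ Om (Fin k) F) (hy1 : y ≠ 1)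
    (hg : (rid s).symm (elHom (⟨r, hrs⟩ : {x // x ≠ s}) hπ y) ∈ M) : Om (S → Fin k) F ≤ M := by
  classical
  have h2 := hh.h2
  have hseed : Ctl M r (sl (⟨s, hrs.symm⟩ : {x // x ≠ r}) π) := by
    refine ctl_of_one hh hM (pr_sl _ hπ) hy hy1 ?_
    convert hg using 1
    exact Units.ext ((lel_ctl hrs hπ y).trans (el_ctl hrs hπ y).symm)
  -- lines in every pair of slots
  have hlines : ∀ (s₁ r₁ : S) (h₁ : r₁ ≠ s₁) (a : Fin k → F), a ⬝ᵥ a = 1 →
      Ctl M r₁ (sl (⟨s₁, h₁.symm⟩ : {x // x ≠ r₁}) (pj a)) := by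
    intro s₁ r₁ h₁ a ha
    have ha0 : a ⬝ᵥ a ≠ 0 := by rw [ha]; exact one_ne_zero
    obtain ⟨hP, hmem⟩ := ctl_line hh hM hrs hπ h0 h1 hseed ha
    obtain ⟨σ, hσs, hσr⟩ : ∃ σ : Equiv.Perm S, σ s = s₁ ∧ σ r = r₁ := by
      refine ⟨Equiv.swap (Equiv.swap s s₁ r) r₁ * Equiv.swap s s₁, ?_, by simp⟩
      have h' : Equiv.swap s s₁ r ≠ s₁ := fun e => hrs ((Equiv.swap s s₁).injective (by rw [e, Equiv.swap_apply_left]))
      rw [Equiv.Perm.mul_apply, Equiv.swap_apply_left, Equiv.swap_apply_of_ne_of_ne h'.symm h₁.symm]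
    obtain ⟨w, hw, hwo⟩ := fix_class hh r₁ (pg_orth (F := F) (k := k) σ)
    have hzM : rt r₁ w * pg σ ∈ M := hM.wr ⟨mul_mem (TW.rt_mem r₁ w) (TW.pg_mem σ), hwo⟩
    obtain ⟨y₀, hy₀, hy₀1⟩ := exists_om_ne_one hh
    have hg₀ := hmem y₀ hy₀
    set g₀ := (rid r).symm (lelHom hP y₀)
    have hgv : (g₀ : Matrix (S → Fin k) (S → Fin k) F) = ctlMat s r (pj a) (y₀ : Matrix (Fin k) (Fin k) F) :=
      lel_ctl hrs (pr_pj ha0) y₀
    refine ctl_of_one hh hM (pr_sl _ (pr_pj ha0)) (conj_mem_om hw hy₀) (fun e => hy₀1 (conj_eq_one_iff.1 e)) ?_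
    have hconj : ((rid r₁).symm (lelHom (pr_sl (⟨s₁, h₁.symm⟩ : {x // x ≠ r₁}) (pr_pj ha0)) (w * y₀ * w⁻¹))) =
        rt r₁ w * pg σ * g₀ * (rt r₁ w * pg σ)⁻¹ := by
      rw [eq_mul_inv_iff_mul_eq]
      refine Units.ext ?_
      have hpg : ∀ f : S → Matrix (Fin k) (Fin k) F,
          ((pg σ : GL (S → Fin k) F) : Matrix (S → Fin k) (S → Fin k) F) * pm f =
            pm (fun x => f (σ.symm x)) * ((pg σ : GL (S → Fin k) F) : Matrix (S → Fin k) (S → Fin k) F) := by
        intro f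
        ext x z
        rw [Matrix.mul_apply, Matrix.mul_apply, Finset.sum_eq_single (x ∘ σ), Finset.sum_eq_single (z ∘ σ.symm)]
        · simp only [pg, Matrix.of_apply, if_true, one_mul, Function.comp_assoc, Equiv.symm_comp_self,
            Function.comp_id, mul_one, TW.pm_apply]
          exact Fintype.prod_equiv σ _ _ fun i => by simp
        · intro b _ hb
          simp only [pg, Matrix.of_apply]
          rw [if_neg, mul_zero]
          rintro rfl
          exact hb (by simp [Function.comp_assoc])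
        · simp
        · intro b _ hb; simp [pg, hb]
        · simp
      set W := fun x : S => ((Pi.mulSingle r₁ w : S → GL (Fin k) F) x : Matrix (Fin k) (Fin k) F) with hW
      simp only [Units.val_mul]
      rw [hgv, lel_ctl h₁ (pr_pj ha0), ctlMat, ctlMat, add_mul,
        mul_add, one_mul, mul_one, mul_assoc _ ((pg σ : GL (S → Fin k) F) : Matrix (S → Fin k) (S → Fin k) F) (pm _), hpg, ← mul_assoc,
        ← mul_assoc, TW.rt_eq, TW.tk_val, ← hW, ← map_mul, ← map_mul]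
      congr 3
      funext x
      simp only [Pi.mul_apply, hW]
      rcases eq_or_ne x r₁ with hxr | hxr
      · rw [hxr, show σ.symm r₁ = r from σ.symm_apply_eq.2 hσr.symm, Function.update_self, Function.update_self,
          Pi.mulSingle_eq_same]
        simp only [Units.val_mul, sub_mul, mul_sub, mul_assoc, one_mul, mul_one]
        rw [← Units.val_mul w⁻¹ w, inv_mul_cancel, Units.val_one, mul_one]
      · have hne : σ.symm x ≠ r := fun e => hxr (by rw [← hσr, ← e, Equiv.apply_symm_apply])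
        rw [Function.update_of_ne hne, Function.update_of_ne hxr, Pi.mulSingle_eq_of_ne hxr, Units.val_one, mul_one,
          one_mul]
        rcases eq_or_ne x s₁ with hxs | hxs
        · rw [hxs, show σ.symm s₁ = s from σ.symm_apply_eq.2 hσs.symm, Function.update_self, Function.update_self]
        · have hne' : σ.symm x ≠ s := fun e => hxs (by rw [← hσs, ← e, Equiv.apply_symm_apply])
          rw [Function.update_of_ne hne', Function.update_of_ne hxs]
          rfl
    rw [hconj]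
    exact mul_mem (mul_mem hzM hg₀) (inv_mem hzM)
  -- all coordinate lines in the slots off `r`
  let M' : Subgroup (GL (({x // x ≠ r} → Fin k) × Fin k) F) := M.comap (rid r).symm.toMonoidHom
  have hsingle : ∀ (x : {x // x ≠ r}) (a : Fin k → F), a ⬝ᵥ a = 1 → Ctl M r (sl x (pj a)) := fun x a ha =>
    hlines x.1 r (Ne.symm x.2) a ha
  have hC : ∀ z : {x // x ≠ r} → Fin k, Ctl M r (cp (F := F) z) := by
    intro z
    have hU : ∀ U : Finset {x // x ≠ r}, U.Nonempty →
        Ctl M r (pm fun x => if x ∈ U then pj (Pi.single (z x) (1 : F)) else 1) := by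
      intro U hU
      induction hU using Finset.Nonempty.cons_induction with
      | singleton x =>
        convert hsingle x (Pi.single (z x) (1 : F)) (by simp) using 1
        refine congrArg pm (funext fun q => ?_)
        rcases eq_or_ne q x with rfl | hq
        · simp
        · simp [hq]
      | cons x U hx _ ih =>
        have hcom : Commute (sl x (pj (Pi.single (z x) (1 : F))))
            (pm fun q => if q ∈ U then pj (Pi.single (z q) (1 : F)) else 1) := by
          refine Commute.map (funext fun q => ?_) pm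
          rcases eq_or_ne q x with rfl | hq
          · simp [hx]
          · simp [hq]
        convert (hsingle x (Pi.single (z x) (1 : F)) (by simp)).prod hh hM ih hcom using 1
        show _ = pm (Pi.mulSingle x _) * pm _
        rw [← map_mul]
        refine congrArg pm (funext fun q => ?_)
        rcases eq_or_ne q x with rfl | hq
        · simp [hx]
        · simp [hq]
    convert hU Finset.univ ⟨⟨s, hrs.symm⟩, Finset.mem_univ _⟩ using 1
    ext p q
    simp only [Finset.mem_univ, if_true, cp, pj, single_dotProduct, Pi.single_eq_same, mul_one, inv_one, one_smul,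
      Matrix.vecMulVec_apply, TW.pm_apply, Finset.prod_mul_distrib]
    rw [← TW.tp_single, TW.tp_apply, TW.tp_apply]
  have h9 : 5 ≤ Fintype.card (({x // x ≠ r} → Fin k) × Fin k) := by
    haveI : Nonempty {x // x ≠ r} := ⟨⟨s, hrs.symm⟩⟩
    rw [Fintype.card_prod, Fintype.card_fun, Fintype.card_fin]
    have h1 : k ≤ k ^ Fintype.card {x // x ≠ r} := Nat.le_self_pow Fintype.card_ne_zero k
    have h3 := hh.three
    nlinarith
  have hle : Om (({x // x ≠ r} → Fin k) × Fin k) F ≤ M' :=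
    om_le_of_controls hh (fun z h hh' => by
        obtain ⟨hP, hmem⟩ := hC z
        exact hmem h hh')
      (fun x b hb h hh' => by
        obtain ⟨hP, hmem⟩ := hsingle x b hb
        exact hmem h hh') h9
  intro g hg
  have := hle ((rid_om_iff h2 r).2 hg)
  rwa [Subgroup.mem_comap, MulEquiv.coe_toMonoidHom, MulEquiv.symm_apply_apply] at this

end Cfsg.Agent.MaxCl.TOrth
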