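/-
The tensor structure of an orthogonal group of odd factor dimension is maximal: induction on the number of slots.
-/
import Cfsg.Agent.Lib.MaxCl.TOrthPairs
import Cfsg.Agent.Lib.MaxCl.TOrthSeed

set_option autoImplicit false
set_option linter.unusedSectionVars false

namespace Cfsg.Agent.MaxCl.TOrth

open Matrix
open TW (tk pm pg rt rid spl sl Wr)
open scoped MatrixGroups Kronecker

variable {F : Type*} [Field F] {k : ℕ}

section Slot

variable {S : Type} [Fintype S] [DecidableEq S]

theorem ctlMat_split (s : S) (s' r' : {x // x ≠ s}) (π A : Matrix (Fin k) (Fin k) F) :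
    (ctlMat s'.1 r'.1 π A).submatrix (spl s).symm (spl s).symm = (ctlMat s' r' π A) ⊗ₖ (1 : Matrix (Fin k) (Fin k) F) := by
  rw [ctlMat, ctlMat, Matrix.submatrix_add, Pi.add_apply, Pi.add_apply, Matrix.submatrix_one_equiv, TW.pm_split,
    Function.update_of_ne (Ne.symm r'.2), Function.update_of_ne (Ne.symm s'.2), Matrix.add_kronecker,
    Matrix.one_kronecker_one]
  congr 2
  refine congrArg pm (funext fun x => ?_)
  rcases eq_or_ne x r' with rfl | hxr
  · simp
  rw [Function.update_of_ne fun e => hxr (Subtype.ext e), Function.update_of_ne hxr]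
  rcases eq_or_ne x s' with rfl | hxs
  · simp
  · rw [Function.update_of_ne fun e => hxs (Subtype.ext e), Function.update_of_ne hxs]
    rfl

variable [Finite F] (hh : Hyp k F) {M : Subgroup (GL (S → Fin k) F)} (hM : Ov M) (hOm : ¬ Om (S → Fin k) F ≤ M)
include hh hM hOm

theorem top_of_ov (IH : ∀ s : S, Max {x // x ≠ s} k F) [Nontrivial S] : Top M := by
  classical
  have h2 := hh.h2
  refine ⟨hh, hM, fun s σ hσ h0 h1 g hg hc => ?_⟩
  obtain ⟨q, hq⟩ := exists_ne s
  haveI : Nonempty {x // x ≠ s} := ⟨⟨q, hq⟩⟩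
  have hC : Ctx {x // x ≠ s} k F (M.map (rid s).toMonoidHom) :=
    { hyp := hh
      le := by
        rintro _ ⟨g, hg, rfl⟩
        exact (rid_orth_iff h2 s).2 (hM.le hg)
      wr := fun a ha w hw => by
        set g₁ := (rid s).symm (TP.kr (a, w)) with hg₁
        have e : rid s g₁ = TP.kr (a, w) := (rid s).apply_symm_apply _
        rw [← e]
        refine Subgroup.mem_map_of_mem _ (hM.wr ⟨TW.mem_wr_of_rid s e ha, (rid_om_iff h2 s).1 ?_⟩)
        rw [e]
        exact hw
      comp := fun w hw => by
        refine ⟨rt (⟨q, hq⟩ : {x // x ≠ s}) w, TW.rt_mem _ _, rt_orth h2 _ hw, ?_⟩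
        set g₁ := (rid s).symm (TP.kr (rt (⟨q, hq⟩ : {x // x ≠ s}) w, w)) with hg₁
        have e : rid s g₁ = TP.kr (rt (⟨q, hq⟩ : {x // x ≠ s}) w, w) := (rid s).apply_symm_apply _
        rw [← e]
        refine Subgroup.mem_map_of_mem _ (hM.wr ⟨TW.mem_wr_of_rid s e (TW.rt_mem _ _), (rid_om_iff h2 s).1 ?_⟩)
        rw [e]
        exact pair_om h2 _ hw
      max := IH s
      noSeed := fun r π y hπ h0 h1 hy hy1 g hg e => by
        obtain ⟨g₀, hg₀, rfl⟩ := hg
        refine hOm (om_le_of_seed hh hM r.2 hπ h0 h1 hy hy1 ?_)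
        have e' : (rid s).symm (elHom (⟨r.1, r.2⟩ : {x // x ≠ s}) hπ y) = g₀ := by
          refine (rid (F := F) (m := k) s).injective (Units.ext ?_)
          rw [MulEquiv.apply_symm_apply, elHom_val]
          exact e.symm
        rw [e']
        exact hg₀ }
  have hNL : NoLeft (M.map (rid s).toMonoidHom) := by
    intro s' r' hrs π hπ h0 h1 y hy hy1 hmem
    obtain ⟨g₀, hg₀, e⟩ := hmem
    have hne : r'.1 ≠ s'.1 := fun h => hrs (Subtype.ext h)
    refine hOm (om_le_of_seed hh hM hne hπ h0 h1 hy hy1 ?_)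
    have e' : (rid s'.1).symm (elHom (⟨r'.1, hne⟩ : {x // x ≠ s'.1}) hπ y) = g₀ := by
      refine (rid (F := F) (m := k) s).injective (Units.ext ?_)
      rw [TW.rid_val, el_ctl hne hπ y, ctlMat_split, show rid s g₀ = _ from e, inl_val, el_ctl hrs hπ y]
    rw [e']
    exact hg₀
  have hcs : Commute (rid s g : Mx {x // x ≠ s} k F) (rgt _ σ) := by
    have e := congrArg (fun m => m.submatrix (spl (m := k) s).symm (spl (m := k) s).symm) hc.eq
    simp only [← Matrix.submatrix_mul_equiv _ _ _ (spl (m := k) s).symm, ← TW.rid_val] at e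
    rw [show (sl s σ).submatrix (spl (m := k) s).symm (spl (m := k) s).symm = rgt _ σ from by
      show (pm (Pi.mulSingle s σ)).submatrix (spl (m := k) s).symm (spl (m := k) s).symm = _
      rw [TW.pm_split, Pi.mulSingle_eq_same, show (fun r : {r // r ≠ s} => (Pi.mulSingle s σ : S → _) r.1) = 1 from
        funext fun r => Pi.mulSingle_eq_of_ne r.2 _, map_one]] at e
    exact e
  obtain ⟨A, hA, -, C, -, e⟩ := loc hC hNL hσ h0 h1 ⟨g, hg, rfl⟩ hcs
  exact TW.mem_wr_of_rid s e hA

end Slot

/-- **the tensor structure is maximal among the subgroups of the isometry group** -/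
theorem max_all [Finite F] (hh : Hyp k F) :
    ∀ (n : ℕ) (S : Type) [Fintype S] [DecidableEq S], Fintype.card S = n → Max S k F := by
  intro n
  induction n using Nat.strong_induction_on with
  | _ n ih =>
    intro S _ _ hn M hM
    classical
    by_cases hOm : Om (S → Fin k) F ≤ M
    · exact Or.inr hOm
    refine Or.inl ?_
    rcases subsingleton_or_nontrivial S with hS | hS
    · rcases isEmpty_or_nonempty S with hE | hE
      · refine absurd ?_ hOm
        rw [om_eq, Subgroup.commutator_le]
        intro a _ b _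
        have : Commute a b := Units.ext (Matrix.ext fun x y => by
          rw [Units.val_mul, Units.val_mul, Matrix.mul_apply, Matrix.mul_apply]
          refine Finset.sum_congr rfl fun z _ => ?_
          rw [Subsingleton.elim x z, Subsingleton.elim y z, mul_comm])
        rw [commutatorElement_eq_one_iff_commute.2 this]
        exact one_mem _
      · rw [TW.wr_eq_top]
        exact le_top
    · refine (top_of_ov hh hM hOm fun s => ih _ ?_ _ rfl).le_wr
      rw [← hn]
      exact Fintype.card_subtype_lt (x := s) (by simp)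

/-- **the main theorem** -/
theorem main [Finite F] (hh : Hyp k F) {S : Type} [Fintype S] [DecidableEq S] {M : Subgroup (GL (S → Fin k) F)}
    (hle : M ≤ Orth (S → Fin k) F) (hwr : Wr S k F ⊓ Om (S → Fin k) F ≤ M) (hOm : ¬ Om (S → Fin k) F ≤ M) :
    M ≤ Wr S k F :=
  (max_all hh _ S rfl M ⟨hle, hwr⟩).resolve_right hOm

end Cfsg.Agent.MaxCl.TOrth
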