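/-
An overgroup of the tensor structure containing one slot element acting on a proper summand of another slot
contains the derived isometry group (diagonal forms, even factor dimension).
-/
import Cfsg.Agent.Lib.MaxCl.TEvSiegel
import Cfsg.Agent.Lib.MaxCl.TEvTop
import Cfsg.Agent.Lib.MaxCl.TOrthMain

set_option autoImplicit false
set_option linter.unusedSectionVars false

namespace Cfsg.Agent.MaxCl.TEv

open Matrix
open TOrth (rk rk_zero rk_one eq_zero_of_rk inl inr inl_val inr_val kr_val rgt rgt_one el ctlMat ctlMat_split sl_eq_rt rid_rt_ne)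
open TW (tk pm pg rt rid spl sl Wr tp)
open scoped MatrixGroups Kronecker

variable {F : Type*} [Field F] {k : ℕ} [Wt (Fin k) F]

section Factor

variable {β : Type} [Fintype β] [DecidableEq β] [Wt β F]

theorem lel_eq {P : Matrix β β F} (hP : Pr P) (y : GL (Fin k) F) :
    (lelHom hP y : Matrix (β × Fin k) (β × Fin k) F) = 1 + P ⊗ₖ ((y : Matrix (Fin k) (Fin k) F) - 1) := by
  have e : P ⊗ₖ ((y : Matrix (Fin k) (Fin k) F) - 1) + P ⊗ₖ (1 : Matrix (Fin k) (Fin k) F) =
      P ⊗ₖ (y : Matrix (Fin k) (Fin k) F) := by rw [← Matrix.kronecker_add, sub_add_cancel]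
  have e1 : (1 - P) ⊗ₖ (1 : Matrix (Fin k) (Fin k) F) + P ⊗ₖ (1 : Matrix (Fin k) (Fin k) F) = 1 := by
    rw [← Matrix.add_kronecker, sub_add_cancel, Matrix.one_kronecker_one]
  rw [lelHom_val, ← e, ← e1]
  abel

theorem lel_compl {P : Matrix β β F} (hP : Pr P) (y : GL (Fin k) F) :
    lelHom hP y * lelHom hP.one_sub y = inr β k F y := by
  refine Units.ext ?_
  rw [Units.val_mul, lelHom_val, lelHom_val, inr_val]
  simp only [sub_sub_cancel, add_mul, mul_add, ← Matrix.mul_kronecker_mul, one_mul, mul_one, hP.idem,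
    hP.mul_one_sub, hP.one_sub_mul, hP.one_sub.idem, Matrix.zero_kronecker, add_zero, zero_add]
  rw [← Matrix.add_kronecker, add_sub_cancel]

theorem lel_conj (h2 : (2 : F) ≠ 0) {P : Matrix β β F} (hP : Pr P) {a : GL β F} (ha : a ∈ Orth β F)
    (c y : GL (Fin k) F) (hP' : Pr ((a : Matrix β β F) * P * (a : Matrix β β F)†)) :
    TP.kr (a, c) * lelHom hP y * (TP.kr (a, c))⁻¹ = lelHom hP' (c * y * c⁻¹) := by
  refine Units.ext ?_
  rw [Units.val_mul, Units.val_mul, ← map_inv, Prod.inv_mk, kr_val, kr_val, lelHom_val, lelHom_val,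
    inv_val h2 ha]
  simp only [add_mul, mul_add, ← Matrix.mul_kronecker_mul, mul_one, Units.val_mul, mul_sub, sub_mul,
    mul_ad_self h2 ha]
  rw [← Units.val_mul c c⁻¹, mul_inv_cancel, Units.val_one]

theorem lel_comm {P Q : Matrix β β F} (hP : Pr P) (hQ : Pr Q) (hPQ : Commute P Q) (hR : Pr (P * Q))
    (y z : GL (Fin k) F) :
    lelHom hP y * lelHom hQ z * (lelHom hP y)⁻¹ * (lelHom hQ z)⁻¹ = lelHom hR (y * z * y⁻¹ * z⁻¹) := by
  rw [mul_inv_eq_iff_eq_mul, mul_inv_eq_iff_eq_mul]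
  refine Units.ext ?_
  simp only [Units.val_mul, lelHom_val]
  have hPP := hP.idem
  have hQQ := hQ.idem
  have eQP : Q * P = P * Q := hPQ.eq.symm
  have e1 : P * (P * Q) = P * Q := by rw [← mul_assoc, hPP]
  have e2 : Q * (P * Q) = P * Q := by rw [← mul_assoc, eQP, mul_assoc, hQQ]
  have e3 : P * Q * P = P * Q := by rw [mul_assoc, eQP, e1]
  have e4 : P * Q * Q = P * Q := by rw [mul_assoc, hQQ]
  have e5 : P * Q * (P * Q) = P * Q := by rw [← mul_assoc, e3, e4]
  have hcz : ((y * z * y⁻¹ * z⁻¹ : GL (Fin k) F) : Matrix (Fin k) (Fin k) F) * (z : Matrix (Fin k) (Fin k) F) *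
      (y : Matrix (Fin k) (Fin k) F) = (y : Matrix (Fin k) (Fin k) F) * (z : Matrix (Fin k) (Fin k) F) := by
    rw [← Units.val_mul, ← Units.val_mul, ← Units.val_mul]
    congr 1
    group
  rw [← Units.val_mul, ← Units.val_mul, ← Units.val_mul]
  simp only [add_mul, mul_add, ← Matrix.mul_kronecker_mul, one_mul, mul_one, sub_mul, mul_sub, hPP, hQQ, eQP, e1,
    e2, e3, e4, e5, sub_self, sub_zero, Matrix.zero_kronecker, add_zero, zero_add, hcz]
  abel

end Factor

variable {S : Type} [Fintype S] [DecidableEq S]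

/-- a controlled slot element as a matrix of the power -/
theorem lel_ctl {s r : S} (hrs : r ≠ s) {π : Matrix (Fin k) (Fin k) F} (hπ : Pr π) (y : GL (Fin k) F) :
    (((rid r).symm (lelHom (pr_sl (⟨s, hrs.symm⟩ : {x // x ≠ r}) hπ) y) : GL (S → Fin k) F) :
      Matrix (S → Fin k) (S → Fin k) F) = ctlMat s r π (y : Matrix (Fin k) (Fin k) F) := by
  have e : (rid r ((rid r).symm (lelHom (pr_sl (⟨s, hrs.symm⟩ : {x // x ≠ r}) hπ) y)) :
      Matrix (({x // x ≠ r} → Fin k) × Fin k) (({x // x ≠ r} → Fin k) × Fin k) F) =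
      (ctlMat s r π (y : Matrix (Fin k) (Fin k) F)).submatrix (spl r).symm (spl r).symm := by
    rw [MulEquiv.apply_symm_apply, lel_eq, ctlMat, Matrix.submatrix_add, Pi.add_apply, Pi.add_apply,
      Matrix.submatrix_one_equiv, TW.pm_split, Function.update_self]
    congr 2
    show pm (Pi.mulSingle _ π) = _
    refine congrArg pm (funext fun x => ?_)
    rw [Function.update_of_ne x.2]
    rcases eq_or_ne x ⟨s, hrs.symm⟩ with rfl | hx
    · simp
    · rw [Pi.mulSingle_eq_of_ne hx, Function.update_of_ne fun e => hx (Subtype.ext e)]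
      rfl
  rw [TW.rid_val] at e
  ext a b
  simpa using congrFun (congrFun e (spl r a)) (spl r b)

omit [Wt (Fin k) F] in
/-- the other shape of a controlled slot element -/
theorem el_ctl {s r : S} (hrs : r ≠ s) (π : Matrix (Fin k) (Fin k) F) (y : GL (Fin k) F) :
    el (⟨r, hrs⟩ : {x // x ≠ s}) π y =
      (ctlMat s r π (y : Matrix (Fin k) (Fin k) F)).submatrix (spl s).symm (spl s).symm := by
  set r' : {x // x ≠ s} := ⟨r, hrs⟩
  have hel : el r' π y = 1 + sl r' ((y : Matrix (Fin k) (Fin k) F) - 1) ⊗ₖ π := by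
    have e : sl r' ((y : Matrix (Fin k) (Fin k) F) - 1) + 1 =
        (rt r' y : Matrix ({x // x ≠ s} → Fin k) ({x // x ≠ s} → Fin k) F) := by
      rw [sl_eq_rt]
      conv_rhs => rw [← sub_add_cancel (y : Matrix (Fin k) (Fin k) F) 1, TW.sl_add, map_one]
    rw [el, ← e, Matrix.add_kronecker]
    have e1 : rgt ({x // x ≠ s} → Fin k) (1 - π) + (1 : Matrix _ _ F) ⊗ₖ π = 1 := by
      rw [← Matrix.kronecker_add, sub_add_cancel, Matrix.one_kronecker_one]
    rw [← e1]
    abel
  rw [hel, ctlMat, Matrix.submatrix_add, Pi.add_apply, Pi.add_apply,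
    Matrix.submatrix_one_equiv, TW.pm_split, Function.update_of_ne hrs.symm, Function.update_self]
  congr 2
  show pm (Pi.mulSingle _ _) = _
  refine congrArg pm (funext fun x => ?_)
  rcases eq_or_ne x r' with rfl | hx
  · simp [r']
  · rw [Pi.mulSingle_eq_of_ne hx, Function.update_of_ne fun e => hx (Subtype.ext e), Function.update_of_ne x.2]
    rfl

omit [Wt (Fin k) F] in
theorem pg_pm (σ : Equiv.Perm S) (f : S → Matrix (Fin k) (Fin k) F) :
    ((pg σ : GL (S → Fin k) F) : Matrix (S → Fin k) (S → Fin k) F) * pm f =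
      pm (fun x => f (σ.symm x)) * ((pg σ : GL (S → Fin k) F) : Matrix (S → Fin k) (S → Fin k) F) := by
  ext x z
  rw [Matrix.mul_apply, Matrix.mul_apply, Finset.sum_eq_single (x ∘ σ), Finset.sum_eq_single (z ∘ σ.symm)]
  · simp only [pg, Matrix.of_apply, if_true, one_mul, Function.comp_assoc, Equiv.symm_comp_self,
      Function.comp_id, mul_one, TW.pm_apply]
    exact Fintype.prod_equiv σ _ _ fun i => by simp
  · intro b _ hb
    simp only [pg, Matrix.of_apply]
    rw [if_neg, mul_zero]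
    rintro rfl
    exact hb (by simp [Function.comp_assoc])
  · simp
  · intro b _ hb; simp [pg, hb]
  · simp

omit [Wt (Fin k) F] in
/-- permutations of the slots move controlled elements -/
theorem pg_ctl (σ : Equiv.Perm S) (s r : S) (π A : Matrix (Fin k) (Fin k) F) :
    ((pg σ : GL (S → Fin k) F) : Matrix (S → Fin k) (S → Fin k) F) * ctlMat s r π A =
      ctlMat (σ s) (σ r) π A * ((pg σ : GL (S → Fin k) F) : Matrix (S → Fin k) (S → Fin k) F) := by
  rw [ctlMat, ctlMat, mul_add, add_mul, mul_one, one_mul, pg_pm]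
  congr 3
  funext x
  rcases eq_or_ne x (σ r) with rfl | hxr
  · simp
  rw [Function.update_of_ne hxr, Function.update_of_ne fun e => hxr (σ.symm_apply_eq.1 e)]
  rcases eq_or_ne x (σ s) with rfl | hxs
  · simp
  · rw [Function.update_of_ne hxs, Function.update_of_ne fun e => hxs (σ.symm_apply_eq.1 e)]
    rfl

omit [Wt (Fin k) F] in
/-- an involution controlled by a projection is symmetric in the two slots -/
theorem ctlMat_symm {s r : S} (hrs : r ≠ s) (τ A : Matrix (Fin k) (Fin k) F) (c : F) (hA : A - 1 = c • τ) :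
    ctlMat s r τ A = ctlMat r s τ A := by
  rw [ctlMat, ctlMat, hA]
  congr 1
  have hL : (Function.update (Function.update (1 : S → Matrix (Fin k) (Fin k) F) s τ) r (c • τ)) =
      fun x => (Function.update (1 : S → F) r c) x •
        Function.update (Function.update (1 : S → Matrix (Fin k) (Fin k) F) s τ) r τ x := funext fun x => by
    rcases eq_or_ne x r with rfl | hx <;> simp [*]
  have hR : (Function.update (Function.update (1 : S → Matrix (Fin k) (Fin k) F) r τ) s (c • τ)) =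
      fun x => (Function.update (1 : S → F) s c) x •
        Function.update (Function.update (1 : S → Matrix (Fin k) (Fin k) F) r τ) s τ x := funext fun x => by
    rcases eq_or_ne x s with rfl | hx <;> simp [*]
  have hp : ∀ q : S, ∏ x, (Function.update (1 : S → F) q c) x = c := fun q => by
    rw [Finset.prod_eq_single q (fun b _ hb => by simp [hb]) (by simp)]
    simp
  rw [hL, hR, TW.pm_smul, TW.pm_smul, hp, hp, Function.update_comm hrs]

variable (M : Subgroup (GL (S → Fin k) F))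

/-- controlled elements in the group -/
def Ctl (r : S) (P : Matrix ({x // x ≠ r} → Fin k) ({x // x ≠ r} → Fin k) F) : Prop :=
  ∃ hP : Pr P, ∀ y ∈ Om (Fin k) F, (rid r).symm (lelHom hP y) ∈ M

variable {M} [Finite F] (hh : Hyp k F) (hM : Ov M)
include hh hM

/-- one element gives all -/
theorem ctl_of_one {r : S} {P : Matrix ({x // x ≠ r} → Fin k) ({x // x ≠ r} → Fin k) F} (hP : Pr P)
    {y : GL (Fin k) F} (hy : y ∈ Om (Fin k) F) (hy1 : ∀ c : F, (y : Matrix (Fin k) (Fin k) F) ≠ c • 1)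
    (hg : (rid r).symm (lelHom hP y) ∈ M) : Ctl M r P := by
  have h2 := hh.h2
  refine ⟨hP, fun z hz => ?_⟩
  let N : Subgroup (GL (Fin k) F) := M.comap ((rid r).symm.toMonoidHom.comp (lelHom hP))
  refine hh.big.norm N (fun a ha x hx _ => ?_) y hg hy hy1 hz
  rw [Subgroup.mem_comap] at hx ⊢
  simp only [MonoidHom.comp_apply, MulEquiv.coe_toMonoidHom] at hx ⊢
  have e : (rid r).symm (lelHom hP (a * x * a⁻¹)) = rt r a * (rid r).symm (lelHom hP x) * (rt r a)⁻¹ := by
    refine (rid r).injective ?_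
    rw [map_mul (rid r), map_mul (rid r), map_inv (rid r), MulEquiv.apply_symm_apply, MulEquiv.apply_symm_apply,
      rid_rt', show inr ({x // x ≠ r} → Fin k) k F a = TP.kr ((1 : GL _ F), a) from rfl,
      lel_conj h2 hP (one_mem _) a x (by rw [Units.val_one, one_mul, ad_one, mul_one]; exact hP)]
    simp only [Units.val_one, ad_one, one_mul, mul_one]
  rw [e]
  exact mul_mem (mul_mem (hM.rt_mem h2 r ha) hx) (inv_mem (hM.rt_mem h2 r ha))

theorem Ctl.compl {r : S} {P : Matrix ({x // x ≠ r} → Fin k) ({x // x ≠ r} → Fin k) F} (h : Ctl M r P) :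
    Ctl M r (1 - P) := by
  obtain ⟨hP, hmem⟩ := h
  refine ⟨hP.one_sub, fun y hy => ?_⟩
  have e : (rid r).symm (lelHom hP.one_sub y) = ((rid r).symm (lelHom hP y))⁻¹ * rt r y := by
    refine (rid r).injective ?_
    rw [map_mul (rid r), map_inv (rid r), MulEquiv.apply_symm_apply, MulEquiv.apply_symm_apply, rid_rt',
      ← lel_compl hP y, inv_mul_cancel_left]
  rw [e]
  exact mul_mem (inv_mem (hmem y hy)) (hM.rt_mem hh.h2 r hy)

theorem Ctl.prod {r : S} {P Q : Matrix ({x // x ≠ r} → Fin k) ({x // x ≠ r} → Fin k) F} (h : Ctl M r P)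
    (h' : Ctl M r Q) (hPQ : Commute P Q) : Ctl M r (P * Q) := by
  obtain ⟨hP, hmem⟩ := h
  obtain ⟨hQ, hmem'⟩ := h'
  have hR : Pr (P * Q) := ⟨by rw [ad_mul, hP.symm, hQ.symm, hPQ.eq], by
    rw [mul_assoc, ← mul_assoc Q, ← hPQ.eq, mul_assoc, hQ.idem, ← mul_assoc, hP.idem]⟩
  obtain ⟨y, hy, z, hz, hne⟩ := exists_noncomm hh
  refine ctl_of_one hh hM hR (mul_mem (mul_mem (mul_mem hy hz) (inv_mem hy)) (inv_mem hz)) hne ?_
  rw [← lel_comm hP hQ hPQ hR y z]
  simp only [map_mul, map_inv]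
  exact mul_mem (mul_mem (mul_mem (hmem y hy) (hmem' z hz)) (inv_mem (hmem y hy))) (inv_mem (hmem' z hz))

theorem Ctl.conj {r : S} {P : Matrix ({x // x ≠ r} → Fin k) ({x // x ≠ r} → Fin k) F} (h : Ctl M r P)
    {a : GL ({x // x ≠ r} → Fin k) F} (ha : a ∈ Orth ({x // x ≠ r} → Fin k) F) {c : GL (Fin k) F}
    (hc : c ∈ Orth (Fin k) F) (hz : (rid r).symm (TP.kr (a, c)) ∈ M) :
    Ctl M r ((a : Matrix ({x // x ≠ r} → Fin k) ({x // x ≠ r} → Fin k) F) * P *
      (a : Matrix ({x // x ≠ r} → Fin k) ({x // x ≠ r} → Fin k) F)†) := by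
  obtain ⟨hP, hmem⟩ := h
  have h2 := hh.h2
  have hP' : Pr ((a : Matrix ({x // x ≠ r} → Fin k) ({x // x ≠ r} → Fin k) F) * P *
      (a : Matrix ({x // x ≠ r} → Fin k) ({x // x ≠ r} → Fin k) F)†) := by
    refine ⟨by rw [ad_mul, ad_mul, ad_ad, hP.symm, mul_assoc], ?_⟩
    set A := (a : Matrix ({x // x ≠ r} → Fin k) ({x // x ≠ r} → Fin k) F)
    calc A * P * A† * (A * P * A†) = A * P * (A† * A) * P * A† := by simp only [mul_assoc]
      _ = _ := by rw [ad_mul_self h2 ha, mul_one, mul_assoc A P P, hP.idem]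
  refine ⟨hP', fun y hy => ?_⟩
  have hy' := hmem (c⁻¹ * y * c) (by simpa using conj_mem_om (inv_mem hc) hy)
  have := mul_mem (mul_mem hz hy') (inv_mem hz)
  rwa [← map_inv, ← map_mul, ← map_mul, lel_conj h2 hP ha c _ hP',
    show c * (c⁻¹ * y * c) * c⁻¹ = y by group] at this

/-- projections of one slot -/
theorem ctl_conj_slot {s r : S} (hrs : r ≠ s) {π : Matrix (Fin k) (Fin k) F}
    (h : Ctl M r (sl (⟨s, hrs.symm⟩ : {x // x ≠ r}) π)) {q : GL (Fin k) F} (hq : q ∈ Orth (Fin k) F) :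
    Ctl M r (sl (⟨s, hrs.symm⟩ : {x // x ≠ r}) ((q : Matrix (Fin k) (Fin k) F) * π * (q : Matrix (Fin k) (Fin k) F)†)) := by
  have h2 := hh.h2
  set s' : {x // x ≠ r} := ⟨s, hrs.symm⟩
  have hrid : rid r (rt s q * rt r q) = TP.kr (rt s' q, q) := by
    rw [map_mul, rid_rt_ne hrs.symm, rid_rt']
    show TP.kr (rt s' q, (1 : GL (Fin k) F)) * TP.kr ((1 : GL ({x // x ≠ r} → Fin k) F), q) = _
    rw [← map_mul, Prod.mk_mul_mk, mul_one, one_mul]
  have hz : (rid r).symm (TP.kr (rt s' q, q)) ∈ M := by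
    rw [← hrid, MulEquiv.symm_apply_apply]
    refine hM.wr ⟨mul_mem (TW.rt_mem s q) (TW.rt_mem r q), (rid_om_iff h2 r).1 ?_⟩
    rw [hrid]
    exact pair_om h2 s' hq
  have := h.conj hh hM (rt_orth h2 s' hq) hq hz
  rwa [sl_eq_rt, sl_ad, ← map_mul, ← map_mul] at this

/-- every anisotropic line from any projection -/
theorem ctl_line {s r : S} (hrs : r ≠ s) {π : Matrix (Fin k) (Fin k) F} (hπ : Pr π) (h0 : π ≠ 0) (h1 : π ≠ 1)
    (h : Ctl M r (sl (⟨s, hrs.symm⟩ : {x // x ≠ r}) π)) {a : Fin k → F} (ha : a ⬝ʷ a ≠ 0) :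
    Ctl M r (sl (⟨s, hrs.symm⟩ : {x // x ≠ r}) (pj a)) := by
  classical
  have h2 := hh.h2
  have h4 := hh.four
  set s' : {x // x ≠ r} := ⟨s, hrs.symm⟩
  have hcompl : ∀ σ, Ctl M r (sl s' σ) → Ctl M r (sl s' (1 - σ)) := fun σ hσ => by
    have := hσ.compl hh hM
    rwa [show (1 : Matrix ({x // x ≠ r} → Fin k) ({x // x ≠ r} → Fin k) F) - sl s' σ = sl s' (1 - σ) by
      rw [sub_eq_iff_eq_add, ← TW.sl_add, sub_add_cancel, map_one]] at this
  have hprod : ∀ σ τ, Ctl M r (sl s' σ) → Ctl M r (sl s' τ) → Commute σ τ → Ctl M r (sl s' (σ * τ)) :=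
    fun σ τ hσ hτ hc => by
      rw [map_mul]
      exact hσ.prod hh hM hτ (hc.map (sl s'))
  have hmove : ∀ {e f : Fin k → F}, e ⬝ʷ e ≠ 0 → e ⬝ʷ e = f ⬝ʷ f → e ⬝ʷ f = 0 → act (rf (e - f)) f = e ∧
      (e - f) ⬝ʷ (e - f) ≠ 0 := by
    intro e f he hv hef
    have hfe : f ⬝ʷ e = 0 := by rw [bf_comm]; exact hef
    have n : (e - f) ⬝ʷ (e - f) = 2 * (e ⬝ʷ e) := by
      simp only [sub_bf, bf_sub, hef, hfe, ← hv]; ring
    have n0 : (e - f) ⬝ʷ (e - f) ≠ 0 := by rw [n]; exact mul_ne_zero h2 he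
    refine ⟨?_, n0⟩
    rw [act_rf n0, n, sub_bf, hef, ← hv, zero_sub, mul_neg, mul_neg, inv_mul_cancel₀ (mul_ne_zero h2 he),
      neg_one_smul, sub_neg_eq_add, add_sub_cancel]
  have hstep : ∀ σ, Pr σ → Ctl M r (sl s' σ) → ∀ {e f : Fin k → F}, (1 - σ) *ᵥ e = e → σ *ᵥ f = f → e ⬝ʷ e ≠ 0 →
      e ⬝ʷ e = f ⬝ʷ f → Ctl M r (sl s' (pj f)) := by
    intro σ hσ hc e f he hf he0 hv
    have hf0 : f ⬝ʷ f ≠ 0 := hv ▸ he0
    have hσe : σ *ᵥ e = 0 := by rw [← he, Matrix.mulVec_mulVec, hσ.mul_one_sub, Matrix.zero_mulVec]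
    have hef : e ⬝ʷ f = 0 := by rw [← hf, ← hσ.dot, hσe, zero_bf]
    obtain ⟨hq, n0⟩ := hmove he0 hv hef
    have hρ := hσ.sub (pr_pj hf0) (mul_pj hf)
    have hρe : (σ - pj f) *ᵥ (e - f) = 0 := by
      rw [Matrix.sub_mulVec, Matrix.mulVec_sub, Matrix.mulVec_sub, hσe, hf, pj_self hf0, pj_mulVec,
        bf_comm f e, hef, mul_zero, zero_smul]
      simp
    have e1 : (σ - pj f) * pj (e - f) = 0 := mul_pj_zero hρe
    have hconj : (rf (e - f) : Matrix (Fin k) (Fin k) F) * σ * (rf (e - f) : Matrix (Fin k) (Fin k) F)† =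
        σ - pj f + pj e := by
      have e2 : (rf (e - f) : Matrix (Fin k) (Fin k) F) * (σ - pj f) = σ - pj f := by
        rw [rf_val n0, sub_mul, one_mul, smul_mul_assoc, hρ.swap (pr_pj n0) e1, smul_zero, sub_zero]
      have e3 : (σ - pj f) * (rf (e - f) : Matrix (Fin k) (Fin k) F)† = σ - pj f := by
        have := congrArg ad e2
        rwa [ad_mul, hρ.symm] at this
      conv_lhs => rw [← sub_add_cancel σ (pj f), mul_add, add_mul, e2, e3, conj_pj h2 (rf_mem _), hq]
    have hc' := ctl_conj_slot hh hM hrs hc (rf_mem (e - f))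
    rw [hconj] at hc'
    have p1 : σ * pj e = 0 := mul_pj_zero hσe
    have p2 : pj e * σ = 0 := hσ.swap (pr_pj he0) p1
    have p3 : σ * pj f = pj f := mul_pj hf
    have p4 : pj f * σ = pj f := by
      have := congrArg ad p3
      rwa [ad_mul, hσ.symm, (pr_pj hf0).symm] at this
    have h5 := hprod _ _ hc hc' (by
      show σ * (σ - pj f + pj e) = (σ - pj f + pj e) * σ
      rw [mul_add, add_mul, mul_sub, sub_mul, p1, p2, p3, p4])
    rw [show σ * (σ - pj f + pj e) = σ - pj f by rw [mul_add, mul_sub, p1, p3, hσ.idem, add_zero]] at h5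
    have h6 := hprod _ _ hc (hcompl _ h5) ((Commute.one_right σ).sub_right (by
      show σ * (σ - pj f) = (σ - pj f) * σ
      rw [mul_sub, sub_mul, p3, p4]))
    rwa [show σ * (1 - (σ - pj f)) = pj f by rw [mul_sub, mul_one, mul_sub, p3, hσ.idem, sub_sub_cancel]] at h6
  -- some line
  obtain ⟨c, hc0, hc⟩ : ∃ c : Fin k → F, c ⬝ʷ c ≠ 0 ∧ Ctl M r (sl s' (pj c)) := by
    have hr0 : rk π ≠ 0 := fun e => h0 (eq_zero_of_rk e)
    rcases Nat.lt_or_ge (rk π) 2 with hlt | hge
    · obtain ⟨c, hc0, -, hc⟩ := eq_pj_of_rk h2 hπ (by omega)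
      exact ⟨c, hc0, hc ▸ h⟩
    · obtain ⟨e, he, he0⟩ := exists_aniso h2 hπ.one_sub (sub_ne_zero.2 h1.symm)
      obtain ⟨f, hf, hv⟩ := exists_value_pr h2 hπ hge (e ⬝ʷ e)
      exact ⟨f, hv ▸ he0, hstep π hπ h he hf he0 hv.symm⟩
  -- a line of the value of `a`
  obtain ⟨d, hd, hdl⟩ : ∃ d : Fin k → F, d ⬝ʷ d = a ⬝ʷ a ∧ Ctl M r (sl s' (pj d)) := by
    have hσ := pr_pj hc0
    have hr := rk_one_sub hσ
    rw [rk_pj hc0, Fintype.card_fin] at hr
    obtain ⟨c', hc', hv⟩ := exists_value_pr h2 hσ.one_sub (by omega) (c ⬝ʷ c)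
    have hc'0 : c' ⬝ʷ c' ≠ 0 := hv ▸ hc0
    have hcc : c ⬝ʷ c' = 0 := by
      rw [← hc', ← hσ.one_sub.dot, Matrix.sub_mulVec, Matrix.one_mulVec, pj_self hc0, sub_self, zero_bf]
    have hc'c : c' ⬝ʷ c = 0 := by rw [bf_comm]; exact hcc
    obtain ⟨hq, -⟩ := hmove hc'0 hv hc'c
    have h2l := ctl_conj_slot hh hM hrs hc (rf_mem (c' - c))
    rw [conj_pj h2 (rf_mem _), hq] at h2l
    have e1 := pj_mul_pj hcc
    have e2 := hσ.swap (pr_pj hc'0) e1
    have hρ := hσ.one_sub.sub (pr_pj hc'0) (mul_pj hc')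
    have hrρ := rk_sub_pj hσ.one_sub hc'0 hc'
    have hρl := hprod _ _ (hcompl _ hc) (hcompl _ h2l) (by
      show (1 - pj c) * (1 - pj c') = (1 - pj c') * (1 - pj c)
      simp only [sub_mul, mul_sub, one_mul, mul_one, e1, e2]
      abel)
    rw [show (1 - pj c) * (1 - pj c') = 1 - pj c - pj c' by
      simp only [sub_mul, mul_sub, one_mul, mul_one, e1]; abel] at hρl
    have hτ := hσ.add (pr_pj hc'0) e1
    have hrτ : rk (pj c + pj c') = 2 := by rw [rk_add hσ (pr_pj hc'0) e1, rk_pj hc0, rk_pj hc'0]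
    obtain ⟨e, he, hev⟩ := exists_value_pr h2 hτ (by omega) (a ⬝ʷ a)
    obtain ⟨f, hf, hfv⟩ := exists_value_pr h2 hρ (by omega) (a ⬝ʷ a)
    exact ⟨f, hfv, hstep _ hρ hρl (e := e) (by
      rw [show (1 : Matrix (Fin k) (Fin k) F) - (1 - pj c - pj c') = pj c + pj c' by abel]; exact he) hf
      (by rw [hev]; exact ha) (by rw [hev, hfv])⟩
  obtain ⟨q, hq, hqa⟩ := exists_om_act h2 hh.three' (by rw [hd]; exact ha) hd
  have := ctl_conj_slot hh hM hrs hdl (om_le_orth hq)
  rwa [conj_pj h2 (om_le_orth hq), hqa] at this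

/-- all the lines of one slot control another -/
def Lines (M : Subgroup (GL (S → Fin k) F)) (s r : S) : Prop :=
  ∀ (hrs : r ≠ s) (a : Fin k → F), a ⬝ʷ a ≠ 0 → Ctl M r (sl (⟨s, hrs.symm⟩ : {x // x ≠ r}) (pj a))

/-- lines in the reversed direction -/
theorem lines_swap {s r : S} (hrs : r ≠ s) (h : Lines M s r) : Lines M r s := by
  classical
  intro hsr b hb
  have h2 := hh.h2
  obtain ⟨j₀, hj⟩ := hh.ones
  have h4 := hh.four'
  obtain ⟨i, -, hi⟩ := Finset.exists_mem_notMem_of_card_lt_card (s := ({j₀} : Finset (Fin k))) (t := Finset.univ)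
    (by rw [Finset.card_univ, Finset.card_singleton]; omega)
  obtain ⟨l, -, hl⟩ := Finset.exists_mem_notMem_of_card_lt_card (s := ({j₀, i} : Finset (Fin k))) (t := Finset.univ)
    (by have := Finset.card_le_two (a := j₀) (b := i); rw [Finset.card_univ]; omega)
  simp only [Finset.mem_singleton, Finset.mem_insert, not_or] at hi hl
  set a : Fin k → F := Pi.single i 1 with ha
  set c : Fin k → F := Pi.single l 1 with hc
  have ha0 : a ⬝ʷ a ≠ 0 := hh.rf_single i
  have hc0 : c ⬝ʷ c ≠ 0 := hh.rf_single l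
  have hac : a ⬝ʷ c = 0 := by simp [ha, hc, bf_single, Ne.symm hl.2, hl.2]
  have e1 := pj_mul_pj hac
  have e2 := (pr_pj ha0).swap (pr_pj hc0) e1
  set y : GL (Fin k) F := rf a * rf c with hy
  have hyO : y ∈ Om (Fin k) F :=
    rf_single_mul_mem h2 (show (Wt.w i : F) = Wt.w l by rw [hj i hi, hj l hl.1])
  set τ := pj a + pj c with hτdef
  have hτ := (pr_pj ha0).add (pr_pj hc0) e1
  have hrτ : rk τ = 2 := by rw [hτdef, rk_add (pr_pj ha0) (pr_pj hc0) e1, rk_pj ha0, rk_pj hc0]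
  have hτ0 : τ ≠ 0 := fun e => by rw [e, rk_zero] at hrτ; omega
  have hτ1 : τ ≠ 1 := fun e => by rw [e, rk_one] at hrτ; omega
  have hyv : (y : Matrix (Fin k) (Fin k) F) - 1 = (-2 : F) • τ := by
    rw [hy, Units.val_mul, rf_val ha0, rf_val hc0, hτdef, sub_mul, one_mul, mul_sub, mul_one, smul_mul_smul_comm,
      e1, smul_zero, sub_zero, neg_smul, smul_add]
    abel
  have hysc : ∀ d : F, (y : Matrix (Fin k) (Fin k) F) ≠ d • 1 := fun d e => by
    rw [hy, Units.val_mul, rf_single_val h2, rf_single_val h2, Matrix.diagonal_mul_diagonal] at e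
    have f1 := congrFun (congrFun e i) i
    have f2 := congrFun (congrFun e j₀) j₀
    simp [Ne.symm hi, Ne.symm hl.1, Ne.symm hl.2] at f1 f2
    exact h2 (by linear_combination f2 - f1)
  set s' : {x // x ≠ r} := ⟨s, hrs.symm⟩
  have hτl : Ctl M r (sl s' τ) := by
    have h5 := (((h hrs a ha0).compl hh hM).prod hh hM ((h hrs c hc0).compl hh hM) (by
      refine ((Commute.one_left _).sub_left ((Commute.one_right _).sub_right ?_))
      exact Commute.map (e1.trans e2.symm) (sl s'))).compl hh hM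
    rwa [show (1 : Matrix ({x // x ≠ r} → Fin k) ({x // x ≠ r} → Fin k) F) -
        (1 - sl s' (pj a)) * (1 - sl s' (pj c)) = sl s' τ by
      rw [hτdef, TW.sl_add]
      simp only [sub_mul, mul_sub, one_mul, mul_one, ← map_mul, e1]
      rw [show sl s' (0 : Matrix (Fin k) (Fin k) F) = 0 by
        have := TW.sl_add s' (0 : Matrix (Fin k) (Fin k) F) 0
        rw [add_zero] at this
        exact left_eq_add.1 this]
      abel] at h5
  obtain ⟨hP, hmem⟩ := hτl
  have hg := hmem y hyO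
  have hseed : Ctl M s (sl (⟨r, hsr.symm⟩ : {x // x ≠ s}) τ) := by
    refine ctl_of_one hh hM (pr_sl _ hτ) hyO hysc ?_
    convert hg using 1
    exact Units.ext ((lel_ctl hsr hτ y).trans ((ctlMat_symm hrs τ _ _ hyv).symm.trans (lel_ctl hrs hτ y).symm))
  exact ctl_line hh hM hsr hτ hτ0 hτ1 hseed hb

/-- permutations inside the group move lines -/
theorem lines_perm {s r : S} (hrs : r ≠ s) (h : Lines M s r) {σ : Equiv.Perm S}
    (hσ : (pg σ : GL (S → Fin k) F) ∈ M) : Lines M (σ s) (σ r) := by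
  intro hne a ha
  obtain ⟨y, hy, hy1⟩ := exists_pair hh
  obtain ⟨hP, hmem⟩ := h hrs a ha
  refine ctl_of_one hh hM (pr_sl _ (pr_pj ha)) hy hy1 ?_
  convert mul_mem (mul_mem hσ (hmem y hy)) (inv_mem hσ) using 1
  rw [eq_mul_inv_iff_mul_eq]
  refine Units.ext ?_
  rw [Units.val_mul, Units.val_mul, lel_ctl hne (pr_pj ha), lel_ctl hrs (pr_pj ha), pg_ctl]

/-- **a slot element gives everything** -/
theorem om_le_of_ctl {s r : S} (hrs : r ≠ s) {π : Matrix (Fin k) (Fin k) F} (hπ : Pr π) (h0 : π ≠ 0) (h1 : π ≠ 1)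
    {y : GL (Fin k) F} (hy : y ∈ Om (Fin k) F) (hy1 : ∀ c : F, (y : Matrix (Fin k) (Fin k) F) ≠ c • 1)
    {g : GL (S → Fin k) F} (hg : g ∈ M)
    (e : (g : Matrix (S → Fin k) (S → Fin k) F) = ctlMat s r π (y : Matrix (Fin k) (Fin k) F)) :
    Om (S → Fin k) F ≤ M := by
  classical
  have h2 := hh.h2
  have hseed : Ctl M r (sl (⟨s, hrs.symm⟩ : {x // x ≠ r}) π) := by
    refine ctl_of_one hh hM (pr_sl _ hπ) hy hy1 ?_
    convert hg using 1
    exact Units.ext ((lel_ctl hrs hπ y).trans e.symm)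
  have hbase : Lines M s r := fun _ a ha => ctl_line hh hM hrs hπ h0 h1 hseed ha
  -- lines of every slot other than `r`
  have hlines : ∀ x : S, Lines M x r := by
    intro x hxr
    rcases eq_or_ne x s with rfl | hxs
    · exact hbase hxr
    set ρ : Equiv.Perm S := Equiv.swap r x * Equiv.swap s r with hρ
    have hs : (ρ * ρ) s = r := by
      simp [hρ, Equiv.Perm.mul_apply, Equiv.swap_apply_of_ne_of_ne, hrs, hrs.symm, hxr, Ne.symm hxr, hxs,
        Ne.symm hxs]
    have hr : (ρ * ρ) r = x := by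
      simp [hρ, Equiv.Perm.mul_apply, Equiv.swap_apply_of_ne_of_ne, hrs, hrs.symm, hxr, Ne.symm hxr, hxs,
        Ne.symm hxs]
    have hm : (pg (ρ * ρ) : GL (S → Fin k) F) ∈ M := by
      refine hM.wr ⟨TW.pg_mem _, ?_⟩
      rw [TW.pg_mul]
      exact sq_mem_om h2 (pg_orth ρ)
    have h' := lines_perm hh hM hrs hbase hm
    rw [hs, hr] at h'
    exact lines_swap hh hM (Ne.symm hxr) h' hxr
  -- all coordinate lines in the slots off `r`
  let M' : Subgroup (GL (({x // x ≠ r} → Fin k) × Fin k) F) := M.comap (rid r).symm.toMonoidHom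
  have hsingle : ∀ (x : {x // x ≠ r}) (a : Fin k → F), a ⬝ʷ a ≠ 0 → Ctl M r (sl x (pj a)) := fun x a ha =>
    hlines x.1 (Ne.symm x.2) a ha
  have hpj : ∀ {γ : Type} [Fintype γ] [DecidableEq γ] [Wt γ F] (i : γ),
      pj (Pi.single i (1 : F) : γ → F) = Matrix.diagonal fun a => if a = i then 1 else 0 := by
    intro γ _ _ _ i
    ext a b
    rcases eq_or_ne a b with rfl | hab
    · rcases eq_or_ne a i with rfl | hai
      · simp [pj, ov_apply, bf_single, Wt.ne]
      · simp [pj, ov_apply, hai]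
    · rw [Matrix.diagonal_apply_ne _ hab]
      rcases eq_or_ne a i with rfl | hai
      · simp [pj, ov_apply, Ne.symm hab]
      · simp [pj, ov_apply, hai]
  have hC : ∀ z : {x // x ≠ r} → Fin k, Ctl M r (cp (F := F) z) := by
    intro z
    have hU : ∀ U : Finset {x // x ≠ r}, U.Nonempty →
        Ctl M r (pm fun x => if x ∈ U then pj (Pi.single (z x) (1 : F)) else 1) := by
      intro U hU
      induction hU using Finset.Nonempty.cons_induction with
      | singleton x =>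
        convert hsingle x (Pi.single (z x) (1 : F)) (hh.rf_single _) using 1
        refine congrArg pm (funext fun q => ?_)
        rcases eq_or_ne q x with rfl | hq
        · simp
        · simp [hq]
      | cons x U hx _ ih =>
        have hcom : Commute (sl x (pj (Pi.single (z x) (1 : F))))
            (pm fun q => if q ∈ U then pj (Pi.single (z q) (1 : F)) else 1) := by
          refine Commute.map (funext fun q => ?_) pm
          rcases eq_or_ne q x with rfl | hq
          · simp [hx]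
          · simp [hq]
        convert (hsingle x (Pi.single (z x) (1 : F)) (hh.rf_single _)).prod hh hM ih hcom using 1
        show _ = pm (Pi.mulSingle x _) * pm _
        rw [← map_mul]
        refine congrArg pm (funext fun q => ?_)
        rcases eq_or_ne q x with rfl | hq
        · simp [hx]
        · simp [hq]
    convert hU Finset.univ ⟨⟨s, hrs.symm⟩, Finset.mem_univ _⟩ using 1
    rw [cp, hpj]
    ext p q
    simp only [Finset.mem_univ, if_true, TW.pm_apply, hpj, Matrix.diagonal_apply]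
    by_cases hpq : p = q
    · subst hpq
      simp only [if_true]
      rw [Fintype.prod_ite_zero, Finset.prod_const_one]
      simp only [funext_iff]
    · rw [if_neg hpq]
      obtain ⟨i, hi⟩ := Function.ne_iff.1 hpq
      exact (Finset.prod_eq_zero (Finset.mem_univ i) (by rw [if_neg hi])).symm
  have h9 : 5 ≤ Fintype.card (({x // x ≠ r} → Fin k) × Fin k) := by
    haveI : Nonempty {x // x ≠ r} := ⟨⟨s, hrs.symm⟩⟩
    rw [Fintype.card_prod, Fintype.card_fun, Fintype.card_fin]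
    have h1 : k ≤ k ^ Fintype.card {x // x ≠ r} := Nat.le_self_pow Fintype.card_ne_zero k
    have h3 := hh.four
    nlinarith
  have hle : Om (({x // x ≠ r} → Fin k) × Fin k) F ≤ M' :=
    om_le_of_controls hh (fun z h hh' => by
        obtain ⟨hP, hmem⟩ := hC z
        exact hmem h hh')
      (fun x b hb h hh' => by
        obtain ⟨hP, hmem⟩ := hsingle x b hb
        exact hmem h hh') h9
  intro g' hg'
  have := hle ((rid_om_iff h2 r).2 hg')
  rwa [Subgroup.mem_comap, MulEquiv.coe_toMonoidHom, MulEquiv.symm_apply_apply] at this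

/-- **a seed gives everything** -/
theorem om_le_of_seed {s : S} (r : {x // x ≠ s}) {π : Matrix (Fin k) (Fin k) F} (hπ : Pr π) (h0 : π ≠ 0) (h1 : π ≠ 1)
    {y : GL (Fin k) F} (hy : y ∈ Om (Fin k) F) (hy1 : ∀ c : F, (y : Matrix (Fin k) (Fin k) F) ≠ c • 1)
    {g : GL (S → Fin k) F} (hg : g ∈ M)
    (e : (rid s g : Matrix (({x // x ≠ s} → Fin k) × Fin k) (({x // x ≠ s} → Fin k) × Fin k) F) = el r π y) :
    Om (S → Fin k) F ≤ M := by
  refine om_le_of_ctl hh hM r.2 hπ h0 h1 hy hy1 hg ?_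
  rw [TW.rid_val, show r = ⟨r.1, r.2⟩ from rfl, el_ctl r.2] at e
  ext a b
  simpa using congrFun (congrFun e (spl s a)) (spl s b)

/-- a proper overgroup has no full left factor -/
theorem noLeft_of_not_top (hOm : ¬ Om (S → Fin k) F ≤ M) (s : S) : NoLeft (M.map (rid s).toMonoidHom) := by
  intro hT hall
  classical
  have h2 := hh.h2
  obtain ⟨s', r', hrs⟩ := hT.exists_pair_ne
  obtain ⟨y, hy, hy1⟩ := exists_pair hh
  obtain ⟨j₀, hj⟩ := hh.ones
  have hp0 := hh.rf_single j₀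
  have hP := pr_pj hp0
  have h1 : pj (Pi.single j₀ (1 : F) : Fin k → F) ≠ 1 := fun e => by
    have := rk_pj hp0
    rw [e, rk_one, Fintype.card_fin] at this
    have := hh.four
    omega
  have h0 : pj (Pi.single j₀ (1 : F) : Fin k → F) ≠ 0 := fun e => by
    have := rk_pj hp0
    rw [e, rk_zero] at this
    omega
  set B : GL ({x // x ≠ s} → Fin k) F := (rid r').symm (lelHom (pr_sl (⟨s', hrs⟩ : {x // x ≠ r'}) hP) y) with hB
  have hBom : B ∈ Om ({x // x ≠ s} → Fin k) F := by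
    rw [← rid_om_iff h2 r', hB, MulEquiv.apply_symm_apply]
    exact lel_om h2 _ hy
  obtain ⟨g₀, hg₀, e⟩ := hall B hBom
  have hne : r'.1 ≠ s'.1 := fun h => hrs (Subtype.ext h.symm)
  refine hOm (om_le_of_ctl hh hM hne hP h0 h1 hy hy1 hg₀ ?_)
  have e' : (rid s g₀ : Matrix (({x // x ≠ s} → Fin k) × Fin k) (({x // x ≠ s} → Fin k) × Fin k) F) = _ :=
    congrArg Units.val e
  rw [inl_val, hB, lel_ctl (Ne.symm hrs) hP, ← ctlMat_split, TW.rid_val] at e'
  ext a b
  simpa using congrFun (congrFun e' (spl s a)) (spl s b)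

omit [Finite F] hM in
/-- permuted overgroups -/
theorem ov_permGrp {M : Subgroup (GL (S → Fin k) F)} (hM : Ov M) (π : Equiv.Perm S) : Ov (permGrp M π) := by
  constructor
  · rintro _ ⟨x, hx, rfl⟩
    exact mul_mem (mul_mem (pg_orth π) (hM.le hx)) (inv_mem (pg_orth π))
  · rintro a ⟨ha, ha'⟩
    refine ⟨(pg π)⁻¹ * a * pg π, hM.wr ⟨(Wr S k F).mul_mem ((Wr S k F).mul_mem ((Wr S k F).inv_mem (TW.pg_mem π)) ha) (TW.pg_mem π), ?_⟩, ?_⟩
    · simpa using conj_mem_om (inv_mem (pg_orth π)) ha'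
    · show pg π * ((pg π)⁻¹ * a * pg π) * (pg π)⁻¹ = a
      group

omit hM in
theorem not_top_permGrp {M : Subgroup (GL (S → Fin k) F)} (hOm : ¬ Om (S → Fin k) F ≤ M) (π : Equiv.Perm S) :
    ¬ Om (S → Fin k) F ≤ permGrp M π := fun h => hOm fun g hg => by
  obtain ⟨x, hx, e⟩ := h (conj_mem_om (pg_orth π) hg)
  have e' : pg π * x * (pg π)⁻¹ = pg π * g * (pg π)⁻¹ := e
  have e'' : x = g := mul_left_cancel (mul_right_cancel e')
  rwa [e''] at hx

/-- **what the induction gives** -/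
theorem slots_of_ov [Nontrivial S] (hOm : ¬ Om (S → Fin k) F ≤ M) (IH : ∀ s : S, Max {x // x ≠ s} k F) :
    Slots M := by
  classical
  have h2 := hh.h2
  refine ⟨hh, hM, inferInstance, fun s π => ?_,
    fun s π => noLeft_of_not_top hh (ov_permGrp hh hM π) (not_top_permGrp hh hOm π) s⟩
  have hN := ov_permGrp hh hM π
  exact
    { hyp := hh
      ne := nonempty_ne s
      le := by
        rintro _ ⟨g, hg, rfl⟩
        exact (rid_orth_iff h2 s).2 (hN.le hg)
      wr := fun a ha w hw => by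
        set g₁ := (rid s).symm (TP.kr (a, w)) with hg₁
        have e : rid s g₁ = TP.kr (a, w) := (rid s).apply_symm_apply _
        rw [← e]
        refine Subgroup.mem_map_of_mem _ (hN.wr ⟨TW.mem_wr_of_rid s e ha, (rid_om_iff h2 s).1 ?_⟩)
        rw [e]
        exact hw
      max := IH s
      noSeed := fun r σ y hσ h0 h1 hy hy1 g hg e => by
        obtain ⟨g₀, hg₀, rfl⟩ := hg
        exact not_top_permGrp hh hOm π (om_le_of_seed hh hN r hσ h0 h1 hy hy1 hg₀ e) }

end Cfsg.Agent.MaxCl.TEv
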