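/-
An element fixing a pure totally singular subspace of a product with a four dimensional factor is split.
-/
import Cfsg.Agent.Lib.MaxCl.TEvPar

set_option autoImplicit false
set_option linter.unusedSectionVars false

namespace Cfsg.Agent.MaxCl.TEv

open Matrix
open TOrth (inl inr inl_val inr_val kr_val rgt rgt_mul rgt_add rgt_smul rgt_one rgt_zero rgt_sub rgt_inj inr_eq_rgt
  kron_inj inl_commute_rgt Mx)
open TW (tk pm pg rt rid spl sl Wr)
open scoped MatrixGroups Kronecker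

variable {F : Type*} [Field F] {k : ℕ} [Wt (Fin k) F] {T : Type} [Fintype T] [DecidableEq T] [Finite F]
  [Subsingleton T] {M : Subgroup (GL ((T → Fin k) × Fin k) F)} (hM : Ctx T k F M) {v w e₁ e₂ : Fin k → F}
  (h : Fr4 v w e₁ e₂) (hk : k = 4) {g : GL ((T → Fin k) × Fin k) F} (hg : g ∈ M)
  {A : Matrix (T → Fin k) (T → Fin k) F} (hgA : (g : Mx T k F) * rgt _ (ov v w) = A ⊗ₖ ov v w)
include hM h hk hg hgA

/-- an element fixing a pure singular subspace acts on it invertibly, and on the opposite quotient dually -/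
theorem stab_dual : ∃ A₀ : GL (T → Fin k) F, (A₀ : Matrix (T → Fin k) (T → Fin k) F) = A ∧
    rgt _ (ov w v) * (g : Mx T k F) =
      ((A₀⁻¹ : GL (T → Fin k) F) : Matrix (T → Fin k) (T → Fin k) F)† ⊗ₖ ov w v := by
  haveI := hM.nonempty
  have h2 := hM.hyp.h2
  have hgo := hM.le hg
  have e1 : (g : Mx T k F)† * (A ⊗ₖ ov v w) = rgt _ (ov v w) := by
    rw [← hgA, ← mul_assoc, ad_mul_self h2 hgo, one_mul]
  set A' := ctr w v (g : Mx T k F)† with hA'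
  have e2 : A' * A = 1 := by
    refine kron_inj (σ := ov v w) ?_ h.ovvw
    have e := congrArg (fun m => rgt (T → Fin k) (ov v w) * m) e1
    have hA : A ⊗ₖ ov v w = rgt (T → Fin k) (ov v w) * (A ⊗ₖ ov v w) := by
      rw [rgt_kron_ov, h.wv, one_smul]
    simp only [rgt_mul, ov_mul_ov, h.wv, one_smul] at e
    rw [hA, ← mul_assoc, ← mul_assoc, sandwich_ctr, ← hA', kron_ov_mul, h.wv, one_smul] at e
    exact e
  let A₀ : GL (T → Fin k) F := ⟨A, A', mul_eq_one_comm.1 e2, e2⟩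
  refine ⟨A₀, rfl, ?_⟩
  have e := congrArg ad e1
  rw [ad_mul, ad_ad, kron_ov_ad, rgt_ad, ad_ov] at e
  have e' := congrArg (fun m => (A'† ⊗ₖ (1 : Matrix (Fin k) (Fin k) F)) * m) e
  simp only [← mul_assoc, ← Matrix.mul_kronecker_mul, one_mul] at e'
  rw [← ad_mul, mul_eq_one_comm.1 e2, ad_one] at e'
  show _ = A'† ⊗ₖ ov w v
  rw [show rgt (T → Fin k) (ov w v) = (1 : Matrix (T → Fin k) (T → Fin k) F) ⊗ₖ ov w v from rfl, e',
    mul_one]

omit hk in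
theorem stab_v (x : Fin k → F) : (g : Mx T k F) * rgt _ (ov v x) = A ⊗ₖ ov v x := by
  have e : ov v w * ov v x = ov v x := by rw [ov_mul_ov, h.wv, one_smul]
  rw [← e, ← rgt_mul, ← mul_assoc, hgA, kron_ov_rgt, h.wv, one_smul, e]

/-- the images of the middle -/
theorem stab_col {e : Fin k → F} (hve : v ⬝ʷ e = 0) : ∃ D₁ D₂ D₀ : Matrix (T → Fin k) (T → Fin k) F,
    (g : Mx T k F) * rgt _ (ov e v) = D₁ ⊗ₖ ov e₁ v + D₂ ⊗ₖ ov e₂ v + D₀ ⊗ₖ ov v v := by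
  obtain ⟨A₀, -, hwv⟩ := stab_dual hM h hk hg hgA
  refine ⟨(e₁ ⬝ʷ e₁)⁻¹ • ctr e₁ e (g : Mx T k F), (e₂ ⬝ʷ e₂)⁻¹ • ctr e₂ e (g : Mx T k F), ctr w e (g : Mx T k F), ?_⟩
  conv_lhs => rw [← one_mul (g : Mx T k F), ← rgt_one, ← h.sum, pj, pj]
  rw [rgt_add, rgt_add, rgt_add, rgt_smul, rgt_smul, add_mul, add_mul, add_mul, add_mul, add_mul, add_mul,
    smul_mul_assoc, smul_mul_assoc, smul_mul_assoc, smul_mul_assoc, hwv, sandwich_ctr, sandwich_ctr, sandwich_ctr,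
    kron_ov_rgt, hve, zero_smul, Matrix.zero_kronecker, add_zero, Matrix.smul_kronecker, Matrix.smul_kronecker]
  abel

/-- conjugates of the pure radical elements are radical elements -/
theorem stab_conj {c₁ c₂ x : F} {D₁₁ D₁₂ D₁₀ D₂₁ D₂₂ D₂₀ : Matrix (T → Fin k) (T → Fin k) F}
    (h1 : (g : Mx T k F) * rgt _ (ov e₁ v) = D₁₁ ⊗ₖ ov e₁ v + D₁₂ ⊗ₖ ov e₂ v + D₁₀ ⊗ₖ ov v v)
    (h2' : (g : Mx T k F) * rgt _ (ov e₂ v) = D₂₁ ⊗ₖ ov e₁ v + D₂₂ ⊗ₖ ov e₂ v + D₂₀ ⊗ₖ ov v v) :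
    ∃ X, (g : Mx T k F) * El v e₁ e₂ (c₁ • 1) (c₂ • 1) (x • 1) * (g : Mx T k F)† =
      El v e₁ e₂ (A * (c₁ • D₁₁† + c₂ • D₂₁†)) (A * (c₁ • D₁₂† + c₂ • D₂₂†)) X := by
  have h2 := hM.hyp.h2
  have hgo := hM.le hg
  have hve : ∀ e : Fin k → F, (g : Mx T k F) * rgt _ (ov v e) * (g : Mx T k F)† =
      (A ⊗ₖ (1 : Matrix (Fin k) (Fin k) F)) * ((g : Mx T k F) * rgt _ (ov e v))† := fun e => by
    rw [stab_v hM h hg hgA, ad_mul, rgt_ad, ad_ov, ← mul_assoc, rgt, ← Matrix.mul_kronecker_mul, mul_one, one_mul]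
  have hev : ∀ e : Fin k → F, (g : Mx T k F) * rgt _ (ov e v) * (g : Mx T k F)† =
      ((g : Mx T k F) * rgt _ (ov v e) * (g : Mx T k F)†)† := fun e => by
    rw [ad_mul, ad_mul, ad_ad, rgt_ad, ad_ov, mul_assoc]
  have t1 : (g : Mx T k F) * rgt _ (ov v e₁) * (g : Mx T k F)† =
      (A * D₁₁†) ⊗ₖ ov v e₁ + (A * D₁₂†) ⊗ₖ ov v e₂ + (A * D₁₀†) ⊗ₖ ov v v := by
    rw [hve, h1, ad_add, ad_add, kron_ov_ad, kron_ov_ad, kron_ov_ad, mul_add, mul_add]
    simp only [← Matrix.mul_kronecker_mul, one_mul]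
  have t2 : (g : Mx T k F) * rgt _ (ov v e₂) * (g : Mx T k F)† =
      (A * D₂₁†) ⊗ₖ ov v e₁ + (A * D₂₂†) ⊗ₖ ov v e₂ + (A * D₂₀†) ⊗ₖ ov v v := by
    rw [hve, h2', ad_add, ad_add, kron_ov_ad, kron_ov_ad, kron_ov_ad, mul_add, mul_add]
    simp only [← Matrix.mul_kronecker_mul, one_mul]
  have t0 : (g : Mx T k F) * rgt _ (ov v v) * (g : Mx T k F)† = (A * A†) ⊗ₖ ov v v := by
    rw [hve, stab_v hM h hg hgA, kron_ov_ad, ← Matrix.mul_kronecker_mul, one_mul]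
  refine ⟨c₁ • (A * D₁₀†) - c₁ • (A * D₁₀†)† + (c₂ • (A * D₂₀†) - c₂ • (A * D₂₀†)†) + x • (A * A†), ?_⟩
  rw [el_scalar_rgt]
  simp only [rgt_add, rgt_smul, rgt_sub, rgt_one, mul_add, add_mul, mul_smul_comm, smul_mul_assoc, mul_sub, sub_mul,
    mul_one, mul_ad_self h2 hgo, hev e₁, hev e₂, t0, t1, t2, El, ad_add, ad_smul, kron_ov_ad, smul_add, smul_sub]
  ext ⟨p, i⟩ ⟨q, j⟩
  simp only [Matrix.add_apply, Matrix.sub_apply, Matrix.smul_apply, Matrix.kroneckerMap_apply, smul_eq_mul]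
  ring

/-- the action on the middle is pure -/
theorem stab_mid {e : Fin k → F} (he : e = e₁ ∨ e = e₂) {A₀ : GL (T → Fin k) F}
    (hA₀ : (A₀ : Matrix (T → Fin k) (T → Fin k) F) = A) :
    ∃ (z : Fin k → F) (D₀ : Matrix (T → Fin k) (T → Fin k) F), v ⬝ʷ z = 0 ∧
      (∃ c₁ c₂ : F, z = c₁ • e₁ + c₂ • e₂) ∧
      (g : Mx T k F) * rgt _ (ov e v) =
        ((A₀⁻¹ : GL (T → Fin k) F) : Matrix (T → Fin k) (T → Fin k) F)† ⊗ₖ ov z v + D₀ ⊗ₖ ov v v := by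
  have h2 := hM.hyp.h2
  obtain ⟨D₁₁, D₁₂, D₁₀, h1⟩ := stab_col hM h hk hg hgA h.ve₁
  obtain ⟨D₂₁, D₂₂, D₂₀, h2'⟩ := stab_col hM h hk hg hgA h.ve₂
  have hsc : ∀ a b : F, ∃ c₁ c₂ : F, A * (a • D₁₁† + b • D₂₁†) = c₁ • 1 ∧ A * (a • D₁₂† + b • D₂₂†) = c₂ • 1 := by
    intro a b
    obtain ⟨q, hq, x, eq⟩ := pure_el_mem hM h a b
    obtain ⟨X, eX⟩ := stab_conj hM h hk hg hgA (c₁ := a) (c₂ := b) (x := x) h1 h2'
    obtain ⟨c₁, c₂, -, r1, r2, -⟩ := el_pure hM h hk (g := g * q * g⁻¹) (mul_mem (mul_mem hg hq) (inv_mem hg))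
      (B₁ := A * (a • D₁₁† + b • D₂₁†)) (B₂ := A * (a • D₁₂† + b • D₂₂†)) (X := X)
      (by rw [Units.val_mul, Units.val_mul, inv_val h2 (hM.le hg), eq, eX])
    exact ⟨c₁, c₂, r1, r2⟩
  have back : ∀ {D : Matrix (T → Fin k) (T → Fin k) F} {c : F}, A * D† = c • 1 →
      D = c • ((A₀⁻¹ : GL (T → Fin k) F) : Matrix (T → Fin k) (T → Fin k) F)† := fun {D c} e => by
    have e' := congrArg (fun m => ((A₀⁻¹ : GL (T → Fin k) F) : Matrix (T → Fin k) (T → Fin k) F) * m) e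
    simp only [← mul_assoc, ← hA₀, ← Units.val_mul, inv_mul_cancel, Units.val_one, one_mul, mul_smul_comm,
      mul_one] at e'
    rw [← ad_ad D, e', ad_smul]
  rcases he with rfl | rfl
  · obtain ⟨c₁, c₂, r1, r2⟩ := hsc 1 0
    simp only [one_smul, zero_smul, add_zero] at r1 r2
    refine ⟨c₁ • e + c₂ • e₂, D₁₀, by rw [bf_add, bf_smul, bf_smul, h.ve₁, h.ve₂]; simp, ⟨c₁, c₂, rfl⟩, ?_⟩
    rw [h1, back r1, back r2, add_ov, smul_ov, smul_ov, Matrix.kronecker_add, Matrix.kronecker_smul,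
      Matrix.kronecker_smul, Matrix.smul_kronecker, Matrix.smul_kronecker]
  · obtain ⟨c₁, c₂, r1, r2⟩ := hsc 0 1
    simp only [one_smul, zero_smul, zero_add] at r1 r2
    refine ⟨c₁ • e₁ + c₂ • e, D₂₀, by rw [bf_add, bf_smul, bf_smul, h.ve₁, h.ve₂]; simp, ⟨c₁, c₂, rfl⟩, ?_⟩
    rw [h2', back r1, back r2, add_ov, smul_ov, smul_ov, Matrix.kronecker_add, Matrix.kronecker_smul,
      Matrix.kronecker_smul, Matrix.smul_kronecker, Matrix.smul_kronecker]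

/-- the action on the subspace is a similitude -/
theorem stab_sim : ∃ A₀ : GL (T → Fin k) F, (A₀ : Matrix (T → Fin k) (T → Fin k) F) = A ∧ Sim A₀ := by
  haveI := hM.nonempty
  have h2 := hM.hyp.h2
  obtain ⟨A₀, hA₀, -⟩ := stab_dual hM h hk hg hgA
  refine ⟨A₀, hA₀, ?_⟩
  obtain ⟨z, D₀, hvz, -, ec⟩ := stab_mid hM h hk hg hgA (Or.inl rfl) hA₀
  have hzv : z ⬝ʷ v = 0 := by rw [bf_comm]; exact hvz
  set B := ((A₀⁻¹ : GL (T → Fin k) F) : Matrix (T → Fin k) (T → Fin k) F)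
  have e1 : ((g : Mx T k F) * rgt _ (ov e₁ v))† * ((g : Mx T k F) * rgt _ (ov e₁ v)) =
      ((e₁ ⬝ʷ e₁) • (1 : Matrix (T → Fin k) (T → Fin k) F)) ⊗ₖ ov v v := by
    rw [ad_mul, mul_assoc, ← mul_assoc _ (g : Mx T k F) _, ad_mul_self h2 (hM.le hg), one_mul, rgt_ad, ad_ov, rgt_mul,
      ov_mul_ov, ov_smul, rgt_smul, Matrix.smul_kronecker]
  rw [ec] at e1
  simp only [ad_add, kron_ov_ad, ad_ad, add_mul, mul_add, kron_ov_mul, hvz, hzv, h.vv, zero_smul,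
    Matrix.zero_kronecker, add_zero] at e1
  have e2 : (z ⬝ʷ z) • (B * B†) = (e₁ ⬝ʷ e₁) • 1 := kron_inj e1 h.ovvv
  have hz : z ⬝ʷ z ≠ 0 := fun e => by
    rw [e, zero_smul] at e2
    exact h.ne₁ ((smul_eq_zero.1 e2.symm).resolve_right one_ne_zero)
  refine ⟨(z ⬝ʷ z) / (e₁ ⬝ʷ e₁), div_ne_zero hz h.ne₁, ?_⟩
  have hl : (A₀ : Matrix (T → Fin k) (T → Fin k) F) * B = 1 := Units.mul_inv A₀
  have hr : B† * (A₀ : Matrix (T → Fin k) (T → Fin k) F)† = 1 := by rw [← ad_mul, hl, ad_one]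
  have e3 := congrArg (fun m => (A₀ : Matrix (T → Fin k) (T → Fin k) F) * m * (A₀ : Matrix (T → Fin k) (T → Fin k) F)†) e2
  simp only [mul_smul_comm, smul_mul_assoc, mul_one] at e3
  rw [← mul_assoc, hl, one_mul, hr] at e3
  have e4 : ((e₁ ⬝ʷ e₁) / (z ⬝ʷ z)) •
      ((A₀ : Matrix (T → Fin k) (T → Fin k) F) * (A₀ : Matrix (T → Fin k) (T → Fin k) F)†) = 1 := by
    rw [div_eq_inv_mul, ← smul_smul, ← e3, inv_smul_smul₀ hz]
  rw [← mul_smul_comm] at e4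
  have e5 := mul_eq_one_comm.1 e4
  rw [smul_mul_assoc] at e5
  rw [← e5, smul_smul, div_mul_div_comm, mul_comm (z ⬝ʷ z), div_self (mul_ne_zero h.ne₁ hz), one_smul]

/-- **stabilisers of pure singular subspaces are split** -/
theorem stab_spl : Spl g := by
  haveI := hM.nonempty
  haveI := hM.hyp.ne
  haveI := hM.ne
  have h2 := hM.hyp.h2
  obtain ⟨A₀, hA₀, hSim⟩ := stab_sim hM h hk hg hgA
  obtain ⟨cS, hcS, eS⟩ := id hSim
  set A' := ((A₀⁻¹ : GL (T → Fin k) F) : Matrix (T → Fin k) (T → Fin k) F)†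
  have hA' : A' = cS⁻¹ • A := by
    have h1 : (A₀ : Matrix (T → Fin k) (T → Fin k) F)† * (A₀ : Matrix (T → Fin k) (T → Fin k) F) = cS • 1 := eS
    have h3 : (A₀ : Matrix (T → Fin k) (T → Fin k) F)† =
        cS • ((A₀⁻¹ : GL (T → Fin k) F) : Matrix (T → Fin k) (T → Fin k) F) := by
      have := congrArg (fun m => m * ((A₀⁻¹ : GL (T → Fin k) F) : Matrix (T → Fin k) (T → Fin k) F)) h1
      simpa [mul_assoc, smul_mul_assoc] using this
    have h5 := congrArg ad h3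
    rw [ad_ad, ad_smul] at h5
    rw [← hA₀, h5, smul_smul, inv_mul_cancel₀ hcS, one_smul]
  obtain ⟨z₁, P₁, hz₁, ⟨c₁₁, c₁₂, ez₁⟩, m1⟩ := stab_mid hM h hk hg hgA (Or.inl rfl) hA₀
  obtain ⟨z₂, P₂, hz₂, ⟨c₂₁, c₂₂, ez₂⟩, m2⟩ := stab_mid hM h hk hg hgA (Or.inr rfl) hA₀
  -- conjugates of left elements
  have key : ∀ u : ↥(Om (T → Fin k) F), ∃ C : GL (Fin k) F,
      g * inl _ k F (u : GL (T → Fin k) F) * g⁻¹ =
        inl _ k F (A₀ * (u : GL (T → Fin k) F) * A₀⁻¹) * inr _ k F C ∧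
      ∃ a b x : F, (C : Matrix (Fin k) (Fin k) F) =
        1 + a • (ov v e₁ - ov e₁ v) + b • (ov v e₂ - ov e₂ v) + x • ov v v := by
    intro u
    set U := A₀ * (u : GL (T → Fin k) F) * A₀⁻¹
    have hUo : U ∈ Om (T → Fin k) F := hSim.conj_om h2 u.2
    have hWr : ∀ a : GL (T → Fin k) F, a ∈ Wr T k F := fun a => by rw [TW.wr_eq_top]; exact Subgroup.mem_top _
    have hUM : inl _ k F U ∈ M := hM.inl_mem (hWr _) hUo
    have huM : inl _ k F (u : GL (T → Fin k) F) ∈ M := hM.inl_mem (hWr _) u.2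
    set G := g⁻¹ * ((inl _ k F U)⁻¹ * (g * inl _ k F (u : GL (T → Fin k) F))) with hG
    have hGM : G ∈ M := mul_mem (inv_mem hg) (mul_mem (inv_mem hUM) (mul_mem hg huM))
    set Am := ((u : GL (T → Fin k) F) : Matrix (T → Fin k) (T → Fin k) F) with hAm
    set Ui := ((U⁻¹ : GL (T → Fin k) F) : Matrix (T → Fin k) (T → Fin k) F)
    have hUA : Ui * A * Am = A := by
      rw [show Ui = ((A₀ * (u : GL (T → Fin k) F)⁻¹ * A₀⁻¹ : GL (T → Fin k) F) : Matrix _ _ F) from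
        congrArg Units.val (by simp [U, mul_assoc]), ← hA₀, hAm, ← Units.val_mul, ← Units.val_mul]
      congr 1
      group
    have hcomm : ∀ Y : Matrix (Fin k) (Fin k) F, (inl _ k F (u : GL (T → Fin k) F) : Mx T k F) * rgt _ Y =
        rgt _ Y * (inl _ k F (u : GL (T → Fin k) F) : Mx T k F) := fun Y => (inl_commute_rgt _ _).eq
    have hmove : ∀ (D : Matrix (T → Fin k) (T → Fin k) F) (Y : Matrix (Fin k) (Fin k) F),
        ((((inl _ k F U)⁻¹ : GL ((T → Fin k) × Fin k) F) : Mx T k F)) *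
          ((D ⊗ₖ Y) * (inl _ k F (u : GL (T → Fin k) F) : Mx T k F)) = (Ui * D * Am) ⊗ₖ Y := fun D Y => by
      rw [← map_inv, inl_val, inl_val, ← Matrix.mul_kronecker_mul, ← Matrix.mul_kronecker_mul, mul_one, one_mul,
        mul_assoc]
    have hGv : (G : Mx T k F) * rgt _ (ov v w) = rgt _ (ov v w) := by
      rw [hG, Units.val_mul, Units.val_mul, Units.val_mul, mul_assoc, mul_assoc, mul_assoc, hcomm,
        ← mul_assoc (g : Mx T k F), hgA, hmove, hUA, ← hgA, ← mul_assoc, ← Units.val_mul, inv_mul_cancel,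
        Units.val_one, one_mul]
    -- on the middle
    have hGe : ∀ {e z : Fin k → F} {P : Matrix (T → Fin k) (T → Fin k) F},
        (g : Mx T k F) * rgt _ (ov e v) = A' ⊗ₖ ov z v + P ⊗ₖ ov v v →
        ∃ Y, (G : Mx T k F) * rgt _ (ov e v) = rgt _ (ov e v) + Y ⊗ₖ ov v v := fun {e z P} m => by
      refine ⟨((A₀⁻¹ : GL (T → Fin k) F) : Matrix (T → Fin k) (T → Fin k) F) * (Ui * P * Am - P), ?_⟩
      have hA'u : Ui * A' * Am = A' := by rw [hA', mul_smul_comm, smul_mul_assoc, hUA]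
      have hinv : ∀ D, ((g⁻¹ : GL ((T → Fin k) × Fin k) F) : Mx T k F) * (D ⊗ₖ ov v v) =
          (((A₀⁻¹ : GL (T → Fin k) F) : Matrix (T → Fin k) (T → Fin k) F) * D) ⊗ₖ ov v v := fun D => by
        have e' : (g : Mx T k F) * ((((A₀⁻¹ : GL (T → Fin k) F) : Matrix (T → Fin k) (T → Fin k) F) * D) ⊗ₖ ov v v) =
            D ⊗ₖ ov v v := by
          rw [show (((A₀⁻¹ : GL (T → Fin k) F) : Matrix (T → Fin k) (T → Fin k) F) * D) ⊗ₖ ov v v =
            rgt _ (ov v w) * ((((A₀⁻¹ : GL (T → Fin k) F) : Matrix (T → Fin k) (T → Fin k) F) * D) ⊗ₖ ov v v) by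
              rw [rgt_kron_ov, h.wv, one_smul], ← mul_assoc, hgA, kron_ov_mul, h.wv, one_smul, ← mul_assoc, ← hA₀,
            ← Units.val_mul, mul_inv_cancel, Units.val_one, one_mul]
        rw [← e', ← mul_assoc, ← Units.val_mul, inv_mul_cancel, Units.val_one, one_mul]
      rw [hG, Units.val_mul, Units.val_mul, Units.val_mul, mul_assoc, mul_assoc, mul_assoc, hcomm,
        ← mul_assoc (g : Mx T k F), m, add_mul, mul_add, hmove, hmove, hA'u,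
        show A' ⊗ₖ ov z v + (Ui * P * Am) ⊗ₖ ov v v =
          (g : Mx T k F) * rgt _ (ov e v) + (Ui * P * Am - P) ⊗ₖ ov v v by
            rw [m]; ext ⟨p, i⟩ ⟨q, j⟩; simp [Matrix.sub_apply]; ring,
        mul_add, hinv, ← mul_assoc, ← Units.val_mul, inv_mul_cancel, Units.val_one, one_mul]
    obtain ⟨Y₁, hY₁⟩ := hGe m1
    obtain ⟨Y₂, hY₂⟩ := hGe m2
    have hGo := hM.le hGM
    have hGv' : rgt _ (ov w v) * (G : Mx T k F) = rgt _ (ov w v) := by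
      have e := congrArg (fun m => (G : Mx T k F)† * m) hGv
      simp only [← mul_assoc, ad_mul_self h2 hGo, one_mul] at e
      have e' := congrArg ad e
      rw [ad_mul, ad_ad, rgt_ad, ad_ov] at e'
      exact e'.symm
    have hev : ∀ {e : Fin k → F} {Y : Matrix (T → Fin k) (T → Fin k) F}, v ⬝ʷ e = 0 →
        (G : Mx T k F) * rgt _ (ov e v) = rgt _ (ov e v) + Y ⊗ₖ ov v v →
        rgt _ (ov v e) * (G : Mx T k F) = rgt _ (ov v e) - Y† ⊗ₖ ov v v := fun {e Y} _ hY => by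
      have hGvv : (G : Mx T k F) * (Y ⊗ₖ ov v v) = Y ⊗ₖ ov v v := by
        rw [show Y ⊗ₖ ov v v = rgt (T → Fin k) (ov v w) * (Y ⊗ₖ ov v v) by rw [rgt_kron_ov, h.wv, one_smul],
          ← mul_assoc, hGv]
      have e1 : (G : Mx T k F)† * rgt _ (ov e v) = rgt _ (ov e v) - Y ⊗ₖ ov v v := by
        have e2 : (G : Mx T k F) * (rgt _ (ov e v) - Y ⊗ₖ ov v v) = rgt _ (ov e v) := by
          rw [mul_sub, hY, hGvv, add_sub_cancel_right]
        conv_lhs => rw [← e2]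
        rw [← mul_assoc, ad_mul_self h2 hGo, one_mul]
      have := congrArg ad e1
      rwa [ad_mul, ad_ad, ad_sub, rgt_ad, ad_ov, kron_ov_ad] at this
    have hEl : ∃ B₁ B₂ X, (G : Mx T k F) = El v e₁ e₂ B₁ B₂ X := by
      refine ⟨(e₁ ⬝ʷ e₁)⁻¹ • Y₁, (e₂ ⬝ʷ e₂)⁻¹ • Y₂, ctr w w (G : Mx T k F), ?_⟩
      have hpj : ∀ {e : Fin k → F}, pj e = (e ⬝ʷ e)⁻¹ • (ov e v * ov w e) := fun {e} => by
        rw [ov_mul_ov, h.vw, one_smul, pj]
      have hpj' : ∀ {e : Fin k → F}, pj e = (e ⬝ʷ e)⁻¹ • (ov e w * ov v e) := fun {e} => by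
        rw [ov_mul_ov, h.wv, one_smul, pj]
      have hp : ∀ {e : Fin k → F} {Y : Matrix (T → Fin k) (T → Fin k) F},
          (G : Mx T k F) * rgt _ (ov e v) = rgt _ (ov e v) + Y ⊗ₖ ov v v →
          (G : Mx T k F) * rgt _ (pj e) = rgt _ (pj e) + ((e ⬝ʷ e)⁻¹ • Y) ⊗ₖ ov v e := fun {e Y} hY => by
        rw [hpj, rgt_smul, mul_smul_comm, ← rgt_mul, ← mul_assoc, hY, add_mul, smul_add]
        simp only [kron_ov_rgt, h.vw, one_smul, Matrix.smul_kronecker]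
      have hq : ∀ {e : Fin k → F} {Y : Matrix (T → Fin k) (T → Fin k) F}, v ⬝ʷ e = 0 → w ⬝ʷ e = 0 →
          (G : Mx T k F) * rgt _ (ov e v) = rgt _ (ov e v) + Y ⊗ₖ ov v v →
          rgt _ (pj e) * (G : Mx T k F) * rgt _ (ov w v) = -(((e ⬝ʷ e)⁻¹ • Y)† ⊗ₖ ov e v) := fun {e Y} hve hwe hY => by
        have hew : e ⬝ʷ w = 0 := by rw [bf_comm]; exact hwe
        rw [hpj', rgt_smul, smul_mul_assoc, smul_mul_assoc, ← rgt_mul, mul_assoc (rgt _ (ov e w)), hev hve hY,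
          mul_sub, sub_mul, rgt_mul, rgt_mul, ov_mul_ov, ov_smul, h.wv, one_smul, ov_mul_ov, hew, zero_smul]
        simp only [rgt_kron_ov, kron_ov_rgt, h.wv, h.vw, one_smul, ad_smul, Matrix.smul_kronecker, rgt_zero]
        rw [show ov e (0 : Fin k → F) = 0 by ext; simp [ov_apply], rgt_zero, zero_sub, smul_neg]
      have hwv : (G : Mx T k F) * rgt _ (ov w v) =
          rgt _ (ov w v) + -(((e₁ ⬝ʷ e₁)⁻¹ • Y₁)† ⊗ₖ ov e₁ v) + -(((e₂ ⬝ʷ e₂)⁻¹ • Y₂)† ⊗ₖ ov e₂ v) +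
            ctr w w (G : Mx T k F) ⊗ₖ ov v v := by
        conv_lhs => rw [← one_mul (G : Mx T k F), ← rgt_one, ← h.sum]
        rw [rgt_add, rgt_add, rgt_add, add_mul, add_mul, add_mul, add_mul, add_mul, add_mul, sandwich_ctr,
          hq h.ve₁ h.we₁ hY₁, hq h.ve₂ h.we₂ hY₂, hGv', rgt_mul, ov_mul_ov, h.vw, one_smul]
        abel
      conv_lhs => rw [← mul_one (G : Mx T k F), ← rgt_one, ← h.sum]
      rw [rgt_add, rgt_add, rgt_add, mul_add, mul_add, mul_add, hGv, hwv, hp hY₁, hp hY₂, El, ← rgt_one, ← h.sum,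
        rgt_add, rgt_add, rgt_add]
      abel
    obtain ⟨B₁, B₂, X, eG⟩ := hEl
    obtain ⟨a, b, x, -, -, eG'⟩ := el_pure hM h hk hGM eG
    -- conjugated back
    obtain ⟨X', eX⟩ := stab_conj hM h hk hg hgA (c₁ := a) (c₂ := b) (x := x)
      (D₁₁ := c₁₁ • A') (D₁₂ := c₁₂ • A') (D₁₀ := P₁) (D₂₁ := c₂₁ • A') (D₂₂ := c₂₂ • A') (D₂₀ := P₂)
      (by rw [m1, ez₁, add_ov, smul_ov, smul_ov, Matrix.kronecker_add, Matrix.kronecker_smul, Matrix.kronecker_smul,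
        Matrix.smul_kronecker, Matrix.smul_kronecker])
      (by rw [m2, ez₂, add_ov, smul_ov, smul_ov, Matrix.kronecker_add, Matrix.kronecker_smul, Matrix.kronecker_smul,
        Matrix.smul_kronecker, Matrix.smul_kronecker])
    obtain ⟨a', b', x', -, -, eQ⟩ := el_pure hM h hk (g := g * G * g⁻¹) (mul_mem (mul_mem hg hGM) (inv_mem hg))
      (by rw [Units.val_mul, Units.val_mul, inv_val h2 (hM.le hg), eG', eX])
    rw [el_scalar_rgt] at eQ
    set Q := (1 : Matrix (Fin k) (Fin k) F) + a' • (ov v e₁ - ov e₁ v) + b' • (ov v e₂ - ov e₂ v) + x' • ov v v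
    have hQ : Q† * Q = 1 := rgt_inj (β := T → Fin k) (by
      rw [← rgt_mul, ← rgt_ad, ← eQ, ad_mul_self h2 (hM.le (mul_mem (mul_mem hg hGM) (inv_mem hg))), rgt_one])
    refine ⟨⟨Q, Q†, mul_eq_one_comm.1 hQ, hQ⟩, ?_, a', b', x', rfl⟩
    have e' : g * G * g⁻¹ = inr _ k F ⟨Q, Q†, mul_eq_one_comm.1 hQ, hQ⟩ := Units.ext (eQ.trans (inr_eq_rgt ⟨Q, Q†, mul_eq_one_comm.1 hQ, hQ⟩).symm)
    rw [← e', hG]
    group
  choose C hC hCform using key
  have hcommC : ∀ u u', Commute (C u) (C u') := fun u u' => by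
    obtain ⟨a, b, x, e⟩ := hCform u
    obtain ⟨a', b', x', e'⟩ := hCform u'
    refine Units.ext (rgt_inj (β := T → Fin k) ?_)
    rw [Units.val_mul, Units.val_mul, ← rgt_mul, ← rgt_mul, e, e', ← el_scalar_rgt, ← el_scalar_rgt, el_mul h,
      el_mul h]
    congr 1
    · exact add_comm _ _
    · exact add_comm _ _
    · simp only [ad_smul, ad_one, smul_mul_smul_comm, mul_one, mul_comm a a', mul_comm b b', add_comm (x • (1 : Matrix (T → Fin k) (T → Fin k) F))]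
  have hCmul : ∀ u u', C (u * u') = C u * C u' := fun u u' => inr_inj (T := T) (by
    have e := hC (u * u')
    rw [Subgroup.coe_mul, map_mul (inl _ k F) (u : GL (T → Fin k) F), show g * (inl _ k F (u : GL (T → Fin k) F) *
      inl _ k F (u' : GL (T → Fin k) F)) * g⁻¹ = (g * inl _ k F (u : GL (T → Fin k) F) * g⁻¹) *
        (g * inl _ k F (u' : GL (T → Fin k) F) * g⁻¹) by group, hC, hC,
      show A₀ * ((u : GL (T → Fin k) F) * u') * A₀⁻¹ = (A₀ * (u : GL (T → Fin k) F) * A₀⁻¹) *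
        (A₀ * (u' : GL (T → Fin k) F) * A₀⁻¹) by group, map_mul (inl _ k F) (A₀ * (u : GL (T → Fin k) F) * A₀⁻¹)] at e
    set P := inl (T → Fin k) k F (A₀ * (u : GL (T → Fin k) F) * A₀⁻¹)
    set P' := inl (T → Fin k) k F (A₀ * (u' : GL (T → Fin k) F) * A₀⁻¹)
    have hc : Commute (inr (T → Fin k) k F (C u)) P' :=
      Units.ext (by rw [Units.val_mul, Units.val_mul, inr_eq_rgt]; exact (inl_commute_rgt _ _).eq.symm)
    rw [mul_assoc P, ← mul_assoc (inr _ k F (C u)), hc.eq, ← mul_assoc, ← mul_assoc, mul_assoc (P * P'), ← map_mul] at e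
    exact (mul_left_cancel e).symm.trans (map_mul _ _ _).symm)
  let ψ : ↥(Om (T → Fin k) F) →* GL (Fin k) F := MonoidHom.mk' C hCmul
  letI : CommGroup ψ.range :=
    { (inferInstance : Group ψ.range) with
      mul_comm := by
        rintro ⟨_, u, rfl⟩ ⟨_, u', rfl⟩
        exact Subtype.ext (hcommC u u').eq }
  have hC1 : ∀ u, C u = 1 := fun u => congrArg Subtype.val (hom_comm_trivial (big_pow hM.hyp) ψ.rangeRestrict u)
  obtain ⟨D, hD⟩ := rgt_of_commute hM.hyp (G := (((inl _ k F A₀)⁻¹ * g : GL ((T → Fin k) × Fin k) F) : Mx T k F))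
    fun u hu => by
      have e := hC ⟨tk u, tk_om h2 hu⟩
      rw [hC1, map_one, mul_one, mul_inv_eq_iff_eq_mul, map_mul, map_mul, map_inv] at e
      refine congrArg Units.val (?_ : Commute ((inl _ k F A₀)⁻¹ * g) (inl _ k F (tk u))).eq
      show _ = _
      rw [mul_assoc, e]
      group
  have hdet : D.det ≠ 0 := fun h0 => by
    have hu := ((inl _ k F A₀)⁻¹ * g).isUnit
    rw [Matrix.isUnit_iff_isUnit_det, hD, rgt, Matrix.det_kronecker, h0,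
      zero_pow (Fintype.card_ne_zero), mul_zero] at hu
    exact not_isUnit_zero hu
  refine ⟨A₀, Matrix.GeneralLinearGroup.mkOfDetNeZero D hdet, hSim, Units.ext ?_⟩
  rw [kr_val, show g = inl _ k F A₀ * ((inl _ k F A₀)⁻¹ * g) by group, Units.val_mul, hD, inl_val, rgt,
    ← Matrix.mul_kronecker_mul, mul_one, one_mul]
  rfl

end Cfsg.Agent.MaxCl.TEv
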