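/-
The stabiliser of a tensor power decomposition of a symmetric form with odd factor dimension is maximal in the
derived isometry group.
-/
import Cfsg.Agent.Lib.MaxCl.TOrthMain
import Cfsg.Agent.Lib.Aschbacher.TensorNormal
import Cfsg.Agent.Lib.Aschbacher.FormOrthTools
import Cfsg.Agent.Lib.Forms.TensorWreath

set_option autoImplicit false
set_option linter.unusedSectionVars false

namespace Cfsg.Agent.MaxCl.TOrth

open Matrix
open TW (tk pm pg rt rid spl sl Wr)
open scoped MatrixGroups Kronecker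

variable {F : Type*} [Field F] {k t : ℕ}

theorem wr_standard : Geo.tensorWreathStandard k t F = Wr (Fin t) k F := by
  refine le_antisymm ((Subgroup.closure_le _).2 ?_) fun g hg => ?_
  · rintro g (⟨gs, hgs⟩ | ⟨σ, hσ⟩)
    · rw [show g = TW.tk gs from Units.ext (Matrix.ext hgs)]
      exact TW.tk_mem gs
    · rw [show g = TW.pg σ from Units.ext (Matrix.ext hσ)]
      exact TW.pg_mem σ
  · obtain ⟨σ, u, rfl⟩ := TW.exists_of_mem_wr hg
    refine mul_mem ?_ ?_
    · rw [show (TW.pg σ : GL (Fin t → Fin k) F) = Aschbacher.permGL σ from Units.ext rfl]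
      exact Aschbacher.permGL_mem σ
    · rw [show TW.tk u = Aschbacher.pureGL u from Units.ext (Matrix.ext fun _ _ => rfl)]
      exact Aschbacher.pureGL_mem u

/-- the derived isometry group does not preserve the slots -/
theorem om_not_le_wr [Finite F] (hh : Hyp k F) {S : Type} [Fintype S] [DecidableEq S] [Nontrivial S] :
    ¬ Om (S → Fin k) F ≤ Wr S k F := by
  classical
  intro hle
  have h2 := hh.h2
  have h3 := hh.three
  obtain ⟨s, r, hsr⟩ := exists_pair_ne S
  obtain ⟨y, hy, hy1⟩ := exists_om_ne_one hh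
  set i : Fin k := ⟨0, hh.odd.pos⟩
  set r' : {x // x ≠ s} := ⟨r, hsr.symm⟩
  set g := (rid s).symm (elHom r' (pr_cq (F := F) i) y) with hgdef
  have hG : rid s g = elHom r' (pr_cq i) y := (rid s).apply_symm_apply _
  have hg : g ∈ Om (S → Fin k) F := (rid_om_iff h2 s).1 (hG ▸ el_om h2 r' (pr_cq i) hy)
  obtain ⟨σ, u, hu, hc⟩ := exists_conj_form hh (hle hg) (om_le_orth hg)
  haveI : Nonempty (Fin k) := ⟨i⟩
  have hi : (Pi.single i (1 : F) : Fin k → F) ⬝ᵥ Pi.single i 1 ≠ 0 := single_ne i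
  have hq1 : (1 : Matrix (Fin k) (Fin k) F) - cq F i ≠ 0 := fun e => by
    have := rk_pj hi
    rw [show pj (Pi.single i (1 : F)) = cq F i from rfl, ← sub_eq_zero.1 e, rk_one, Fintype.card_fin] at this
    omega
  -- the distinguished slot is fixed
  have hz : Commute g (rt s (zz (Pi.single i (1 : F)))) := by
    refine Commute.of_map (rid (F := F) (m := k) s).injective ?_
    rw [hG, rid_rt']
    refine Units.ext ?_
    rw [Units.val_mul, Units.val_mul, elHom_val, inr_eq_rgt, zz_val hi]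
    exact (el_commute_rgt _ (((Commute.refl (cq F i)).smul_right (2 : F)).sub_right (Commute.one_right _)) y).eq
  have hσs : σ s = s := by
    have e := rt_conj_form hc s (zz (Pi.single i (1 : F)))
    rw [hz.eq, mul_inv_cancel_right] at e
    exact (rt_eq_rt hh (so_zz h2 hh.odd hi) (((hu s).mul (so_zz h2 hh.odd hi)).mul (hu s).inv) (zz_ne_one hh hi) e).1.symm
  have hr : σ r ≠ s := fun e => hsr (σ.injective (hσs.trans e.symm))
  refine hy1 (eq_one_of_commute hh hy fun w hw => ?_)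
  have e := mul_inv_eq_iff_eq_mul.1 (rt_conj_form hc r w)
  have e1 := congrArg Units.val (congrArg (rid s) e)
  rw [map_mul (rid s) g, map_mul (rid s) _ g, hG, rid_rt_ne hsr.symm, rid_rt_ne hr, Units.val_mul, Units.val_mul,
    elHom_val, inl_val, inl_val] at e1
  simp only [el, rgt, add_mul, mul_add, ← Matrix.mul_kronecker_mul, one_mul, mul_one] at e1
  have hidem : cq F i * cq F i = cq F i := (pr_cq i).idem
  have hA := congrArg (fun m => m * rgt ({x // x ≠ s} → Fin k) (1 - cq F i)) e1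
  simp only [rgt, add_mul, ← Matrix.mul_kronecker_mul, mul_one, (pr_cq i).one_sub.idem, (pr_cq i).mul_one_sub,
    Matrix.kronecker_zero, add_zero] at hA
  have hB := congrArg (fun m => m * rgt ({x // x ≠ s} → Fin k) (cq F i)) e1
  simp only [rgt, add_mul, ← Matrix.mul_kronecker_mul, mul_one, hidem, (pr_cq i).one_sub_mul,
    Matrix.kronecker_zero, zero_add] at hB
  have hA' := kron_inj hA hq1
  have hB' := kron_inj hB (cq_ne i)
  rw [← hA', ← Units.val_mul, ← Units.val_mul, ← map_mul, ← map_mul] at hB'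
  exact rt_smul_inj hh r' ((so_of_om h2 hw).mul (so_of_om h2 hy)) ((so_of_om h2 hy).mul (so_of_om h2 hw)) (c := 1)
    (by rw [one_smul]; exact hB') |>.symm

/-- **maximality of the stabiliser** -/
theorem maximal_of_structure [Finite F] (hh : Hyp k F) (ht : 2 ≤ t) {ι : Type} [Fintype ι] [DecidableEq ι]
    (Q : QuadraticForm F (ι → F)) (e : ι ≃ (Fin t → Fin k)) (P : GL ι F) (f₁ : (Fin k → F) → (Fin k → F) → F)
    (hf₁ : Geo.IsSymmetricForm f₁) (hT : Geo.IsTensorPowerFormStructure id (QuadraticMap.polar ⇑Q) f₁ e P) :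
    Geo.IsMaximalIn (Geo.omegaGL ⇑Q) (Geo.tensorWreathSubgroup k t e P ⊓ Geo.omegaGL ⇑Q) := by
  classical
  haveI := Fintype.ofFinite F
  have h2 := hh.h2
  set G := Geo.gramMatrix f₁ with hG
  have hf : ∀ u v, f₁ u v = u ⬝ᵥ G *ᵥ v := fun u v => by
    rw [← Forms.formOfGram_gramMatrix (RingHom.id F) f₁ hf₁.bilinear.add_left hf₁.bilinear.smul_left
      (fun x y => hf₁.symm y x) u v]
    simp [Geo.formOfGram, dotProduct, Matrix.mulVec, Finset.mul_sum, mul_assoc, hG]
  have hdet : G.det ≠ 0 := fun h0 => by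
    obtain ⟨v, hv, hGv⟩ := Matrix.exists_mulVec_eq_zero_iff.2 h0
    obtain ⟨x, hx⟩ := (hf₁.nondegenerate v hv).1
    exact hx (by rw [hf, hGv, dotProduct_zero])
  have hGs : Gᵀ = G := Matrix.ext fun a b => hf₁.symm _ _
  obtain ⟨T, μ, hμ, hTG⟩ := Aschbacher.exists_congr_scalar h2 hh.odd hdet hGs
  obtain ⟨c, hc, hform⟩ := hT
  set Tt : GL (Fin t → Fin k) F := tk fun _ => T with hTt
  set P' := P * Geo.glReindex e.symm Tt with hP'
  have hPv : ∀ x : (Fin t → Fin k) → F, (P' : Matrix ι ι F) *ᵥ (x ∘ e) =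
      (P : Matrix ι ι F) *ᵥ (((Tt : Matrix (Fin t → Fin k) (Fin t → Fin k) F) *ᵥ x) ∘ e) := fun x => by
    rw [hP', Units.val_mul, ← Matrix.mulVec_mulVec]
    congr 1
    show (Tt : Matrix (Fin t → Fin k) (Fin t → Fin k) F).submatrix e e *ᵥ (x ∘ e) = _
    rw [Matrix.submatrix_mulVec_equiv]
    simp [Function.comp_assoc]
  have hpm : (Tt : Matrix (Fin t → Fin k) (Fin t → Fin k) F)ᵀ * pm (fun _ => G) *
      (Tt : Matrix (Fin t → Fin k) (Fin t → Fin k) F) = μ ^ t • 1 := by
    rw [hTt, TW.tk_val, pm_transpose, ← map_mul, ← map_mul,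
      show ((fun _ : Fin t => (T : Matrix (Fin k) (Fin k) F)ᵀ) * fun _ => G) * (fun _ => (T : Matrix (Fin k) (Fin k) F)) =
        fun _ => μ • (1 : Matrix (Fin k) (Fin k) F) from funext fun _ => hTG, TW.pm_smul,
      Finset.prod_const, Finset.card_univ, Fintype.card_fin, ← Pi.one_def, map_one]
  have hq : ∀ x : (Fin t → Fin k) → F, Q ((P' : Matrix ι ι F) *ᵥ (x ∘ e)) = c * μ ^ t / 2 * (x ⬝ᵥ x) := fun x => by
    have h := hform ((Tt : Matrix _ _ F) *ᵥ x) ((Tt : Matrix _ _ F) *ᵥ x)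
    rw [QuadraticMap.polar_self, ← hPv, two_nsmul, ← two_mul] at h
    have hs : ∑ a : Fin t → Fin k, ∑ b : Fin t → Fin k, ((Tt : Matrix (Fin t → Fin k) (Fin t → Fin k) F) *ᵥ x) a * (∏ i, G (a i) (b i)) * id (((Tt : Matrix (Fin t → Fin k) (Fin t → Fin k) F) *ᵥ x) b) =
        μ ^ t * (x ⬝ᵥ x) := by
      have e1 : ∀ z : (Fin t → Fin k) → F, ∑ a, ∑ b, z a * (∏ i, G (a i) (b i)) * id (z b) =
          z ⬝ᵥ pm (fun _ => G) *ᵥ z := fun z => by
        simp [dotProduct, Matrix.mulVec, Finset.mul_sum, TW.pm_apply, mul_assoc]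
      rw [e1, Matrix.mulVec_mulVec, Matrix.dotProduct_mulVec, Matrix.vecMul_mulVec, ← mul_assoc, hpm,
        Matrix.vecMul_smul, Matrix.vecMul_one, smul_dotProduct, smul_eq_mul]
    rw [hs] at h
    field_simp
    linear_combination h
  set E := Aschbacher.coordGL e P'
  have horth := map_orth (ι := Fin t → Fin k) (⇑Q) e P' (μ := c * μ ^ t / 2)
    (div_ne_zero (mul_ne_zero hc (pow_ne_zero _ hμ)) h2) hq
  have hom : (Om (Fin t → Fin k) F).map E.toMonoidHom = Geo.omegaGL ⇑Q := om_map _ horth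
  have hOmem : ∀ g, E g ∈ Geo.omegaGL ⇑Q ↔ g ∈ Om (Fin t → Fin k) F := fun g => by
    rw [← hom]
    exact Subgroup.mem_map_iff_mem E.injective
  have hconj : ∀ g, E g = Aschbacher.coordGL e P (Tt * g * Tt⁻¹) := fun g => by
    simp only [E, Aschbacher.coordGL_eq, hP', map_mul, map_inv]
    group
  have hTW : Tt ∈ Wr (Fin t) k F := TW.tk_mem _
  have hwr : ∀ g, E g ∈ Geo.tensorWreathSubgroup k t e P ↔ g ∈ Wr (Fin t) k F := fun g => by
    rw [hconj]
    constructor
    · rintro ⟨_, ⟨h, hh', rfl⟩, he⟩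
      rw [wr_standard] at hh'
      have : Tt * g * Tt⁻¹ = h :=
        (Aschbacher.coordGL e P).injective ((Aschbacher.coordGL_eq e P h).trans he).symm
      have := mul_mem (mul_mem (inv_mem hTW) (this ▸ hh' : Tt * g * Tt⁻¹ ∈ Wr (Fin t) k F)) hTW
      simpa [mul_assoc] using this
    · intro h
      refine Aschbacher.mem_tensorWreathSubgroup e P ?_
      rw [wr_standard]
      exact mul_mem (mul_mem hTW h) (inv_mem hTW)
  haveI : Nontrivial (Fin t) := Fin.nontrivial_iff_two_le.2 ht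
  refine ⟨lt_of_le_not_ge inf_le_right fun h => om_not_le_wr (S := Fin t) hh fun g hg =>
    (hwr g).1 (h ((hOmem g).2 hg)).1, fun M hge hle => ?_⟩
  by_cases hOm : Om (Fin t → Fin k) F ≤ M.comap E.toMonoidHom
  · refine Or.inr (le_antisymm hle fun x hx => ?_)
    obtain ⟨x, rfl⟩ := E.surjective x
    exact hOm ((hOmem x).1 hx)
  · refine Or.inl (le_antisymm (le_inf (fun x hx => ?_) hle) hge)
    obtain ⟨x, rfl⟩ := E.surjective x
    refine (hwr x).2 (main hh (M := M.comap E.toMonoidHom) (fun g hg => ?_) (fun g hg => hge ?_) hOm hx)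
    · exact om_le_orth ((hOmem g).1 (hle hg))
    · exact ⟨(hwr g).2 hg.1, (hOmem g).2 hg.2⟩

end Cfsg.Agent.MaxCl.TOrth
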