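/-
From the hypotheses on a tensor power decomposition with even factor dimension to coordinates: weights with the
standing hypotheses, and maximality of the stabiliser from the dichotomy for overgroups.
-/
import Cfsg.Agent.Lib.MaxCl.TEvSlot
import Cfsg.Agent.Lib.MaxCl.TOrthWrap
import Cfsg.Agent.Lib.QForm.PlusType
import Cfsg.Agent.Lib.MaxCl.OrthParabolic
import Cfsg.Agent.Lib.UnipForms.Congruence

set_option autoImplicit false
set_option linter.unusedSectionVars false

namespace Cfsg.Agent.MaxCl.TEv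

open Matrix
open TOrth (wr_standard)
open TW (tk pm pg tp Wr)
open scoped MatrixGroups

variable {F : Type*} [Field F] {k t : ℕ}

/-- weights with the standing hypotheses congruent to a non-degenerate symmetric matrix -/
theorem exists_weights [Fintype F] (h2 : (2 : F) ≠ 0) (heven : Even k) (h4 : 4 ≤ k)
    {G : Matrix (Fin k) (Fin k) F} (hGs : Gᵀ = G) (hdet : G.det ≠ 0) (hminus : k = 4 → ¬ IsSquare G.det) :
    ∃ (w : Wt (Fin k) F) (T : GL (Fin k) F), @Hyp k F _ w ∧
      (T : Matrix (Fin k) (Fin k) F)ᵀ * G * (T : Matrix (Fin k) (Fin k) F) = Matrix.diagonal w.w := by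
  classical
  set j₀ : Fin k := ⟨0, by omega⟩
  set W : Fin k → F := Function.update (fun _ => 1) j₀ G.det with hW
  have hWne : ∀ i, W i ≠ 0 := fun i => by
    rcases eq_or_ne i j₀ with rfl | hi
    · rw [hW, Function.update_self]; exact hdet
    · rw [hW, Function.update_of_ne hi]; exact one_ne_zero
  have hWprod : ∏ i, W i = G.det := by
    rw [← Finset.mul_prod_erase _ W (Finset.mem_univ j₀), hW, Function.update_self,
      Finset.prod_eq_one fun i hi => Function.update_of_ne (Finset.ne_of_mem_erase hi) _ _, mul_one]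
  obtain ⟨P, hP, hPG⟩ := UnipForms.Congruence.exists_congr_symm h2 hGs hdet (B := Matrix.diagonal W)
    (Matrix.diagonal_transpose W) (by rw [Matrix.det_diagonal, hWprod]; exact hdet)
    (by rw [Matrix.det_diagonal, hWprod]; exact ⟨G.det, rfl⟩)
  refine ⟨⟨W, hWne⟩, Matrix.GeneralLinearGroup.mkOfDetNeZero P hP, ?_, hPG⟩
  exact @Hyp.mk k F _ ⟨W, hWne⟩ h2 heven h4 ⟨j₀, fun i hi => Function.update_of_ne hi _ _⟩
    (fun e => show ¬ IsSquare (∏ i, W i) by rw [hWprod]; exact hminus e)

/-- minus type in dimension four is a non-square discriminant -/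
theorem not_isSquare_det [Fintype F] (h2 : (2 : F) ≠ 0) (f₁ : (Fin 4 → F) → (Fin 4 → F) → F)
    {G : Matrix (Fin 4) (Fin 4) F} (hf : ∀ u v, f₁ u v = u ⬝ᵥ G *ᵥ v) (hGs : Gᵀ = G) (hdet : G.det ≠ 0)
    (h : ¬ Geo.IsPlusTypeOn (fun v : Fin 4 → F => f₁ v v) ⊤) : ¬ IsSquare G.det := fun hsq => by
  obtain ⟨X, hX, hiso⟩ := (QForm.exists_isotropic_iff h2 (B := Matrix.toBilin' G)
    ⟨fun x y => by
      simp only [Matrix.toBilin'_apply']
      rw [Matrix.dotProduct_mulVec, ← Matrix.mulVec_transpose, hGs, dotProduct_comm]⟩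
    (LinearMap.BilinForm.nondegenerate_toBilin'_of_det_ne_zero' G hdet)
    (n := 2) (by simp) (Pi.basisFun F (Fin 4))).2 (by
      rw [LinearMap.BilinForm.toMatrix_basisFun, LinearMap.BilinForm.toMatrix'_toBilin', neg_one_sq, one_mul]
      exact hsq)
  refine h ⟨X, le_top, fun v hv => ?_, by rw [hX, finrank_top, Module.finrank_fin_fun]⟩
  have := hiso v hv v hv
  rw [Matrix.toBilin'_apply'] at this
  show f₁ v v = 0
  rw [hf]; exact this

section Slots

variable [Wt (Fin k) F]

/-- the derived isometry group does not preserve the slots -/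
theorem om_not_le_wr [Finite F] (hh : Hyp k F) {S : Type} [Fintype S] [DecidableEq S] [Nontrivial S] :
    ¬ Om (S → Fin k) F ≤ Wr S k F := by
  classical
  intro hle
  have h2 := hh.h2
  obtain ⟨j₀, hj⟩ := hh.ones
  have h4 := hh.four'
  obtain ⟨i, -, hi⟩ := Finset.exists_mem_notMem_of_card_lt_card (s := ({j₀} : Finset (Fin k))) (t := Finset.univ)
    (by rw [Finset.card_univ, Finset.card_singleton]; omega)
  obtain ⟨j, -, hjn⟩ := Finset.exists_mem_notMem_of_card_lt_card (s := ({j₀, i} : Finset (Fin k))) (t := Finset.univ)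
    (by have := Finset.card_le_two (a := j₀) (b := i); rw [Finset.card_univ]; omega)
  simp only [Finset.mem_singleton, Finset.mem_insert, not_or] at hi hjn
  obtain ⟨hj0, hji⟩ := hjn
  obtain ⟨s, r, hsr⟩ := exists_pair_ne S
  set x : S → Fin k := fun _ => i with hx
  set y : S → Fin k := fun _ => j with hy
  set x' := Function.update x s j with hx'
  set y' := Function.update y s i with hy'
  have hxy : x ≠ y := fun e => hji (congrFun e s).symm
  have hxx' : x ≠ x' := fun e => hji (by simpa [hx, hx'] using (congrFun e s).symm)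
  have hx'y : x' ≠ y := fun e => hji (by simpa [hx', hy, hx, hsr.symm] using (congrFun e r).symm)
  have hw1 : ∀ z : S → Fin k, (∀ q, z q = i ∨ z q = j) → (Wt.w z : F) = 1 := fun z hz => by
    rw [w_pi]
    exact Finset.prod_eq_one fun q _ => by rcases hz q with e | e <;> rw [e] <;> [exact hj i hi; exact hj j hj0]
  have hwx : (Wt.w x : F) = 1 := hw1 x fun _ => Or.inl rfl
  have hwy : (Wt.w y : F) = 1 := hw1 y fun _ => Or.inr rfl
  have hwx' : (Wt.w x' : F) = 1 := hw1 x' fun q => by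
    rcases eq_or_ne q s with rfl | hq
    · exact Or.inr (Function.update_self ..)
    · exact Or.inl (Function.update_of_ne hq _ _)
  have hval : ∀ {u v : S → Fin k}, u ≠ v → (Wt.w u : F) = 1 → (Wt.w v : F) = 1 →
      (Pi.single u (1 : F) + Pi.single v 1 : (S → Fin k) → F) ⬝ʷ (Pi.single u 1 + Pi.single v 1) = 2 := by
    intro u v huv hu hv
    simp [add_bf, bf_add, bf_single, hu, hv, huv, huv.symm, one_add_one_eq_two]
  -- the pure vector
  set a : S → Fin k → F := Function.update (fun _ => Pi.single i 1) s (Pi.single i 1 + Pi.single j 1) with ha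
  have hta : tp a = (Pi.single x (1 : F) + Pi.single x' 1 : (S → Fin k) → F) := by
    funext z
    rw [TW.tp_apply, Pi.add_apply, TW.prod_split s]
    have e : ∀ q : {q // q ≠ s}, a q.1 (z q.1) = (Pi.single i (1 : F) : Fin k → F) (z q.1) := fun q => by
      rw [ha, Function.update_of_ne q.2]
    by_cases hz : ∀ q, q ≠ s → z q = i
    · have h1 : ∀ v, (Function.update x s v = z) ↔ z s = v := fun v =>
        ⟨fun e => by rw [← e, Function.update_self], fun e => funext fun q => by
          rcases eq_or_ne q s with rfl | hq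
          · rw [Function.update_self, e]
          · rw [Function.update_of_ne hq, hz q hq]⟩
      have hxi : x = Function.update x s i := (Function.update_eq_self s x).symm
      rw [Finset.prod_eq_one fun q _ => by rw [e, hz q.1 q.2, Pi.single_eq_same]]
      rw [ha, Function.update_self, Pi.add_apply]
      simp only [Pi.single_apply, hx', mul_one, eq_comm (b := z s)]
      congr 1
      · refine if_congr ?_ rfl rfl
        rw [← h1 i, ← hxi]; exact eq_comm
      · refine if_congr ?_ rfl rfl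
        rw [← h1 j]; exact eq_comm
    · push Not at hz
      obtain ⟨q, hq, hzq⟩ := hz
      rw [Finset.prod_eq_zero (Finset.mem_univ (⟨q, hq⟩ : {q // q ≠ s})) (by rw [e, Pi.single_eq_of_ne hzq]),
        mul_zero, Pi.single_eq_of_ne fun e => hzq (by rw [e]), Pi.single_eq_of_ne fun e => hzq (by
          rw [e, hx', Function.update_of_ne hq]), add_zero]
  obtain ⟨g, hg, hgb⟩ := exists_om_act h2
    (le_trans hh.three' (by
      rw [Fintype.card_fun, Fintype.card_fin]
      exact Nat.le_self_pow Fintype.card_ne_zero k))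
    (a := tp a) (b := Pi.single x (1 : F) + Pi.single y 1)
    (by rw [hta, hval hxx' hwx hwx']; exact h2) (by rw [hta, hval hxx' hwx hwx', hval hxy hwx hwy])
  obtain ⟨σ, u, rfl⟩ := TW.exists_of_mem_wr (hle hg)
  rw [TW.act_wr] at hgb
  -- pure vectors have rank one
  set c : S → Fin k → F := fun q => act (u (σ.symm q)) (a (σ.symm q))
  have key : tp c x * tp c y = tp c x' * tp c y' := by
    simp only [TW.tp_apply, ← Finset.prod_mul_distrib]
    refine Finset.prod_congr rfl fun q _ => ?_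
    rcases eq_or_ne q s with rfl | hq
    · simp [hx', hy', hx, hy, mul_comm]
    · simp [hx', hy', hx, hy, hq]
  rw [hgb] at key
  simp [Pi.single_apply, hxy, hxy.symm, hxx'.symm, hx'y] at key

end Slots

/-- **maximality of the stabiliser from the dichotomy** -/
theorem maximal_of_structure [Fintype F] [Wt (Fin k) F] (hh : Hyp k F) (ht : 2 ≤ t) {ι : Type} [Fintype ι]
    [DecidableEq ι] (Q : QuadraticForm F (ι → F)) (e : ι ≃ (Fin t → Fin k)) (P : GL ι F)
    {G : Matrix (Fin k) (Fin k) F} (f₁ : (Fin k → F) → (Fin k → F) → F) (hG : ∀ a b, Geo.gramMatrix f₁ a b = G a b)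
    (T : GL (Fin k) F)
    (hTG : (T : Matrix (Fin k) (Fin k) F)ᵀ * G * (T : Matrix (Fin k) (Fin k) F) = Matrix.diagonal Wt.w)
    (hT : Geo.IsTensorPowerFormStructure id (QuadraticMap.polar ⇑Q) f₁ e P)
    (main : ∀ M : Subgroup (GL (Fin t → Fin k) F), Ov M → ¬ Om (Fin t → Fin k) F ≤ M → M ≤ Wr (Fin t) k F) :
    Geo.IsMaximalIn (Geo.omegaGL ⇑Q) (Geo.tensorWreathSubgroup k t e P ⊓ Geo.omegaGL ⇑Q) := by
  classical
  have h2 := hh.h2
  obtain rfl : Geo.gramMatrix f₁ = G := Matrix.ext hG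
  set G := Geo.gramMatrix f₁ with hG'
  obtain ⟨c, hc, hform⟩ := hT
  set Tt : GL (Fin t → Fin k) F := tk fun _ => T with hTt
  set P' := P * Geo.glReindex e.symm Tt with hP'
  have hPv : ∀ x : (Fin t → Fin k) → F, (P' : Matrix ι ι F) *ᵥ (x ∘ e) =
      (P : Matrix ι ι F) *ᵥ (((Tt : Matrix (Fin t → Fin k) (Fin t → Fin k) F) *ᵥ x) ∘ e) := fun x => by
    rw [hP', Units.val_mul, ← Matrix.mulVec_mulVec]
    congr 1
    show (Tt : Matrix (Fin t → Fin k) (Fin t → Fin k) F).submatrix e e *ᵥ (x ∘ e) = _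
    rw [Matrix.submatrix_mulVec_equiv]
    simp [Function.comp_assoc]
  have hpm : (Tt : Matrix (Fin t → Fin k) (Fin t → Fin k) F)ᵀ * pm (fun _ => G) *
      (Tt : Matrix (Fin t → Fin k) (Fin t → Fin k) F) = Matrix.diagonal Wt.w := by
    rw [hTt, TW.tk_val, TOrth.pm_transpose, ← map_mul, ← map_mul,
      show ((fun _ : Fin t => (T : Matrix (Fin k) (Fin k) F)ᵀ) * fun _ => G) * (fun _ => (T : Matrix (Fin k) (Fin k) F)) =
        fun _ => Matrix.diagonal Wt.w from funext fun _ => hTG]
    ext x y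
    rw [TW.pm_apply]
    rcases eq_or_ne x y with rfl | hxy
    · simp [w_pi]
    · obtain ⟨q, hq⟩ := Function.ne_iff.1 hxy
      rw [Matrix.diagonal_apply_ne _ hxy, Finset.prod_eq_zero (Finset.mem_univ q) (show Matrix.diagonal (Wt.w : Fin k → F) (x q) (y q) = 0 from
        Matrix.diagonal_apply_ne _ hq)]
  have hq : ∀ x : (Fin t → Fin k) → F, Q ((P' : Matrix ι ι F) *ᵥ (x ∘ e)) = c / 2 * (x ⬝ʷ x) := fun x => by
    have h := hform ((Tt : Matrix _ _ F) *ᵥ x) ((Tt : Matrix _ _ F) *ᵥ x)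
    rw [QuadraticMap.polar_self, ← hPv, two_nsmul, ← two_mul] at h
    have hs : ∑ a : Fin t → Fin k, ∑ b : Fin t → Fin k, ((Tt : Matrix (Fin t → Fin k) (Fin t → Fin k) F) *ᵥ x) a * (∏ i, G (a i) (b i)) * id (((Tt : Matrix (Fin t → Fin k) (Fin t → Fin k) F) *ᵥ x) b) =
        x ⬝ʷ x := by
      have e1 : ∀ z : (Fin t → Fin k) → F, ∑ a, ∑ b, z a * (∏ i, G (a i) (b i)) * id (z b) =
          z ⬝ᵥ pm (fun _ => G) *ᵥ z := fun z => by
        simp [dotProduct, Matrix.mulVec, Finset.mul_sum, TW.pm_apply, mul_assoc]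
      rw [e1, Matrix.mulVec_mulVec, Matrix.dotProduct_mulVec, Matrix.vecMul_mulVec, ← mul_assoc, hpm,
        bf_eq_dot, ← Matrix.dotProduct_mulVec]
      exact congrArg (x ⬝ᵥ ·) (funext fun z => Matrix.mulVec_diagonal _ _ _)
    rw [hs] at h
    field_simp
    linear_combination h
  set E := Aschbacher.coordGL e P'
  have horth := map_orth (ι := Fin t → Fin k) (⇑Q) e P' (μ := c / 2) (div_ne_zero hc h2) hq
  have hom : (Om (Fin t → Fin k) F).map E.toMonoidHom = Geo.omegaGL ⇑Q := om_map _ horth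
  have hOmem : ∀ g, E g ∈ Geo.omegaGL ⇑Q ↔ g ∈ Om (Fin t → Fin k) F := fun g => by
    rw [← hom]
    exact Subgroup.mem_map_iff_mem E.injective
  have hconj : ∀ g, E g = Aschbacher.coordGL e P (Tt * g * Tt⁻¹) := fun g => by
    simp only [E, Aschbacher.coordGL_eq, hP', map_mul, map_inv]
    group
  have hTW : Tt ∈ Wr (Fin t) k F := TW.tk_mem _
  have hwr : ∀ g, E g ∈ Geo.tensorWreathSubgroup k t e P ↔ g ∈ Wr (Fin t) k F := fun g => by
    rw [hconj]
    constructor
    · rintro ⟨_, ⟨h, hh', rfl⟩, he⟩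
      rw [wr_standard] at hh'
      have : Tt * g * Tt⁻¹ = h :=
        (Aschbacher.coordGL e P).injective ((Aschbacher.coordGL_eq e P h).trans he).symm
      have := mul_mem (mul_mem (inv_mem hTW) (this ▸ hh' : Tt * g * Tt⁻¹ ∈ Wr (Fin t) k F)) hTW
      simpa [mul_assoc] using this
    · intro h
      refine Aschbacher.mem_tensorWreathSubgroup e P ?_
      rw [wr_standard]
      exact mul_mem (mul_mem hTW h) (inv_mem hTW)
  haveI : Nontrivial (Fin t) := Fin.nontrivial_iff_two_le.2 ht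
  refine ⟨lt_of_le_not_ge inf_le_right fun h => om_not_le_wr (S := Fin t) hh fun g hg =>
    (hwr g).1 (h ((hOmem g).2 hg)).1, fun M hge hle => ?_⟩
  by_cases hOm : Om (Fin t → Fin k) F ≤ M.comap E.toMonoidHom
  · refine Or.inr (le_antisymm hle fun x hx => ?_)
    obtain ⟨x, rfl⟩ := E.surjective x
    exact hOm ((hOmem x).1 hx)
  · refine Or.inl (le_antisymm (le_inf (fun x hx => ?_) hle) hge)
    obtain ⟨x, rfl⟩ := E.surjective x
    refine (hwr x).2 (main (M.comap E.toMonoidHom) ⟨fun g hg => ?_, fun g hg => hge ?_⟩ hOm hx)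
    · exact om_le_orth ((hOmem g).1 (hle hg))
    · exact ⟨(hwr g).2 hg.1, (hOmem g).2 hg.2⟩

/-- the statement of maximality for a factor of even dimension, given the dichotomy in coordinates -/
theorem maximal_of_main [Fintype F] {n : ℕ} (Q : (Fin n → F) → F)
    (hQ : Geo.IsNondegenerateQuadraticForm Q) (hodd : Odd (Fintype.card F)) (k t : ℕ) (ht : 2 ≤ t) (hke : Even k)
    (e : Fin n ≃ (Fin t → Fin k)) (P : GL (Fin n) F) (f₁ : (Fin k → F) → (Fin k → F) → F)
    (hf₁ : Geo.IsSymmetricForm f₁)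
    (hsize : (6 ≤ k ∧ Geo.IsPlusTypeOn (fun v : Fin k → F => f₁ v v) ⊤) ∨
      (4 ≤ k ∧ ¬ Geo.IsPlusTypeOn (fun v : Fin k → F => f₁ v v) ⊤))
    (hT : Geo.IsTensorPowerFormStructure id (QuadraticMap.polar Q) f₁ e P)
    (main : ∀ [Wt (Fin k) F], Hyp k F → ∀ M : Subgroup (GL (Fin t → Fin k) F), Ov M →
      ¬ Om (Fin t → Fin k) F ≤ M → M ≤ Wr (Fin t) k F) :
    Geo.IsMaximalIn (Geo.omegaGL Q) (Geo.tensorWreathSubgroup k t e P ⊓ Geo.omegaGL Q) := by
  classical
  obtain ⟨Q, rfl, -⟩ := MaxCl.Orth.exists_form hQ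
  have h2 : (2 : F) ≠ 0 := Ring.two_ne_zero fun h => by
    haveI : CharP F 2 := ringChar.of_eq h
    obtain ⟨m, hp, hm⟩ := FiniteField.card F 2
    rw [hm] at hodd
    exact absurd hodd (Nat.not_odd_iff_even.2 (Nat.even_pow.2 ⟨even_two, m.ne_zero⟩))
  set G := Geo.gramMatrix f₁ with hG
  have hf : ∀ u v, f₁ u v = u ⬝ᵥ G *ᵥ v := fun u v => by
    rw [← Forms.formOfGram_gramMatrix (RingHom.id F) f₁ hf₁.bilinear.add_left hf₁.bilinear.smul_left
      (fun x y => hf₁.symm y x) u v]
    simp [Geo.formOfGram, dotProduct, Matrix.mulVec, Finset.mul_sum, mul_assoc, hG]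
  have hdet : G.det ≠ 0 := fun h0 => by
    obtain ⟨v, hv, hGv⟩ := Matrix.exists_mulVec_eq_zero_iff.2 h0
    obtain ⟨x, hx⟩ := (hf₁.nondegenerate v hv).1
    exact hx (by rw [hf, hGv, dotProduct_zero])
  have hGs : Gᵀ = G := Matrix.ext fun a b => hf₁.symm _ _
  have h4 : 4 ≤ k := by rcases hsize with h | h <;> omega
  obtain ⟨w, T, hh, hTG⟩ := exists_weights h2 hke h4 hGs hdet (fun hk => by
    subst hk
    exact not_isSquare_det h2 f₁ hf hGs hdet ((hsize.resolve_left fun h => by omega).2))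
  exact maximal_of_structure hh ht Q e P f₁ (fun _ _ => rfl) T hTG hT (main hh)

end Cfsg.Agent.MaxCl.TEv
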