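/-
Unitary spaces with a field of self-adjoint scalars of odd degree: the hermitian form over the field, the
transvections, Siegel elements and tori over the field, and isotropic lines.
-/
import Cfsg.Agent.Lib.MaxCl.UnitaryStab
import Cfsg.Agent.Lib.MaxCl.ExtFieldMax

set_option autoImplicit false
set_option linter.unusedSectionVars false
set_option maxHeartbeats 800000

namespace Cfsg.Agent.MaxCl.UExt

open scoped MatrixGroups Matrix
open Module (finrank)
open Cfsg.Agent.MaxCl.Unit (uiso mem_uiso)

variable {ι : Type} [Fintype ι] [DecidableEq ι] {F : Type*} [Field F]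
  {K : Type*} [Field K] [Algebra F K] [Module K (ι → F)] [IsScalarTower F K (ι → F)]
variable {τ : F ≃+* F} {f : (ι → F) → (ι → F) → F}

/-- `Φ` is the hermitian form over `K` with `trace ∘ Φ = f`, for the adjoint map `σ` -/
structure HF (τ : F ≃+* F) (f : (ι → F) → (ι → F) → F) (σ : K ≃+* K) (Φ : (ι → F) → (ι → F) → K) :
    Prop where
  unit : Cfsg.Geo.IsUnitaryForm τ f
  sigma_alg : ∀ c : F, σ (algebraMap F K c) = algebraMap F K (τ c)
  sigma_sigma : ∀ k : K, σ (σ k) = k
  adj : ∀ (k : K) (x y : ι → F), f (k • x) y = f x (σ k • y)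
  trace : ∀ (c : K) (x y : ι → F), Algebra.trace F K (c * Φ x y) = f (c • x) y

section trace

variable [Finite F] [Module.Finite F K]

theorem ext_trace {a b : K} (h : ∀ c : K, Algebra.trace F K (c * a) = Algebra.trace F K (c * b)) : a = b := by
  rw [← sub_eq_zero]
  refine (traceForm_nondegenerate F K).1 _ fun c => ?_
  rw [Algebra.traceForm_apply, mul_comm, mul_sub, map_sub, h, sub_self]

theorem exists_trace_repr (l : K →ₗ[F] F) : ∃ a : K, ∀ c, l c = Algebra.trace F K (c * a) := by
  obtain ⟨a, ha⟩ := ((Algebra.traceForm F K).toDual (traceForm_nondegenerate F K)).surjective l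
  refine ⟨a, fun c => ?_⟩
  rw [← ha, LinearMap.BilinForm.toDual_def, Algebra.traceForm_apply, mul_comm]

/-- adjoint closed scalars give the form over `K` -/
theorem exists_hform (hU : Cfsg.Geo.IsUnitaryForm τ f) [Nonempty ι]
    (hac : ∀ k : K, ∃ k' : K, ∀ x y : ι → F, f (k • x) y = f x (k' • y)) :
    ∃ (σ : K ≃+* K) (Φ : (ι → F) → (ι → F) → K), HF τ f σ Φ := by
  classical
  have : Fintype F := Fintype.ofFinite F
  choose s hs using hac
  have uniq : ∀ (k k' : K), (∀ x y : ι → F, f (k • x) y = f x (k' • y)) → s k = k' := by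
    intro k k' h
    obtain ⟨z, hz⟩ := exists_ne (0 : ι → F)
    refine smul_left_injective K hz (Unit.flinU_injective hU (LinearMap.ext fun x => ?_))
    show f x (s k • z) = f x (k' • z)
    rw [← hs, h]
  have hss : ∀ k, s (s k) = k := fun k => uniq _ _ fun x y => by
    rw [← Unit.herm' hU, ← hs, Unit.herm' hU]
  let σ : K ≃+* K :=
    { toFun := s, invFun := s, left_inv := hss, right_inv := hss
      map_mul' := fun a b => uniq _ _ fun x y => by rw [mul_smul, hs, hs, smul_smul, mul_comm (s b)]
      map_add' := fun a b => uniq _ _ fun x y => by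
        rw [add_smul, Unit.add_left hU, hs, hs, ← Unit.add_right hU, ← add_smul] }
  have hσ : ∀ (k : K) x y, f (k • x) y = f x (σ k • y) := hs
  have halg : ∀ c : F, σ (algebraMap F K c) = algebraMap F K (τ c) := fun c => uniq _ _ fun x y => by
    rw [algebraMap_smul, algebraMap_smul, Unit.smul_left hU, Unit.smul_right hU, hU.involutive]
  have hex : ∀ x y : ι → F, ∃ a : K, ∀ c : K, f (c • x) y = Algebra.trace F K (c * a) := fun x y =>
    exists_trace_repr
      { toFun := fun c : K => f (c • x) y
        map_add' := fun c d => by rw [add_smul, Unit.add_left hU]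
        map_smul' := fun t c => by rw [smul_assoc, Unit.smul_left hU, RingHom.id_apply, smul_eq_mul] }
  choose Φ hΦ using hex
  exact ⟨σ, Φ, hU, halg, hss, hσ, fun c x y => (hΦ x y c).symm⟩

end trace

variable {σ : K ≃+* K} {Φ : (ι → F) → (ι → F) → K} (hH : HF τ f σ Φ)
include hH

theorem sigma_ne : σ ≠ RingEquiv.refl K := by
  intro h
  obtain ⟨a, ha⟩ := Unit.exists_moved hH.unit.ne_refl
  refine ha ((algebraMap F K).injective ?_)
  rw [← hH.sigma_alg, h]; rfl

variable [Finite F] [Module.Finite F K]

theorem trace_sigma (k : K) : Algebra.trace F K (σ k) = τ (Algebra.trace F K k) := by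
  rw [Algebra.trace_eq_of_equiv_equiv τ σ (RingHom.ext fun c => (hH.sigma_alg c).symm) k,
    RingEquiv.apply_symm_apply]

theorem norm_sigma (k : K) : Algebra.norm F (σ k) = τ (Algebra.norm F k) := by
  rw [Algebra.norm_eq_of_equiv_equiv τ σ (RingHom.ext fun c => (hH.sigma_alg c).symm) k,
    RingEquiv.apply_symm_apply]

theorem f_eq (x y : ι → F) : f x y = Algebra.trace F K (Φ x y) := by
  rw [← one_mul (Φ x y), hH.trace, one_smul]

theorem add_left (x y z : ι → F) : Φ (x + y) z = Φ x z + Φ y z :=
  ext_trace (F := F) fun c => by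
    rw [mul_add, map_add, hH.trace, hH.trace, hH.trace, smul_add, Unit.add_left hH.unit]

theorem smul_left (k : K) (x y : ι → F) : Φ (k • x) y = k * Φ x y :=
  ext_trace (F := F) fun c => by rw [← mul_assoc, hH.trace, hH.trace, smul_smul]

theorem herm (x y : ι → F) : Φ y x = σ (Φ x y) :=
  ext_trace (F := F) fun c => by
    rw [hH.trace, ← hH.sigma_sigma c, ← map_mul, trace_sigma hH, hH.trace, hH.sigma_sigma, hH.adj,
      Unit.herm' hH.unit]

theorem sigma_phi (x y : ι → F) : σ (Φ x y) = Φ y x := (herm hH x y).symm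

theorem add_right (z x y : ι → F) : Φ z (x + y) = Φ z x + Φ z y := by
  rw [herm hH (x + y), add_left hH, map_add, sigma_phi hH, sigma_phi hH]

theorem smul_right (k : K) (x y : ι → F) : Φ x (k • y) = σ k * Φ x y := by
  rw [herm hH (k • y), smul_left hH, map_mul, sigma_phi hH]

theorem zero_left (y : ι → F) : Φ 0 y = 0 := by simpa using smul_left hH 0 0 y

theorem zero_right (y : ι → F) : Φ y 0 = 0 := by simpa using smul_right hH 0 y 0

theorem sub_left (x y z : ι → F) : Φ (x - y) z = Φ x z - Φ y z := by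
  rw [eq_sub_iff_add_eq, ← add_left hH, sub_add_cancel]

theorem sub_right (z x y : ι → F) : Φ z (x - y) = Φ z x - Φ z y := by
  rw [eq_sub_iff_add_eq, ← add_right hH, sub_add_cancel]

theorem eq_zero_symm {x y : ι → F} (h : Φ x y = 0) : Φ y x = 0 := by rw [herm hH x y, h, map_zero]

theorem self_skew {x : ι → F} : σ (Φ x x) = Φ x x := sigma_phi hH x x

/-- `Φ (·, v)` as a linear map -/
def phiL (hH : HF τ f σ Φ) (v : ι → F) : (ι → F) →ₗ[K] K where
  toFun x := Φ x v
  map_add' x y := add_left hH x y v
  map_smul' k x := smul_left hH k x v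

theorem phiL_apply (v x : ι → F) : phiL hH v x = Φ x v := rfl

theorem exists_phi_ne {x : ι → F} (hx : x ≠ 0) (e : K) : ∃ y, Φ y x = e := by
  obtain ⟨y, hy⟩ := (hH.unit.nondegenerate x hx).1
  have h : Φ y x ≠ 0 := fun h => hy (by rw [f_eq hH, h, map_zero])
  exact ⟨(e / Φ y x) • y, by rw [smul_left hH, div_mul_cancel₀ _ h]⟩

theorem f_eq_zero {x y : ι → F} (h : Φ x y = 0) (c d : K) : f (c • x) (d • y) = 0 := by
  rw [f_eq hH, smul_left hH, smul_right hH, h, mul_zero, mul_zero, map_zero]

theorem exists_skew : ∃ l : F, l ≠ 0 ∧ l + τ l = 0 :=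
  Unit.exists_skew hH.unit.ne_refl hH.unit.involutive

theorem exists_dec (k : K) {μ : F} (hμ : τ μ ≠ μ) :
    ∃ A B : K, σ A = A ∧ σ B = B ∧ k = A + μ • B := by
  set m := algebraMap F K μ with hm
  have hd : m - σ m ≠ 0 := by
    rw [sub_ne_zero, hm, hH.sigma_alg]
    exact fun h => hμ ((algebraMap F K).injective h).symm
  refine ⟨k - m * ((k - σ k) / (m - σ m)), (k - σ k) / (m - σ m), ?_, ?_, ?_⟩
  · have hd' : σ m - m ≠ 0 := fun h => hd (by linear_combination -h)
    rw [map_sub, map_mul, map_div₀, map_sub, map_sub, hH.sigma_sigma, hH.sigma_sigma]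
    field_simp
    ring
  · rw [map_div₀, map_sub, map_sub, hH.sigma_sigma, hH.sigma_sigma, ← neg_div_neg_eq, neg_sub, neg_sub]
  · rw [Algebra.smul_def, ← hm]; ring

theorem exists_moved : ∃ μ : F, τ μ ≠ μ := Unit.exists_moved hH.unit.ne_refl

/-- a basis of fixed scalars and its dual -/
theorem exists_real_basis : ∃ b b' : Fin (finrank F K) → K, (∀ i, σ (b i) = b i) ∧ (∀ i, σ (b' i) = b' i) ∧
    Submodule.span F (Set.range b) = ⊤ ∧ (∀ y : K, ∑ i, Algebra.trace F K (y * b i) • b' i = y) ∧
    (∀ y : K, ∑ i, Algebra.trace F K (y * b' i) • b i = y) := by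
  classical
  obtain ⟨μ, hμ⟩ := exists_moved hH
  obtain ⟨s, hs, hspan, hli⟩ := exists_linearIndependent F {k : K | σ k = k}
  have htop : Submodule.span F s = ⊤ := by
    rw [hspan, eq_top_iff]
    intro k _
    obtain ⟨A, B, hA, hB, rfl⟩ := exists_dec hH k hμ
    exact add_mem (Submodule.subset_span hA) (Submodule.smul_mem _ _ (Submodule.subset_span hB))
  let B0 : Module.Basis s F K := Module.Basis.mk hli (by rw [Subtype.range_coe, htop])
  have : Finite K := Module.finite_of_finite F
  have : Fintype s := Fintype.ofFinite s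
  let e : s ≃ Fin (finrank F K) := Fintype.equivFinOfCardEq (Module.finrank_eq_card_basis B0).symm
  let B := B0.reindex e
  have hB : ∀ i, σ (B i) = B i := fun i => by
    simp only [B, Module.Basis.reindex_apply, B0, Module.Basis.mk_apply]
    exact hs (e.symm i).2
  let B' := (Algebra.traceForm F K).dualBasis (traceForm_nondegenerate F K) B
  have hd : ∀ i j, Algebra.trace F K (B' i * B j) = if j = i then 1 else 0 := fun i j => by
    rw [← Algebra.traceForm_apply]
    exact LinearMap.BilinForm.apply_dualBasis_left _ _ _ _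
  have hext : ∀ y z : K, (∀ j, Algebra.trace F K (y * B j) = Algebra.trace F K (z * B j)) → y = z := by
    intro y z h
    refine ext_trace (F := F) fun c => ?_
    rw [← B.sum_repr c, Finset.sum_mul, Finset.sum_mul, map_sum, map_sum]
    refine Finset.sum_congr rfl fun j _ => ?_
    rw [smul_mul_assoc, smul_mul_assoc, map_smul, map_smul, mul_comm (B j), mul_comm (B j), h]
  refine ⟨B, B', hB, fun i => hext _ _ fun j => ?_, B.span_eq, fun y => hext _ _ fun j => ?_, fun y => ?_⟩
  · rw [← hB j, ← map_mul, trace_sigma hH, hd, hB, hd, apply_ite τ, map_one, map_zero]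
  · simp only [Finset.sum_mul, map_sum, smul_mul_assoc, map_smul, hd, smul_eq_mul, mul_ite, mul_one, mul_zero]
    simp
  · conv_rhs => rw [← B.sum_repr y]
    refine Finset.sum_congr rfl fun i _ => ?_
    congr 1
    conv_lhs => rw [← B.sum_repr y]
    simp only [Finset.sum_mul, map_sum, smul_mul_assoc, map_smul, mul_comm (B _) (B' i), hd, smul_eq_mul,
      mul_ite, mul_one, mul_zero]
    simp

end Cfsg.Agent.MaxCl.UExt
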