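/-
Elements of the unitary group over an extension field inside an overgroup, and moves of isotropic vectors.
-/
import Cfsg.Agent.Lib.MaxCl.UnitaryExtForm

set_option autoImplicit false
set_option linter.unusedSectionVars false
set_option maxHeartbeats 800000

namespace Cfsg.Agent.MaxCl.UExt

open scoped MatrixGroups Matrix
open Module (finrank)
open Cfsg.Agent.MaxCl.Unit (uiso mem_uiso)

variable {ι : Type} [Fintype ι] [DecidableEq ι] {F : Type*} [Field F]
  {K : Type*} [Field K] [Algebra F K] [Module K (ι → F)] [IsScalarTower F K (ι → F)]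
variable {τ : F ≃+* F} {f : (ι → F) → (ι → F) → F}

/-- `M` is between the group of the form over `K` and that of `f` -/
structure Ctx (τ : F ≃+* F) (f : (ι → F) → (ι → F) → F) (σ : K ≃+* K) (Φ : (ι → F) → (ι → F) → K)
    (M : Subgroup (GL ι F)) : Prop where
  form : HF τ f σ Φ
  two_le : 2 ≤ finrank K (ι → F)
  le : M ≤ uiso f
  lin_mem : ∀ g : GL ι F, g ∈ uiso f → g ∈ Cfsg.Geo.specialLinear ι F →
    (∀ (k : K) (x : ι → F), act g (k • x) = k • act g x) → g ∈ M

variable {σ : K ≃+* K} {Φ : (ι → F) → (ι → F) → K} {M : Subgroup (GL ι F)}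
  [Finite F] [Module.Finite F K] (C : Ctx τ f σ Φ M)
include C

theorem iso {g : GL ι F} (hg : g ∈ M) (x y : ι → F) : f (act g x) (act g y) = f x y :=
  mem_uiso.1 (C.le hg) x y

/-- `W U = 0` makes `1 + U W` an element -/
theorem exists_elem {Q : Type*} [AddCommGroup Q] [Module K Q] [Module F Q] [IsScalarTower F K Q]
    [Module.Finite F Q] (W : (ι → F) →ₗ[K] Q) (U : Q →ₗ[K] (ι → F))
    (hdet : LinearMap.det (LinearMap.id + W.restrictScalars F ∘ₗ U.restrictScalars F) = 1)
    (hiso : ∀ x y, Φ (x + U (W x)) (y + U (W y)) = Φ x y) :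
    ∃ h ∈ M, (∀ x, act h x = x + U (W x)) ∧ ∀ (k : K) x, act h (k • x) = k • act h x := by
  have hH := C.form
  let L : (ι → F) →ₗ[F] (ι → F) := LinearMap.id + U.restrictScalars F ∘ₗ W.restrictScalars F
  have hdetL : LinearMap.det L = 1 := by rw [ExtF.det_add_comp, hdet]
  let e : (ι → F) ≃ₗ[F] (ι → F) := LinearMap.equivOfDetNeZero L (by rw [hdetL]; exact one_ne_zero)
  have he : ∀ x, act (ExtF.ofEquiv e) x = x + U (W x) := fun x => ExtF.act_ofEquiv e x
  have hlin : ∀ (k : K) x, act (ExtF.ofEquiv e) (k • x) = k • act (ExtF.ofEquiv e) x := fun k x => by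
    rw [he, he, map_smul, map_smul, smul_add]
  refine ⟨ExtF.ofEquiv e, C.lin_mem _ (mem_uiso.2 fun x y => ?_) ?_ hlin, he, hlin⟩
  · rw [f_eq hH, he, he, hiso, ← f_eq hH]
  · rw [ExtF.mem_sl_iff]
    have : act (ExtF.ofEquiv e) = L := LinearMap.ext he
    rw [this, hdetL]

/-- transvections over `K` -/
theorem exists_ktv {v : ι → F} (hv : Φ v v = 0) {c : K} (hc : c + σ c = 0) :
    ∃ h ∈ M, (∀ x, act h x = x + (c * Φ x v) • v) ∧ ∀ (k : K) x, act h (k • x) = k • act h x := by
  have hH := C.form
  refine exists_elem C (Q := K) (c • phiL hH v) (LinearMap.toSpanSingleton K (ι → F) v) ?_ fun x y => ?_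
  · have : (c • phiL hH v).restrictScalars F ∘ₗ
        (LinearMap.toSpanSingleton K (ι → F) v).restrictScalars F = 0 := by
      refine LinearMap.ext fun k => ?_
      simp [phiL_apply, hv]
    rw [this, add_zero, LinearMap.det_id]
  · simp only [LinearMap.toSpanSingleton_apply, LinearMap.smul_apply, phiL_apply, smul_eq_mul, add_left hH,
      add_right hH, smul_left hH, smul_right hH, map_mul, sigma_phi hH, hv, mul_zero, add_zero]
    linear_combination (Φ x v * Φ v y) * hc

/-- Siegel elements over `K` -/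
theorem exists_cross {a v : ι → F} (ha : Φ a a = 0) (hva : Φ v a = 0) (k : K) :
    ∃ (e : K) (h : GL ι F), h ∈ M ∧ (∀ (j : K) x, act h (j • x) = j • act h x) ∧
      ∀ x, act h x = x + (k * Φ x v + e * Φ x a) • a + (-σ k * Φ x a) • v := by
  have hH := C.form
  obtain ⟨e, he⟩ := Unit.exists_trace hH.sigma_sigma (sigma_ne hH) (-(k * σ k * Φ v v))
    (by rw [map_neg, map_mul, map_mul, hH.sigma_sigma, self_skew hH, mul_comm (σ k) k])
  let W : (ι → F) →ₗ[K] K × K := (phiL hH v).prod (phiL hH a)
  let U : K × K →ₗ[K] (ι → F) :=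
    (k • LinearMap.fst K K K + e • LinearMap.snd K K K).smulRight a +
      ((-σ k) • LinearMap.snd K K K).smulRight v
  have hU : ∀ p : K × K, U p = (k * p.1 + e * p.2) • a + (-σ k * p.2) • v := fun p => by
    simp [U, LinearMap.add_apply]
  have hW : ∀ x, W x = (Φ x v, Φ x a) := fun x => rfl
  have hav := eq_zero_symm hH hva
  suffices key : LinearMap.det (LinearMap.id + W.restrictScalars F ∘ₗ U.restrictScalars F) = 1 ∧
      ∀ x y, Φ (x + U (W x)) (y + U (W y)) = Φ x y by
    obtain ⟨h, hh, hx, hl⟩ := exists_elem C W U key.1 key.2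
    exact ⟨e, h, hh, hl, fun x => by rw [hx, hW, hU, add_assoc]⟩
  refine ⟨?_, ?_⟩
  · have hc : W.restrictScalars F ∘ₗ U.restrictScalars F =
        LinearMap.inl F K K ∘ₗ (LinearMap.mulLeft F (-σ k * Φ v v) ∘ₗ LinearMap.snd F K K) := by
      refine LinearMap.ext fun p => ?_
      simp only [LinearMap.comp_apply, LinearMap.coe_restrictScalars, hW, hU, LinearMap.inl_apply,
        LinearMap.mulLeft_apply, LinearMap.snd_apply, add_left hH, smul_left hH, ha, hav, hva, mul_zero,
        add_zero, zero_add]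
      congr 1
      ring
    rw [hc, ExtF.det_add_comp]
    have h0 : (LinearMap.mulLeft F (-σ k * Φ v v) ∘ₗ LinearMap.snd F K K) ∘ₗ LinearMap.inl F K K = 0 :=
      LinearMap.ext fun p => by simp
    rw [h0, add_zero, LinearMap.det_id]
  · intro x y
    simp only [hW, hU, add_left hH, add_right hH, smul_left hH, smul_right hH, map_add, map_mul, map_neg,
      hH.sigma_sigma, sigma_phi hH, ha, hva, hav]
    linear_combination (Φ x a * Φ a y) * he

/-- tori on a hyperbolic pair -/
theorem exists_torus {a b : ι → F} (ha : Φ a a = 0) (hb : Φ b b = 0) (hab : Φ a b = 1) {β : K} (hβ : β ≠ 0)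
    (hdet : Algebra.norm F β = τ (Algebra.norm F β) ∨ 3 ≤ finrank K (ι → F)) :
    ∃ h ∈ M, (∀ (j : K) x, act h (j • x) = j • act h x) ∧ act h a = β • a ∧
      act h b = (σ β)⁻¹ • b := by
  have hH := C.form
  have hba : Φ b a = 1 := by rw [herm hH a b, hab, map_one]
  -- an anisotropic vector orthogonal to the pair
  obtain ⟨y, hya, hyb, hy, hn⟩ : ∃ y, Φ y a = 0 ∧ Φ y b = 0 ∧ (Φ y y = 0 → y = 0) ∧
      (y = 0 → Algebra.norm F β = τ (Algebra.norm F β)) := by
    rcases hdet with h | h
    · exact ⟨0, zero_left hH a, zero_left hH b, fun _ => rfl, fun _ => h⟩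
    by_contra hno
    push Not at hno
    have hproj : ∀ x, Φ (x - Φ x b • a - Φ x a • b) a = 0 ∧ Φ (x - Φ x b • a - Φ x a • b) b = 0 := fun x => by
      constructor <;>
        simp only [sub_left hH, smul_left hH, ha, hb, hab, hba, mul_zero, mul_one, sub_zero, sub_self]
    have hzero : ∀ y, Φ y a = 0 → Φ y b = 0 → y = 0 := by
      have hiso : ∀ y, Φ y a = 0 → Φ y b = 0 → Φ y y = 0 := fun y h1 h2 => by
        by_contra h3
        obtain ⟨h4, -⟩ := hno y h1 h2 (fun h => absurd h h3)
        exact h3 (by rw [h4, zero_left hH])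
      intro y h1 h2
      by_contra hy0
      obtain ⟨e, he⟩ := Unit.exists_trace_one hH.sigma_sigma (sigma_ne hH)
      obtain ⟨z, hz⟩ := exists_phi_ne hH hy0 e
      set w := z - Φ z b • a - Φ z a • b with hw
      have hay := eq_zero_symm hH h1
      have hby := eq_zero_symm hH h2
      have hwy : Φ w y = e := by
        rw [hw, sub_left hH, sub_left hH, smul_left hH, smul_left hH, hay, hby, hz, mul_zero, sub_zero, mul_zero,
          sub_zero]
      have h5 := hiso (y + w) (by rw [add_left hH, h1, (hproj z).1, add_zero])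
        (by rw [add_left hH, h2, (hproj z).2, add_zero])
      rw [add_left hH, add_right hH, add_right hH, hiso y h1 h2, hiso w (hproj z).1 (hproj z).2, hwy,
        herm hH w y, hwy] at h5
      exact one_ne_zero (α := K) (by linear_combination h5 - he)
    have htop : (Submodule.span K ({a, b} : Set (ι → F))) = ⊤ := by
      rw [eq_top_iff]
      intro x _
      have := hzero _ (hproj x).1 (hproj x).2
      rw [sub_sub, sub_eq_zero] at this
      exact Submodule.mem_span_pair.2 ⟨_, _, this.symm⟩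
    classical
    have h2 := finrank_span_le_card (R := K) ({a, b} : Set (ι → F))
    rw [htop, finrank_top] at h2
    have h3 : ({a, b} : Set (ι → F)).toFinset.card ≤ 2 := by
      simp only [Set.toFinset_insert, Set.toFinset_singleton]
      exact Finset.card_le_two
    omega
  obtain ⟨γ, hγ, hγn, hγy⟩ : ∃ γ : K, γ * σ γ = 1 ∧
      Algebra.norm F β * (Algebra.norm F (σ β))⁻¹ * Algebra.norm F γ = 1 ∧ (y = 0 → γ = 1) := by
    have hN : Algebra.norm F β ≠ 0 := Algebra.norm_ne_zero_iff.2 hβ
    by_cases hy0 : y = 0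
    · refine ⟨1, by rw [map_one, one_mul], ?_, fun _ => rfl⟩
      rw [map_one, mul_one, norm_sigma hH, ← hn hy0, mul_inv_cancel₀ hN]
    · have hσ : σ β ≠ 0 := (map_ne_zero σ).2 hβ
      refine ⟨σ β / β, ?_, ?_, fun h => absurd h hy0⟩
      · rw [map_div₀, hH.sigma_sigma, div_mul_div_cancel₀ hβ, div_self hσ]
      · have h1 : Algebra.norm F (σ β / β) * Algebra.norm F β = Algebra.norm F (σ β) := by
          rw [← map_mul, div_mul_cancel₀ _ hβ]
        rw [mul_comm (Algebra.norm F β), mul_assoc, mul_comm (Algebra.norm F β), h1,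
          inv_mul_cancel₀ (Algebra.norm_ne_zero_iff.2 hσ)]
  let W : (ι → F) →ₗ[K] K × K × K := (phiL hH b).prod ((phiL hH a).prod (phiL hH y))
  let U : K × K × K →ₗ[K] (ι → F) :=
    ((β - 1) • LinearMap.fst K K (K × K)).smulRight a +
      ((((σ β)⁻¹ - 1)) • (LinearMap.fst K K K ∘ₗ LinearMap.snd K K (K × K))).smulRight b +
      (((γ - 1) / Φ y y) • (LinearMap.snd K K K ∘ₗ LinearMap.snd K K (K × K))).smulRight y
  have hU : ∀ p : K × K × K, U p = ((β - 1) * p.1) • a + (((σ β)⁻¹ - 1) * p.2.1) • b +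
      (((γ - 1) / Φ y y) * p.2.2) • y := fun p => by simp [U]
  have hW : ∀ x, W x = (Φ x b, Φ x a, Φ x y) := fun x => rfl
  have hay := eq_zero_symm hH hya
  have hby := eq_zero_symm hH hyb
  have hyy : (γ - 1) / Φ y y * Φ y y = γ - 1 := by
    rcases eq_or_ne y 0 with h | h
    · rw [hγy h, sub_self, zero_div, zero_mul]
    · exact div_mul_cancel₀ _ fun h' => h (hy h')
  suffices key : LinearMap.det (LinearMap.id + W.restrictScalars F ∘ₗ U.restrictScalars F) = 1 ∧
      ∀ x y, Φ (x + U (W x)) (y + U (W y)) = Φ x y by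
    obtain ⟨h, hh, hx, hl⟩ := exists_elem C W U key.1 key.2
    refine ⟨h, hh, hl, ?_, ?_⟩
    · rw [hx, hW, hU, ha, hab, hay]
      simp only [mul_zero, mul_one, zero_smul, add_zero, sub_smul, one_smul, add_sub_cancel]
    · rw [hx, hW, hU, hb, hba, hby]
      simp only [mul_zero, mul_one, zero_smul, add_zero, zero_add, sub_smul, one_smul, add_sub_cancel]
  refine ⟨?_, ?_⟩
  · have hc : LinearMap.id + W.restrictScalars F ∘ₗ U.restrictScalars F =
        LinearMap.prodMap (LinearMap.mulLeft F β)
          (LinearMap.prodMap (LinearMap.mulLeft F (σ β)⁻¹) (LinearMap.mulLeft F γ)) := by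
      refine LinearMap.ext fun p => ?_
      simp only [LinearMap.add_apply, LinearMap.id_apply, LinearMap.comp_apply, LinearMap.coe_restrictScalars,
        hW, hU, LinearMap.prodMap_apply, LinearMap.mulLeft_apply, add_left hH, smul_left hH, ha, hb, hab, hba,
        hay, hby, hya, hyb, mul_zero, mul_one, add_zero, zero_add]
      ext
      · simp only [Prod.fst_add]; ring
      · simp only [Prod.snd_add, Prod.fst_add]; ring
      · simp only [Prod.snd_add, mul_right_comm _ p.2.2, hyy]; ring
    have hdm : ∀ z : K, LinearMap.det (LinearMap.mulLeft F z) = Algebra.norm F z := fun z =>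
      (Algebra.norm_apply F z).symm
    have hi : Algebra.norm F (σ β)⁻¹ = (Algebra.norm F (σ β))⁻¹ := eq_inv_of_mul_eq_one_left (by
      rw [← map_mul, inv_mul_cancel₀ ((map_ne_zero σ).2 hβ), map_one])
    rw [hc, LinearMap.det_prodMap, LinearMap.det_prodMap, hdm, hdm, hdm, hi, ← mul_assoc, hγn]
  · intro x z
    simp only [hW, hU, add_left hH, add_right hH, smul_left hH, smul_right hH, map_mul, map_sub, map_inv₀,
      map_one, map_div₀, hH.sigma_sigma, sigma_phi hH, ha, hb, hab, hba, hya, hyb, hay, hby, mul_zero, mul_one,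
      add_zero, zero_add]
    rcases eq_or_ne y 0 with h | h
    · rw [hγy h]
      simp only [map_one, sub_self, zero_div, zero_mul, add_zero]
      have hσ : σ β ≠ 0 := (map_ne_zero σ).2 hβ
      field_simp
      ring
    · have hy0 : Φ y y ≠ 0 := fun h' => h (hy h')
      have hσ : σ β ≠ 0 := (map_ne_zero σ).2 hβ
      field_simp
      linear_combination (β * σ β * Φ x y * Φ y z) * hγ

end Cfsg.Agent.MaxCl.UExt
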