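/-
Isotropic lines over the extension field: common zeros of quadratic forms, images of lines, transitivity.
-/
import Cfsg.Agent.Lib.MaxCl.UnitaryExtElements

set_option autoImplicit false
set_option linter.unusedSectionVars false
set_option maxHeartbeats 800000

namespace Cfsg.Agent.MaxCl.UExt

open scoped MatrixGroups Matrix
open Module (finrank)
open Cfsg.Agent.MaxCl.Unit (uiso mem_uiso)

/-- fewer than half as many quadratic forms as the dimension have a common non-trivial zero -/
theorem exists_common_zero {k : Type*} [Field k] [Finite k] {V : Type*} [AddCommGroup V] [Module k V]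
    [Module.Finite k V] {J : Type*} (s : Finset J) (B : J → V →ₗ[k] V →ₗ[k] k)
    (h : 2 * s.card < finrank k V) : ∃ v, v ≠ 0 ∧ ∀ i ∈ s, B i v v = 0 := by
  classical
  have : Fintype k := Fintype.ofFinite k
  obtain ⟨p, hp⟩ := CharP.exists k
  have : CharP k p := hp
  have hpp : p.Prime := (CharP.char_is_prime_or_zero k p).resolve_right (CharP.char_ne_zero_of_finite k p)
  let b := Module.finBasis k V
  let P : J → MvPolynomial (Fin (finrank k V)) k := fun i =>
    ∑ s, ∑ t, MvPolynomial.C (B i (b s) (b t)) * MvPolynomial.X s * MvPolynomial.X t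
  have hdeg : ∀ i, (P i).totalDegree ≤ 2 := fun i => by
    refine MvPolynomial.totalDegree_finsetSum_le fun s _ => MvPolynomial.totalDegree_finsetSum_le fun t _ => ?_
    refine (MvPolynomial.totalDegree_mul _ _).trans ?_
    rw [MvPolynomial.totalDegree_X]
    refine Nat.succ_le_succ ((MvPolynomial.totalDegree_mul _ _).trans ?_)
    rw [MvPolynomial.totalDegree_X, MvPolynomial.totalDegree_C]
  have hsum : ∑ i ∈ s, (P i).totalDegree < Fintype.card (Fin (finrank k V)) := by
    rw [Fintype.card_fin]
    have h1 := Finset.sum_le_card_nsmul s _ 2 fun i _ => hdeg i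
    rw [smul_eq_mul] at h1
    omega
  have heval : ∀ (x : Fin (finrank k V) → k) i,
      MvPolynomial.eval x (P i) = B i (∑ s, x s • b s) (∑ s, x s • b s) := fun x i => by
    simp only [P, map_sum, map_mul, MvPolynomial.eval_C, MvPolynomial.eval_X, LinearMap.sum_apply, map_smul,
      LinearMap.smul_apply, smul_eq_mul, Finset.mul_sum]
    rw [Finset.sum_comm]
    refine Finset.sum_congr rfl fun s _ => Finset.sum_congr rfl fun t _ => ?_
    ring
  have hdvd := char_dvd_card_solutions_of_sum_lt p hsum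
  let z : {x // ∀ i ∈ s, MvPolynomial.eval x (P i) = 0} := ⟨0, fun i _ => by rw [heval]; simp⟩
  have hpos : 0 < Fintype.card {x // ∀ i ∈ s, MvPolynomial.eval x (P i) = 0} := Fintype.card_pos_iff.2 ⟨z⟩
  obtain ⟨x, hx⟩ := Fintype.exists_ne_of_one_lt_card (hpp.one_lt.trans_le (Nat.le_of_dvd hpos hdvd)) z
  refine ⟨∑ s, x.1 s • b s, fun h0 => hx (Subtype.ext (funext fun i => ?_)), fun i hi => by
    rw [← heval]; exact x.2 i hi⟩
  exact Fintype.linearIndependent_iff.1 b.linearIndependent x.1 h0 i

variable {ι : Type} [Fintype ι] [DecidableEq ι] {F : Type*} [Field F]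
  {K : Type*} [Field K] [Algebra F K] [Module K (ι → F)] [IsScalarTower F K (ι → F)]
variable {τ : F ≃+* F} {f : (ι → F) → (ι → F) → F}
variable {σ : K ≃+* K} {Φ : (ι → F) → (ι → F) → K} {M : Subgroup (GL ι F)}
  [Finite F] [Module.Finite F K] (C : Ctx τ f σ Φ M)
include C

/-- the fixed scalars of `τ` -/
def fixF (τ : F ≃+* F) : Subfield F where
  carrier := {c | τ c = c}
  mul_mem' := fun {a b} (ha : τ a = a) (hb : τ b = b) => show τ (a * b) = a * b by rw [map_mul, ha, hb]
  one_mem' := map_one τ
  add_mem' := fun {a b} (ha : τ a = a) (hb : τ b = b) => show τ (a + b) = a + b by rw [map_add, ha, hb]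
  zero_mem' := map_zero τ
  neg_mem' := fun {a} (ha : τ a = a) => show τ (-a) = -a by rw [map_neg, ha]
  inv_mem' := fun a (ha : τ a = a) => show τ a⁻¹ = a⁻¹ by rw [map_inv₀, ha]

/-- the image of an isotropic line contains an isotropic vector -/
theorem exists_iso_in_image {g : GL ι F} (hg : g ∈ M) {a₀ : ι → F} (ha₀ : Φ a₀ a₀ = 0) :
    ∃ j : K, j ≠ 0 ∧ Φ (act g (j • a₀)) (act g (j • a₀)) = 0 := by
  classical
  have hH := C.form
  have : Finite K := Module.finite_of_finite F
  obtain ⟨b, b', hb, -, hspan, -, hrepr⟩ := exists_real_basis hH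
  obtain ⟨i₀, hi₀⟩ : ∃ i, Algebra.trace F K (b' i) ≠ 0 := by
    by_contra h
    push Not at h
    refine one_ne_zero (α := K) ((hrepr 1).symm.trans (Finset.sum_eq_zero fun i _ => ?_))
    rw [one_mul, h, zero_smul]
  obtain ⟨ν, hν⟩ := Unit.exists_trace_one hH.unit.involutive hH.unit.ne_refl
  set F₀ := fixF τ with hF₀
  have : IsScalarTower F₀ F K := ⟨fun a c x => by
    show ((a : F) * c) • x = (a : F) • c • x
    rw [mul_smul]⟩
  have : Module.Finite F₀ K := Module.Finite.of_finite
  let w : K →ₗ[F] (ι → F) := act g ∘ₗ (LinearMap.toSpanSingleton K (ι → F) a₀).restrictScalars F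
  let W : K → K → F := fun x y => ν * f (b' i₀ • w x) (w y)
  have hWW : ∀ x y, f (w x) (w y) = 0 := fun x y => by
    show f (act g (x • a₀)) (act g (y • a₀)) = 0
    rw [iso C hg, f_eq_zero hH ha₀]
  have htwo : ∀ c : K, σ c = c → ∀ x y, f (c • w x) (w y) = f (w x) (c • w y) := fun c hc x y => by
    rw [hH.adj, hc]
  let B : Fin (finrank F K) → K →ₗ[F₀] K →ₗ[F₀] F₀ := fun i => LinearMap.mk₂ F₀
    (fun x y => (⟨ν * f (b i • w x) (w y) + τ (ν * f (b i • w x) (w y)), show τ _ = _ by
      rw [map_add, hH.unit.involutive, add_comm]⟩ : F₀))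
    (fun x₁ x₂ y => Subtype.ext (by
      simp only [map_add, smul_add, Unit.add_left hH.unit, mul_add, Subfield.coe_add]; ring))
    (fun c x y => Subtype.ext (by
      show _ = (c : F) * _
      simp only [show c • x = (c : F) • x from rfl, map_smul, smul_comm _ (c : F), Unit.smul_left hH.unit,
        map_mul, show τ (c : F) = c from c.2]
      ring))
    (fun x y₁ y₂ => Subtype.ext (by
      simp only [map_add, Unit.add_right hH.unit, mul_add, Subfield.coe_add]; ring))
    (fun c x y => Subtype.ext (by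
      show _ = (c : F) * _
      simp only [show c • y = (c : F) • y from rfl, map_smul, Unit.smul_right hH.unit,
        map_mul, show τ (c : F) = c from c.2]
      ring))
  have hdim : 2 * (Finset.univ.erase i₀).card < finrank F₀ K := by
    rw [Finset.card_erase_of_mem (Finset.mem_univ _), Finset.card_univ, Fintype.card_fin,
      ← Module.finrank_mul_finrank F₀ F K]
    have hr : 0 < finrank F K := Module.finrank_pos
    have : Module.Finite F₀ F := Module.Finite.of_finite
    have h2 : 2 ≤ finrank F₀ F := by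
      by_contra h
      have hpos : 0 < finrank F₀ F := Module.finrank_pos
      obtain ⟨μ, hμ⟩ := exists_moved hH
      obtain ⟨c, hc⟩ := (finrank_eq_one_iff_of_nonzero' (1 : F) one_ne_zero).1 (show finrank F₀ F = 1 by omega) μ
      apply hμ
      rw [← hc, show c • (1 : F) = (c : F) * 1 from rfl, mul_one]
      exact c.2
    have := Nat.mul_le_mul_right (finrank F K) h2
    omega
  obtain ⟨j, hj, hzero⟩ := exists_common_zero (Finset.univ.erase i₀) B hdim
  refine ⟨j, hj, ?_⟩
  set z := Φ (act g (j • a₀)) (act g (j • a₀)) with hz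
  have htr : ∀ i, i ≠ i₀ → Algebra.trace F K (z * b i) = 0 := fun i hi => by
    have h1 : (ν * f (b i • w j) (w j) + τ (ν * f (b i • w j) (w j)) : F) = 0 :=
      congrArg Subtype.val (hzero i (Finset.mem_erase.2 ⟨hi, Finset.mem_univ _⟩))
    rw [map_mul, Unit.herm' hH.unit, ← htwo _ (hb i), ← add_mul, hν, one_mul] at h1
    rw [mul_comm, hz, hH.trace]
    exact h1
  have htr1 : Algebra.trace F K z = 0 := by
    rw [hz, ← f_eq hH]; exact hWW j j
  have h0 : Algebra.trace F K (z * b i₀) = 0 := by
    have h2 := htr1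
    rw [← mul_one z, ← hrepr 1, Finset.mul_sum, map_sum, Finset.sum_eq_single i₀] at h2
    · rw [mul_smul_comm, map_smul, one_mul, smul_eq_mul, mul_eq_zero] at h2
      exact h2.resolve_left hi₀
    · intro i _ hi
      rw [mul_smul_comm, map_smul, htr i hi, smul_zero]
    · simp
  refine ext_trace (F := F) fun c => ?_
  rw [← hrepr c, Finset.sum_mul, map_sum, mul_zero, map_zero]
  refine Finset.sum_eq_zero fun i _ => ?_
  rw [smul_mul_assoc, map_smul, mul_comm (b i)]
  rcases eq_or_ne i i₀ with rfl | hi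
  · rw [h0, smul_zero]
  · rw [htr i hi, smul_zero]

theorem exists_partner {a : ι → F} (ha : Φ a a = 0) (ha0 : a ≠ 0) : ∃ b, Φ b b = 0 ∧ Φ a b = 1 := by
  have hH := C.form
  obtain ⟨y, hy⟩ := exists_phi_ne hH ha0 1
  obtain ⟨e, he⟩ := Unit.exists_trace hH.sigma_sigma (sigma_ne hH) (-Φ y y) (by rw [map_neg, self_skew hH])
  refine ⟨y + e • a, ?_, ?_⟩
  · rw [add_left hH, add_right hH, add_right hH, smul_left hH, smul_left hH, smul_right hH, smul_right hH, ha,
      hy, herm hH y a, hy, map_one]
    linear_combination he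
  · rw [add_right hH, smul_right hH, ha, herm hH y a, hy, map_one, mul_zero, add_zero]

/-- some isotropic line has an image which is not inside a line -/
theorem exists_nonline {g : GL ι F} (hns : ¬ ExtF.IsSemi K g) :
    ∃ a : ι → F, a ≠ 0 ∧ Φ a a = 0 ∧ ∃ k : K, act g (k • a) ∉ (K ∙ act g a) := by
  classical
  have hH := C.form
  have : Finite K := Module.finite_of_finite F
  by_contra hno
  push Not at hno
  apply hns
  have hlines : ∀ (x : ι → F) (k : K), ∃ s : K, x ≠ 0 → Φ x x = 0 → act g (k • x) = s • act g x := by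
    intro x k
    by_cases h : x ≠ 0 ∧ Φ x x = 0
    · obtain ⟨s, hs⟩ := Submodule.mem_span_singleton.1 (hno x h.1 h.2 k)
      exact ⟨s, fun _ _ => hs.symm⟩
    · exact ⟨0, fun h1 h2 => absurd ⟨h1, h2⟩ h⟩
  choose s hs using hlines
  have uniq : ∀ {x : ι → F}, x ≠ 0 → Φ x x = 0 → ∀ {k t : K}, act g (k • x) = t • act g x → s x k = t :=
    fun {x} hx hxx {k t} h => smul_left_injective K (fun h0 => hx (act_injective g (by rw [h0, map_zero])))
      ((hs x k hx hxx).symm.trans h)
  obtain ⟨l, hl0, hl⟩ := exists_skew hH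
  set L := algebraMap F K l with hL
  have hL0 : L ≠ 0 := (map_ne_zero _).2 hl0
  have hpair : ∀ {a b : ι → F}, Φ a a = 0 → Φ b b = 0 → Φ a b = 1 →
      (∀ k, s a k = s b k) ∧ ∀ k e, e + σ e = 0 → s b (k * e) = s b k * s b e := by
    intro a b ha hb hab
    have hba : Φ b a = 1 := by rw [herm hH a b, hab, map_one]
    have ha0 : a ≠ 0 := fun h => by rw [h, zero_left hH] at hab; exact zero_ne_one hab
    have hb0 : b ≠ 0 := fun h => by rw [h, zero_right hH] at hab; exact zero_ne_one hab
    have hgb : act g b ≠ 0 := fun h => hb0 (act_injective g (by rw [h, map_zero]))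
    have hsur : Function.Surjective (s b) := Finite.surjective_of_injective fun x y h =>
      smul_left_injective K hb0 (act_injective g (by
        show act g (x • b) = act g (y • b)
        rw [hs b x hb0 hb, hs b y hb0 hb, h]))
    have hind : ∀ p r : K, p • act g a + r • act g b = 0 → p = 0 ∧ r = 0 := by
      intro p r h
      have hp : p = 0 := by
        by_contra hp
        obtain ⟨j, hj⟩ := hsur (-(p⁻¹ * r))
        have : a = j • b := act_injective g (by
          rw [hs b j hb0 hb, hj, neg_smul, mul_smul, eq_neg_iff_add_eq_zero, ← inv_smul_smul₀ hp (act g a),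
            ← smul_add, h, smul_zero])
        rw [this, smul_left hH, hb, mul_zero] at hab
        exact zero_ne_one hab
      rw [hp, zero_smul, zero_add, smul_eq_zero, or_iff_left hgb] at h
      exact ⟨hp, h⟩
    have key : ∀ k e, e + σ e = 0 → s b (k * e) = s a k * s b e := by
      intro k e he
      have hc : Φ (a + e • b) (a + e • b) = 0 := by
        rw [add_left hH, add_right hH, add_right hH, smul_left hH, smul_left hH, smul_right hH, smul_right hH,
          ha, hb, hab, hba]
        linear_combination he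
      have hc0 : a + e • b ≠ 0 := fun h => by
        have h1 := congrArg (fun x => Φ x b) h
        simp [add_left hH, smul_left hH, hb, hab, zero_left hH] at h1
      have h1 := hs (a + e • b) k hc0 hc
      rw [smul_add, map_add, map_add, smul_smul, hs a k ha0 ha, hs b (k * e) hb0 hb, hs b e hb0 hb, smul_add,
        smul_smul] at h1
      obtain ⟨h2, h3⟩ := hind (s a k - s (a + e • b) k) (s b (k * e) - s (a + e • b) k * s b e) (by
        linear_combination (norm := module) h1)
      rw [sub_eq_zero.1 h3, ← sub_eq_zero.1 h2]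
    have hab' : ∀ k, s a k = s b k := fun k => by
      have h1 := key k L (by rw [hL, hH.sigma_alg, ← map_add, hl, map_zero])
      have h2 : s b (k * L) = L * s b k := uniq hb0 hb (by
        rw [mul_comm, mul_smul, hL, algebraMap_smul, map_smul, hs b k hb0 hb, mul_smul, algebraMap_smul])
      have h3 : s b L = L := uniq hb0 hb (by rw [hL, algebraMap_smul, map_smul, algebraMap_smul])
      rw [h2, h3, mul_comm] at h1
      exact (mul_right_cancel₀ hL0 h1).symm
    exact ⟨hab', fun k e he => by rw [key k e he, hab']⟩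
  obtain ⟨x₀, hx₀⟩ : ∃ x : ι → F, x ≠ 0 := by
    by_contra h; push Not at h
    have h2 := C.two_le
    have : Subsingleton (ι → F) := ⟨fun x y => by rw [h x, h y]⟩
    rw [Module.finrank_zero_of_subsingleton] at h2
    omega
  obtain ⟨a, ha0, ha⟩ : ∃ a : ι → F, a ≠ 0 ∧ Φ a a = 0 := by
    -- a line plus a vector off it contains an isotropic vector
    by_cases hx : Φ x₀ x₀ = 0
    · exact ⟨x₀, hx₀, hx⟩
    obtain ⟨y₀, hy₀⟩ := ExtF.exists_notMem _ (ExtF.span_ne_top C.two_le x₀)
    set y := y₀ - (Φ y₀ x₀ / Φ x₀ x₀) • x₀ with hy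
    have hyx : Φ y x₀ = 0 := by rw [hy, sub_left hH, smul_left hH, div_mul_cancel₀ _ hx, sub_self]
    have hy0 : y ≠ 0 := fun h => hy₀ (Submodule.mem_span_singleton.2 ⟨_, (sub_eq_zero.1 h).symm⟩)
    by_cases hyy : Φ y y = 0
    · exact ⟨y, hy0, hyy⟩
    have : Fintype K := Fintype.ofFinite K
    obtain ⟨β, hβ⟩ := Unit.exists_norm hH.sigma_sigma (sigma_ne hH) (-(Φ x₀ x₀ / Φ y y))
      (by rw [map_neg, map_div₀, self_skew hH, self_skew hH])
    refine ⟨x₀ + β • y, fun h => hx ?_, ?_⟩
    · have := congrArg (fun x => Φ x x₀) h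
      simpa [add_left hH, smul_left hH, hyx, zero_left hH] using this
    · rw [add_left hH, add_right hH, add_right hH, smul_left hH, smul_left hH, smul_right hH, smul_right hH, hyx,
        eq_zero_symm hH hyx, ← mul_assoc, hβ]
      field_simp
      ring
  obtain ⟨b, hb, hab⟩ := exists_partner C ha ha0
  obtain ⟨hsab, hmul⟩ := hpair ha hb hab
  have hb0 : b ≠ 0 := fun h => by rw [h, zero_right hH] at hab; exact zero_ne_one hab
  have hba : Φ b a = 1 := by rw [herm hH a b, hab, map_one]
  have hsmul : ∀ (c : F) k, s b (c • k) = c • s b k := fun c k => uniq hb0 hb (by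
    rw [smul_assoc, map_smul, hs b k hb0 hb, smul_assoc])
  have hadd : ∀ k k', s b (k + k') = s b k + s b k' := fun k k' => uniq hb0 hb (by
    rw [add_smul, map_add, hs b k hb0 hb, hs b k' hb0 hb, add_smul])
  have hmul' : ∀ k z, s b (k * z) = s b k * s b z := by
    intro k z
    obtain ⟨A, B, hA, hB, hz⟩ := exists_dec hH (L⁻¹ * z) (exists_moved hH).choose_spec
    set μ := (exists_moved hH).choose
    have hz' : z = L * A + μ • (L * B) := by
      rw [← mul_smul_comm, ← mul_add, ← hz, mul_inv_cancel_left₀ hL0]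
    have hsk : ∀ x : K, σ x = x → L * x + σ (L * x) = 0 := fun x hx => by
      rw [map_mul, hx, ← add_mul, hL, hH.sigma_alg, ← map_add, hl, map_zero, zero_mul]
    rw [hz', mul_add, hadd, hadd, mul_smul_comm, hsmul, hsmul, hmul _ _ (hsk A hA), hmul _ _ (hsk B hB),
      mul_add, mul_smul_comm]
  intro k
  refine ⟨s b k, fun x => ?_⟩
  have hline : ∀ {c : ι → F}, c ≠ 0 → Φ c c = 0 → (∀ k, s c k = s b k) → ∀ t : K,
      act g (k • t • c) = s b k • act g (t • c) := by
    intro c hc0 hc hsc t
    rw [smul_smul, hs c _ hc0 hc, hs c t hc0 hc, hsc, hsc, hmul', mul_smul]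
  set p := x - Φ x b • a - Φ x a • b with hp
  have hpa : Φ p a = 0 := by
    rw [hp, sub_left hH, sub_left hH, smul_left hH, smul_left hH, ha, hba, mul_zero, sub_zero, mul_one, sub_self]
  have hpb : Φ p b = 0 := by
    rw [hp, sub_left hH, sub_left hH, smul_left hH, smul_left hH, hab, hb, mul_one, sub_self, mul_zero, sub_zero]
  obtain ⟨e, he⟩ := Unit.exists_trace hH.sigma_sigma (sigma_ne hH) (-Φ p p) (by rw [map_neg, self_skew hH])
  set y := b + p + e • a with hy
  have hyy : Φ y y = 0 := by
    rw [hy]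
    simp only [add_left hH, add_right hH, smul_left hH, smul_right hH, hb, hba, hab, hpa, hpb,
      eq_zero_symm hH hpa, eq_zero_symm hH hpb, ha]
    linear_combination he
  have hay : Φ a y = 1 := by
    rw [hy, add_right hH, add_right hH, smul_right hH, hab, eq_zero_symm hH hpa, ha, add_zero, mul_zero, add_zero]
  have hy0 : y ≠ 0 := fun h => by rw [h, zero_right hH] at hay; exact zero_ne_one hay
  have hsy : ∀ k, s y k = s b k := fun k => ((hpair ha hyy hay).1 k).symm.trans (hsab k)
  have hxd : x = (Φ x b - e) • a + (Φ x a - 1) • b + (1 : K) • y := by rw [hy, hp]; module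
  rw [hxd]
  simp only [smul_add, map_add, hline ha0 ha hsab, hline hb0 hb (fun _ => rfl), hline hy0 hyy hsy]

/-- the small group is transitive on isotropic lines -/
theorem exists_move {a b : ι → F} (ha : Φ a a = 0) (ha0 : a ≠ 0) (hb : Φ b b = 0) (hb0 : b ≠ 0) :
    ∃ h ∈ M, ∃ t : K, t ≠ 0 ∧ act h a = t • b ∧ ∀ (j : K) x, act h (j • x) = j • act h x := by
  have hH := C.form
  obtain ⟨l, hl0, hl⟩ := exists_skew hH
  set L := algebraMap F K l with hL
  have hL0 : L ≠ 0 := (map_ne_zero _).2 hl0
  have hLs : σ L = -L := by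
    rw [eq_neg_iff_add_eq_zero, hL, hH.sigma_alg, ← map_add, add_comm, hl, map_zero]
  have step : ∀ {a b : ι → F}, Φ a a = 0 → Φ b b = 0 → Φ a b ≠ 0 →
      ∃ h ∈ M, ∃ t : K, t ≠ 0 ∧ act h a = t • b ∧ ∀ (j : K) x, act h (j • x) = j • act h x := by
    intro a b ha hb hab
    -- scale `b` so that the product with `a` is skew
    have hσab : σ (Φ a b) ≠ 0 := (map_ne_zero σ).2 hab
    obtain ⟨t, ht⟩ : ∃ t, t = σ L / σ (Φ a b) := ⟨_, rfl⟩
    have ht0 : t ≠ 0 := ht ▸ div_ne_zero ((map_ne_zero σ).2 hL0) hσab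
    have h1 : Φ a (t • b) = L := by
      rw [smul_right hH, ht, map_div₀, hH.sigma_sigma, hH.sigma_sigma, div_mul_cancel₀ _ hab]
    have h2 : Φ (t • b) a = -L := by rw [herm hH a (t • b), h1, hLs]
    have hw : Φ (t • b - a) (t • b - a) = 0 := by
      rw [sub_left hH, sub_right hH, sub_right hH, h1, h2, ha, smul_left hH t b, smul_right hH t b b, hb]
      ring
    obtain ⟨h, hm, hact, hlin⟩ := exists_ktv C hw (c := L⁻¹) (by
      rw [map_inv₀, hLs, inv_neg, add_neg_cancel])
    refine ⟨h, hm, t, ht0, ?_, hlin⟩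
    rw [hact, sub_right hH, h1, ha, sub_zero, inv_mul_cancel₀ hL0, one_smul, add_sub_cancel]
  obtain ⟨c, hc, hac, hbc⟩ : ∃ c, Φ c c = 0 ∧ Φ a c ≠ 0 ∧ Φ b c ≠ 0 := by
    obtain ⟨a', ha', haa'⟩ := exists_partner C ha ha0
    obtain ⟨b', hb', hbb'⟩ := exists_partner C hb hb0
    by_cases h1 : Φ b a' = 0
    swap
    · exact ⟨a', ha', by rw [haa']; exact one_ne_zero, h1⟩
    by_cases h2 : Φ a b' = 0
    swap
    · exact ⟨b', hb', h2, by rw [hbb']; exact one_ne_zero⟩
    obtain ⟨s, hs0, hs⟩ : ∃ s : K, s ≠ 0 ∧ s * Φ a' b' + σ (s * Φ a' b') = 0 := by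
      rcases eq_or_ne (Φ a' b') 0 with h | h
      · exact ⟨1, one_ne_zero, by rw [h, mul_zero, map_zero, add_zero]⟩
      · exact ⟨L / Φ a' b', div_ne_zero hL0 h, by rw [div_mul_cancel₀ _ h, hLs, add_neg_cancel]⟩
    refine ⟨s • a' + b', ?_, ?_, ?_⟩
    · rw [add_left hH, add_right hH, add_right hH, smul_left hH, smul_left hH, smul_right hH, smul_right hH,
        ha', hb', herm hH a' b', ← map_mul]
      linear_combination hs
    · rw [add_right hH, smul_right hH, haa', h2, mul_one, add_zero]; exact (map_ne_zero σ).2 hs0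
    · rw [add_right hH, smul_right hH, h1, hbb', mul_zero, zero_add]; exact one_ne_zero
  obtain ⟨u, hu, t, ht, hua, hul⟩ := step ha hc hac
  obtain ⟨v, hv, t', ht', hvc, hvl⟩ := step hc hb fun h => hbc (eq_zero_symm hH h)
  exact ⟨v * u, M.mul_mem hv hu, t * t', mul_ne_zero ht ht', by rw [act_mul, hua, hvl, hvc, smul_smul],
    fun j x => by rw [act_mul, act_mul, hul, hvl]⟩

end Cfsg.Agent.MaxCl.UExt
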