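/-
An element with the largest intersection of the image of an isotropic line with a line gives translations along
an isotropic line; commutators with them give root elements supported on that line.
-/
import Cfsg.Agent.Lib.MaxCl.UnitaryExtLines

set_option autoImplicit false
set_option linter.unusedSectionVars false
set_option maxHeartbeats 1600000

namespace Cfsg.Agent.MaxCl.UExt

open scoped MatrixGroups Matrix
open Module (finrank)
open Cfsg.Agent.MaxCl.Unit (uiso mem_uiso)

variable {ι : Type} [Fintype ι] [DecidableEq ι] {F : Type*} [Field F]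
  {K : Type*} [Field K] [Algebra F K] [Module K (ι → F)] [IsScalarTower F K (ι → F)]
variable {τ : F ≃+* F} {f : (ι → F) → (ι → F) → F}
variable {σ : K ≃+* K} {Φ : (ι → F) → (ι → F) → K} {M : Subgroup (GL ι F)}

/-- `1 + N` is in `M` -/
def InM (M : Subgroup (GL ι F)) (N : (ι → F) →ₗ[F] (ι → F)) : Prop := ∃ h ∈ M, ∀ x, act h x = x + N x

/-- `x ↦ f (x, p) • q` -/
noncomputable def bmap (hU : Cfsg.Geo.IsUnitaryForm τ f) (p q : ι → F) : (ι → F) →ₗ[F] (ι → F) :=
  (Unit.flinU hU p).smulRight q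

theorem bmap_apply (hU : Cfsg.Geo.IsUnitaryForm τ f) (p q x : ι → F) : bmap hU p q x = f x p • q := rfl

/-- the elements `1 + N` of `M` with `N` onto `V` and zero on `V` -/
def inSub (M : Subgroup (GL ι F)) (V : Submodule F (ι → F)) : AddSubgroup ((ι → F) →ₗ[F] (ι → F)) where
  carrier := {N | InM M N ∧ (∀ x, N x ∈ V) ∧ ∀ v ∈ V, N v = 0}
  zero_mem' := ⟨⟨1, M.one_mem, fun x => by simp [act_one]⟩, fun x => V.zero_mem, fun v _ => rfl⟩
  add_mem' := by
    rintro N N' ⟨⟨h, hh, hx⟩, hr, hk⟩ ⟨⟨h', hh', hx'⟩, hr', hk'⟩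
    refine ⟨⟨h * h', M.mul_mem hh hh', fun x => ?_⟩, fun x => V.add_mem (hr x) (hr' x), fun v hv => by
      rw [LinearMap.add_apply, hk v hv, hk' v hv, add_zero]⟩
    rw [act_mul, hx', hx, map_add, hk _ (hr' x), add_zero, LinearMap.add_apply]
    abel
  neg_mem' := by
    rintro N ⟨⟨h, hh, hx⟩, hr, hk⟩
    refine ⟨⟨h⁻¹, M.inv_mem hh, fun x => act_injective h ?_⟩, fun x => V.neg_mem (hr x), fun v hv => by
      rw [LinearMap.neg_apply, hk v hv, neg_zero]⟩
    rw [act_act_inv, hx, LinearMap.neg_apply, map_add, map_neg, hk _ (hr x), neg_zero, add_zero]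
    abel

/-- the element `1 + N` for a group generated by `1 + N` -/
theorem mem_inSub {V : Submodule F (ι → F)} {N : (ι → F) →ₗ[F] (ι → F)} :
    N ∈ inSub M V ↔ InM M N ∧ (∀ x, N x ∈ V) ∧ ∀ v ∈ V, N v = 0 := Iff.rfl

/-- a proper non-zero subspace is stable under scalars only -/
theorem eq_top_of_stable [Module.Finite F K] (hr : (finrank F K).Prime) {P : Submodule F K} (hP : P ≠ ⊥) {θ : K}
    (hθ : ∀ c : F, algebraMap F K c ≠ θ) (h : ∀ x ∈ P, θ * x ∈ P) : P = ⊤ := by
  let Stab : Subalgebra F K :=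
    { carrier := {c | ∀ d ∈ P, c * d ∈ P}
      mul_mem' := fun {x y} hx hy d hd => by rw [mul_assoc]; exact hx _ (hy d hd)
      one_mem' := fun d hd => by rwa [one_mul]
      add_mem' := fun {x y} hx hy d hd => by rw [add_mul]; exact P.add_mem (hx d hd) (hy d hd)
      zero_mem' := fun d _ => by rw [zero_mul]; exact P.zero_mem
      algebraMap_mem' := fun c d hd => by rw [← Algebra.smul_def]; exact P.smul_mem c hd }
  have : IsSimpleOrder (Subalgebra F K) := Subalgebra.isSimpleOrder_of_finrank_prime F K hr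
  rcases IsSimpleOrder.eq_bot_or_eq_top Stab with hb | hb
  · obtain ⟨c, hc⟩ := Algebra.mem_bot.1 (hb ▸ (show θ ∈ Stab from h))
    exact absurd hc (hθ c)
  · obtain ⟨d, hd, hd0⟩ := Submodule.exists_mem_ne_zero_of_ne_bot hP
    refine eq_top_iff.2 fun c _ => ?_
    have := (hb ▸ Algebra.mem_top : c / d ∈ Stab) d hd
    rwa [div_mul_cancel₀ _ hd0] at this

variable [Finite F] [Module.Finite F K] (C : Ctx τ f σ Φ M)
include C

/-- a fixed element is zero when its traces against all but one basis vector and its trace vanish -/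
theorem eq_zero_of_traces {b b' : Fin (finrank F K) → K}
    (hrepr : ∀ y : K, ∑ i, Algebra.trace F K (y * b' i) • b i = y) {i₀ : Fin (finrank F K)}
    (hi₀ : Algebra.trace F K (b' i₀) ≠ 0) {z : K} (h : ∀ i, i ≠ i₀ → Algebra.trace F K (z * b i) = 0)
    (h1 : Algebra.trace F K z = 0) : z = 0 := by
  classical
  have h0 : Algebra.trace F K (z * b i₀) = 0 := by
    rw [← mul_one z, ← hrepr 1, Finset.mul_sum, map_sum, Finset.sum_eq_single i₀] at h1
    · rw [mul_smul_comm, map_smul, one_mul, smul_eq_mul, mul_eq_zero] at h1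
      exact h1.resolve_left hi₀
    · intro i _ hi
      rw [mul_smul_comm, map_smul, h i hi, smul_zero]
    · simp
  refine ext_trace (F := F) fun c => ?_
  rw [← hrepr c, Finset.sum_mul, map_sum, mul_zero, map_zero]
  refine Finset.sum_eq_zero fun i _ => ?_
  rw [smul_mul_assoc, map_smul, mul_comm (b i)]
  rcases eq_or_ne i i₀ with rfl | hi
  · rw [h0, smul_zero]
  · rw [h i hi, smul_zero]

/-- `ψ` has rank one when the skew multiples of its range are in `D` or meet it only trivially -/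
theorem rank_one (hr : finrank F K = 3 ∨ finrank F K = 5) {D : Submodule F K} {ψ : K →ₗ[F] K} {j₂ : K}
    (hj₂ : ψ j₂ ≠ 0) (hdim : finrank F D + finrank F (LinearMap.range ψ) = finrank F K) (hD0 : D ≠ ⊥)
    (horth : ∀ d ∈ D, Algebra.trace F K (d * σ (ψ j₂)) = 0)
    (hstar : ∀ s : K, s + σ s = 0 → ∀ w ∈ LinearMap.range ψ, w ≠ 0 → s * w ∈ D →
      ∀ w' ∈ LinearMap.range ψ, s * w' ∈ D) :
    finrank F (LinearMap.range ψ) ≤ 1 := by
  classical
  have hH := C.form
  have hprime : (finrank F K).Prime := by rcases hr with h | h <;> rw [h] <;> norm_num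
  set W := LinearMap.range ψ with hW
  set F₀ := fixF τ
  have : Finite K := Module.finite_of_finite F
  have : IsScalarTower F₀ F K := ⟨fun a c x => by
    show ((a : F) * c) • x = (a : F) • c • x
    rw [mul_smul]⟩
  have : Module.Finite F₀ K := Module.Finite.of_finite
  have : Module.Finite F₀ F := Module.Finite.of_finite
  have h2 : 2 ≤ finrank F₀ F := by
    by_contra h
    have hpos : 0 < finrank F₀ F := Module.finrank_pos
    obtain ⟨μ, hμ⟩ := exists_moved hH
    obtain ⟨c, hc⟩ := (finrank_eq_one_iff_of_nonzero' (1 : F) one_ne_zero).1 (show finrank F₀ F = 1 by omega) μ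
    apply hμ
    rw [← hc, show c • (1 : F) = (c : F) * 1 from rfl, mul_one]
    exact c.2
  have hreal : ∀ P : Submodule F K, 2 * finrank F P ≤ finrank F₀ P := fun P => by
    have : IsScalarTower F₀ F P := ⟨fun a c x => Subtype.ext (by
      show ((a : F) * c) • (x : K) = (a : F) • c • (x : K)
      rw [mul_smul])⟩
    rw [← Module.finrank_mul_finrank F₀ F P]
    exact Nat.mul_le_mul_right _ h2
  obtain ⟨b, b', hb, -, -, -, hrepr⟩ := exists_real_basis hH
  -- the coordinates of `σ d * x + d * σ x`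
  have hfix : ∀ (u x : K) i, τ (Algebra.trace F K ((u * σ x + σ u * x) * b i)) =
      Algebra.trace F K ((u * σ x + σ u * x) * b i) := fun u x i => by
    rw [← trace_sigma hH, map_mul σ, hb, map_add σ, map_mul σ, map_mul σ, hH.sigma_sigma, hH.sigma_sigma, add_comm]
  let rl : ∀ P : Submodule F K, K → P →ₗ[F₀] (Fin (finrank F K) → F₀) := fun P u =>
    { toFun := fun x i => (⟨Algebra.trace F K ((u * σ x + σ u * x) * b i), hfix u x i⟩ : F₀)
      map_add' := fun x y => funext fun i => Subtype.ext (by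
        simp only [Submodule.coe_add, Pi.add_apply, Subfield.coe_add, map_add, mul_add, add_mul]; ring)
      map_smul' := fun c x => funext fun i => Subtype.ext (by
        show _ = (c : F) * _
        simp only [show ((c • x : P) : K) = (c : F) • (x : K) from rfl, Algebra.smul_def, map_mul,
          hH.sigma_alg, show τ (c : F) = c from c.2]
        rw [show ∀ y : F, (c : F) * y = (c : F) • y from fun y => rfl, ← map_smul, Algebra.smul_def]
        congr 1; ring) }
  have hrl : ∀ (P : Submodule F K) (u : K) (x : P), rl P u x = 0 →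
      ∀ i, Algebra.trace F K ((u * σ x + σ u * x) * b i) = 0 := fun P u x h i =>
    congrArg Subtype.val (congrFun h i)
  have hskew : ∀ d w : K, w ≠ 0 → d * σ w + σ d * w = 0 → d / w + σ (d / w) = 0 := fun d w hw h => by
    have hσw : σ w ≠ 0 := (map_ne_zero σ).2 hw
    rw [map_div₀, div_add_div _ _ hw hσw, mul_comm w (σ d), h, zero_div]
  have hm : 2 * finrank F W ≤ finrank F K := by
    by_contra h
    push Not at h
    obtain ⟨d, hd, hd0⟩ := Submodule.exists_mem_ne_zero_of_ne_bot hD0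
    obtain ⟨w, hw, hw0⟩ : ∃ w ∈ LinearMap.ker (rl W d), w ≠ 0 := Submodule.exists_mem_ne_zero_of_ne_bot fun h0 => by
      have h1 := LinearMap.finrank_range_add_finrank_ker (rl W d)
      have h3 := Submodule.finrank_le (LinearMap.range (rl W d))
      rw [Module.finrank_fin_fun] at h3
      rw [h0, finrank_bot] at h1
      have := hreal W
      omega
    have hw0' : (w : K) ≠ 0 := fun h' => hw0 (Subtype.ext h')
    have hz : d * σ w + σ d * w = 0 := ext_trace (F := F) fun c => by
      rw [← hrepr c, Finset.sum_mul, map_sum, mul_zero, map_zero]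
      refine Finset.sum_eq_zero fun i _ => ?_
      rw [smul_mul_assoc, map_smul, mul_comm (b i), hrl W d w (LinearMap.mem_ker.1 hw) i, smul_zero]
    have hall := hstar _ (hskew d w hw0' hz) w w.2 hw0' (by rwa [div_mul_cancel₀ _ hw0'])
    have hs0 : d / (w : K) ≠ 0 := div_ne_zero hd0 hw0'
    have hle : finrank F W ≤ finrank F D := by
      rw [(Submodule.equivMapOfInjective (LinearMap.mulLeft F (d / (w : K)))
        (mul_right_injective₀ hs0) W).finrank_eq]
      exact Submodule.finrank_mono (by rintro _ ⟨x, hx, rfl⟩; exact hall x hx)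
    omega
  by_contra hgt
  push Not at hgt
  obtain ⟨hr5, hW2⟩ : finrank F K = 5 ∧ finrank F W = 2 := by
    rcases hr with h | h <;> constructor <;> omega
  obtain ⟨i₀, hi₀⟩ : ∃ i, Algebra.trace F K (b' i) ≠ 0 := by
    by_contra h
    push Not at h
    refine one_ne_zero (α := K) ((hrepr 1).symm.trans (Finset.sum_eq_zero fun i _ => ?_))
    rw [one_mul, h, zero_smul]
  let w := ψ j₂
  have hwW : w ∈ W := LinearMap.mem_range_self ψ j₂
  let ρ : D →ₗ[F₀] ({i // i ≠ i₀} → F₀) :=
    { toFun := fun d i => (⟨Algebra.trace F K ((w * σ d + σ w * d) * b i), hfix w d i⟩ : F₀)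
      map_add' := fun x y => funext fun i => congrFun ((rl D w).map_add x y) i
      map_smul' := fun c x => funext fun i => congrFun ((rl D w).map_smul c x) i }
  have hρ : ∀ d : D, ρ d = 0 → (d : K) * σ w + σ (d : K) * w = 0 := fun d h => by
    rw [show (d : K) * σ w + σ (d : K) * w = w * σ d + σ w * d by ring]
    refine eq_zero_of_traces C hrepr hi₀ (fun i hi => congrArg Subtype.val (congrFun h ⟨i, hi⟩)) ?_
    rw [map_add, mul_comm (σ w), horth d d.2, add_zero, ← hH.sigma_sigma w, ← map_mul, trace_sigma hH,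
      mul_comm, horth d d.2, map_zero]
  have hker : 2 ≤ finrank F₀ (LinearMap.ker ρ) := by
    have h1 := LinearMap.finrank_range_add_finrank_ker ρ
    have h3 := Submodule.finrank_le (LinearMap.range ρ)
    rw [Module.finrank_pi, Fintype.card_subtype_compl, Fintype.card_fin, Fintype.card_subtype_eq] at h3
    have := hreal D
    omega
  obtain ⟨d₀, hd₀, hd₀0⟩ := Submodule.exists_mem_ne_zero_of_ne_bot (p := LinearMap.ker ρ) fun h => by
    rw [h, finrank_bot] at hker; omega
  obtain ⟨d₁, hd₁, hd₁n⟩ := SetLike.not_le_iff_exists.1 (show ¬ LinearMap.ker ρ ≤ F₀ ∙ d₀ by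
    intro h
    have := Submodule.finrank_mono h
    rw [finrank_span_singleton hd₀0] at this
    omega)
  have hd₀0' : (d₀ : K) ≠ 0 := fun h => hd₀0 (Subtype.ext h)
  set s := (d₀ : K) / w with hs
  set t := (d₁ : K) / w with ht
  have hss := hskew _ _ hj₂ (hρ d₀ (LinearMap.mem_ker.1 hd₀))
  have hts := hskew _ _ hj₂ (hρ d₁ (LinearMap.mem_ker.1 hd₁))
  have hs0 : s ≠ 0 := div_ne_zero hd₀0' hj₂
  have hsW := hstar s hss w hwW hj₂ (by rw [hs, div_mul_cancel₀ _ hj₂]; exact d₀.2)
  have htW := hstar t hts w hwW hj₂ (by rw [ht, div_mul_cancel₀ _ hj₂]; exact d₁.2)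
  set θ := t / s with hθdef
  have hθs : σ θ = θ := by
    rw [hθdef, map_div₀, eq_neg_of_add_eq_zero_right hss, eq_neg_of_add_eq_zero_right hts, neg_div_neg_eq]
  have hθ : ∀ c : F, algebraMap F K c ≠ θ := by
    intro c hc
    have hcs : τ c = c := (algebraMap F K).injective (by rw [← hH.sigma_alg, hc, hθs])
    refine hd₁n (Submodule.mem_span_singleton.2 ⟨⟨c, hcs⟩, Subtype.ext ?_⟩)
    show c • (d₀ : K) = (d₁ : K)
    rw [Algebra.smul_def, hc, hθdef, ht, hs, div_div_div_cancel_right₀ hj₂, div_mul_cancel₀ _ hd₀0']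
  have hθ0 : θ ≠ 0 := fun h => hθ 0 (by rw [map_zero, h])
  have hst : ∀ x, t * x = s * (θ * x) := fun x => by rw [← mul_assoc, hθdef, mul_div_cancel₀ _ hs0]
  set X := W.map (LinearMap.mulLeft F s) with hX
  set Y := W.map (LinearMap.mulLeft F t) with hY
  have ht0 : t ≠ 0 := fun h => hθ0 (by rw [hθdef, h, zero_div])
  have hXd : finrank F X = 2 := by
    rw [hX, ← (Submodule.equivMapOfInjective _ (mul_right_injective₀ hs0) W).finrank_eq, hW2]
  have hYd : finrank F Y = 2 := by
    rw [hY, ← (Submodule.equivMapOfInjective _ (mul_right_injective₀ ht0) W).finrank_eq, hW2]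
  have hXD : X ≤ D := by rintro _ ⟨x, hx, rfl⟩; exact hsW x hx
  have hYD : Y ≤ D := by rintro _ ⟨x, hx, rfl⟩; exact htW x hx
  have hne : X ≠ Y := by
    intro h
    have hst' : ∀ x ∈ W, θ * x ∈ W := fun x hx => by
      obtain ⟨x', hx', he⟩ := (h ▸ ⟨x, hx, rfl⟩ : t * x ∈ X)
      rw [LinearMap.mulLeft_apply, hst] at he
      exact mul_left_cancel₀ hs0 he ▸ hx'
    have := eq_top_of_stable hprime (fun h0 => by rw [h0, finrank_bot] at hW2; omega) hθ hst'
    rw [this, finrank_top] at hW2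
    omega
  have hsup : X ⊔ Y = D := by
    refine Submodule.eq_of_le_of_finrank_le (sup_le hXD hYD) ?_
    by_contra h
    have hle : Y ≤ X := fun y hy => by
      have e : X = X ⊔ Y := Submodule.eq_of_le_of_finrank_le le_sup_left (by omega)
      rw [e]; exact Submodule.mem_sup_right hy
    exact hne (Submodule.eq_of_le_of_finrank_le hle (by omega)).symm
  obtain ⟨z, hz, hz0⟩ := Submodule.exists_mem_ne_zero_of_ne_bot (p := X ⊓ Y) fun h => by
    have h1 := Submodule.finrank_sup_add_finrank_inf_eq X Y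
    rw [h, finrank_bot, hsup] at h1
    omega
  obtain ⟨⟨w₂, hw₂, rfl⟩, ⟨w₁, hw₁, he⟩⟩ := hz
  simp only [LinearMap.mulLeft_apply] at he hz0
  have hw₁0 : w₁ ≠ 0 := fun h => hz0 (by rw [← he, h, mul_zero])
  have hw₂e : w₂ = θ * w₁ := (mul_left_cancel₀ hs0 (by rw [← hst, he])).symm
  have hs' := hstar (θ * θ * s) (by
    rw [map_mul, map_mul, hθs, eq_neg_of_add_eq_zero_right hss]; ring) w₁ hw₁ hw₁0 (by
    rw [show θ * θ * s * w₁ = θ * s * w₂ by rw [hw₂e]; ring,
      show θ * s = t by rw [hθdef, div_mul_cancel₀ _ hs0]]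
    exact htW w₂ hw₂)
  have hDst : ∀ x ∈ D, θ * x ∈ D := by
    rw [← hsup]
    intro x hx
    obtain ⟨_, ⟨p, hp, rfl⟩, _, ⟨r, hr', rfl⟩, rfl⟩ := Submodule.mem_sup.1 hx
    rw [hsup, mul_add]
    refine D.add_mem ?_ ?_
    · rw [LinearMap.mulLeft_apply, show θ * (s * p) = t * p by rw [hst]; ring]
      exact htW p hp
    · rw [LinearMap.mulLeft_apply, show θ * (t * r) = θ * θ * s * r by rw [hst]; ring]
      exact hs' r hr'
  have := eq_top_of_stable hprime hD0 hθ hDst
  rw [this, finrank_top] at hdim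
  omega

omit C in
/-- `δ` is in the image of the line and is a translation of it -/
def Trans (M : Subgroup (GL ι F)) (L : K →ₗ[F] (ι → F)) (l : K →ₗ[F] F) (δ : ι → F) : Prop :=
  (∃ i, L i = δ) ∧ ∃ u ∈ M, ∀ j, act u (L j) = L j + l j • δ

/-- translations along an isotropic line -/
theorem exists_config (hr : finrank F K = 3 ∨ finrank F K = 5) {g₀ : GL ι F} (hg₀ : g₀ ∈ M)
    (hns : ¬ ExtF.IsSemi K g₀) :
    ∃ g ∈ M, ∃ (a₀ : ι → F) (l : K →ₗ[F] F) (j₁ : K), Φ a₀ a₀ = 0 ∧ a₀ ≠ 0 ∧
      Φ (act g a₀) (act g a₀) = 0 ∧ l j₁ = 1 ∧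
      ((∃ z : K, z ≠ 0 ∧ ∀ t : K, σ t = t → Algebra.trace F K t = 0 →
          Trans M (act g ∘ₗ (LinearMap.toSpanSingleton K (ι → F) a₀).restrictScalars F) l
            (t • z • act g a₀)) ∨
        (3 ≤ finrank K (ι → F) ∧ ∀ c : F,
          Trans M (act g ∘ₗ (LinearMap.toSpanSingleton K (ι → F) a₀).restrictScalars F) l
            (c • act g a₀))) := by
  classical
  have hH := C.form
  have : Finite K := Module.finite_of_finite F
  have hprime : (finrank F K).Prime := by rcases hr with h | h <;> rw [h] <;> norm_num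
  let S : Set ℕ := {n | ∃ g ∈ M, ∃ (a₀ : ι → F) (k : K), Φ a₀ a₀ = 0 ∧
    Φ (act g a₀) (act g a₀) = 0 ∧ act g (k • a₀) ∉ (K ∙ act g a₀) ∧ finrank F (ExtF.lineD K g a₀) = n}
  obtain ⟨n₀, hn₀⟩ : ∃ n, n ∈ S := by
    obtain ⟨a, ha0, ha, k, hk⟩ := exists_nonline C hns
    obtain ⟨j, hj, hja⟩ := exists_iso_in_image C hg₀ ha
    have hga : act g₀ a ≠ 0 := fun h => ha0 (act_injective g₀ (by rw [h, map_zero]))
    obtain ⟨k', hk'⟩ : ∃ k', act g₀ (k' • j • a) ∉ (K ∙ act g₀ (j • a)) := by
      by_contra hall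
      push Not at hall
      have h1 := hall j⁻¹
      rw [inv_smul_smul₀ hj] at h1
      obtain ⟨s, hs⟩ := Submodule.mem_span_singleton.1 h1
      have h2 := hall (k * j⁻¹)
      rw [mul_smul, inv_smul_smul₀ hj] at h2
      obtain ⟨s', hs'⟩ := Submodule.mem_span_singleton.1 h2
      have hs0 : s ≠ 0 := by rintro rfl; rw [zero_smul] at hs; exact hga hs.symm
      refine hk (Submodule.mem_span_singleton.2 ⟨s' / s, ?_⟩)
      rw [← hs, smul_smul, div_mul_cancel₀ _ hs0, hs']
    exact ⟨_, g₀, hg₀, j • a, k', by rw [smul_left hH, smul_right hH, ha, mul_zero, mul_zero], hja, hk', rfl⟩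
  have hbound : ∀ n ∈ S, n ≤ finrank F K := by
    rintro n ⟨g, -, a, k, -, -, -, rfl⟩
    exact Submodule.finrank_le _
  obtain ⟨g, hg, a₀, k₁, ha₀, haa, hk₁, hfin⟩ : Nat.findGreatest (· ∈ S) (finrank F K) ∈ S :=
    Nat.findGreatest_spec (hbound n₀ hn₀) hn₀
  have hmax : ∀ n ∈ S, n ≤ finrank F (ExtF.lineD K g a₀) := fun n hn => by
    rw [hfin]; exact Nat.le_findGreatest (hbound n hn) hn
  have ha₀0 : a₀ ≠ 0 := by rintro rfl; simp at hk₁
  set D := ExtF.lineD K g a₀ with hD
  set a := act g a₀ with hadef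
  have hane : a ≠ 0 := fun h => ha₀0 (act_injective g (by rw [← hadef, h, map_zero]))
  have h1D : (1 : K) ∈ D := (ExtF.mem_lineD g a₀ 1).2 ⟨1, by rw [one_smul, one_smul]⟩
  have hD0 : D ≠ ⊥ := fun h => one_ne_zero ((Submodule.mem_bot F).1 (h ▸ h1D))
  obtain ⟨L, hLdef⟩ : ∃ L : K →ₗ[F] (ι → F),
      L = act g ∘ₗ (LinearMap.toSpanSingleton K (ι → F) a₀).restrictScalars F := ⟨_, rfl⟩
  have hLa : ∀ j, L j = act g (j • a₀) := fun j => by rw [hLdef]; rfl
  have hL : Function.Injective L := fun x y h => smul_left_injective K ha₀0 (act_injective g (by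
    rw [hLa, hLa] at h; exact h))
  have hLL : ∀ i j, f (L i) (L j) = 0 := fun i j => by rw [hLa, hLa, iso C hg, f_eq_zero hH ha₀]
  let A₀ : Submodule F K := ((K ∙ a).restrictScalars F).comap L
  have hmemD : ∀ d : K, d ∈ D → ∃ i, L i = d • a := fun d hd => by
    obtain ⟨i, hi⟩ := (ExtF.mem_lineD g a₀ d).1 hd
    exact ⟨i, by rw [hLa, hi]⟩
  have hDA : finrank F D = finrank F A₀ := by
    rw [(Submodule.equivMapOfInjective L hL A₀).finrank_eq,
      (Submodule.equivMapOfInjective ((LinearMap.toSpanSingleton K (ι → F) a).restrictScalars F)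
        (smul_left_injective K hane) D).finrank_eq]
    refine congrArg (fun P : Submodule F (ι → F) => finrank F P) ?_
    ext x
    constructor
    · rintro ⟨d, hd, rfl⟩
      obtain ⟨i, hi⟩ := hmemD d hd
      exact ⟨i, Submodule.mem_span_singleton.2 ⟨d, hi.symm⟩, hi⟩
    · rintro ⟨i, hi, rfl⟩
      obtain ⟨d, hd⟩ := Submodule.mem_span_singleton.1 (show L i ∈ (K ∙ a) from hi)
      exact ⟨d, (ExtF.mem_lineD g a₀ d).2 ⟨i, by rw [← hLa, hd]⟩, hd⟩
  have hA₀ : finrank F A₀ < finrank F K := Submodule.finrank_lt fun h =>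
    hk₁ (by rw [← hLa]; exact (show k₁ ∈ A₀ from h ▸ Submodule.mem_top))
  -- no translation enlarges the intersection
  have dicho : ∀ u ∈ M, (∀ (k : K) x, act u (k • x) = k • act u x) → act u a = a → ∀ c : K →ₗ[F] K,
      (∀ j, act u (L j) = L j + c j • a) → (∃ j, c j ∉ D) → ∀ j, c j ∈ D → j ∈ A₀ := by
    intro u hu hul hua c hc hex j hj
    obtain ⟨j₀, hj₀⟩ := hex
    set g' := g⁻¹ * u * g with hg'
    have hg'a : act g' a₀ = a₀ := by rw [hg', act_mul, act_mul, ← hadef, hua, hadef, act_inv_act]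
    have hg'L : ∀ j i, c j • a = L i → act g' (j • a₀) = (j + i) • a₀ := fun j i hi => by
      rw [hg', act_mul, act_mul, ← hLa, hc, hi, ← map_add, hLa, act_inv_act]
    have hmove : act g' (j₀ • a₀) ∉ (K ∙ act g' a₀) := by
      rw [hg'a]
      intro h
      obtain ⟨i, hi⟩ := Submodule.mem_span_singleton.1 h
      apply hj₀
      refine (ExtF.mem_lineD g a₀ _).2 ⟨i - j₀, ?_⟩
      have h2 := congrArg (act g) hi
      rw [hg', act_mul, act_mul, act_act_inv, ← hLa, ← hLa, hc] at h2
      rw [← hLa, map_sub, h2, add_sub_cancel_left]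
    have hle : finrank F (D.comap c) ≤ finrank F D := by
      refine le_trans ?_ (hmax _ ⟨g', M.mul_mem (M.mul_mem (M.inv_mem hg) hu) hg, a₀, j₀, ha₀,
        by rw [hg'a]; exact ha₀, hmove, rfl⟩)
      let T : K →ₗ[F] (ι → F) := act g' ∘ₗ (LinearMap.toSpanSingleton K (ι → F) a₀).restrictScalars F
      have hT : Function.Injective T := fun x y h => smul_left_injective K ha₀0 (act_injective _ h)
      rw [(Submodule.equivMapOfInjective T hT _).finrank_eq,
        (Submodule.equivMapOfInjective ((LinearMap.toSpanSingleton K (ι → F) a₀).restrictScalars F)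
          (smul_left_injective K ha₀0) (ExtF.lineD K g' a₀)).finrank_eq]
      refine Submodule.finrank_mono ?_
      rintro _ ⟨i, hi, rfl⟩
      obtain ⟨i', hi'⟩ := hmemD (c i) hi
      refine ⟨i + i', (ExtF.mem_lineD _ _ _).2 ⟨i, ?_⟩, ?_⟩
      · rw [hg'a, hg'L i i' hi'.symm]
      · show (i + i') • a₀ = act g' (i • a₀)
        rw [hg'L i i' hi'.symm]
    have hsub : A₀ ≤ D.comap c := by
      intro i hi
      obtain ⟨d, hd⟩ := Submodule.mem_span_singleton.1 (show L i ∈ (K ∙ a) from hi)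
      have h1 := hc i
      rw [← hd, hul, hua, left_eq_add, smul_eq_zero, or_iff_left hane] at h1
      show c i ∈ D
      rw [h1]; exact D.zero_mem
    exact (Submodule.eq_of_le_of_finrank_le hsub (hle.trans hDA.le)) ▸ hj
  obtain ⟨sk, hsk0, hsk⟩ := exists_skew hH
  have hskK : algebraMap F K sk + σ (algebraMap F K sk) = 0 := by
    rw [hH.sigma_alg, ← map_add, hsk, map_zero]
  have hskK0 : algebraMap F K sk ≠ 0 := (map_ne_zero _).2 hsk0
  -- the factorisation of a rank one map
  have factor : ∀ ψ : K →ₗ[F] K, ∀ j₁, ψ j₁ ≠ 0 → finrank F (LinearMap.range ψ) ≤ 1 →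
      ∃ l : K →ₗ[F] F, l j₁ = 1 ∧ ∀ j, ψ j = l j • ψ j₁ := by
    intro ψ j₁ hj₁ hle
    have hspan : (F ∙ ψ j₁) = LinearMap.range ψ := Submodule.eq_of_le_of_finrank_le
      ((Submodule.span_singleton_le_iff_mem _ _).2 (LinearMap.mem_range_self ψ j₁))
      (by rw [finrank_span_singleton hj₁]; exact hle)
    have hex : ∀ j, ∃ t : F, t • ψ j₁ = ψ j := fun j =>
      Submodule.mem_span_singleton.1 (hspan ▸ LinearMap.mem_range_self ψ j)
    choose t ht using hex
    have hinj : Function.Injective fun s : F => s • ψ j₁ := smul_left_injective F hj₁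
    exact ⟨{ toFun := t
             map_add' := fun x y => hinj (by simp only [add_smul, ht, map_add])
             map_smul' := fun c x => hinj (by
              simp only [RingHom.id_apply, smul_eq_mul, mul_smul, ht, map_smul]) },
      hinj (by show t j₁ • ψ j₁ = (1 : F) • ψ j₁; rw [one_smul, ht]), fun j => (ht j).symm⟩
  by_cases hA : ∃ j, Φ (L j) a ≠ 0
  · -- transvections at `a`
    let ψ : K →ₗ[F] K := (phiL hH a).restrictScalars F ∘ₗ L
    have hψ : ∀ j, ψ j = Φ (L j) a := fun j => rfl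
    obtain ⟨j₁, hj₁⟩ := hA
    rw [← hψ] at hj₁
    have htr : ∀ s, s + σ s = 0 → ∃ u ∈ M, (∀ (k : K) x, act u (k • x) = k • act u x) ∧ act u a = a ∧
        ∀ j, act u (L j) = L j + (s * ψ j) • a := fun s hs => by
      obtain ⟨u, hu, hux, hul⟩ := exists_ktv C haa hs
      exact ⟨u, hu, hul, by rw [hux, haa, mul_zero, zero_smul, add_zero], fun j => by rw [hux, hψ]⟩
    have hstar : ∀ s, s + σ s = 0 → ∀ i, s * ψ i ∈ D → i ∉ A₀ → ∀ j, s * ψ j ∈ D := by
      intro s hs i hi hiA j
      by_contra hj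
      obtain ⟨u, hu, hul, hua, hux⟩ := htr s hs
      exact hiA (dicho u hu hul hua (LinearMap.mulLeft F s ∘ₗ ψ) (fun j => hux j) ⟨j, hj⟩ i hi)
    have hkerA : LinearMap.ker ψ = A₀ := by
      refine le_antisymm (fun i hi => ?_) fun i hi => ?_
      · by_contra hiA
        have hall : ∀ s, s + σ s = 0 → s * ψ j₁ ∈ D := fun s hs =>
          hstar s hs i (by rw [LinearMap.mem_ker.1 hi, mul_zero]; exact D.zero_mem) hiA j₁
        obtain ⟨μ, hμ⟩ := exists_moved hH
        have htop : D = ⊤ := eq_top_iff.2 fun x _ => by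
          obtain ⟨A, B, hA, hB, he⟩ := exists_dec hH (x / ψ j₁ / algebraMap F K sk) hμ
          have hx : x = algebraMap F K sk * A * ψ j₁ + μ • (algebraMap F K sk * B * ψ j₁) := by
            rw [← smul_mul_assoc, ← add_mul, ← mul_smul_comm, ← mul_add, ← he, mul_div_cancel₀ _ hskK0,
              div_mul_cancel₀ _ hj₁]
          have hreal : ∀ y : K, σ y = y → algebraMap F K sk * y + σ (algebraMap F K sk * y) = 0 :=
            fun y hy => by rw [map_mul, hy, ← add_mul, hskK, zero_mul]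
          rw [hx]
          exact D.add_mem (hall _ (hreal A hA)) (D.smul_mem _ (hall _ (hreal B hB)))
        rw [htop, finrank_top] at hDA
        omega
      · obtain ⟨d, hd⟩ := Submodule.mem_span_singleton.1 (show L i ∈ (K ∙ a) from hi)
        rw [LinearMap.mem_ker, hψ, ← hd, smul_left hH, haa, mul_zero]
    have hdim : finrank F D + finrank F (LinearMap.range ψ) = finrank F K := by
      rw [hDA, ← hkerA, add_comm]
      exact LinearMap.finrank_range_add_finrank_ker ψ
    have horth : ∀ i, ∀ d ∈ D, Algebra.trace F K (d * σ (ψ i)) = 0 := fun i d hd => by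
      obtain ⟨i', hi'⟩ := hmemD d hd
      rw [hψ, sigma_phi hH, hH.trace, ← hi', hLL]
    have h1 := rank_one C hr hj₁ hdim hD0 (horth j₁) fun s hs w hw hw0 hsw w' hw' => by
      obtain ⟨i, rfl⟩ := hw
      obtain ⟨i', rfl⟩ := hw'
      exact hstar s hs i hsw (fun hi => hw0 (LinearMap.mem_ker.1 (hkerA ▸ hi))) i'
    obtain ⟨l, hl1, hl⟩ := factor ψ j₁ hj₁ h1
    have hN : σ (ψ j₁) ≠ 0 := (map_ne_zero σ).2 hj₁
    refine ⟨g, hg, a₀, l, j₁, ha₀, ha₀0, haa, hl1, Or.inl ⟨algebraMap F K sk / σ (ψ j₁),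
      div_ne_zero hskK0 hN, fun t ht htt => ?_⟩⟩
    set e := t * (algebraMap F K sk / σ (ψ j₁)) with he
    set s := e / ψ j₁ with hs
    have hes : e * σ (ψ j₁) = algebraMap F K sk * t := by
      rw [he, mul_assoc, div_mul_cancel₀ _ hN, mul_comm]
    have hss : s + σ s = 0 := by
      have h2 : s * (ψ j₁ * σ (ψ j₁)) = algebraMap F K sk * t := by
        rw [hs, ← mul_assoc, div_mul_cancel₀ _ hj₁, hes]
      have h3 := congrArg σ h2
      rw [map_mul, map_mul, map_mul, hH.sigma_sigma, ht, eq_neg_of_add_eq_zero_right hskK] at h3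
      refine mul_right_cancel₀ (mul_ne_zero hj₁ hN) ?_
      rw [zero_mul]; linear_combination h2 + h3
    have heD : e ∈ D := by
      -- `D` is the orthogonal of the range
      let φ : K →ₗ[F] F := Algebra.trace F K ∘ₗ LinearMap.mulRight F (σ (ψ j₁))
      have hle : D ≤ LinearMap.ker φ := fun d hd => horth j₁ d hd
      have hφ : φ ≠ 0 := fun h0 => hN (ext_trace (F := F) fun c => by
        rw [mul_zero, map_zero]; exact LinearMap.congr_fun h0 c)
      have hk : finrank F (LinearMap.ker φ) + 1 ≤ finrank F K := Nat.succ_le_of_lt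
        (Submodule.finrank_lt fun h => hφ (LinearMap.ker_eq_top.1 h))
      have hW : finrank F (LinearMap.range ψ) ≤ 1 := h1
      rw [Submodule.eq_of_le_of_finrank_le hle (by omega)]
      show Algebra.trace F K (e * σ (ψ j₁)) = 0
      rw [hes, ← Algebra.smul_def, map_smul, htt, smul_zero]
    obtain ⟨u, hu, -, -, hux⟩ := htr s hss
    rw [show t • (algebraMap F K sk / σ (ψ j₁)) • a = e • a by rw [he, mul_smul]]
    rw [← hLdef]
    refine ⟨hmemD e heD, u, hu, fun j => ?_⟩
    rw [hux, hl j, mul_smul_comm, hs, div_mul_cancel₀ _ hj₁, smul_assoc]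
  · -- Siegel elements at `a`
    push Not at hA
    obtain ⟨b, hb, hab⟩ := exists_partner C haa hane
    have hw₁a : Φ (L k₁) a = 0 := hA k₁
    set w₁ := L k₁ with hw₁
    have hne : w₁ - Φ w₁ b • a ≠ 0 := fun h =>
      hk₁ (Submodule.mem_span_singleton.2 ⟨_, by rw [← hLa, ← hw₁]; exact (sub_eq_zero.1 h).symm⟩)
    obtain ⟨y, hy⟩ := exists_phi_ne hH hne 1
    obtain ⟨v, hv⟩ : ∃ v, v = y - Φ y a • b := ⟨_, rfl⟩
    have hba : Φ b a = 1 := by rw [herm hH a b, hab, map_one]
    have hva : Φ v a = 0 := by rw [hv, sub_left hH, smul_left hH, hba, mul_one, sub_self]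
    have hwv : Φ w₁ v ≠ 0 := by
      have hbw : Φ b (w₁ - Φ w₁ b • a) = 0 := by
        rw [sub_right hH, smul_right hH, hba, mul_one, herm hH w₁ b, sub_self]
      have h2 : Φ v (w₁ - Φ w₁ b • a) = 1 := by rw [hv, sub_left hH, smul_left hH, hy, hbw, mul_zero, sub_zero]
      rw [sub_right hH, smul_right hH, hva, mul_zero, sub_zero] at h2
      intro h
      rw [eq_zero_symm hH h] at h2
      exact zero_ne_one h2
    have h3 : 3 ≤ finrank K (ι → F) := by
      by_contra h
      have hli : LinearIndependent K ![a, b] := by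
        rw [LinearIndependent.pair_iff]
        intro p r hpr
        have h1 := congrArg (fun x => Φ x a) hpr
        have h2 := congrArg (fun x => Φ x b) hpr
        simp only [add_left hH, smul_left hH, haa, hba, hab, hb, zero_left hH, mul_zero, mul_one, zero_add,
          add_zero] at h1 h2
        exact ⟨h2, h1⟩
      have htop : Submodule.span K (Set.range ![a, b]) = ⊤ := Submodule.eq_top_of_finrank_eq (by
        rw [finrank_span_eq_card hli, Fintype.card_fin]; have := C.two_le; omega)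
      obtain ⟨p, r, hpr⟩ := Submodule.mem_span_pair.1
        (show w₁ ∈ Submodule.span K {a, b} by
          rw [← Matrix.range_cons_cons_empty a b ![], htop]; trivial)
      have h1 := hw₁a
      rw [← hpr, add_left hH, smul_left hH, smul_left hH, haa, hba, mul_zero, zero_add, mul_one] at h1
      refine hk₁ (Submodule.mem_span_singleton.2 ⟨p, ?_⟩)
      rw [← hLa, ← hw₁, ← hpr, h1, zero_smul, add_zero]
    let ψ : K →ₗ[F] K := (phiL hH v).restrictScalars F ∘ₗ L
    have hψ : ∀ j, ψ j = Φ (L j) v := fun j => rfl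
    have htr : ∀ k, ∃ u ∈ M, (∀ (j : K) x, act u (j • x) = j • act u x) ∧ act u a = a ∧
        ∀ j, act u (L j) = L j + (k * ψ j) • a := fun k => by
      obtain ⟨e, u, hu, hul, hux⟩ := exists_cross C haa hva k
      refine ⟨u, hu, hul, ?_, fun j => ?_⟩
      · rw [hux, eq_zero_symm hH hva, haa]
        simp
      · rw [hux, hA, hψ]
        simp
    have hstar : ∀ k i, k * ψ i ∈ D → i ∉ A₀ → ∀ j, k * ψ j ∈ D := by
      intro k i hi hiA j
      by_contra hj
      obtain ⟨u, hu, hul, hua, hux⟩ := htr k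
      exact hiA (dicho u hu hul hua (LinearMap.mulLeft F k ∘ₗ ψ) (fun j => hux j) ⟨j, hj⟩ i hi)
    have hk₁A : k₁ ∉ A₀ := fun h => hk₁ (by rw [← hLa]; exact h)
    have hline : ∀ j, ψ j ∈ (F ∙ ψ k₁) := by
      intro j
      by_contra hno
      have hθ : ∀ c : F, algebraMap F K c ≠ ψ j / ψ k₁ := fun c hc => hno (Submodule.mem_span_singleton.2
        ⟨c, by rw [Algebra.smul_def, hc, div_mul_cancel₀ _ (show ψ k₁ ≠ 0 from hwv)]⟩)
      have htop := eq_top_of_stable hprime hD0 hθ fun d hd => by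
        have := hstar (d / ψ k₁) k₁ (by rw [div_mul_cancel₀ _ (show ψ k₁ ≠ 0 from hwv)]; exact hd) hk₁A j
        rwa [div_mul_eq_mul_div, mul_comm d, mul_div_right_comm] at this
      rw [htop, finrank_top] at hDA
      omega
    obtain ⟨l, hl1, hl⟩ := factor ψ k₁ hwv (by
      have hle : LinearMap.range ψ ≤ (F ∙ ψ k₁) := by rintro _ ⟨j, rfl⟩; exact hline j
      have := Submodule.finrank_mono hle
      rwa [finrank_span_singleton (show ψ k₁ ≠ 0 from hwv)] at this)
    refine ⟨g, hg, a₀, l, k₁, ha₀, ha₀0, haa, hl1, Or.inr ⟨h3, fun c => ?_⟩⟩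
    obtain ⟨i, hi⟩ := hmemD (c • 1) (D.smul_mem c h1D)
    obtain ⟨u, hu, -, -, hux⟩ := htr ((c • 1) / ψ k₁)
    rw [smul_assoc, one_smul] at hi
    rw [← hLdef]
    refine ⟨⟨i, hi⟩, u, hu, fun j => ?_⟩
    rw [hux, hl j, mul_smul_comm, div_mul_cancel₀ _ (show ψ k₁ ≠ 0 from hwv), smul_assoc, smul_assoc, one_smul]

/-- commutators of translations and transvections of the image -/
theorem exists_line (hr : finrank F K = 3 ∨ finrank F K = 5) {g₀ : GL ι F} (hg₀ : g₀ ∈ M)
    (hns : ¬ ExtF.IsSemi K g₀) {s : F} (hs : s + τ s = 0) :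
    ∃ a : ι → F, Φ a a = 0 ∧ a ≠ 0 ∧
      ((∀ t t' : K, σ t = t → Algebra.trace F K t = 0 → σ t' = t' → Algebra.trace F K t' = 0 →
          InM M (s • (bmap C.form.unit (t • a) (t' • a) + bmap C.form.unit (t' • a) (t • a)))) ∨
        (3 ≤ finrank K (ι → F) ∧ ∀ c c' : F,
          InM M (s • (bmap C.form.unit (c • a) (c' • a) + bmap C.form.unit (c' • a) (c • a))))) := by
  have hH := C.form
  have hU := hH.unit
  obtain ⟨g, hg, a₀, l, j₁, ha₀, ha₀0, haa, hl1, hcase⟩ := exists_config C hr hg₀ hns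
  obtain ⟨L, hLdef⟩ : ∃ L : K →ₗ[F] (ι → F),
      L = act g ∘ₗ (LinearMap.toSpanSingleton K (ι → F) a₀).restrictScalars F := ⟨_, rfl⟩
  have hLa : ∀ j, L j = act g (j • a₀) := fun j => by rw [hLdef]; rfl
  rw [← hLdef] at hcase
  have hLL : ∀ i j, f (L i) (L j) = 0 := fun i j => by rw [hLa, hLa, iso C hg, f_eq_zero hH ha₀]
  obtain ⟨w, hw⟩ := exists_trace_repr l
  set c₁ := σ w with hc₁
  have hc₁0 : c₁ ≠ 0 := by
    intro h
    rw [hc₁, map_eq_zero] at h
    rw [hw, h, mul_zero, map_zero] at hl1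
    exact zero_ne_one hl1
  -- the coefficient of the transvection
  obtain ⟨ν, hν⟩ := Unit.exists_trace_one hU.involutive hU.ne_refl
  obtain ⟨z, hz⟩ := Algebra.trace_surjective F K ν
  set N := c₁ * w with hN
  have hN0 : N ≠ 0 := mul_ne_zero hc₁0 (fun h => hc₁0 (by rw [hc₁, h, map_zero]))
  have hNs : σ N = N := by rw [hN, hc₁, map_mul, hH.sigma_sigma, mul_comm]
  set A := z / N + σ (z / N) with hA
  set k := algebraMap F K s * A with hk
  have hσk : σ k = -k := by
    rw [hk, map_mul, hA, map_add, hH.sigma_sigma, hH.sigma_alg, eq_neg_of_add_eq_zero_right hs, map_neg, neg_mul,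
      add_comm]
  have hlk : l (k * c₁) = s := by
    rw [hw, mul_assoc, ← hN, hk, mul_assoc, ← Algebra.smul_def, map_smul, hA, add_mul, map_add,
      div_mul_cancel₀ _ hN0, hz, map_div₀, hNs, div_mul_cancel₀ _ hN0, trace_sigma hH, hz, hν, smul_eq_mul,
      mul_one]
  obtain ⟨p, hp, hpx, -⟩ := exists_ktv C ha₀ (c := k) (by rw [hσk, add_neg_cancel])
  set η : (ι → F) → K := fun x => Φ (act g⁻¹ x) a₀ with hη
  have hηf : ∀ c x, Algebra.trace F K (c * η x) = f x (L (σ c)) := fun c x => by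
    rw [hη, hH.trace, hH.adj, hLa, ← iso C hg, act_act_inv]
  set y := L (k * c₁) with hy
  have hly : ∀ x, l (k * η x) = -f x y := fun x => by
    rw [hw, mul_right_comm, hηf, map_mul, ← hc₁, hσk, neg_mul, map_neg, ← hy, ← neg_one_smul F y,
      Unit.smul_right hU, map_neg, map_one, neg_one_mul]
  set P := g * p * g⁻¹ with hP
  have hPM : P ∈ M := M.mul_mem (M.mul_mem hg hp) (M.inv_mem hg)
  have hPx : ∀ x, act P x = x + L (k * η x) := fun x => by
    rw [hP, act_mul, act_mul, hpx, map_add, act_act_inv, hLa]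
  have hηL : ∀ j, η (L j) = 0 := fun j => by
    rw [hη, hLa]; simp only [act_inv_act]; rw [smul_left hH, ha₀, mul_zero]
  have hηadd : ∀ x x', η (x + x') = η x + η x' := fun x x' => by simp only [hη, map_add, add_left hH]
  have hPinv : ∀ x, act P⁻¹ x = x - L (k * η x) := fun x => act_injective P (by
    rw [act_act_inv, hPx]
    have : η (x - L (k * η x)) = η x := by
      rw [sub_eq_add_neg, hηadd, ← map_neg, hηL, add_zero]
    rw [this, sub_add_cancel])
  let V := LinearMap.range L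
  let X : (ι → F) → ((ι → F) →ₗ[F] (ι → F)) := fun δ => bmap hU δ y - bmap hU y δ + s • bmap hU δ δ
  have hX : ∀ δ, Trans M L l δ → X δ ∈ inSub M V := by
    rintro _ ⟨⟨i, rfl⟩, u, hu, hux⟩
    refine ⟨⟨u * P * u⁻¹ * P⁻¹, M.mul_mem (M.mul_mem (M.mul_mem hu hPM) (M.inv_mem hu)) (M.inv_mem hPM),
      fun x => ?_⟩, fun x => ?_, ?_⟩
    · have hηu : ∀ x, η (act u⁻¹ x) = η x + f x (L i) • c₁ := fun x => by
        refine ext_trace (F := F) fun c => ?_
        rw [mul_add, map_add, hηf, hηf, mul_smul_comm, map_smul, ← iso C hu, act_act_inv, hux,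
          Unit.add_right hU, Unit.smul_right hU, hw, smul_eq_mul, ← trace_sigma hH, map_mul, hH.sigma_sigma,
          ← hc₁, mul_comm (Algebra.trace F K _)]
      have h1 : η (x - L (k * η x)) = η x := by rw [sub_eq_add_neg, hηadd, ← map_neg, hηL, add_zero]
      have h2 : f (x - L (k * η x)) (L i) = f x (L i) := by rw [Unit.sub_left hU, hLL, sub_zero]
      rw [act_mul, act_mul, act_mul, hPinv, hPx, map_add, act_act_inv, hηu, h1, h2, hux, mul_add, mul_smul_comm]
      simp only [map_add, map_smul, hlk, hly, X, LinearMap.add_apply, LinearMap.sub_apply, LinearMap.smul_apply,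
        bmap_apply, ← hy, smul_eq_mul]
      module
    · simp only [X, LinearMap.add_apply, LinearMap.sub_apply, LinearMap.smul_apply, bmap_apply]
      exact V.add_mem (V.sub_mem (V.smul_mem _ ⟨_, rfl⟩) (V.smul_mem _ ⟨_, rfl⟩))
        (V.smul_mem _ (V.smul_mem _ ⟨_, rfl⟩))
    · rintro _ ⟨j, rfl⟩
      simp only [X, LinearMap.add_apply, LinearMap.sub_apply, LinearMap.smul_apply, bmap_apply, hy, hLL,
        zero_smul, smul_zero, sub_zero, add_zero]
  have hpairs : ∀ δ δ', Trans M L l δ → Trans M L l δ' → Trans M L l (δ + δ') →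
      InM M (s • (bmap hU δ δ' + bmap hU δ' δ)) := by
    intro δ δ' h h' h''
    have h1 := (inSub M V).sub_mem ((inSub M V).sub_mem (hX _ h'') (hX _ h)) (hX _ h')
    have e : X (δ + δ') - X δ - X δ' = s • (bmap hU δ δ' + bmap hU δ' δ) := by
      refine LinearMap.ext fun x => ?_
      simp only [X, LinearMap.add_apply, LinearMap.sub_apply, LinearMap.smul_apply, bmap_apply,
        Unit.add_right hU, add_smul, smul_add]
      abel
    exact (e ▸ h1).1
  have hga : act g a₀ ≠ 0 := fun h => ha₀0 (act_injective g (by rw [h, map_zero]))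
  rcases hcase with ⟨z', hz', hT⟩ | ⟨h3, hT⟩
  · refine ⟨z' • act g a₀, by rw [smul_left hH, smul_right hH, haa, mul_zero, mul_zero], smul_ne_zero hz' hga,
      Or.inl fun t t' ht htt ht' htt' => hpairs _ _ (hT t ht htt) (hT t' ht' htt') ?_⟩
    rw [← add_smul]
    exact hT _ (by rw [map_add, ht, ht']) (by rw [map_add, htt, htt', add_zero])
  · refine ⟨act g a₀, haa, hga, Or.inr ⟨h3, fun c c' => hpairs _ _ (hT c) (hT c') ?_⟩⟩
    rw [← add_smul]
    exact hT _

end Cfsg.Agent.MaxCl.UExt
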