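/-
From root elements supported on one isotropic line over the extension field to all unitary root groups.
-/
import Cfsg.Agent.Lib.MaxCl.UnitaryExtConfig

set_option autoImplicit false
set_option linter.unusedSectionVars false
set_option maxHeartbeats 1600000

namespace Cfsg.Agent.MaxCl.UExt

open scoped MatrixGroups Matrix
open Module (finrank)
open Cfsg.Agent.MaxCl.Unit (uiso mem_uiso RootIn)

variable {ι : Type} [Fintype ι] [DecidableEq ι] {F : Type*} [Field F]
  {K : Type*} [Field K] [Algebra F K] [Module K (ι → F)] [IsScalarTower F K (ι → F)]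
variable {τ : F ≃+* F} {f : (ι → F) → (ι → F) → F}
variable {σ : K ≃+* K} {Φ : (ι → F) → (ι → F) → K} {M : Subgroup (GL ι F)}

/-- the scalars realised by tori -/
def InP (τ : F ≃+* F) (ι : Type) (β : K) [Module K (ι → F)] : Prop :=
  β ≠ 0 ∧ (Algebra.norm F β = τ (Algebra.norm F β) ∨ 3 ≤ finrank K (ι → F))

variable [Finite F] [Module.Finite F K] (C : Ctx τ f σ Φ M)
include C

theorem exists_torus_line {a : ι → F} (ha : Φ a a = 0) (ha0 : a ≠ 0) {β : K} (hβ : InP τ ι β) :
    ∃ h ∈ M, ∀ x : K, act h (x • a) = (β * x) • a := by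
  obtain ⟨b, hb, hab⟩ := exists_partner C ha ha0
  obtain ⟨h, hh, hl, hha, -⟩ := exists_torus C ha hb hab hβ.1 hβ.2
  exact ⟨h, hh, fun x => by rw [hl, hha, smul_smul, mul_comm]⟩

/-- the product of two root elements on one line, as a function of the two scalars -/
noncomputable def tmap (hU : Cfsg.Geo.IsUnitaryForm τ f) (a : ι → F) (x y : K) :
    (ι → F) →ₗ[F] (ι → F) :=
  bmap hU (x • a) (y • a) - bmap hU (y • a) (x • a)

omit C in
theorem tmap_swap (hU : Cfsg.Geo.IsUnitaryForm τ f) (a : ι → F) (x y : K) :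
    tmap hU a y x = -tmap hU a x y := (neg_sub _ _).symm

omit C in
theorem tmap_add_left (hU : Cfsg.Geo.IsUnitaryForm τ f) (a : ι → F) (x x' y : K) :
    tmap hU a (x + x') y = tmap hU a x y + tmap hU a x' y := LinearMap.ext fun z => by
  simp only [tmap, LinearMap.add_apply, LinearMap.sub_apply, bmap_apply, add_smul, Unit.add_right hU, smul_add]
  abel

omit C in
theorem tmap_add_right (hU : Cfsg.Geo.IsUnitaryForm τ f) (a : ι → F) (x y y' : K) :
    tmap hU a x (y + y') = tmap hU a x y + tmap hU a x y' := LinearMap.ext fun z => by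
  simp only [tmap, LinearMap.add_apply, LinearMap.sub_apply, bmap_apply, add_smul, Unit.add_right hU, smul_add]
  abel

omit C in
theorem tmap_smul_right (hU : Cfsg.Geo.IsUnitaryForm τ f) (a : ι → F) (c : F) (x y : K) :
    tmap hU a x (c • y) = tmap hU a (τ c • x) y := LinearMap.ext fun z => by
  simp only [tmap, LinearMap.sub_apply, bmap_apply, smul_assoc, Unit.smul_right hU, hU.involutive, smul_smul,
    mul_comm]

omit C in
theorem tmap_self_smul (hU : Cfsg.Geo.IsUnitaryForm τ f) (a : ι → F) (c : F) (x : K) :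
    tmap hU a x (c • x) = (c - τ c) • bmap hU (x • a) (x • a) := LinearMap.ext fun z => by
  simp only [tmap, LinearMap.sub_apply, bmap_apply, smul_assoc, Unit.smul_right hU, LinearMap.smul_apply,
    smul_smul, ← sub_smul]
  ring_nf

omit C in
theorem tmap_skew (hU : Cfsg.Geo.IsUnitaryForm τ f) (a : ι → F) {s : F} (hs : s + τ s = 0) (x y : K) :
    tmap hU a x (s • y) = s • (bmap hU (x • a) (y • a) + bmap hU (y • a) (x • a)) := LinearMap.ext fun z => by
  simp only [tmap, LinearMap.sub_apply, LinearMap.add_apply, bmap_apply, smul_assoc, Unit.smul_right hU,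
    LinearMap.smul_apply, smul_smul, smul_add, eq_neg_of_add_eq_zero_right hs, neg_mul, neg_smul, sub_neg_eq_add,
    mul_comm]

theorem rootIn_of_inM {s : F} (hs0 : s ≠ 0) (hs : s + τ s = 0) {z : ι → F} (hz : f z z = 0)
    (h : ∀ ρ : F, InM M (s • bmap C.form.unit (ρ • z) (ρ • z))) : RootIn C.form.unit M z := by
  have hU := C.form.unit
  refine ⟨hz, fun c hc => ?_⟩
  have : Fintype F := Fintype.ofFinite F
  obtain ⟨ρ, hρ⟩ := Unit.exists_norm hU.involutive hU.ne_refl (c / s) (by
    rw [map_div₀, eq_neg_of_add_eq_zero_right hc, eq_neg_of_add_eq_zero_right hs, neg_div_neg_eq])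
  obtain ⟨u, hu, hux⟩ := h ρ
  have : Unit.utv hU z c = u := gl_ext fun x => by
    rw [Unit.act_utv hU hz, hux, LinearMap.smul_apply, bmap_apply, Unit.smul_right hU, smul_smul, smul_smul]
    congr 2
    rw [eq_div_iff hs0] at hρ
    linear_combination (-(f x z)) * hρ
  exact this ▸ hu

/-- the root groups of a line with translations -/
theorem rootIn_line {a : ι → F} (ha : Φ a a = 0) (ha0 : a ≠ 0) {s : F} (hs0 : s ≠ 0) (hs : s + τ s = 0)
    (hr : 3 ≤ finrank F K) (hprime : (finrank F K).Prime)
    (hp : ∃ p : K, InP τ ι p ∧ ∀ (c : F) (A : K), σ A = A → p ≠ c • A)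
    (hcase : ∀ t t' : K, σ t = t → Algebra.trace F K t = 0 → σ t' = t' → Algebra.trace F K t' = 0 →
      InM M (s • (bmap C.form.unit (t • a) (t' • a) + bmap C.form.unit (t' • a) (t • a)))) :
    ∀ x : K, RootIn C.form.unit M (x • a) := by
  classical
  have hH := C.form
  have hU := hH.unit
  set V := (K ∙ a).restrictScalars F with hV
  set E := inSub M V with hE
  have hVmem : ∀ v ∈ V, ∃ j : K, j • a = v := fun v hv => Submodule.mem_span_singleton.1 hv
  have hmemV : ∀ j : K, j • a ∈ V := fun j => Submodule.mem_span_singleton.2 ⟨j, rfl⟩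
  have hkill : ∀ x y : K, f (x • a) (y • a) = 0 := fun x y => f_eq_zero hH ha x y
  have hbr : ∀ (x y : K) z, bmap hU (x • a) (y • a) z ∈ V := fun x y z => V.smul_mem _ (hmemV y)
  have hbk : ∀ (x y : K), ∀ v ∈ V, bmap hU (x • a) (y • a) v = 0 := fun x y v hv => by
    obtain ⟨j, rfl⟩ := hVmem v hv
    rw [bmap_apply, hkill, zero_smul]
  have htin : ∀ x y, InM M (tmap hU a x y) → tmap hU a x y ∈ E := fun x y h => ⟨h,
    fun z => V.sub_mem (hbr x y z) (hbr y x z), fun v hv => by
      rw [tmap, LinearMap.sub_apply, hbk x y v hv, hbk y x v hv, sub_zero]⟩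
  -- the classes
  let T : K → K → ((ι → F) →ₗ[F] (ι → F)) ⧸ E := fun x y => QuotientAddGroup.mk (tmap hU a x y)
  have hT0 : ∀ {x y}, T x y = 0 ↔ tmap hU a x y ∈ E := fun {x y} => QuotientAddGroup.eq_zero_iff _
  have haddl : ∀ x x' y, T (x + x') y = T x y + T x' y := fun x x' y => by
    simp only [T, tmap_add_left, QuotientAddGroup.mk_add]
  have hswap : ∀ x y, T y x = -T x y := fun x y => by
    simp only [T]; rw [tmap_swap, QuotientAddGroup.mk_neg]
  have haddr : ∀ x y y', T x (y + y') = T x y + T x y' := fun x y y' => by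
    simp only [T, tmap_add_right, QuotientAddGroup.mk_add]
  have hsmr : ∀ (c : F) x y, T x (c • y) = T (τ c • x) y := fun c x y => by
    simp only [T, tmap_smul_right]
  have htorus : ∀ {β x y}, InP τ ι β → T x y = 0 → T (β * x) (β * y) = 0 := by
    intro β x y hβ h
    obtain ⟨u, hu, hua⟩ := exists_torus_line C ha ha0 hβ
    obtain ⟨⟨g, hg, hgx⟩, -, -⟩ := hT0.1 h
    refine hT0.2 (htin _ _ ⟨u * g * u⁻¹, M.mul_mem (M.mul_mem hu hg) (M.inv_mem hu), fun z => ?_⟩)
    have hf : ∀ j : K, f (act u⁻¹ z) (j • a) = f z ((β * j) • a) := fun j => by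
      rw [← iso C hu, act_act_inv, hua]
    rw [act_mul, act_mul, hgx, map_add, act_act_inv]
    simp only [tmap, LinearMap.sub_apply, bmap_apply, map_sub, map_smul, hua, hf]
  -- real scalars
  have hreal : ∀ k : K, σ k = k → k ≠ 0 → InP τ ι k := fun k hk hk0 =>
    ⟨hk0, Or.inl (by rw [← norm_sigma hH, hk])⟩
  have hS : algebraMap F K s + σ (algebraMap F K s) = 0 := by rw [hH.sigma_alg, ← map_add, hs, map_zero]
  have hR : ∀ u v : K, σ u = u → σ v = v → T u (s • v) = 0 := by
    intro u v hu hv
    let φ : K →ₗ[F] F × F :=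
      (Algebra.trace F K ∘ₗ LinearMap.mulLeft F u).prod (Algebra.trace F K ∘ₗ LinearMap.mulLeft F v)
    obtain ⟨z, hz, hz0⟩ := Submodule.exists_mem_ne_zero_of_ne_bot (p := LinearMap.ker φ) fun h => by
      have h1 := LinearMap.finrank_range_add_finrank_ker φ
      have h2 := Submodule.finrank_le (LinearMap.range φ)
      rw [h, finrank_bot] at h1
      rw [Module.finrank_prod, Module.finrank_self] at h2
      omega
    obtain ⟨hzu, hzv⟩ : Algebra.trace F K (u * z) = 0 ∧ Algebra.trace F K (v * z) = 0 := by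
      have := LinearMap.mem_ker.1 hz
      simpa [φ, Prod.ext_iff] using this
    have hzσ : ∀ w, σ w = w → Algebra.trace F K (w * z) = 0 → Algebra.trace F K (w * σ z) = 0 :=
      fun w hw h => by rw [← hw, ← map_mul, trace_sigma hH, h, map_zero]
    obtain ⟨k, hk0, hk, hku, hkv⟩ : ∃ k : K, k ≠ 0 ∧ σ k = k ∧ Algebra.trace F K (k * u) = 0 ∧
        Algebra.trace F K (k * v) = 0 := by
      by_cases h : z + σ z = 0
      · refine ⟨s • z, smul_ne_zero hs0 hz0, ?_, ?_, ?_⟩
        · rw [Algebra.smul_def, map_mul, eq_neg_of_add_eq_zero_right hS, eq_neg_of_add_eq_zero_right h, neg_mul_neg]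
        · rw [smul_mul_assoc, map_smul, mul_comm, hzu, smul_zero]
        · rw [smul_mul_assoc, map_smul, mul_comm, hzv, smul_zero]
      · refine ⟨z + σ z, h, by rw [map_add, hH.sigma_sigma, add_comm], ?_, ?_⟩
        · rw [add_mul, map_add, mul_comm, hzu, mul_comm, hzσ u hu hzu, add_zero]
        · rw [add_mul, map_add, mul_comm, hzv, mul_comm, hzσ v hv hzv, add_zero]
    have h0 : T (k * u) (s • (k * v)) = 0 := by
      refine hT0.2 (htin _ _ ?_)
      rw [tmap_skew hU a hs]
      exact hcase _ _ (by rw [map_mul, hk, hu]) hku (by rw [map_mul, hk, hv]) hkv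
    have h1 := htorus (hreal k⁻¹ (by rw [map_inv₀, hk]) (inv_ne_zero hk0)) h0
    rwa [inv_mul_cancel_left₀ hk0, mul_smul_comm, inv_mul_cancel_left₀ hk0] at h1
  -- a scalar outside the fixed field
  obtain ⟨p, hpP, hp⟩ := hp
  obtain ⟨ν, hν⟩ := exists_moved hH
  obtain ⟨A, B, hA, hB, hpd⟩ := exists_dec hH p hν
  have hA0 : A ≠ 0 := fun h => hp ν B hB (by rw [hpd, h, zero_add])
  set θ := B / A with hθdef
  have hθs : σ θ = θ := by rw [hθdef, map_div₀, hA, hB]
  have hθ : ∀ c : F, algebraMap F K c ≠ θ := fun c hc => hp (1 + ν * c) A hA (by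
    rw [hpd, add_smul, one_smul, mul_smul, Algebra.smul_def c, hc, hθdef, div_mul_cancel₀ _ hA0])
  have hτfix : ∀ {c : F}, τ c = c → ∀ {u : K}, σ u = u → σ (c • u) = c • u := fun {c} hc {u} hu => by
    rw [Algebra.smul_def, map_mul, hH.sigma_alg, hc, hu]
  have hmain : ∀ u v : K, σ u = u → σ v = v → T u ((s * ν) • (θ * v)) = T (θ * u) ((s * ν) • v) := by
    intro u' v' hu' hv'
    set u := u' / A with hu
    set v := v' / A with hv
    have hAu : A * u = u' := mul_div_cancel₀ _ hA0
    have hAv : A * v = v' := mul_div_cancel₀ _ hA0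
    have hBu : B * u = θ * u' := by rw [hθdef, hu, div_mul_eq_mul_div, mul_div_assoc]
    have hBv : B * v = θ * v' := by rw [hθdef, hv, div_mul_eq_mul_div, mul_div_assoc]
    have huσ : σ u = u := by rw [hu, map_div₀, hu', hA]
    have hvσ : σ v = v := by rw [hv, map_div₀, hv', hA]
    have hθu : σ (θ * u') = θ * u' := by rw [map_mul, hθs, hu']
    have hθv : σ (θ * v') = θ * v' := by rw [map_mul, hθs, hv']
    have h0 := htorus hpP (hR u v huσ hvσ)
    rw [hpd, add_mul, add_mul, mul_smul_comm s, mul_smul_comm s, smul_mul_assoc, smul_mul_assoc, hAu, hAv, hBu,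
      hBv, haddl, haddr, haddr, smul_smul, hR _ _ hu' hv', zero_add] at h0
    have e1 : T (ν • (θ * u')) ((s * ν) • (θ * v')) = 0 := by
      rw [← hU.involutive ν, ← hsmr, hU.involutive, smul_smul, show τ ν * (s * ν) = s * (τ ν * ν) by ring,
        mul_smul]
      exact hR _ _ hθu (hτfix (by rw [map_mul, hU.involutive, mul_comm]) hθv)
    have e2 : T (ν • (θ * u')) (s • v') = -T (θ * u') ((s * ν) • v') := by
      rw [eq_neg_iff_add_eq_zero, ← hU.involutive ν, ← hsmr, hU.involutive, smul_smul, ← haddr, ← add_smul,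
        mul_comm (τ ν), ← mul_add, mul_smul]
      exact hR _ _ hθu (hτfix (by rw [map_add, hU.involutive, add_comm]) hv')
    rwa [e1, add_zero, e2, ← sub_eq_add_neg, sub_eq_zero] at h0
  have hall : ∀ (c : F) (u v : K), σ u = u → σ v = v → T u (c • (θ * v)) = T (θ * u) (c • v) := by
    intro c u v hu hv
    obtain ⟨α, β, hα, hβ, hc⟩ : ∃ α β : F, τ α = α ∧ τ β = β ∧ c = s * α + s * ν * β := by
      have hd : ν - τ ν ≠ 0 := sub_ne_zero.2 (Ne.symm hν)
      have hd' : τ ν - ν ≠ 0 := sub_ne_zero.2 hν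
      refine ⟨c / s - ν * ((c / s - τ (c / s)) / (ν - τ ν)), (c / s - τ (c / s)) / (ν - τ ν), ?_, ?_, ?_⟩
      · simp only [map_sub, map_mul, map_div₀, hU.involutive, eq_neg_of_add_eq_zero_right hs, map_neg]
        field_simp
        ring
      · simp only [map_sub, map_div₀, hU.involutive]
        rw [← neg_div_neg_eq, neg_sub, neg_sub]
      · field_simp
        ring
    have hθu : σ (θ * u) = θ * u := by rw [map_mul, hθs, hu]
    rw [hc, add_smul, add_smul, haddr, haddr, mul_smul s α, mul_smul s α, hR _ _ hu (hτfix hα (by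
      rw [map_mul, hθs, hv])), hR _ _ hθu (hτfix hα hv), mul_smul (s * ν) β, mul_smul (s * ν) β,
      ← mul_smul_comm, hmain u (β • v) hu (hτfix hβ hv)]
  have hstab : ∀ x y, T (θ * x) y = T x (θ * y) := by
    intro x y
    obtain ⟨x₀, x₁, hx₀, hx₁, rfl⟩ := exists_dec hH x hν
    obtain ⟨y₀, y₁, hy₀, hy₁, rfl⟩ := exists_dec hH y hν
    have h1 : ∀ u v, σ u = u → σ v = v → T (θ * u) v = T u (θ * v) := fun u v hu hv => by
      have := (hall 1 u v hu hv).symm
      rwa [one_smul, one_smul] at this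
    have hsm : ∀ x y, T (ν • x) y = T x (τ ν • y) := fun x y => by rw [hsmr, hU.involutive]
    simp only [mul_add, mul_smul_comm, haddl, haddr, hsm, smul_smul]
    rw [h1 _ _ hx₀ hy₀, hall _ _ _ hx₀ hy₁, hall _ _ _ hx₁ hy₀, hall _ _ _ hx₁ hy₁]
  let Stab : Subalgebra F K :=
    { carrier := {k | ∀ x y, T (k * x) y = T x (σ k * y)}
      mul_mem' := fun {k k'} hk hk' x y => by
        rw [mul_assoc, hk, hk', map_mul, mul_left_comm, ← mul_assoc]
      one_mem' := fun x y => by rw [one_mul, map_one, one_mul]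
      add_mem' := fun {k k'} hk hk' x y => by rw [add_mul, haddl, hk, hk', map_add, add_mul, haddr]
      zero_mem' := fun x y => by
        have h0 : T 0 y = 0 := add_eq_left.1 (by rw [← haddl 0 0 y, add_zero])
        have h0' : T x 0 = 0 := add_eq_left.1 (by rw [← haddr x 0 0, add_zero])
        rw [zero_mul, map_zero, zero_mul, h0, h0']
      algebraMap_mem' := fun c x y => by
        rw [← Algebra.smul_def, hH.sigma_alg, ← Algebra.smul_def, hsmr, hU.involutive] }
  have htop : ∀ k : K, k ∈ Stab := by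
    have : IsSimpleOrder (Subalgebra F K) := Subalgebra.isSimpleOrder_of_finrank_prime F K hprime
    rcases IsSimpleOrder.eq_bot_or_eq_top Stab with hb | hb
    · obtain ⟨c, hc⟩ := Algebra.mem_bot.1 (hb ▸ (show θ ∈ Stab from fun x y => by rw [hθs]; exact hstab x y))
      exact absurd hc (hθ c)
    · exact fun k => hb ▸ Algebra.mem_top
  have hell : ∀ x y, T x y = T 1 (σ x * y) := fun x y => by
    have := htop x 1 y
    rwa [mul_one] at this
  -- the functional vanishes
  obtain ⟨μ, hμ⟩ := Unit.exists_trace_one hU.involutive hU.ne_refl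
  set ν₁ := s * μ with hν₁def
  have hν₁ : ν₁ - τ ν₁ = s := by
    rw [hν₁def, map_mul, eq_neg_of_add_eq_zero_right hs]
    linear_combination s * hμ
  have hτν₁ : τ ν₁ = ν₁ - s := by linear_combination -hν₁
  have hdouble : ∀ u : K, σ u = u → T 1 (ν₁ • u) + T 1 (ν₁ • u) = 0 := by
    intro u hu
    have h1 : T (ν₁ • u) 1 = T 1 (τ ν₁ • u) := by
      rw [hell, mul_one, Algebra.smul_def, map_mul, hH.sigma_alg, hu, ← Algebra.smul_def]
    have h2 : T 1 ((ν₁ - s) • u) + T 1 (s • u) = T 1 (ν₁ • u) := by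
      rw [← haddr, ← add_smul, sub_add_cancel]
    rw [hR _ _ (map_one σ) hu, add_zero] at h2
    rw [hτν₁, h2, hswap] at h1
    nth_rw 1 [← h1]
    exact neg_add_cancel _
  have hzero : ∀ u : K, σ u = u → T 1 (ν₁ • u) = 0 := by
    intro u hu
    by_cases h2 : (2 : K) = 0
    swap
    · have h := hdouble (u / 2) (by rw [map_div₀, hu, map_ofNat])
      rwa [← haddr, ← smul_add, ← mul_two, div_mul_cancel₀ _ h2] at h
    -- characteristic two
    have h2F : (2 : F) = 0 := (algebraMap F K).injective (by rw [map_ofNat, map_zero, h2])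
    have : CharP F 2 := CharTwo.of_one_ne_zero_of_two_eq_zero one_ne_zero h2F
    have : CharP K 2 := CharTwo.of_one_ne_zero_of_two_eq_zero one_ne_zero h2
    have : Finite K := Module.finite_of_finite F
    have : Fintype K := Fintype.ofFinite K
    obtain ⟨y, hy⟩ := FiniteField.isSquare_of_char_two (F := K) (by rw [ringChar.eq K 2]) u
    obtain ⟨b, b', hb, hb', -, hrepr', hrepr⟩ := exists_real_basis hH
    have hSu : algebraMap F K s * u + σ (algebraMap F K s * u) = 0 := by
      rw [map_mul, hu, ← add_mul, hS, zero_mul]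
    obtain ⟨h, hh, hhx, -⟩ := exists_ktv C ha hSu
    set H : (ι → F) →ₗ[F] (ι → F) := (LinearMap.toSpanSingleton K (ι → F) a).restrictScalars F ∘ₗ
      (((algebraMap F K s * u) • phiL hH a).restrictScalars F) with hHdef
    have hHx : ∀ z, H z = (algebraMap F K s * u * Φ z a) • a := fun z => rfl
    have hHE : H ∈ E := ⟨⟨h, hh, fun z => by rw [hhx, hHx]⟩, fun z => hmemV _, fun v hv => by
      obtain ⟨j, rfl⟩ := hVmem v hv
      rw [hHx, smul_left hH, ha, mul_zero, mul_zero, zero_smul]⟩
    obtain ⟨m, hm⟩ : ∃ m : Fin (finrank F K) → Fin (finrank F K) → F,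
        m = fun i j => Algebra.trace F K (u * b i * b j) := ⟨_, rfl⟩
    let G : Fin (finrank F K) → Fin (finrank F K) → ((ι → F) →ₗ[F] (ι → F)) := fun i j =>
      m i j • s • bmap hU (b' i • a) (b' j • a)
    have hsum : H = ∑ i, ∑ j, G i j := LinearMap.ext fun z => by
      have hc : ∀ i, Algebra.trace F K (Φ z a * b' i) = f z (b' i • a) := fun i => by
        rw [mul_comm, hH.trace, hH.adj, hb']
      rw [hHx]
      conv_lhs => rw [← hrepr (Φ z a), Finset.mul_sum, Finset.sum_smul]
      simp only [G, LinearMap.sum_apply, LinearMap.smul_apply, bmap_apply]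
      refine Finset.sum_congr rfl fun i _ => ?_
      rw [hc, mul_smul_comm, smul_assoc, mul_assoc, ← Algebra.smul_def, smul_assoc]
      conv_lhs => rw [← hrepr' (u * b i), Finset.sum_smul, Finset.smul_sum, Finset.smul_sum]
      refine Finset.sum_congr rfl fun j _ => ?_
      rw [hm, smul_assoc, smul_smul, smul_smul, smul_smul, smul_smul]
      congr 1
      ring
    have hfix : ∀ i j, τ (m i j) = m i j := fun i j => by
      rw [hm]; dsimp only
      rw [← trace_sigma hH, map_mul σ, map_mul σ, hu, hb, hb]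
    have hsym : ∀ i j, m i j = m j i := fun i j => by rw [hm]; dsimp only; rw [mul_right_comm]
    let g : Fin (finrank F K) × Fin (finrank F K) → ((ι → F) →ₗ[F] (ι → F)) ⧸ E := fun q =>
      if q.1 = q.2 then 0 else QuotientAddGroup.mk (G q.1 q.2)
    have hinv : ∑ q, g q = 0 := by
      refine Finset.sum_involution (fun q _ => q.swap) (fun q _ => ?_) (fun q _ hq => ?_)
        (fun q _ => Finset.mem_univ _) (fun q _ => Prod.swap_swap q)
      · obtain ⟨i, j⟩ := q
        simp only [g, Prod.swap]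
        by_cases hij : i = j
        · simp [hij]
        rw [if_neg hij, if_neg (Ne.symm hij), ← QuotientAddGroup.mk_add]
        have hG : G i j + G j i = tmap hU a (b' i) (s • (m i j • b' j)) := by
          rw [tmap_skew hU a hs]
          simp only [G, hsym j i, ← smul_add]
          rw [smul_comm, smul_assoc]
          congr 1
          refine LinearMap.ext fun z => ?_
          simp only [LinearMap.smul_apply, LinearMap.add_apply, bmap_apply, Unit.smul_right hU, hfix i j,
            smul_add, smul_smul, mul_comm]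
        rw [hG]
        exact hR _ _ (hb' i) (hτfix (hfix i j) (hb' j))
      · intro hsw
        obtain ⟨i, j⟩ := q
        simp only [Prod.swap, Prod.mk.injEq] at hsw
        exact hq (if_pos hsw.2)
    have hdiag : ∀ i, QuotientAddGroup.mk (G i i) = T 1 (ν₁ • (m i i • (b' i * b' i))) := by
      intro i
      have hG : G i i = tmap hU a (b' i) ((ν₁ * m i i) • b' i) := by
        rw [tmap_self_smul, map_mul, hfix, ← sub_mul, hν₁]
        simp only [G, smul_smul, mul_comm]
      rw [hG]
      show T _ _ = _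
      rw [hell, hb', mul_smul_comm, mul_smul]
    have hsplit : (QuotientAddGroup.mk H : ((ι → F) →ₗ[F] (ι → F)) ⧸ E) =
        ∑ i, T 1 (ν₁ • (m i i • (b' i * b' i))) + ∑ q, g q := by
      rw [hsum, ← QuotientAddGroup.mk'_apply, map_sum, Fintype.sum_prod_type, ← Finset.sum_add_distrib]
      refine Finset.sum_congr rfl fun i _ => ?_
      rw [map_sum, ← Finset.add_sum_erase _ _ (Finset.mem_univ i),
        ← Finset.add_sum_erase _ (fun j => g (i, j)) (Finset.mem_univ i), show g (i, i) = 0 from if_pos rfl,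
        zero_add, QuotientAddGroup.mk'_apply, hdiag]
      congr 1
      exact Finset.sum_congr rfl fun j hj => by
        rw [show g (i, j) = _ from if_neg (Ne.symm (Finset.ne_of_mem_erase hj))]; rfl
    rw [hinv, add_zero, (QuotientAddGroup.eq_zero_iff _).2 hHE] at hsplit
    let T1 : K →+ ((ι → F) →ₗ[F] (ι → F)) ⧸ E := AddMonoidHom.mk' (fun z => T 1 (ν₁ • z))
      (fun z z' => by rw [smul_add, haddr])
    have hu2 : ∑ i, m i i • (b' i * b' i) = u := by
      have hfr : ∀ z : K, Algebra.trace F K (z * z) = Algebra.trace F K z * Algebra.trace F K z := fun z => by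
        have h := Algebra.trace_eq_of_equiv_equiv (frobeniusEquiv F 2) (frobeniusEquiv K 2)
          (RingHom.ext fun c => by simp [frobeniusEquiv_apply, frobenius_def]) z
        rw [frobeniusEquiv_apply, frobenius_def, sq] at h
        have h' := congrArg (frobeniusEquiv F 2) h
        rw [RingEquiv.apply_symm_apply, frobeniusEquiv_apply, frobenius_def, sq] at h'
        exact h'.symm
      have hmm : ∀ i, m i i = Algebra.trace F K (y * b i) * Algebra.trace F K (y * b i) := fun i => by
        rw [hm, ← hfr, hy]; dsimp only; congr 1; ring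
      conv_rhs => rw [hy, ← hrepr' y, CharTwo.sum_mul_self]
      refine Finset.sum_congr rfl fun i _ => ?_
      rw [hmm, smul_mul_smul_comm]
    have := map_sum T1 (fun i => m i i • (b' i * b' i)) Finset.univ
    rw [hu2] at this
    exact this.trans hsplit.symm
  intro x
  refine rootIn_of_inM C hs0 hs (hkill x x) fun ρ => ?_
  rw [← smul_assoc]
  set z := ρ • x
  have h1 : T z (ν₁ • z) = 0 := by
    rw [hell, mul_smul_comm]
    exact hzero _ (by rw [map_mul, hH.sigma_sigma, mul_comm])
  have h2 := (hT0.1 h1).1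
  rwa [tmap_self_smul, hν₁] at h2

/-- all root groups -/
theorem su_le [Fintype F] (hn : 6 ≤ Fintype.card ι) (hr : finrank F K = 3 ∨ finrank F K = 5)
    (hp : ∃ p : K, InP τ ι p ∧ ∀ (c : F) (A : K), σ A = A → p ≠ c • A) {g₀ : GL ι F} (hg₀ : g₀ ∈ M)
    (hns : ¬ ExtF.IsSemi K g₀) : uiso f ⊓ Cfsg.Geo.specialLinear ι F ≤ M := by
  classical
  have hH := C.form
  have hU := hH.unit
  have hprime : (finrank F K).Prime := by rcases hr with h | h <;> rw [h] <;> norm_num
  obtain ⟨s, hs0, hs⟩ := exists_skew hH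
  obtain ⟨a, ha, ha0, hcase⟩ := exists_line C hr hg₀ hns hs
  have hline : ∀ x : K, RootIn hU M (x • a) := by
    rcases hcase with hA | ⟨h3, hB⟩
    · exact rootIn_line C ha ha0 hs0 hs (by omega) hprime hp hA
    · obtain ⟨e, he⟩ := Unit.exists_trace_one hU.involutive hU.ne_refl
      have hroot : RootIn hU M a := rootIn_of_inM C hs0 hs (by simpa using f_eq_zero hH ha 1 1) fun ρ => by
        have h := hB ρ (e * ρ)
        have e1 : bmap hU (ρ • a) ((e * ρ) • a) + bmap hU ((e * ρ) • a) (ρ • a) = bmap hU (ρ • a) (ρ • a) :=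
          LinearMap.ext fun z => by
            simp only [LinearMap.add_apply, bmap_apply, Unit.smul_right hU, map_mul, smul_smul, ← add_smul]
            congr 1
            linear_combination (τ ρ * f z a * ρ) * he
        rwa [e1] at h
      intro x
      rcases eq_or_ne x 0 with rfl | hx
      · simpa using Unit.rootIn_smul hU hroot 0
      · obtain ⟨h, hh, hha⟩ := exists_torus_line C ha ha0 (β := x) ⟨hx, Or.inr h3⟩
        have := Unit.rootIn_conj hU hh (C.le hh) hroot
        rwa [← one_smul K a, hha, mul_one] at this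
  have hiso : ∀ z, Φ z z = 0 → RootIn hU M z := by
    intro z hz
    rcases eq_or_ne z 0 with rfl | hz0
    · simpa using hline 0
    obtain ⟨h, hh, t, ht, hha, hl⟩ := exists_move C ha ha0 hz hz0
    have := Unit.rootIn_conj hU hh (C.le hh) (hline t⁻¹)
    rwa [hl, hha, inv_smul_smul₀ ht] at this
  refine Unit.su_le_of_utv hU hn M fun u c hu hc => ?_
  refine (?_ : RootIn hU M u).2 c hc
  by_cases hl : Φ u u = 0
  · exact hiso u hl
  set lam := Φ u u with hlam
  have hlams : σ lam = lam := self_skew hH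
  obtain ⟨α, hα, hαt⟩ : ∃ α : K, α + σ α = lam ∧ Algebra.trace F K α ≠ 0 := by
    obtain ⟨α₀, hα₀⟩ := Unit.exists_trace hH.sigma_sigma (sigma_ne hH) lam hlams
    by_cases h : Algebra.trace F K α₀ = 0
    swap
    · exact ⟨α₀, hα₀, h⟩
    obtain ⟨μ, hμ⟩ := Unit.exists_trace_one hU.involutive hU.ne_refl
    obtain ⟨t, ht⟩ := Algebra.trace_surjective F K μ
    refine ⟨α₀ + s • (t + σ t), ?_, ?_⟩
    · rw [Algebra.smul_def, map_add, map_mul, hH.sigma_alg, eq_neg_of_add_eq_zero_right hs, map_neg, map_add,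
        hH.sigma_sigma]
      linear_combination hα₀
    · rw [map_add, h, zero_add, map_smul, map_add, ht, trace_sigma hH, ht, hμ, smul_eq_mul, mul_one]
      exact hs0
  -- an anisotropic vector orthogonal to `u`
  obtain ⟨v, hvu, hvv⟩ : ∃ v, Φ v u = 0 ∧ Φ v v ≠ 0 := by
    obtain ⟨y₀, hy₀⟩ := ExtF.exists_notMem _ (ExtF.span_ne_top C.two_le u)
    have hproj : ∀ y, Φ (y - (Φ y u / lam) • u) u = 0 := fun y => by
      rw [sub_left hH, smul_left hH, ← hlam, div_mul_cancel₀ _ hl, sub_self]
    set v := y₀ - (Φ y₀ u / lam) • u with hv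
    have hv0 : v ≠ 0 := fun h => hy₀ (Submodule.mem_span_singleton.2 ⟨_, (sub_eq_zero.1 h).symm⟩)
    by_contra hno
    push Not at hno
    obtain ⟨e, he⟩ := Unit.exists_trace_one hH.sigma_sigma (sigma_ne hH)
    obtain ⟨y, hy⟩ := exists_phi_ne hH hv0 e
    set w := y - (Φ y u / lam) • u with hw
    have hwv : Φ w v = e := by
      rw [hw, sub_left hH, smul_left hH, hy, eq_zero_symm hH (hproj y₀), mul_zero, sub_zero]
    have h5 := hno (v + w) (by rw [add_left hH, hproj, hproj, add_zero])
    rw [add_left hH, add_right hH, add_right hH, hno v (hproj y₀), hno w (hproj y), hwv, herm hH w v, hwv] at h5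
    exact one_ne_zero (α := K) (by linear_combination h5 - he)
  have : Fintype K := @Fintype.ofFinite K (Module.finite_of_finite F)
  set d := σ (α / lam) with hd
  obtain ⟨β, hβ⟩ := Unit.exists_norm hH.sigma_sigma (sigma_ne hH) (-(d * σ d * lam / Φ v v)) (by
    simp only [hd, map_neg, map_div₀, map_mul, hH.sigma_sigma, hlams, self_skew hH]
    ring)
  obtain ⟨w, hw⟩ : ∃ w, w = d • u + β • v := ⟨_, rfl⟩
  have huv := eq_zero_symm hH hvu
  have huw : Φ u w = α := by
    rw [hw, add_right hH, smul_right hH, smul_right hH, huv, ← hlam, mul_zero, add_zero, hd, hH.sigma_sigma,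
      div_mul_cancel₀ _ hl]
  have hww : Φ w w = 0 := by
    rw [hw]
    simp only [add_left hH, add_right hH, smul_left hH, smul_right hH, hvu, huv, ← hlam, mul_zero, add_zero,
      zero_add]
    rw [← mul_assoc β, hβ, ← mul_assoc]
    field_simp
    ring
  have hx : Φ (u - w) (u - w) = 0 := by
    rw [sub_left hH, sub_right hH, sub_right hH, herm hH u w, huw, hww, ← hlam]
    linear_combination -hα
  have hfv : f (u - w) w = Algebra.trace F K α := by rw [f_eq hH, sub_left hH, huw, hww, sub_zero]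
  have hτ : τ (Algebra.trace F K α) = -Algebra.trace F K α := by
    rw [← trace_sigma hH, eq_neg_iff_add_eq_zero, ← map_add, add_comm, hα, hlam, ← f_eq hH, hu]
  have := Unit.rootIn_add hU (hiso w hww) (hiso _ hx) (c := (Algebra.trace F K α)⁻¹)
    (by rw [map_inv₀, hτ, inv_neg, add_neg_cancel])
  rwa [hfv, inv_mul_cancel₀ hαt, one_smul, sub_add_cancel] at this

end Cfsg.Agent.MaxCl.UExt
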