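/-
The normaliser of an adjoint closed field of degree three or five in the matrix algebra is maximal in the
special unitary group.
-/
import Cfsg.Agent.Lib.MaxCl.UnitaryExtRoots

set_option autoImplicit false
set_option linter.unusedSectionVars false
set_option maxHeartbeats 800000

namespace Cfsg.Agent.MaxCl.UExt

open scoped MatrixGroups Matrix
open Module (finrank)
open Cfsg.Agent.MaxCl.Unit (uiso mem_uiso RootIn)

variable {ι : Type} [Fintype ι] [DecidableEq ι] {F : Type*} [Field F]
  {K : Type*} [Field K] [Algebra F K] [Module K (ι → F)] [IsScalarTower F K (ι → F)]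
variable {τ : F ≃+* F} {f : (ι → F) → (ι → F) → F}
variable {σ : K ≃+* K} {Φ : (ι → F) → (ι → F) → K}
  [Finite F] [Module.Finite F K] (hH : HF τ f σ Φ)
include hH

theorem card_fixF : Nat.card F = Nat.card (fixF τ) ^ 2 := by
  obtain ⟨ν, hν⟩ := exists_moved hH
  have hd : ν - τ ν ≠ 0 := sub_ne_zero.2 (Ne.symm hν)
  have hd' : τ ν - ν ≠ 0 := sub_ne_zero.2 hν
  rw [sq, ← Nat.card_prod]
  refine (Nat.card_congr (Equiv.ofBijective (fun p : fixF τ × fixF τ => (p.1 : F) + ν * p.2) ⟨?_, ?_⟩)).symm
  · rintro ⟨a, b⟩ ⟨a', b'⟩ h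
    simp only at h
    have h2 := congrArg τ h
    simp only [map_add, map_mul, show τ (a : F) = a from a.2, show τ (b : F) = b from b.2,
      show τ (a' : F) = a' from a'.2, show τ (b' : F) = b' from b'.2] at h2
    have hb : (b : F) = b' := by
      refine mul_left_cancel₀ hd ?_
      linear_combination h - h2
    refine Prod.ext (Subtype.ext ?_) (Subtype.ext hb)
    rw [hb] at h
    exact add_right_cancel h
  · intro c
    refine ⟨(⟨c - ν * ((c - τ c) / (ν - τ ν)), ?_⟩, ⟨(c - τ c) / (ν - τ ν), ?_⟩), by simp⟩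
    · show τ _ = _
      simp only [map_sub, map_mul, map_div₀, hH.unit.involutive]
      field_simp
      ring
    · show τ _ = _
      simp only [map_sub, map_div₀, hH.unit.involutive]
      rw [← neg_div_neg_eq, neg_sub, neg_sub]

theorem card_real_le : Nat.card {A : K // σ A = A} ≤ Nat.card (fixF τ) ^ finrank F K := by
  obtain ⟨b, b', hb, -, -, hrepr', -⟩ := exists_real_basis hH
  have hfix : ∀ (A : K), σ A = A → ∀ i, τ (Algebra.trace F K (A * b i)) = Algebra.trace F K (A * b i) :=
    fun A hA i => by rw [← trace_sigma hH, map_mul, hA, hb]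
  refine (Nat.card_le_card_of_injective
    (fun A : {A : K // σ A = A} => fun i => (⟨_, hfix A.1 A.2 i⟩ : fixF τ)) fun A A' h => Subtype.ext ?_).trans
    (le_of_eq (by rw [Nat.card_pi]; simp))
  rw [← hrepr' A.1, ← hrepr' A'.1]
  refine Finset.sum_congr rfl fun i _ => ?_
  congr 1
  exact congrArg Subtype.val (congrFun h i)

/-- a scalar realised by a torus outside the products of ground and fixed scalars -/
theorem exists_torus_elem (hd : 2 ≤ finrank K (ι → F)) (hr : finrank F K = 3 ∨ finrank F K = 5)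
    (hex : finrank F K = 3 → Nat.card F = 4 → 3 ≤ finrank K (ι → F)) :
    ∃ p : K, InP τ ι p ∧ ∀ (c : F) (A : K), σ A = A → p ≠ c • A := by
  classical
  have : Finite K := Module.finite_of_finite F
  set Q := Nat.card (fixF τ) with hQ
  have hQ2 : 2 ≤ Q := Finite.one_lt_card
  have hF := card_fixF hH
  rw [← hQ] at hF
  have hR := card_real_le hH
  rw [← hQ] at hR
  have hK : Nat.card K = (Q ^ 2) ^ finrank F K := by rw [← hF, Module.natCard_eq_pow_finrank (K := F) (V := K)]
  by_cases h3 : 3 ≤ finrank K (ι → F)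
  · by_contra hno
    push Not at hno
    have hsurj : Function.Surjective (fun p : F × {A : K // σ A = A} => p.1 • p.2.1) := by
      intro p
      rcases eq_or_ne p 0 with rfl | hp0
      · exact ⟨(0, ⟨0, map_zero σ⟩), zero_smul _ _⟩
      · obtain ⟨c, A, hA, rfl⟩ := hno p ⟨hp0, Or.inr h3⟩
        exact ⟨(c, ⟨A, hA⟩), rfl⟩
    have h := Nat.card_le_card_of_surjective _ hsurj
    rw [Nat.card_prod, hF, hK] at h
    have h2 : Q ^ 2 * Nat.card {A : K // σ A = A} ≤ Q ^ (2 + finrank F K) := by
      rw [pow_add]; exact Nat.mul_le_mul_left _ hR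
    have h4 : Q ^ (2 + finrank F K) < (Q ^ 2) ^ finrank F K := by
      rw [← pow_mul]
      exact Nat.pow_lt_pow_right hQ2 (by omega)
    omega
  by_contra hno
  push Not at hno
  have : Fintype F := Fintype.ofFinite F
  have : Fintype K := Fintype.ofFinite K
  -- the kernel of the norm
  let N : Kˣ →* Fˣ := Units.map (Algebra.norm F (S := K))
  have hN : Function.Surjective N := FiniteField.unitsMap_norm_surjective F K
  have h1 : Nat.card N.ker * (Q ^ 2 - 1) = (Q ^ 2) ^ finrank F K - 1 := by
    rw [← hK, ← hF, ← Nat.card_units, ← Nat.card_units, ← Subgroup.card_mul_index N.ker, Subgroup.index_ker,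
      MonoidHom.range_eq_top.2 hN, Subgroup.card_top]
  let Ω : Finset F := Finset.univ.filter fun ω => ω ^ finrank F K = 1
  have hΩ : Ω.card ≤ finrank F K := by
    have hne : (Polynomial.X ^ finrank F K - 1 : Polynomial F) ≠ 0 :=
      (Polynomial.monic_X_pow_sub_C (1 : F) (by omega)).ne_zero
    refine (Finset.card_le_card (t := (Polynomial.X ^ finrank F K - 1 : Polynomial F).roots.toFinset)
      fun ω hω => ?_).trans ((Multiset.toFinset_card_le _).trans ((Polynomial.card_roots' _).trans ?_))
    · rw [Multiset.mem_toFinset, Polynomial.mem_roots hne]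
      simp [(Finset.mem_filter.1 hω).2]
    · rw [← map_one (Polynomial.C (R := F)), Polynomial.natDegree_X_pow_sub_C]
  let Sk : Finset K := Finset.univ.filter fun p => Algebra.norm F p = 1
  let R : Finset K := Finset.univ.filter fun A => σ A = A ∧ A ≠ 0
  have hcardker : Nat.card N.ker ≤ Sk.card := by
    rw [← Fintype.card_coe, ← Nat.card_eq_fintype_card]
    refine Nat.card_le_card_of_injective (fun η => ⟨((η : Kˣ) : K), Finset.mem_filter.2 ⟨Finset.mem_univ _, ?_⟩⟩)
      fun a b h => Subtype.ext (Units.ext (Subtype.ext_iff.1 h))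
    have := congrArg Units.val (MonoidHom.mem_ker.1 η.2)
    simpa [N] using this
  have hRc : R.card + 1 ≤ Q ^ finrank F K := by
    refine le_trans ?_ hR
    rw [Nat.card_eq_fintype_card, Fintype.card_subtype]
    refine Finset.card_lt_card (Finset.ssubset_iff_of_subset (fun A hA => ?_) |>.2 ⟨0, by simp, by simp [R]⟩)
    exact Finset.mem_filter.2 ⟨Finset.mem_univ _, (Finset.mem_filter.1 hA).2.1⟩
  have hne0 : ∀ p ∈ Sk, p ≠ 0 := fun p hp h => by
    have := (Finset.mem_filter.1 hp).2
    rw [h, Algebra.norm_zero] at this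
    exact zero_ne_one this
  have hcount : Sk.card ≤ R.card * finrank F K := by
    refine (Finset.card_le_mul_card_image (f := fun p => p / σ p) Sk R.card fun b hb => ?_).trans
      (Nat.mul_le_mul_left _ (le_trans (Finset.card_le_card (t := Ω.image (algebraMap F K)) ?_)
        (Finset.card_image_le.trans hΩ)))
    · obtain ⟨p₀, hp₀, rfl⟩ := Finset.mem_image.1 hb
      refine Finset.card_le_card_of_injOn (fun p => p / p₀) (fun p hp => ?_) fun x _ y _ h => ?_
      · obtain ⟨hp, he⟩ := Finset.mem_filter.1 (Finset.mem_coe.1 hp)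
        have hp0 := hne0 p hp
        have hq0 := hne0 p₀ hp₀
        refine Finset.mem_coe.2 (Finset.mem_filter.2 ⟨Finset.mem_univ _, ?_, div_ne_zero hp0 hq0⟩)
        rw [map_div₀, div_eq_div_iff ((map_ne_zero σ).2 hq0) hq0]
        rw [div_eq_div_iff ((map_ne_zero σ).2 hp0) ((map_ne_zero σ).2 hq0)] at he
        linear_combination -he
      · exact (div_left_inj' (hne0 p₀ hp₀)).1 h
    · intro x hx
      obtain ⟨p, hp, rfl⟩ := Finset.mem_image.1 hx
      have hp1 := (Finset.mem_filter.1 hp).2
      obtain ⟨c, A, hA, hpe⟩ := hno p ⟨hne0 p hp, Or.inl (by rw [hp1, map_one])⟩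
      have hc : c ≠ 0 := fun h => hne0 p hp (by rw [hpe, h, zero_smul])
      have hA0 : A ≠ 0 := fun h => hne0 p hp (by rw [hpe, h, smul_zero])
      have hval : p / σ p = algebraMap F K (c / τ c) := by
        rw [hpe, Algebra.smul_def, map_mul, hH.sigma_alg, hA, mul_div_mul_right _ _ hA0, map_div₀]
      refine Finset.mem_image.2 ⟨c / τ c, Finset.mem_filter.2 ⟨Finset.mem_univ _, ?_⟩, hval.symm⟩
      have h2 := congrArg (fun z => Algebra.norm F z * Algebra.norm F (σ p)) hval
      simp only [← map_mul, div_mul_cancel₀ _ ((map_ne_zero σ).2 (hne0 p hp))] at h2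
      rw [hp1, map_mul, Algebra.norm_algebraMap, norm_sigma hH, hp1, map_one, mul_one] at h2
      exact h2.symm
  have h5 : Nat.card N.ker * (Q ^ 2 - 1) ≤ (Q ^ finrank F K - 1) * finrank F K * (Q ^ 2 - 1) :=
    Nat.mul_le_mul_right _ (hcardker.trans (hcount.trans (Nat.mul_le_mul_right _ (by omega))))
  rw [h1] at h5
  have hQr : 1 ≤ Q ^ finrank F K := Nat.one_le_pow _ _ (by omega)
  have h6 : (Q ^ 2) ^ finrank F K - 1 = (Q ^ finrank F K + 1) * (Q ^ finrank F K - 1) := by
    rw [← Nat.sq_sub_sq, one_pow, ← pow_mul, ← pow_mul, mul_comm]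
  rw [h6, mul_comm (Q ^ finrank F K + 1), mul_assoc] at h5
  have h7 : Q ^ finrank F K + 1 ≤ finrank F K * (Q ^ 2 - 1) := Nat.le_of_mul_le_mul_left h5 (by
    have : 1 < Q ^ finrank F K := Nat.one_lt_pow (by omega) (by omega)
    omega)
  rcases hr with h | h <;> rw [h] at h7
  · have hQ3 : 3 ≤ Q := by
      by_contra hlt
      have : Q = 2 := by omega
      exact h3 (hex h (by rw [hF, this]; norm_num))
    have : Q ^ 2 * 3 ≤ Q ^ 3 := by rw [pow_succ Q 2]; exact Nat.mul_le_mul_left _ hQ3
    omega
  · have : Q ^ 2 * 8 ≤ Q ^ 5 := by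
      rw [show Q ^ 5 = Q ^ 2 * Q ^ 3 by ring]
      exact Nat.mul_le_mul_left _ (le_trans (by norm_num) (Nat.pow_le_pow_left hQ2 3))
    omega

omit hH in
/-- the normaliser of an adjoint closed field of degree three or five is maximal -/
theorem extField_maximal [Fintype F] {n q r : ℕ} (hF : Fintype.card F = q ^ 2) (hn : 6 ≤ n)
    (hr : r = 3 ∨ r = 5) (hdvd : r ∣ n) (hd : 2 * r ≤ n) (hex : r = 3 → q = 2 → 9 ≤ n)
    (A : Subalgebra F (Matrix (Fin n) (Fin n) F)) (hA : Cfsg.Geo.IsFieldSubalgebra r A)
    (hac : Cfsg.Geo.IsAdjointClosedFor (Cfsg.hermForm n F q) A) :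
    Cfsg.Geo.IsMaximalIn (Cfsg.GU n F q ⊓ Cfsg.Geo.specialLinear (Fin n) F)
      (Cfsg.Geo.subalgebraNormalizer A ⊓ (Cfsg.GU n F q ⊓ Cfsg.Geo.specialLinear (Fin n) F)) := by
  classical
  obtain ⟨τ, hτ, hU⟩ := Unit.hermForm_isUnitary n q hF
  change Cfsg.Geo.IsMaximalIn (uiso (Cfsg.hermForm n F q) ⊓ _)
    (_ ⊓ (uiso (Cfsg.hermForm n F q) ⊓ _))
  set f := Cfsg.hermForm n F q
  have hn6 : 6 ≤ Fintype.card (Fin n) := by rw [Fintype.card_fin]; exact hn
  have : Nonempty (Fin n) := ⟨⟨0, by omega⟩⟩
  have hfield : IsField A :=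
    { exists_pair_ne := ⟨0, 1, fun h => zero_ne_one (α := Matrix (Fin n) (Fin n) F) (congrArg Subtype.val h)⟩
      mul_comm := fun a b => Subtype.ext (hA.comm a.1 a.2 b.1 b.2)
      mul_inv_cancel := fun {a} ha => by
        obtain ⟨y, hy, hxy⟩ := hA.inv a.1 a.2 (fun h => ha (Subtype.ext h))
        exact ⟨⟨y, hy⟩, Subtype.ext hxy⟩ }
  letI : Field A := hfield.toField
  letI : Module A (Fin n → F) :=
    { smul := fun a v => (a : Matrix (Fin n) (Fin n) F) *ᵥ v
      one_smul := fun v => Matrix.one_mulVec v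
      mul_smul := fun a b v => (Matrix.mulVec_mulVec v _ _).symm
      smul_zero := fun a => Matrix.mulVec_zero _
      smul_add := fun a v w => Matrix.mulVec_add _ v w
      add_smul := fun a b v => Matrix.add_mulVec _ _ v
      zero_smul := fun v => Matrix.zero_mulVec v }
  have hsmul : ∀ (a : A) (v : Fin n → F), a • v = (a : Matrix (Fin n) (Fin n) F) *ᵥ v := fun a v => rfl
  have : IsScalarTower F A (Fin n → F) := ⟨fun c a v => by
    rw [hsmul, hsmul]
    exact Matrix.smul_mulVec c _ v⟩
  have : Module.Finite F A := Module.finite_of_finrank_pos (by rw [hA.finrank_eq]; omega)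
  have : Finite A := Module.finite_of_finite F
  have hdim : r * finrank A (Fin n → F) = n := by
    have := Module.finrank_mul_finrank F A (Fin n → F)
    rwa [Module.finrank_fintype_fun_eq_card, hA.finrank_eq, Fintype.card_fin] at this
  have hd2 : 2 ≤ finrank A (Fin n → F) := Nat.le_of_mul_le_mul_left (by rw [hdim]; omega) (show 0 < r by omega)
  obtain ⟨σ, Φ, hH⟩ := exists_hform (K := A) hU fun k => by
    obtain ⟨k', hk', h⟩ := hac k.1 k.2
    exact ⟨⟨k', hk'⟩, fun x y => h x y⟩
  have hr' : finrank F A = 3 ∨ finrank F A = 5 := by rw [hA.finrank_eq]; exact hr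
  -- membership is semilinearity
  have hsemi : ∀ g : GL (Fin n) F, g ∈ Cfsg.Geo.subalgebraNormalizer A ↔ ExtF.IsSemi A g := by
    intro g
    constructor
    · intro hg k
      refine ⟨⟨_, (hg k.1).1 k.2⟩, fun x => ?_⟩
      simp only [hsmul, act_apply, Matrix.mulVec_mulVec, mul_assoc, ← Units.val_mul, inv_mul_cancel,
        Units.val_one, mul_one]
    · intro hg
      choose t ht using hg
      have hmat : ∀ k : A, (g : Matrix (Fin n) (Fin n) F) * (k : Matrix (Fin n) (Fin n) F) *
          ((g⁻¹ : GL (Fin n) F) : Matrix (Fin n) (Fin n) F) = t k := by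
        intro k
        have : (g : Matrix (Fin n) (Fin n) F) * (k : Matrix (Fin n) (Fin n) F) =
            (t k : Matrix (Fin n) (Fin n) F) * (g : Matrix (Fin n) (Fin n) F) := by
          apply Matrix.toLin'.injective
          apply LinearMap.ext
          intro x
          have := ht k x
          simp only [hsmul, act_apply, Matrix.mulVec_mulVec] at this
          simpa using this
        rw [this, mul_assoc, ← Units.val_mul, mul_inv_cancel, Units.val_one, mul_one]
      have hinj : Function.Injective t := by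
        intro k l h
        have h' := (hmat k).trans ((congrArg Subtype.val h).trans (hmat l).symm)
        rw [Units.mul_left_inj, Units.mul_right_inj] at h'
        exact Subtype.ext h'
      intro k
      constructor
      · intro hk
        rw [hmat ⟨k, hk⟩]
        exact (t _).2
      · intro hk
        obtain ⟨l, hl⟩ := Finite.surjective_of_injective hinj ⟨_, hk⟩
        have h' := (congrArg Subtype.val hl).symm.trans (hmat l).symm
        rw [Units.mul_left_inj, Units.mul_right_inj] at h'
        rw [h']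
        exact l.2
  refine ⟨lt_of_le_of_ne inf_le_right fun heq => ?_, fun M hM hMle => ?_⟩
  · -- a transvection over the ground field is not semilinear
    obtain ⟨s, hs0, hs⟩ := exists_skew hH
    obtain ⟨k, hk⟩ : ∃ k : A, k ∉ (⊥ : Subalgebra F A) := by
      by_contra h
      push Not at h
      have h1 : (⊥ : Subalgebra F A) = ⊤ := eq_top_iff.2 fun x _ => h x
      have := Subalgebra.finrank_bot (F := F) (E := A)
      rw [h1, (Subalgebra.topEquiv (R := F) (A := A)).toLinearEquiv.finrank_eq] at this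
      omega
    obtain ⟨w, hw⟩ : ∃ w : Fin n → F, w ≠ 0 := ⟨Pi.single ⟨0, by omega⟩ 1, by simp⟩
    obtain ⟨z, hz, hzw⟩ := Unit.exists_isotropic_ne hU (by omega) hw
    have hz0 : z ≠ 0 := fun h => hzw (by rw [h, Unit.zero_left hU])
    have hmem : Unit.utv hU z s ∈ uiso f ⊓ Cfsg.Geo.specialLinear (Fin n) F :=
      ⟨Unit.utv_mem hU hz hs, Unit.det_ptv hU (by rw [Unit.smul_right hU, hz, mul_zero])⟩
    obtain ⟨k', hk'⟩ := (hsemi _).1 (inf_eq_right.1 heq hmem) k
    let φ : (Fin n → F) →ₗ[F] F × F := (Unit.flinU hU z).prod (Unit.flinU hU (σ k • z))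
    obtain ⟨x, hx, hx0⟩ := Submodule.exists_mem_ne_zero_of_ne_bot (p := LinearMap.ker φ) fun h => by
      have h1 := LinearMap.finrank_range_add_finrank_ker φ
      have h2 := Submodule.finrank_le (LinearMap.range φ)
      rw [h, finrank_bot, Module.finrank_fin_fun] at h1
      rw [Module.finrank_prod, Module.finrank_self] at h2
      omega
    have h12 : f x z = 0 ∧ f (k • x) z = 0 := by
      have := LinearMap.mem_ker.1 hx
      rw [hH.adj]
      simpa [φ, Prod.ext_iff, Unit.flinU_apply] using this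
    have hkk : k' = k := by
      have h := hk' x
      rw [Unit.act_utv hU hz, Unit.act_utv hU hz, h12.1, h12.2, mul_zero, zero_smul, add_zero, add_zero] at h
      exact (smul_left_injective A hx0 h).symm
    apply hk
    have h := hk' w
    rw [hkk, Unit.act_utv hU hz, Unit.act_utv hU hz, smul_add, add_right_inj, ← algebraMap_smul A (s * f (k • w) z) z,
      ← algebraMap_smul A (s * f w z) z, smul_smul] at h
    have h' := smul_left_injective A hz0 h
    have hfw : f w z ≠ 0 := Unit.ne_symm hU hzw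
    refine Algebra.mem_bot.2 ⟨s * f (k • w) z / (s * f w z), ?_⟩
    rw [map_div₀, h', mul_div_assoc, div_self ((map_ne_zero _).2 (mul_ne_zero hs0 hfw)), mul_one]
  · by_cases hsub : M ≤ Cfsg.Geo.subalgebraNormalizer A
    · exact Or.inl (le_antisymm (le_inf hsub hMle) hM)
    right
    obtain ⟨g, hgM, hg⟩ := SetLike.not_le_iff_exists.1 hsub
    have C : Ctx τ f σ Φ M := ⟨hH, hd2, hMle.trans inf_le_left,
      fun u hu hus hul => hM ⟨(hsemi u).2 fun k => ⟨k, hul k⟩, hu, hus⟩⟩
    have hp := exists_torus_elem hH hd2 hr' (fun h3 h4 => by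
      rw [hA.finrank_eq] at h3
      rw [Nat.card_eq_fintype_card, hF] at h4
      have hq : q = 2 := (pow_left_inj₀ (Nat.zero_le _) (Nat.zero_le _) two_ne_zero).1 (show q ^ 2 = 2 ^ 2 from h4)
      have := hex h3 hq
      subst h3
      omega)
    exact le_antisymm hMle (su_le C hn6 hr' hp hgM fun h => hg ((hsemi g).2 h))

end Cfsg.Agent.MaxCl.UExt
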