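/-
Maximality of some geometric subgroups of SU_n(q) for small n: totally singular and non-degenerate subspaces, pairs
of totally singular subspaces, subfield groups of symplectic type.
-/
import Cfsg.Agent.Lib.MaxCl.SympSubfield
import Cfsg.Agent.Lib.MaxCl.UnitaryRoot
import Cfsg.Agent.Lib.MaxCl.UnitaryStab
import Cfsg.Agent.Lib.MaxCl.UnitarySmall

set_option autoImplicit false
set_option maxHeartbeats 1600000

namespace Cfsg.Agent.MaxCl.UList

open Cfsg Cfsg.Agent.MaxCl Cfsg.Agent.MaxCl.Unit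

/-- Stabilisers of totally singular subspaces are maximal for `n ≥ 6`. -/
theorem totallySingular_maximal {F : Type*} [Field F] [Fintype F] (n q : ℕ) (hF : Fintype.card F = q ^ 2) (hn : 6 ≤ n) (W : Submodule F (Fin n → F)) (hW0 : W ≠ ⊥) (hW : Cfsg.Geo.IsTotallySingularFor (Cfsg.hermForm n F q) W) : Cfsg.Geo.IsMaximalIn (Cfsg.GU n F q ⊓ Cfsg.Geo.specialLinear (Fin n) F) (Cfsg.Geo.subspaceStabilizer W ⊓ (Cfsg.GU n F q ⊓ Cfsg.Geo.specialLinear (Fin n) F)) := by
  classical
  obtain ⟨τ, -, hf⟩ := hermForm_isUnitary n q hF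
  set f := Cfsg.hermForm n F q
  change Cfsg.Geo.IsMaximalIn (uiso f ⊓ _) (_ ⊓ (uiso f ⊓ _))
  have hn6 : 6 ≤ Fintype.card (Fin n) := by rw [Fintype.card_fin]; omega
  obtain ⟨s, hs0, hs⟩ := exists_skew hf.ne_refl hf.involutive
  have hU0 : ∀ u c, f u u = 0 → c + τ c = 0 → utv hf u c ∈ uiso f ⊓ Cfsg.Geo.specialLinear (Fin n) F :=
    fun u c hu hc => ⟨utv_mem hf hu hc, det_ptv hf (by rw [smul_right hf, hu, mul_zero])⟩
  have hWW : W ≤ uperp hf W := fun x hx w hw => hW x hx w hw
  obtain ⟨w₀, hw₀, hw₀0⟩ : ∃ a ∈ W, a ≠ 0 := Submodule.exists_mem_ne_zero_of_ne_bot hW0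
  refine ⟨lt_of_le_of_ne inf_le_right ?_, ?_⟩
  · intro heq
    obtain ⟨z, hzz, hzw⟩ := exists_isotropic_ne hf (by omega) hw₀0
    have h1 := (mem_subspaceStabilizer.1 ((inf_eq_right.1 heq) (hU0 z s hzz hs)) w₀).1 hw₀
    rw [act_utv hf hzz, W.add_mem_iff_right hw₀, W.smul_mem_iff (mul_ne_zero hs0 (ne_symm hf hzw))] at h1
    exact hzw (hW z h1 w₀ hw₀)
  intro M hM1 hM2
  by_cases hsub : M ≤ Cfsg.Geo.subspaceStabilizer W
  · exact Or.inl (le_antisymm (le_inf hsub hM2) hM1)
  right
  obtain ⟨g, hgM, hg⟩ := SetLike.not_le_iff_exists.1 hsub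
  have hgf : g ∈ uiso f := (hM2 hgM).1
  have hRW : ∀ u ∈ uperp hf W, f u u = 0 → RootIn hf M u := by
    intro u hu huu
    refine ⟨huu, fun c hc => hM1 ⟨mem_subspaceStabilizer_of_le fun v hv => ?_, hU0 u c huu hc⟩⟩
    rw [act_utv hf huu, eq_zero_symm hf (hu v hv)]; simpa using hv
  obtain ⟨v₀, hv₀, hv₀W⟩ : ∃ v, RootIn hf M v ∧ v ∉ uperp hf W := by
    by_contra hno; push Not at hno
    apply hg
    have himg : ∀ u ∈ uperp hf W, f u u = 0 → act g u ∈ uperp hf W := fun u hu huu =>
      hno _ (rootIn_conj hf hgM hgf (hRW u hu huu))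
    refine mem_subspaceStabilizer_of_le fun w hw => ?_
    by_contra hgw
    obtain ⟨r, hr, hrdef⟩ : ∃ r, r ∈ uperp hf W ∧ r = act g w := ⟨_, himg w (hWW hw) (hW w hw w hw), rfl⟩
    rw [← hrdef] at hgw
    have hrr : f r r = 0 := by rw [hrdef, mem_uiso.1 hgf]; exact hW w hw w hw
    obtain ⟨r', hr', hrr'⟩ : ∃ r' ∈ uperp hf W, f r r' ≠ 0 := by
      by_contra h; push Not at h
      exact hgw (uperp_uperp hf W ▸ h)
    -- the isotropic vectors of the perp span it
    have hspan : ∀ p ∈ uperp hf W, act g p ∈ uperp hf W := by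
      have key : ∀ p ∈ uperp hf W, f p r ≠ 0 → act g p ∈ uperp hf W := by
        intro p hp hpr
        obtain ⟨e, he⟩ := exists_isotropic_shift hf hrr (show f ((f p r)⁻¹ • p) r = 1 by
          rw [smul_left hf, inv_mul_cancel₀ hpr])
        have h1 := himg _ (add_mem ((uperp hf W).smul_mem _ hp) ((uperp hf W).smul_mem e hr)) he
        rw [map_add, map_smul, map_smul,
          Submodule.add_mem_iff_left _ ((uperp hf W).smul_mem e (himg r hr hrr)),
          Submodule.smul_mem_iff _ (inv_ne_zero hpr)] at h1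
        exact h1
      intro p hp
      by_cases hpr : f p r = 0
      · have h1 := key (p + r') (add_mem hp hr') (by
          rw [add_left hf, hpr, zero_add]; exact ne_symm hf hrr')
        rw [map_add] at h1
        exact ((uperp hf W).add_mem_iff_left (key r' hr' (ne_symm hf hrr'))).1 h1
      · exact key p hp hpr
    have e : (uperp hf W).map (act g) = uperp hf W :=
      Submodule.eq_of_le_of_finrank_eq (Submodule.map_le_iff_le_comap.2 hspan) (finrank_map_act _ _)
    rw [map_uperp hf hgf] at e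
    have e' : W.map (act g) = W := by rw [← uperp_uperp hf (W.map (act g)), e, uperp_uperp]
    rw [hrdef] at hgw
    exact hgw (e' ▸ ⟨w, hw, rfl⟩)
  -- isotropic vectors not orthogonal to `a`
  have key : ∀ a ∈ W, f v₀ a ≠ 0 → ∀ x, f x x = 0 → f x a ≠ 0 → RootIn hf M x := by
    intro a ha h0 x hxx hxa
    obtain ⟨η, hη⟩ : ∃ η, η = f v₀ a := ⟨_, rfl⟩
    rw [← hη] at h0
    obtain ⟨k, hk⟩ : ∃ k, k = η / f x a := ⟨_, rfl⟩
    have hk0 : k ≠ 0 := hk ▸ div_ne_zero h0 hxa
    suffices H : RootIn hf M (k • x) by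
      have := rootIn_smul hf H k⁻¹
      rwa [inv_smul_smul₀ hk0] at this
    have haa : f a a = 0 := hW a ha a ha
    obtain ⟨b, hbdef⟩ : ∃ b, b = η⁻¹ • (k • x - v₀) := ⟨_, rfl⟩
    have hba : f b a = 0 := by
      rw [hbdef, smul_left hf, sub_left hf, smul_left hf, hk, div_mul_cancel₀ _ hxa, ← hη, sub_self, mul_zero]
    obtain ⟨e, he⟩ := exists_trace hf.involutive hf.ne_refl (-f b b) (by rw [map_neg, herm' hf])
    have h2 : f a (τ e • a - b) = 0 := by
      rw [sub_right hf, smul_right hf, haa, eq_zero_symm hf hba]; ring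
    obtain ⟨Y, hYdef⟩ : ∃ Y, Y = ptv hf b a * ptv hf a (τ e • a - b) := ⟨_, rfl⟩
    have hY : ∀ z, act Y z = z + f z a • b + (e * f z a - f z b) • a := by
      intro z
      rw [hYdef, act_mul, act_ptv hf h2, act_ptv hf hba, sub_right hf, smul_right hf, hf.involutive,
        add_left hf, smul_left hf, haa]
      module
    have hYf : Y ∈ uiso f := by
      rw [mem_uiso]
      intro u v
      simp only [hY, add_left hf, add_right hf, smul_left hf, smul_right hf, haa, hba, eq_zero_symm hf hba,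
        map_sub, map_mul, herm' hf]
      linear_combination (f u a * f a v) * he
    have hYM : Y ∈ M := by
      refine hM1 ⟨mem_subspaceStabilizer_of_le fun z hz => ?_, hYf, hYdef ▸ mul_mem (det_ptv hf hba) (det_ptv hf h2)⟩
      rw [hY, hW z hz a ha, zero_smul, add_zero]
      exact W.add_mem hz (W.smul_mem _ ha)
    have h1 := rootIn_conj hf hYM hYf hv₀
    obtain ⟨κ, hκ⟩ : ∃ κ, κ = e * η - f v₀ b := ⟨_, rfl⟩
    rw [hY, ← hη, ← hκ, hbdef, smul_inv_smul₀ h0, add_sub_cancel] at h1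
    have hy : f (k • x) a = η := by rw [smul_left hf, hk, div_mul_cancel₀ _ hxa]
    have hyy : f (k • x) (k • x) = 0 := by rw [smul_left hf, smul_right hf, hxx, mul_zero, mul_zero]
    have hya : f a (k • x) = τ η := by rw [← herm' hf, hy]
    have hiso := h1.1
    simp only [add_left hf, add_right hf, hyy] at hiso
    rw [smul_right hf κ (k • x) a, smul_left hf κ a (k • x), smul_left hf κ a (κ • a),
      smul_right hf κ a a, haa, hy, hya] at hiso
    obtain ⟨c, hcdef⟩ : ∃ c, c = -κ / η := ⟨_, rfl⟩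
    have hc : c + τ c = 0 := by
      have hτη : τ η ≠ 0 := (map_ne_zero τ).2 h0
      rw [hcdef, map_div₀, map_neg, div_add_div _ _ h0 hτη, div_eq_zero_iff]
      left; linear_combination -1 * hiso
    have h3 := rootIn_add hf (hRW a (hWW ha) haa) h1 hc
    have hfa : f (k • x + κ • a) a = η := by rw [add_left hf, hy, smul_left hf, haa, mul_zero, add_zero]
    rwa [hfa, hcdef, div_mul_cancel₀ _ h0, neg_smul, add_neg_cancel_right] at h3
  refine le_antisymm hM2 (su_le_of_utv hf hn6 M fun x c hx hc => ?_)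
  suffices h : RootIn hf M x from h.2 c hc
  by_cases hxW : x ∈ uperp hf W
  · exact hRW x hxW hx
  simp only [mem_uperp hf] at hxW hv₀W
  push Not at hxW hv₀W
  obtain ⟨a₁, ha₁, hxa⟩ := hxW
  obtain ⟨a₂, ha₂, hva⟩ := hv₀W
  by_cases h : f v₀ a₁ = 0
  · by_cases h' : f x a₂ = 0
    · refine key (a₁ + a₂) (W.add_mem ha₁ ha₂) ?_ x hx ?_
      · rw [add_right hf, h, zero_add]; exact hva
      · rw [add_right hf, h', add_zero]; exact hxa
    · exact key a₂ ha₂ hva x hx h'
  · exact key a₁ ha₁ h x hx hxa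

/-- Stabilisers of non-degenerate subspaces with complement of dimension at least four, `n ≥ 6`, are maximal. -/
theorem nondegenerate_maximal {F : Type*} [Field F] [Fintype F] (n q : ℕ) (hF : Fintype.card F = q ^ 2)  (W : Submodule F (Fin n → F)) (hW0 : W ≠ ⊥) (hW : Cfsg.Geo.IsNondegenerateOn (Cfsg.hermForm n F q) W) (hdim : 2 * Module.finrank F W < n) (h6 : 6 ≤ n) (hn : Module.finrank F W + 4 ≤ n) : Cfsg.Geo.IsMaximalIn (Cfsg.GU n F q ⊓ Cfsg.Geo.specialLinear (Fin n) F) (Cfsg.Geo.subspaceStabilizer W ⊓ (Cfsg.GU n F q ⊓ Cfsg.Geo.specialLinear (Fin n) F)) := by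
  classical
  obtain ⟨τ, -, hf⟩ := hermForm_isUnitary n q hF
  set f := Cfsg.hermForm n F q
  change Cfsg.Geo.IsMaximalIn (uiso f ⊓ _) (_ ⊓ (uiso f ⊓ _))
  have hn6 : 6 ≤ Fintype.card (Fin n) := by rw [Fintype.card_fin]; omega
  have hX := uperp_nondegenerate hf hW
  have hXd : 4 ≤ Module.finrank F (uperp hf W) := by
    have := finrank_uperp hf W; rw [Fintype.card_fin] at this; omega
  obtain ⟨s, hs0, hs⟩ := exists_skew hf.ne_refl hf.involutive
  have hU0 : ∀ u c, f u u = 0 → c + τ c = 0 → utv hf u c ∈ uiso f ⊓ Cfsg.Geo.specialLinear (Fin n) F :=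
    fun u c hu hc => ⟨utv_mem hf hu hc, det_ptv hf (by rw [smul_right hf, hu, mul_zero])⟩
  obtain ⟨a₀, ha₀, ha₀0⟩ : ∃ a ∈ W, a ≠ 0 := Submodule.exists_mem_ne_zero_of_ne_bot hW0
  obtain ⟨x₁, hx₁, hx₁0⟩ : ∃ x ∈ uperp hf W, x ≠ 0 := Submodule.exists_mem_ne_zero_of_ne_bot (by
    intro h; rw [h, finrank_bot] at hXd; omega)
  have hpart : ∀ (a : Fin n → F), ∃ b ∈ uperp hf W, b ≠ 0 ∧ f b b = -f a a := by
    intro a
    obtain ⟨b, hb, hb', hbb, -⟩ := exists_vec_one hf hX hXd hx₁ hx₁0 0 (-f a a)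
      (by rw [map_neg, herm' hf])
    exact ⟨b, hb, fun h => hb' (h ▸ Submodule.zero_mem _), hbb⟩
  refine ⟨lt_of_le_of_ne inf_le_right ?_, ?_⟩
  · intro heq
    obtain ⟨b, hb, hb0, hbb⟩ := hpart a₀
    have hiso : f (a₀ + b) (a₀ + b) = 0 := by
      rw [add_left hf, add_right hf, add_right hf, hb a₀ ha₀, eq_zero_symm hf (hb a₀ ha₀), hbb]; ring
    have hmem := (inf_eq_right.1 heq) (hU0 _ s hiso hs)
    obtain ⟨x, hx, hxa⟩ := (hW a₀ ha₀ ha₀0).1
    have h1 := (mem_subspaceStabilizer.1 hmem x).1 hx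
    have hfx : f x (a₀ + b) = f x a₀ := by
      rw [add_right hf, eq_zero_symm hf (hb x hx), add_zero]
    rw [act_utv hf hiso, hfx, W.add_mem_iff_right hx, W.smul_mem_iff (mul_ne_zero hs0 hxa),
      W.add_mem_iff_right ha₀] at h1
    exact hb0 (inf_uperp_of_nondegenerate hf hW h1 hb)
  intro M hM1 hM2
  by_cases hsub : M ≤ Cfsg.Geo.subspaceStabilizer W
  · exact Or.inl (le_antisymm (le_inf hsub hM2) hM1)
  right
  obtain ⟨g, hgM, hg⟩ := SetLike.not_le_iff_exists.1 hsub
  have hgf : g ∈ uiso f := (hM2 hgM).1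
  have hRW : ∀ u, f u u = 0 → (u ∈ W ∨ u ∈ uperp hf W) → RootIn hf M u := by
    intro u hu hmem
    refine ⟨hu, fun c hc => hM1 ⟨mem_subspaceStabilizer_of_le fun v hv => ?_, hU0 u c hu hc⟩⟩
    rw [act_utv hf hu]
    rcases hmem with h | h
    · exact W.add_mem hv (W.smul_mem _ h)
    · rw [eq_zero_symm hf (h v hv)]; simpa using hv
  have hXM : ∀ u ∈ uperp hf W, f u u = 0 → RootIn hf M u := fun u hu h => hRW u h (Or.inr hu)
  obtain ⟨a, ha, ha0, b, hb, hb0, hab⟩ : ∃ a ∈ W, a ≠ 0 ∧ ∃ b ∈ uperp hf W, b ≠ 0 ∧ RootIn hf M (a + b) := by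
    by_contra hno; push Not at hno
    have hside : ∀ u ∈ uperp hf W, f u u = 0 → act g u ∈ W ∨ act g u ∈ uperp hf W := by
      intro u hu huu
      have h := rootIn_conj hf hgM hgf (hXM u hu huu)
      obtain ⟨a, ha, b, hb, e⟩ := exists_decomp hf hW (act g u)
      rw [← e] at h ⊢
      rcases eq_or_ne a 0 with rfl | ha0
      · right; rw [zero_add]; exact hb
      rcases eq_or_ne b 0 with rfl | hb0
      · left; rw [add_zero]; exact ha
      exact absurd h (hno a ha ha0 b hb hb0)
    -- isotropic vectors of the complement go to one side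
    obtain ⟨u₀, hu₀, -, hu₀iso, -⟩ := exists_vec_one hf hX hXd hx₁ hx₁0 1 0 (map_zero _)
    have hpair : ∀ (Z Z' : Submodule F (Fin n → F)), (∀ z ∈ Z, ∀ z' ∈ Z', f z z' = 0) →
        (∀ u ∈ uperp hf W, f u u = 0 → act g u ∈ Z ∨ act g u ∈ Z') →
        ∀ u v, u ∈ uperp hf W → v ∈ uperp hf W → f v v = 0 → f u v ≠ 0 → act g u ∈ Z → act g v ∈ Z := by
      intro Z Z' hperp hs u v _ hv hvv huv hu
      refine (hs v hv hvv).resolve_right fun h => huv ?_
      rw [← mem_uiso.1 hgf]; exact hperp _ hu _ h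
    have hall : ∀ (Z Z' : Submodule F (Fin n → F)), (∀ z ∈ Z, ∀ z' ∈ Z', f z z' = 0) →
        (∀ u ∈ uperp hf W, f u u = 0 → act g u ∈ Z ∨ act g u ∈ Z') →
        ∀ z, z ∈ uperp hf W → z ≠ 0 → f z z = 0 → act g z ∈ Z →
        ∀ v ∈ uperp hf W, act g v ∈ Z := by
      intro Z Z' hperp hs z hz hz0 hzz hgz
      have hiso : ∀ v ∈ uperp hf W, f v v = 0 → act g v ∈ Z := by
        intro v hv hvv
        rcases eq_or_ne v 0 with rfl | hv0
        · rw [map_zero]; exact Z.zero_mem
        by_cases hdep : v ∈ F ∙ z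
        · obtain ⟨k, rfl⟩ := Submodule.mem_span_singleton.1 hdep
          rw [map_smul]; exact Z.smul_mem _ hgz
        obtain ⟨w, hw, hww, h1, h2⟩ := exists_vec_two hf hX hXd hz hv hz0 hdep 1 1 0 (map_zero _) (Or.inl one_ne_zero)
        refine hpair Z Z' hperp hs w v hw hv hvv (by rw [h2]; exact one_ne_zero)
          (hpair Z Z' hperp hs z w hz hw hww ?_ hgz)
        rw [← herm' hf, h1, map_one]; exact one_ne_zero
      intro v hv
      rcases eq_or_ne v 0 with rfl | hv0
      · rw [map_zero]; exact Z.zero_mem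
      obtain ⟨w, hw, -, hww, hwv⟩ := exists_vec_one hf hX hXd hv hv0 1 0 (map_zero _)
      obtain ⟨e, he⟩ := exists_isotropic_shift hf hww (show f v w = 1 by rw [← herm' hf, hwv, map_one])
      have h1 := hiso _ ((uperp hf W).add_mem hv ((uperp hf W).smul_mem e hw)) he
      rw [map_add, map_smul] at h1
      exact (Z.add_mem_iff_left (Z.smul_mem _ (hiso w hw hww))).1 h1
    obtain ⟨z, hz, hz', hzz, -⟩ := exists_vec_one hf hX hXd hx₁ hx₁0 0 0 (map_zero _)
    have hz0 : z ≠ 0 := fun h => hz' (h ▸ Submodule.zero_mem _)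
    rcases hside z hz hzz with h | h
    · have hle : (uperp hf W).map (act g) ≤ W := by
        rintro _ ⟨v, hv, rfl⟩
        exact hall W (uperp hf W) (fun z hz z' hz' => eq_zero_symm hf (hz' z hz)) hside z hz hz0 hzz h v hv
      have h1 := Submodule.finrank_mono hle
      rw [finrank_map_act] at h1
      have h2 := finrank_uperp hf W
      rw [Fintype.card_fin] at h2
      omega
    · have hle : (uperp hf W).map (act g) ≤ uperp hf W := by
        rintro _ ⟨v, hv, rfl⟩
        exact hall (uperp hf W) W (fun z hz z' hz' => hz z' hz') (fun u hu h => (hside u hu h).symm)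
          z hz hz0 hzz h v hv
      have e : (uperp hf W).map (act g) = uperp hf W :=
        Submodule.eq_of_le_of_finrank_eq hle (finrank_map_act _ _)
      rw [map_uperp hf hgf] at e
      have e' : W.map (act g) = W := by rw [← uperp_uperp hf (W.map (act g)), e, uperp_uperp]
      exact hg (mem_subspaceStabilizer_of_le fun v hv => e' ▸ ⟨v, hv, rfl⟩)
  -- components in `W` that occur with every partner
  let E : (Fin n → F) → Prop := fun a => a ∈ W ∧
    ∀ b ∈ uperp hf W, b ≠ 0 → f b b = -f a a → RootIn hf M (a + b)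
  have hnorm : ∀ p r, p ∈ W → r ∈ uperp hf W → f (p + r) (p + r) = f p p + f r r := by
    intro p r hp hr
    rw [add_left hf, add_right hf, add_right hf, hr p hp, eq_zero_symm hf (hr p hp)]; ring
  have hEone : ∀ p r, p ∈ W → r ∈ uperp hf W → r ≠ 0 → RootIn hf M (p + r) → E p := by
    intro p r hp hr hr0 h
    refine ⟨hp, fun b hb hb0 hbb => rootIn_move_five hf hX hXd hXM (le_uperp_uperp hf W hp) hr hr0 hb hb0 ?_ h⟩
    rw [hbb]
    linear_combination -1 * (hnorm p r hp hr).symm.trans h.1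
  have hEsmul : ∀ (p : Fin n → F) (k : F), E p → E (k • p) := by
    intro p k hp
    obtain ⟨r, hr, hr0, hrr⟩ := hpart p
    rcases eq_or_ne k 0 with rfl | hk
    · rw [zero_smul]
      refine ⟨W.zero_mem, fun b hb _ hbb => ?_⟩
      rw [zero_add]
      exact hXM b hb (by rw [hbb, zero_left hf, neg_zero])
    · have h := rootIn_smul hf (hp.2 r hr hr0 hrr) k
      rw [smul_add] at h
      exact hEone _ _ (W.smul_mem _ hp.1) ((uperp hf W).smul_mem _ hr) (smul_ne_zero hk hr0) h
  have hEadd : ∀ p p', E p → E p' → E (p + p') := by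
    intro p p' hp hp'
    obtain ⟨r, hr, hr0, hrr⟩ := hpart p
    obtain ⟨r', hr', hr'r, hr'r', hfr⟩ := exists_vec_one hf hX hXd hr hr0 (τ (s - f p p')) (-f p' p')
      (by rw [map_neg, herm' hf])
    have hr'0 : r' ≠ 0 := fun h => hr'r (h ▸ Submodule.zero_mem _)
    have h := rootIn_add hf (hp'.2 r' hr' hr'0 hr'r') (hp.2 r hr hr0 hrr) (c := s⁻¹) (by
      rw [map_inv₀, eq_neg_of_add_eq_zero_right hs, inv_neg, add_neg_cancel])
    have hfs : f (p + r) (p' + r') = s := by
      rw [add_left hf, add_right hf, add_right hf, hr p' hp'.1, eq_zero_symm hf (hr' p hp.1),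
        ← herm' hf r' r, hfr, hf.involutive]
      ring
    rw [hfs, inv_mul_cancel₀ hs0, one_smul, show p + r + (p' + r') = p + p' + (r + r') by abel] at h
    refine hEone _ _ (W.add_mem hp.1 hp'.1) ((uperp hf W).add_mem hr hr') ?_ h
    intro h0
    apply hr'r
    rw [eq_neg_of_add_eq_zero_right h0]
    exact Submodule.neg_mem _ (Submodule.mem_span_singleton_self r)
  have hEiso : ∀ p u, E p → u ∈ W → f u u = 0 → f p u ≠ 0 → E u := by
    intro p u hp hu huu hpu
    obtain ⟨r, hr, hr0, hrr⟩ := hpart p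
    have hfu : f (p + r) u = f p u := by rw [add_left hf, hr u hu, add_zero]
    have h := rootIn_add hf (hRW u huu (Or.inl hu)) (hp.2 r hr hr0 hrr) hs
    rw [hfu, show p + r + (s * f p u) • u = p + (s * f p u) • u + r by abel] at h
    have h1 := hEone _ _ (W.add_mem hp.1 (W.smul_mem _ hu)) hr hr0 h
    have hk : s * f p u ≠ 0 := mul_ne_zero hs0 hpu
    have h2 := hEsmul _ (s * f p u)⁻¹ (hEadd _ _ h1 (hEsmul p (-1) hp))
    rwa [show p + (s * f p u) • u + (-1 : F) • p = (s * f p u) • u by module, inv_smul_smul₀ hk] at h2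
  have hEa : E a := hEone a b ha hb hb0 hab
  have hEW : ∀ p ∈ W, E p := by
    intro p hp
    by_cases hdim1 : W ≤ F ∙ a
    · obtain ⟨k, rfl⟩ := Submodule.mem_span_singleton.1 (hdim1 hp)
      exact hEsmul _ _ hEa
    obtain ⟨a', ha', ha'a⟩ := SetLike.not_le_iff_exists.1 hdim1
    -- isotropic vectors of `W` not orthogonal to a given one
    have hsep : ∀ w ∈ W, w ≠ 0 → ∃ u ∈ W, f u u = 0 ∧ f u w ≠ 0 := by
      intro w hw hw0
      by_cases hww : f w w = 0
      · obtain ⟨z, hz, hzw⟩ := (hW w hw hw0).1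
        obtain ⟨e, he⟩ := exists_isotropic_shift hf hww (show f ((f z w)⁻¹ • z) w = 1 by
          rw [smul_left hf, inv_mul_cancel₀ hzw])
        refine ⟨_, W.add_mem (W.smul_mem _ hz) (W.smul_mem e hw), he, ?_⟩
        rw [add_left hf, smul_left hf, smul_left hf, inv_mul_cancel₀ hzw, hww, mul_zero, add_zero]
        exact one_ne_zero
      obtain ⟨w', hw', hw'w, hw'0⟩ : ∃ w' ∈ W, f w' w = 0 ∧ w' ≠ 0 := by
        have hne : ∃ y ∈ W, y ∉ F ∙ w := by
          by_contra h; push Not at h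
          obtain ⟨k, rfl⟩ := Submodule.mem_span_singleton.1 (h a ha)
          have hk : k ≠ 0 := by rintro rfl; simp at ha0
          obtain ⟨j, rfl⟩ := Submodule.mem_span_singleton.1 (h a' ha')
          exact ha'a (Submodule.mem_span_singleton.2 ⟨j / k, by rw [smul_smul, div_mul_cancel₀ _ hk]⟩)
        obtain ⟨y, hy, hyw⟩ := hne
        refine ⟨y - (f y w / f w w) • w, W.sub_mem hy (W.smul_mem _ hw), ?_, fun h => hyw ?_⟩
        · rw [sub_left hf, smul_left hf, div_mul_cancel₀ _ hww, sub_self]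
        · rw [sub_eq_zero.1 h]; exact Submodule.smul_mem _ _ (Submodule.mem_span_singleton_self w)
      by_cases hw'' : f w' w' = 0
      · obtain ⟨y, hy, hyw'⟩ := (hW w' hw' hw'0).1
        obtain ⟨z, hzdef⟩ : ∃ z, z = (f y w')⁻¹ • y + (1 - f ((f y w')⁻¹ • y) w) • ((f w w)⁻¹ • w) := ⟨_, rfl⟩
        have hz : z ∈ W := hzdef ▸ W.add_mem (W.smul_mem _ hy) (W.smul_mem _ (W.smul_mem _ hw))
        have hz1 : f z w' = 1 := by
          simp only [hzdef, add_left hf, smul_left hf, eq_zero_symm hf hw'w, inv_mul_cancel₀ hyw']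
          ring
        have hz2 : f z w = 1 := by
          rw [hzdef, add_left hf, smul_left hf (1 - _), smul_left hf (f w w)⁻¹, inv_mul_cancel₀ hww]; ring
        obtain ⟨e, he⟩ := exists_isotropic_shift hf hw'' hz1
        refine ⟨_, W.add_mem hz (W.smul_mem e hw'), he, ?_⟩
        rw [add_left hf, smul_left hf, hw'w, hz2, mul_zero, add_zero]; exact one_ne_zero
      · obtain ⟨β, hβ⟩ := exists_scale hf hw'' (a := -f w w) (by rw [map_neg, herm' hf])
        refine ⟨w + β • w', W.add_mem hw (W.smul_mem β hw'), ?_, ?_⟩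
        · simp only [add_left hf, add_right hf, hβ]
          rw [smul_left hf β w' w, smul_right hf β w w', hw'w, eq_zero_symm hf hw'w]
          ring
        · rw [add_left hf, smul_left hf, hw'w, mul_zero, add_zero]; exact hww
    obtain ⟨z, hz, hzz, hza⟩ := hsep a ha ha0
    have hEz : E z := hEiso a z hEa hz hzz (ne_symm hf hza)
    have hz0 : z ≠ 0 := fun h => hza (by rw [h]; exact zero_left hf a)
    have hiso : ∀ u ∈ W, f u u = 0 → E u := by
      intro u hu huu
      rcases eq_or_ne u 0 with rfl | hu0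
      · simpa using hEsmul a 0 hEa
      by_cases h : f z u = 0
      · obtain ⟨z₁, hz₁, i1, h1⟩ := hsep z hz hz0
        have hE1 := hEiso z z₁ hEz hz₁ i1 (ne_symm hf h1)
        by_cases h2 : f z₁ u = 0
        · obtain ⟨z₂, hz₂, i2, h3⟩ := hsep u hu hu0
          refine hEiso z₂ u ?_ hu huu h3
          by_cases h4 : f z z₂ = 0
          · by_cases h5 : f z₁ z₂ = 0
            · have i3 : f (z₁ + z₂) (z₁ + z₂) = 0 := by
                rw [add_left hf, add_right hf, add_right hf, i1, i2, h5, eq_zero_symm hf h5]; ring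
              have h6 : E (z₁ + z₂) := hEiso z _ hEz (W.add_mem hz₁ hz₂) i3 (by
                rw [add_right hf, h4, add_zero]; exact ne_symm hf h1)
              have := hEadd _ _ h6 (hEsmul z₁ (-1) hE1)
              rwa [show z₁ + z₂ + (-1 : F) • z₁ = z₂ by module] at this
            · exact hEiso z₁ z₂ hE1 hz₂ i2 h5
          · exact hEiso z z₂ hEz hz₂ i2 h4
        · exact hEiso z₁ u hE1 hu huu h2
      · exact hEiso z u hEz hu huu h
    rcases eq_or_ne p 0 with rfl | hp0
    · simpa using hEsmul a 0 hEa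
    obtain ⟨u, hu, huu, hup⟩ := hsep p hp hp0
    have hk : f ((f p u)⁻¹ • p) u = 1 := by rw [smul_left hf, inv_mul_cancel₀ (ne_symm hf hup)]
    obtain ⟨e, he⟩ := exists_isotropic_shift hf huu hk
    have h1 := hiso _ (W.add_mem (W.smul_mem _ hp) (W.smul_mem e hu)) he
    have h2 := hEadd _ _ h1 (hEsmul u (-e) (hiso u hu huu))
    rw [neg_smul, add_neg_cancel_right] at h2
    have h3 := hEsmul _ (f p u) h2
    rwa [smul_inv_smul₀ (ne_symm hf hup)] at h3
  refine le_antisymm hM2 (su_le_of_utv hf hn6 M fun u c hu hc => ?_)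
  obtain ⟨p, hp, r, hr, rfl⟩ := exists_decomp hf hW u
  suffices h : RootIn hf M (p + r) from h.2 c hc
  rcases eq_or_ne r 0 with rfl | hr0
  · rw [add_zero] at hu ⊢; exact hRW p hu (Or.inl hp)
  · exact (hEW p hp).2 r hr hr0 (by linear_combination (hnorm p r hp hr).symm.trans hu)

/-- Stabilisers of pairs of complementary totally singular subspaces are maximal for `n ≥ 6`. -/
theorem singularPair_maximal {F : Type*} [Field F] [Fintype F] (n q : ℕ) (hF : Fintype.card F = q ^ 2) (hn : 6 ≤ n) (k : ℕ) (hk : 2 * k = n) (D : Fin 2 → Submodule F (Fin n → F)) (hD : Cfsg.Geo.IsMDecomposition k D) (hts : ∀ i, Cfsg.Geo.IsTotallySingularFor (Cfsg.hermForm n F q) (D i)) : Cfsg.Geo.IsMaximalIn (Cfsg.GU n F q ⊓ Cfsg.Geo.specialLinear (Fin n) F) (Cfsg.Geo.decompositionStabilizer D ⊓ (Cfsg.GU n F q ⊓ Cfsg.Geo.specialLinear (Fin n) F)) := by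
  classical
  obtain ⟨τ, hτ, hf⟩ := hermForm_isUnitary n q hF
  set f := Cfsg.hermForm n F q
  change Cfsg.Geo.IsMaximalIn (uiso f ⊓ _) (_ ⊓ (uiso f ⊓ _))
  have hn6 : 6 ≤ Fintype.card (Fin n) := by rw [Fintype.card_fin]; omega
  obtain ⟨ζ, hζ0, hζ⟩ := exists_skew hf.ne_refl hf.involutive
  have hdim := hD.finrank_eq
  have hU0 : ∀ u c, f u u = 0 → c + τ c = 0 → utv hf u c ∈ uiso f ⊓ Cfsg.Geo.specialLinear (Fin n) F :=
    fun u c hu hc => ⟨utv_mem hf hu hc, det_ptv hf (by rw [smul_right hf, hu, mul_zero])⟩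
  have hc : IsCompl (D 0) (D 1) := by
    refine ⟨hD.indep.pairwiseDisjoint (by decide : (0 : Fin 2) ≠ 1), codisjoint_iff.2 ?_⟩
    rw [eq_top_iff, ← hD.iSup_eq_top, iSup_le_iff]
    intro i; fin_cases i
    · exact le_sup_left
    · exact le_sup_right
  have hother : ∀ i : Fin 2, ∃ j, j ≠ i ∧ ∀ l, l = i ∨ l = j := by decide
  have hsplit : ∀ i j : Fin 2, j ≠ i → IsCompl (D i) (D j) := by
    intro i j hij
    fin_cases i <;> fin_cases j <;> first | exact absurd rfl hij | exact hc | exact hc.symm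
  have hrep : ∀ (i j : Fin 2), j ≠ i → ∀ v, ∃ p ∈ D i, ∃ q ∈ D j, p + q = v := by
    intro i j hij v
    refine Submodule.mem_sup.1 ?_
    rw [(hsplit i j hij).sup_eq_top]; trivial
  have hdisj : ∀ (i j : Fin 2), j ≠ i → ∀ x, x ∈ D i → x ∈ D j → x = 0 := fun i j hij x hi hj =>
    Submodule.disjoint_def.1 (hsplit i j hij).disjoint x hi hj
  have hex : ∀ i, ∃ x ∈ D i, x ≠ 0 := fun i => Submodule.exists_mem_ne_zero_of_ne_bot (by
    intro h; have := hdim i; rw [h, finrank_bot] at this; omega)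
  -- representing functionals on one member inside the other
  have hrepr : ∀ (i j : Fin 2), j ≠ i → ∀ φ : (Fin n → F) →ₗ[F] F, ∃ c ∈ D j, ∀ a ∈ D i, φ a = f a c := by
    intro i j hij φ
    obtain ⟨w, hw⟩ := Unit.exists_repr hf φ
    obtain ⟨u, hu, c, hc', rfl⟩ := hrep i j hij w
    exact ⟨c, hc', fun a ha => by rw [hw a, Unit.add_right hf, hts i a ha u hu, zero_add]⟩
  have hdual : ∀ (i j : Fin 2), j ≠ i → ∀ a ∈ D i, ∀ p ∈ D i, p ∉ F ∙ a →
      ∃ c ∈ D j, f a c = 0 ∧ f p c = 1 := by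
    intro i j hij a ha p hp hpa
    obtain ⟨φ, h0, h1⟩ := exists_dual _ hpa
    obtain ⟨c, hc', hc⟩ := hrepr i j hij φ
    exact ⟨c, hc', (hc a ha).symm.trans (h0 a (Submodule.mem_span_singleton_self a)),
      (hc p hp).symm.trans h1⟩
  have hindep : ∀ {a p : Fin n → F}, a ≠ 0 → p ∉ F ∙ a → a ∉ F ∙ p := by
    intro a p ha hp h
    obtain ⟨s, rfl⟩ := Submodule.mem_span_singleton.1 h
    have hs : s ≠ 0 := by rintro rfl; simp at ha
    exact hp (Submodule.mem_span_singleton.2 ⟨s⁻¹, inv_smul_smul₀ hs p⟩)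
  have hmem : ∀ (g : GL (Fin n) F) (σ : Equiv.Perm (Fin 2)),
      (∀ i, ∀ x ∈ D i, act g x ∈ D (σ i)) → g ∈ Cfsg.Geo.decompositionStabilizer D := fun g σ h =>
    ⟨σ, fun i => Submodule.eq_of_le_of_finrank_eq (Submodule.map_le_iff_le_comap.2 (h i))
      (by rw [toLin'_eq_act, finrank_map_act, hdim, hdim])⟩
  -- strictness
  refine ⟨lt_of_le_of_ne inf_le_right ?_, ?_⟩
  · intro heq
    obtain ⟨u, hu, hu0⟩ := hex 0
    obtain ⟨x, hx⟩ := (hf.nondegenerate u hu0).1
    obtain ⟨p, hp, w, hw, rfl⟩ := hrep 0 1 (by decide) x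
    rw [add_left hf, hts 0 p hp u hu, zero_add] at hx
    obtain ⟨σ, hσ⟩ := (inf_eq_right.1 heq) (hU0 u ζ (hts 0 u hu u hu) hζ)
    have h1 : act (utv hf u ζ) w ∈ D (σ 1) := by rw [← hσ 1]; exact ⟨w, hw, rfl⟩
    rw [act_utv hf (hts 0 u hu u hu)] at h1
    have hs : (ζ * f w u) • u ≠ 0 := smul_ne_zero (mul_ne_zero hζ0 hx) hu0
    have hw0 : w ≠ 0 := fun h => hx (by rw [h, zero_left hf])
    rcases (show σ 1 = 0 ∨ σ 1 = 1 from (by omega)) with h | h <;> rw [h] at h1
    · exact hw0 (hdisj 0 1 (by decide) w (((D 0).add_mem_iff_left ((D 0).smul_mem _ hu)).1 h1) hw)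
    · exact hs (hdisj 0 1 (by decide) _ ((D 0).smul_mem _ hu) (((D 1).add_mem_iff_right hw).1 h1))
  intro M hM1 hM2
  by_cases hsub : M ≤ Cfsg.Geo.decompositionStabilizer D
  · exact Or.inl (le_antisymm (le_inf hsub hM2) hM1)
  right
  obtain ⟨g, hgM, hg⟩ := SetLike.not_le_iff_exists.1 hsub
  have hgf : g ∈ uiso f := (hM2 hgM).1
  have hconj : ∀ {h u : GL (Fin n) F}, h ∈ M → u ∈ M → h * u * h⁻¹ ∈ M := fun hh hu =>
    M.mul_mem (M.mul_mem hh hu) (M.inv_mem hh)
  have hrootH : ∀ (i j : Fin 2), j ≠ i → ∀ a ∈ D i, ∀ b ∈ D j, f a b = 0 → uroot hf a b ∈ M := by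
    intro i j hij a ha b hb hab
    have haa := hts i a ha a ha
    have hbb := hts j b hb b hb
    refine hM1 ⟨hmem _ 1 fun l z hz => ?_, uroot_mem hf haa hbb hab⟩
    rw [act_uroot hf haa hbb hab, Equiv.Perm.one_apply]
    have hl : l = i ∨ l = j := by omega
    rcases hl with rfl | rfl
    · rw [hts l z hz a ha, zero_smul, sub_zero]; exact (D l).add_mem hz ((D l).smul_mem _ ha)
    · rw [hts l z hz b hb, zero_smul, add_zero]; exact (D l).sub_mem hz ((D l).smul_mem _ hb)
  have hskew : ∀ c, c + τ c = 0 → ∃ μ, μ - τ μ = c := by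
    intro c hc
    obtain ⟨e, he⟩ := exists_trace_one hf.involutive hf.ne_refl
    refine ⟨c * e, ?_⟩
    rw [map_mul, eq_neg_of_add_eq_zero_right hc]
    linear_combination c * he
  -- a root group from one adapted root element
  have key : ∀ (i j : Fin 2), j ≠ i → ∀ y ∈ D i, ∀ p ∈ D i, p ∉ F ∙ y → ∀ u ∈ D j,
      f (p + u) (p + u) = 0 → f (p + u) y = 0 → uroot hf (p + u) y ∈ M → RootIn hf M y := by
    intro i j hij y hy p hp hpy u hu hxx hxy hR
    have hyy := hts i y hy y hy
    refine ⟨hyy, fun c hc => ?_⟩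
    obtain ⟨μ, rfl⟩ := hskew c hc
    obtain ⟨b, hb, hyb, hpb⟩ := hdual i j hij y hy p hp hpy
    have hyb' : f y (τ μ • b) = 0 := by rw [smul_right hf, hyb, mul_zero]
    have hbb : f (τ μ • b) (τ μ • b) = 0 := hts j _ ((D j).smul_mem _ hb) _ ((D j).smul_mem _ hb)
    have hh := hrootH i j hij y hy _ ((D j).smul_mem (τ μ) hb) hyb'
    have hxb : f (p + u) b = 1 := by rw [add_left hf, hpb, hts j u hu b hb, add_zero]
    have hmv1 : act (uroot hf y (τ μ • b)) y = y := by
      rw [act_uroot hf hyy hbb hyb', hyy, hyb', zero_smul, zero_smul, add_zero, sub_zero]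
    have hmv2 : act (uroot hf y (τ μ • b)) (p + u) = p + u + μ • y := by
      rw [act_uroot hf hyy hbb hyb', hxy, smul_right hf, hxb, hf.involutive, mul_one, zero_smul, sub_zero]
    have hR' := hconj hh hR
    rw [conj_uroot hf (uroot_mem hf hyy hbb hyb').1 hxy, hmv1, hmv2] at hR'
    have e : uroot hf (p + u + μ • y) y = uroot hf (p + u) y * utv hf y (μ - τ μ) := by
      generalize p + u = x at hxx hxy hR hR' hxb hmv2
      have hyx := eq_zero_symm hf hxy
      apply gl_ext; intro z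
      rw [act_uroot hf (by
        simp only [add_left hf, add_right hf, smul_left hf, smul_right hf, hxx, hxy, hyx, hyy]; ring) hyy
        (by rw [add_left hf, smul_left hf, hxy, hyy]; ring), act_mul, act_utv hf hyy,
        act_uroot hf hxx hyy hxy]
      simp only [add_left hf, add_right hf, smul_left hf, smul_right hf, hxy, hyx, hyy]
      match_scalars <;> ring
    rw [e] at hR'
    exact (mul_mem_cancel_left hR).1 hR'
  have key2 : ∀ (i j : Fin 2), j ≠ i → ∀ y ∈ D i, y ≠ 0 → ∀ α : F, α ≠ 0 → ∀ u ∈ D j,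
      f (α • y + u) y = 0 → (∀ s : F, uroot hf (α • y + u) (s • y) ∈ M) → RootIn hf M y := by
    intro i j hij y hy hy0 α hα u hu hxy hR
    have hyy := hts i y hy y hy
    have huu := hts j u hu u hu
    have huy : f u y = 0 := by rwa [add_left hf, smul_left hf, hyy, mul_zero, zero_add] at hxy
    refine ⟨hyy, fun c hc => ?_⟩
    obtain ⟨μ, rfl⟩ := hskew c hc
    obtain ⟨s, hs⟩ : ∃ s, s = τ (μ / α) := ⟨_, rfl⟩
    have hsa : τ s * α = μ := by rw [hs, hf.involutive, div_mul_cancel₀ _ hα]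
    have hus : f u (s • y) = 0 := by rw [smul_right hf, huy, mul_zero]
    have hyu := eq_zero_symm hf huy
    have e : uroot hf (α • y + u) (s • y) = uroot hf u (s • y) * utv hf y (μ - τ μ) := by
      apply gl_ext; intro z
      rw [act_uroot hf (by
          simp only [add_left hf, add_right hf, smul_left hf, smul_right hf, hyy, huu, huy, hyu]; ring)
        (by rw [smul_left hf, smul_right hf, hyy]; ring)
        (by rw [add_left hf, smul_left hf, smul_right hf, smul_right hf, hyy, huy]; ring),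
        act_mul, act_utv hf hyy, act_uroot hf huu (by rw [smul_left hf, smul_right hf, hyy]; ring) hus,
        ← hsa, map_mul, hf.involutive]
      simp only [add_left hf, add_right hf, smul_left hf, smul_right hf, hyy, hyu]
      match_scalars <;> ring
    have h1 := hR s
    rw [e] at h1
    exact (mul_mem_cancel_left (hrootH j i hij.symm u hu _ ((D i).smul_mem s hy) hus)).1 h1
  have keyD : ∀ (i j : Fin 2), j ≠ i → ∀ y ∈ D i, y ≠ 0 → ∀ x, x ∉ D j → f x x = 0 → f x y = 0 →
      (∀ s : F, uroot hf x (s • y) ∈ M) → RootIn hf M y := by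
    intro i j hij y hy hy0 x hx hxx hxy hR
    obtain ⟨p, hp, u, hu, rfl⟩ := hrep i j hij x
    by_cases hdep : p ∈ F ∙ y
    · obtain ⟨a, rfl⟩ := Submodule.mem_span_singleton.1 hdep
      have ha : a ≠ 0 := by rintro rfl; exact hx (by simpa using hu)
      exact key2 i j hij y hy hy0 a ha u hu hxy hR
    · exact key i j hij y hy p hp hdep u hu hxx hxy (by simpa using hR 1)
  -- a root group when a component is orthogonal to both members
  have gen : ∀ (i j : Fin 2), j ≠ i → ∀ p ∈ D i, p ≠ 0 → ∀ v ∈ D j, ∀ r ∈ D i, r ∉ F ∙ p → ∀ u ∈ D j,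
      f p v = 0 → f p u = 0 → f (p + v) (r + u) = 0 → f (r + u) (r + u) = 0 →
      uroot hf (p + v) (r + u) ∈ M → RootIn hf M p := by
    intro i j hij p hp hp0 v hv r hr hrp u hu hpv hpu hxy hyy hR
    obtain ⟨b, hb, hpb, hrb⟩ := hdual i j hij p hp r hr hrp
    have hpp := hts i p hp p hp
    have hvp := eq_zero_symm hf hpv
    have hup := eq_zero_symm hf hpu
    have hxx : f (p + v) (p + v) = 0 := by
      rw [add_left hf, add_right hf, add_right hf, hpp, hpv, hvp, hts j v hv v hv]; ring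
    have hxp : f (p + v) p = 0 := by rw [add_left hf, hpp, hvp, add_zero]
    refine key2 i j hij p hp hp0 1 one_ne_zero v hv (by rw [one_smul]; exact hxp) fun s => ?_
    rw [one_smul]
    have hbb : f (τ s • b) (τ s • b) = 0 := hts j _ ((D j).smul_mem _ hb) _ ((D j).smul_mem _ hb)
    have hpb' : f p (τ s • b) = 0 := by rw [smul_right hf, hpb, mul_zero]
    have hh := hrootH i j hij p hp _ ((D j).smul_mem (τ s) hb) hpb'
    have hmx : act (uroot hf p (τ s • b)) (p + v) = p + v := by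
      rw [act_uroot hf hpp hbb hpb', hxp, smul_right hf, add_left hf, hpb, hts j v hv b hb]
      simp
    have hyp : f (r + u) p = 0 := by rw [add_left hf, hts i r hr p hp, hup, add_zero]
    have hmy : act (uroot hf p (τ s • b)) (r + u) = r + u + s • p := by
      rw [act_uroot hf hpp hbb hpb', hyp, smul_right hf, add_left hf, hrb, hts j u hu b hb, add_zero, mul_one,
        hf.involutive, zero_smul, sub_zero]
    have hR' := hconj hh hR
    rw [conj_uroot hf (uroot_mem hf hpp hbb hpb').1 hxy, hmx, hmy] at hR'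
    have e : uroot hf (p + v) (r + u + s • p) = uroot hf (p + v) (r + u) * uroot hf (p + v) (s • p) := by
      generalize p + v = x at hxx hxp hxy hR hR' hmx
      generalize r + u = y at hxy hyy hyp hR hR' hmy
      have hpx := eq_zero_symm hf hxp
      have hpy := eq_zero_symm hf hyp
      have hyx := eq_zero_symm hf hxy
      apply gl_ext; intro z
      rw [act_uroot hf hxx (by
          simp only [add_left hf, add_right hf, smul_left hf, smul_right hf, hyy, hyp, hpy, hpp]; ring)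
        (by rw [add_right hf, smul_right hf, hxy, hxp]; ring), act_mul,
        act_uroot hf hxx hyy hxy,
        act_uroot hf hxx (by rw [smul_left hf, smul_right hf, hpp]; ring) (by rw [smul_right hf, hxp, mul_zero])]
      simp only [add_left hf, add_right hf, sub_left hf, smul_left hf, smul_right hf, hxx, hxy, hpx, hpy]
      match_scalars <;> ring
    rw [e] at hR'
    exact (mul_mem_cancel_left hR).1 hR'
  -- a root group in a member
  obtain ⟨i, y, hy, hy0, hyM⟩ : ∃ (i : Fin 2) (y : Fin n → F), y ∈ D i ∧ y ≠ 0 ∧ RootIn hf M y := by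
    obtain ⟨x, y, hxx, hyy, hxy, hR, hx0, hy0, hna⟩ : ∃ x y, f x x = 0 ∧ f y y = 0 ∧ f x y = 0 ∧
        (∀ s : F, uroot hf x (s • y) ∈ M) ∧ x ≠ 0 ∧ y ≠ 0 ∧ ∀ i j : Fin 2, j ≠ i → ¬ (x ∈ D i ∧ y ∈ D j) := by
      by_contra hno; push Not at hno
      have hin : ∀ i, ∀ a ∈ D i, ∃ l, act g a ∈ D l := by
        intro i a ha
        rcases eq_or_ne a 0 with rfl | ha0
        · exact ⟨0, by simp⟩
        obtain ⟨j, hij, -⟩ := hother i
        obtain ⟨p, hp, hpa⟩ := SetLike.not_le_iff_exists.1 (show ¬ D i ≤ F ∙ a by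
          intro hle
          have := Submodule.finrank_mono hle
          rw [finrank_span_singleton ha0, hdim] at this
          omega)
        obtain ⟨b, hb, hab, hpb⟩ := hdual i j hij a ha p hp hpa
        obtain ⟨l, l', -, h1, -⟩ := hno (act g a) (act g b)
          (by rw [mem_uiso.1 hgf]; exact hts i a ha a ha) (by rw [mem_uiso.1 hgf]; exact hts j b hb b hb)
          (by rw [mem_uiso.1 hgf]; exact hab)
          (fun s => by
            have h := hconj hgM (hrootH i j hij a ha _ ((D j).smul_mem s hb) (by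
              rw [smul_right hf, hab, mul_zero]))
            rwa [conj_uroot hf hgf (by rw [smul_right hf, hab, mul_zero]), map_smul] at h)
          (fun h => ha0 (act_injective g (h.trans (map_zero _).symm)))
          (fun h => by
            have := act_injective g (h.trans (map_zero _).symm)
            rw [this, zero_right hf] at hpb; exact zero_ne_one hpb)
        exact ⟨l, h1⟩
      have hto : ∀ i, ∃ l, ∀ a ∈ D i, act g a ∈ D l := by
        intro i
        by_contra h; push Not at h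
        obtain ⟨a, ha, ha'⟩ := h 0
        obtain ⟨b, hb, hb'⟩ := h 1
        obtain ⟨l, hl⟩ := hin i (a + b) ((D i).add_mem ha hb)
        obtain ⟨la, hla⟩ := hin i a ha
        obtain ⟨lb, hlb⟩ := hin i b hb
        have ea : la = 1 := by
          by_contra hne; exact ha' ((show la = 0 by omega) ▸ hla)
        have eb : lb = 0 := by
          by_contra hne; exact hb' ((show lb = 1 by omega) ▸ hlb)
        subst ea eb
        rw [map_add] at hl
        rcases (show l = 0 ∨ l = 1 by omega) with rfl | rfl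
        · exact ha' (((D 0).add_mem_iff_left hlb).1 hl)
        · exact hb' (((D 1).add_mem_iff_right hla).1 hl)
      choose σ hσ using hto
      refine hg (hmem g (Equiv.ofBijective σ (Finite.injective_iff_bijective.1 ?_)) hσ)
      intro a b hab
      by_contra hne
      obtain ⟨u, hu, hu0⟩ := hex a
      have e2 : (D b).map (act g) = D (σ b) :=
        Submodule.eq_of_le_of_finrank_eq (Submodule.map_le_iff_le_comap.2 (hσ b))
          (by rw [finrank_map_act, hdim, hdim])
      have hgu : act g u ∈ (D b).map (act g) := by rw [e2, ← hab]; exact hσ a u hu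
      obtain ⟨w, hw, hwu⟩ := hgu
      rw [act_injective g hwu] at hw
      exact hu0 (hdisj a b (Ne.symm hne) u hu hw)
    by_cases hy' : ∃ i, y ∈ D i
    · obtain ⟨i, hi⟩ := hy'
      obtain ⟨j, hij, -⟩ := hother i
      exact ⟨i, y, hi, hy0, keyD i j hij y hi hy0 x (fun h => hna j i hij.symm ⟨h, hi⟩) hxx hxy hR⟩
    by_cases hx' : ∃ i, x ∈ D i
    · obtain ⟨i, hi⟩ := hx'
      obtain ⟨j, hij, -⟩ := hother i
      refine ⟨i, x, hi, hx0, keyD i j hij x hi hx0 y (fun h => hna i j hij ⟨hi, h⟩) hyy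
        (eq_zero_symm hf hxy) fun s => ?_⟩
      have h := hR (-τ s)
      rwa [neg_smul, ← smul_neg, ← uroot_smul hf hxx (by rw [neg_left' hf, neg_right' hf, hyy]; simp)
        (by rw [neg_right' hf, hxy, neg_zero]), ← uroot_swap hf hyy
        (by rw [smul_left hf, smul_right hf, hxx]; ring)
        (by rw [smul_right hf, eq_zero_symm hf hxy, mul_zero])] at h
    push Not at hx' hy'
    obtain ⟨p, hp, v, hv, rfl⟩ := hrep 0 1 (by decide) x
    obtain ⟨r, hr, u, hu, rfl⟩ := hrep 0 1 (by decide) y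
    have hp0 : p ≠ 0 := fun h => hx' 1 (by rw [h, zero_add]; exact hv)
    have hr0 : r ≠ 0 := fun h => hy' 1 (by rw [h, zero_add]; exact hu)
    by_cases hgood : ∃ a ∈ D 0, f a v = 0 ∧ f a u = 0 ∧ a ∉ F ∙ p ∧ a ∉ F ∙ r
    swap
    · -- the common normal is one of the two components
      push Not at hgood
      have hsw : uroot hf (r + u) (p + v) ∈ M := by
        have h := hR (-1)
        rwa [neg_one_smul, ← uroot_swap hf hyy hxx (eq_zero_symm hf hxy)] at h
      obtain ⟨a, ha, hav, hau, ha0⟩ : ∃ a ∈ D 0, f a v = 0 ∧ f a u = 0 ∧ a ≠ 0 := by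
        by_contra hno; push Not at hno
        let Φ := ((flinU hf v).prod (flinU hf u)).comp (D 0).subtype
        have h1 : LinearMap.ker Φ = ⊥ := (Submodule.eq_bot_iff _).2 fun a ha => Subtype.ext
          (hno _ a.2 (congrArg Prod.fst (LinearMap.mem_ker.1 ha)) (congrArg Prod.snd (LinearMap.mem_ker.1 ha)))
        have h3 := LinearMap.finrank_range_add_finrank_ker Φ
        have h4 := Submodule.finrank_le (LinearMap.range Φ)
        rw [Module.finrank_prod, Module.finrank_self] at h4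
        rw [h1, finrank_bot, hdim] at h3
        omega
      have hcase : (f p v = 0 ∧ f p u = 0) ∨ (f r v = 0 ∧ f r u = 0) := by
        by_cases hap : a ∈ F ∙ p
        · obtain ⟨k', rfl⟩ := Submodule.mem_span_singleton.1 hap
          have hk' : k' ≠ 0 := left_ne_zero_of_smul ha0
          rw [smul_left hf] at hav hau
          exact Or.inl ⟨(mul_eq_zero.1 hav).resolve_left hk', (mul_eq_zero.1 hau).resolve_left hk'⟩
        · obtain ⟨k', rfl⟩ := Submodule.mem_span_singleton.1 (hgood a ha hav hau hap)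
          have hk' : k' ≠ 0 := left_ne_zero_of_smul ha0
          rw [smul_left hf] at hav hau
          exact Or.inr ⟨(mul_eq_zero.1 hav).resolve_left hk', (mul_eq_zero.1 hau).resolve_left hk'⟩
      have hR1 : uroot hf (p + v) (r + u) ∈ M := by simpa using hR 1
      by_cases hrp : r ∈ F ∙ p
      swap
      · rcases hcase with ⟨h1, h2⟩ | ⟨h1, h2⟩
        · exact ⟨0, p, hp, hp0, gen 0 1 (by decide) p hp hp0 v hv r hr hrp u hu h1 h2 hxy hyy hR1⟩
        · exact ⟨0, r, hr, hr0, gen 0 1 (by decide) r hr hr0 u hu p hp (hindep hp0 hrp) v hv h2 h1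
            (eq_zero_symm hf hxy) hxx hsw⟩
      obtain ⟨k', hk'⟩ := Submodule.mem_span_singleton.1 hrp
      have hk'0 : k' ≠ 0 := fun h => hr0 (by rw [← hk', h, zero_smul])
      have hpvu : f p v = 0 ∧ f p u = 0 := by
        rcases hcase with h | ⟨h1, h2⟩
        · exact h
        · rw [← hk', smul_left hf] at h1 h2
          exact ⟨(mul_eq_zero.1 h1).resolve_left hk'0, (mul_eq_zero.1 h2).resolve_left hk'0⟩
      have hv0 : v ≠ 0 := fun h => hx' 0 (by rw [h, add_zero]; exact hp)
      have huv : u ∉ F ∙ v := by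
        intro h
        obtain ⟨l, hl⟩ := Submodule.mem_span_singleton.1 h
        let Φ := (flinU hf v).comp (D 0).subtype
        have h1 : (LinearMap.ker Φ).map (D 0).subtype ≤ F ∙ p := by
          rintro _ ⟨z, hz, rfl⟩
          have hzv : f (z : Fin n → F) v = 0 := LinearMap.mem_ker.1 hz
          by_contra hzp
          have h2 : (z : Fin n → F) ∈ F ∙ r :=
            hgood _ z.2 hzv (by rw [← hl, smul_right hf, hzv, mul_zero]) hzp
          exact hzp ((Submodule.span_singleton_le_iff_mem _ _).2 hrp h2)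
        have h2 := Submodule.finrank_mono h1
        rw [Submodule.finrank_map_subtype_eq, finrank_span_singleton hp0] at h2
        have h3 := LinearMap.finrank_range_add_finrank_ker Φ
        have h4 := Submodule.finrank_le (LinearMap.range Φ)
        rw [Module.finrank_self] at h4
        rw [hdim] at h3
        omega
      refine ⟨1, v, hv, hv0, gen 1 0 (by decide) v hv hv0 p hp u hu huv r hr (eq_zero_symm hf hpvu.1) ?_ ?_ ?_ ?_⟩
      · rw [← hk', smul_right hf, eq_zero_symm hf hpvu.1, mul_zero]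
      · rw [add_comm v, add_comm u]; exact hxy
      · rw [add_comm u]; exact hyy
      · rw [add_comm v, add_comm u]; exact hR1
    obtain ⟨a, ha, hav, hau, hap, har⟩ := hgood
    have ha0 : a ≠ 0 := fun h => hap (by rw [h]; exact Submodule.zero_mem _)
    have hpa : p ∉ F ∙ a := fun h => hap (by
      obtain ⟨l, hl⟩ := Submodule.mem_span_singleton.1 h
      have hl0 : l ≠ 0 := fun e => hp0 (by rw [← hl, e, zero_smul])
      exact Submodule.mem_span_singleton.2 ⟨l⁻¹, by rw [← hl, inv_smul_smul₀ hl0]⟩)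
    have hra : r ∉ F ∙ a := fun h => har (by
      obtain ⟨l, hl⟩ := Submodule.mem_span_singleton.1 h
      have hl0 : l ≠ 0 := fun e => hr0 (by rw [← hl, e, zero_smul])
      exact Submodule.mem_span_singleton.2 ⟨l⁻¹, by rw [← hl, inv_smul_smul₀ hl0]⟩)
    have haa := hts 0 a ha a ha
    obtain ⟨b, hb, hab, hpb⟩ := hdual 0 1 (by decide) a ha p hp hpa
    have hbb := hts 1 b hb b hb
    obtain ⟨ρ, hρ⟩ : ∃ ρ, ρ = f r b := ⟨_, rfl⟩
    obtain ⟨s, hs, hsρ⟩ : ∃ s : F, s ≠ 0 ∧ (ρ ≠ 0 → s * ρ - τ (s * ρ) ≠ 0) := by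
      rcases eq_or_ne ρ 0 with h | h
      · exact ⟨1, one_ne_zero, fun h' => absurd h h'⟩
      · obtain ⟨μ, hμ⟩ := exists_moved hf.ne_refl
        have hμ0 : μ ≠ 0 := by rintro rfl; exact hμ (map_zero _)
        exact ⟨μ / ρ, div_ne_zero hμ0 h, fun _ => by
          rw [div_mul_cancel₀ _ h]; exact sub_ne_zero.2 (Ne.symm hμ)⟩
    obtain ⟨γ, hγ⟩ : ∃ γ, γ = s * ρ := ⟨_, rfl⟩
    have hxa : f (p + v) a = 0 := by
      rw [add_left hf, hts 0 p hp a ha, eq_zero_symm hf hav, add_zero]
    have hya : f (r + u) a = 0 := by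
      rw [add_left hf, hts 0 r hr a ha, eq_zero_symm hf hau, add_zero]
    have hxb : f (p + v) b = 1 := by rw [add_left hf, hpb, hts 1 v hv b hb, add_zero]
    have hyb : f (r + u) b = ρ := by rw [add_left hf, ← hρ, hts 1 u hu b hb, add_zero]
    have hxw : f (p + v) (s • (r + u)) = 0 := by rw [smul_right hf, hxy, mul_zero]
    have hh := hrootH 0 1 (by decide) a ha b hb hab
    have hR' := hconj hh (hR s)
    have hwb : f (s • (r + u)) b = γ := by rw [smul_left hf, hyb, hγ]
    have hwa : f (s • (r + u)) a = 0 := by rw [smul_left hf, hya, mul_zero]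
    rw [conj_uroot hf (uroot_mem hf haa hbb hab).1 hxw, act_uroot hf haa hbb hab, act_uroot hf haa hbb hab,
      hxb, hxa, hwb, hwa, zero_smul, sub_zero, sub_zero, one_smul] at hR'
    obtain ⟨W, hW⟩ : ∃ W, W = s • (r + u) - τ γ • (p + v) + γ • a := ⟨_, rfl⟩
    have hww : f (s • (r + u)) (s • (r + u)) = 0 := by rw [smul_left hf, smul_right hf, hyy]; ring
    have hWW : f W W = 0 ∧ f a W = 0 ∧ uroot hf (p + v + a) (s • (r + u) + γ • a) =
        uroot hf (p + v) (s • (r + u)) * uroot hf a W := by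
      generalize p + v = x at hxa hxw hxx hW ⊢
      generalize s • (r + u) = w at hwa hxw hww hW ⊢
      have hax := eq_zero_symm hf hxa
      have haw := eq_zero_symm hf hwa
      have hwx := eq_zero_symm hf hxw
      have h1 : f W W = 0 := by
        simp only [hW, add_left hf, add_right hf, sub_left hf, sub_right hf, smul_left hf, smul_right hf,
          hxx, hxw, hxa, hax, haw, hwa, hwx, haa, hww]
        ring
      have h2 : f a W = 0 := by
        simp only [hW, add_right hf, sub_right hf, smul_right hf, hax, haw, haa]; ring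
      refine ⟨h1, h2, ?_⟩
      apply gl_ext; intro z
      rw [act_uroot hf (by simp only [add_left hf, add_right hf, hxx, hax, hxa, haa]; ring)
        (by simp only [add_left hf, add_right hf, smul_left hf, smul_right hf, hww, hwa, haw, haa]; ring)
        (by simp only [add_left hf, add_right hf, smul_right hf, hxw, hxa, haw, haa]; ring),
        act_mul, act_uroot hf hxx hww hxw, act_uroot hf haa h1 h2]
      simp only [hW, add_left hf, add_right hf, sub_left hf, sub_right hf, smul_left hf, smul_right hf,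
        hf.involutive, hxx, hxw, hxa, hax, haw, hwa, hwx, haa, hww]
      match_scalars <;> ring
    obtain ⟨hWW, haW, e⟩ := hWW
    rw [e] at hR'
    have hR'' := (mul_mem_cancel_left (hR s)).1 hR'
    rw [uroot_swap hf haa hWW haW] at hR''
    obtain ⟨P, hPdef⟩ : ∃ P, P = s • r - τ γ • p + γ • a := ⟨_, rfl⟩
    have hWdec : W = P + (s • u - τ γ • v) := by rw [hW, hPdef]; module
    have hP : P ∈ D 0 := hPdef ▸ (D 0).add_mem ((D 0).sub_mem ((D 0).smul_mem _ hr) ((D 0).smul_mem _ hp))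
      ((D 0).smul_mem _ ha)
    have hPa : P ∉ F ∙ (-a) := by
      intro h
      obtain ⟨l, hl⟩ := Submodule.mem_span_singleton.1 h
      have hP2 : f P b = 0 := by rw [← hl, smul_left hf, neg_left' hf, hab, neg_zero, mul_zero]
      rw [hPdef, add_left hf, sub_left hf, smul_left hf, smul_left hf, smul_left hf, hpb, hab, ← hρ, ← hγ]
        at hP2
      have hγγ : γ - τ γ = 0 := by linear_combination hP2
      by_cases hρ0 : ρ = 0
      · rw [hγ, hρ0, mul_zero] at hPdef
        simp only [map_zero, zero_smul, sub_zero, add_zero] at hPdef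
        apply hra
        refine ((F ∙ a).smul_mem_iff hs).1 ?_
        rw [← hPdef, ← hl, smul_neg, ← neg_smul]
        exact Submodule.smul_mem _ _ (Submodule.mem_span_singleton_self a)
      · exact hsρ hρ0 (hγ ▸ hγγ)
    refine ⟨0, -a, (D 0).neg_mem ha, neg_ne_zero.2 ha0, key 0 1 (by decide) (-a) ((D 0).neg_mem ha) P hP hPa
      _ ((D 1).sub_mem ((D 1).smul_mem s hu) ((D 1).smul_mem (τ γ) hv)) ?_ ?_ ?_⟩
    · rw [← hWdec]; exact hWW
    · rw [← hWdec, neg_right' hf, eq_zero_symm hf haW, neg_zero]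
    · rw [← hWdec]; exact hR''
  obtain ⟨j, hij, hcov⟩ := hother i
  -- all of `D i`
  have hstep : ∀ u ∈ D i, ∀ w ∈ D i, u ≠ 0 → w ∉ F ∙ u → RootIn hf M u → RootIn hf M w := by
    intro u hu w hw hu0 hwu hM
    have hd : w - u ∈ D i := (D i).sub_mem hw hu
    have hn : u ∉ F ∙ (w - u) := by
      intro h
      obtain ⟨s, hs⟩ := Submodule.mem_span_singleton.1 h
      have hs0 : s ≠ 0 := by rintro rfl; rw [zero_smul] at hs; exact hu0 hs.symm
      apply hwu
      refine Submodule.mem_span_singleton.2 ⟨s⁻¹ + 1, ?_⟩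
      have h8 : w - u = s⁻¹ • u := by rw [← inv_smul_smul₀ hs0 (w - u), hs]
      rw [add_smul, one_smul, ← h8, sub_add_cancel]
    obtain ⟨b, hb, hab, hub⟩ := hdual i j hij (w - u) hd u hu hn
    have hh := hrootH i j hij _ hd b hb hab
    have hdd := hts i _ hd _ hd
    have hbb := hts j b hb b hb
    have := rootIn_conj hf hh (uroot_mem hf hdd hbb hab).1 hM
    rwa [act_uroot hf hdd hbb hab, hts i u hu _ hd, hub, zero_smul, sub_zero, one_smul, add_sub_cancel] at this
  have hR0 : RootIn hf M (0 : Fin n → F) := by simpa using rootIn_smul hf hyM 0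
  have hall : ∀ w ∈ D i, RootIn hf M w := by
    intro w hw
    rcases eq_or_ne w 0 with rfl | hw0
    · exact hR0
    by_cases h : w ∈ F ∙ y
    · obtain ⟨z, hz, hzy⟩ := SetLike.not_le_iff_exists.1 (show ¬ D i ≤ F ∙ y by
        intro hle
        have := Submodule.finrank_mono hle
        rw [finrank_span_singleton hy0, hdim] at this
        omega)
      have hz0 : z ≠ 0 := fun h => hzy (by rw [h]; exact Submodule.zero_mem _)
      refine hstep z hz w hw hz0 (fun hwz => ?_) (hstep y hy z hz hy0 hzy hyM)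
      obtain ⟨s, rfl⟩ := Submodule.mem_span_singleton.1 hwz
      have hs : s ≠ 0 := by rintro rfl; simp at hw0
      exact hzy ((Submodule.smul_mem_iff _ hs).1 h)
    · exact hstep y hy w hw hy0 h hyM
  -- the exchange of the two subspaces
  obtain ⟨h, hhf, hhi, hhj⟩ : ∃ h ∈ uiso f ⊓ Cfsg.Geo.specialLinear (Fin n) F,
      (∀ a ∈ D i, act h a ∈ D j) ∧ ∀ b ∈ D j, act h b ∈ D i := by
    let B := Module.finBasis F (D i)
    have hw : ∀ l, ∃ w ∈ D j, ∀ m, f (B m : Fin n → F) w = if m = l then 1 else 0 := by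
      intro l
      obtain ⟨φ, hφ⟩ := (B.coord l).exists_extend
      obtain ⟨w, hw, hwφ⟩ := hrepr i j hij φ
      refine ⟨w, hw, fun m => ?_⟩
      rw [← hwφ _ (B m).2, show φ (B m : Fin n → F) = B.coord l (B m) from LinearMap.congr_fun hφ (B m)]
      simp [Finsupp.single_apply]
    choose w hwj hwB using hw
    have hwB' : ∀ m l, f (w l) (B m : Fin n → F) = if m = l then 1 else 0 := by
      intro m l
      rw [← herm' hf, hwB]; split <;> simp
    have hspan : ∀ x ∈ D j, x = ∑ l, f x (B l : Fin n → F) • w l := by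
      intro x hx
      by_contra hne
      obtain ⟨d, hd⟩ : ∃ d, d = x - ∑ l, f x (B l : Fin n → F) • w l := ⟨_, rfl⟩
      have hd0 : d ≠ 0 := hd ▸ sub_ne_zero.2 hne
      have hdj : d ∈ D j := hd ▸ (D j).sub_mem hx ((D j).sum_mem fun l _ => (D j).smul_mem _ (hwj l))
      have hker : ∀ a ∈ D i, f a d = 0 := by
        have h1 : ∀ m, f d (B m : Fin n → F) = 0 := by
          intro m
          rw [hd, ← flinU_apply hf, map_sub, map_sum]
          simp [flinU_apply, hwB']
        intro a ha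
        have e : a = ∑ m, B.repr ⟨a, ha⟩ m • (B m : Fin n → F) := by
          simpa only [map_sum, map_smul, Submodule.subtype_apply] using (congrArg (D i).subtype (B.sum_repr ⟨a, ha⟩)).symm
        rw [e, ← flinU_apply hf, map_sum]
        exact Finset.sum_eq_zero fun m _ => by rw [map_smul, flinU_apply, eq_zero_symm hf (h1 m), smul_zero]
      obtain ⟨z, hz⟩ := (hf.nondegenerate d hd0).1
      obtain ⟨a, ha, b, hb, rfl⟩ := hrep i j hij z
      exact hz (by rw [add_left hf, hker a ha, hts j b hb d hdj, add_zero])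
    have hBB : ∀ l m, f (B l : Fin n → F) (B m : Fin n → F) = 0 := fun l m => hts i _ (B l).2 _ (B m).2
    have hww : ∀ l m, f (w l) (w m) = 0 := fun l m => hts j _ (hwj l) _ (hwj m)
    have hζ' : (-ζ⁻¹) + τ (-ζ⁻¹) = 0 := by
      rw [map_neg, map_inv₀, eq_neg_of_add_eq_zero_right hζ, inv_neg]; ring
    have ind : ∀ s : Finset (Fin (Module.finrank F (D i))), ∃ h ∈ uiso f ⊓ Cfsg.Geo.specialLinear (Fin n) F,
        ∀ l, (l ∈ s → act h (B l : Fin n → F) = (-ζ⁻¹) • w l ∧ act h (w l) = ζ • (B l : Fin n → F)) ∧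
          (l ∉ s → act h (B l : Fin n → F) = (B l : Fin n → F) ∧ act h (w l) = w l) := by
      intro s
      induction s using Finset.induction_on with
      | empty => exact ⟨1, one_mem _, fun l => ⟨fun h => absurd h (Finset.notMem_empty l),
          fun _ => by simp [act_one]⟩⟩
      | insert a s has ih =>
        obtain ⟨h, hh, hl⟩ := ih
        obtain ⟨T, hT⟩ : ∃ T, T = utv hf (B a : Fin n → F) ζ * utv hf (w a) (-ζ⁻¹) *
            utv hf (B a : Fin n → F) ζ := ⟨_, rfl⟩
        have hTmem : T ∈ uiso f ⊓ Cfsg.Geo.specialLinear (Fin n) F := hT ▸ mul_mem (mul_mem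
          (hU0 _ _ (hBB a a) hζ) (hU0 _ _ (hww a a) hζ')) (hU0 _ _ (hBB a a) hζ)
        have hTB : act T (B a : Fin n → F) = (-ζ⁻¹) • w a := by
          simp only [hT, act_mul, act_utv hf (hBB a a), act_utv hf (hww a a), add_left hf, smul_left hf,
            hBB, hwB, hwB', if_true]
          match_scalars <;> field_simp <;> ring
        have hTw : act T (w a) = ζ • (B a : Fin n → F) := by
          simp only [hT, act_mul, act_utv hf (hBB a a), act_utv hf (hww a a), add_left hf, smul_left hf,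
            hBB, hww, hwB, hwB', if_true]
          match_scalars <;> field_simp <;> ring
        have hTfix : ∀ l, l ≠ a → act T (B l : Fin n → F) = (B l : Fin n → F) ∧ act T (w l) = w l := by
          intro l hla
          constructor <;>
          · simp only [hT, act_mul, act_utv hf (hBB a a), act_utv hf (hww a a), hBB, hww, hwB, hwB',
              if_neg hla, if_neg (Ne.symm hla), mul_zero, zero_smul, add_zero]
        refine ⟨T * h, mul_mem hTmem hh, fun l => ⟨fun hm => ?_, fun hm => ?_⟩⟩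
        · rcases Finset.mem_insert.1 hm with rfl | hm
          · rw [act_mul, act_mul, ((hl l).2 has).1, ((hl l).2 has).2]; exact ⟨hTB, hTw⟩
          · have hla : l ≠ a := fun e => has (e ▸ hm)
            rw [act_mul, act_mul, ((hl l).1 hm).1, ((hl l).1 hm).2, map_smul, map_smul, (hTfix l hla).1,
              (hTfix l hla).2]
            exact ⟨rfl, rfl⟩
        · rw [Finset.mem_insert, not_or] at hm
          rw [act_mul, act_mul, ((hl l).2 hm.2).1, ((hl l).2 hm.2).2]
          exact hTfix l hm.1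
    obtain ⟨h, hh, hl⟩ := ind Finset.univ
    refine ⟨h, hh, fun a ha => ?_, fun b hb => ?_⟩
    · have e : a = ∑ m, B.repr ⟨a, ha⟩ m • (B m : Fin n → F) := by
        simpa only [map_sum, map_smul, Submodule.subtype_apply] using (congrArg (D i).subtype (B.sum_repr ⟨a, ha⟩)).symm
      rw [e, map_sum]
      exact (D j).sum_mem fun m _ => by
        rw [map_smul, ((hl m).1 (Finset.mem_univ m)).1]; exact (D j).smul_mem _ ((D j).smul_mem _ (hwj m))
    · rw [hspan b hb, map_sum]
      exact (D i).sum_mem fun m _ => by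
        rw [map_smul, ((hl m).1 (Finset.mem_univ m)).2]; exact (D i).smul_mem _ ((D i).smul_mem _ (B m).2)
  have hhM : h ∈ M := by
    refine hM1 ⟨hmem h (Equiv.swap i j) fun l z hz => ?_, hhf⟩
    rcases hcov l with rfl | rfl
    · rw [Equiv.swap_apply_left]; exact hhi z hz
    · rw [Equiv.swap_apply_right]; exact hhj z hz
  have hfullj : ∀ w ∈ D j, RootIn hf M w := by
    intro w hw
    have hmap : (D i).map (act h) = D j :=
      Submodule.eq_of_le_of_finrank_eq (Submodule.map_le_iff_le_comap.2 hhi)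
        (by rw [finrank_map_act, hdim, hdim])
    obtain ⟨a, ha, rfl⟩ : w ∈ (D i).map (act h) := hmap ▸ hw
    exact rootIn_conj hf hhM hhf.1 (hall a ha)
  refine le_antisymm hM2 (su_le_of_utv hf hn6 M fun v c hv hc => ?_)
  suffices h : RootIn hf M v from h.2 c hc
  obtain ⟨p, hp, w, hw, rfl⟩ := hrep i j hij v
  have hpw : f p w + τ (f p w) = 0 := by
    rw [herm' hf]
    rwa [add_left hf, add_right hf, add_right hf, hts i p hp p hp, hts j w hw w hw, zero_add, add_zero] at hv
  -- adding a vector of `D j` along a skew product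
  have hadd : ∀ x z, RootIn hf M x → z ∈ D j → f x z ≠ 0 → f x z + τ (f x z) = 0 → RootIn hf M (x + z) := by
    intro x z hx hz hne hsk
    have := rootIn_add hf (hfullj z hz) hx (c := (f x z)⁻¹) (by
      rw [map_inv₀, eq_neg_of_add_eq_zero_right hsk, inv_neg, add_neg_cancel])
    rwa [inv_mul_cancel₀ hne, one_smul] at this
  by_cases h0 : f p w = 0
  · rcases eq_or_ne p 0 with rfl | hp0
    · rw [zero_add]; exact hfullj w hw
    obtain ⟨φ, -, hφ⟩ := exists_dual (⊥ : Submodule F (Fin n → F)) (by simpa using hp0)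
    obtain ⟨z, hz, hzφ⟩ := hrepr i j hij (ζ • φ)
    have hpz : f p z = ζ := by rw [← hzφ p hp, LinearMap.smul_apply, hφ, smul_eq_mul, mul_one]
    have h1 := hadd p z (hall p hp) hz (by rw [hpz]; exact hζ0) (by rw [hpz]; exact hζ)
    have e : f (p + z) (w - z) = -ζ := by
      rw [add_left hf, sub_right hf, sub_right hf, h0, hpz, hts j z hz w hw, hts j z hz z hz]; ring
    have h2 := hadd (p + z) (w - z) h1 ((D j).sub_mem hw hz) (by rw [e]; exact neg_ne_zero.2 hζ0)
      (by rw [e, map_neg]; linear_combination -hζ)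
    convert h2 using 1; abel
  · exact hadd p w (hall p hp) hw h0 hpw

/-- Subfield groups of symplectic type are maximal for `n ≥ 6`. -/
theorem sympSubfield_maximal {F : Type*} [Field F] [Fintype F] (n q : ℕ) (hF : Fintype.card F = q ^ 2) (hn : 6 ≤ n) (heven : Even n) (F₀ : Subfield F) (hcard : Fintype.card F = Nat.card F₀ ^ 2) (ζ : F) (hζ0 : ζ ≠ 0) (hζ : ζ + ζ ^ q = 0) (P : Matrix.GeneralLinearGroup (Fin n) F) (hP : Cfsg.Geo.IsFormRationalStructure (Cfsg.hermForm n F q) F₀ ζ P) (halt : ∀ u : Fin n → F, (∀ i, u i ∈ F₀) → Cfsg.hermForm n F q (Matrix.mulVec (P : Matrix (Fin n) (Fin n) F) u) (Matrix.mulVec (P : Matrix (Fin n) (Fin n) F) u) = 0) : Cfsg.Geo.IsMaximalIn (Cfsg.GU n F q ⊓ Cfsg.Geo.specialLinear (Fin n) F) (Cfsg.Geo.subfieldSubgroup F₀ P ⊓ (Cfsg.GU n F q ⊓ Cfsg.Geo.specialLinear (Fin n) F)) := by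
  classical
  obtain ⟨τ, hτ, hf⟩ := hermForm_isUnitary n q hF
  set f := Cfsg.hermForm n F q
  change Cfsg.Geo.IsMaximalIn (uiso f ⊓ _) (_ ⊓ (uiso f ⊓ _))
  haveI : Fintype F₀ := Fintype.ofFinite _
  have hn6 : 6 ≤ Fintype.card (Fin n) := by rw [Fintype.card_fin]; omega
  have hsk : ζ + τ ζ = 0 := by rw [hτ]; exact hζ
  have hτζ : τ ζ = -ζ := eq_neg_of_add_eq_zero_right hsk
  have hq : Fintype.card F₀ = q := by
    rw [hF, Nat.card_eq_fintype_card (α := F₀)] at hcard
    exact ((pow_left_inj₀ (Nat.zero_le _) (Nat.zero_le _) (two_ne_zero)).1 hcard).symm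
  have hfix₁ : ∀ a ∈ F₀, τ a = a := by
    intro a ha
    rw [hτ, ← hq]
    exact congrArg Subtype.val (FiniteField.pow_card (⟨a, ha⟩ : F₀))
  have hfix₂ : ∀ a : F, τ a = a → a ∈ F₀ := by
    intro a ha
    have hq1 : 1 < q := hq ▸ Fintype.one_lt_card
    let p : Polynomial F := Polynomial.X ^ q - Polynomial.X
    have hne : p ≠ 0 := FiniteField.X_pow_card_sub_X_ne_zero F hq1
    have hroot : ∀ x : F, τ x = x → x ∈ p.roots.toFinset := by
      intro x hx
      rw [Multiset.mem_toFinset, Polynomial.mem_roots hne]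
      simp [p, ← hτ, hx]
    have hsub : (Finset.univ.image fun x : F₀ => (x : F)) = p.roots.toFinset := by
      refine Finset.eq_of_subset_of_card_le (fun x hx => ?_) ?_
      · obtain ⟨y, -, rfl⟩ := Finset.mem_image.1 hx
        exact hroot _ (hfix₁ _ y.2)
      · rw [Finset.card_image_of_injective _ Subtype.val_injective, Finset.card_univ, hq]
        refine ((Multiset.toFinset_card_le _).trans (Polynomial.card_roots' p)).trans ?_
        simp only [p]; rw [FiniteField.X_pow_card_sub_X_natDegree_eq F hq1]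
    have := hroot a ha
    rw [← hsub] at this
    obtain ⟨y, -, rfl⟩ := Finset.mem_image.1 this
    exact y.2
  obtain ⟨θ, hθ⟩ := exists_moved hf.ne_refl
  have hθd : θ - τ θ ≠ 0 := sub_ne_zero.2 (Ne.symm hθ)
  -- rational vectors
  let E : (Fin n → F₀) → (Fin n → F) := fun u => act P fun i => (u i : F)
  have hEadd : ∀ u v, E (u + v) = E u + E v := fun u v => by simp only [E, ← map_add]; rfl
  have hEsub : ∀ u v, E (u - v) = E u - E v := fun u v => by simp only [E, ← map_sub]; rfl
  have hEsmul : ∀ (c : F₀) u, E (c • u) = (c : F) • E u := fun c u => by simp only [E, ← map_smul]; rfl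
  have hE0 : E 0 = 0 := by simpa using hEsmul 0 0
  have hEinj : ∀ u, E u = 0 → u = 0 := fun u h => by
    have h' := act_injective P (h.trans (map_zero _).symm)
    funext i; exact Subtype.ext (congrFun h' i)
  have hEL : ∀ u, E u ∈ ratVec F₀ P := fun u => ⟨_, fun i => (u i).2, rfl⟩
  have hLE : ∀ x ∈ ratVec F₀ P, ∃ u, E u = x := by
    rintro _ ⟨u, hu, rfl⟩; exact ⟨fun i => ⟨u i, hu i⟩, rfl⟩
  have hEdec : ∀ v, ∃ x y, v = E x + θ • E y := by
    intro v
    obtain ⟨b, hb⟩ : ∃ b : Fin n → F, b = fun i => (act P⁻¹ v i - τ (act P⁻¹ v i)) / (θ - τ θ) := ⟨_, rfl⟩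
    have hb' : ∀ i, τ (b i) = b i := fun i => by
      rw [hb]; simp only [map_div₀, map_sub, hf.involutive]
      rw [div_eq_div_iff (sub_ne_zero.2 hθ) hθd]; ring
    have ha' : ∀ i, τ (act P⁻¹ v i - θ * b i) = act P⁻¹ v i - θ * b i := by
      intro i
      have e : b i * (θ - τ θ) = act P⁻¹ v i - τ (act P⁻¹ v i) := by rw [hb]; exact div_mul_cancel₀ _ hθd
      rw [map_sub, map_mul, hb' i]
      linear_combination e
    refine ⟨fun i => ⟨_, hfix₂ _ (ha' i)⟩, fun i => ⟨_, hfix₂ _ (hb' i)⟩, ?_⟩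
    simp only [E]
    rw [← map_smul, ← map_add]
    conv_lhs => rw [← act_act_inv P v]
    congr 1; funext i; simp
  have hmemh : ∀ u v, ζ * f (E u) (E v) ∈ F₀ := fun u v => by
    simp only [E, act_apply]; exact hP _ _ (fun i => (u i).2) (fun i => (v i).2)
  let h₀ : (Fin n → F₀) → (Fin n → F₀) → F₀ := fun u v => ⟨ζ * f (E u) (E v), hmemh u v⟩
  have hh₀ : ∀ u v, (h₀ u v : F) = ζ * f (E u) (E v) := fun u v => rfl
  have hEself : ∀ u, f (E u) (E u) = 0 := fun u => by
    simp only [E, act_apply]; exact halt _ (fun i => (u i).2)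
  have hskew : ∀ u v, f (E v) (E u) = -f (E u) (E v) := by
    intro u v
    have := hEself (u + v)
    rw [hEadd, add_left hf, add_right hf, add_right hf, hEself, hEself] at this
    linear_combination this
  have hh : Cfsg.Geo.IsSymplecticForm h₀ := by
    refine ⟨⟨fun x y v => ?_, fun c x v => ?_, fun v x y => ?_, fun c v x => ?_⟩, fun v w => ?_,
      fun v => ?_, fun v hv => ?_⟩
    · apply Subtype.ext; simp only [Subfield.coe_add, hh₀, hEadd, add_left hf]; ring
    · apply Subtype.ext; simp only [Subfield.coe_mul, hh₀, hEsmul, smul_left hf]; ring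
    · apply Subtype.ext; simp only [Subfield.coe_add, hh₀, hEadd, add_right hf]; ring
    · apply Subtype.ext
      simp only [Subfield.coe_mul, hh₀, hEsmul, smul_right hf, hfix₁ _ c.2]; ring
    · apply Subtype.ext; simp only [Subfield.coe_neg, hh₀, hskew w v]; ring
    · apply Subtype.ext; simp only [hh₀, hEself, mul_zero, Subfield.coe_zero]
    · have key : ∃ x, h₀ x v ≠ 0 := by
        by_contra hno; push Not at hno
        apply hv; apply hEinj
        by_contra hne
        obtain ⟨z, hz⟩ := (hf.nondegenerate _ hne).1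
        obtain ⟨a, b, rfl⟩ := hEdec z
        have e1 : ∀ u, f (E u) (E v) = 0 := fun u =>
          (mul_eq_zero.1 (congrArg Subtype.val (hno u) : ζ * f (E u) (E v) = 0)).resolve_left hζ0
        exact hz (by rw [add_left hf, smul_left hf, e1, e1]; ring)
      obtain ⟨x, hx⟩ := key
      exact ⟨⟨x, hx⟩, ⟨x, fun h => hx (Subtype.ext (by
        have : ζ * f (E v) (E x) = 0 := congrArg Subtype.val h
        simp only [hh₀, hskew v x, Subfield.coe_zero]; linear_combination -this))⟩⟩
  have hfh : ∀ u v, f (E u) (E v) = (h₀ u v : F) / ζ := fun u v => by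
    rw [hh₀, mul_div_cancel_left₀ _ hζ0]
  -- transvections at rational vectors
  have hcskew : ∀ c, c + τ c = 0 → c / ζ ∈ F₀ := fun c hc => hfix₂ _ (by
    rw [map_div₀, eq_neg_of_add_eq_zero_right hc, hτζ, neg_div_neg_eq])
  have hU0 : ∀ u c, f u u = 0 → c + τ c = 0 → utv hf u c ∈ uiso f ⊓ Cfsg.Geo.specialLinear (Fin n) F :=
    fun u c hu hc => ⟨utv_mem hf hu hc, det_ptv hf (by rw [smul_right hf, hu, mul_zero])⟩
  have hH : ∀ l c, c + τ c = 0 → utv hf (E l) c ∈ Cfsg.Geo.subfieldSubgroup F₀ P := by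
    intro l c hc
    refine mem_subfieldSubgroup F₀ P one_ne_zero fun x hx => ?_
    obtain ⟨u, rfl⟩ := hLE x hx
    rw [inv_one, one_smul, act_utv hf (hEself l), hfh, ← mul_div_assoc, mul_div_right_comm]
    exact (ratVec F₀ P).add_mem (hEL u) (ratVec_smul (F₀.mul_mem (hcskew c hc) (h₀ u l).2) (hEL l))
  -- duals
  have hdual : ∀ a b : Fin n → F₀, b ∉ F₀ ∙ a → ∃ c, h₀ b c = 1 ∧ h₀ a c = 0 := by
    intro a b hb
    obtain ⟨φ, h0, h1⟩ := exists_dual _ hb
    obtain ⟨c, hc⟩ := Cfsg.Agent.MaxCl.exists_repr hh φ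
    exact ⟨c, (hc b).symm.trans h1, (hc a).symm.trans (h0 a (Submodule.mem_span_singleton_self a))⟩
  have hscal : ∀ (u : Fin n → F₀) (s : F), u ≠ 0 → s • E u ∈ ratVec F₀ P → s ∈ F₀ := by
    intro u s hu hmem
    obtain ⟨w, hw⟩ := hLE _ hmem
    obtain ⟨c, hc, -⟩ := hdual 0 u (by simpa [Submodule.mem_span_singleton] using hu)
    have e1 : (h₀ w c : F) = s * (h₀ u c : F) := by
      rw [hh₀, hh₀, hw, smul_left hf]; ring
    rw [hc, Subfield.coe_one, mul_one] at e1
    exact e1 ▸ (h₀ w c).2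
  have hperp : ∀ a b : Fin n → F₀, ∃ z, h₀ z a = 0 ∧ h₀ z b = 0 ∧ z ∉ Submodule.span F₀ {a, b} := by
    intro a b
    have hle : ¬ LinearMap.ker (flin hh.bilinear a) ⊓ LinearMap.ker (flin hh.bilinear b) ≤ Submodule.span F₀ {a, b} := by
      intro hle
      have h1 := Submodule.finrank_mono hle
      have h2 : Module.finrank F₀ (Submodule.span F₀ ({a, b} : Set (Fin n → F₀))) ≤ 2 := by
        refine (finrank_span_le_card ({a, b} : Set (Fin n → F₀))).trans ?_
        simp only [Set.toFinset_insert, Set.toFinset_singleton]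
        exact Finset.card_le_two
      have h3 := LinearMap.finrank_range_add_finrank_ker (flin hh.bilinear a)
      have h4 := LinearMap.finrank_range_add_finrank_ker (flin hh.bilinear b)
      have h5 := Submodule.finrank_sup_add_finrank_inf_eq (LinearMap.ker (flin hh.bilinear a)) (LinearMap.ker (flin hh.bilinear b))
      have h6 := Submodule.finrank_le (LinearMap.ker (flin hh.bilinear a) ⊔ LinearMap.ker (flin hh.bilinear b))
      have h7 := Submodule.finrank_le (LinearMap.range (flin hh.bilinear a))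
      have h8 := Submodule.finrank_le (LinearMap.range (flin hh.bilinear b))
      simp only [Module.finrank_self, Module.finrank_fin_fun] at h3 h4 h6 h7 h8
      omega
    obtain ⟨z, hz, hz'⟩ := SetLike.not_le_iff_exists.1 hle
    exact ⟨z, LinearMap.mem_ker.1 hz.1, LinearMap.mem_ker.1 hz.2, hz'⟩
  have hiso : ∀ x y, f (E x + θ • E y) (E x + θ • E y) = (τ θ - θ) * f (E x) (E y) := by
    intro x y
    simp only [add_left hf, add_right hf, smul_left hf, smul_right hf, hEself, hskew x y]; ring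
  refine ⟨lt_of_le_of_ne inf_le_right ?_, ?_⟩
  · intro heq
    obtain ⟨x, hx⟩ : ∃ x : Fin n → F₀, x ≠ 0 := ⟨Pi.single ⟨0, by omega⟩ 1, by simp⟩
    obtain ⟨y, hyx, -, hy⟩ := hperp x 0
    have hy' : y ∉ F₀ ∙ x := fun h => hy (Submodule.span_mono (by simp) h)
    have hy0 : y ≠ 0 := fun h => hy' (h ▸ Submodule.zero_mem _)
    have hxy : f (E x) (E y) = 0 := by rw [hfh, f_eq_zero_symm hh hyx]; simp
    have hv : f (E x + θ • E y) (E x + θ • E y) = 0 := by rw [hiso, hxy, mul_zero]
    obtain ⟨γ, hγ⟩ := exists_of_mem_subfieldSubgroup F₀ P ((inf_eq_right.1 heq) (hU0 _ ζ hv hsk))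
    obtain ⟨w, hw, e⟩ := hγ _ (hEL x)
    rw [act_utv hf hv, add_right hf, smul_right hf, hEself, hxy, mul_zero, add_zero, mul_zero, zero_smul,
      add_zero] at e
    have hγ0 : γ ≠ 0 := fun h => hx (hEinj x (by rw [e, h, zero_smul]))
    have hγF : γ ∈ F₀ := by
      have := hscal x γ⁻¹ hx (by rw [e, inv_smul_smul₀ hγ0]; exact hw)
      simpa using F₀.inv_mem this
    obtain ⟨z, hzx, hzy⟩ := hdual y x (fun h => by
      obtain ⟨a, ha⟩ := Submodule.mem_span_singleton.1 h
      have ha0 : a ≠ 0 := by rintro rfl; exact hx (by rw [← ha, zero_smul])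
      exact hy' (Submodule.mem_span_singleton.2 ⟨a⁻¹, by rw [← ha, inv_smul_smul₀ ha0]⟩))
    obtain ⟨w', hw', e'⟩ := hγ _ (hEL z)
    rw [act_utv hf hv, add_right hf, smul_right hf, hskew x z, hskew y z, hfh, hfh, hzx, hzy] at e'
    simp only [Subfield.coe_one, Subfield.coe_zero, zero_div, neg_zero, mul_zero, add_zero] at e'
    rw [show ζ * -(1 / ζ) = -1 by field_simp] at e'
    have hmem : θ • E y ∈ ratVec F₀ P := by
      have hv' : θ • E y = (E z - E x) - γ • w' := by rw [← e']; module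
      rw [hv']
      exact (ratVec F₀ P).sub_mem ((ratVec F₀ P).sub_mem (hEL z) (hEL x)) (ratVec_smul hγF hw')
    exact hθ (hfix₁ θ (hscal y θ hy0 hmem))
  intro M hM1 hM2
  by_cases hsub : M ≤ Cfsg.Geo.subfieldSubgroup F₀ P
  · exact Or.inl (le_antisymm (le_inf hsub hM2) hM1)
  right
  obtain ⟨g, hgM, hg⟩ := SetLike.not_le_iff_exists.1 hsub
  have hgf : g ∈ uiso f := (hM2 hgM).1
  have hRE : ∀ l, RootIn hf M (E l) := fun l =>
    ⟨hEself l, fun c hc => hM1 ⟨hH l c hc, hU0 _ c (hEself l) hc⟩⟩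
  -- an irrational root centre
  obtain ⟨x₀, y₀, hxy₀, hy₀⟩ : ∃ x y, RootIn hf M (E x + θ • E y) ∧ y ∉ F₀ ∙ x ∧ x ≠ 0 := by
    by_contra hno; push Not at hno
    apply hg
    have hpts : ∀ u, ∃ (s : F) (w : Fin n → F₀), act g (E u) = s • E w := by
      intro u
      have hR := rootIn_conj hf hgM hgf (hRE u)
      obtain ⟨x, y, e⟩ := hEdec (act g (E u))
      rw [e] at hR ⊢
      by_cases hdep : y ∈ F₀ ∙ x
      · obtain ⟨a, rfl⟩ := Submodule.mem_span_singleton.1 hdep
        exact ⟨1 + θ * (a : F), x, by rw [hEsmul]; module⟩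
      · rcases eq_or_ne x 0 with rfl | hx
        · exact ⟨θ, y, by rw [hE0, zero_add]⟩
        · exact absurd (hno x y hR hdep) hx
    choose s w hsw using hpts
    have hne : ∀ u, u ≠ 0 → s u ≠ 0 ∧ w u ≠ 0 := by
      intro u hu
      have h1 : act g (E u) ≠ 0 := fun h => hu (hEinj u (act_injective g (h.trans (map_zero _).symm)))
      rw [hsw] at h1
      exact ⟨left_ne_zero_of_smul h1, fun h => h1 (by rw [h, hE0, smul_zero])⟩
    obtain ⟨u₀, hu₀⟩ : ∃ u : Fin n → F₀, u ≠ 0 := ⟨Pi.single ⟨0, by omega⟩ 1, by simp⟩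
    obtain ⟨hs1, hw1⟩ := hne u₀ hu₀
    refine mem_subfieldSubgroup F₀ P hs1 fun x hx => ?_
    obtain ⟨u, rfl⟩ := hLE x hx
    suffices h : ∃ e ∈ F₀, ∃ z, act g (E u) = (s u₀ * e) • E z by
      obtain ⟨e, he, z, h⟩ := h
      rw [h, smul_smul, ← mul_assoc, inv_mul_cancel₀ hs1, one_mul]
      exact ratVec_smul he (hEL z)
    by_cases hdep : u ∈ F₀ ∙ u₀
    · obtain ⟨a, rfl⟩ := Submodule.mem_span_singleton.1 hdep
      exact ⟨(a : F), a.2, w u₀, by rw [hEsmul, map_smul, hsw, smul_smul, mul_comm]⟩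
    have hu : u ≠ 0 := fun h => hdep (h ▸ Submodule.zero_mem _)
    have hind : w u ∉ F₀ ∙ w u₀ := by
      intro h
      obtain ⟨a, ha⟩ := Submodule.mem_span_singleton.1 h
      have e1 : E u = (s u * (a : F) / s u₀) • E u₀ := by
        apply act_injective g
        rw [map_smul, hsw, hsw, ← ha, hEsmul, smul_smul, smul_smul]
        congr 1; field_simp
      have hmem := hscal u₀ _ hu₀ (e1 ▸ hEL u)
      apply hdep
      refine Submodule.mem_span_singleton.2 ⟨⟨_, hmem⟩, ?_⟩
      have : E ((⟨_, hmem⟩ : F₀) • u₀ - u) = 0 := by rw [hEsub, hEsmul, ← e1, sub_self]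
      exact sub_eq_zero.1 (hEinj _ this)
    have hind' : w u₀ ∉ F₀ ∙ w u := by
      intro h
      obtain ⟨a, ha⟩ := Submodule.mem_span_singleton.1 h
      have ha0 : a ≠ 0 := by rintro rfl; exact hw1 (by rw [← ha, zero_smul])
      exact hind (Submodule.mem_span_singleton.2 ⟨a⁻¹, by rw [← ha, inv_smul_smul₀ ha0]⟩)
    obtain ⟨c, c1, c0⟩ := hdual (w u₀) (w u) hind
    obtain ⟨c', c1', c0'⟩ := hdual (w u) (w u₀) hind'
    have h3 := hsw (u + u₀)
    rw [hEadd, map_add, hsw, hsw] at h3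
    have k : ∀ d, s u * (h₀ (w u) d : F) + s u₀ * (h₀ (w u₀) d : F) = s (u + u₀) * (h₀ (w (u + u₀)) d : F) := by
      intro d
      have := congrArg (fun v => ζ * f v (E d)) h3
      simp only [add_left hf, smul_left hf] at this
      simp only [hh₀]; linear_combination this
    have k1 := k c
    have k2 := k c'
    rw [c1, c0] at k1
    rw [c1', c0'] at k2
    simp only [Subfield.coe_one, Subfield.coe_zero, mul_one, mul_zero, add_zero, zero_add] at k1 k2
    refine ⟨s u / s u₀, ?_, w u, by rw [mul_div_cancel₀ _ hs1, hsw]⟩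
    have h0 : s (u + u₀) ≠ 0 := fun h => hs1 (by rw [k2, h, zero_mul])
    rw [k1, k2, mul_div_mul_left _ _ h0]
    exact F₀.div_mem (h₀ _ c).2 (h₀ _ c').2
  obtain ⟨hy₀, hx₀⟩ := hy₀
  have horth : ∀ x y, f (E x + θ • E y) (E x + θ • E y) = 0 → h₀ x y = 0 := by
    intro x y h
    rw [hiso, mul_eq_zero] at h
    apply Subtype.ext
    rw [hh₀, h.resolve_left (sub_ne_zero.2 hθ), mul_zero, Subfield.coe_zero]
  let R : (Fin n → F₀) → (Fin n → F₀) → Prop := fun x y => RootIn hf M (E x + θ • E y)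
  have hmove : ∀ x y l (k : F₀), R x y → R (act (stv hh l k) x) (act (stv hh l k) y) := by
    intro x y l k hR
    have hc : (k : F) * ζ + τ ((k : F) * ζ) = 0 := by rw [map_mul, hfix₁ _ k.2]; linear_combination (k : F) * hsk
    have := rootIn_conj hf ((hRE l).2 _ hc) (utv_mem hf (hEself l) hc) hR
    have e : ∀ z, act (utv hf (E l) ((k : F) * ζ)) (E z) = E (act (stv hh l k) z) := by
      intro z
      rw [act_utv hf (hEself l), act_stv hh, hEadd, hEsmul]
      simp [hh₀, mul_assoc]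
    rwa [map_add, map_smul, e, e] at this
  have hfixed : ∀ x l k, h₀ x l = 0 → act (stv hh l k) x = x := fun x l k h => by
    rw [act_stv hh, h, mul_zero, zero_smul, add_zero]
  have hmv : ∀ y y', h₀ y y' ≠ 0 → act (stv hh (y' - y) (1 / h₀ y y')) y = y' := fun y y' h => by
    rw [act_stv hh, f_sub_right hh, f_self hh, sub_zero, one_div_mul_cancel h, one_smul, add_sub_cancel]
  have hinter : ∀ x a b : Fin n → F₀, x ≠ 0 → a ∉ F₀ ∙ x → b ∉ F₀ ∙ x →
      ∃ z, h₀ x z = 0 ∧ h₀ a z ≠ 0 ∧ h₀ z b ≠ 0 := by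
    intro x a b _ ha hb
    obtain ⟨z₁, a1, x1⟩ := hdual x a ha
    obtain ⟨z₂, b2, x2⟩ := hdual x b hb
    by_cases h1 : h₀ b z₁ = 0
    · by_cases h2 : h₀ a z₂ = 0
      · refine ⟨z₁ + z₂, by rw [f_add_right hh, x1, x2, add_zero], ?_, ?_⟩
        · rw [f_add_right hh, a1, h2, add_zero]; exact one_ne_zero
        · apply f_ne_symm hh; rw [f_add_right hh, h1, b2, zero_add]; exact one_ne_zero
      · exact ⟨z₂, x2, h2, f_ne_symm hh (by rw [b2]; exact one_ne_zero)⟩
    · exact ⟨z₁, x1, by rw [a1]; exact one_ne_zero, f_ne_symm hh h1⟩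
  have hsnd : ∀ x y y', x ≠ 0 → R x y → y ∉ F₀ ∙ x → y' ∉ F₀ ∙ x → h₀ x y' = 0 → R x y' := by
    intro x y y' hx hR hy hy' hxy'
    have hxy := horth x y hR.1
    obtain ⟨z, hxz, hyz, hzy'⟩ := hinter x y y' hx hy hy'
    have step : ∀ a b, R x a → h₀ x a = 0 → h₀ x b = 0 → h₀ a b ≠ 0 → R x b := by
      intro a b hRa ha hb hab
      have := hmove x a (b - a) (1 / h₀ a b) hRa
      rwa [hfixed x _ _ (by rw [f_sub_right hh, hb, ha, sub_zero]), hmv a b hab] at this
    exact step z y' (step y z hR hxy hxz hyz) hxz hxy' hzy'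
  have hfst : ∀ x x' y, y ≠ 0 → R x y → x ∉ F₀ ∙ y → x' ∉ F₀ ∙ y → h₀ y x' = 0 → R x' y := by
    intro x x' y hy hR hx hx' hyx'
    have hyx := f_eq_zero_symm hh (horth x y hR.1)
    obtain ⟨z, hyz, hxz, hzx'⟩ := hinter y x x' hy hx hx'
    have step : ∀ a b, R a y → h₀ y a = 0 → h₀ y b = 0 → h₀ a b ≠ 0 → R b y := by
      intro a b hRa ha hb hab
      have := hmove a y (b - a) (1 / h₀ a b) hRa
      rwa [hfixed y _ _ (by rw [f_sub_right hh, hb, ha, sub_zero]), hmv a b hab] at this
    exact step z x' (step x z hR hyx hyz hxz) hyz hyx' hzx'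
  have hflip : ∀ {a b : Fin n → F₀}, a ≠ 0 → b ∉ F₀ ∙ a → a ∉ F₀ ∙ b := by
    intro a b ha hb h
    obtain ⟨k, hk⟩ := Submodule.mem_span_singleton.1 h
    have hk0 : k ≠ 0 := by rintro rfl; exact ha (by rw [← hk, zero_smul])
    exact hb (Submodule.mem_span_singleton.2 ⟨k⁻¹, by rw [← hk, inv_smul_smul₀ hk0]⟩)
  refine le_antisymm hM2 (su_le_of_utv hf hn6 M fun v c hv hc => ?_)
  suffices h : RootIn hf M v from h.2 c hc
  obtain ⟨x, y, rfl⟩ := hEdec v
  by_cases hdep : y ∈ F₀ ∙ x
  · obtain ⟨a, rfl⟩ := Submodule.mem_span_singleton.1 hdep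
    have := rootIn_smul hf (hRE x) (1 + θ * (a : F))
    rwa [show E x + θ • E (a • x) = (1 + θ * (a : F)) • E x by rw [hEsmul]; module]
  rcases eq_or_ne x 0 with rfl | hx
  · rw [hE0, zero_add]; exact rootIn_smul hf (hRE y) θ
  obtain ⟨z, hz0, hzx, hz⟩ := hperp x₀ x
  have hz₁ : z ∉ F₀ ∙ x₀ := fun h => hz (Submodule.span_mono (by simp) h)
  have hz₂ : z ∉ F₀ ∙ x := fun h => hz (Submodule.span_mono (by simp) h)
  have hzne : z ≠ 0 := fun h => hz₁ (h ▸ Submodule.zero_mem _)
  exact hsnd x z y hx (hfst x₀ x z hzne (hsnd x₀ y₀ z hx₀ hxy₀ hy₀ hz₁ (f_eq_zero_symm hh hz0))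
    (hflip hx₀ hz₁) (hflip hx hz₂) hzx) hz₂ hdep (horth x y hv)

end Cfsg.Agent.MaxCl.UList
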