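/-
Maximality of decomposition, subfield and tensor product stabilisers in SU_n(q) for `n ≥ 10`.
-/
import Cfsg.Agent.Lib.MaxCl.UnitaryListStab
import Cfsg.Agent.Lib.MaxCl.UnitaryDecompMax
import Cfsg.Agent.Lib.MaxCl.UnitarySubfield
import Cfsg.Agent.Lib.MaxCl.UnitaryOrthSubfield
import Cfsg.Agent.Lib.MaxCl.UnitaryGen
import Cfsg.Agent.Lib.MaxCl.UnitaryTensorSpread
import Cfsg.Agent.Lib.Forms.TensorWreath

set_option autoImplicit false

namespace Cfsg.Agent.MaxCl.UList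

open Cfsg

open Cfsg.Agent.MaxCl Cfsg.Agent.MaxCl.Unit in
/-- The case of `n ≥ 10` of the statement of S5655. -/
theorem decomposition_maximal {F : Type*} [Field F] [Fintype F] (n q : ℕ) (hF : Fintype.card F = q ^ 2) (hn : 10 ≤ n) {t : ℕ} (k : ℕ) (D : Fin t → Submodule F (Fin n → F)) (hD : Cfsg.Geo.IsNondegenerateMDecomposition (Cfsg.hermForm n F q) k D) (hex : ¬ (k = 2 ∧ q = 2)) : Cfsg.Geo.IsMaximalIn (Cfsg.GU n F q ⊓ Cfsg.Geo.specialLinear (Fin n) F) (Cfsg.Geo.decompositionStabilizer D ⊓ (Cfsg.GU n F q ⊓ Cfsg.Geo.specialLinear (Fin n) F)) := by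
  obtain ⟨τ, hτ, hf⟩ := hermForm_isUnitary n q hF
  have hfe : Cfsg.hermForm n F q = herm (ι := Fin n) τ := by
    funext x y
    simp only [Cfsg.hermForm, herm, hτ]
  rw [hfe] at hf hD
  have hGU : Cfsg.GU n F q = uiso (herm (ι := Fin n) τ) := by
    rw [← hfe]; rfl
  rw [hGU]
  exact unitary_decomposition_maximal ⟨hF, hτ⟩ (by omega) hf hD hex fun _ h => absurd h (by omega)

/-- The case of `n ≥ 10` of the statement of S5658. -/
theorem subfield_maximal {F : Type*} [Field F] [Fintype F] (n q : ℕ) (hF : Fintype.card F = q ^ 2) (hn : 6 ≤ n) (F₀ : Subfield F) (r : ℕ) (hr : r.Prime) (hro : Odd r) (hcard : Fintype.card F = Nat.card F₀ ^ r) (P : Matrix.GeneralLinearGroup (Fin n) F) (hP : Cfsg.Geo.IsFormRationalStructure (Cfsg.hermForm n F q) F₀ 1 P) : Cfsg.Geo.IsMaximalIn (Cfsg.GU n F q ⊓ Cfsg.Geo.specialLinear (Fin n) F) (Cfsg.Geo.subfieldSubgroup F₀ P ⊓ (Cfsg.GU n F q ⊓ Cfsg.Geo.specialLinear (Fin n) F)) := by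
  classical
  obtain ⟨τ, hτ, hf⟩ := Cfsg.Agent.MaxCl.Unit.hermForm_isUnitary n q hF
  change Cfsg.Geo.IsMaximalIn (Cfsg.Agent.MaxCl.Unit.uiso (Cfsg.hermForm n F q) ⊓ _)
    (_ ⊓ (Cfsg.Agent.MaxCl.Unit.uiso (Cfsg.hermForm n F q) ⊓ _))
  refine Cfsg.Agent.MaxCl.USub.subfield_maximal hf (by rw [Fintype.card_fin]; omega) F₀ P ?_ ?_ ?_ hr hro
    (by rw [Nat.card_eq_fintype_card, hcard])
  · rintro _ ⟨u, hu, rfl⟩ _ ⟨v, hv, rfl⟩
    have := hP u v hu hv
    rwa [one_mul, ← Cfsg.Agent.MaxCl.act_apply, ← Cfsg.Agent.MaxCl.act_apply] at this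
  · intro a ha
    rw [hτ]
    exact pow_mem ha q
  · by_contra hno
    push Not at hno
    haveI : Fintype F₀ := Fintype.ofFinite _
    obtain ⟨p, hp⟩ := CharP.exists F
    haveI : CharP F₀ p := (RingHom.charP_iff (F₀.subtype) Subtype.val_injective p).2 hp
    obtain ⟨a, hpp, ha⟩ := FiniteField.card F₀ p
    obtain ⟨k, -, hk⟩ := FiniteField.card F p
    -- every element of `F₀` is fixed, so its order is at most `q`
    have hq2 : 2 ≤ q := by
      rcases Nat.lt_or_ge q 2 with h | h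
      · have := Fintype.one_lt_card (α := F)
        rw [hF] at this
        interval_cases q <;> simp at this
      · exact h
    have hfix : ∀ x : F₀, x ^ q = x := fun x => Subtype.ext (by
      rw [SubmonoidClass.coe_pow, ← hτ]; exact hno _ x.2)
    obtain ⟨g, hg⟩ := IsCyclic.exists_generator (α := F₀ˣ)
    have hg1 : g ^ (q - 1) = 1 := by
      have : g ^ q = g := Units.ext (hfix g)
      rw [← mul_left_inj g, ← pow_succ, Nat.sub_add_cancel (by omega), this, one_mul]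
    have hdvd := orderOf_dvd_of_pow_eq_one hg1
    rw [orderOf_eq_card_of_forall_mem_zpowers hg, Nat.card_units, Nat.card_eq_fintype_card, ha] at hdvd
    have hpa : (p : ℕ) ^ (k : ℕ) = p ^ ((a : ℕ) * r) := by
      rw [← hk, hcard, Nat.card_eq_fintype_card, ha, pow_mul]
    have hka := Nat.pow_right_injective hpp.two_le hpa
    obtain ⟨j, -, hj⟩ := (Nat.dvd_prime_pow hpp).1 (hk ▸ hF ▸ dvd_pow_self q two_ne_zero)
    have hkj : (k : ℕ) = j * 2 := Nat.pow_right_injective hpp.two_le (show (p : ℕ) ^ (k : ℕ) = p ^ (j * 2) by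
      rw [← hk, hF, hj, pow_mul])
    rw [hj] at hdvd
    have haj : (a : ℕ) ∣ j := by
      have h1 := Nat.pow_sub_one_gcd_pow_sub_one p (a : ℕ) j
      rw [Nat.gcd_eq_left hdvd] at h1
      have h2 : p ^ (a : ℕ) = p ^ Nat.gcd a j := by
        have := Nat.one_le_pow (a : ℕ) p hpp.pos
        have := Nat.one_le_pow (Nat.gcd (a : ℕ) j) p hpp.pos
        omega
      rw [Nat.pow_right_injective hpp.two_le h2]
      exact Nat.gcd_dvd_right _ _
    obtain ⟨m, hm⟩ := haj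
    have hr2 : r = m * 2 := Nat.eq_of_mul_eq_mul_left a.pos (by rw [← hka, hkj, hm]; ring)
    exact (Nat.not_even_iff_odd.2 hro) ⟨m, by omega⟩

/-- The case of `n ≥ 10` of the statement of S5659. -/
theorem orthSubfield_maximal {F : Type*} [Field F] [Fintype F] (n q : ℕ) (hF : Fintype.card F = q ^ 2) (hn : 6 ≤ n) (hodd : Odd q) (F₀ : Subfield F) (hcard : Fintype.card F = Nat.card F₀ ^ 2) (P : Matrix.GeneralLinearGroup (Fin n) F) (hP : Cfsg.Geo.IsFormRationalStructure (Cfsg.hermForm n F q) F₀ 1 P) : Cfsg.Geo.IsMaximalIn (Cfsg.GU n F q ⊓ Cfsg.Geo.specialLinear (Fin n) F) (Cfsg.Geo.subfieldSubgroup F₀ P ⊓ (Cfsg.GU n F q ⊓ Cfsg.Geo.specialLinear (Fin n) F)) := by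
  classical
  obtain ⟨τ, hτ, hf⟩ := Cfsg.Agent.MaxCl.Unit.hermForm_isUnitary n q hF
  change Cfsg.Geo.IsMaximalIn (Cfsg.Agent.MaxCl.Unit.uiso (Cfsg.hermForm n F q) ⊓ _)
    (_ ⊓ (Cfsg.Agent.MaxCl.Unit.uiso (Cfsg.hermForm n F q) ⊓ _))
  haveI : Fintype F₀ := Fintype.ofFinite _
  have hq : Fintype.card F₀ = q := by
    rw [hF, Nat.card_eq_fintype_card (α := F₀)] at hcard
    exact ((pow_left_inj₀ (Nat.zero_le _) (Nat.zero_le _) (two_ne_zero)).1 hcard).symm
  have hq1 : 1 < q := hq ▸ Fintype.one_lt_card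
  have hfix : ∀ a : F, a ∈ F₀ ↔ τ a = a := by
    intro a
    constructor
    · intro ha
      rw [hτ, ← hq]
      exact congrArg Subtype.val (FiniteField.pow_card (⟨a, ha⟩ : F₀))
    · intro ha
      let p : Polynomial F := Polynomial.X ^ q - Polynomial.X
      have hne : p ≠ 0 := FiniteField.X_pow_card_sub_X_ne_zero F hq1
      have hroot : ∀ x : F, τ x = x → x ∈ p.roots.toFinset := by
        intro x hx
        rw [Multiset.mem_toFinset, Polynomial.mem_roots hne]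
        simp [p, ← hτ, hx]
      have hsub : (Finset.univ.image fun x : F₀ => (x : F)) = p.roots.toFinset := by
        refine Finset.eq_of_subset_of_card_le (fun x hx => ?_) ?_
        · obtain ⟨y, -, rfl⟩ := Finset.mem_image.1 hx
          apply hroot
          rw [hτ, ← hq]
          exact congrArg Subtype.val (FiniteField.pow_card y)
        · rw [Finset.card_image_of_injective _ Subtype.val_injective, Finset.card_univ, hq]
          refine ((Multiset.toFinset_card_le _).trans (Polynomial.card_roots' p)).trans ?_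
          simp only [p]; rw [FiniteField.X_pow_card_sub_X_natDegree_eq F hq1]
      have := hroot a ha
      rw [← hsub] at this
      obtain ⟨y, -, rfl⟩ := Finset.mem_image.1 this
      exact y.2
  refine Cfsg.Agent.MaxCl.UOrth.orth_maximal hf (by rw [Fintype.card_fin]; omega) F₀ P ?_ hfix ?_
  · rintro _ ⟨u, hu, rfl⟩ _ ⟨v, hv, rfl⟩
    have := hP u v hu hv
    rwa [one_mul, ← Cfsg.Agent.MaxCl.act_apply, ← Cfsg.Agent.MaxCl.act_apply] at this
  · refine Ring.two_ne_zero fun hc => ?_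
    have h0 := FiniteField.even_card_iff_char_two.1 hc
    obtain ⟨k, hk⟩ := hodd
    rw [hF, hk, pow_two] at h0
    simp [Nat.add_mod, Nat.mul_mod] at h0

/-- The case of `n ≥ 10` of the statement of S5670. -/
theorem tensor_maximal {F : Type*} [Field F] [Fintype F] (n q : ℕ) (hF : Fintype.card F = q ^ 2) (hn : 10 ≤ n) (n₁ n₂ : ℕ) (h1 : 2 ≤ n₁) (h12 : n₁ < n₂) (hn₂5 : 5 ≤ n₂ ∨ (n₁ = 3 ∧ n₂ = 4)) (hex : ¬ (n₁ = 2 ∧ q = 2)) (e : Fin n ≃ Fin n₁ × Fin n₂) (P : Matrix.GeneralLinearGroup (Fin n) F) (f₁ : (Fin n₁ → F) → (Fin n₁ → F) → F) (f₂ : (Fin n₂ → F) → (Fin n₂ → F) → F) (hf₁ : Cfsg.Geo.IsUnitaryFormPow q f₁) (hf₂ : Cfsg.Geo.IsUnitaryFormPow q f₂) (hT : Cfsg.Geo.IsTensorFormStructure (fun x : F => x ^ q) (Cfsg.hermForm n F q) f₁ f₂ e P) : Cfsg.Geo.IsMaximalIn (Cfsg.GU n F q ⊓ Cfsg.Geo.specialLinear (Fin n) F) (Cfsg.Geo.tensorProductSubgroup n₁ n₂ e P ⊓ (Cfsg.GU n F q ⊓ Cfsg.Geo.specialLinear (Fin n) F)) := by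
  classical
  obtain ⟨τ, hτ, hU⟩ := Cfsg.Agent.MaxCl.Unit.hermForm_isUnitary (F := F) n q hF
  have mk : ∀ {m : ℕ} {h : (Fin m → F) → (Fin m → F) → F}, Cfsg.Geo.IsUnitaryFormPow q h →
      Cfsg.Geo.IsUnitaryForm τ h := fun {m h} hh =>
    ⟨hU.ne_refl, hU.involutive, hh.add_left, hh.smul_left, fun v w => by rw [hτ]; exact hh.herm v w,
      hh.nondegenerate⟩
  obtain ⟨c, hc, hform⟩ := hT
  let T : Cfsg.Agent.MaxCl.Tens.TSys (Fin n) F n₁ n₂ := ⟨e, P⟩
  have hn12 : n = n₁ * n₂ := by simpa using Fintype.card_congr e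
  have hpt : ∀ u v u' v', Cfsg.hermForm n F q (Cfsg.Agent.MaxCl.Tens.pt T u v)
      (Cfsg.Agent.MaxCl.Tens.pt T u' v') = c * (f₁ u u' * f₂ v v') := by
    intro u v u' v'
    have hσ : (fun x : F => x ^ q) = ⇑(τ : F →+* F) := funext fun x => (hτ x).symm
    have h := hform (fun p => u p.1 * v p.2) (fun p => u' p.1 * v' p.2)
    rw [hσ] at h
    refine h.trans ?_
    congr 1
    have hk := Cfsg.Agent.Forms.formOfGram_kronecker (k := 1) (τ : F →+* F) (Cfsg.Geo.gramMatrix f₁)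
      (Cfsg.Geo.gramMatrix f₂) (fun _ => u) (fun _ => u') (fun _ => v) (fun _ => v')
    simp only [Fin.sum_univ_one] at hk
    rw [hk, Cfsg.Agent.Forms.formOfGram_gramMatrix (τ : F →+* F) f₁ hf₁.add_left hf₁.smul_left
        (fun x y => (mk hf₁).herm y x),
      Cfsg.Agent.Forms.formOfGram_gramMatrix (τ : F →+* F) f₂ hf₂.add_left hf₂.smul_left
        (fun x y => (mk hf₂).herm y x)]
  have hex' : ¬ (n₁ = 2 ∧ ∀ x : F, τ x = x → x = 0 ∨ x = 1) := by
    rintro ⟨h2, hfix⟩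
    refine hex ⟨h2, ?_⟩
    have hcube : ∀ x : F, x ≠ 0 → x * τ x = 1 := fun x hx =>
      (hfix _ (by rw [map_mul, hU.involutive, mul_comm])).resolve_left (mul_ne_zero hx ((map_ne_zero τ).2 hx))
    have hq2 : 2 ≤ q := by
      have := Fintype.one_lt_card (α := F)
      rw [hF] at this
      by_contra h
      push Not at h
      interval_cases q <;> simp at this
    set p : Polynomial F := Polynomial.X ^ (q + 1) - 1 with hp
    have hp0 : p ≠ 0 := by
      rw [hp]
      intro h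
      have := congrArg (Polynomial.eval 0) h
      simp at this
    have hroots : Finset.univ.erase 0 ⊆ p.roots.toFinset := fun x hx => by
      rw [Multiset.mem_toFinset, Polynomial.mem_roots hp0]
      simp only [hp, Polynomial.IsRoot, Polynomial.eval_sub, Polynomial.eval_pow, Polynomial.eval_X, Polynomial.eval_mul,
        Polynomial.eval_one, pow_succ']
      rw [← hτ, hcube x (Finset.ne_of_mem_erase hx), sub_self]
    have h1 := (Finset.card_le_card hroots).trans ((Multiset.toFinset_card_le _).trans (Polynomial.card_roots' p))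
    have h2' : p.natDegree ≤ q + 1 := by
      rw [hp]
      exact (Polynomial.natDegree_sub_le _ _).trans (by simp)
    rw [Finset.card_erase_of_mem (Finset.mem_univ _), Finset.card_univ, hF] at h1
    have h4 : q ^ 2 ≤ q + 2 := by omega
    nlinarith
  have mkC : ∀ M : Subgroup (Matrix.GeneralLinearGroup (Fin n) F),
      M ≤ Cfsg.GU n F q ⊓ Cfsg.Geo.specialLinear (Fin n) F →
      Cfsg.Geo.tensorProductSubgroup n₁ n₂ e P ⊓ (Cfsg.GU n F q ⊓ Cfsg.Geo.specialLinear (Fin n) F) ≤ M →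
      Cfsg.Agent.MaxCl.Tens.UCtx T τ (Cfsg.hermForm n F q) f₁ f₂ c M := fun M hle hge =>
    { hU := hU, h₁ := mk hf₁, h₂ := mk hf₂, c_ne := hc, form := hpt, two_le := h1, lt := h12,
      three := by omega, big := by rw [Fintype.card_fin]; omega, le := hle,
      ge := fun a b hab => hge ⟨Cfsg.Agent.MaxCl.Tens.gl_mem T a b, hab⟩ }
  have C₀ := mkC (Cfsg.GU n F q ⊓ Cfsg.Geo.specialLinear (Fin n) F) le_rfl inf_le_right
  refine ⟨lt_of_le_not_ge inf_le_right fun h => Cfsg.Agent.MaxCl.Tens.not_le_tensor C₀ (h.trans inf_le_left),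
    fun M hge hle => ?_⟩
  rcases Cfsg.Agent.MaxCl.Tens.eq_or_le_tensor (mkC M hle hge) hn₂5 hex' with h | h
  · exact Or.inr h
  · exact Or.inl (le_antisymm (le_inf h hle) hge)

end Cfsg.Agent.MaxCl.UList
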